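import Mathlib

/-!
# Shared matrix-algebra lemmas for project ASG (pre-landed; Mathlib only)

* `asgalg_hom_kronecker` (ALG1): a unital algebra homomorphism `φ : M_d(F) → M_n(F)` (`d > 0`) is conjugate to
  `A ↦ A ⊗ₖ 1`: `φ A = P * reindex e.symm e.symm (A ⊗ₖ 1) * P⁻¹`.
* `asgalg_aut_inner` (ALG2, Skolem–Noether for `M_d(F)`): every unital algebra endomorphism of `M_d(F)` is inner.
* `asgalg_centralizer_kronecker` (ALG3): a matrix commuting with all `A ⊗ₖ 1` is `1 ⊗ₖ C`.
Tools: `asgalgE φ i j = φ (E_ij)` (matrix units), `asgalgU φ = e₀₀ V`, `asgalgB φ (i, l) = e_{i0} w_l`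
(`asgalgB_li`, `asgalgB_span`, `asgalg_card : n = d * dim U`, `asgalg_phi_mulVec_B`).
-/

set_option autoImplicit false
set_option linter.unusedVariables false
set_option linter.unusedSectionVars false
set_option linter.style.haveILetI false

namespace Cfsg.Agent.Lib.Helper20.ASGALG

open scoped Matrix Kronecker MatrixGroups

variable {F : Type*} [Field F] {d n : ℕ}

/-- images of the matrix units -/
def asgalgE (φ : Matrix (Fin d) (Fin d) F →ₐ[F] Matrix (Fin n) (Fin n) F) (i j : Fin d) :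
    Matrix (Fin n) (Fin n) F := φ (Matrix.single i j 1)

theorem asgalgE_mul_same (φ : Matrix (Fin d) (Fin d) F →ₐ[F] Matrix (Fin n) (Fin n) F)
    (i j k : Fin d) : asgalgE φ i j * asgalgE φ j k = asgalgE φ i k := by
  unfold asgalgE
  rw [← map_mul, Matrix.single_mul_single_same, mul_one]

theorem asgalgE_mul_ne (φ : Matrix (Fin d) (Fin d) F →ₐ[F] Matrix (Fin n) (Fin n) F)
    (i j k l : Fin d) (h : j ≠ k) : asgalgE φ i j * asgalgE φ k l = 0 := by
  unfold asgalgE
  rw [← map_mul, Matrix.single_mul_single_of_ne _ _ _ _ h, map_zero]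

theorem asgalgE_sum (φ : Matrix (Fin d) (Fin d) F →ₐ[F] Matrix (Fin n) (Fin n) F) :
    ∑ i, asgalgE φ i i = 1 := by
  unfold asgalgE
  rw [← map_sum, Matrix.sum_single_one, map_one]

theorem asgalg_phi_eq_sum (φ : Matrix (Fin d) (Fin d) F →ₐ[F] Matrix (Fin n) (Fin n) F)
    (A : Matrix (Fin d) (Fin d) F) : φ A = ∑ i, ∑ j, A i j • asgalgE φ i j := by
  conv_lhs => rw [Matrix.matrix_eq_sum_single A]
  rw [map_sum]
  refine Finset.sum_congr rfl fun i _ => ?_
  rw [map_sum]
  refine Finset.sum_congr rfl fun j _ => ?_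
  unfold asgalgE
  rw [← map_smul, Matrix.smul_single, smul_eq_mul, mul_one]

section main

variable [NeZero d] (φ : Matrix (Fin d) (Fin d) F →ₐ[F] Matrix (Fin n) (Fin n) F)

/-- the space `e₀₀ V` -/
def asgalgU : Submodule F (Fin n → F) := LinearMap.range (Matrix.mulVecLin (asgalgE φ 0 0))

theorem asgalgU_fix (u : Fin n → F) (hu : u ∈ asgalgU φ) : asgalgE φ 0 0 *ᵥ u = u := by
  obtain ⟨x, rfl⟩ := hu
  rw [Matrix.mulVecLin_apply, Matrix.mulVec_mulVec, asgalgE_mul_same]

theorem asgalgE0_mem (i : Fin d) (v : Fin n → F) : asgalgE φ 0 i *ᵥ v ∈ asgalgU φ := by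
  refine ⟨asgalgE φ 0 i *ᵥ v, ?_⟩
  rw [Matrix.mulVecLin_apply, Matrix.mulVec_mulVec, asgalgE_mul_same]

/-- the adapted family `e_{i0} w_l` -/
noncomputable def asgalgB (p : Fin d × Fin (Module.finrank F (asgalgU φ))) : Fin n → F :=
  asgalgE φ p.1 0 *ᵥ ((Module.finBasis F (asgalgU φ) p.2 : asgalgU φ) : Fin n → F)

theorem asgalgE_mulVec_B (i j : Fin d) (p : Fin d × Fin (Module.finrank F (asgalgU φ))) :
    asgalgE φ i j *ᵥ asgalgB φ p = if j = p.1 then asgalgB φ (i, p.2) else 0 := by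
  unfold asgalgB
  rw [Matrix.mulVec_mulVec]
  by_cases h : j = p.1
  · subst h
    rw [if_pos rfl, asgalgE_mul_same]
  · rw [if_neg h, asgalgE_mul_ne _ _ _ _ _ h, Matrix.zero_mulVec]

theorem asgalgB_li : LinearIndependent F (asgalgB φ) := by
  classical
  rw [Fintype.linearIndependent_iff]
  intro g hg p
  obtain ⟨j, l⟩ := p
  -- apply `e_{0j}`
  have h1 := congrArg (fun v => asgalgE φ 0 j *ᵥ v) hg
  simp only [Matrix.mulVec_zero] at h1
  rw [Matrix.mulVec_sum] at h1
  simp only [Matrix.mulVec_smul, asgalgE_mulVec_B] at h1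
  rw [Fintype.sum_prod_type] at h1
  rw [Finset.sum_eq_single j] at h1
  · simp only [if_true] at h1
    -- now a relation among the basis vectors of `U`
    have h2 : ∑ l', g (j, l') • (Module.finBasis F (asgalgU φ) l') = 0 := by
      apply Subtype.ext
      rw [Submodule.coe_sum, Submodule.coe_zero, ← h1]
      refine Finset.sum_congr rfl fun l' _ => ?_
      rw [Submodule.coe_smul]
      congr 1
      unfold asgalgB
      exact (asgalgU_fix φ _ (Module.finBasis F (asgalgU φ) l').2).symm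
    exact (Fintype.linearIndependent_iff.mp (Module.finBasis F (asgalgU φ)).linearIndependent
      (fun l' => g (j, l')) h2) l
  · intro a _ ha
    apply Finset.sum_eq_zero
    intro l' _
    rw [if_neg (Ne.symm ha), smul_zero]
  · intro h; exact absurd (Finset.mem_univ j) h

theorem asgalgB_span : ⊤ ≤ Submodule.span F (Set.range (asgalgB φ)) := by
  classical
  intro v _
  have hv : v = ∑ i, asgalgE φ i 0 *ᵥ (asgalgE φ 0 i *ᵥ v) := by
    conv_lhs => rw [← Matrix.one_mulVec v, ← asgalgE_sum φ, Matrix.sum_mulVec]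
    refine Finset.sum_congr rfl fun i _ => ?_
    rw [Matrix.mulVec_mulVec, asgalgE_mul_same]
  rw [hv]
  refine Submodule.sum_mem _ fun i _ => ?_
  -- `e_{0i} v ∈ U` is a combination of the `w_l`
  have hu := asgalgE0_mem φ i v
  have hrepr := (Module.finBasis F (asgalgU φ)).sum_repr ⟨_, hu⟩
  have h2 : asgalgE φ 0 i *ᵥ v = ∑ l, ((Module.finBasis F (asgalgU φ)).repr ⟨_, hu⟩ l) •
      ((Module.finBasis F (asgalgU φ) l : asgalgU φ) : Fin n → F) := by
    have := congrArg (fun x : asgalgU φ => (x : Fin n → F)) hrepr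
    simp only [Submodule.coe_sum, Submodule.coe_smul] at this
    exact this.symm
  rw [h2, Matrix.mulVec_sum]
  refine Submodule.sum_mem _ fun l _ => ?_
  rw [Matrix.mulVec_smul]
  refine Submodule.smul_mem _ _ (Submodule.subset_span ⟨(i, l), rfl⟩)

end main

section main2

variable [NeZero d] (φ : Matrix (Fin d) (Fin d) F →ₐ[F] Matrix (Fin n) (Fin n) F)

theorem asgalg_card : n = d * Module.finrank F (asgalgU φ) := by
  have B : Module.Basis (Fin d × Fin (Module.finrank F (asgalgU φ))) F (Fin n → F) :=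
    Module.Basis.mk (asgalgB_li φ) (asgalgB_span φ)
  have h1 := Module.finrank_eq_card_basis B
  rw [Module.finrank_fin_fun, Fintype.card_prod, Fintype.card_fin, Fintype.card_fin] at h1
  exact h1

/-- action of `φ A` on the adapted family -/
theorem asgalg_phi_mulVec_B (A : Matrix (Fin d) (Fin d) F)
    (p : Fin d × Fin (Module.finrank F (asgalgU φ))) :
    φ A *ᵥ asgalgB φ p = ∑ i, A i p.1 • asgalgB φ (i, p.2) := by
  classical
  rw [asgalg_phi_eq_sum, Matrix.sum_mulVec]
  refine Finset.sum_congr rfl fun i _ => ?_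
  rw [Matrix.sum_mulVec, Finset.sum_eq_single p.1]
  · rw [Matrix.smul_mulVec, asgalgE_mulVec_B, if_pos rfl]
  · intro j _ hj
    rw [Matrix.smul_mulVec, asgalgE_mulVec_B, if_neg hj, smul_zero]
  · intro h; exact absurd (Finset.mem_univ _) h

/-- **ALG1**: a unital algebra homomorphism `M_d(F) → M_n(F)` is conjugate to `A ↦ A ⊗ 1`. -/
theorem asgalg_hom_kronecker :
    ∃ (k : ℕ) (e : Fin n ≃ Fin d × Fin k) (P : GL (Fin n) F), ∀ A : Matrix (Fin d) (Fin d) F,
      φ A = (P : Matrix (Fin n) (Fin n) F) *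
        Matrix.reindex e.symm e.symm (A ⊗ₖ (1 : Matrix (Fin k) (Fin k) F)) *
        ((P⁻¹ : GL (Fin n) F) : Matrix (Fin n) (Fin n) F) := by
  classical
  obtain ⟨k, hk⟩ : ∃ k, k = Module.finrank F (asgalgU φ) := ⟨_, rfl⟩
  have hcard : Fintype.card (Fin n) = Fintype.card (Fin d × Fin (Module.finrank F (asgalgU φ))) := by
    rw [Fintype.card_prod, Fintype.card_fin, Fintype.card_fin, Fintype.card_fin]
    exact asgalg_card φ
  obtain ⟨e⟩ : Nonempty (Fin n ≃ Fin d × Fin (Module.finrank F (asgalgU φ))) :=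
    Fintype.card_eq.mp hcard
  -- the matrix with columns `b (e c)`
  obtain ⟨Pm, hPm⟩ : ∃ Pm : Matrix (Fin n) (Fin n) F, ∀ r c, Pm r c = asgalgB φ (e c) r :=
    ⟨Matrix.of fun r c => asgalgB φ (e c) r, fun r c => rfl⟩
  have hPu : IsUnit Pm := by
    rw [← Matrix.linearIndependent_cols_iff_isUnit]
    have h3 : Pm.col = fun c => asgalgB φ (e c) := by
      funext c r
      exact hPm r c
    rw [h3]
    exact (asgalgB_li φ).comp e e.injective
  obtain ⟨P, hP⟩ := hPu
  refine ⟨Module.finrank F (asgalgU φ), e, P, ?_⟩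
  intro A
  -- the intertwining relation
  have hrel : φ A * Pm = Pm * Matrix.reindex e.symm e.symm
      (A ⊗ₖ (1 : Matrix (Fin (Module.finrank F (asgalgU φ))) (Fin (Module.finrank F (asgalgU φ))) F)) := by
    ext r c
    have hl : (φ A * Pm) r c = (φ A *ᵥ asgalgB φ (e c)) r := by
      simp only [Matrix.mul_apply, Matrix.mulVec, dotProduct, hPm]
    rw [hl, asgalg_phi_mulVec_B, Matrix.mul_apply]
    have hsum : ∑ c', Pm r c' * Matrix.reindex e.symm e.symm
        (A ⊗ₖ (1 : Matrix (Fin (Module.finrank F (asgalgU φ))) (Fin (Module.finrank F (asgalgU φ))) F)) c' c =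
        ∑ p : Fin d × Fin (Module.finrank F (asgalgU φ)), asgalgB φ p r *
          (A p.1 (e c).1 * (if p.2 = (e c).2 then 1 else 0)) := by
      refine Fintype.sum_equiv e _ _ ?_
      intro c'
      rw [hPm, Matrix.reindex_apply, Equiv.symm_symm, Matrix.submatrix_apply,
        Matrix.kroneckerMap_apply, Matrix.one_apply]
    rw [hsum, Fintype.sum_prod_type]
    simp only [Finset.sum_apply, Pi.smul_apply, smul_eq_mul]
    refine Finset.sum_congr rfl fun i _ => ?_
    rw [Finset.sum_eq_single (e c).2]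
    · rw [if_pos rfl, mul_one, mul_comm]
    · intro l _ hl'
      rw [if_neg hl', mul_zero, mul_zero]
    · intro h; exact absurd (Finset.mem_univ _) h
  have hPinv : (P : Matrix (Fin n) (Fin n) F) * ((P⁻¹ : GL (Fin n) F) : Matrix (Fin n) (Fin n) F) = 1 := by
    rw [← Units.val_mul, mul_inv_cancel, Units.val_one]
  rw [hP, ← hrel, mul_assoc, ← hP, hPinv, mul_one]

end main2

/-- **ALG2** (Skolem–Noether for `M_d(F)`): every unital algebra endomorphism of `M_d(F)` is inner. -/
theorem asgalg_aut_inner {d : ℕ} (φ : Matrix (Fin d) (Fin d) F →ₐ[F] Matrix (Fin d) (Fin d) F) :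
    ∃ P : GL (Fin d) F, ∀ A : Matrix (Fin d) (Fin d) F,
      φ A = (P : Matrix (Fin d) (Fin d) F) * A * ((P⁻¹ : GL (Fin d) F) : Matrix (Fin d) (Fin d) F) := by
  classical
  rcases Nat.eq_zero_or_pos d with hd | hd
  · subst hd
    exact ⟨1, fun A => Subsingleton.elim _ _⟩
  haveI : NeZero d := ⟨by omega⟩
  have hk : Module.finrank F (asgalgU φ) = 1 := by
    have h1 := asgalg_card φ
    have h2 : d * 1 = d * Module.finrank F (asgalgU φ) := by rw [mul_one]; exact h1
    exact (Nat.eq_of_mul_eq_mul_left hd h2).symm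
  obtain ⟨l0⟩ : Nonempty (Fin (Module.finrank F (asgalgU φ))) := ⟨⟨0, by omega⟩⟩
  obtain ⟨Pm, hPm⟩ : ∃ Pm : Matrix (Fin d) (Fin d) F, ∀ r c, Pm r c = asgalgB φ (c, l0) r :=
    ⟨Matrix.of fun r c => asgalgB φ (c, l0) r, fun r c => rfl⟩
  have hPu : IsUnit Pm := by
    rw [← Matrix.linearIndependent_cols_iff_isUnit]
    have h3 : Pm.col = fun c => asgalgB φ (c, l0) := by
      funext c r
      exact hPm r c
    rw [h3]
    exact (asgalgB_li φ).comp (fun c => (c, l0)) (fun a b h => (Prod.mk.inj h).1)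
  obtain ⟨P, hP⟩ := hPu
  refine ⟨P, fun A => ?_⟩
  have hrel : φ A * Pm = Pm * A := by
    ext r c
    have hl : (φ A * Pm) r c = (φ A *ᵥ asgalgB φ (c, l0)) r := by
      simp only [Matrix.mul_apply, Matrix.mulVec, dotProduct, hPm]
    rw [hl, asgalg_phi_mulVec_B, Matrix.mul_apply]
    simp only [Finset.sum_apply, Pi.smul_apply, smul_eq_mul]
    refine Finset.sum_congr rfl fun i _ => ?_
    rw [hPm, mul_comm]
  have hPinv : (P : Matrix (Fin d) (Fin d) F) * ((P⁻¹ : GL (Fin d) F) : Matrix (Fin d) (Fin d) F) = 1 := by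
    rw [← Units.val_mul, mul_inv_cancel, Units.val_one]
  rw [hP, ← hrel, mul_assoc, ← hP, hPinv, mul_one]

/-- entries of `(E_ab ⊗ 1) * B` -/
theorem asgalg_single_kron_mul {d k : ℕ} (B : Matrix (Fin d × Fin k) (Fin d × Fin k) F)
    (a b i j : Fin d) (l m : Fin k) :
    ((Matrix.single a b (1 : F) ⊗ₖ (1 : Matrix (Fin k) (Fin k) F)) * B) (i, l) (j, m) =
      if a = i then B (b, l) (j, m) else 0 := by
  classical
  rw [Matrix.mul_apply, Fintype.sum_prod_type]
  simp only [Matrix.kroneckerMap_apply, Matrix.single_apply, Matrix.one_apply]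
  by_cases h : a = i
  · rw [if_pos h, Finset.sum_eq_single b]
    · rw [Finset.sum_eq_single l]
      · simp [h]
      · intro y _ hy
        simp [Ne.symm hy]
      · intro h'; exact absurd (Finset.mem_univ _) h'
    · intro x _ hx
      apply Finset.sum_eq_zero
      intro y _
      simp [Ne.symm hx]
    · intro h'; exact absurd (Finset.mem_univ _) h'
  · rw [if_neg h]
    apply Finset.sum_eq_zero
    intro x _
    apply Finset.sum_eq_zero
    intro y _
    simp [h]

/-- entries of `B * (E_ab ⊗ 1)` -/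
theorem asgalg_mul_single_kron {d k : ℕ} (B : Matrix (Fin d × Fin k) (Fin d × Fin k) F)
    (a b i j : Fin d) (l m : Fin k) :
    (B * (Matrix.single a b (1 : F) ⊗ₖ (1 : Matrix (Fin k) (Fin k) F))) (i, l) (j, m) =
      if b = j then B (i, l) (a, m) else 0 := by
  classical
  rw [Matrix.mul_apply, Fintype.sum_prod_type]
  simp only [Matrix.kroneckerMap_apply, Matrix.single_apply, Matrix.one_apply]
  by_cases h : b = j
  · rw [if_pos h, Finset.sum_eq_single a]
    · rw [Finset.sum_eq_single m]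
      · simp [h]
      · intro y _ hy
        simp [hy]
      · intro h'; exact absurd (Finset.mem_univ _) h'
    · intro x _ hx
      apply Finset.sum_eq_zero
      intro y _
      simp [Ne.symm hx]
    · intro h'; exact absurd (Finset.mem_univ _) h'
  · rw [if_neg h]
    apply Finset.sum_eq_zero
    intro x _
    apply Finset.sum_eq_zero
    intro y _
    simp [h]

/-- **ALG3**: the centraliser of `M_d ⊗ 1` in `M_{d × k}` is `1 ⊗ M_k`. -/
theorem asgalg_centralizer_kronecker {d k : ℕ} (B : Matrix (Fin d × Fin k) (Fin d × Fin k) F)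
    (h : ∀ A : Matrix (Fin d) (Fin d) F,
      (A ⊗ₖ (1 : Matrix (Fin k) (Fin k) F)) * B = B * (A ⊗ₖ (1 : Matrix (Fin k) (Fin k) F))) :
    ∃ C : Matrix (Fin k) (Fin k) F, B = (1 : Matrix (Fin d) (Fin d) F) ⊗ₖ C := by
  classical
  rcases Nat.eq_zero_or_pos d with hd | hd
  · subst hd
    refine ⟨0, ?_⟩
    ext ⟨i, _⟩
    exact i.elim0
  obtain ⟨a0⟩ : Nonempty (Fin d) := ⟨⟨0, hd⟩⟩
  refine ⟨Matrix.of fun l m => B (a0, l) (a0, m), ?_⟩
  ext ⟨i, l⟩ ⟨j, m⟩
  rw [Matrix.kroneckerMap_apply, Matrix.one_apply, Matrix.of_apply]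
  have key := congrFun (congrFun (h (Matrix.single i a0 1)) (i, l)) (j, m)
  rw [asgalg_single_kron_mul, asgalg_mul_single_kron, if_pos rfl] at key
  by_cases hij : i = j
  · subst hij
    rw [if_pos rfl, one_mul]
    -- compare `B (i,l) (i,m)` with `B (a0,l) (a0,m)`
    have key2 := congrFun (congrFun (h (Matrix.single i a0 1)) (i, l)) (a0, m)
    rw [asgalg_single_kron_mul, asgalg_mul_single_kron, if_pos rfl, if_pos rfl] at key2
    exact key2.symm
  · rw [if_neg hij, zero_mul]
    -- use `E_{j i}`: `(E_ji ⊗ 1) B` at `((j,l),(j,m))` vs `B (E_ji ⊗ 1)`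
    have key3 := congrFun (congrFun (h (Matrix.single i i 1)) (i, l)) (j, m)
    rw [asgalg_single_kron_mul, asgalg_mul_single_kron, if_pos rfl, if_neg hij] at key3
    exact key3

end Cfsg.Agent.Lib.Helper20.ASGALG
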