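import Mathlib
import Cfsg.Prelude.Def_GeometricClasses
import Cfsg.Agent.Lib.Helper27.ASC.Defs
import Cfsg.Agent.Lib.Helper19.ASG.Defs

/-!
# Project ASG, block C, piece C-MEM : `mem_tensorProductSubgroup_iff` (verbatim vs `Helper24/ASGC/Skel`)
-/

set_option autoImplicit false
set_option linter.unusedVariables false
set_option linter.unusedSectionVars false

namespace Cfsg.Agent.Lib.Helper19.ASG

open Cfsg Cfsg.Geo Cfsg.Agent.Lib.Helper27.ASC
open scoped MatrixGroups Matrix Kronecker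

variable {n : ℕ} {F : Type*} [Field F]

/-- the Kronecker product of two invertible matrices, as a unit -/
theorem asgcmem_kron_unit {k d : ℕ} (a : GL (Fin k) F) (b : GL (Fin d) F) :
    ∃ κ : GL (Fin k × Fin d) F, (κ : Matrix (Fin k × Fin d) (Fin k × Fin d) F) =
      (a : Matrix (Fin k) (Fin k) F) ⊗ₖ (b : Matrix (Fin d) (Fin d) F) := by
  refine ⟨⟨(a : Matrix (Fin k) (Fin k) F) ⊗ₖ (b : Matrix (Fin d) (Fin d) F),
    ((a⁻¹ : GL (Fin k) F) : Matrix (Fin k) (Fin k) F) ⊗ₖ ((b⁻¹ : GL (Fin d) F) : Matrix (Fin d) (Fin d) F),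
    ?_, ?_⟩, rfl⟩
  · rw [← Matrix.mul_kronecker_mul, ← Units.val_mul, ← Units.val_mul, mul_inv_cancel, mul_inv_cancel,
      Units.val_one, Units.val_one, Matrix.one_kronecker_one]
  · rw [← Matrix.mul_kronecker_mul, ← Units.val_mul, ← Units.val_mul, inv_mul_cancel, inv_mul_cancel,
      Units.val_one, Units.val_one, Matrix.one_kronecker_one]

/-- coercion of `glReindex` -/
theorem asgcmem_reindex_coe {k d : ℕ} (e : Fin n ≃ Fin k × Fin d) (κ : GL (Fin k × Fin d) F) :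
    ((glReindex e.symm κ : GL (Fin n) F) : Matrix (Fin n) (Fin n) F) =
      Matrix.reindexAlgEquiv F F e.symm (κ : Matrix (Fin k × Fin d) (Fin k × Fin d) F) := rfl

/-- C-MEM (easy) : membership in a tensor product subgroup, in matrix form. -/
theorem mem_tensorProductSubgroup_iff {k d : ℕ} (e : Fin n ≃ Fin k × Fin d) (P g : GL (Fin n) F) :
    g ∈ tensorProductSubgroup k d e P ↔ ∃ (a : GL (Fin k) F) (b : GL (Fin d) F),
      (g : Matrix (Fin n) (Fin n) F) = (P : Matrix (Fin n) (Fin n) F) *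
        Matrix.reindexAlgEquiv F F e.symm ((a : Matrix (Fin k) (Fin k) F) ⊗ₖ (b : Matrix (Fin d) (Fin d) F)) *
        ((P⁻¹ : GL (Fin n) F) : Matrix (Fin n) (Fin n) F) := by
  unfold tensorProductSubgroup
  constructor
  · rintro ⟨x, ⟨κ, ⟨a, b, hκ⟩, rfl⟩, rfl⟩
    refine ⟨a, b, ?_⟩
    show ((P * glReindex e.symm κ * P⁻¹ : GL (Fin n) F) : Matrix (Fin n) (Fin n) F) = _
    rw [Units.val_mul, Units.val_mul, asgcmem_reindex_coe, hκ]
  · rintro ⟨a, b, hg⟩
    obtain ⟨κ, hκ⟩ := asgcmem_kron_unit a b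
    refine ⟨glReindex e.symm κ, ⟨κ, ⟨a, b, hκ⟩, rfl⟩, ?_⟩
    apply Units.ext
    show ((P * glReindex e.symm κ * P⁻¹ : GL (Fin n) F) : Matrix (Fin n) (Fin n) F) = _
    rw [Units.val_mul, Units.val_mul, asgcmem_reindex_coe, hκ, hg]

end Cfsg.Agent.Lib.Helper19.ASG
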