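import Mathlib
import Cfsg.Prelude.Def_GeometricClasses
import Cfsg.Agent.Lib.Helper27.ASC.Defs
import Cfsg.Agent.Lib.helper23.ASCO.Defs
import Cfsg.Agent.Lib.Helper19.ASG.Defs
import Cfsg.Agent.Lib.Helper1.ASGCLIF3
import Cfsg.Agent.Lib.Lead.Reindex
import Cfsg.Agent.Lib.Helper25.ASO.Defs
import Cfsg.Agent.Lib.Helper25.ASOADJ

set_option autoImplicit false
set_option linter.unusedVariables false
set_option linter.unusedSectionVars false

/-!
# Project ASO, piece STAR : `star_mem_cent`, `star_mem_Z`, `star_mem_dcomm` (verbatim vs `Helper25/ASO/Skel`)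
-/

namespace Cfsg.Agent.Lib.Helper25.ASO

open Cfsg Cfsg.Geo Cfsg.Agent.Lib.Helper27.ASC Cfsg.Agent.Lib.helper23.ASCO Cfsg.Agent.Lib.Helper19.ASG
open scoped MatrixGroups Matrix Kronecker

variable {n : ℕ} {F : Type*} [Field F] [Fintype F]

/-- STAR : the commutant of a group of isometries is closed under adjoints. -/
theorem star_mem_cent (Q : QuadraticForm F (Fin n → F)) (hQ : (QuadraticMap.polarBilin Q).Nondegenerate)
    {N : Subgroup (GL (Fin n) F)} (hNO : N ≤ isometryGroup F (⇑Q)) (c : Matrix (Fin n) (Fin n) F)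
    (hc : c ∈ centAlg N) : oadj (⇑Q) c ∈ centAlg N := by
  rw [Subalgebra.mem_centralizer_iff] at hc ⊢
  rintro s ⟨x, hx, rfl⟩
  have hxi : x⁻¹ ∈ N := N.inv_mem hx
  have h1 : ((x⁻¹ : GL (Fin n) F) : Matrix (Fin n) (Fin n) F) * c =
      c * ((x⁻¹ : GL (Fin n) F) : Matrix (Fin n) (Fin n) F) := hc _ ⟨x⁻¹, hxi, rfl⟩
  have h2 := congrArg (oadj (⇑Q)) h1
  rw [oadj_mul Q hQ, oadj_mul Q hQ, oadj_of_iso Q hQ x⁻¹ (hNO hxi), inv_inv] at h2
  exact h2.symm

/-- STAR (same piece) : so is its centre. -/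
theorem star_mem_Z (Q : QuadraticForm F (Fin n → F)) (hQ : (QuadraticMap.polarBilin Q).Nondegenerate)
    {N : Subgroup (GL (Fin n) F)} (hNO : N ≤ isometryGroup F (⇑Q)) (z : Matrix (Fin n) (Fin n) F)
    (hz : z ∈ asgZ N) : oadj (⇑Q) z ∈ asgZ N := by
  rw [asgclif_mem_Z] at hz ⊢
  refine ⟨star_mem_cent Q hQ hNO z hz.1, fun c hc => ?_⟩
  have h1 := hz.2 (oadj (⇑Q) c) (star_mem_cent Q hQ hNO c hc)
  have h2 := congrArg (oadj (⇑Q)) h1
  rw [oadj_mul Q hQ, oadj_mul Q hQ, oadj_oadj Q hQ] at h2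
  exact h2.symm

/-- STAR (same piece) : and the double commutant. -/
theorem star_mem_dcomm (Q : QuadraticForm F (Fin n → F)) (hQ : (QuadraticMap.polarBilin Q).Nondegenerate)
    {N : Subgroup (GL (Fin n) F)} (hNO : N ≤ isometryGroup F (⇑Q)) (c : Matrix (Fin n) (Fin n) F)
    (hc : c ∈ Subalgebra.centralizer F (centAlg N : Set (Matrix (Fin n) (Fin n) F))) :
    oadj (⇑Q) c ∈ Subalgebra.centralizer F (centAlg N : Set (Matrix (Fin n) (Fin n) F)) := by
  rw [Subalgebra.mem_centralizer_iff] at hc ⊢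
  intro d hd
  have h1 := hc (oadj (⇑Q) d) (star_mem_cent Q hQ hNO d hd)
  have h2 := congrArg (oadj (⇑Q)) h1
  rw [oadj_mul Q hQ, oadj_mul Q hQ, oadj_oadj Q hQ] at h2
  exact h2.symm

end Cfsg.Agent.Lib.Helper25.ASO
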