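import Mathlib

set_option autoImplicit false

namespace Cfsg.Agent.Lib.Helper20

open MulAction

section Burnside

variable {G Ω : Type*} [Group G] [MulAction G Ω]

theorem burnside_sub [Fintype G] [Finite Ω] (H : Subgroup G) [DecidablePred (· ∈ H)] :
    ∑ g ∈ Finset.univ.filter (· ∈ H), Nat.card (fixedBy Ω g) =
      Nat.card (orbitRel.Quotient H Ω) * Nat.card H := by
  classical
  have : Fintype Ω := Fintype.ofFinite Ω
  have : Fintype (orbitRel.Quotient H Ω) := Fintype.ofFinite _
  have : ∀ g : H, Fintype (fixedBy Ω g) := fun g => Fintype.ofFinite _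
  have h := MulAction.sum_card_fixedBy_eq_card_orbits_mul_card_group H Ω
  rw [Nat.card_eq_fintype_card, Nat.card_eq_fintype_card]
  change _ = Fintype.card (Quotient (orbitRel H Ω)) * Fintype.card H
  rw [← h]
  rw [Finset.sum_subtype (Finset.univ.filter (· ∈ H)) (p := (· ∈ H)) (by simp)]
  apply Finset.sum_congr rfl
  intro g _
  rw [← Nat.card_eq_fintype_card]
  rfl

theorem burnside_top [Fintype G] [Finite Ω] :
    ∑ g : G, Nat.card (fixedBy Ω g) = Nat.card (orbitRel.Quotient G Ω) * Nat.card G := by
  classical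
  have : Fintype Ω := Fintype.ofFinite Ω
  have : Fintype (orbitRel.Quotient G Ω) := Fintype.ofFinite _
  have : ∀ g : G, Fintype (fixedBy Ω g) := fun g => Fintype.ofFinite _
  have h := MulAction.sum_card_fixedBy_eq_card_orbits_mul_card_group G Ω
  rw [Nat.card_eq_fintype_card, Nat.card_eq_fintype_card]
  change _ = Fintype.card (Quotient (orbitRel G Ω)) * Fintype.card G
  rw [← h]
  apply Finset.sum_congr rfl
  intro g _
  rw [← Nat.card_eq_fintype_card]

theorem card_orbits_eq_one_of_pretransitive [IsPretransitive G Ω] [Nonempty Ω] :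
    Nat.card (orbitRel.Quotient G Ω) = 1 := by
  have : Subsingleton (orbitRel.Quotient G Ω) :=
    (MulAction.pretransitive_iff_subsingleton_quotient G Ω).mp inferInstance
  have : Nonempty (orbitRel.Quotient G Ω) := ⟨Quotient.mk'' (Classical.arbitrary Ω)⟩
  exact Nat.card_unique

theorem pretransitive_of_card_orbits_eq_one (h : Nat.card (orbitRel.Quotient G Ω) = 1) :
    IsPretransitive G Ω := by
  rw [MulAction.pretransitive_iff_subsingleton_quotient]
  exact (Nat.card_eq_one_iff_unique.mp h).1

end Burnside

section Derangement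

variable {G Ω : Type*} [Group G] [MulAction G Ω]

def derSub (G Ω : Type*) [Group G] [MulAction G Ω] : Subgroup G :=
  Subgroup.closure {g : G | ∀ ω : Ω, g • ω ≠ ω}

theorem one_le_card_fixedBy_of_notMem [Finite Ω] (g : G) (hg : g ∉ derSub G Ω) :
    1 ≤ Nat.card (fixedBy Ω g) := by
  by_contra h
  apply hg
  apply Subgroup.subset_closure
  intro ω hω
  have hne : Nonempty (fixedBy Ω g) := ⟨⟨ω, hω⟩⟩
  have := Nat.card_pos (α := fixedBy Ω g)
  omega

theorem derangement_main [Finite G] [Finite Ω] [IsPretransitive G Ω] [Nonempty Ω] :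
    Nat.card (orbitRel.Quotient (derSub G Ω) Ω) = 1 ∧
      ∀ g : G, g ∉ derSub G Ω → Nat.card (fixedBy Ω g) = 1 := by
  classical
  have : Fintype G := Fintype.ofFinite G
  set D := derSub G Ω with hD
  have h1 : ∑ g : G, Nat.card (fixedBy Ω g) = Nat.card G := by
    rw [burnside_top, card_orbits_eq_one_of_pretransitive, one_mul]
  have h2 := burnside_sub (Ω := Ω) D
  have hsplit := Finset.sum_filter_add_sum_filter_not (Finset.univ : Finset G) (· ∈ D)
    (fun g => Nat.card (fixedBy Ω g))
  have hcsplit := Finset.card_filter_add_card_filter_not (s := (Finset.univ : Finset G)) (· ∈ D)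
  have hcD : (Finset.univ.filter (· ∈ D)).card = Nat.card D := by
    rw [Nat.card_eq_fintype_card, Fintype.card_subtype]
  have hcG : (Finset.univ : Finset G).card = Nat.card G := by
    rw [Nat.card_eq_fintype_card, Finset.card_univ]
  have h3 : (Finset.univ.filter (fun g => ¬ g ∈ D)).card ≤
      ∑ g ∈ Finset.univ.filter (fun g => ¬ g ∈ D), Nat.card (fixedBy Ω g) := by
    rw [Finset.card_eq_sum_ones]
    apply Finset.sum_le_sum
    intro g hg
    rw [Finset.mem_filter] at hg
    exact one_le_card_fixedBy_of_notMem g hg.2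
  have hr : 1 ≤ Nat.card (orbitRel.Quotient D Ω) := by
    have : Nonempty (orbitRel.Quotient D Ω) := ⟨Quotient.mk'' (Classical.arbitrary Ω)⟩
    exact Nat.card_pos
  have hDpos : 1 ≤ Nat.card D := Nat.card_pos
  set r := Nat.card (orbitRel.Quotient D Ω) with hrdef
  set S2 := ∑ g ∈ Finset.univ.filter (fun g => ¬ g ∈ D), Nat.card (fixedBy Ω g) with hS2
  set c2 := (Finset.univ.filter (fun g => ¬ g ∈ D)).card with hc2
  have heq : r * Nat.card D + S2 = Nat.card D + c2 := by
    rw [← h2, hsplit, h1, ← hcG, ← hcsplit, hcD]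
  have hge : Nat.card D ≤ r * Nat.card D := Nat.le_mul_of_pos_left _ hr
  have hrD : r * Nat.card D = Nat.card D := by omega
  have hS2c2 : S2 = c2 := by omega
  constructor
  · have : r * Nat.card D = 1 * Nat.card D := by rw [hrD, one_mul]
    exact Nat.eq_of_mul_eq_mul_right hDpos this
  · intro g hg
    have hle : ∀ i ∈ Finset.univ.filter (fun g => ¬ g ∈ D), 1 ≤ Nat.card (fixedBy Ω i) := by
      intro i hi
      rw [Finset.mem_filter] at hi
      exact one_le_card_fixedBy_of_notMem i hi.2
    have hiff := Finset.sum_eq_sum_iff_of_le hle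
    have hsum : ∑ i ∈ Finset.univ.filter (fun g => ¬ g ∈ D), 1 =
        ∑ i ∈ Finset.univ.filter (fun g => ¬ g ∈ D), Nat.card (fixedBy Ω i) := by
      rw [← Finset.card_eq_sum_ones]
      exact hS2c2.symm
    have := hiff.mp hsum g (by rw [Finset.mem_filter]; exact ⟨Finset.mem_univ _, hg⟩)
    exact this.symm

def fixedByProdEquiv (g : G) : fixedBy (Ω × Ω) g ≃ fixedBy Ω g × fixedBy Ω g where
  toFun p := (⟨p.1.1, congrArg Prod.fst p.2⟩, ⟨p.1.2, congrArg Prod.snd p.2⟩)
  invFun q := ⟨(q.1.1, q.2.1), Prod.ext q.1.2 q.2.2⟩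
  left_inv := fun _ => rfl
  right_inv := fun _ => rfl

theorem card_fixedBy_prod (g : G) :
    Nat.card (fixedBy (Ω × Ω) g) = Nat.card (fixedBy Ω g) * Nat.card (fixedBy Ω g) := by
  rw [Nat.card_congr (fixedByProdEquiv g), Nat.card_prod]

theorem rank_formula [Finite G] [Finite Ω] [IsPretransitive G Ω] :
    Nat.card (orbitRel.Quotient (derSub G Ω) (Ω × Ω)) - 1 =
      (Nat.card (orbitRel.Quotient G (Ω × Ω)) - 1) * (derSub G Ω).index := by
  classical
  rcases isEmpty_or_nonempty Ω with hΩ | hΩ
  · have h1 : IsEmpty (orbitRel.Quotient (derSub G Ω) (Ω × Ω)) := by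
      constructor
      intro q
      induction q using Quotient.inductionOn' with
      | h x => exact hΩ.false x.1
    have h2 : IsEmpty (orbitRel.Quotient G (Ω × Ω)) := by
      constructor
      intro q
      induction q using Quotient.inductionOn' with
      | h x => exact hΩ.false x.1
    rw [Nat.card_of_isEmpty, Nat.card_of_isEmpty]
    simp
  · have : Fintype G := Fintype.ofFinite G
    obtain ⟨_, hone⟩ := derangement_main (G := G) (Ω := Ω)
    set D := derSub G Ω with hD
    have h1 := burnside_top (G := G) (Ω := Ω × Ω)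
    have h2 := burnside_sub (Ω := Ω × Ω) D
    have hsplit := Finset.sum_filter_add_sum_filter_not (Finset.univ : Finset G) (· ∈ D)
      (fun g => Nat.card (fixedBy (Ω × Ω) g))
    have hcsplit := Finset.card_filter_add_card_filter_not (s := (Finset.univ : Finset G)) (· ∈ D)
    have hcD : (Finset.univ.filter (· ∈ D)).card = Nat.card D := by
      rw [Nat.card_eq_fintype_card, Fintype.card_subtype]
    have hcG : (Finset.univ : Finset G).card = Nat.card G := by
      rw [Nat.card_eq_fintype_card, Finset.card_univ]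
    have h3 : ∑ g ∈ Finset.univ.filter (fun g => ¬ g ∈ D), Nat.card (fixedBy (Ω × Ω) g) =
        (Finset.univ.filter (fun g => ¬ g ∈ D)).card := by
      rw [Finset.card_eq_sum_ones]
      apply Finset.sum_congr rfl
      intro g hg
      rw [Finset.mem_filter] at hg
      rw [card_fixedBy_prod, hone g hg.2]
    have hidx : D.index * Nat.card D = Nat.card G := Subgroup.index_mul_card D
    set rD := Nat.card (orbitRel.Quotient D (Ω × Ω)) with hrD
    set rG := Nat.card (orbitRel.Quotient G (Ω × Ω)) with hrG
    set c2 := (Finset.univ.filter (fun g => ¬ g ∈ D)).card with hc2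
    have hDpos : 0 < Nat.card D := Nat.card_pos
    have hrGpos : 1 ≤ rG := by
      have : Nonempty (orbitRel.Quotient G (Ω × Ω)) :=
        ⟨Quotient.mk'' (Classical.arbitrary Ω, Classical.arbitrary Ω)⟩
      exact Nat.card_pos
    have hrDpos : 1 ≤ rD := by
      have : Nonempty (orbitRel.Quotient D (Ω × Ω)) :=
        ⟨Quotient.mk'' (Classical.arbitrary Ω, Classical.arbitrary Ω)⟩
      exact Nat.card_pos
    have heq : rG * (D.index * Nat.card D) = rD * Nat.card D + c2 := by
      rw [hidx, ← h1, ← hsplit, h2, h3]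
    have hc2' : Nat.card D + c2 = D.index * Nat.card D := by
      rw [hidx, ← hcG, ← hcsplit, hcD]
    have key : (rD + D.index) * Nat.card D = (rG * D.index + 1) * Nat.card D := by
      have e1 : (rD + D.index) * Nat.card D = rD * Nat.card D + D.index * Nat.card D := by ring
      have e2 : (rG * D.index + 1) * Nat.card D = rG * (D.index * Nat.card D) + Nat.card D := by ring
      rw [e1, e2, heq, ← hc2']
      ring
    have key2 : rD + D.index = rG * D.index + 1 := Nat.eq_of_mul_eq_mul_right hDpos key
    obtain ⟨k, hk⟩ : ∃ k, rG = k + 1 := ⟨rG - 1, by omega⟩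
    rw [hk] at key2 ⊢
    have : rD = k * D.index + 1 := by
      have e : (k + 1) * D.index + 1 = k * D.index + D.index + 1 := by ring
      rw [e] at key2
      omega
    rw [this]
    simp

end Derangement

end Cfsg.Agent.Lib.Helper20
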