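import Mathlib

set_option autoImplicit false
set_option linter.unusedSectionVars false
open scoped commutatorElement

namespace Cfsg.Agent.Lib.Helper20

section Pair

variable {G : Type*} [Group G] {x y : G} {e : ℕ}

theorem pair_conj_pow (h : y * x * y⁻¹ = x ^ e) (i : ℕ) : y * x ^ i * y⁻¹ = x ^ (i * e) := by
  have h1 : y * x ^ i * y⁻¹ = (y * x * y⁻¹) ^ i := by rw [conj_pow]
  rw [h1, h, ← pow_mul, mul_comm]

theorem pair_conj_pow_pow (h : y * x * y⁻¹ = x ^ e) (i j : ℕ) :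
    y ^ j * x ^ i * (y ^ j)⁻¹ = x ^ (i * e ^ j) := by
  induction j generalizing i with
  | zero => simp
  | succ j ih =>
    have : y ^ (j + 1) * x ^ i * (y ^ (j + 1))⁻¹ = y ^ j * (y * x ^ i * y⁻¹) * (y ^ j)⁻¹ := by
      rw [pow_succ]; group
    rw [this, pair_conj_pow h, ih, pow_succ]
    congr 1; ring

theorem pair_swap (h : y * x * y⁻¹ = x ^ e) (i j : ℕ) :
    y ^ j * x ^ i = x ^ (i * e ^ j) * y ^ j := by
  rw [← pair_conj_pow_pow h i j]; group

theorem pair_mul (h : y * x * y⁻¹ = x ^ e) (i j i' j' : ℕ) :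
    (x ^ i * y ^ j) * (x ^ i' * y ^ j') = x ^ (i + i' * e ^ j) * y ^ (j + j') := by
  calc (x ^ i * y ^ j) * (x ^ i' * y ^ j')
      = x ^ i * (y ^ j * x ^ i') * y ^ j' := by group
    _ = x ^ i * (x ^ (i' * e ^ j) * y ^ j) * y ^ j' := by rw [pair_swap h]
    _ = x ^ (i + i' * e ^ j) * y ^ (j + j') := by
        rw [pow_add, pow_add]; group

/-- the power formula -/
theorem pair_pow (h : y * x * y⁻¹ = x ^ e) (i j k : ℕ) :
    (x ^ i * y ^ j) ^ k = x ^ (i * ∑ t ∈ Finset.range k, (e ^ j) ^ t) * y ^ (j * k) := by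
  induction k with
  | zero => simp
  | succ k ih =>
    rw [pow_succ, ih, pair_mul h, Finset.sum_range_succ]
    congr 2
    · rw [← pow_mul]; ring
    

/-- the set of products `x ^ i * y ^ j` is a subgroup when `y` normalizes `⟨x⟩` (finite case) -/
def pairSub [Finite G] (h : y * x * y⁻¹ = x ^ e) : Subgroup G where
  carrier := {g | ∃ i j : ℕ, g = x ^ i * y ^ j}
  one_mem' := ⟨0, 0, by simp⟩
  mul_mem' := by
    rintro _ _ ⟨i, j, rfl⟩ ⟨i', j', rfl⟩
    exact ⟨_, _, pair_mul h i j i' j'⟩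
  inv_mem' := by
    rintro _ ⟨i, j, rfl⟩
    have hpow : ∀ k : ℕ, ∃ i' j' : ℕ, (x ^ i * y ^ j) ^ k = x ^ i' * y ^ j' :=
      fun k => ⟨_, _, pair_pow h i j k⟩
    have hinv : (x ^ i * y ^ j)⁻¹ = (x ^ i * y ^ j) ^ (orderOf (x ^ i * y ^ j) - 1) := by
      have hpos : 0 < orderOf (x ^ i * y ^ j) := orderOf_pos _
      rw [eq_comm, ← mul_eq_one_iff_eq_inv, ← pow_succ,
        Nat.sub_add_cancel hpos, pow_orderOf_eq_one]
    rw [hinv]
    exact hpow _

theorem mem_pairSub [Finite G] (h : y * x * y⁻¹ = x ^ e) (g : G) :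
    g ∈ pairSub h ↔ ∃ i j : ℕ, g = x ^ i * y ^ j := Iff.rfl

theorem pairSub_eq_sup [Finite G] (h : y * x * y⁻¹ = x ^ e) :
    pairSub h = Subgroup.zpowers x ⊔ Subgroup.zpowers y := by
  apply le_antisymm
  · rintro _ ⟨i, j, rfl⟩
    exact Subgroup.mul_mem_sup (Subgroup.pow_mem _ (Subgroup.mem_zpowers x) _)
      (Subgroup.pow_mem _ (Subgroup.mem_zpowers y) _)
  · apply sup_le
    · rw [Subgroup.zpowers_le]; exact ⟨1, 0, by simp⟩
    · rw [Subgroup.zpowers_le]; exact ⟨0, 1, by simp⟩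

end Pair

section ClassSize

variable {G : Type*} [Group G] [Finite G]

theorem comm_eq_comm_iff (x y g : G) : ⁅x, g⁆ = ⁅y, g⁆ ↔ x⁻¹ * y ∈ Subgroup.centralizer {g} := by
  rw [Subgroup.mem_centralizer_iff]
  constructor
  · intro h z hz
    rw [Set.mem_singleton_iff] at hz
    subst hz
    have h1 : x * z * x⁻¹ = y * z * y⁻¹ := by
      have := congrArg (fun u => u * z) h
      simpa [commutatorElement_def, mul_assoc] using this
    calc z * (x⁻¹ * y) = x⁻¹ * (x * z * x⁻¹) * y := by group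
      _ = x⁻¹ * (y * z * y⁻¹) * y := by rw [h1]
      _ = x⁻¹ * y * z := by group
  · intro h
    have h1 := h g rfl
    have h2 : x * g * x⁻¹ = y * g * y⁻¹ := by
      calc x * g * x⁻¹ = x * (g * (x⁻¹ * y)) * y⁻¹ := by group
        _ = x * (x⁻¹ * y * g) * y⁻¹ := by rw [h1]
        _ = y * g * y⁻¹ := by group
    simp only [commutatorElement_def]
    rw [h2]

/-- if all commutators with `g` lie in `K` then the class of `g` has at most `|K|` elements -/
theorem index_centralizer_le (g : G) (K : Subgroup G) (h : ∀ x : G, ⁅x, g⁆ ∈ K) :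
    (Subgroup.centralizer {g}).index ≤ Nat.card K := by
  let f : G ⧸ Subgroup.centralizer {g} → K :=
    Quotient.lift (fun x : G => (⟨⁅x, g⁆, h x⟩ : K)) (by
      intro x y hxy
      have : x⁻¹ * y ∈ Subgroup.centralizer {g} := QuotientGroup.leftRel_apply.mp hxy
      exact Subtype.ext ((comm_eq_comm_iff x y g).mpr this))
  have hf : Function.Injective f := by
    intro u v huv
    induction u using QuotientGroup.induction_on with
    | H x =>
      induction v using QuotientGroup.induction_on with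
      | H y =>
        have h1 : ⁅x, g⁆ = ⁅y, g⁆ := congrArg Subtype.val huv
        exact QuotientGroup.eq.mpr ((comm_eq_comm_iff x y g).mp h1)
  exact Nat.card_le_card_of_injective f hf

/-- exhibiting distinct cosets of the centralizer -/
theorem le_index_centralizer (g t : G) (k : ℕ)
    (h : ∀ d : ℕ, 0 < d → d < k → ¬ (t ^ d * g = g * t ^ d)) :
    k ≤ (Subgroup.centralizer {g}).index := by
  let f : Fin k → G ⧸ Subgroup.centralizer {g} := fun u => QuotientGroup.mk (t ^ (u : ℕ))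
  have hf : Function.Injective f := by
    have key : ∀ u v : Fin k, (u : ℕ) ≤ v → f u = f v → u = v := by
      intro u v huv hfuv
      have h1 : (t ^ (u : ℕ))⁻¹ * t ^ (v : ℕ) ∈ Subgroup.centralizer {g} := QuotientGroup.eq.mp hfuv
      have h2 : (t ^ (u : ℕ))⁻¹ * t ^ (v : ℕ) = t ^ ((v : ℕ) - u) := by
        rw [← Nat.add_sub_cancel' huv, pow_add, inv_mul_cancel_left, Nat.add_sub_cancel_left]
      rw [h2, Subgroup.mem_centralizer_iff] at h1
      have h3 := h1 g rfl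
      by_contra hne
      have hlt : (u : ℕ) < v := lt_of_le_of_ne huv (fun e => hne (Fin.ext e))
      exact h ((v : ℕ) - u) (by omega) (by have := v.2; omega) h3.symm
    intro u v huv
    rcases le_total (u : ℕ) v with h1 | h1
    · exact key u v h1 huv
    · exact (key v u h1 huv.symm).symm
  have := Nat.card_le_card_of_injective f hf
  rwa [Nat.card_fin] at this

end ClassSize

/-- coordinates for a metacyclic `p`-group: `G = ⟨a⟩⟨b⟩`, `b a b⁻¹ = a ^ r`, `r ≡ 1 (mod p)` -/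
structure MC (p : ℕ) (G : Type*) [Group G] where
  a : G
  b : G
  m : ℕ
  r : ℕ
  hord : orderOf a = p ^ m
  hconj : b * a * b⁻¹ = a ^ r
  hr : r % p = 1
  hr2 : 2 ≤ r
  hgen : ∀ g : G, ∃ i j : ℕ, g = a ^ i * b ^ j

namespace MC

variable {G : Type*} [Group G] {p : ℕ} (D : MC p G)

theorem conj_a_pow (i : ℕ) : D.b * D.a ^ i * D.b⁻¹ = D.a ^ (i * D.r) := by
  have h : D.b * D.a ^ i * D.b⁻¹ = (D.b * D.a * D.b⁻¹) ^ i := by
    rw [conj_pow]
  rw [h, D.hconj, ← pow_mul, mul_comm]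

theorem conj_pow_pow (i j : ℕ) : D.b ^ j * D.a ^ i * (D.b ^ j)⁻¹ = D.a ^ (i * D.r ^ j) := by
  induction j generalizing i with
  | zero => simp
  | succ j ih =>
    have : D.b ^ (j + 1) * D.a ^ i * (D.b ^ (j + 1))⁻¹ =
        D.b ^ j * (D.b * D.a ^ i * D.b⁻¹) * (D.b ^ j)⁻¹ := by
      rw [pow_succ]; group
    rw [this, D.conj_a_pow, ih, pow_succ]
    congr 1; ring

theorem b_pow_mul_a_pow (i j : ℕ) : D.b ^ j * D.a ^ i = D.a ^ (i * D.r ^ j) * D.b ^ j := by
  rw [← D.conj_pow_pow i j]; group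

theorem mul_formula (i j i' j' : ℕ) :
    (D.a ^ i * D.b ^ j) * (D.a ^ i' * D.b ^ j') = D.a ^ (i + i' * D.r ^ j) * D.b ^ (j + j') := by
  calc (D.a ^ i * D.b ^ j) * (D.a ^ i' * D.b ^ j')
      = D.a ^ i * (D.b ^ j * D.a ^ i') * D.b ^ j' := by group
    _ = D.a ^ i * (D.a ^ (i' * D.r ^ j) * D.b ^ j) * D.b ^ j' := by rw [D.b_pow_mul_a_pow]
    _ = D.a ^ (i + i' * D.r ^ j) * D.b ^ (j + j') := by
        rw [pow_add, pow_add]; group

theorem a_pow_eq_one_iff (e : ℕ) : D.a ^ e = 1 ↔ p ^ D.m ∣ e := by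
  rw [← D.hord, orderOf_dvd_iff_pow_eq_one]

theorem a_pow_eq_iff (e e' : ℕ) : D.a ^ e = D.a ^ e' ↔ e ≡ e' [MOD p ^ D.m] := by
  rw [← D.hord, pow_eq_pow_iff_modEq]

theorem conj_mem_zpowers (g x : G) (hx : x ∈ Subgroup.zpowers D.a) :
    g * x * g⁻¹ ∈ Subgroup.zpowers D.a := by
  obtain ⟨i, j, rfl⟩ := D.hgen g
  obtain ⟨k, rfl⟩ := (Subgroup.mem_zpowers_iff).mp hx
  have h1 : D.b ^ j * D.a ^ k * (D.b ^ j)⁻¹ = (D.a ^ (D.r ^ j)) ^ k := by
    have := D.conj_pow_pow 1 j
    rw [pow_one, one_mul] at this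
    rw [← this, conj_zpow]
  have h2 : D.a ^ i * D.b ^ j * D.a ^ k * (D.a ^ i * D.b ^ j)⁻¹ =
      D.a ^ i * (D.b ^ j * D.a ^ k * (D.b ^ j)⁻¹) * (D.a ^ i)⁻¹ := by group
  rw [h2, h1]
  apply Subgroup.mul_mem _ (Subgroup.mul_mem _ (Subgroup.pow_mem _ (Subgroup.mem_zpowers _) _) _)
    (Subgroup.inv_mem _ (Subgroup.pow_mem _ (Subgroup.mem_zpowers _) _))
  exact Subgroup.zpow_mem _ (Subgroup.pow_mem _ (Subgroup.mem_zpowers _) _) _

instance normal_zpowers_a : (Subgroup.zpowers D.a).Normal :=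
  ⟨fun n hn g => D.conj_mem_zpowers g n hn⟩

section Val

variable [hp : Fact p.Prime]

/-- the `p`-adic valuation of `r - 1` -/
noncomputable def v0 : ℕ := padicValNat p (D.r - 1)

theorem p_dvd_r_sub_one : p ∣ D.r - 1 := by
  have h1 : 1 ≤ D.r := le_trans (by norm_num) D.hr2
  have := D.hr
  have hp1 : 1 < p := hp.out.one_lt
  rw [← Nat.modEq_zero_iff_dvd]
  have h2 : D.r ≡ 1 [MOD p] := by
    unfold Nat.ModEq; rw [this, Nat.mod_eq_of_lt hp1]
  exact (Nat.modEq_iff_dvd' h1).mp h2.symm |> fun h => (Nat.modEq_zero_iff_dvd).mpr h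

theorem r_sub_one_ne_zero : D.r - 1 ≠ 0 := by
  have := D.hr2; omega

theorem one_le_v0 : 1 ≤ D.v0 :=
  one_le_padicValNat_of_dvd D.r_sub_one_ne_zero D.p_dvd_r_sub_one

theorem not_dvd_r : ¬ p ∣ D.r := by
  intro h
  have := Nat.mod_eq_zero_of_dvd h
  rw [D.hr] at this
  exact one_ne_zero this

theorem lte (hp2 : p ≠ 2) (j : ℕ) (hj : j ≠ 0) :
    padicValNat p (D.r ^ j - 1) = D.v0 + padicValNat p j := by
  have hodd : Odd p := hp.out.odd_of_ne_two hp2
  have h := padicValNat.pow_sub_pow (p := p) hodd (x := D.r) (y := 1)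
    (lt_of_lt_of_le (by norm_num) D.hr2) D.p_dvd_r_sub_one D.not_dvd_r hj
  rw [one_pow] at h
  exact h

theorem r_pow_sub_one_ne_zero (j : ℕ) (hj : j ≠ 0) : D.r ^ j - 1 ≠ 0 := by
  have h1 : 2 ^ j ≤ D.r ^ j := Nat.pow_le_pow_left D.hr2 j
  have h2 : 2 ≤ 2 ^ j := by
    calc 2 = 2 ^ 1 := by norm_num
      _ ≤ 2 ^ j := Nat.pow_le_pow_right (by norm_num) (Nat.one_le_iff_ne_zero.mpr hj)
  omega

theorem gcd_prime_pow (m e : ℕ) (he : e ≠ 0) :
    Nat.gcd (p ^ m) e = p ^ (min (padicValNat p e) m) := by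
  obtain ⟨s, hs, hgs⟩ := (Nat.dvd_prime_pow hp.out).mp (Nat.gcd_dvd_left (p ^ m) e)
  rw [hgs]
  congr 1
  apply le_antisymm
  · apply le_min _ hs
    have : p ^ s ∣ e := hgs ▸ Nat.gcd_dvd_right (p ^ m) e
    exact (padicValNat_dvd_iff_le he).mp this
  · have h1 : p ^ (min (padicValNat p e) m) ∣ Nat.gcd (p ^ m) e := by
      apply Nat.dvd_gcd
      · exact pow_dvd_pow p (min_le_right _ _)
      · exact (padicValNat_dvd_iff_le he).mpr (min_le_left _ _)
    rw [hgs] at h1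
    exact (Nat.pow_dvd_pow_iff_le_right hp.out.one_lt).mp h1

theorem orderOf_a_pow (e : ℕ) (he : e ≠ 0) :
    orderOf (D.a ^ e) = p ^ (D.m - min (padicValNat p e) D.m) := by
  rw [orderOf_pow' _ he, D.hord, gcd_prime_pow D.m e he]
  rw [Nat.pow_div (min_le_right _ _) hp.out.pos]

theorem a_pow_eq_one_iff_le (e : ℕ) (he : e ≠ 0) : D.a ^ e = 1 ↔ D.m ≤ padicValNat p e := by
  rw [D.a_pow_eq_one_iff, padicValNat_dvd_iff_le he]

theorem r_pow_pos (j : ℕ) : 1 ≤ D.r ^ j :=
  Nat.one_le_pow _ _ (le_trans (by norm_num) D.hr2)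

/-- the commutator formula -/
theorem comm_formula (i j i' j' : ℕ) :
    ⁅D.a ^ i * D.b ^ j, D.a ^ i' * D.b ^ j'⁆ =
      D.a ^ (i' * (D.r ^ j - 1)) * (D.a ^ (i * (D.r ^ j' - 1)))⁻¹ := by
  have h1 : ⁅D.a ^ i * D.b ^ j, D.a ^ i' * D.b ^ j'⁆ =
      ((D.a ^ i * D.b ^ j) * (D.a ^ i' * D.b ^ j')) *
        ((D.a ^ i' * D.b ^ j') * (D.a ^ i * D.b ^ j))⁻¹ := by
    rw [commutatorElement_def]; group
  rw [h1, D.mul_formula, D.mul_formula]
  have e1 : i + i' * D.r ^ j = (i + i') + i' * (D.r ^ j - 1) := by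
    have := D.r_pow_pos j
    obtain ⟨c, hc⟩ := Nat.exists_eq_add_of_le this
    rw [hc]; simp; ring
  have e2 : i' + i * D.r ^ j' = (i + i') + i * (D.r ^ j' - 1) := by
    have := D.r_pow_pos j'
    obtain ⟨c, hc⟩ := Nat.exists_eq_add_of_le this
    rw [hc]; simp; ring
  rw [e1, e2, add_comm j' j, pow_add (D.a) (i + i'), pow_add (D.a) (i + i')]
  have hc : Commute (D.a ^ (i + i')) (D.a ^ (i' * (D.r ^ j - 1))) :=
    (Commute.refl D.a).pow_pow _ _
  have hc2 : Commute (D.a ^ (i + i')) (D.a ^ (i * (D.r ^ j' - 1))) :=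
    (Commute.refl D.a).pow_pow _ _
  calc D.a ^ (i + i') * D.a ^ (i' * (D.r ^ j - 1)) * D.b ^ (j + j') *
        (D.a ^ (i + i') * D.a ^ (i * (D.r ^ j' - 1)) * D.b ^ (j + j'))⁻¹
      = D.a ^ (i + i') * D.a ^ (i' * (D.r ^ j - 1)) *
          (D.a ^ (i + i') * D.a ^ (i * (D.r ^ j' - 1)))⁻¹ := by group
    _ = D.a ^ (i' * (D.r ^ j - 1)) * D.a ^ (i + i') *
          ((D.a ^ (i * (D.r ^ j' - 1))) * D.a ^ (i + i'))⁻¹ := by rw [hc.eq, hc2.eq]
    _ = D.a ^ (i' * (D.r ^ j - 1)) * (D.a ^ (i * (D.r ^ j' - 1)))⁻¹ := by group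

theorem r_sub_one_dvd (j : ℕ) : D.r - 1 ∣ D.r ^ j - 1 := by
  have := Nat.sub_dvd_pow_sub_pow D.r 1 j
  rwa [one_pow] at this

/-- the derived subgroup is generated by `a ^ (r - 1)` -/
theorem commutator_eq : commutator G = Subgroup.zpowers (D.a ^ (D.r - 1)) := by
  apply le_antisymm
  · rw [commutator_def, Subgroup.commutator_le]
    intro g _ h _
    obtain ⟨i, j, rfl⟩ := D.hgen g
    obtain ⟨i', j', rfl⟩ := D.hgen h
    rw [D.comm_formula]
    obtain ⟨c, hc⟩ := D.r_sub_one_dvd j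
    obtain ⟨c', hc'⟩ := D.r_sub_one_dvd j'
    apply Subgroup.mul_mem
    · rw [hc, mul_comm (D.r - 1), ← mul_assoc, mul_comm, pow_mul]
      exact Subgroup.pow_mem _ (Subgroup.mem_zpowers _) _
    · apply Subgroup.inv_mem
      rw [hc', mul_comm (D.r - 1), ← mul_assoc, mul_comm, pow_mul]
      exact Subgroup.pow_mem _ (Subgroup.mem_zpowers _) _
  · rw [Subgroup.zpowers_le]
    have h1 : D.a ^ (D.r - 1) = ⁅D.b, D.a⁆ := by
      rw [commutatorElement_def, D.hconj]
      have : D.r = (D.r - 1) + 1 := by have := D.hr2; omega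
      conv_rhs => rw [this, pow_succ]
      group
    rw [h1, commutator_def]
    exact Subgroup.commutator_mem_commutator (Subgroup.mem_top _) (Subgroup.mem_top _)

/-- `n`: the exponent of the order of the derived subgroup -/
noncomputable def n : ℕ := D.m - min D.v0 D.m

theorem card_commutator : Nat.card (commutator G) = p ^ D.n := by
  rw [D.commutator_eq, Nat.card_zpowers, D.orderOf_a_pow _ D.r_sub_one_ne_zero]
  rfl

end Val

section Fin

variable [Finite G] [hp : Fact p.Prime]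

theorem commutator_le_zpowers : commutator G ≤ Subgroup.zpowers D.a := by
  rw [D.commutator_eq, Subgroup.zpowers_le]
  exact Subgroup.pow_mem _ (Subgroup.mem_zpowers _) _

/-- subgroups containing `⟨a⟩` are normal -/
theorem normal_of_le (M : Subgroup G) (hM : Subgroup.zpowers D.a ≤ M) : M.Normal := by
  constructor
  intro x hx g
  have h1 : g * x * g⁻¹ = ⁅g, x⁆ * x := by simp [commutatorElement_def]
  rw [h1]
  apply M.mul_mem _ hx
  apply hM
  apply D.commutator_le_zpowers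
  rw [commutator_def]
  exact Subgroup.commutator_mem_commutator (Subgroup.mem_top _) (Subgroup.mem_top _)

/-- the index of a subgroup containing `⟨a⟩` is the order of `b` modulo it -/
theorem index_eq_of_pow_mem_iff (M : Subgroup G) (hM : Subgroup.zpowers D.a ≤ M) (d : ℕ)
    (hd : ∀ j : ℕ, D.b ^ j ∈ M ↔ d ∣ j) : M.index = d := by
  have hn := D.normal_of_le M hM
  set β : G ⧸ M := QuotientGroup.mk D.b with hβ
  have hβpow : ∀ j : ℕ, β ^ j = 1 ↔ d ∣ j := by
    intro j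
    rw [hβ, ← QuotientGroup.mk_pow, QuotientGroup.eq_one_iff, hd]
  have hall : ∀ x : G ⧸ M, x ∈ Subgroup.zpowers β := by
    intro x
    induction x using QuotientGroup.induction_on with
    | H g =>
      obtain ⟨i, j, rfl⟩ := D.hgen g
      have h1 : (QuotientGroup.mk (D.a ^ i) : G ⧸ M) = 1 := by
        rw [QuotientGroup.eq_one_iff]
        exact hM (Subgroup.pow_mem _ (Subgroup.mem_zpowers _) _)
      rw [QuotientGroup.mk_mul, h1, one_mul, QuotientGroup.mk_pow]
      exact Subgroup.pow_mem _ (Subgroup.mem_zpowers _) _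
  have h2 : orderOf β = Nat.card (G ⧸ M) := orderOf_eq_card_of_forall_mem_zpowers hall
  rw [Subgroup.index, ← h2]
  apply Nat.dvd_antisymm
  · rw [orderOf_dvd_iff_pow_eq_one, hβpow]
  · rw [← hβpow, pow_orderOf_eq_one]

theorem n_le_m : D.n ≤ D.m := Nat.sub_le _ _

theorem m_le_iff (t : ℕ) : D.m ≤ D.v0 + t ↔ D.n ≤ t := by
  unfold n
  rcases le_total D.v0 D.m with h | h
  · rw [min_eq_left h]; omega
  · rw [min_eq_right h]; omega

/-- when is `a ^ (i * (r ^ j - 1))` trivial -/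
theorem a_pow_mul_eq_one_iff (hp2 : p ≠ 2) (i j : ℕ) (hi : i ≠ 0) (hj : j ≠ 0) :
    D.a ^ (i * (D.r ^ j - 1)) = 1 ↔ D.n ≤ padicValNat p i + padicValNat p j := by
  have hne : i * (D.r ^ j - 1) ≠ 0 := Nat.mul_ne_zero hi (D.r_pow_sub_one_ne_zero j hj)
  rw [D.a_pow_eq_one_iff_le _ hne, padicValNat.mul hi (D.r_pow_sub_one_ne_zero j hj),
    D.lte hp2 j hj, ← D.m_le_iff]
  constructor <;> intro h <;> omega

theorem pow_dvd_iff_le (t j : ℕ) (hj : j ≠ 0) : p ^ t ∣ j ↔ t ≤ padicValNat p j :=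
  padicValNat_dvd_iff_le hj

theorem b_pow_comm_a_iff (hp2 : p ≠ 2) (j : ℕ) : D.b ^ j * D.a = D.a * D.b ^ j ↔ p ^ D.n ∣ j := by
  rcases Nat.eq_zero_or_pos j with rfl | hjpos
  · simp
  have hj : j ≠ 0 := hjpos.ne'
  have h1 : D.b ^ j * D.a = D.a ^ (D.r ^ j) * D.b ^ j := by
    have := D.b_pow_mul_a_pow 1 j
    rwa [pow_one, one_mul] at this
  rw [h1, mul_left_inj]
  have h2 : D.r ^ j = 1 + 1 * (D.r ^ j - 1) := by
    have := D.r_pow_pos j; omega
  constructor
  · intro h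
    have h3 : D.a ^ (1 * (D.r ^ j - 1)) = 1 := by
      rw [h2, pow_add, pow_one] at h
      exact mul_left_cancel (a := D.a) (by rw [h, mul_one])
    rw [D.a_pow_mul_eq_one_iff hp2 1 j one_ne_zero hj] at h3
    rw [pow_dvd_iff_le _ _ hj]
    simpa using h3
  · intro h
    rw [pow_dvd_iff_le _ _ hj] at h
    have h3 : D.a ^ (1 * (D.r ^ j - 1)) = 1 := by
      rw [D.a_pow_mul_eq_one_iff hp2 1 j one_ne_zero hj]
      simpa using h
    rw [h2, pow_add, pow_one, h3, mul_one]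

theorem a_pow_comm_b_iff (hp2 : p ≠ 2) (i : ℕ) : D.a ^ i * D.b = D.b * D.a ^ i ↔ p ^ D.n ∣ i := by
  rcases Nat.eq_zero_or_pos i with rfl | hipos
  · simp
  have hi : i ≠ 0 := hipos.ne'
  have h1 : D.b * D.a ^ i = D.a ^ (i * D.r) * D.b := by
    have := D.b_pow_mul_a_pow i 1
    rwa [pow_one, pow_one] at this
  rw [h1, mul_left_inj]
  have h2 : i * D.r = i + i * (D.r ^ 1 - 1) := by
    have := D.hr2
    rw [pow_one]
    obtain ⟨c, hc⟩ := Nat.exists_eq_add_of_le (show 1 ≤ D.r by omega)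
    rw [hc]; simp; ring
  have key : D.a ^ (i * (D.r ^ 1 - 1)) = 1 ↔ p ^ D.n ∣ i := by
    rw [D.a_pow_mul_eq_one_iff hp2 i 1 hi one_ne_zero, pow_dvd_iff_le _ _ hi]
    simp
  rw [← key, h2, pow_add]
  constructor
  · intro h
    exact mul_left_cancel (a := D.a ^ i) (by rw [← h, mul_one])
  · intro h
    rw [h, mul_one]

theorem mem_center_iff' (g : G) :
    g ∈ Subgroup.center G ↔ g * D.a = D.a * g ∧ g * D.b = D.b * g := by
  constructor
  · intro h
    exact ⟨(Subgroup.mem_center_iff.mp h D.a).symm, (Subgroup.mem_center_iff.mp h D.b).symm⟩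
  · rintro ⟨h1, h2⟩
    rw [Subgroup.mem_center_iff]
    intro x
    obtain ⟨i, j, rfl⟩ := D.hgen x
    have c1 : Commute g D.a := h1
    have c2 : Commute g D.b := h2
    exact ((c1.pow_right i).mul_right (c2.pow_right j)).eq.symm

theorem pow_mem_center_iff (hp2 : p ≠ 2) (i j : ℕ) :
    D.a ^ i * D.b ^ j ∈ Subgroup.center G ↔ p ^ D.n ∣ i ∧ p ^ D.n ∣ j := by
  rw [D.mem_center_iff']
  have e1 : D.a ^ i * D.b ^ j * D.a = D.a * (D.a ^ i * D.b ^ j) ↔ D.b ^ j * D.a = D.a * D.b ^ j := by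
    have hc : D.a * D.a ^ i = D.a ^ i * D.a := by rw [← pow_succ, ← pow_succ']
    constructor
    · intro h
      have : D.a ^ i * (D.b ^ j * D.a) = D.a ^ i * (D.a * D.b ^ j) := by
        rw [← mul_assoc, h, ← mul_assoc, ← mul_assoc, hc]
      exact mul_left_cancel this
    · intro h
      rw [mul_assoc, h, ← mul_assoc, ← mul_assoc, hc]
  have e2 : D.a ^ i * D.b ^ j * D.b = D.b * (D.a ^ i * D.b ^ j) ↔ D.a ^ i * D.b = D.b * D.a ^ i := by
    have hc : D.b ^ j * D.b = D.b * D.b ^ j := by rw [← pow_succ, ← pow_succ']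
    constructor
    · intro h
      have : (D.a ^ i * D.b) * D.b ^ j = (D.b * D.a ^ i) * D.b ^ j := by
        rw [mul_assoc, ← hc, ← mul_assoc, h, mul_assoc]
      exact mul_right_cancel this
    · intro h
      rw [mul_assoc, hc, ← mul_assoc, h, mul_assoc]
  rw [e1, e2, D.b_pow_comm_a_iff hp2, D.a_pow_comm_b_iff hp2, and_comm]

theorem relIndex_mul_card_mc {X : Type*} [Group X] {K M : Subgroup X} (h : K ≤ M) :
    K.relIndex M * Nat.card K = Nat.card M := by
  have h1 := Subgroup.card_mul_index (K.subgroupOf M)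
  rw [Nat.card_congr (Subgroup.subgroupOfEquivOfLe h).toEquiv] at h1
  rw [mul_comm]; exact h1

theorem mem_zpowers_a_iff (x : G) : x ∈ Subgroup.zpowers D.a ↔ ∃ u : ℕ, x = D.a ^ u := by
  rw [← mem_powers_iff_mem_zpowers, Submonoid.mem_powers_iff]
  constructor
  · rintro ⟨u, rfl⟩; exact ⟨u, rfl⟩
  · rintro ⟨u, rfl⟩; exact ⟨u, rfl⟩

theorem card_zpowers_a : Nat.card (Subgroup.zpowers D.a) = p ^ D.m := by
  rw [Nat.card_zpowers, D.hord]

theorem center_inf_zpowers (hp2 : p ≠ 2) :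
    Subgroup.center G ⊓ Subgroup.zpowers D.a = Subgroup.zpowers (D.a ^ (p ^ D.n)) := by
  apply le_antisymm
  · rintro x ⟨hxZ, hxN⟩
    obtain ⟨u, rfl⟩ := (D.mem_zpowers_a_iff x).mp hxN
    have h := (D.pow_mem_center_iff hp2 u 0).mp (by
      rw [pow_zero, mul_one]; exact hxZ)
    obtain ⟨c, rfl⟩ := h.1
    rw [pow_mul]
    exact Subgroup.pow_mem _ (Subgroup.mem_zpowers _) _
  · rw [Subgroup.zpowers_le]
    refine ⟨?_, Subgroup.pow_mem _ (Subgroup.mem_zpowers _) _⟩
    have := (D.pow_mem_center_iff hp2 (p ^ D.n) 0).mpr ⟨dvd_rfl, dvd_zero _⟩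
    rw [pow_zero, mul_one] at this
    exact this

theorem index_center (hp2 : p ≠ 2) : (Subgroup.center G).index = p ^ D.n * p ^ D.n := by
  set Z := Subgroup.center G with hZ
  set N := Subgroup.zpowers D.a with hN
  -- index of `N ⊔ Z`
  have h1 : (N ⊔ Z).index = p ^ D.n := by
    apply D.index_eq_of_pow_mem_iff _ le_sup_left
    intro j
    constructor
    · intro h
      have hle : N ⊔ Z ≤ Subgroup.centralizer {D.a} := by
        apply sup_le
        · rw [hN, Subgroup.zpowers_le, Subgroup.mem_centralizer_iff]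
          intro y hy
          rw [Set.mem_singleton_iff] at hy
          rw [hy]
        · exact Subgroup.center_le_centralizer _
      have := hle h
      rw [Subgroup.mem_centralizer_iff] at this
      have h2 := this D.a rfl
      exact (D.b_pow_comm_a_iff hp2 j).mp h2.symm
    · intro h
      apply Subgroup.mem_sup_right
      have := (D.pow_mem_center_iff hp2 0 j).mpr ⟨dvd_zero _, h⟩
      rw [pow_zero, one_mul] at this
      exact this
  -- relative index of `Z` in `N ⊔ Z`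
  have h2 : Z.relIndex (N ⊔ Z) = p ^ D.n := by
    rw [Subgroup.relIndex_sup_right, ← Subgroup.inf_relIndex_right, D.center_inf_zpowers hp2]
    have hle : Subgroup.zpowers (D.a ^ (p ^ D.n)) ≤ N := by
      rw [Subgroup.zpowers_le]; exact Subgroup.pow_mem _ (Subgroup.mem_zpowers _) _
    have h3 := relIndex_mul_card_mc hle
    have h4 : Nat.card (Subgroup.zpowers (D.a ^ (p ^ D.n))) = p ^ (D.m - D.n) := by
      rw [Nat.card_zpowers, D.orderOf_a_pow _ (pow_ne_zero _ hp.out.ne_zero),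
        padicValNat.prime_pow, min_eq_left D.n_le_m]
    rw [h4, D.card_zpowers_a] at h3
    have h5 : p ^ D.m = p ^ D.n * p ^ (D.m - D.n) := by
      rw [← pow_add, Nat.add_sub_cancel' D.n_le_m]
    rw [h5] at h3
    exact Nat.eq_of_mul_eq_mul_right (pow_pos hp.out.pos _) h3
  rw [← Subgroup.relIndex_mul_index (le_sup_right : Z ≤ N ⊔ Z), h1, h2]

/-- for `M ⊇ ⟨a⟩`: `b ^ j ∈ M` iff the index of `M` divides `j` -/
theorem pow_mem_iff_index_dvd (M : Subgroup G) (hM : Subgroup.zpowers D.a ≤ M) (j : ℕ) :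
    D.b ^ j ∈ M ↔ M.index ∣ j := by
  have hn := D.normal_of_le M hM
  set β : G ⧸ M := QuotientGroup.mk D.b with hβ
  have hall : ∀ x : G ⧸ M, x ∈ Subgroup.zpowers β := by
    intro x
    induction x using QuotientGroup.induction_on with
    | H g =>
      obtain ⟨i, j, rfl⟩ := D.hgen g
      have h1 : (QuotientGroup.mk (D.a ^ i) : G ⧸ M) = 1 := by
        rw [QuotientGroup.eq_one_iff]
        exact hM (Subgroup.pow_mem _ (Subgroup.mem_zpowers _) _)
      rw [QuotientGroup.mk_mul, h1, one_mul, QuotientGroup.mk_pow]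
      exact Subgroup.pow_mem _ (Subgroup.mem_zpowers _) _
  have h2 : orderOf β = Nat.card (G ⧸ M) := orderOf_eq_card_of_forall_mem_zpowers hall
  rw [Subgroup.index, ← h2, orderOf_dvd_iff_pow_eq_one, hβ, ← QuotientGroup.mk_pow,
    QuotientGroup.eq_one_iff]

/-- `a ^ (p ^ v(u))` is a power of `a ^ u` -/
theorem zpowers_a_pow_eq (u : ℕ) (hu : u ≠ 0) :
    Subgroup.zpowers (D.a ^ u) = Subgroup.zpowers (D.a ^ (p ^ padicValNat p u)) := by
  apply Subgroup.eq_of_le_of_card_ge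
  · rw [Subgroup.zpowers_le]
    obtain ⟨c, hc⟩ := (padicValNat_dvd_iff_le (p := p) hu).mpr (le_refl _)
    have : D.a ^ u = (D.a ^ (p ^ padicValNat p u)) ^ c := by rw [← pow_mul, ← hc]
    rw [this]
    exact Subgroup.pow_mem _ (Subgroup.mem_zpowers _) _
  · rw [Nat.card_zpowers, Nat.card_zpowers, D.orderOf_a_pow u hu,
      D.orderOf_a_pow _ (pow_ne_zero _ hp.out.ne_zero), padicValNat.prime_pow]

/-- subgroups of `⟨a⟩` -/
theorem exists_inf_zpowers (L : Subgroup G) :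
    ∃ α : ℕ, α ≤ D.m ∧ L ⊓ Subgroup.zpowers D.a = Subgroup.zpowers (D.a ^ (p ^ α)) := by
  classical
  have hex : ∃ t : ℕ, D.a ^ (p ^ t) ∈ L := ⟨D.m, by rw [← D.hord, pow_orderOf_eq_one]; exact L.one_mem⟩
  refine ⟨Nat.find hex, ?_, ?_⟩
  · apply Nat.find_min' hex
    rw [← D.hord, pow_orderOf_eq_one]; exact L.one_mem
  · apply le_antisymm
    · rintro x ⟨hxL, hxN⟩
      obtain ⟨u, rfl⟩ := (D.mem_zpowers_a_iff x).mp hxN
      rcases Nat.eq_zero_or_pos u with rfl | hupos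
      · rw [pow_zero]; exact Subgroup.one_mem _
      have hu : u ≠ 0 := hupos.ne'
      have h1 : D.a ^ (p ^ padicValNat p u) ∈ L := by
        have : D.a ^ (p ^ padicValNat p u) ∈ Subgroup.zpowers (D.a ^ u) := by
          rw [D.zpowers_a_pow_eq u hu]; exact Subgroup.mem_zpowers _
        exact (Subgroup.zpowers_le.mpr hxL) this
      have h2 : Nat.find hex ≤ padicValNat p u := Nat.find_min' hex h1
      have h3 : p ^ Nat.find hex ∣ u := (padicValNat_dvd_iff_le hu).mpr h2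
      obtain ⟨c, hc⟩ := h3
      have : D.a ^ u = (D.a ^ (p ^ Nat.find hex)) ^ c := by rw [← pow_mul, ← hc]
      rw [this]
      exact Subgroup.pow_mem _ (Subgroup.mem_zpowers _) _
    · rw [Subgroup.zpowers_le]
      exact ⟨Nat.find_spec hex, Subgroup.pow_mem _ (Subgroup.mem_zpowers _) _⟩

/-- the second isomorphism theorem for cardinalities, `N = ⟨a⟩` -/
theorem relIndex_sup_eq (L : Subgroup G) (α : ℕ) (hα : α ≤ D.m)
    (hL : L ⊓ Subgroup.zpowers D.a = Subgroup.zpowers (D.a ^ (p ^ α))) :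
    L.relIndex (L ⊔ Subgroup.zpowers D.a) = p ^ α := by
  set N := Subgroup.zpowers D.a with hN
  have h1 : N.relIndex (L ⊔ N) = N.relIndex L := Subgroup.relIndex_sup_right L N
  have h2 := relIndex_mul_card_mc (le_sup_right : N ≤ L ⊔ N)
  have h3 := relIndex_mul_card_mc (le_sup_left : L ≤ L ⊔ N)
  have h4 := relIndex_mul_card_mc (inf_le_left : L ⊓ N ≤ L)
  rw [Subgroup.inf_relIndex_left] at h4
  have h5 : Nat.card ↥(L ⊓ N) = p ^ (D.m - α) := by
    rw [hL, Nat.card_zpowers, D.orderOf_a_pow _ (pow_ne_zero _ hp.out.ne_zero),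
      padicValNat.prime_pow, min_eq_left hα]
  have h6 : Nat.card N = p ^ D.m := D.card_zpowers_a
  rw [h1] at h2
  -- |L ⊔ N| = N.relIndex L * |N| ; |L| = N.relIndex L * |L ⊓ N|
  have hLpos : 0 < Nat.card L := Nat.card_pos
  have hrel : 0 < N.relIndex L := by
    rcases Nat.eq_zero_or_pos (N.relIndex L) with h | h
    · rw [h, zero_mul] at h4; omega
    · exact h
  have h7 : L.relIndex (L ⊔ N) * p ^ (D.m - α) = p ^ α * p ^ (D.m - α) := by
    have e1 : L.relIndex (L ⊔ N) * (N.relIndex L * p ^ (D.m - α)) = N.relIndex L * p ^ D.m := by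
      rw [← h5, h4, h3, ← h2, h6]
    have e2 : p ^ D.m = p ^ α * p ^ (D.m - α) := by
      rw [← pow_add, Nat.add_sub_cancel' hα]
    rw [e2] at e1
    have e3 : N.relIndex L * (L.relIndex (L ⊔ N) * p ^ (D.m - α)) =
        N.relIndex L * (p ^ α * p ^ (D.m - α)) := by
      rw [← e1]; ring
    exact Nat.eq_of_mul_eq_mul_left hrel e3
  exact Nat.eq_of_mul_eq_mul_right (pow_pos hp.out.pos _) h7

/-- every subgroup inherits coordinates -/
theorem exists_sub_MC (hG : IsPGroup p G) (L : Subgroup G) :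
    ∃ (α β : ℕ) (DL : MC p ↥L), α ≤ D.m ∧ DL.m = D.m - α ∧ DL.r = D.r ^ (p ^ β) ∧
      L.index = p ^ (α + β) := by
  obtain ⟨α, hα, hLN⟩ := D.exists_inf_zpowers L
  set N := Subgroup.zpowers D.a with hN
  set M := L ⊔ N with hM
  have hNM : N ≤ M := le_sup_right
  -- the index of `M` is a power of `p`
  have hJ : ∃ β : ℕ, M.index = p ^ β := by
    obtain ⟨k, hk⟩ := hG.exists_card_eq
    have hdvd : M.index ∣ Nat.card G := Subgroup.index_dvd_card M
    rw [hk] at hdvd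
    obtain ⟨β, _, hβ⟩ := (Nat.dvd_prime_pow hp.out).mp hdvd
    exact ⟨β, hβ⟩
  obtain ⟨β, hβ⟩ := hJ
  set J := p ^ β with hJdef
  have hJpos : 0 < J := pow_pos hp.out.pos _
  -- `b ^ J ∈ M`
  have hbJ : D.b ^ J ∈ M := (D.pow_mem_iff_index_dvd M hNM J).mpr (by rw [hβ])
  have hnorm : N.Normal := D.normal_zpowers_a
  rw [hM, sup_comm, Subgroup.mem_sup_of_normal_left] at hbJ
  obtain ⟨y, hyN, z, hzL, hyz⟩ := hbJ
  obtain ⟨w, hw⟩ := (D.mem_zpowers_a_iff y⁻¹).mp (N.inv_mem hyN)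
  have hz : z = D.a ^ w * D.b ^ J := by rw [← hw, ← hyz]; group
  -- the new generators
  have haL : D.a ^ (p ^ α) ∈ L := by
    have : D.a ^ (p ^ α) ∈ L ⊓ N := by rw [hLN]; exact Subgroup.mem_zpowers _
    exact this.1
  refine ⟨α, β, ⟨⟨D.a ^ (p ^ α), haL⟩, ⟨z, hzL⟩, D.m - α, D.r ^ J, ?_, ?_, ?_, ?_, ?_⟩, hα, rfl, rfl, ?_⟩
  · -- order
    rw [Subgroup.orderOf_mk, D.orderOf_a_pow _ (pow_ne_zero _ hp.out.ne_zero),
      padicValNat.prime_pow, min_eq_left hα]
  · -- conjugation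
    apply Subtype.ext
    simp only [Subgroup.coe_mul, Subgroup.coe_inv, Subgroup.coe_pow]
    rw [hz]
    have h1 := D.conj_pow_pow (p ^ α) J
    calc D.a ^ w * D.b ^ J * D.a ^ p ^ α * (D.a ^ w * D.b ^ J)⁻¹
        = D.a ^ w * (D.b ^ J * D.a ^ p ^ α * (D.b ^ J)⁻¹) * (D.a ^ w)⁻¹ := by group
      _ = D.a ^ w * D.a ^ (p ^ α * D.r ^ J) * (D.a ^ w)⁻¹ := by rw [h1]
      _ = D.a ^ (p ^ α * D.r ^ J) := by
          rw [((Commute.refl D.a).pow_pow w (p ^ α * D.r ^ J)).eq]; group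
      _ = (D.a ^ p ^ α) ^ D.r ^ J := by rw [pow_mul]
  · -- r ≡ 1
    rw [Nat.pow_mod, D.hr, one_pow, Nat.mod_eq_of_lt hp.out.one_lt]
  · -- 2 ≤ r ^ J
    calc 2 ≤ D.r := D.hr2
      _ = D.r ^ 1 := (pow_one _).symm
      _ ≤ D.r ^ J := Nat.pow_le_pow_right (le_trans (by norm_num) D.hr2) hJpos
  · -- generation
    rintro ⟨l, hl⟩
    obtain ⟨u, j, rfl⟩ := D.hgen l
    have hbj : D.b ^ j ∈ M := by
      have h1 : D.b ^ j = (D.a ^ u)⁻¹ * (D.a ^ u * D.b ^ j) := by group
      rw [h1]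
      exact M.mul_mem (M.inv_mem (hNM (Subgroup.pow_mem _ (Subgroup.mem_zpowers _) _)))
        (le_sup_left (a := L) hl)
    rw [D.pow_mem_iff_index_dvd M hNM, hβ] at hbj
    obtain ⟨q, rfl⟩ := hbj
    -- `z ^ q`
    have hzq := pair_pow D.hconj w J q
    rw [← hz] at hzq
    set E := w * ∑ t ∈ Finset.range q, (D.r ^ J) ^ t with hE
    have h2 : D.a ^ u * D.b ^ (J * q) * (z ^ q)⁻¹ ∈ L ⊓ N := by
      constructor
      · exact L.mul_mem hl (L.inv_mem (L.pow_mem hzL q))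
      · rw [hzq]
        have : D.a ^ u * D.b ^ (J * q) * (D.a ^ E * D.b ^ (J * q))⁻¹ = D.a ^ u * (D.a ^ E)⁻¹ := by
          group
        rw [this]
        exact N.mul_mem (Subgroup.pow_mem _ (Subgroup.mem_zpowers _) _)
          (N.inv_mem (Subgroup.pow_mem _ (Subgroup.mem_zpowers _) _))
    rw [hLN, ← mem_powers_iff_mem_zpowers, Submonoid.mem_powers_iff] at h2
    obtain ⟨i, hi⟩ := h2
    refine ⟨i, q, ?_⟩
    apply Subtype.ext
    simp only [Subgroup.coe_mul, Subgroup.coe_pow]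
    rw [hi]; group
  · -- index
    rw [← Subgroup.relIndex_mul_index (le_sup_left : L ≤ L ⊔ N), D.relIndex_sup_eq L α hα hLN,
      ← hM, hβ, pow_add]

theorem isMulCommutative_iff_n_eq_zero : IsMulCommutative G ↔ D.n = 0 := by
  have hcard := D.card_commutator
  constructor
  · intro h
    have hbot : commutator G = ⊥ := by
      rw [commutator_def, eq_bot_iff, Subgroup.commutator_le]
      intro x _ y _
      rw [Subgroup.mem_bot, commutatorElement_eq_one_iff_commute]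
      exact h.is_comm.comm x y
    rw [hbot, Subgroup.card_bot] at hcard
    by_contra hne
    have : 1 < p ^ D.n := Nat.one_lt_pow hne hp.out.one_lt
    omega
  · intro h
    rw [h, pow_zero] at hcard
    have hbot := Subgroup.card_eq_one.mp hcard
    refine ⟨⟨fun x y => ?_⟩⟩
    have hmem : ⁅x, y⁆ ∈ commutator G := by
      rw [commutator_def]
      exact Subgroup.commutator_mem_commutator (Subgroup.mem_top x) (Subgroup.mem_top y)
    rw [hbot, Subgroup.mem_bot, commutatorElement_eq_one_iff_commute] at hmem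
    exact hmem.eq

theorem sub_n (hp2 : p ≠ 2) {L : Type*} [Group L] (DL : MC p L) (α β : ℕ)
    (h1 : DL.m = D.m - α) (h2 : DL.r = D.r ^ (p ^ β)) :
    DL.n = (D.m - α) - min (D.v0 + β) (D.m - α) := by
  have hv : DL.v0 = D.v0 + β := by
    unfold v0
    rw [h2]
    have := D.lte hp2 (p ^ β) (pow_ne_zero _ hp.out.ne_zero)
    rw [padicValNat.prime_pow] at this
    exact this
  unfold n
  rw [hv, h1]

theorem card_eq_pow_n_mul : Nat.card G = p ^ D.n * (commutator G).index := by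
  rw [← D.card_commutator, Subgroup.card_mul_index]

/-- comparing cardinalities through powers of `p` -/
theorem le_iff_of_pow_mul_eq {A B X Y : ℕ} (hY : 0 < Y)
    (h : p ^ A * X = p ^ B * Y) : X ≤ Y ↔ B ≤ A := by
  have hp1 : 1 < p := hp.out.one_lt
  constructor
  · intro hXY
    by_contra hcon
    push Not at hcon
    have e : p ^ B = p ^ A * p ^ (B - A) := by rw [← pow_add, Nat.add_sub_cancel' hcon.le]
    rw [e, mul_assoc] at h
    have h2 : X = p ^ (B - A) * Y := Nat.eq_of_mul_eq_mul_left (pow_pos hp.out.pos _) h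
    have h3 : 1 < p ^ (B - A) := Nat.one_lt_pow (by omega) hp1
    have : Y < p ^ (B - A) * Y := by
      calc Y = 1 * Y := (one_mul Y).symm
        _ < p ^ (B - A) * Y := Nat.mul_lt_mul_of_pos_right h3 hY
    omega
  · intro hBA
    have e : p ^ A = p ^ B * p ^ (A - B) := by rw [← pow_add, Nat.add_sub_cancel' hBA]
    rw [e, mul_assoc] at h
    have h2 : p ^ (A - B) * X = Y := Nat.eq_of_mul_eq_mul_left (pow_pos hp.out.pos _) h
    rw [← h2]
    calc X = 1 * X := (one_mul X).symm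
      _ ≤ p ^ (A - B) * X := Nat.mul_le_mul_right _ (Nat.one_le_pow _ _ hp.out.pos)

include D in
/-- the abelian subgroups of a metacyclic `p`-group, `p` odd -/
theorem sub_comm_iff (hp2 : p ≠ 2) (hG : IsPGroup p G) (L : Subgroup G) :
    IsMulCommutative ↥L ↔ Nat.card ↥L ≤ (commutator G).index := by
  obtain ⟨α, β, DL, hα, h1, h2, hidx⟩ := D.exists_sub_MC hG L
  rw [DL.isMulCommutative_iff_n_eq_zero, D.sub_n hp2 DL α β h1 h2]
  have hcard : p ^ (α + β) * Nat.card L = p ^ D.n * (commutator G).index := by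
    rw [← hidx, mul_comm, Subgroup.card_mul_index, D.card_eq_pow_n_mul]
  have hidxpos : 0 < (commutator G).index := by
    rcases Nat.eq_zero_or_pos (commutator G).index with h | h
    · exact absurd h Subgroup.index_ne_zero_of_finite
    · exact h
  rw [le_iff_of_pow_mul_eq hidxpos hcard]
  unfold n
  rcases le_total D.v0 D.m with h | h
  · rw [min_eq_left h]
    constructor
    · intro h3
      rcases le_total (D.v0 + β) (D.m - α) with h4 | h4
      · rw [min_eq_left h4] at h3; omega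
      · omega
    · intro h3
      rcases le_total (D.v0 + β) (D.m - α) with h4 | h4
      · rw [min_eq_left h4]; omega
      · rw [min_eq_right h4]; omega
  · rw [min_eq_right h]
    constructor
    · intro _; omega
    · intro _
      rw [min_eq_right (by omega)]; omega



include D in
theorem sub_maximal_iff (hp2 : p ≠ 2) (hG : IsPGroup p G) (L : Subgroup G) :
    Maximal (fun K : Subgroup G => IsMulCommutative ↥K) L ↔
      Nat.card ↥L = (commutator G).index := by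
  constructor
  · rintro ⟨hLc, hmax⟩
    have hle := (D.sub_comm_iff hp2 hG L).mp hLc
    by_contra hne
    have hlt : Nat.card L < (commutator G).index := lt_of_le_of_ne hle hne
    obtain ⟨k, hk⟩ := (hG.to_subgroup L).exists_card_eq
    -- the index of the commutator subgroup is a power of `p`
    obtain ⟨g, hg⟩ := hG.exists_card_eq
    have hdvd : (commutator G).index ∣ Nat.card G := Subgroup.index_dvd_card _
    rw [hg] at hdvd
    obtain ⟨t, _, ht⟩ := (Nat.dvd_prime_pow hp.out).mp hdvd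
    rw [hk, ht] at hlt
    have hkt : k < t := (Nat.pow_lt_pow_iff_right hp.out.one_lt).mp hlt
    have hdvd2 : p ^ (k + 1) ∣ Nat.card G := by
      have h1 : p ^ (k + 1) ∣ p ^ t := pow_dvd_pow p hkt
      exact h1.trans (ht ▸ Subgroup.index_dvd_card _)
    obtain ⟨K, hKcard, hLK⟩ := Sylow.exists_subgroup_card_pow_succ hdvd2 hk
    have hKc : IsMulCommutative ↥K := by
      rw [D.sub_comm_iff hp2 hG K, hKcard, ht]
      exact Nat.pow_le_pow_right hp.out.pos hkt
    have hKL : K ≤ L := hmax hKc hLK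
    have := Subgroup.card_le_of_le hKL
    rw [hKcard, hk] at this
    have : p ^ k < p ^ (k + 1) := Nat.pow_lt_pow_right hp.out.one_lt (Nat.lt_succ_self k)
    omega
  · intro hcard
    refine ⟨(D.sub_comm_iff hp2 hG L).mpr hcard.le, ?_⟩
    intro K hKc hLK
    have h1 := (D.sub_comm_iff hp2 hG K).mp hKc
    have h2 : Nat.card K ≤ Nat.card L := by rw [hcard]; exact h1
    have := Subgroup.eq_of_le_of_card_ge hLK h2
    rw [this]

include D in
theorem central_product_of_not_comm (hp2 : p ≠ 2) (hG : IsPGroup p G) (R : Subgroup G)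
    (hR : ¬ IsMulCommutative ↥R) :
    Nat.card ↥R * Nat.card ↥(Subgroup.center ↥R) = (commutator G).index ^ 2 := by
  obtain ⟨α, β, DL, hα, h1, h2, hidx⟩ := D.exists_sub_MC hG R
  have hnR : DL.n ≠ 0 := fun h => hR (DL.isMulCommutative_iff_n_eq_zero.mpr h)
  have hnR' := D.sub_n hp2 DL α β h1 h2
  have hcard : p ^ (α + β) * Nat.card R = p ^ D.n * (commutator G).index := by
    rw [← hidx, mul_comm, Subgroup.card_mul_index, D.card_eq_pow_n_mul]
  -- `n = n_R + α + β`
  have hn : D.n = DL.n + (α + β) := by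
    rw [hnR'] at hnR ⊢
    unfold n
    rcases le_total (D.v0 + β) (D.m - α) with h4 | h4
    · rw [min_eq_left h4] at hnR ⊢
      rw [min_eq_left (by omega)]; omega
    · rw [min_eq_right h4] at hnR; omega
  have hcardR : Nat.card R = p ^ DL.n * (commutator G).index := by
    have h5 : p ^ (α + β) * Nat.card R = p ^ (α + β) * (p ^ DL.n * (commutator G).index) := by
      rw [hcard, hn, pow_add]; ring
    exact Nat.eq_of_mul_eq_mul_left (pow_pos hp.out.pos _) h5
  have hZ := DL.index_center hp2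
  have h3 := Subgroup.card_mul_index (Subgroup.center ↥R)
  rw [hZ] at h3
  have h4 : (Nat.card ↥R * Nat.card ↥(Subgroup.center ↥R)) * (p ^ DL.n * p ^ DL.n) =
      (commutator G).index ^ 2 * (p ^ DL.n * p ^ DL.n) := by
    calc (Nat.card ↥R * Nat.card ↥(Subgroup.center ↥R)) * (p ^ DL.n * p ^ DL.n)
        = Nat.card ↥R * (Nat.card ↥(Subgroup.center ↥R) * (p ^ DL.n * p ^ DL.n)) := by ring
      _ = Nat.card ↥R * Nat.card ↥R := by rw [h3]
      _ = (commutator G).index ^ 2 * (p ^ DL.n * p ^ DL.n) := by rw [hcardR]; ring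
  exact Nat.eq_of_mul_eq_mul_right (Nat.mul_pos (pow_pos hp.out.pos _) (pow_pos hp.out.pos _)) h4

theorem central_product_of_comm {X : Type*} [Group X] (R : Subgroup X) (hR : IsMulCommutative ↥R) :
    Nat.card ↥R * Nat.card ↥(Subgroup.center ↥R) = Nat.card ↥R ^ 2 := by
  have : Subgroup.center ↥R = ⊤ := by
    rw [eq_top_iff]
    intro x _
    rw [Subgroup.mem_center_iff]
    intro y
    exact hR.is_comm.comm y x
  rw [this, Subgroup.card_top, sq]

/-- geometric sums of powers of `r ^ j` over `p ^ s` terms are divisible by `p ^ s` -/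
theorem geom_sum_dvd (hp2 : p ≠ 2) (j s : ℕ) :
    p ^ s ∣ ∑ t ∈ Finset.range (p ^ s), (D.r ^ j) ^ t := by
  rcases Nat.eq_zero_or_pos j with rfl | hjpos
  · simp
  have hj : j ≠ 0 := hjpos.ne'
  have h1 := geom_sum_mul_of_one_le (D.r_pow_pos j) (p ^ s)
  rw [← pow_mul] at h1
  have hjs : j * p ^ s ≠ 0 := Nat.mul_ne_zero hj (pow_ne_zero _ hp.out.ne_zero)
  have hS : ∑ t ∈ Finset.range (p ^ s), (D.r ^ j) ^ t ≠ 0 := by
    intro h0
    rw [h0, zero_mul] at h1
    exact D.r_pow_sub_one_ne_zero _ hjs h1.symm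
  have h2 := congrArg (padicValNat p) h1
  rw [padicValNat.mul hS (D.r_pow_sub_one_ne_zero j hj), D.lte hp2 j hj, D.lte hp2 _ hjs,
    padicValNat.mul hj (pow_ne_zero _ hp.out.ne_zero), padicValNat.prime_pow] at h2
  rw [padicValNat_dvd_iff_le hS]
  omega

theorem hconj_pw (s : ℕ) :
    D.b ^ (p ^ s) * D.a ^ (p ^ s) * (D.b ^ (p ^ s))⁻¹ = (D.a ^ (p ^ s)) ^ (D.r ^ (p ^ s)) := by
  rw [D.conj_pow_pow, pow_mul]

/-- the subgroup `⟨a ^ (p ^ s)⟩⟨b ^ (p ^ s)⟩` -/
noncomputable def pw (s : ℕ) : Subgroup G := pairSub (D.hconj_pw s)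

theorem mem_pw (s : ℕ) (g : G) :
    g ∈ D.pw s ↔ ∃ i j : ℕ, g = D.a ^ (p ^ s * i) * D.b ^ (p ^ s * j) := by
  unfold pw
  rw [mem_pairSub]
  constructor
  · rintro ⟨i, j, rfl⟩; exact ⟨i, j, by rw [pow_mul, pow_mul]⟩
  · rintro ⟨i, j, rfl⟩; exact ⟨i, j, by rw [pow_mul, pow_mul]⟩

theorem pw_zero : D.pw 0 = ⊤ := by
  rw [eq_top_iff]
  intro g _
  obtain ⟨i, j, rfl⟩ := D.hgen g
  rw [D.mem_pw]
  exact ⟨i, j, by simp⟩

/-- the subgroup generated by the `p ^ s`-th powers -/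
theorem closure_pow_eq_pw (hp2 : p ≠ 2) (s : ℕ) :
    Subgroup.closure {x : G | ∃ y : G, y ^ p ^ s = x} = D.pw s := by
  apply le_antisymm
  · rw [Subgroup.closure_le]
    rintro x ⟨y, rfl⟩
    obtain ⟨i, j, rfl⟩ := D.hgen y
    rw [pair_pow D.hconj, SetLike.mem_coe, D.mem_pw]
    obtain ⟨c, hc⟩ := D.geom_sum_dvd hp2 j s
    refine ⟨i * c, j, ?_⟩
    rw [hc]
    congr 2 <;> ring
  · intro g hg
    obtain ⟨i, j, rfl⟩ := (D.mem_pw s g).mp hg
    apply Subgroup.mul_mem
    · apply Subgroup.subset_closure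
      exact ⟨D.a ^ i, by rw [← pow_mul, mul_comm]⟩
    · apply Subgroup.subset_closure
      exact ⟨D.b ^ j, by rw [← pow_mul, mul_comm]⟩

theorem pow_s_mul_dvd (hp2 : p ≠ 2) (j s : ℕ) : (D.r - 1) * p ^ s ∣ D.r ^ (p ^ s * j) - 1 := by
  have h1 := geom_sum_mul_of_one_le (D.r_pow_pos j) (p ^ s)
  rw [← pow_mul, mul_comm j] at h1
  rw [← h1, mul_comm (D.r - 1)]
  exact Nat.mul_dvd_mul (D.geom_sum_dvd hp2 j s) (D.r_sub_one_dvd j)

theorem card_zpowers_comm_pw (s : ℕ) (hs : s ≤ D.n) :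
    Nat.card (Subgroup.zpowers (D.a ^ ((D.r - 1) * p ^ s))) = p ^ (D.n - s) := by
  have hne : (D.r - 1) * p ^ s ≠ 0 := Nat.mul_ne_zero D.r_sub_one_ne_zero (pow_ne_zero _ hp.out.ne_zero)
  rw [Nat.card_zpowers, D.orderOf_a_pow _ hne,
    padicValNat.mul D.r_sub_one_ne_zero (pow_ne_zero _ hp.out.ne_zero), padicValNat.prime_pow]
  congr 1
  have : padicValNat p (D.r - 1) = D.v0 := rfl
  rw [this]
  unfold n at hs ⊢
  rcases le_total D.v0 D.m with h | h
  · rw [min_eq_left h] at hs ⊢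
    rw [min_eq_left (by omega)]; omega
  · rw [min_eq_right h] at hs ⊢
    rw [min_eq_right (by omega)]; omega

theorem index_centralizer_pw_le (hp2 : p ≠ 2) (s : ℕ) (hs : s ≤ D.n) (g : G) (hg : g ∈ D.pw s) :
    (Subgroup.centralizer {g}).index ≤ p ^ (D.n - s) := by
  rw [← D.card_zpowers_comm_pw s hs]
  apply index_centralizer_le
  intro x
  obtain ⟨u, w, rfl⟩ := D.hgen x
  obtain ⟨i, j, rfl⟩ := (D.mem_pw s g).mp hg
  rw [D.comm_formula]
  apply Subgroup.mul_mem
  · obtain ⟨c, hc⟩ := D.r_sub_one_dvd w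
    have : p ^ s * i * (D.r ^ w - 1) = (D.r - 1) * p ^ s * (i * c) := by rw [hc]; ring
    rw [this, pow_mul D.a ((D.r - 1) * p ^ s) (i * c)]
    exact Subgroup.pow_mem _ (Subgroup.mem_zpowers _) _
  · apply Subgroup.inv_mem
    obtain ⟨c, hc⟩ := D.pow_s_mul_dvd hp2 j s
    have : u * (D.r ^ (p ^ s * j) - 1) = (D.r - 1) * p ^ s * (u * c) := by rw [hc]; ring
    rw [this, pow_mul D.a ((D.r - 1) * p ^ s) (u * c)]
    exact Subgroup.pow_mem _ (Subgroup.mem_zpowers _) _

theorem le_index_centralizer_pw (hp2 : p ≠ 2) (s : ℕ) (hs : s < D.n) (g : G) (hg : g ∈ D.pw s)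
    (hg' : g ∉ D.pw (s + 1)) : p ^ (D.n - s) ≤ (Subgroup.centralizer {g}).index := by
  obtain ⟨i, j, rfl⟩ := (D.mem_pw s g).mp hg
  have hnot : ¬ (p ∣ i ∧ p ∣ j) := by
    rintro ⟨⟨i', rfl⟩, ⟨j', rfl⟩⟩
    apply hg'
    rw [D.mem_pw]
    exact ⟨i', j', by rw [pow_succ]; congr 2 <;> ring⟩
  have hval : ∀ d : ℕ, 0 < d → d < p ^ (D.n - s) → ¬ (D.n ≤ padicValNat p d + s) := by
    intro d hd hlt hle
    have h1 : p ^ (D.n - s) ∣ d := (padicValNat_dvd_iff_le hd.ne').mpr (by omega)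
    have := Nat.le_of_dvd hd h1
    omega
  by_cases hj : p ∣ j
  · have hi : ¬ p ∣ i := fun h => hnot ⟨h, hj⟩
    have hi0 : i ≠ 0 := fun h => hi (h ▸ dvd_zero p)
    apply le_index_centralizer _ D.b
    intro d hd hlt hcomm
    have h1 : ⁅D.a ^ 0 * D.b ^ d, D.a ^ (p ^ s * i) * D.b ^ (p ^ s * j)⁆ = 1 := by
      rw [commutatorElement_eq_one_iff_commute, pow_zero, one_mul]
      exact hcomm
    rw [D.comm_formula, zero_mul, pow_zero, inv_one, mul_one] at h1
    have hne : p ^ s * i ≠ 0 := Nat.mul_ne_zero (pow_ne_zero _ hp.out.ne_zero) hi0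
    rw [D.a_pow_mul_eq_one_iff hp2 _ d hne hd.ne',
      padicValNat.mul (pow_ne_zero _ hp.out.ne_zero) hi0, padicValNat.prime_pow,
      padicValNat.eq_zero_of_not_dvd hi] at h1
    exact hval d hd hlt (by omega)
  · have hj0 : j ≠ 0 := fun h => hj (h ▸ dvd_zero p)
    apply le_index_centralizer _ D.a
    intro d hd hlt hcomm
    have h1 : ⁅D.a ^ d * D.b ^ 0, D.a ^ (p ^ s * i) * D.b ^ (p ^ s * j)⁆ = 1 := by
      rw [commutatorElement_eq_one_iff_commute, pow_zero, mul_one]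
      exact hcomm
    rw [D.comm_formula, pow_zero, Nat.sub_self, mul_zero, pow_zero, one_mul, inv_eq_one] at h1
    have hne : p ^ s * j ≠ 0 := Nat.mul_ne_zero (pow_ne_zero _ hp.out.ne_zero) hj0
    rw [D.a_pow_mul_eq_one_iff hp2 d _ hd.ne' hne,
      padicValNat.mul (pow_ne_zero _ hp.out.ne_zero) hj0, padicValNat.prime_pow,
      padicValNat.eq_zero_of_not_dvd hj] at h1
    exact hval d hd hlt (by omega)

theorem mem_pw_iff_index_le (hp2 : p ≠ 2) (s : ℕ) (hs : s ≤ D.n) (g : G) :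
    g ∈ D.pw s ↔ (Subgroup.centralizer {g}).index ≤ p ^ (D.n - s) := by
  classical
  constructor
  · exact D.index_centralizer_pw_le hp2 s hs g
  · intro hle
    by_contra hg
    have hex : ∃ t : ℕ, g ∉ D.pw t := ⟨s, hg⟩
    set t0 := Nat.find hex with ht0
    have ht0s : t0 ≤ s := Nat.find_min' hex hg
    have ht0spec : g ∉ D.pw t0 := Nat.find_spec hex
    have ht0pos : t0 ≠ 0 := by
      intro h0
      rw [h0, D.pw_zero] at ht0spec
      exact ht0spec (Subgroup.mem_top g)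
    obtain ⟨s', hs'⟩ := Nat.exists_eq_succ_of_ne_zero ht0pos
    have hmem : g ∈ D.pw s' := by
      by_contra hcon
      have := Nat.find_min' hex hcon
      omega
    rw [hs'] at ht0spec
    have hlow := D.le_index_centralizer_pw hp2 s' (by omega) g hmem ht0spec
    have hlt : p ^ (D.n - s) < p ^ (D.n - s') :=
      Nat.pow_lt_pow_right hp.out.one_lt (by omega)
    omega

theorem pw_n_eq_center (hp2 : p ≠ 2) : D.pw D.n = Subgroup.center G := by
  ext g
  rw [D.mem_pw_iff_index_le hp2 D.n (le_refl _) g, Nat.sub_self, pow_zero]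
  constructor
  · intro h
    have h1 : (Subgroup.centralizer {g}).index = 1 := by
      have : (Subgroup.centralizer {g}).index ≠ 0 := Subgroup.index_ne_zero_of_finite
      omega
    rw [Subgroup.index_eq_one] at h1
    rw [Subgroup.mem_center_iff]
    intro x
    have hx : x ∈ Subgroup.centralizer {g} := by rw [h1]; exact Subgroup.mem_top x
    rw [Subgroup.mem_centralizer_iff] at hx
    exact (hx g rfl).symm
  · intro h
    have h1 : Subgroup.centralizer {g} = ⊤ := by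
      rw [eq_top_iff]
      intro x _
      rw [Subgroup.mem_centralizer_iff]
      intro y hy
      rw [Set.mem_singleton_iff] at hy
      rw [hy]
      exact (Subgroup.mem_center_iff.mp h x).symm
    rw [h1, Subgroup.index_top]

/-- `p ^ n` divides the order of `b` modulo `⟨a⟩` -/
theorem pow_n_dvd_index (hp2 : p ≠ 2) : p ^ D.n ∣ (Subgroup.zpowers D.a).index := by
  have h1 : D.b ^ (Subgroup.zpowers D.a).index ∈ Subgroup.zpowers D.a :=
    (D.pow_mem_iff_index_dvd _ (le_refl _) _).mpr dvd_rfl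
  obtain ⟨t, ht⟩ := (D.mem_zpowers_a_iff _).mp h1
  rw [← D.b_pow_comm_a_iff hp2, ht, ← pow_succ, ← pow_succ']

/-- `b ^ κ ∈ ⟨a ^ (p ^ n)⟩` where `κ` is the order of `b` modulo `⟨a⟩` -/
theorem b_pow_mem_of_mem (hp2 : p ≠ 2) (e : ℕ) (he : D.b ^ e ∈ Subgroup.zpowers D.a) :
    D.b ^ e ∈ Subgroup.zpowers (D.a ^ (p ^ D.n)) := by
  obtain ⟨t, ht⟩ := (D.mem_zpowers_a_iff _).mp he
  have h1 : D.a ^ t * D.b = D.b * D.a ^ t := by
    rw [← ht, ← pow_succ, ← pow_succ']
  rw [D.a_pow_comm_b_iff hp2] at h1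
  obtain ⟨c, rfl⟩ := h1
  rw [ht, pow_mul]
  exact Subgroup.pow_mem _ (Subgroup.mem_zpowers _) _

theorem index_pw (hp2 : p ≠ 2) (s : ℕ) (hs : s ≤ D.n) : (D.pw s).index = p ^ s * p ^ s := by
  set N := Subgroup.zpowers D.a with hN
  have hsm : s ≤ D.m := le_trans hs D.n_le_m
  have hκ : p ^ s ∣ N.index := (pow_dvd_pow p hs).trans (D.pow_n_dvd_index hp2)
  -- (i)
  have h1 : (D.pw s ⊔ N).index = p ^ s := by
    apply D.index_eq_of_pow_mem_iff _ le_sup_right
    intro j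
    constructor
    · intro h
      have hnorm : N.Normal := D.normal_zpowers_a
      rw [Subgroup.mem_sup_of_normal_right] at h
      obtain ⟨y, hy, z, hz, hyz⟩ := h
      obtain ⟨i, j', rfl⟩ := (D.mem_pw s y).mp hy
      -- `b ^ j` and `b ^ (p ^ s * j')` agree modulo `N`
      have hmod : ∀ e₁ e₂ : ℕ, e₁ ≤ e₂ → (D.b ^ e₁)⁻¹ * D.b ^ e₂ ∈ N → N.index ∣ e₂ - e₁ := by
        intro e₁ e₂ hle hmem
        have : (D.b ^ e₁)⁻¹ * D.b ^ e₂ = D.b ^ (e₂ - e₁) := by
          rw [← Nat.add_sub_cancel' hle, pow_add, inv_mul_cancel_left, Nat.add_sub_cancel_left]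
        rw [this] at hmem
        exact (D.pow_mem_iff_index_dvd N (le_refl _) _).mp hmem
      have hq : (D.b ^ (p ^ s * j'))⁻¹ * D.b ^ j ∈ N := by
        rw [← hyz]
        have : (D.b ^ (p ^ s * j'))⁻¹ * (D.a ^ (p ^ s * i) * D.b ^ (p ^ s * j') * z) =
            ((D.b ^ (p ^ s * j'))⁻¹ * D.a ^ (p ^ s * i) * (D.b ^ (p ^ s * j'))⁻¹⁻¹) * z := by group
        rw [this]
        exact N.mul_mem (hnorm.conj_mem _ (Subgroup.pow_mem _ (Subgroup.mem_zpowers _) _) _) hz
      have h2 : p ^ s ∣ p ^ s * j' := dvd_mul_right _ _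
      rcases le_total (p ^ s * j') j with hle | hle
      · have h3 := hκ.trans (hmod _ _ hle hq)
        have h4 : j = (j - p ^ s * j') + p ^ s * j' := by omega
        rw [h4]
        exact dvd_add h3 h2
      · have hq' : (D.b ^ j)⁻¹ * D.b ^ (p ^ s * j') ∈ N := by
          have := N.inv_mem hq
          simpa [mul_inv_rev] using this
        have h3 := hκ.trans (hmod _ _ hle hq')
        have h4 : j = p ^ s * j' - (p ^ s * j' - j) := by omega
        rw [h4]
        exact Nat.dvd_sub h2 h3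
    · rintro ⟨c, rfl⟩
      apply Subgroup.mem_sup_left
      rw [D.mem_pw]
      exact ⟨0, c, by simp⟩
  -- (ii)
  have h2 : D.pw s ⊓ N = Subgroup.zpowers (D.a ^ (p ^ s)) := by
    apply le_antisymm
    · rintro x ⟨hx, hxN⟩
      obtain ⟨i, j', rfl⟩ := (D.mem_pw s x).mp hx
      have hbN : D.b ^ (p ^ s * j') ∈ N := by
        have : D.b ^ (p ^ s * j') = (D.a ^ (p ^ s * i))⁻¹ * (D.a ^ (p ^ s * i) * D.b ^ (p ^ s * j')) := by
          group
        rw [this]
        exact N.mul_mem (N.inv_mem (Subgroup.pow_mem _ (Subgroup.mem_zpowers _) _)) hxN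
      have h3 := D.b_pow_mem_of_mem hp2 _ hbN
      have h4 : Subgroup.zpowers (D.a ^ (p ^ D.n)) ≤ Subgroup.zpowers (D.a ^ (p ^ s)) := by
        rw [Subgroup.zpowers_le]
        obtain ⟨c, hc⟩ := pow_dvd_pow p hs
        rw [hc, pow_mul]
        exact Subgroup.pow_mem _ (Subgroup.mem_zpowers _) _
      apply Subgroup.mul_mem _ _ (h4 h3)
      rw [pow_mul]
      exact Subgroup.pow_mem _ (Subgroup.mem_zpowers _) _
    · rw [Subgroup.zpowers_le]
      refine ⟨?_, Subgroup.pow_mem _ (Subgroup.mem_zpowers _) _⟩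
      show D.a ^ p ^ s ∈ D.pw s
      rw [D.mem_pw]
      exact ⟨1, 0, by simp⟩
  rw [← Subgroup.relIndex_mul_index (le_sup_left : D.pw s ≤ D.pw s ⊔ N),
    D.relIndex_sup_eq (D.pw s) s hsm h2, h1]

theorem card_pw (hp2 : p ≠ 2) (s : ℕ) (hs : s ≤ D.n) :
    Nat.card (D.pw s) = Nat.card (Subgroup.center G) * p ^ (2 * (D.n - s)) := by
  have h1 := Subgroup.card_mul_index (D.pw s)
  have h2 := Subgroup.card_mul_index (Subgroup.center G)
  rw [D.index_pw hp2 s hs] at h1
  rw [D.index_center hp2] at h2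
  have h3 : Nat.card (D.pw s) * (p ^ s * p ^ s) =
      Nat.card (Subgroup.center G) * p ^ (2 * (D.n - s)) * (p ^ s * p ^ s) := by
    rw [h1, ← h2]
    have : p ^ D.n * p ^ D.n = p ^ (2 * (D.n - s)) * (p ^ s * p ^ s) := by
      rw [← pow_add, ← pow_add, ← pow_add]
      congr 1; omega
    rw [this]; ring
  exact Nat.eq_of_mul_eq_mul_right (Nat.mul_pos (pow_pos hp.out.pos _) (pow_pos hp.out.pos _)) h3

theorem index_centralizer_pow (hG : IsPGroup p G) (g : G) :
    ∃ c : ℕ, (Subgroup.centralizer {g}).index = p ^ c := by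
  obtain ⟨k, hk⟩ := hG.exists_card_eq
  have hdvd : (Subgroup.centralizer {g}).index ∣ Nat.card G := Subgroup.index_dvd_card _
  rw [hk] at hdvd
  obtain ⟨c, _, hc⟩ := (Nat.dvd_prime_pow hp.out).mp hdvd
  exact ⟨c, hc⟩

theorem card_class_size (hp2 : p ≠ 2) (hG : IsPGroup p G) (i : ℕ) (hi : 1 ≤ i) (hin : i ≤ D.n) :
    Nat.card {g : G // (Subgroup.centralizer ({g} : Set G)).index = p ^ i} =
      Nat.card (Subgroup.center G) * (p ^ (2 * i) - p ^ (2 * i - 2)) := by
  set s := D.n - i with hs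
  have hsn : s + 1 ≤ D.n := by omega
  have hBA : D.pw (s + 1) ≤ D.pw s := by
    intro g hg
    rw [D.mem_pw_iff_index_le hp2 (s + 1) hsn] at hg
    rw [D.mem_pw_iff_index_le hp2 s (by omega)]
    exact hg.trans (Nat.pow_le_pow_right hp.out.pos (by omega))
  have hset : {g : G | (Subgroup.centralizer ({g} : Set G)).index = p ^ i} =
      (D.pw s : Set G) \ (D.pw (s + 1) : Set G) := by
    ext g
    show (Subgroup.centralizer ({g} : Set G)).index = p ^ i ↔ (g ∈ D.pw s ∧ g ∉ D.pw (s + 1))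
    rw [D.mem_pw_iff_index_le hp2 (s + 1) hsn, D.mem_pw_iff_index_le hp2 s (by omega)]
    obtain ⟨c, hc⟩ := index_centralizer_pow hG g
    rw [hc]
    have e1 : D.n - s = i := by omega
    have e2 : D.n - (s + 1) = i - 1 := by omega
    rw [e1, e2]
    have hp1 := hp.out.one_lt
    constructor
    · intro h
      have hci : c = i := Nat.pow_right_injective hp1 h
      subst hci
      refine ⟨le_refl _, ?_⟩
      intro hle
      have := (Nat.pow_le_pow_iff_right hp1).mp hle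
      omega
    · rintro ⟨h1, h2⟩
      have h3 := (Nat.pow_le_pow_iff_right hp1).mp h1
      have h4 : ¬ c ≤ i - 1 := fun h => h2 (Nat.pow_le_pow_right hp.out.pos h)
      have : c = i := by omega
      rw [this]
  have hcard : Nat.card {g : G // (Subgroup.centralizer ({g} : Set G)).index = p ^ i} =
      ((D.pw s : Set G) \ (D.pw (s + 1) : Set G)).ncard := by
    rw [← hset]; rfl
  rw [hcard, Set.ncard_sdiff (by exact_mod_cast hBA) (Set.toFinite _)]
  have cA : (D.pw s : Set G).ncard = Nat.card (D.pw s) := by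
    rw [← Nat.card_coe_set_eq]; rfl
  have cB : (D.pw (s + 1) : Set G).ncard = Nat.card (D.pw (s + 1)) := by
    rw [← Nat.card_coe_set_eq]; rfl
  have e1 : 2 * (D.n - s) = 2 * i := by omega
  have e2 : 2 * (D.n - (s + 1)) = 2 * i - 2 := by omega
  have hA := D.card_pw hp2 s (by omega)
  have hB := D.card_pw hp2 (s + 1) hsn
  rw [e1] at hA
  rw [e2] at hB
  rw [cA, cB, hA, hB, ← Nat.mul_sub]

end Fin

end MC

end Cfsg.Agent.Lib.Helper20
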