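import Mathlib
import Cfsg.Agent.Lib.Helper20.Metacyclic1
import Cfsg.Prelude.Def_OddOrderLocal

set_option autoImplicit false
set_option linter.unusedSectionVars false
open scoped commutatorElement

namespace Cfsg.Agent.Lib.Helper20

section Metacyclic2

variable {G : Type*} [Group G] [Finite G] {p : ℕ} [hp : Fact p.Prime]

theorem exists_MC (hG : IsPGroup p G) (hmc : Cfsg.IsMetacyclic G) : Nonempty (MC p G) := by
  obtain ⟨N, hNn, hNc, hQc⟩ := hmc
  obtain ⟨a₀, ha₀⟩ := hNc.exists_generator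
  set a : G := (a₀ : G) with ha
  have hNa : Subgroup.zpowers a = N := by
    apply le_antisymm
    · rw [Subgroup.zpowers_le]; exact a₀.2
    · intro x hx
      obtain ⟨k, hk⟩ := Subgroup.mem_zpowers_iff.mp (ha₀ ⟨x, hx⟩)
      rw [Subgroup.mem_zpowers_iff]
      refine ⟨k, ?_⟩
      have := congrArg Subtype.val hk
      simpa using this
  obtain ⟨m, hm⟩ := (hG.to_subgroup N).exists_card_eq
  have hord : orderOf a = p ^ m := by
    rw [← Nat.card_zpowers, hNa, hm]
  obtain ⟨β, hβ⟩ := hQc.exists_generator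
  obtain ⟨b, rfl⟩ := QuotientGroup.mk_surjective β
  -- conjugation
  have hconj0 : ∃ r0 : ℕ, b * a * b⁻¹ = a ^ r0 := by
    have h1 : b * a * b⁻¹ ∈ N := hNn.conj_mem a a₀.2 b
    rw [← hNa, ← mem_powers_iff_mem_zpowers, Submonoid.mem_powers_iff] at h1
    obtain ⟨r0, hr0⟩ := h1
    exact ⟨r0, hr0.symm⟩
  obtain ⟨r0, hr0⟩ := hconj0
  have hgen : ∀ g : G, ∃ i j : ℕ, g = a ^ i * b ^ j := by
    intro g
    have h1 := hβ (QuotientGroup.mk g)
    rw [← mem_powers_iff_mem_zpowers, Submonoid.mem_powers_iff] at h1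
    obtain ⟨j, hj⟩ := h1
    have h2 : g * (b ^ j)⁻¹ ∈ N := by
      rw [← QuotientGroup.eq_one_iff, QuotientGroup.mk_mul, QuotientGroup.mk_inv,
        QuotientGroup.mk_pow, hj, mul_inv_cancel]
    rw [← hNa, ← mem_powers_iff_mem_zpowers, Submonoid.mem_powers_iff] at h2
    obtain ⟨i, hi⟩ := h2
    refine ⟨i, j, ?_⟩
    rw [hi]; group
  have hp1 : 1 < p := hp.out.one_lt
  rcases Nat.eq_zero_or_pos m with hm0 | hmpos
  · -- `a = 1`
    have ha1 : a = 1 := by
      rw [← orderOf_eq_one_iff, hord, hm0, pow_zero]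
    refine ⟨⟨a, b, m, p + 1, hord, ?_, ?_, by omega, hgen⟩⟩
    · rw [ha1]; simp
    · rw [Nat.add_mod_left, Nat.mod_eq_of_lt hp1]
  · -- `r0 ≡ 1 mod p`
    have hr0p : r0 % p = 1 := by
      obtain ⟨e, he⟩ := (hG.to_subgroup (Subgroup.zpowers b)).exists_card_eq
      rw [Nat.card_zpowers] at he
      have h1 := pair_conj_pow_pow hr0 1 (orderOf b)
      rw [pow_orderOf_eq_one, pow_one, one_mul] at h1
      have h2 : a ^ (r0 ^ orderOf b) = a ^ 1 := by
        rw [one_mul] at h1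
        rw [← h1]; simp
      rw [pow_eq_pow_iff_modEq, hord, he] at h2
      have h3 : r0 ^ p ^ e ≡ 1 [MOD p] :=
        h2.of_dvd (dvd_pow_self p hmpos.ne')
      have h4 : ((r0 : ZMod p)) = 1 := by
        have := (ZMod.natCast_eq_natCast_iff _ _ _).mpr h3
        push_cast at this
        rwa [ZMod.pow_card_pow] at this
      have h5 : r0 ≡ 1 [MOD p] := by
        rw [← ZMod.natCast_eq_natCast_iff]; push_cast; exact h4
      unfold Nat.ModEq at h5
      rw [h5, Nat.mod_eq_of_lt hp1]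
    refine ⟨⟨a, b, m, r0 + p ^ m, hord, ?_, ?_, ?_, hgen⟩⟩
    · rw [pow_add, ← hord, pow_orderOf_eq_one, mul_one, hr0]
    · have : p ∣ p ^ m := dvd_pow_self p hmpos.ne'
      rw [Nat.add_mod, Nat.mod_eq_zero_of_dvd this, add_zero, Nat.mod_mod, hr0p]
    · have : 2 ≤ p ^ m := by
        calc 2 ≤ p := hp1
          _ = p ^ 1 := (pow_one p).symm
          _ ≤ p ^ m := Nat.pow_le_pow_right hp.out.pos hmpos
      omega


end Metacyclic2

end Cfsg.Agent.Lib.Helper20
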