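import Cfsg.Agent.Lib.Helper20.Metacyclic5
import Cfsg.Prelude.Def_PLocal
import Cfsg.Prelude.Def_Transfer

namespace Cfsg.Agent.Lib.Helper20
namespace MC

variable {G : Type*} [Group G] {p : ℕ} (D : MC p G)

set_option linter.unusedSectionVars false

section Fin6
variable [Finite G] [hp : Fact p.Prime]

include D in
/-- the elements of order dividing `p` form a subgroup of order `p ^ 2` -/
theorem exists_omega (hp2 : p ≠ 2) (hG : IsPGroup p G) (hnc : ¬ IsCyclic G) :
    ∃ W : Subgroup G, (∀ g : G, g ∈ W ↔ g ^ p = 1) ∧ Nat.card ↥W = p ^ 2 := by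
  set N := Subgroup.zpowers D.a with hN
  set κ := N.index with hκ
  have hκk : ∃ k : ℕ, κ = p ^ k := by
    obtain ⟨e, he⟩ := hG.exists_card_eq
    have hdvd : κ ∣ Nat.card G := Subgroup.index_dvd_card N
    rw [he] at hdvd
    obtain ⟨k, _, hk⟩ := (Nat.dvd_prime_pow hp.out).mp hdvd
    exact ⟨k, hk⟩
  obtain ⟨k, hk⟩ := hκk
  have hbκ : D.b ^ κ ∈ N := (D.pow_mem_iff_index_dvd N le_rfl κ).mpr dvd_rfl
  obtain ⟨t, ht⟩ := (D.mem_zpowers_a_iff _).mp hbκ
  have hcardG : Nat.card ↥N * κ = Nat.card G := Subgroup.card_mul_index N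
  have hcardN : Nat.card ↥N = p ^ D.m := D.card_zpowers_a
  have hp0 : p ≠ 0 := hp.out.ne_zero
  -- consequences of non-cyclicity
  have hk1 : 1 ≤ k := by
    by_contra hcon
    have hk0 : k = 0 := by omega
    rw [hk0, pow_zero] at hk
    have htop : N = ⊤ := Subgroup.index_eq_one.mp hk
    exact hnc (isCyclic_iff_exists_zpowers_eq_top.mpr ⟨D.a, htop⟩)
  have hm1 : 1 ≤ D.m := by
    by_contra hcon
    have hm0 : D.m = 0 := by omega
    have ha1 : D.a = 1 := by
      rw [← orderOf_eq_one_iff, D.hord, hm0, pow_zero]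
    apply hnc
    rw [isCyclic_iff_exists_zpowers_eq_top]
    refine ⟨D.b, ?_⟩
    rw [eq_top_iff]
    intro g _
    obtain ⟨i, j, rfl⟩ := D.hgen g
    rw [ha1, one_pow, one_mul]
    exact Subgroup.pow_mem _ (Subgroup.mem_zpowers _) _
  have hatp : D.a ^ t ∈ Subgroup.zpowers (D.a ^ p) := by
    by_contra hcon
    have ht0 : t ≠ 0 := by
      rintro rfl
      rw [pow_zero] at hcon
      exact hcon (Subgroup.one_mem _)
    have hv : padicValNat p t = 0 := by
      by_contra hv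
      have hdvd : p ∣ t := dvd_of_one_le_padicValNat (by omega)
      obtain ⟨c, rfl⟩ := hdvd
      rw [pow_mul] at hcon
      exact hcon (Subgroup.pow_mem _ (Subgroup.mem_zpowers _) _)
    have hz := D.zpowers_a_pow_eq t ht0
    rw [hv, pow_zero, pow_one] at hz
    have ha : D.a ∈ Subgroup.zpowers D.b := by
      have h1 : D.a ∈ Subgroup.zpowers (D.a ^ t) := by rw [hz]; exact Subgroup.mem_zpowers _
      rw [← ht] at h1
      exact (Subgroup.zpowers_le.mpr (Subgroup.pow_mem _ (Subgroup.mem_zpowers D.b) κ)) h1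
    apply hnc
    rw [isCyclic_iff_exists_zpowers_eq_top]
    refine ⟨D.b, ?_⟩
    rw [eq_top_iff]
    intro g _
    obtain ⟨i, j, rfl⟩ := D.hgen g
    exact Subgroup.mul_mem _ (Subgroup.pow_mem _ ha _) (Subgroup.pow_mem _ (Subgroup.mem_zpowers _) _)
  have hnk : D.n ≤ k := by
    have := D.pow_n_dvd_index hp2
    rw [← hN, ← hκ, hk] at this
    exact (Nat.pow_dvd_pow_iff_le_right hp.out.one_lt).mp this
  set q := p ^ (k - 1) with hq
  have hqp : q * p = κ := by
    rw [hq, hk, ← pow_succ]; congr 1; omega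
  -- Lemma Q
  have hQ : ∀ i j : ℕ, (D.a ^ i * D.b ^ j) ^ p = 1 → q ∣ j := by
    intro i j h
    rw [pair_pow D.hconj] at h
    have h1 : D.b ^ (j * p) ∈ N := by
      have h2 : D.b ^ (j * p) = (D.a ^ (i * ∑ t ∈ Finset.range p, (D.r ^ j) ^ t))⁻¹ :=
        eq_inv_of_mul_eq_one_right h
      rw [h2]
      exact N.inv_mem (Subgroup.pow_mem _ (Subgroup.mem_zpowers _) _)
    rw [D.pow_mem_iff_index_dvd N le_rfl, ← hκ, ← hqp] at h1
    exact Nat.dvd_of_mul_dvd_mul_right hp.out.pos h1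
  -- Lemma P
  have hP : ∀ i j : ℕ, q ∣ j → (D.a ^ i * D.b ^ j) ^ p = D.a ^ (i * p) * D.b ^ (j * p) := by
    intro i j hj
    rw [pair_pow D.hconj]
    congr 1
    have hμ : p ^ (D.v0 + (k - 1)) ∣ D.r ^ j - 1 := by
      obtain ⟨j', rfl⟩ := hj
      have h1 := D.pow_s_mul_dvd hp2 j' (k - 1)
      have h2 : p ^ D.v0 ∣ D.r - 1 := pow_padicValNat_dvd
      rw [pow_add]
      exact dvd_trans (Nat.mul_dvd_mul_right h2 _) h1
    have hm : D.m ≤ 1 + (D.v0 + (k - 1)) := by
      have := (D.m_le_iff k).mpr hnk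
      omega
    have h3 := D.a_pow_geom_sum hp2 j 1 (D.v0 + (k - 1)) (by have := D.one_le_v0; omega) hμ hm
    rw [pow_one] at h3
    rw [mul_comm i, pow_mul, h3, ← pow_mul, mul_comm]
  -- `b ^ j` commutes with `a ^ p` when `q ∣ j`
  have hcomm : ∀ j : ℕ, q ∣ j → Commute (D.b ^ j) (D.a ^ p) := by
    intro j hj
    rcases Nat.eq_zero_or_pos j with rfl | hjpos
    · rw [pow_zero]; exact Commute.one_left _
    have hj0 : j ≠ 0 := hjpos.ne'
    have h2 : Commute (D.a ^ 0 * D.b ^ j) (D.a ^ p * D.b ^ 0) := by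
      rw [D.commute_iff, pow_zero, Nat.sub_self, mul_zero, pow_zero,
        D.a_pow_mul_eq_one_iff hp2 p j hp0 hj0]
      have h3 : k - 1 ≤ padicValNat p j := (padicValNat_dvd_iff_le hj0).mp hj
      have h4 : padicValNat p p = 1 := padicValNat_self
      omega
    rwa [pow_zero, one_mul, pow_zero, mul_one] at h2
  -- the subgroup
  let W : Subgroup G :=
    { carrier := {g | g ^ p = 1}
      one_mem' := one_pow _
      inv_mem' := by
        intro g hg
        show g⁻¹ ^ p = 1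
        rw [inv_pow, show g ^ p = 1 from hg, inv_one]
      mul_mem' := by
        intro g g' hg hg'
        change g ^ p = 1 at hg
        change g' ^ p = 1 at hg'
        show (g * g') ^ p = 1
        obtain ⟨i, j, rfl⟩ := D.hgen g
        obtain ⟨i', j', rfl⟩ := D.hgen g'
        have hj := hQ i j hg
        have hj' := hQ i' j' hg'
        rw [hP i j hj] at hg
        rw [hP i' j' hj'] at hg'
        rw [D.mul_formula, hP _ _ (dvd_add hj hj'), add_mul, add_mul, pow_add, pow_add]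
        have e1 : D.b ^ (j * p) = (D.a ^ (i * p))⁻¹ := eq_inv_of_mul_eq_one_right hg
        have e2 : D.b ^ (j' * p) = (D.a ^ (i' * p))⁻¹ := eq_inv_of_mul_eq_one_right hg'
        have e3 : D.a ^ (i' * D.r ^ j * p) = D.a ^ (i' * p) := by
          have h1 := D.conj_pow_pow (i' * p) j
          have h2 : Commute (D.b ^ j) (D.a ^ (i' * p)) := by
            rw [mul_comm i', pow_mul]
            exact (hcomm j hj).pow_right i'
          rw [h2.eq, mul_inv_cancel_right] at h1
          rw [h1]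
          congr 1; ring
        rw [e1, e2, e3]
        have hc : Commute (D.a ^ (i * p)) (D.a ^ (i' * p)) := (Commute.refl D.a).pow_pow _ _
        calc D.a ^ (i * p) * D.a ^ (i' * p) * ((D.a ^ (i * p))⁻¹ * (D.a ^ (i' * p))⁻¹)
            = D.a ^ (i' * p) * D.a ^ (i * p) * ((D.a ^ (i * p))⁻¹ * (D.a ^ (i' * p))⁻¹) := by
              rw [hc.eq]
          _ = 1 := by group }
  have hmemW : ∀ g : G, g ∈ W ↔ g ^ p = 1 := fun g => Iff.rfl
  refine ⟨W, hmemW, ?_⟩
  -- `W ⊓ N`
  have hWN : W ⊓ N = Subgroup.zpowers (D.a ^ (p ^ (D.m - 1))) := by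
    apply le_antisymm
    · rintro x ⟨hxW, hxN⟩
      obtain ⟨u, rfl⟩ := (D.mem_zpowers_a_iff x).mp hxN
      have h1 : (D.a ^ u) ^ p = 1 := hxW
      rw [← pow_mul, D.a_pow_eq_one_iff] at h1
      have h2 : p ^ (D.m - 1) * p ∣ u * p := by
        rw [← pow_succ]
        have : D.m - 1 + 1 = D.m := by omega
        rwa [this]
      obtain ⟨c, rfl⟩ := Nat.dvd_of_mul_dvd_mul_right hp.out.pos h2
      rw [pow_mul]
      exact Subgroup.pow_mem _ (Subgroup.mem_zpowers _) _
    · rw [Subgroup.zpowers_le]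
      refine ⟨?_, Subgroup.pow_mem _ (Subgroup.mem_zpowers _) _⟩
      show (D.a ^ (p ^ (D.m - 1))) ^ p = 1
      rw [← pow_mul, ← pow_succ, D.a_pow_eq_one_iff]
      have : D.m - 1 + 1 = D.m := by omega
      rw [this]
  -- an element of `W` outside `N`
  have hd : ∃ x : ℕ, D.a ^ x * D.b ^ q ∈ W := by
    have hmem : (D.a ^ t)⁻¹ ∈ Subgroup.zpowers (D.a ^ p) := Subgroup.inv_mem _ hatp
    rw [← mem_powers_iff_mem_zpowers, Submonoid.mem_powers_iff] at hmem
    obtain ⟨x, hx⟩ := hmem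
    refine ⟨x, ?_⟩
    show (D.a ^ x * D.b ^ q) ^ p = 1
    rw [hP x q dvd_rfl, hqp, ht, mul_comm x, pow_mul, hx, inv_mul_cancel]
  obtain ⟨x, hx⟩ := hd
  -- index of `W ⊔ N`
  have hWNidx : (W ⊔ N).index = q := by
    apply D.index_eq_of_pow_mem_iff _ le_sup_right
    intro j
    constructor
    · intro hj
      have hnorm : N.Normal := D.normal_zpowers_a
      rw [Subgroup.mem_sup_of_normal_right] at hj
      obtain ⟨w, hw, z, hz, hwz⟩ := hj
      obtain ⟨u, hu⟩ := (D.mem_zpowers_a_iff z⁻¹).mp (N.inv_mem hz)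
      have h1 : w = D.a ^ (u * D.r ^ j) * D.b ^ j := by
        rw [← D.b_pow_mul_a_pow, ← hu, ← hwz]; group
      rw [h1] at hw
      exact hQ _ _ hw
    · rintro ⟨c, rfl⟩
      rw [pow_mul]
      apply Subgroup.pow_mem
      have h1 : D.b ^ q = (D.a ^ x)⁻¹ * (D.a ^ x * D.b ^ q) := by group
      rw [h1]
      exact Subgroup.mul_mem _
        (Subgroup.inv_mem _ (Subgroup.mem_sup_right (Subgroup.pow_mem _ (Subgroup.mem_zpowers _) _)))
        (Subgroup.mem_sup_left hx)
  have hWidx : W.index = p ^ (D.m - 1) * q := by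
    rw [← Subgroup.relIndex_mul_index (le_sup_left : W ≤ W ⊔ N),
      D.relIndex_sup_eq W (D.m - 1) (Nat.sub_le _ _) hWN, hWNidx]
  have c1 := Subgroup.card_mul_index W
  rw [hWidx, ← hcardG, hcardN, ← hqp] at c1
  have e : p ^ D.m = p ^ (D.m - 1) * p := by
    rw [← pow_succ]; congr 1; omega
  rw [e] at c1
  have h4 : Nat.card ↥W * (p ^ (D.m - 1) * q) = p ^ 2 * (p ^ (D.m - 1) * q) := by
    rw [c1]; ring
  exact Nat.eq_of_mul_eq_mul_right
    (Nat.mul_pos (pow_pos hp.out.pos _) (pow_pos hp.out.pos _)) h4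

end Fin6
end MC
end Cfsg.Agent.Lib.Helper20
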