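import Mathlib
import Cfsg.Prelude.Def_OddOrderLocal
import Cfsg.Agent.S0001
import Cfsg.Agent.Lib.helper23.Fitting

/-!
# Hall π-subgroups in π-separable groups with solvable π'-factors

`PiSepS π G`: every nontrivial homomorphic image of `G` has a nontrivial normal subgroup which is
a π-group or a solvable π'-group.  (Holds for solvable groups, and for `p`-solvable groups with
`π = p'`.)

`hall_of_piSepS`: such a finite group has a Hall π-subgroup, and every π-subgroup is conjugate
into any given Hall π-subgroup (so Hall π-subgroups are conjugate).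
-/

set_option autoImplicit false

namespace Cfsg.Agent.Lib.Helper20

open Subgroup
open scoped Pointwise

universe u

/-- `n` is a π-number -/
def PiNum (π : Set ℕ) (n : ℕ) : Prop := ∀ q : ℕ, q.Prime → q ∣ n → q ∈ π
/-- `n` is a π'-number -/
def PiNum' (π : Set ℕ) (n : ℕ) : Prop := ∀ q : ℕ, q.Prime → q ∈ π → ¬ q ∣ n

theorem PiNum.of_dvd {π : Set ℕ} {m n : ℕ} (h : PiNum π n) (hd : m ∣ n) : PiNum π m :=
  fun q hq hqm => h q hq (hqm.trans hd)

theorem PiNum'.of_dvd {π : Set ℕ} {m n : ℕ} (h : PiNum' π n) (hd : m ∣ n) : PiNum' π m :=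
  fun q hq hqπ hqm => h q hq hqπ (hqm.trans hd)

theorem PiNum.mul {π : Set ℕ} {m n : ℕ} (hm : PiNum π m) (hn : PiNum π n) : PiNum π (m * n) :=
  fun q hq hd => (hq.dvd_mul.mp hd).elim (hm q hq) (hn q hq)

theorem PiNum'.mul {π : Set ℕ} {m n : ℕ} (hm : PiNum' π m) (hn : PiNum' π n) :
    PiNum' π (m * n) :=
  fun q hq hqπ hd => (hq.dvd_mul.mp hd).elim (hm q hq hqπ) (hn q hq hqπ)

theorem piNum_one (π : Set ℕ) : PiNum π 1 := fun q hq hd => absurd (Nat.dvd_one.mp hd) hq.ne_one
theorem piNum'_one (π : Set ℕ) : PiNum' π 1 := fun q hq _ hd => absurd (Nat.dvd_one.mp hd) hq.ne_one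

theorem coprime_of_piNum {π : Set ℕ} {a b : ℕ} (ha : PiNum π a) (hb : PiNum' π b) :
    Nat.Coprime a b :=
  Nat.coprime_of_dvd (fun k hk hka hkb => hb k hk (ha k hk hka) hkb)

theorem eq_one_of_piNum_piNum' {π : Set ℕ} {a : ℕ} (ha : PiNum π a) (hb : PiNum' π a) : a = 1 :=
  Nat.eq_one_iff_not_exists_prime_dvd.mpr (fun q hq hd => hb q hq (ha q hq hd) hd)

section
variable {G : Type*} [Group G]

theorem isPiHall_iff {π : Set ℕ} {H : Subgroup G} :
    Cfsg.IsPiHall π H ↔ PiNum π (Nat.card H) ∧ PiNum' π H.index := Iff.rfl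

theorem card_sup_dvd_of_le_normalizer' (H N : Subgroup G) (hLE : H ≤ normalizer (N : Set G)) :
    Nat.card (H ⊔ N : Subgroup G) ∣ Nat.card H * Nat.card N := by
  have h1 : N.relIndex (H ⊔ N) = N.relIndex H := by
    have := Subgroup.normal_subgroupOf_of_le_normalizer hLE
    have := Subgroup.normal_subgroupOf_sup_of_le_normalizer hLE
    exact (Nat.card_congr
      (QuotientGroup.quotientInfEquivProdNormalizerQuotient H N hLE).toEquiv).symm
  rw [← Cfsg.Agent.Lib.helper23.card_mul_relIndex (le_sup_right : N ≤ H ⊔ N), h1, mul_comm]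
  exact Nat.mul_dvd_mul (Subgroup.relIndex_dvd_card _ _) dvd_rfl

theorem card_sup_of_coprime (H N : Subgroup G) (hLE : H ≤ normalizer (N : Set G))
    (hcop : (Nat.card H).Coprime (Nat.card N)) :
    Nat.card (H ⊔ N : Subgroup G) = Nat.card H * Nat.card N := by
  apply Nat.dvd_antisymm (card_sup_dvd_of_le_normalizer' H N hLE)
  exact hcop.mul_dvd_of_dvd_of_dvd (Subgroup.card_dvd_of_le le_sup_left)
    (Subgroup.card_dvd_of_le le_sup_right)

theorem normal_le_hall [Finite G] {π : Set ℕ} {M H : Subgroup G} [M.Normal]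
    (hM : PiNum π (Nat.card M)) (hH : Cfsg.IsPiHall π H) : M ≤ H := by
  rw [← Subgroup.relIndex_eq_one]
  apply eq_one_of_piNum_piNum' (π := π)
  · exact hM.of_dvd (Subgroup.relIndex_dvd_card _ _)
  · rw [← Cfsg.Agent.Lib.helper23.relIndex_sup_of_normal M H]
    exact PiNum'.of_dvd hH.2 (Subgroup.relIndex_dvd_index_of_le le_sup_right)

theorem hall_map [Finite G] {Q : Type*} [Group Q] {π : Set ℕ} {H : Subgroup G} (f : G →* Q)
    (hf : Function.Surjective f) (hH : Cfsg.IsPiHall π H) : Cfsg.IsPiHall π (H.map f) :=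
  ⟨PiNum.of_dvd hH.1 (H.card_map_dvd f), PiNum'.of_dvd hH.2 (Subgroup.index_map_dvd H hf)⟩

theorem card_comap_of_surjective' [Finite G] {Q : Type*} [Group Q] (f : G →* Q)
    (hf : Function.Surjective f) (K : Subgroup Q) :
    Nat.card (K.comap f) = Nat.card f.ker * Nat.card K := by
  have h1 : f.ker ≤ K.comap f := fun x hx => by
    rw [Subgroup.mem_comap, MonoidHom.mem_ker.mp hx]; exact one_mem K
  rw [← Cfsg.Agent.Lib.helper23.card_mul_relIndex h1, Subgroup.relIndex_ker,
    Subgroup.map_comap_eq_self_of_surjective hf]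

/-- Schur–Zassenhaus dominance: if `N` is a solvable normal subgroup with complement `H` of
coprime order, every subgroup `U` of order coprime to `|N|` is conjugate into `H`. -/
theorem sz_dominance [Finite G] (N : Subgroup G) [N.Normal] [Group.IsSolvable N] (H U : Subgroup G)
    (hH : IsComplement' N H) (hU : (Nat.card U).Coprime (Nat.card N)) :
    ∃ x : G, U.map (MulAut.conj x).toMonoidHom ≤ H := by
  set L := U ⊔ N with hL
  have hUL : U ≤ L := le_sup_left
  have hNL : N ≤ L := le_sup_right
  have hcardL : Nat.card L = Nat.card U * Nat.card N :=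
    card_sup_of_coprime U N le_normalizer_of_normal hU
  have hc1 : IsComplement' (N.subgroupOf L) (H.subgroupOf L) :=
    Cfsg.Agent.S0001.compl_subgroupOf N H L hH (Or.inr hNL)
  have hcN : Nat.card (N.subgroupOf L) = Nat.card N := Cfsg.Agent.S0001.card_subgroupOf_of_le hNL
  have hcU : Nat.card (U.subgroupOf L) = Nat.card U := Cfsg.Agent.S0001.card_subgroupOf_of_le hUL
  have hc2 : IsComplement' (N.subgroupOf L) (U.subgroupOf L) := by
    apply isComplement'_of_coprime
    · rw [hcN, hcU, hcardL, mul_comm]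
    · rw [hcN, hcU]; exact hU.symm
  have hsolv : Group.IsSolvable (N.subgroupOf L) := Cfsg.Agent.S0001.solvable_subgroupOf N L
  have hcop : (Nat.card (N.subgroupOf L)).Coprime (N.subgroupOf L).index := by
    rw [hc2.symm.index_eq_card, hcN, hcU]; exact hU.symm
  obtain ⟨l, hl⟩ := Cfsg.Agent.S0001.result (N.subgroupOf L) hcop (Or.inl hsolv)
    (U.subgroupOf L) (H.subgroupOf L) hc2 hc1
  refine ⟨(l : G), ?_⟩
  rintro _ ⟨u, hu, rfl⟩
  have h1 : (⟨u, hUL hu⟩ : L) ∈ U.subgroupOf L := by
    rw [Subgroup.mem_subgroupOf]; exact hu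
  have h2 : MulAut.conj l • (⟨u, hUL hu⟩ : L) ∈ MulAut.conj l • U.subgroupOf L :=
    Subgroup.smul_mem_pointwise_smul _ _ _ h1
  rw [hl, Subgroup.mem_subgroupOf] at h2
  simpa using h2

end

/-- every nontrivial homomorphic image has a nontrivial normal subgroup which is a π-group or a
solvable π'-group -/
def PiSepS (π : Set ℕ) (G : Type u) [Group G] : Prop :=
  ∀ (Q : Type u) [Group Q] (f : G →* Q), Function.Surjective f → Nontrivial Q →
    ∃ M : Subgroup Q, M.Normal ∧ M ≠ ⊥ ∧
      (PiNum π (Nat.card M) ∨ (PiNum' π (Nat.card M) ∧ Group.IsSolvable M))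

theorem PiSepS.of_surjective {π : Set ℕ} {G Q : Type u} [Group G] [Group Q] (h : PiSepS π G)
    (f : G →* Q) (hf : Function.Surjective f) : PiSepS π Q :=
  fun R _ g hg hR => h R (g.comp f) (hg.comp hf) hR

theorem hall_aux (π : Set ℕ) (n : ℕ) : ∀ (G : Type u) [Group G] [Finite G], Nat.card G = n →
    PiSepS π G →
    (∃ H : Subgroup G, Cfsg.IsPiHall π H) ∧
    (∀ H U : Subgroup G, Cfsg.IsPiHall π H → PiNum π (Nat.card U) →
      ∃ g : G, U.map (MulAut.conj g).toMonoidHom ≤ H) := by
  induction n using Nat.strong_induction_on with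
  | _ n ih =>
  intro G _ _ hn hsep
  rcases subsingleton_or_nontrivial G with hsub | hnt
  · have hG1 : Nat.card G = 1 := Nat.card_eq_one_iff_unique.mpr ⟨hsub, ⟨1⟩⟩
    refine ⟨⟨⊤, ?_, ?_⟩, ?_⟩
    · have : Nat.card (⊤ : Subgroup G) = 1 := by rw [Subgroup.card_top, hG1]
      intro q hq hd
      rw [this] at hd
      exact absurd (Nat.dvd_one.mp hd) hq.ne_one
    · rw [Subgroup.index_top]; exact piNum'_one π
    · intro H U _ _
      refine ⟨1, ?_⟩
      intro x _
      rw [Subsingleton.elim x 1]; exact one_mem H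
  · obtain ⟨M, hMn, hMbot, hM⟩ := hsep G (MonoidHom.id G) Function.surjective_id hnt
    have hcardQ : Nat.card (G ⧸ M) < n := hn ▸ Cfsg.Agent.S0001.card_quotient_lt M hMbot
    have hfs : Function.Surjective (QuotientGroup.mk' M) := QuotientGroup.mk'_surjective M
    have hsepQ : PiSepS π (G ⧸ M) := hsep.of_surjective (QuotientGroup.mk' M) hfs
    obtain ⟨⟨Hbar, hHbar⟩, hdomQ⟩ := ih _ hcardQ (G ⧸ M) rfl hsepQ
    have hker : (QuotientGroup.mk' M).ker = M := QuotientGroup.ker_mk' M
    -- common part of dominance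
    have hcommon : ∀ H U : Subgroup G, Cfsg.IsPiHall π H → PiNum π (Nat.card U) →
        ∃ g : G, U.map (MulAut.conj g).toMonoidHom ≤ H ⊔ M := by
      intro H U hH hU
      obtain ⟨q, hq⟩ := hdomQ (H.map (QuotientGroup.mk' M)) (U.map (QuotientGroup.mk' M))
        (hall_map _ hfs hH) (hU.of_dvd (U.card_map_dvd _))
      obtain ⟨g, rfl⟩ := hfs q
      refine ⟨g, ?_⟩
      rintro _ ⟨u, hu, rfl⟩
      have h1 : (QuotientGroup.mk' M) ((MulAut.conj g).toMonoidHom u) ∈
          H.map (QuotientGroup.mk' M) := by
        apply hq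
        refine ⟨QuotientGroup.mk' M u, ⟨u, hu, rfl⟩, ?_⟩
        simp
      have h2 : (MulAut.conj g).toMonoidHom u ∈
          (H.map (QuotientGroup.mk' M)).comap (QuotientGroup.mk' M) := h1
      rwa [Subgroup.comap_map_eq, hker] at h2
    have hcardK : Nat.card (Hbar.comap (QuotientGroup.mk' M)) = Nat.card M * Nat.card Hbar := by
      rw [card_comap_of_surjective' _ hfs, hker]
    have hindK : (Hbar.comap (QuotientGroup.mk' M)).index = Hbar.index :=
      Subgroup.index_comap_of_surjective _ hfs
    rcases hM with hMpi | ⟨hMpi', hMsolv⟩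
    · -- M is a π-group
      refine ⟨⟨Hbar.comap (QuotientGroup.mk' M), ?_, ?_⟩, ?_⟩
      · change PiNum π _
        rw [hcardK]; exact hMpi.mul hHbar.1
      · change PiNum' π _
        rw [hindK]; exact hHbar.2
      · intro H U hH hU
        obtain ⟨g, hg⟩ := hcommon H U hH hU
        refine ⟨g, hg.trans ?_⟩
        exact sup_le le_rfl (normal_le_hall hMpi hH)
    · -- M is a solvable π'-group
      constructor
      · -- existence
        set K := Hbar.comap (QuotientGroup.mk' M) with hK
        have hMK : M ≤ K := by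
          intro x hx
          rw [hK, Subgroup.mem_comap]
          have : (QuotientGroup.mk' M) x = 1 := by
            rw [← MonoidHom.mem_ker, hker]; exact hx
          rw [this]; exact one_mem _
        have hcM : Nat.card (M.subgroupOf K) = Nat.card M :=
          Cfsg.Agent.S0001.card_subgroupOf_of_le hMK
        have hidx : (M.subgroupOf K).index = Nat.card Hbar := by
          have h1 := (M.subgroupOf K).card_mul_index
          rw [hcM, hcardK] at h1
          exact Nat.eq_of_mul_eq_mul_left Nat.card_pos h1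
        have hcop : (Nat.card (M.subgroupOf K)).Coprime (M.subgroupOf K).index := by
          rw [hcM, hidx]
          exact (coprime_of_piNum hHbar.1 hMpi').symm
        obtain ⟨H', hH'⟩ := Subgroup.exists_right_complement'_of_coprime hcop
        have hcH' : Nat.card H' = Nat.card Hbar := by
          rw [← hidx]; exact hH'.symm.index_eq_card.symm
        refine ⟨H'.map K.subtype, ?_, ?_⟩
        · change PiNum π _
          rw [Subgroup.card_map_of_injective K.subtype_injective, hcH']
          exact hHbar.1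
        · change PiNum' π _
          have hcH : Nat.card (H'.map K.subtype) = Nat.card Hbar := by
            rw [Subgroup.card_map_of_injective K.subtype_injective, hcH']
          have h1 := (H'.map K.subtype).card_mul_index
          have h2 := K.card_mul_index
          rw [hcH] at h1
          rw [hcardK, hindK] at h2
          have h3 : (H'.map K.subtype).index = Nat.card M * Hbar.index := by
            have : Nat.card Hbar * (H'.map K.subtype).index =
                Nat.card Hbar * (Nat.card M * Hbar.index) := by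
              rw [h1, ← h2]; ring
            exact Nat.eq_of_mul_eq_mul_left Nat.card_pos this
          rw [h3]
          exact hMpi'.mul hHbar.2
      · -- dominance
        intro H U hH hU
        obtain ⟨g, hg⟩ := hcommon H U hH hU
        set K := H ⊔ M with hK
        have hHK : H ≤ K := le_sup_left
        have hMK : M ≤ K := le_sup_right
        have hcopHM : (Nat.card H).Coprime (Nat.card M) := coprime_of_piNum hH.1 hMpi'
        have hcardK' : Nat.card K = Nat.card H * Nat.card M :=
          card_sup_of_coprime H M le_normalizer_of_normal hcopHM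
        have hcM : Nat.card (M.subgroupOf K) = Nat.card M :=
          Cfsg.Agent.S0001.card_subgroupOf_of_le hMK
        have hcH : Nat.card (H.subgroupOf K) = Nat.card H :=
          Cfsg.Agent.S0001.card_subgroupOf_of_le hHK
        have hcompl : IsComplement' (M.subgroupOf K) (H.subgroupOf K) := by
          apply isComplement'_of_coprime
          · rw [hcM, hcH, hcardK', mul_comm]
          · rw [hcM, hcH]; exact hcopHM.symm
        have hsolv : Group.IsSolvable (M.subgroupOf K) :=
          Cfsg.Agent.S0001.solvable_subgroupOf M K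
        set U1 := U.map (MulAut.conj g).toMonoidHom with hU1
        have hcU1 : Nat.card U1 = Nat.card U :=
          Subgroup.card_map_of_injective (MulAut.conj g).injective
        have hcU2 : Nat.card (U1.subgroupOf K) = Nat.card U := by
          rw [Cfsg.Agent.S0001.card_subgroupOf_of_le hg, hcU1]
        have hcopU : (Nat.card (U1.subgroupOf K)).Coprime (Nat.card (M.subgroupOf K)) := by
          rw [hcU2, hcM]; exact coprime_of_piNum hU hMpi'
        obtain ⟨k, hk⟩ := sz_dominance (M.subgroupOf K) (H.subgroupOf K) (U1.subgroupOf K)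
          hcompl hcopU
        refine ⟨(k : G) * g, ?_⟩
        rintro _ ⟨u, hu, rfl⟩
        have hu1 : g * u * g⁻¹ ∈ U1 := ⟨u, hu, rfl⟩
        have h1 : (⟨g * u * g⁻¹, hg hu1⟩ : K) ∈ U1.subgroupOf K := by
          rw [Subgroup.mem_subgroupOf]; exact hu1
        have h2 := hk ⟨_, h1, rfl⟩
        rw [Subgroup.mem_subgroupOf] at h2
        have h3 : (MulAut.conj ((k : G) * g)).toMonoidHom u = (k : G) * (g * u * g⁻¹) * (k : G)⁻¹ := by
          simp [mul_assoc]
        rw [h3]
        simpa using h2

/-- **Hall's theorem** for finite groups in which every nontrivial quotient has a nontrivial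
normal π-subgroup or solvable π'-subgroup: Hall π-subgroups exist, and every π-subgroup is
conjugate into any given Hall π-subgroup. -/
theorem hall_of_piSepS (π : Set ℕ) {G : Type u} [Group G] [Finite G] (h : PiSepS π G) :
    (∃ H : Subgroup G, Cfsg.IsPiHall π H) ∧
    (∀ H U : Subgroup G, Cfsg.IsPiHall π H → PiNum π (Nat.card U) →
      ∃ g : G, U.map (MulAut.conj g).toMonoidHom ≤ H) :=
  hall_aux π _ G rfl h

/-- two Hall π-subgroups have the same order -/
theorem card_eq_of_isPiHall {π : Set ℕ} {G : Type*} [Group G] [Finite G] {H K : Subgroup G}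
    (hH : Cfsg.IsPiHall π H) (hK : Cfsg.IsPiHall π K) : Nat.card H = Nat.card K := by
  have h1 := H.card_mul_index
  have h2 := K.card_mul_index
  have c1 : (Nat.card H).Coprime K.index := coprime_of_piNum hH.1 hK.2
  have c2 : (Nat.card K).Coprime H.index := coprime_of_piNum hK.1 hH.2
  apply Nat.dvd_antisymm
  · exact c1.dvd_of_dvd_mul_right (h2 ▸ Dvd.intro _ h1)
  · exact c2.dvd_of_dvd_mul_right (h1 ▸ Dvd.intro _ h2)

/-- conjugacy of Hall π-subgroups -/
theorem hall_conj_of_piSepS (π : Set ℕ) {G : Type u} [Group G] [Finite G] (h : PiSepS π G)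
    (H K : Subgroup G) (hH : Cfsg.IsPiHall π H) (hK : Cfsg.IsPiHall π K) :
    ∃ g : G, K.map (MulAut.conj g).toMonoidHom = H := by
  obtain ⟨g, hg⟩ := (hall_of_piSepS π h).2 H K hH hK.1
  refine ⟨g, ?_⟩
  apply Subgroup.eq_of_le_of_card_ge hg
  rw [Subgroup.card_map_of_injective (MulAut.conj g).injective, card_eq_of_isPiHall hH hK]

end Cfsg.Agent.Lib.Helper20
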