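import Mathlib
import Cfsg.Prelude.Def_OddOrderLocal
import Cfsg.Agent.S0001
import Cfsg.Agent.Lib.Lead.Coprime
import Cfsg.Agent.Lib.Helper20.HallSep

/-!
# Hall subgroups: solvable normal subgroup with π-quotient, relative versions

* `exists_normal_pgroup_le`: a finite group with a nontrivial solvable normal subgroup `K` has a
  nontrivial normal `p`-subgroup contained in `K`.
* `piSepS_of_sup_eq_top`: `K` solvable normal, `A ⊔ K = ⊤`, `|A|` a σ-number ⇒ `PiSepS σ Γ`.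
* `piSepS_of_solvable`: solvable groups are `PiSepS π` for every `π`.
* `hall_dominance_of_piSepS`, and relative versions `hall_rel_dominance`, `hall_rel_conj`
  for a subgroup `Γ` of an ambient group.
-/

set_option autoImplicit false

namespace Cfsg.Agent.Lib.Helper20

open Subgroup
open scoped Pointwise commutatorElement

universe u

/-- a finite group with a nontrivial solvable normal subgroup `K` has a nontrivial normal
`p`-subgroup inside `K`. -/
theorem exists_normal_pgroup_le {Q : Type*} [Group Q] [Finite Q] (K : Subgroup Q) [K.Normal]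
    [Group.IsSolvable K] (hK : K ≠ ⊥) :
    ∃ M : Subgroup Q, M.Normal ∧ M ≠ ⊥ ∧ M ≤ K ∧ ∃ p : ℕ, p.Prime ∧ IsPGroup p M := by
  have hfin : {N : Subgroup Q | N.Normal ∧ N ≠ ⊥ ∧ N ≤ K}.Finite := Set.toFinite _
  have hne : {N : Subgroup Q | N.Normal ∧ N ≠ ⊥ ∧ N ≤ K}.Nonempty := ⟨K, inferInstance, hK, le_rfl⟩
  obtain ⟨N, hN⟩ := hfin.exists_minimal hne
  obtain ⟨hNn, hN0, hNK⟩ := hN.1
  have hNs : Group.IsSolvable N := Cfsg.Agent.Lib.Lead.solvable_of_le hNK
  have hlt : ⁅N, N⁆ < N := Cfsg.Agent.S0001.commutator_lt_of_solvable N hN0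
  have hcn : (⁅N, N⁆ : Subgroup Q).Normal := inferInstance
  have hc : ⁅N, N⁆ = ⊥ := by
    by_contra h
    exact absurd (hN.2 ⟨hcn, h, hlt.le.trans hNK⟩ hlt.le) (not_le_of_gt hlt)
  have hcomm' : ∀ a ∈ N, ∀ b ∈ N, a * b = b * a := by
    intro a ha b hb
    have h1 : ⁅a, b⁆ ∈ ⁅N, N⁆ := Subgroup.commutator_mem_commutator ha hb
    rw [hc, Subgroup.mem_bot, commutatorElement_eq_one_iff_mul_comm] at h1
    exact h1
  have hcard : Nat.card N ≠ 1 := fun h => hN0 ((Subgroup.card_eq_one).mp h)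
  obtain ⟨p, hp, hpd⟩ := Nat.exists_prime_and_dvd hcard
  have : Fact p.Prime := ⟨hp⟩
  let Ω : Subgroup Q :=
    { carrier := {x | x ∈ N ∧ x ^ p = 1}
      one_mem' := ⟨N.one_mem, one_pow p⟩
      mul_mem' := by
        rintro a b ⟨ha, ha'⟩ ⟨hb, hb'⟩
        refine ⟨N.mul_mem ha hb, ?_⟩
        have : Commute a b := hcomm' a ha b hb
        rw [this.mul_pow, ha', hb', one_mul]
      inv_mem' := by
        rintro a ⟨ha, ha'⟩
        exact ⟨N.inv_mem ha, by rw [inv_pow, ha', inv_one]⟩ }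
  have hΩn : Ω.Normal := by
    constructor
    rintro x ⟨hx, hx'⟩ g
    refine ⟨hNn.conj_mem x hx g, ?_⟩
    rw [conj_pow, hx']; group
  have hΩle : Ω ≤ N := fun x hx => hx.1
  obtain ⟨x, hx⟩ := exists_prime_orderOf_dvd_card' (G := N) p hpd
  have hΩne : Ω ≠ ⊥ := by
    intro h
    have hxΩ : (x : Q) ∈ Ω := by
      refine ⟨x.2, ?_⟩
      have := pow_orderOf_eq_one x
      rw [hx] at this
      exact_mod_cast congrArg Subtype.val this
    rw [h, Subgroup.mem_bot] at hxΩ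
    have : x = 1 := Subtype.ext hxΩ
    rw [this, orderOf_one] at hx
    exact hp.one_lt.ne hx
  refine ⟨Ω, hΩn, hΩne, hΩle.trans hNK, p, hp, ?_⟩
  intro y
  refine ⟨1, ?_⟩
  rw [pow_one]
  exact Subtype.ext y.2.2

theorem piNum_prime_pow {π : Set ℕ} {p k : ℕ} (hp : p.Prime) (h : p ∈ π) : PiNum π (p ^ k) := by
  intro q hq hd
  rw [(Nat.prime_dvd_prime_iff_eq hq hp).mp (hq.dvd_of_dvd_pow hd)]
  exact h

theorem piNum'_prime_pow {π : Set ℕ} {p k : ℕ} (hp : p.Prime) (h : p ∉ π) : PiNum' π (p ^ k) := by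
  intro q hq hqπ hd
  rw [(Nat.prime_dvd_prime_iff_eq hq hp).mp (hq.dvd_of_dvd_pow hd)] at hqπ
  exact h hqπ

/-- If `K` is a solvable normal subgroup of the finite group `Γ` and `Γ = A K` with `|A|` a
σ-number, then `Γ` is σ-separable with solvable σ'-factors. -/
theorem piSepS_of_sup_eq_top {σ : Set ℕ} {Γ : Type u} [Group Γ] [Finite Γ] (A K : Subgroup Γ)
    [K.Normal] [Group.IsSolvable K] (hsup : A ⊔ K = ⊤) (hA : PiNum σ (Nat.card A)) :
    PiSepS σ Γ := by
  intro Q _ f hf hQ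
  have : Finite Q := Finite.of_surjective f hf
  have hKn : (K.map f).Normal := Subgroup.Normal.map inferInstance f hf
  by_cases hK : K.map f = ⊥
  · refine ⟨⊤, inferInstance, top_ne_bot, Or.inl ?_⟩
    have h1 : (⊤ : Subgroup Q) = A.map f := by
      rw [← MonoidHom.range_eq_top.mpr hf, MonoidHom.range_eq_map, ← hsup, Subgroup.map_sup, hK,
        sup_bot_eq]
    rw [h1]
    exact hA.of_dvd (A.card_map_dvd f)
  · have hKs : Group.IsSolvable (K.map f) := Cfsg.Agent.S0001.solvable_map f K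
    obtain ⟨M, hMn, hM0, -, p, hp, hpM⟩ := exists_normal_pgroup_le (K.map f) hK
    have : Fact p.Prime := ⟨hp⟩
    obtain ⟨k, hk⟩ := IsPGroup.iff_card.mp hpM
    refine ⟨M, hMn, hM0, ?_⟩
    by_cases hpσ : p ∈ σ
    · left; rw [hk]; exact piNum_prime_pow hp hpσ
    · right
      refine ⟨by rw [hk]; exact piNum'_prime_pow hp hpσ, ?_⟩
      have : Group.IsNilpotent M := hpM.isNilpotent
      infer_instance

/-- finite solvable groups are π-separable (with solvable π'-factors) for every π -/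
theorem piSepS_of_solvable (π : Set ℕ) (G : Type u) [Group G] [Finite G] [Group.IsSolvable G] :
    PiSepS π G := by
  apply piSepS_of_sup_eq_top (⊥ : Subgroup G) (⊤ : Subgroup G) (bot_sup_eq _)
  rw [Subgroup.card_bot]
  exact piNum_one π

/-- every π-subgroup lies in a Hall π-subgroup -/
theorem hall_dominance_of_piSepS (π : Set ℕ) {G : Type u} [Group G] [Finite G] (h : PiSepS π G)
    (U : Subgroup G) (hU : PiNum π (Nat.card U)) :
    ∃ H : Subgroup G, Cfsg.IsPiHall π H ∧ U ≤ H := by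
  obtain ⟨⟨S, hS⟩, hdom⟩ := hall_of_piSepS π h
  obtain ⟨g, hg⟩ := hdom S U hS hU
  refine ⟨S.map (MulAut.conj g⁻¹).toMonoidHom, ⟨?_, ?_⟩, ?_⟩
  · rw [Subgroup.card_map_of_injective (MulAut.conj g⁻¹).injective]; exact hS.1
  · have : (S.map (MulAut.conj g⁻¹).toMonoidHom).index = S.index :=
      Subgroup.index_map_equiv S (MulAut.conj g⁻¹)
    rw [this]; exact hS.2
  · intro u hu
    refine ⟨g * u * g⁻¹, hg ⟨u, hu, by simp⟩, ?_⟩
    simp [mul_assoc]

section rel

variable {X : Type u} [Group X] [Finite X]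

omit [Finite X] in
theorem relIndex_map_subtype (Γ : Subgroup X) (T' : Subgroup Γ) :
    (T'.map Γ.subtype).relIndex Γ = T'.index := by
  unfold Subgroup.relIndex Subgroup.subgroupOf
  rw [Subgroup.comap_map_eq_self_of_injective Γ.subtype_injective]

/-- relative dominance: every σ-subgroup of `Γ` lies in a Hall σ-subgroup of `Γ`. -/
theorem hall_rel_dominance (σ : Set ℕ) (Γ : Subgroup X) (h : PiSepS σ Γ) (V : Subgroup X)
    (hVΓ : V ≤ Γ) (hV : PiNum σ (Nat.card V)) :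
    ∃ T : Subgroup X, T ≤ Γ ∧ PiNum σ (Nat.card T) ∧ PiNum' σ (T.relIndex Γ) ∧ V ≤ T := by
  have hV' : PiNum σ (Nat.card (V.subgroupOf Γ)) := by
    rw [Cfsg.Agent.S0001.card_subgroupOf_of_le hVΓ]; exact hV
  obtain ⟨T', hT', hVT'⟩ := hall_dominance_of_piSepS σ h (V.subgroupOf Γ) hV'
  refine ⟨T'.map Γ.subtype, Subgroup.map_subtype_le T', ?_, ?_, ?_⟩
  · rw [Subgroup.card_map_of_injective Γ.subtype_injective]; exact hT'.1
  · rw [relIndex_map_subtype]; exact hT'.2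
  · intro v hv
    have : (⟨v, hVΓ hv⟩ : Γ) ∈ V.subgroupOf Γ := Subgroup.mem_subgroupOf.mpr hv
    exact ⟨⟨v, hVΓ hv⟩, hVT' this, rfl⟩

/-- relative conjugacy: two Hall σ-subgroups of `Γ` are conjugate by an element of `Γ`. -/
theorem hall_rel_conj (σ : Set ℕ) (Γ : Subgroup X) (h : PiSepS σ Γ) (S T : Subgroup X)
    (hSΓ : S ≤ Γ) (hS1 : PiNum σ (Nat.card S)) (hS2 : PiNum' σ (S.relIndex Γ))
    (hTΓ : T ≤ Γ) (hT1 : PiNum σ (Nat.card T)) (hT2 : PiNum' σ (T.relIndex Γ)) :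
    ∃ g ∈ Γ, MulAut.conj g • S = T := by
  have hS' : Cfsg.IsPiHall σ (S.subgroupOf Γ) :=
    ⟨by rw [Cfsg.Agent.S0001.card_subgroupOf_of_le hSΓ]; exact hS1, hS2⟩
  have hT' : Cfsg.IsPiHall σ (T.subgroupOf Γ) :=
    ⟨by rw [Cfsg.Agent.S0001.card_subgroupOf_of_le hTΓ]; exact hT1, hT2⟩
  obtain ⟨g, hg⟩ := hall_conj_of_piSepS σ h (T.subgroupOf Γ) (S.subgroupOf Γ) hT' hS'
  refine ⟨(g : X), g.2, ?_⟩
  have hle : MulAut.conj (g : X) • S ≤ T := by
    rintro _ ⟨s, hs, rfl⟩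
    have h1 : (⟨s, hSΓ hs⟩ : Γ) ∈ S.subgroupOf Γ := Subgroup.mem_subgroupOf.mpr hs
    have h2 : (MulAut.conj g).toMonoidHom ⟨s, hSΓ hs⟩ ∈ T.subgroupOf Γ := by
      rw [← hg]; exact ⟨_, h1, rfl⟩
    rw [Subgroup.mem_subgroupOf] at h2
    simpa using h2
  apply Subgroup.eq_of_le_of_card_ge hle
  rw [Cfsg.Agent.S0001.card_conj]
  have e1 := card_eq_of_isPiHall hS' hT'
  rw [Cfsg.Agent.S0001.card_subgroupOf_of_le hSΓ, Cfsg.Agent.S0001.card_subgroupOf_of_le hTΓ] at e1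
  exact e1.ge

theorem relIndex_sup_eq_of_le_normalizer' (S' K : Subgroup X)
    (hLE : S' ≤ Subgroup.normalizer (K : Set X)) : S'.relIndex (S' ⊔ K) = S'.relIndex K := by
  have h1 : K.relIndex (S' ⊔ K) = K.relIndex S' := by
    have := Subgroup.normal_subgroupOf_of_le_normalizer hLE
    have := Subgroup.normal_subgroupOf_sup_of_le_normalizer hLE
    exact (Nat.card_congr
      (QuotientGroup.quotientInfEquivProdNormalizerQuotient S' K hLE).toEquiv).symm
  have e1 := Cfsg.Agent.Lib.helper23.card_mul_relIndex (le_sup_right : K ≤ S' ⊔ K)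
  have e2 := Cfsg.Agent.Lib.helper23.card_mul_relIndex (le_sup_left : S' ≤ S' ⊔ K)
  have e3 := Cfsg.Agent.Lib.helper23.card_mul_relIndex (inf_le_right : K ⊓ S' ≤ S')
  have e4 := Cfsg.Agent.Lib.helper23.card_mul_relIndex (inf_le_right : S' ⊓ K ≤ K)
  rw [Subgroup.inf_relIndex_right] at e3 e4
  rw [h1] at e1
  have hpos : 0 < Nat.card S' := Nat.card_pos
  have hinf : Nat.card ↥(S' ⊓ K) = Nat.card ↥(K ⊓ S') := by rw [inf_comm]
  apply Nat.eq_of_mul_eq_mul_left hpos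
  rw [e2, ← e1, ← e4, ← e3, hinf]
  ring

end rel

end Cfsg.Agent.Lib.Helper20
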