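import Mathlib
import Cfsg.Agent.Lib.Helper11.FrobLinOrbit

set_option autoImplicit false

/-!
Hall–Higman Theorem B in the easy case of an abelian normal `p'`-subgroup: linear algebra over an
algebraically closed field.
-/

namespace Cfsg.Agent.Lib.Helper20.HHAbel

open Module Cfsg.Agent.Lib.Helper11.FrobLinEig Cfsg.Agent.Lib.Helper11.FrobLinOrbit

variable {K : Type*} [Field K] {W : Type*} [AddCommGroup W] [Module K W]
variable {Γ : Type*} [Group Γ]

/-- number theory: a proper power of `x` generates a subgroup containing `x ^ p ^ (m-1)`. -/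
theorem exists_pow_eq_top_power {p : ℕ} (hp : p.Prime) {m : ℕ} (hm : 1 ≤ m) {x : Γ}
    (hx : x ^ p ^ m = 1) {d : ℕ} (hd0 : 0 < d) (hd : d < p ^ m) :
    ∃ u : ℕ, (x ^ d) ^ u = x ^ p ^ (m - 1) := by
  have hg : Nat.gcd d (p ^ m) < p ^ m :=
    lt_of_le_of_lt (Nat.le_of_dvd hd0 (Nat.gcd_dvd_left _ _)) hd
  obtain ⟨u, -, hu⟩ := Nat.exists_mul_mod_eq_gcd hg
  obtain ⟨a, ha, hga⟩ := (Nat.dvd_prime_pow hp).mp (Nat.gcd_dvd_right d (p ^ m))
  have ham : a < m := by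
    by_contra h
    have : a = m := le_antisymm ha (not_lt.mp h)
    rw [this] at hga
    rw [hga] at hg
    exact lt_irrefl _ hg
  have h1 : x ^ (d * u) = x ^ p ^ a := by
    rw [pow_eq_pow_mod (d * u) hx, hu, hga]
  refine ⟨u * p ^ (m - 1 - a), ?_⟩
  rw [← pow_mul, ← mul_assoc, pow_mul, h1, ← pow_mul, ← pow_add]
  congr 2
  omega

theorem main_algClosed [IsAlgClosed K] [FiniteDimensional K W] (ρ : Γ →* End K W)
    (Z : Subgroup Γ) [Finite Z] (x : Γ) {p : ℕ} (hp : p.Prime) {m : ℕ} (hm : 1 ≤ m)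
    (hx : x ^ p ^ m = 1)
    (hcomm : ∀ z ∈ Z, ∀ z' ∈ Z, Commute (ρ z) (ρ z'))
    (hZK : ((Nat.card Z : ℕ) : K) ≠ 0)
    (hn : ∀ r ∈ Subgroup.zpowers x, ∀ z ∈ Z, r⁻¹ * z * r ∈ Z)
    (hy : ∃ z ∈ Z, ρ ((x ^ p ^ (m - 1))⁻¹ * z * x ^ p ^ (m - 1)) ≠ ρ z) :
    ∑ i ∈ Finset.range (p ^ m), ρ x ^ i ≠ 0 := by
  classical
  set R := Subgroup.zpowers x with hR
  have hxR : ∀ i : ℕ, x ^ i ∈ R := fun i => Subgroup.pow_mem _ (Subgroup.mem_zpowers x) i
  set y : R := ⟨x ^ p ^ (m - 1), hxR _⟩ with hydef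
  have htop := jointEig_iSup ρ Z hcomm hZK
  -- some weight is moved by `y`
  have hA : ∃ χ : Z → K, jointEig ρ Z χ ≠ ⊥ ∧ act Z R hn y χ ≠ χ := by
    by_contra hcon
    push Not at hcon
    obtain ⟨z, hz, hne⟩ := hy
    apply hne
    have hle : (⨆ χ : Z → K, jointEig ρ Z χ) ≤
        LinearMap.eqLocus (ρ ((x ^ p ^ (m - 1))⁻¹ * z * x ^ p ^ (m - 1))) (ρ z) := by
      apply iSup_le
      intro χ
      by_cases hχ : jointEig ρ Z χ = ⊥
      · rw [hχ]; exact bot_le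
      · intro w hw
        have hact := hcon χ hχ
        rw [LinearMap.mem_eqLocus]
        have hw' := (mem_jointEig ρ Z χ w).mp hw
        have h1 := hw' ⟨(x ^ p ^ (m - 1))⁻¹ * z * x ^ p ^ (m - 1), hn _ (hxR _) z hz⟩
        have h2 := hw' ⟨z, hz⟩
        simp only at h1 h2
        rw [h1, h2]
        congr 1
        have h3 := congrFun hact ⟨z, hz⟩
        exact h3
    rw [htop] at hle
    apply LinearMap.ext
    intro w
    have : w ∈ LinearMap.eqLocus (ρ ((x ^ p ^ (m - 1))⁻¹ * z * x ^ p ^ (m - 1))) (ρ z) :=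
      hle Submodule.mem_top
    exact this
  obtain ⟨χ, hχ, hmove⟩ := hA
  obtain ⟨w, hw, hw0⟩ := (Submodule.ne_bot_iff _).mp hχ
  -- the translates of the weight
  set χi : Fin (p ^ m) → (Z → K) := fun i => act Z R hn ⟨x ^ (i : ℕ), hxR _⟩ χ with hχi
  have hstab : ∀ d : ℕ, 0 < d → d < p ^ m → act Z R hn ⟨x ^ d, hxR _⟩ χ ≠ χ := by
    intro d hd0 hd hfix
    obtain ⟨u, hu⟩ := exists_pow_eq_top_power hp hm hx hd0 hd
    apply hmove
    have hpow : ∀ k : ℕ, act Z R hn (⟨x ^ d, hxR _⟩ ^ k) χ = χ := by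
      intro k
      induction k with
      | zero => rw [pow_zero, act_one]
      | succ k ih => rw [pow_succ, act_mul, hfix, ih]
    have hyu : y = (⟨x ^ d, hxR _⟩ : R) ^ u := by
      apply Subtype.ext
      rw [Subgroup.coe_pow]
      exact hu.symm
    rw [hyu]
    exact hpow u
  have hinj : Function.Injective χi := by
    intro i j hij
    by_contra hne
    wlog hlt : (i : ℕ) < (j : ℕ) generalizing i j
    · have hne' : (i : ℕ) ≠ (j : ℕ) := fun h => hne (Fin.ext h)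
      exact this hij.symm (fun h => hne h.symm) (lt_of_le_of_ne (not_lt.mp hlt) (Ne.symm hne'))
    have hd0 : 0 < (j : ℕ) - i := Nat.sub_pos_of_lt hlt
    have hd : (j : ℕ) - i < p ^ m := lt_of_le_of_lt (Nat.sub_le _ _) j.2
    apply hstab _ hd0 hd
    have e : (⟨x ^ (j : ℕ), hxR _⟩ : R) = ⟨x ^ (i : ℕ), hxR _⟩ * ⟨x ^ ((j : ℕ) - i), hxR _⟩ := by
      apply Subtype.ext
      show x ^ (j : ℕ) = x ^ (i : ℕ) * x ^ ((j : ℕ) - i)
      rw [← pow_add]
      congr 1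
      omega
    have h1 : act Z R hn ⟨x ^ (i : ℕ), hxR _⟩ χ =
        act Z R hn ⟨x ^ (i : ℕ), hxR _⟩ (act Z R hn ⟨x ^ ((j : ℕ) - i), hxR _⟩ χ) := by
      rw [← act_mul, ← e]
      exact hij
    have h2 := congrArg (act Z R hn (⟨x ^ (i : ℕ), hxR _⟩ : R)⁻¹) h1
    rw [← act_mul, ← act_mul, inv_mul_cancel, act_one, act_one] at h2
    exact h2.symm
  -- independence
  have hind : iSupIndep (fun i : Fin (p ^ m) => jointEig ρ Z (χi i)) :=
    (jointEig_indep ρ Z hcomm).comp hinj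
  intro hsum
  have hmem : ∀ i : Fin (p ^ m), (ρ x ^ (i : ℕ)) w ∈ jointEig ρ Z (χi i) := by
    intro i
    have := map_mem ρ Z R hn ⟨x ^ (i : ℕ), hxR _⟩ χ w hw
    rw [map_pow] at this
    exact this
  have hs : ∑ i : Fin (p ^ m), (ρ x ^ (i : ℕ)) w = 0 := by
    rw [Fin.sum_univ_eq_sum_range (fun i => (ρ x ^ i) w) (p ^ m), ← LinearMap.sum_apply, hsum,
      LinearMap.zero_apply]
  have h0 := sum_zero_of_indep _ hind (fun i : Fin (p ^ m) => (ρ x ^ (i : ℕ)) w) hmem hs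
    ⟨0, Nat.pos_of_ne_zero (pow_ne_zero _ hp.ne_zero)⟩
  simp only [pow_zero, Module.End.one_apply] at h0
  exact hw0 h0

end Cfsg.Agent.Lib.Helper20.HHAbel
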