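import Mathlib
import Cfsg.Agent.Lib.Helper11.FrobGrpCore
import Cfsg.Agent.Lib.Helper20.HHAbelA

set_option autoImplicit false

/-!
Hall–Higman Theorem B, abelian case: descent to an arbitrary field and the group-theoretic form.
-/

namespace Cfsg.Agent.Lib.Helper20.HHAbel

open Module TensorProduct Cfsg.Agent.Lib.Helper11.FrobLinBC Cfsg.Agent.Lib.Helper11.FrobGrpCore

section field

variable {k : Type*} [Field k] {V : Type*} [AddCommGroup V] [Module k V]
variable {Γ : Type*} [Group Γ]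

theorem baseChange_ne_zero (K : Type*) [Field K] [Algebra k K] [FiniteDimensional k V]
    (f : End k V) (hf : f ≠ 0) : f.baseChange K ≠ 0 := by
  intro h0
  have h1 := finrank_range_baseChange (k := k) (V := V) K f
  rw [h0, LinearMap.range_zero, finrank_bot] at h1
  have h2 : LinearMap.range f = ⊥ := Submodule.finrank_eq_zero.mp h1.symm
  apply hf
  exact LinearMap.range_eq_bot.mp h2

theorem main_field [FiniteDimensional k V] (ρ₀ : Γ →* End k V)
    (Z : Subgroup Γ) [Finite Z] (x : Γ) {p : ℕ} (hp : p.Prime) {m : ℕ} (hm : 1 ≤ m)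
    (hx : x ^ p ^ m = 1)
    (hcomm : ∀ z ∈ Z, ∀ z' ∈ Z, Commute (ρ₀ z) (ρ₀ z'))
    (hZK : ((Nat.card Z : ℕ) : k) ≠ 0)
    (hn : ∀ r ∈ Subgroup.zpowers x, ∀ z ∈ Z, r⁻¹ * z * r ∈ Z)
    (hy : ∃ z ∈ Z, ρ₀ ((x ^ p ^ (m - 1))⁻¹ * z * x ^ p ^ (m - 1)) ≠ ρ₀ z) :
    ∑ i ∈ Finset.range (p ^ m), ρ₀ x ^ i ≠ 0 := by
  obtain ⟨bc, hbc⟩ : ∃ bc : End k V →ₐ[k] End (AlgebraicClosure k) (AlgebraicClosure k ⊗[k] V),
      bc = Module.End.baseChangeHom k (AlgebraicClosure k) V := ⟨_, rfl⟩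
  have hbca : ∀ f : End k V, bc f = f.baseChange (AlgebraicClosure k) := by
    intro f
    rw [hbc]
    rfl
  obtain ⟨ρ, hρ⟩ : ∃ ρ : Γ →* End (AlgebraicClosure k) (AlgebraicClosure k ⊗[k] V),
      ρ = (bc : End k V →* _).comp ρ₀ := ⟨_, rfl⟩
  have hρa : ∀ g : Γ, ρ g = bc (ρ₀ g) := by
    intro g
    rw [hρ]
    rfl
  have hcast : ∀ n : ℕ, ((n : ℕ) : k) ≠ 0 → ((n : ℕ) : AlgebraicClosure k) ≠ 0 := by
    intro n hn h
    apply hn
    apply (algebraMap k (AlgebraicClosure k)).injective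
    rw [map_natCast, h, map_zero]
  have hmain := main_algClosed ρ Z x hp hm hx
    (fun z hz z' hz' => by
      rw [hρa, hρa]
      exact (hcomm z hz z' hz').map bc)
    (hcast _ hZK) hn
    (by
      obtain ⟨z, hz, hne⟩ := hy
      refine ⟨z, hz, ?_⟩
      rw [hρa, hρa]
      intro heq
      have h1 : bc (ρ₀ ((x ^ p ^ (m - 1))⁻¹ * z * x ^ p ^ (m - 1)) - ρ₀ z) = 0 := by
        rw [map_sub, heq, sub_self]
      rw [hbca] at h1
      exact baseChange_ne_zero _ _ (sub_ne_zero.mpr hne) h1)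
  intro hsum
  apply hmain
  have : ∑ i ∈ Finset.range (p ^ m), ρ x ^ i = bc (∑ i ∈ Finset.range (p ^ m), ρ₀ x ^ i) := by
    rw [map_sum]
    apply Finset.sum_congr rfl
    intro i _
    rw [hρa, map_pow]
  rw [this, hsum, map_zero]

end field

section group

theorem main_group_aux (p : ℕ) [hp : Fact p.Prime] {V : Type*} [CommGroup V] [Finite V]
    [Module (ZMod p) (Additive V)]
    {Γ : Type*} [Group Γ] (φ : Γ →* MulAut V) (hφ : Function.Injective φ)
    (Z : Subgroup Γ) [Finite Z] (x : Γ) {m : ℕ} (hm : 1 ≤ m) (hx : x ^ p ^ m = 1)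
    (hcomm : ∀ z ∈ Z, ∀ z' ∈ Z, z * z' = z' * z) (hZp : ¬ p ∣ Nat.card Z)
    (hn : ∀ r ∈ Subgroup.zpowers x, ∀ z ∈ Z, r⁻¹ * z * r ∈ Z)
    (hy : ∃ z ∈ Z, (x ^ p ^ (m - 1))⁻¹ * z * x ^ p ^ (m - 1) ≠ z) :
    ∃ v : V, ∏ i ∈ Finset.range (p ^ m), φ (x ^ i) v ≠ 1 := by
  have hfin : Module.Finite (ZMod p) (Additive V) := Module.Finite.of_finite
  have hinj : Function.Injective (linRep p φ) := by
    intro a b hab
    apply hφ
    apply MulEquiv.ext
    intro v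
    have h1 := congrArg (fun f => f (Additive.ofMul v)) hab
    simp only [linRep_apply] at h1
    exact congrArg Additive.toMul h1
  have hmain := main_field (linRep p φ) Z x hp.out hm hx
    (fun z hz z' hz' => by
      show linRep p φ z * linRep p φ z' = linRep p φ z' * linRep p φ z
      rw [← map_mul, ← map_mul, hcomm z hz z' hz'])
    (by rw [Ne, ZMod.natCast_eq_zero_iff]; exact hZp) hn
    (by
      obtain ⟨z, hz, hne⟩ := hy
      exact ⟨z, hz, fun h => hne (hinj h)⟩)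
  by_contra hcon
  push Not at hcon
  apply hmain
  apply LinearMap.ext
  intro a
  rw [LinearMap.zero_apply, LinearMap.sum_apply]
  have h1 : ∀ i ∈ Finset.range (p ^ m), (linRep p φ x ^ i) a =
      Additive.ofMul (φ (x ^ i) (Additive.toMul a)) := by
    intro i _
    rw [← map_pow, linRep_apply]
  rw [Finset.sum_congr rfl h1, ← ofMul_prod, hcon (Additive.toMul a)]
  rfl

theorem main_group (p : ℕ) [hp : Fact p.Prime] {V : Type*} [CommGroup V] [Finite V]
    (hV : ∀ v : V, v ^ p = 1)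
    {Γ : Type*} [Group Γ] (φ : Γ →* MulAut V) (hφ : Function.Injective φ)
    (Z : Subgroup Γ) [Finite Z] (x : Γ) {m : ℕ} (hm : 1 ≤ m) (hx : x ^ p ^ m = 1)
    (hcomm : ∀ z ∈ Z, ∀ z' ∈ Z, z * z' = z' * z) (hZp : ¬ p ∣ Nat.card Z)
    (hn : ∀ r ∈ Subgroup.zpowers x, ∀ z ∈ Z, r⁻¹ * z * r ∈ Z)
    (hy : ∃ z ∈ Z, (x ^ p ^ (m - 1))⁻¹ * z * x ^ p ^ (m - 1) ≠ z) :
    ∃ v : V, ∏ i ∈ Finset.range (p ^ m), φ (x ^ i) v ≠ 1 := by
  have hA : ∀ a : Additive V, p • a = 0 := by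
    intro a
    have := hV (Additive.toMul a)
    exact congrArg Additive.ofMul this
  exact @main_group_aux p _ V _ _ (AddCommGroup.zmodModule hA) Γ _ φ hφ Z _ x m hm hx hcomm hZp
    hn hy

end group

end Cfsg.Agent.Lib.Helper20.HHAbel
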