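import Mathlib
import Cfsg.Agent.Lib.Helper11.FrobLinEig

set_option autoImplicit false

/-!
Hall–Higman type analysis for an element of prime order acting on a group of symplectic type:
general linear-algebra lemmas.
-/

namespace Cfsg.Agent.Lib.Helper20.HHExt

open Module

section eigen

variable {K M G ι : Type*} [Field K] [AddCommGroup M] [Module K M] [Monoid G] [Fintype ι]

/-- Simultaneous eigenvectors for pairwise distinct characters: if their sum lies in an invariant
subspace then each of them does. -/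
theorem eigen_mem (act : G → M →ₗ[K] M) (N : Submodule K M)
    (hN : ∀ g, ∀ m ∈ N, act g m ∈ N) (v : ι → M) (lam : ι → (G →* K))
    (hinj : Function.Injective lam) (hv : ∀ i g, act g (v i) = lam i g • v i)
    (hsum : ∑ i, v i ∈ N) : ∀ i, v i ∈ N := by
  intro i
  by_contra hi
  obtain ⟨f, hfi, hNf⟩ := Submodule.exists_le_ker_of_notMem hi
  have hli : LinearIndependent K (fun j : ι => ((lam j : G →* K) : G → K)) :=
    (linearIndependent_monoidHom G K).comp lam hinj
  have hzero : ∑ j, f (v j) • ((lam j : G →* K) : G → K) = 0 := by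
    funext g
    rw [Finset.sum_apply, Pi.zero_apply]
    have h1 : act g (∑ j, v j) ∈ N := hN g _ hsum
    have h2 : f (act g (∑ j, v j)) = 0 := hNf h1
    rw [map_sum, map_sum] at h2
    rw [← h2]
    apply Finset.sum_congr rfl
    intro j _
    rw [hv j g, map_smul, Pi.smul_apply, smul_eq_mul, smul_eq_mul, mul_comm]
  exact hfi (Fintype.linearIndependent_iff.mp hli _ hzero i)

end eigen

section commutant

variable {K : Type*} [Field K]

/-- The commutant of an element of an algebra, as a subspace. -/
def commSub {B : Type*} [Ring B] [Algebra K B] (a : B) : Submodule K B where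
  carrier := {f | a * f = f * a}
  add_mem' := by
    intro f g hf hg
    change a * f = f * a at hf
    change a * g = g * a at hg
    change a * (f + g) = (f + g) * a
    rw [mul_add, add_mul, hf, hg]
  zero_mem' := by
    change a * 0 = 0 * a
    rw [mul_zero, zero_mul]
  smul_mem' := by
    intro c f hf
    change a * f = f * a at hf
    change a * (c • f) = (c • f) * a
    rw [mul_smul_comm, smul_mul_assoc, hf]

theorem mem_commSub {B : Type*} [Ring B] [Algebra K B] (a f : B) :
    f ∈ commSub (K := K) a ↔ a * f = f * a := Iff.rfl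

/-- Counting: a diagonalisable endomorphism of order dividing `r` that misses an `r`-th root of
unity among its eigenvalues has a large commutant. -/
theorem commutant_lower_bound [IsAlgClosed K] {W : Type*} [AddCommGroup W] [Module K W]
    [FiniteDimensional K W] (α : End K W) (r : ℕ) (hr : 0 < r) (hrK : (r : K) ≠ 0)
    (hα : α ^ r = 1) (lam0 : K) (h0 : lam0 ^ r = 1) (hne : ∀ w, α w = lam0 • w → w = 0) :
    (finrank K W) ^ 2 ≤ (r - 1) * finrank K (commSub (K := K) α) := by
  classical
  have hss : α.IsSemisimple := Cfsg.Agent.Lib.Helper11.FrobLinEig.semisimple_of_pow α r hrK hα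
  let eigenDecomp := DirectSum.isInternal_submodule_of_iSupIndep_of_iSup_eq_top
    α.eigenspaces_iSupIndep hss.iSup_eigenspace_eq_top
  let I := (ν : K) × Fin (finrank K (α.eigenspace ν))
  let v : Basis I K W := eigenDecomp.collectedBasis fun μ ↦ finBasis K (α.eigenspace μ)
  have : Fintype I := FiniteDimensional.fintypeBasisIndex v
  let μ : I → K := Sigma.fst
  have hsv (i : I) : α (v i) = μ i • v i :=
    End.mem_eigenspace_iff.mp (eigenDecomp.collectedBasis_mem _ i)
  have hμne : ∀ i, μ i ≠ lam0 := by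
    intro i h
    have := hne (v i) (by rw [hsv i, h])
    exact v.ne_zero i this
  have hμr : ∀ i, μ i ^ r = 1 := by
    intro i
    have h1 : (α ^ r) (v i) = (μ i ^ r) • v i := by
      have : ∀ n : ℕ, (α ^ n) (v i) = (μ i ^ n) • v i := by
        intro n
        induction n with
        | zero => simp
        | succ n ih => rw [pow_succ', End.mul_apply, ih, map_smul, hsv i, smul_smul, pow_succ]
      exact this r
    rw [hα, End.one_apply] at h1
    have h2 : ((1 : K) - μ i ^ r) • v i = 0 := by rw [sub_smul, one_smul, ← h1, sub_self]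
    rcases smul_eq_zero.mp h2 with h3 | h3
    · exact (sub_eq_zero.mp h3).symm
    · exact absurd h3 (v.ne_zero i)
  -- the set of admissible eigenvalues
  let S : Finset K := (Polynomial.nthRootsFinset r (1 : K)).erase lam0
  have hScard : S.card ≤ r - 1 := by
    have hmem : lam0 ∈ Polynomial.nthRootsFinset r (1 : K) :=
      (Polynomial.mem_nthRootsFinset hr (1 : K)).mpr h0
    rw [Finset.card_erase_of_mem hmem]
    have : (Polynomial.nthRootsFinset r (1 : K)).card ≤ r := by
      unfold Polynomial.nthRootsFinset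
      exact le_trans (Multiset.toFinset_card_le _) (Polynomial.card_nthRoots r 1)
    omega
  have hμS : ∀ i, μ i ∈ S := by
    intro i
    exact Finset.mem_erase.mpr ⟨hμne i, (Polynomial.mem_nthRootsFinset hr (1 : K)).mpr (hμr i)⟩
  -- pairs with equal eigenvalue
  let T : Finset (I × I) := Finset.univ.filter fun ij => μ ij.1 = μ ij.2
  have hcomm : ∀ ij ∈ T, v.end ij ∈ commSub (K := K) α := by
    intro ij hij
    have hij' : μ ij.1 = μ ij.2 := (Finset.mem_filter.mp hij).2
    have h1 := Module.Basis.lie_end_of_apply_eq_smul v μ α hsv ij.1 ij.2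
    rw [hij', sub_self, zero_smul, Ring.lie_def, sub_eq_zero] at h1
    exact h1
  have hli : LinearIndependent K (fun ij : T => (⟨v.end ij.1, hcomm ij.1 ij.2⟩ :
      commSub (K := K) α)) := by
    apply LinearIndependent.of_comp (commSub (K := K) α).subtype
    have h1 : LinearIndependent K (fun ij : T => v.end (ij : I × I)) :=
      v.end.linearIndependent.comp (fun ij : T => (ij : I × I)) Subtype.val_injective
    exact h1
  have hTle : T.card ≤ finrank K (commSub (K := K) α) := by
    have := hli.fintype_card_le_finrank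
    simpa using this
  -- Cauchy–Schwarz
  have hn : finrank K W = Fintype.card I := Module.finrank_eq_card_basis v
  let c : K → ℕ := fun lam => (Finset.univ.filter fun i : I => μ i = lam).card
  have hsum1 : ∑ lam ∈ S, c lam = Fintype.card I := by
    rw [← Finset.card_univ]
    exact (Finset.card_eq_sum_card_fiberwise (f := μ) (s := Finset.univ) (t := S)
      (fun i _ => hμS i)).symm
  have hsum2 : ∑ lam ∈ S, c lam ^ 2 = T.card := by
    have h1 : T.card = ∑ lam ∈ S, (T.filter fun ij => μ ij.1 = lam).card :=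
      Finset.card_eq_sum_card_fiberwise (f := fun ij : I × I => μ ij.1) (s := T) (t := S)
        (fun ij _ => hμS ij.1)
    rw [h1]
    apply Finset.sum_congr rfl
    intro lam _
    have h2 : (T.filter fun ij => μ ij.1 = lam) =
        (Finset.univ.filter fun i : I => μ i = lam) ×ˢ (Finset.univ.filter fun i : I => μ i = lam) := by
      ext ij
      simp only [T, Finset.mem_filter, Finset.mem_univ, true_and, Finset.mem_product]
      constructor
      · rintro ⟨h3, h4⟩
        exact ⟨h4, h3 ▸ h4⟩
      · rintro ⟨h3, h4⟩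
        exact ⟨h3.trans h4.symm, h3⟩
    rw [h2, Finset.card_product, sq]
  have hcs := sq_sum_le_card_mul_sum_sq (s := S) (f := c)
  rw [hsum1, hsum2] at hcs
  rw [hn]
  calc Fintype.card I ^ 2 ≤ S.card * T.card := hcs
    _ ≤ (r - 1) * finrank K (commSub (K := K) α) := Nat.mul_le_mul hScard hTle

end commutant

section orbits

variable {α : Type*}

theorem pow_fix_of_fix (σ : Equiv.Perm α) (q : α) (h : σ q = q) (i : ℕ) : (σ ^ i) q = q := by
  induction i with
  | zero => simp
  | succ n ih => rw [pow_succ, Equiv.Perm.mul_apply, h, ih]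

theorem fix_of_pow_fix (σ : Equiv.Perm α) (r : ℕ) (hr : r.Prime) (hσ : σ ^ r = 1) (q : α)
    (d : ℕ) (hd0 : 0 < d) (hd : d < r) (h : (σ ^ d) q = q) : σ q = q := by
  have hcop : Nat.Coprime d r := (Nat.coprime_of_lt_prime hd0.ne' hd hr).symm
  obtain ⟨m, -, hm⟩ := Nat.exists_mul_mod_eq_one_of_coprime hcop hr.one_lt
  have h1 : ((σ ^ d) ^ m) q = q := pow_fix_of_fix (σ ^ d) q h m
  have h2 : (σ ^ d) ^ m = σ := by
    rw [← pow_mul, ← Nat.div_add_mod (d * m) r, hm, pow_add, pow_mul, hσ, one_pow, one_mul, pow_one]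
  rw [h2] at h1
  exact h1

variable [Fintype α] [DecidableEq α]

theorem orbit_count (σ : Equiv.Perm α) (r : ℕ) (hr : r.Prime) (hσ : σ ^ r = 1) (q0 : α)
    (hfix : ∀ q, σ q = q ↔ q = q0) :
    r * (Nat.card (Quotient (Equiv.Perm.SameCycle.setoid σ)) - 1) + 1 ≤ Fintype.card α ∧
    Fintype.card α ≡ 1 [MOD r] := by
  classical
  constructor
  · set Ω := Quotient (Equiv.Perm.SameCycle.setoid σ) with hΩ
    have : Fintype Ω := Fintype.ofFinite Ω
    set ω0 : Ω := Quotient.mk _ q0 with hω0
    have hrep : ∀ ω : Ω, Quotient.mk (Equiv.Perm.SameCycle.setoid σ) ω.out = ω :=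
      fun ω => Quotient.out_eq ω
    have hq0 : ∀ i : ℕ, (σ ^ i) q0 = q0 := pow_fix_of_fix σ q0 ((hfix q0).mpr rfl)
    have hout : ∀ ω : Ω, ω ≠ ω0 → ω.out ≠ q0 := by
      intro ω hω h
      apply hω
      rw [← hrep ω, h]
    let F : Fin r × {ω : Ω // ω ≠ ω0} → {q : α // q ≠ q0} := fun iω =>
      ⟨(σ ^ (iω.1 : ℕ)) iω.2.1.out, by
        intro h
        apply hout iω.2.1 iω.2.2
        have h2 : (σ ^ (iω.1 : ℕ)) iω.2.1.out = (σ ^ (iω.1 : ℕ)) q0 := by rw [h, hq0]
        exact (σ ^ (iω.1 : ℕ)).injective h2⟩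
    have hkey : ∀ (i j : ℕ) (u : α), i ≤ j → j < r → σ u ≠ u →
        (σ ^ i) u = (σ ^ j) u → i = j := by
      intro i j u hij hj hu h
      by_contra hne
      have hlt : i < j := lt_of_le_of_ne hij hne
      apply hu
      apply fix_of_pow_fix σ r hr hσ u (j - i) (by omega) (by omega)
      have h1 : (σ ^ j) u = (σ ^ i) ((σ ^ (j - i)) u) := by
        rw [← Equiv.Perm.mul_apply, ← pow_add]
        congr 2
        omega
      rw [h1] at h
      exact ((σ ^ i).injective h).symm
    have hF : Function.Injective F := by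
      rintro ⟨i, ω, hω⟩ ⟨j, ω', hω'⟩ h
      have h1 : (σ ^ (i : ℕ)) ω.out = (σ ^ (j : ℕ)) ω'.out := congrArg Subtype.val h
      have hsame : σ.SameCycle ω.out ω'.out := by
        refine ⟨(i : ℤ) - (j : ℤ), ?_⟩
        rw [sub_eq_neg_add, zpow_add, Equiv.Perm.mul_apply, zpow_natCast, h1, zpow_neg,
          zpow_natCast]
        exact (σ ^ (j : ℕ)).symm_apply_apply _
      have hωω' : ω = ω' := by
        rw [← hrep ω, ← hrep ω']
        exact Quotient.sound hsame
      subst hωω'
      have hu : σ ω.out ≠ ω.out := fun h => hout ω hω ((hfix _).mp h)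
      have hij : (i : ℕ) = (j : ℕ) := by
        rcases le_total (i : ℕ) (j : ℕ) with hle | hle
        · exact hkey i j ω.out hle j.2 hu h1
        · exact (hkey j i ω.out hle i.2 hu h1.symm).symm
      have : i = j := Fin.ext hij
      subst this
      rfl
    have hcard := Fintype.card_le_of_injective F hF
    rw [Fintype.card_prod, Fintype.card_fin, Fintype.card_subtype_compl, Fintype.card_subtype_compl,
      Fintype.card_subtype_eq, Fintype.card_subtype_eq] at hcard
    rw [Nat.card_eq_fintype_card]
    have hpos : 0 < Fintype.card α := Fintype.card_pos_iff.mpr ⟨q0⟩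
    omega
  · have hfact : Fact r.Prime := ⟨hr⟩
    have h1 := Equiv.Perm.card_compl_support_modEq (σ := σ) (p := r) (n := 1) (by rw [pow_one]; exact hσ)
    have h2 : σ.supportᶜ = {q0} := by
      ext q
      rw [Finset.mem_compl, Equiv.Perm.mem_support, not_not, Finset.mem_singleton]
      exact hfix q
    rw [h2, Finset.card_singleton] at h1
    exact h1.symm

end orbits

theorem numeric_core (n r F ω : ℕ) (hr : r.Prime) (hn : n ≠ 1)
    (ha : n ^ 2 ≤ (r - 1) * F) (hb : F ≤ ω) (hc : r * (ω - 1) + 1 ≤ n ^ 2)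
    (hd : n ^ 2 ≡ 1 [MOD r]) : n = r - 1 := by
  have hr2 := hr.two_le
  obtain ⟨s, rfl⟩ : ∃ s, r = s + 1 := ⟨r - 1, by omega⟩
  rw [Nat.add_sub_cancel] at ha ⊢
  have hω : 1 ≤ ω := by
    by_contra h
    have : ω = 0 := by omega
    subst this
    have : F = 0 := by omega
    subst this
    rw [mul_zero] at ha
    omega
  obtain ⟨t, rfl⟩ : ∃ t, ω = t + 1 := ⟨ω - 1, by omega⟩
  rw [Nat.add_sub_cancel] at hc
  have h1 : n ^ 2 ≤ s * (t + 1) := le_trans ha (Nat.mul_le_mul_left s hb)
  have h2 : t + 1 ≤ s := by nlinarith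
  have h3 : n ^ 2 ≤ s * s := le_trans h1 (Nat.mul_le_mul_left s h2)
  have h4 : n ≤ s := by nlinarith
  have hn0 : 1 ≤ n := by
    by_contra h
    have : n = 0 := by omega
    subst this
    simp at hc
  have h5 : (s + 1) ∣ n ^ 2 - 1 := (Nat.modEq_iff_dvd' (by nlinarith)).mp hd.symm
  have h6 : n ^ 2 - 1 = (n - 1) * (n + 1) := by
    obtain ⟨m, rfl⟩ : ∃ m, n = m + 1 := ⟨n - 1, by omega⟩
    rw [Nat.add_sub_cancel]
    have : (m + 1) ^ 2 = m * (m + 1 + 1) + 1 := by ring
    rw [this, Nat.add_sub_cancel]
  rw [h6] at h5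
  rcases (Nat.Prime.dvd_mul hr).mp h5 with h7 | h7
  · have : n - 1 = 0 := Nat.eq_zero_of_dvd_of_lt h7 (by omega)
    omega
  · have := Nat.le_of_dvd (by omega) h7
    omega


end Cfsg.Agent.Lib.Helper20.HHExt
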