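import Mathlib
import Cfsg.Agent.Lib.Helper20.HHExtA

set_option autoImplicit false

/-!
The twisted group algebra spanned by a linear group of symplectic type: basis and simplicity.
-/

namespace Cfsg.Agent.Lib.Helper20.HHExt

open Module

section twisted

variable {K : Type*} [Field K] {V : Type*} [AddCommGroup V] [Module K V]
variable {Γ : Type*} [Group Γ]

/-- The commutator scalar. -/
def cc (χ : Γ → K) (h g : Γ) : K := χ (h * g * h⁻¹ * g⁻¹)

/-- A linear group of symplectic type: `Z ≤ P` acts by scalars, commutators of `P` lie in `Z`, and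
the commutator pairing is non-degenerate modulo `Z`. -/
structure Setting (ρ : Γ →* End K V) (P Z : Subgroup Γ) (χ : Γ → K) : Prop where
  le : Z ≤ P
  scal : ∀ z ∈ Z, ρ z = χ z • (1 : End K V)
  comm : ∀ h ∈ P, ∀ g ∈ P, h * g * h⁻¹ * g⁻¹ ∈ Z
  nondeg : ∀ g ∈ P, g ∉ Z → ∃ h ∈ P, cc χ h g ≠ 1

variable {ρ : Γ →* End K V} {P Z : Subgroup Γ} {χ : Γ → K}

theorem rho_inv (ρ : Γ →* End K V) (g : Γ) : ρ g * ρ g⁻¹ = 1 := by
  rw [← map_mul, mul_inv_cancel, map_one]

theorem rho_inv' (ρ : Γ →* End K V) (g : Γ) : ρ g⁻¹ * ρ g = 1 := by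
  rw [← map_mul, inv_mul_cancel, map_one]

theorem rho_ne_zero [Nontrivial V] (ρ : Γ →* End K V) (g : Γ) : ρ g ≠ 0 := by
  intro h
  have h1 := rho_inv ρ g
  rw [h, zero_mul] at h1
  exact zero_ne_one h1

theorem smul_one_cancel [Nontrivial V] {c c' : K} (h : c • (1 : End K V) = c' • (1 : End K V)) :
    c = c' := by
  apply (algebraMap K (End K V)).injective
  rw [Algebra.algebraMap_eq_smul_one, Algebra.algebraMap_eq_smul_one]
  exact h

theorem smul_rho_cancel [Nontrivial V] (ρ : Γ →* End K V) {c c' : K} (g : Γ)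
    (h : c • ρ g = c' • ρ g) : c = c' := by
  apply smul_one_cancel (V := V)
  have h1 := congrArg (· * ρ g⁻¹) h
  simp only [smul_mul_assoc, rho_inv] at h1
  exact h1

namespace Setting

theorem conj_eq (hS : Setting ρ P Z χ) {h g : Γ} (hh : h ∈ P) (hg : g ∈ P) :
    ρ h * ρ g * ρ h⁻¹ = cc χ h g • ρ g := by
  have h1 : h * g * h⁻¹ = (h * g * h⁻¹ * g⁻¹) * g := by group
  rw [← map_mul, ← map_mul, h1, map_mul, hS.scal _ (hS.comm h hh g hg), smul_mul_assoc, one_mul]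
  rfl

theorem chi_one [Nontrivial V] (hS : Setting ρ P Z χ) : χ 1 = 1 := by
  apply smul_one_cancel (V := V)
  rw [← hS.scal 1 Z.one_mem, map_one, one_smul]

theorem cc_one_right [Nontrivial V] (hS : Setting ρ P Z χ) (h : Γ) : cc χ h 1 = 1 := by
  unfold cc
  have : h * 1 * h⁻¹ * (1 : Γ)⁻¹ = 1 := by group
  rw [this]
  exact hS.chi_one

theorem cc_one_left [Nontrivial V] (hS : Setting ρ P Z χ) (g : Γ) : cc χ 1 g = 1 := by
  unfold cc
  have : 1 * g * (1 : Γ)⁻¹ * g⁻¹ = 1 := by group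
  rw [this]
  exact hS.chi_one

theorem cc_mul_left [Nontrivial V] (hS : Setting ρ P Z χ) {h h' g : Γ} (hh : h ∈ P)
    (hh' : h' ∈ P) (hg : g ∈ P) : cc χ (h * h') g = cc χ h g * cc χ h' g := by
  apply smul_rho_cancel ρ g
  have e1 : ρ (h * h') * ρ g * ρ (h * h')⁻¹ = ρ h * (ρ h' * ρ g * ρ h'⁻¹) * ρ h⁻¹ := by
    rw [mul_inv_rev, map_mul, map_mul]
    simp only [mul_assoc]
  rw [← hS.conj_eq (P.mul_mem hh hh') hg, e1, hS.conj_eq hh' hg, mul_smul_comm, smul_mul_assoc,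
    hS.conj_eq hh hg, smul_smul, mul_comm]

theorem cc_mul_right [Nontrivial V] (hS : Setting ρ P Z χ) {h g g' : Γ} (hh : h ∈ P)
    (hg : g ∈ P) (hg' : g' ∈ P) : cc χ h (g * g') = cc χ h g * cc χ h g' := by
  apply smul_rho_cancel ρ (g * g')
  have e1 : ρ h * ρ (g * g') * ρ h⁻¹ = (ρ h * ρ g * ρ h⁻¹) * (ρ h * ρ g' * ρ h⁻¹) := by
    have : ρ h * ρ g * ρ h⁻¹ * (ρ h * ρ g' * ρ h⁻¹) = ρ h * ρ g * (ρ h⁻¹ * ρ h) * ρ g' * ρ h⁻¹ := by
      simp only [mul_assoc]
    rw [this, rho_inv', mul_one, map_mul]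
    simp only [mul_assoc]
  rw [← hS.conj_eq hh (P.mul_mem hg hg'), e1, hS.conj_eq hh hg, hS.conj_eq hh hg', smul_mul_smul_comm,
    map_mul]

theorem cc_inv_right [Nontrivial V] (hS : Setting ρ P Z χ) {h g : Γ} (hh : h ∈ P)
    (hg : g ∈ P) : cc χ h g⁻¹ = (cc χ h g)⁻¹ := by
  have h1 := hS.cc_mul_right hh hg (P.inv_mem hg)
  rw [mul_inv_cancel, hS.cc_one_right] at h1
  exact eq_inv_of_mul_eq_one_right h1.symm

/-- Elements of `P` acting as scalars lie in `Z`. -/
theorem mem_of_scalar [Nontrivial V] (hS : Setting ρ P Z χ) {g : Γ} (hg : g ∈ P) {c : K}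
    (hc : ρ g = c • (1 : End K V)) : g ∈ Z := by
  by_contra hgZ
  obtain ⟨h, hh, hne⟩ := hS.nondeg g hg hgZ
  apply hne
  apply smul_rho_cancel ρ g
  rw [← hS.conj_eq hh hg, one_smul, hc, mul_smul_comm, smul_mul_assoc, mul_one, rho_inv]

theorem cc_eq_one_of_mem [Nontrivial V] (hS : Setting ρ P Z χ) {h g : Γ} (hh : h ∈ P)
    (hg : g ∈ Z) : cc χ h g = 1 := by
  apply smul_rho_cancel ρ g
  rw [← hS.conj_eq hh (hS.le hg), one_smul, hS.scal g hg, mul_smul_comm, smul_mul_assoc, mul_one,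
    rho_inv]

theorem chi_ne_zero [Nontrivial V] (hS : Setting ρ P Z χ) {z : Γ} (hz : z ∈ Z) : χ z ≠ 0 := by
  intro h
  have h1 := hS.scal z hz
  rw [h, zero_smul] at h1
  exact rho_ne_zero ρ z h1

end Setting

/-- The coset space `P / Z`. -/
abbrev Pbar (P Z : Subgroup Γ) := ↥P ⧸ Z.subgroupOf P

/-- Coset representatives. -/
noncomputable def tq (P Z : Subgroup Γ) (q : Pbar P Z) : Γ := ((Quotient.out q : ↥P) : Γ)

theorem tq_mem (q : Pbar P Z) : tq P Z q ∈ P := (Quotient.out q).2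

theorem mk_tq (q : Pbar P Z) : (QuotientGroup.mk ⟨tq P Z q, tq_mem q⟩ : Pbar P Z) = q :=
  QuotientGroup.out_eq' q

theorem mk_eq_iff {g g' : Γ} (hg : g ∈ P) (hg' : g' ∈ P) :
    (QuotientGroup.mk ⟨g, hg⟩ : Pbar P Z) = QuotientGroup.mk ⟨g', hg'⟩ ↔ g⁻¹ * g' ∈ Z := by
  rw [QuotientGroup.eq, Subgroup.mem_subgroupOf]
  rfl

namespace Setting

theorem exists_smul_eq [Nontrivial V] (hS : Setting ρ P Z χ) {g : Γ} (hg : g ∈ P) :
    ∃ s : K, s ≠ 0 ∧ ρ g = s • ρ (tq P Z (QuotientGroup.mk ⟨g, hg⟩)) := by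
  have h1 : (QuotientGroup.mk ⟨tq P Z (QuotientGroup.mk ⟨g, hg⟩), tq_mem _⟩ : Pbar P Z) =
      QuotientGroup.mk ⟨g, hg⟩ := mk_tq _
  rw [mk_eq_iff] at h1
  set t := tq P Z (QuotientGroup.mk ⟨g, hg⟩) with ht
  have h2 : g = t * (t⁻¹ * g) := by group
  refine ⟨χ (t⁻¹ * g), hS.chi_ne_zero h1, ?_⟩
  conv_lhs => rw [h2]
  rw [map_mul, hS.scal _ h1, mul_smul_comm, mul_one]

/-- The eigencharacter of `ρ g` under conjugation by `P`. -/
noncomputable def lam [Nontrivial V] (hS : Setting ρ P Z χ) (g : ↥P) : ↥P →* K where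
  toFun h := cc χ (h : Γ) (g : Γ)
  map_one' := hS.cc_one_left _
  map_mul' h h' := hS.cc_mul_left h.2 h'.2 g.2

theorem lam_apply [Nontrivial V] (hS : Setting ρ P Z χ) (g h : ↥P) :
    hS.lam g h = cc χ (h : Γ) (g : Γ) := rfl

theorem lam_inj [Nontrivial V] (hS : Setting ρ P Z χ) :
    Function.Injective (fun q : Pbar P Z => hS.lam ⟨tq P Z q, tq_mem q⟩) := by
  intro q q' h
  rw [← mk_tq q, ← mk_tq q', mk_eq_iff]
  by_contra hne
  obtain ⟨k, hk, hkne⟩ := hS.nondeg _ (P.mul_mem (P.inv_mem (tq_mem q)) (tq_mem q')) hne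
  apply hkne
  rw [hS.cc_mul_right hk (P.inv_mem (tq_mem q)) (tq_mem q'), hS.cc_inv_right hk (tq_mem q)]
  have h1 := congrArg (fun f : ↥P →* K => f ⟨k, hk⟩) h
  simp only [lam_apply] at h1
  rw [h1]
  apply inv_mul_cancel₀
  intro h0
  have h2 := hS.conj_eq hk (tq_mem q')
  rw [h0, zero_smul] at h2
  have h3 : ρ (tq P Z q') = 0 := by
    have : ρ (tq P Z q') = ρ k⁻¹ * (ρ k * ρ (tq P Z q') * ρ k⁻¹) * ρ k := by
      have e : ρ k⁻¹ * (ρ k * ρ (tq P Z q') * ρ k⁻¹) * ρ k =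
          (ρ k⁻¹ * ρ k) * ρ (tq P Z q') * (ρ k⁻¹ * ρ k) := by simp only [mul_assoc]
      rw [e, rho_inv', one_mul, mul_one]
    rw [this, h2, mul_zero, zero_mul]
  exact rho_ne_zero ρ _ h3

end Setting

/-- Conjugation by `ρ h` as a linear endomorphism of `End K V`. -/
def conjAct (ρ : Γ →* End K V) (h : Γ) : End K V →ₗ[K] End K V :=
  (LinearMap.mulLeft K (ρ h)).comp (LinearMap.mulRight K (ρ h⁻¹))

theorem conjAct_apply (ρ : Γ →* End K V) (h : Γ) (f : End K V) :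
    conjAct ρ h f = ρ h * f * ρ h⁻¹ := by
  unfold conjAct
  rw [LinearMap.comp_apply, LinearMap.mulRight_apply, LinearMap.mulLeft_apply, mul_assoc]

namespace Setting

/-- Extraction of homogeneous components from a conjugation-invariant subspace. -/
theorem component_mem [Nontrivial V] [Finite P] (hS : Setting ρ P Z χ) (N : Submodule K (End K V))
    (hN : ∀ h ∈ P, ∀ f ∈ N, ρ h * f * ρ h⁻¹ ∈ N) (a : Pbar P Z → K)
    (hsum : ∑ᶠ q, a q • ρ (tq P Z q) ∈ N) : ∀ q, a q • ρ (tq P Z q) ∈ N := by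
  classical
  have : Fintype (Pbar P Z) := Fintype.ofFinite _
  rw [finsum_eq_sum_of_fintype] at hsum
  apply eigen_mem (G := ↥P) (fun h => conjAct ρ (h : Γ)) N
    (fun h f hf => by rw [conjAct_apply]; exact hN h h.2 f hf)
    (fun q => a q • ρ (tq P Z q)) (fun q => hS.lam ⟨tq P Z q, tq_mem q⟩) hS.lam_inj
    (fun q h => by
      rw [conjAct_apply, mul_smul_comm, smul_mul_assoc, hS.conj_eq h.2 (tq_mem q), lam_apply,
        smul_comm])
    hsum

theorem linearIndependent_tq [Nontrivial V] [Finite P] (hS : Setting ρ P Z χ) :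
    LinearIndependent K (fun q : Pbar P Z => ρ (tq P Z q)) := by
  classical
  have : Fintype (Pbar P Z) := Fintype.ofFinite _
  rw [Fintype.linearIndependent_iff]
  intro a ha q
  have h1 := hS.component_mem ⊥ (fun h _ f hf => by
    rw [Submodule.mem_bot] at hf ⊢
    rw [hf, mul_zero, zero_mul]) a (by
    rw [finsum_eq_sum_of_fintype, ha]
    exact Submodule.zero_mem _) q
  rw [Submodule.mem_bot] at h1
  rcases smul_eq_zero.mp h1 with h2 | h2
  · exact h2
  · exact absurd h2 (rho_ne_zero ρ _)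

end Setting

/-- The span of `ρ(P)`. -/
def spanP (ρ : Γ →* End K V) (P : Subgroup Γ) : Submodule K (End K V) :=
  Submodule.span K (Set.range fun g : P => ρ (g : Γ))

theorem rho_mem_spanP (ρ : Γ →* End K V) {P : Subgroup Γ} {g : Γ} (hg : g ∈ P) :
    ρ g ∈ spanP ρ P := Submodule.subset_span ⟨⟨g, hg⟩, rfl⟩

theorem one_mem_spanP (ρ : Γ →* End K V) (P : Subgroup Γ) : (1 : End K V) ∈ spanP ρ P := by
  rw [← map_one ρ]
  exact rho_mem_spanP ρ P.one_mem

theorem mul_mem_spanP (ρ : Γ →* End K V) (P : Subgroup Γ) (f g : End K V) (hf : f ∈ spanP ρ P)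
    (hg : g ∈ spanP ρ P) : f * g ∈ spanP ρ P := by
  have h1 : f * g ∈ spanP ρ P * spanP ρ P := Submodule.mul_mem_mul hf hg
  have h2 : spanP ρ P * spanP ρ P ≤ spanP ρ P := by
    unfold spanP
    rw [Submodule.span_mul_span]
    apply Submodule.span_mono
    rintro _ ⟨_, ⟨a, rfl⟩, _, ⟨b, rfl⟩, rfl⟩
    exact ⟨a * b, by simp⟩
  exact h2 h1

/-- The algebra spanned by `ρ(P)`. -/
def algP (ρ : Γ →* End K V) (P : Subgroup Γ) : Subalgebra K (End K V) :=
  (spanP ρ P).toSubalgebra (one_mem_spanP ρ P) (mul_mem_spanP ρ P)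

theorem mem_algP (ρ : Γ →* End K V) (P : Subgroup Γ) (f : End K V) :
    f ∈ algP ρ P ↔ f ∈ spanP ρ P := Iff.rfl

theorem rho_mem_algP (ρ : Γ →* End K V) {P : Subgroup Γ} {g : Γ} (hg : g ∈ P) :
    ρ g ∈ algP ρ P := rho_mem_spanP ρ hg

theorem algP_le (ρ : Γ →* End K V) (P : Subgroup Γ) (B : Submodule K (End K V))
    (h : ∀ g ∈ P, ρ g ∈ B) : ∀ f ∈ algP ρ P, f ∈ B := by
  intro f hf
  have h1 : spanP ρ P ≤ B := by
    unfold spanP
    rw [Submodule.span_le]
    rintro _ ⟨g, rfl⟩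
    exact h g g.2
  exact h1 hf

namespace Setting

theorem spanP_eq [Nontrivial V] (hS : Setting ρ P Z χ) :
    spanP ρ P = Submodule.span K (Set.range fun q : Pbar P Z => ρ (tq P Z q)) := by
  apply le_antisymm
  · unfold spanP
    rw [Submodule.span_le]
    rintro _ ⟨g, rfl⟩
    obtain ⟨s, -, hs⟩ := hS.exists_smul_eq g.2
    show ρ (g : Γ) ∈ Submodule.span K (Set.range fun q : Pbar P Z => ρ (tq P Z q))
    rw [hs]
    exact Submodule.smul_mem _ _ (Submodule.subset_span ⟨_, rfl⟩)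
  · rw [Submodule.span_le]
    rintro _ ⟨q, rfl⟩
    exact rho_mem_spanP ρ (tq_mem q)

/-- The basis of the algebra spanned by `ρ(P)` given by coset representatives. -/
noncomputable def basisA [Nontrivial V] [Finite P] (hS : Setting ρ P Z χ) :
    Basis (Pbar P Z) K (algP ρ P) :=
  Basis.mk (v := fun q => (⟨ρ (tq P Z q), rho_mem_algP ρ (tq_mem q)⟩ : algP ρ P))
    (LinearIndependent.of_comp (algP ρ P).val.toLinearMap hS.linearIndependent_tq)
    (by
      rintro ⟨f, hfA⟩ -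
      have hf := hfA
      rw [mem_algP, hS.spanP_eq] at hf
      have h1 : (Set.range fun q : Pbar P Z => ρ (tq P Z q)) =
          (algP ρ P).val.toLinearMap '' (Set.range fun q : Pbar P Z =>
            (⟨ρ (tq P Z q), rho_mem_algP ρ (tq_mem q)⟩ : algP ρ P)) := by
        rw [← Set.range_comp]
        rfl
      rw [h1, ← Submodule.map_span] at hf
      obtain ⟨f', hf', hff'⟩ := hf
      have : f' = ⟨f, hfA⟩ := Subtype.ext hff'
      rw [← this]
      exact hf')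

theorem basisA_apply [Nontrivial V] [Finite P] (hS : Setting ρ P Z χ) (q : Pbar P Z) :
    ((hS.basisA q : algP ρ P) : End K V) = ρ (tq P Z q) := by
  unfold basisA
  rw [Basis.mk_apply]

theorem finrank_algP [Nontrivial V] [Finite P] (hS : Setting ρ P Z χ) :
    finrank K (algP ρ P) = Nat.card (Pbar P Z) :=
  Module.finrank_eq_nat_card_basis hS.basisA

theorem finiteDimensional_algP [Nontrivial V] [Finite P] (hS : Setting ρ P Z χ) :
    FiniteDimensional K (algP ρ P) :=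
  Module.Finite.of_basis hS.basisA

theorem coe_eq_sum [Nontrivial V] [Finite P] (hS : Setting ρ P Z χ) (f : algP ρ P) :
    (f : End K V) = ∑ᶠ q, hS.basisA.repr f q • ρ (tq P Z q) := by
  classical
  have : Fintype (Pbar P Z) := Fintype.ofFinite _
  rw [finsum_eq_sum_of_fintype]
  conv_lhs => rw [← hS.basisA.sum_repr f]
  rw [AddSubmonoidClass.coe_finsetSum]
  apply Finset.sum_congr rfl
  intro q _
  have : ((hS.basisA.repr f q • hS.basisA q : algP ρ P) : End K V) =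
      hS.basisA.repr f q • ((hS.basisA q : algP ρ P) : End K V) := rfl
  rw [this, hS.basisA_apply]

theorem isSimpleRing_algP [Nontrivial V] [Finite P] (hS : Setting ρ P Z χ) :
    IsSimpleRing (algP ρ P) := by
  classical
  have hnt : Nontrivial (algP ρ P) := by
    refine ⟨⟨0, 1, ?_⟩⟩
    intro h
    have := congrArg Subtype.val h
    exact zero_ne_one this
  apply IsSimpleRing.of_eq_bot_or_eq_top
  intro I
  by_contra hI
  push Not at hI
  obtain ⟨hbot, htop⟩ := hI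
  apply hbot
  apply TwoSidedIdeal.ext
  intro f
  rw [TwoSidedIdeal.mem_bot]
  constructor
  · intro hfI
    by_contra hf0
    apply htop
    rw [← TwoSidedIdeal.one_mem_iff]
    -- the image of the ideal in `End K V`
    let N : Submodule K (End K V) :=
      { carrier := {m | ∃ hm : m ∈ algP ρ P, (⟨m, hm⟩ : algP ρ P) ∈ I}
        add_mem' := by
          rintro a b ⟨ha, haI⟩ ⟨hb, hbI⟩
          exact ⟨(algP ρ P).add_mem ha hb, I.add_mem haI hbI⟩
        zero_mem' := ⟨(algP ρ P).zero_mem, I.zero_mem⟩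
        smul_mem' := by
          rintro c a ⟨ha, haI⟩
          refine ⟨(algP ρ P).smul_mem ha c, ?_⟩
          have : (⟨c • a, (algP ρ P).smul_mem ha c⟩ : algP ρ P) =
              algebraMap K (algP ρ P) c * ⟨a, ha⟩ := by
            rw [← Algebra.smul_def]
            rfl
          rw [this]
          exact I.mul_mem_left _ _ haI }
    have hN : ∀ h ∈ P, ∀ m ∈ N, ρ h * m * ρ h⁻¹ ∈ N := by
      rintro h hh m ⟨hm, hmI⟩
      refine ⟨(algP ρ P).mul_mem ((algP ρ P).mul_mem (rho_mem_algP ρ hh) hm)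
        (rho_mem_algP ρ (P.inv_mem hh)), ?_⟩
      exact I.mul_mem_right _ ⟨ρ h⁻¹, rho_mem_algP ρ (P.inv_mem hh)⟩
        (I.mul_mem_left ⟨ρ h, rho_mem_algP ρ hh⟩ _ hmI)
    have hsum : ∑ᶠ q, hS.basisA.repr f q • ρ (tq P Z q) ∈ N := by
      rw [← hS.coe_eq_sum f]
      exact ⟨f.2, hfI⟩
    have hcomp := hS.component_mem N hN _ hsum
    obtain ⟨q, hq⟩ : ∃ q, hS.basisA.repr f q ≠ 0 := by
      by_contra hall
      push Not at hall
      apply hf0
      apply hS.basisA.repr.injective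
      ext q
      rw [hall q, map_zero, Finsupp.zero_apply]
    have h1 : ρ (tq P Z q) ∈ N := by
      have := N.smul_mem (hS.basisA.repr f q)⁻¹ (hcomp q)
      rwa [smul_smul, inv_mul_cancel₀ hq, one_smul] at this
    obtain ⟨hm, hmI⟩ := h1
    have h2 := I.mul_mem_right _ ⟨ρ (tq P Z q)⁻¹, rho_mem_algP ρ (P.inv_mem (tq_mem q))⟩ hmI
    have h3 : (⟨ρ (tq P Z q), hm⟩ : algP ρ P) *
        ⟨ρ (tq P Z q)⁻¹, rho_mem_algP ρ (P.inv_mem (tq_mem q))⟩ = 1 := by
      apply Subtype.ext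
      exact rho_inv ρ _
    rw [h3] at h2
    exact h2
  · rintro rfl
    exact I.zero_mem

end Setting

end twisted

end Cfsg.Agent.Lib.Helper20.HHExt
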