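import Mathlib
import Cfsg.Agent.Lib.Helper20.HHExtB

set_option autoImplicit false

/-!
An element `x` of prime order normalising a linear group of symplectic type: the induced
permutation of `P / Z` and the bound on the fixed space of conjugation on the twisted algebra.
-/

namespace Cfsg.Agent.Lib.Helper20.HHExt

open Module

section xaction

variable {K : Type*} [Field K] {V : Type*} [AddCommGroup V] [Module K V]
variable {Γ : Type*} [Group Γ]
variable {ρ : Γ →* End K V} {P Z : Subgroup Γ} {χ : Γ → K}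

/-- Hypotheses on the element `x`. -/
structure XSetting (P Z : Subgroup Γ) (x : Γ) (r : ℕ) : Prop where
  norm : ∀ g, g ∈ P ↔ x * g * x⁻¹ ∈ P
  pow : x ^ r = 1
  fpf : ∀ g ∈ P, x * g * x⁻¹ * g⁻¹ ∈ Z → g ∈ Z

namespace Setting

theorem conj_mem_Z [Nontrivial V] (hS : Setting ρ P Z χ) {x : Γ} (hx : ∀ g, g ∈ P ↔ x * g * x⁻¹ ∈ P)
    (z : Γ) : z ∈ Z ↔ x * z * x⁻¹ ∈ Z := by
  constructor
  · intro hz
    apply hS.mem_of_scalar ((hx z).mp (hS.le hz)) (c := χ z)
    rw [map_mul, map_mul, hS.scal z hz, mul_smul_comm, smul_mul_assoc, mul_one, rho_inv]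
  · intro hz
    have hzP : z ∈ P := (hx z).mpr (hS.le hz)
    apply hS.mem_of_scalar hzP (c := χ (x * z * x⁻¹))
    have h1 : z = x⁻¹ * (x * z * x⁻¹) * x := by group
    conv_lhs => rw [h1]
    rw [map_mul, map_mul, hS.scal _ hz, mul_smul_comm, smul_mul_assoc, mul_one, rho_inv']

end Setting

/-- The map induced by conjugation by `x` on `P / Z`. -/
noncomputable def sigFun [Nontrivial V] (hS : Setting ρ P Z χ) {x : Γ}
    (hx : ∀ g, g ∈ P ↔ x * g * x⁻¹ ∈ P) : Pbar P Z → Pbar P Z :=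
  Quotient.map' (fun g : ↥P => (⟨x * g * x⁻¹, (hx g).mp g.2⟩ : ↥P)) (by
    intro a b hab
    rw [QuotientGroup.leftRel_apply, Subgroup.mem_subgroupOf] at hab ⊢
    have h1 : (((⟨x * a * x⁻¹, (hx a).mp a.2⟩ : ↥P)⁻¹ * ⟨x * b * x⁻¹, (hx b).mp b.2⟩ : ↥P) : Γ) =
        x * (((a⁻¹ * b : ↥P)) : Γ) * x⁻¹ := by
      simp only [Subgroup.coe_mul, Subgroup.coe_inv]
      group
    rw [h1]
    exact (hS.conj_mem_Z hx _).mp hab)

theorem sigFun_mk [Nontrivial V] (hS : Setting ρ P Z χ) {x : Γ}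
    (hx : ∀ g, g ∈ P ↔ x * g * x⁻¹ ∈ P) {g : Γ} (hg : g ∈ P) :
    sigFun hS hx (QuotientGroup.mk ⟨g, hg⟩) = QuotientGroup.mk ⟨x * g * x⁻¹, (hx g).mp hg⟩ := rfl

theorem sigFun_injective [Nontrivial V] (hS : Setting ρ P Z χ) {x : Γ}
    (hx : ∀ g, g ∈ P ↔ x * g * x⁻¹ ∈ P) : Function.Injective (sigFun hS hx) := by
  intro q q' h
  rw [← mk_tq q, ← mk_tq q', sigFun_mk, sigFun_mk, mk_eq_iff] at h
  rw [← mk_tq q, ← mk_tq q', mk_eq_iff]
  rw [hS.conj_mem_Z hx]
  have : x * ((tq P Z q)⁻¹ * tq P Z q') * x⁻¹ = (x * tq P Z q * x⁻¹)⁻¹ * (x * tq P Z q' * x⁻¹) := by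
    group
  rw [this]
  exact h

/-- The permutation induced by conjugation by `x` on `P / Z`. -/
noncomputable def sig [Nontrivial V] [Finite P] (hS : Setting ρ P Z χ) {x : Γ}
    (hx : ∀ g, g ∈ P ↔ x * g * x⁻¹ ∈ P) : Equiv.Perm (Pbar P Z) :=
  Equiv.ofBijective (sigFun hS hx) (Finite.injective_iff_bijective.mp (sigFun_injective hS hx))

theorem sig_mk [Nontrivial V] [Finite P] (hS : Setting ρ P Z χ) {x : Γ}
    (hx : ∀ g, g ∈ P ↔ x * g * x⁻¹ ∈ P) {g : Γ} (hg : g ∈ P) :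
    sig hS hx (QuotientGroup.mk ⟨g, hg⟩) = QuotientGroup.mk ⟨x * g * x⁻¹, (hx g).mp hg⟩ := rfl

theorem pow_conj_mem {x : Γ} (hx : ∀ g, g ∈ P ↔ x * g * x⁻¹ ∈ P) (i : ℕ) {g : Γ} (hg : g ∈ P) :
    x ^ i * g * (x ^ i)⁻¹ ∈ P := by
  induction i with
  | zero => simpa using hg
  | succ n ih =>
    have : x ^ (n + 1) * g * (x ^ (n + 1))⁻¹ = x * (x ^ n * g * (x ^ n)⁻¹) * x⁻¹ := by
      rw [pow_succ']
      group
    rw [this]
    exact (hx _).mp ih

theorem sig_pow_mk [Nontrivial V] [Finite P] (hS : Setting ρ P Z χ) {x : Γ}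
    (hx : ∀ g, g ∈ P ↔ x * g * x⁻¹ ∈ P) (i : ℕ) {g : Γ} (hg : g ∈ P) :
    (sig hS hx ^ i) (QuotientGroup.mk ⟨g, hg⟩) =
      QuotientGroup.mk ⟨x ^ i * g * (x ^ i)⁻¹, pow_conj_mem hx i hg⟩ := by
  induction i with
  | zero => simp
  | succ n ih =>
    rw [pow_succ', Equiv.Perm.mul_apply, ih, sig_mk]
    congr 2
    rw [pow_succ']
    group

theorem sig_pow_eq_one [Nontrivial V] [Finite P] (hS : Setting ρ P Z χ) {x : Γ} {r : ℕ}
    (hX : XSetting P Z x r) : sig hS hX.norm ^ r = 1 := by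
  apply Equiv.ext
  intro q
  rw [← mk_tq q, sig_pow_mk]
  rw [Equiv.Perm.one_apply]
  congr 2
  rw [hX.pow]
  group

theorem sig_fix_iff [Nontrivial V] [Finite P] (hS : Setting ρ P Z χ) {x : Γ} {r : ℕ}
    (hX : XSetting P Z x r) (q : Pbar P Z) :
    sig hS hX.norm q = q ↔ q = QuotientGroup.mk ⟨1, P.one_mem⟩ := by
  constructor
  · intro h
    rw [← mk_tq q] at h ⊢
    rw [sig_mk, mk_eq_iff] at h
    rw [mk_eq_iff]
    have h1 : x * (tq P Z q)⁻¹ * x⁻¹ * ((tq P Z q)⁻¹)⁻¹ ∈ Z := by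
      have : x * (tq P Z q)⁻¹ * x⁻¹ * ((tq P Z q)⁻¹)⁻¹ = (x * tq P Z q * x⁻¹)⁻¹ * tq P Z q := by group
      rw [this]
      exact h
    have h2 := hX.fpf _ (P.inv_mem (tq_mem q)) h1
    have h3 : (tq P Z q)⁻¹ * 1 = (tq P Z q)⁻¹ := mul_one _
    rw [h3]
    exact h2
  · rintro rfl
    rw [sig_mk]
    congr 2
    group

/-- The part of the twisted algebra commuting with `ρ x`. -/
def fixA (ρ : Γ →* End K V) (P : Subgroup Γ) (x : Γ) : Submodule K (End K V) :=
  Subalgebra.toSubmodule (algP ρ P) ⊓ commSub (K := K) (ρ x)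

theorem mem_fixA (ρ : Γ →* End K V) (P : Subgroup Γ) (x : Γ) (f : End K V) :
    f ∈ fixA ρ P x ↔ f ∈ algP ρ P ∧ ρ x * f = f * ρ x := Iff.rfl

namespace Setting

theorem conj_tq [Nontrivial V] [Finite P] (hS : Setting ρ P Z χ) {x : Γ}
    (hx : ∀ g, g ∈ P ↔ x * g * x⁻¹ ∈ P) (q : Pbar P Z) :
    ∃ s : K, s ≠ 0 ∧ ρ x * ρ (tq P Z q) * ρ x⁻¹ = s • ρ (tq P Z (sig hS hx q)) := by
  obtain ⟨s, hs0, hs⟩ := hS.exists_smul_eq ((hx _).mp (tq_mem q))
  refine ⟨s, hs0, ?_⟩
  rw [← map_mul, ← map_mul, hs]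
  congr 3
  conv_rhs => rw [← mk_tq q]
  rw [sig_mk]

theorem repr_sig [Nontrivial V] [Finite P] (hS : Setting ρ P Z χ) {x : Γ}
    (hx : ∀ g, g ∈ P ↔ x * g * x⁻¹ ∈ P) (f : algP ρ P) (hf : ρ x * (f : End K V) = (f : End K V) * ρ x)
    (q : Pbar P Z) :
    hS.basisA.repr f q = 0 ↔ hS.basisA.repr f (sig hS hx q) = 0 := by
  classical
  have : Fintype (Pbar P Z) := Fintype.ofFinite _
  choose s hs0 hs using hS.conj_tq hx
  set a := fun q => hS.basisA.repr f q with ha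
  have hfix : ρ x * (f : End K V) * ρ x⁻¹ = (f : End K V) := by
    rw [hf, mul_assoc, rho_inv, mul_one]
  have h1 : (f : End K V) = ∑ q, a q • ρ (tq P Z q) := by
    rw [hS.coe_eq_sum f, finsum_eq_sum_of_fintype]
  have h2 : ρ x * (f : End K V) * ρ x⁻¹ = ∑ q, (a q * s q) • ρ (tq P Z (sig hS hx q)) := by
    rw [h1, Finset.mul_sum, Finset.sum_mul]
    apply Finset.sum_congr rfl
    intro q _
    rw [mul_smul_comm, smul_mul_assoc, hs q, smul_smul]
  have h3 : (f : End K V) = ∑ q, a (sig hS hx q) • ρ (tq P Z (sig hS hx q)) := by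
    rw [h1]
    exact (Equiv.sum_comp (sig hS hx) (fun q => a q • ρ (tq P Z q))).symm
  have h4 : ∑ q, (a q * s q - a (sig hS hx q)) • ρ (tq P Z (sig hS hx q)) = 0 := by
    simp only [sub_smul]
    rw [Finset.sum_sub_distrib, ← h2, ← h3, hfix, sub_self]
  have hli : LinearIndependent K (fun q : Pbar P Z => ρ (tq P Z (sig hS hx q))) :=
    hS.linearIndependent_tq.comp _ (sig hS hx).injective
  have h5 := Fintype.linearIndependent_iff.mp hli _ h4 q
  have h6 : a (sig hS hx q) = a q * s q := (sub_eq_zero.mp h5).symm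
  show a q = 0 ↔ a (sig hS hx q) = 0
  rw [h6]
  constructor
  · intro h
    rw [h, zero_mul]
  · intro h
    rcases mul_eq_zero.mp h with h7 | h7
    · exact h7
    · exact absurd h7 (hs0 q)

theorem fix_bound [Nontrivial V] [Finite P] (hS : Setting ρ P Z χ) {x : Γ}
    (hx : ∀ g, g ∈ P ↔ x * g * x⁻¹ ∈ P) :
    finrank K (fixA ρ P x) ≤
      Nat.card (Quotient (Equiv.Perm.SameCycle.setoid (sig hS hx))) := by
  classical
  have : Fintype (Quotient (Equiv.Perm.SameCycle.setoid (sig hS hx))) := Fintype.ofFinite _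
  have hfd := hS.finiteDimensional_algP
  obtain ⟨Φ, hΦdef⟩ : ∃ Φ : fixA ρ P x →ₗ[K]
      (Quotient (Equiv.Perm.SameCycle.setoid (sig hS hx)) → K),
      ∀ f ω, Φ f ω = hS.basisA.repr (⟨(f : End K V), f.2.1⟩ : algP ρ P) ω.out :=
    ⟨{ toFun := fun f ω => hS.basisA.repr (⟨(f : End K V), f.2.1⟩ : algP ρ P) ω.out
       map_add' := by
        intro f g
        funext ω
        have : (⟨((f + g : fixA ρ P x) : End K V), (f + g).2.1⟩ : algP ρ P) =
            ⟨(f : End K V), f.2.1⟩ + ⟨(g : End K V), g.2.1⟩ := rfl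
        rw [this, map_add]
        rfl
       map_smul' := by
        intro c f
        funext ω
        have : (⟨((c • f : fixA ρ P x) : End K V), (c • f).2.1⟩ : algP ρ P) =
            c • ⟨(f : End K V), f.2.1⟩ := rfl
        rw [this, map_smul]
        rfl }, fun _ _ => rfl⟩
  have hΦ : Function.Injective Φ := by
    apply LinearMap.ker_eq_bot.mp
    rw [LinearMap.ker_eq_bot']
    intro f hf
    have hzero : ∀ ω : Quotient (Equiv.Perm.SameCycle.setoid (sig hS hx)),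
        hS.basisA.repr (⟨(f : End K V), f.2.1⟩ : algP ρ P) ω.out = 0 := by
      intro ω
      rw [← hΦdef, hf]
      rfl
    have hpow : ∀ (i : ℕ) (u : Pbar P Z),
        hS.basisA.repr (⟨(f : End K V), f.2.1⟩ : algP ρ P) u = 0 →
        hS.basisA.repr (⟨(f : End K V), f.2.1⟩ : algP ρ P) ((sig hS hx ^ i) u) = 0 := by
      intro i
      induction i with
      | zero => intro u hu; simpa using hu
      | succ n ih =>
        intro u hu
        rw [pow_succ', Equiv.Perm.mul_apply]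
        exact (hS.repr_sig hx ⟨(f : End K V), f.2.1⟩ ((mem_fixA ρ P x _).mp f.2).2 _).mp (ih u hu)
    apply Subtype.ext
    have h0 : (⟨(f : End K V), f.2.1⟩ : algP ρ P) = 0 := by
      apply hS.basisA.repr.injective
      ext q
      rw [map_zero, Finsupp.zero_apply]
      have hsame : (sig hS hx).SameCycle
          (Quotient.mk (Equiv.Perm.SameCycle.setoid (sig hS hx)) q).out q :=
        Quotient.exact (s := Equiv.Perm.SameCycle.setoid (sig hS hx)) (Quotient.out_eq _)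
      obtain ⟨i, hi⟩ := hsame.exists_nat_pow_eq
      have := hpow i _ (hzero (Quotient.mk _ q))
      rw [hi] at this
      exact this
    exact congrArg (fun g : algP ρ P => (g : End K V)) h0
  have h1 := LinearMap.finrank_le_finrank_of_injective hΦ
  rw [Module.finrank_fintype_fun_eq_card] at h1
  rw [Nat.card_eq_fintype_card]
  exact h1

end Setting

end xaction

end Cfsg.Agent.Lib.Helper20.HHExt
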