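import Mathlib
import Cfsg.Agent.Lib.Helper20.HHExtC

set_option autoImplicit false

/-!
The main theorem over an algebraically closed field.
-/

namespace Cfsg.Agent.Lib.Helper20.HHExt

open Module

section algebra

variable {K : Type*} [Field K] {B : Type*} [Ring B] [Algebra K B]

/-- The twisted geometric sum. -/
def tsum (r : ℕ) (u : B) (μ : K) : B := ∑ i ∈ Finset.range r, μ ^ i • u ^ i

theorem tsum_eq (r : ℕ) (u : B) (μ : K) : tsum r u μ = ∑ i ∈ Finset.range r, (μ • u) ^ i := by
  unfold tsum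
  apply Finset.sum_congr rfl
  intro i _
  rw [smul_pow]

theorem mul_tsum (r : ℕ) (u : B) (μ : K) (hu : u ^ r = 1) (hμ : μ ^ r = 1) (hμ0 : μ ≠ 0) :
    u * tsum r u μ = μ⁻¹ • tsum r u μ := by
  have h1 : (μ • u - 1) * tsum r u μ = 0 := by
    rw [tsum_eq, mul_geom_sum, smul_pow, hu, hμ, one_smul, sub_self]
  rw [sub_mul, one_mul, sub_eq_zero, smul_mul_assoc] at h1
  conv_rhs => rw [← h1]
  rw [smul_smul, inv_mul_cancel₀ hμ0, one_smul]

theorem map_tsum {B' : Type*} [Ring B'] [Algebra K B'] (e : B →ₐ[K] B') (r : ℕ) (u : B) (μ : K) :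
    e (tsum r u μ) = tsum r (e u) μ := by
  unfold tsum
  rw [map_sum]
  apply Finset.sum_congr rfl
  intro i _
  rw [map_smul, map_pow]

end algebra

section eigen

variable {K : Type*} [Field K] {W : Type*} [AddCommGroup W] [Module K W]

theorem tsum_apply_eigen (r : ℕ) (u : End K W) (μ c : K) (w : W) (hw : u w = c • w) :
    tsum r u μ w = (∑ i ∈ Finset.range r, (μ * c) ^ i) • w := by
  unfold tsum
  rw [LinearMap.sum_apply, Finset.sum_smul]
  apply Finset.sum_congr rfl
  intro i _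
  have h1 : ∀ n : ℕ, (u ^ n) w = c ^ n • w := by
    intro n
    induction n with
    | zero => simp
    | succ n ih => rw [pow_succ', End.mul_apply, ih, map_smul, hw, smul_smul, pow_succ]
  rw [LinearMap.smul_apply, h1, smul_smul, mul_pow]

end eigen

section main

variable {K : Type*} [Field K] {V : Type*} [AddCommGroup V] [Module K V]
variable {Γ : Type*} [Group Γ]
variable {ρ : Γ →* End K V} {P Z : Subgroup Γ} {χ : Γ → K}

namespace Setting

theorem mul_right_injective [Nontrivial V] [Finite P] (hS : Setting ρ P Z χ) (E : End K V)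
    (hE : E ≠ 0) (hcomm : ∀ g ∈ P, ρ g * E = E * ρ g) (F : End K V) (hF : F ∈ algP ρ P)
    (hFE : F * E = 0) : F = 0 := by
  classical
  let N : Submodule K (End K V) := LinearMap.ker (LinearMap.mulRight K E)
  have hmemN : ∀ m : End K V, m ∈ N ↔ m * E = 0 := by
    intro m
    rw [LinearMap.mem_ker, LinearMap.mulRight_apply]
  have hN : ∀ h ∈ P, ∀ m ∈ N, ρ h * m * ρ h⁻¹ ∈ N := by
    intro h hh m hm
    rw [hmemN] at hm ⊢
    rw [mul_assoc, hcomm h⁻¹ (P.inv_mem hh), ← mul_assoc, mul_assoc (ρ h), hm, mul_zero, zero_mul]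
  have hsum : ∑ᶠ q, hS.basisA.repr ⟨F, hF⟩ q • ρ (tq P Z q) ∈ N := by
    rw [← hS.coe_eq_sum ⟨F, hF⟩, hmemN]
    exact hFE
  have hcomp := hS.component_mem N hN _ hsum
  have hzero : ∀ q, hS.basisA.repr ⟨F, hF⟩ q = 0 := by
    intro q
    have h1 := (hmemN _).mp (hcomp q)
    rw [smul_mul_assoc] at h1
    rcases smul_eq_zero.mp h1 with h2 | h2
    · exact h2
    · exfalso
      apply hE
      have : E = ρ (tq P Z q)⁻¹ * (ρ (tq P Z q) * E) := by
        rw [← mul_assoc, rho_inv', one_mul]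
      rw [this, h2, mul_zero]
  have h0 : (⟨F, hF⟩ : algP ρ P) = 0 := by
    apply hS.basisA.repr.injective
    ext q
    rw [hzero q, map_zero, Finsupp.zero_apply]
  exact congrArg (fun g : algP ρ P => (g : End K V)) h0

theorem conj_mem_algP {x : Γ} (hx : ∀ g ∈ P, x * g * x⁻¹ ∈ P) (f : End K V) (hf : f ∈ algP ρ P) :
    ρ x * f * ρ x⁻¹ ∈ algP ρ P := by
  have := algP_le ρ P ((Subalgebra.toSubmodule (algP ρ P)).comap (conjAct ρ x)) (by
    intro g hg
    rw [Submodule.mem_comap, conjAct_apply, ← map_mul, ← map_mul]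
    exact rho_mem_algP ρ (hx g hg)) f hf
  rw [Submodule.mem_comap, conjAct_apply] at this
  exact this

end Setting

/-- Conjugation by `ρ x` as an algebra endomorphism of the twisted algebra. -/
noncomputable def conjHom (ρ : Γ →* End K V) (P : Subgroup Γ) (x : Γ)
    (hx : ∀ g ∈ P, x * g * x⁻¹ ∈ P) : algP ρ P →ₐ[K] algP ρ P :=
  AlgHom.codRestrict
    (((LinearEquiv.ofLinearMap (ρ x) (ρ x⁻¹) (rho_inv ρ x) (rho_inv' ρ x)).conjAlgEquiv K).toAlgHom.comp
      (algP ρ P).val) (algP ρ P) (by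
      intro f
      exact Setting.conj_mem_algP (ρ := ρ) hx (f : End K V) f.2)

theorem conjHom_coe (ρ : Γ →* End K V) (P : Subgroup Γ) (x : Γ)
    (hx : ∀ g ∈ P, x * g * x⁻¹ ∈ P) (f : algP ρ P) :
    ((conjHom ρ P x hx f : algP ρ P) : End K V) = ρ x * (f : End K V) * ρ x⁻¹ := rfl

/-- Conjugation by `ρ x` as an algebra automorphism of the twisted algebra. -/
noncomputable def conjEquiv (ρ : Γ →* End K V) (P : Subgroup Γ) (x : Γ)
    (hx : ∀ g, g ∈ P ↔ x * g * x⁻¹ ∈ P) : algP ρ P ≃ₐ[K] algP ρ P :=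
  AlgEquiv.ofAlgHom (conjHom ρ P x (fun g hg => (hx g).mp hg))
    (conjHom ρ P x⁻¹ (fun g hg => by
      rw [hx, inv_inv]
      have : x * (x⁻¹ * g * x) * x⁻¹ = g := by group
      rw [this]
      exact hg))
    (by
      apply AlgHom.ext
      intro f
      apply Subtype.ext
      rw [AlgHom.comp_apply, conjHom_coe, conjHom_coe, inv_inv, AlgHom.id_apply]
      rw [← mul_assoc, ← mul_assoc, rho_inv, one_mul, mul_assoc, rho_inv, mul_one])
    (by
      apply AlgHom.ext
      intro f
      apply Subtype.ext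
      rw [AlgHom.comp_apply, conjHom_coe, conjHom_coe, inv_inv, AlgHom.id_apply]
      rw [← mul_assoc, ← mul_assoc, rho_inv', one_mul, mul_assoc, rho_inv', mul_one])

theorem conjEquiv_coe (ρ : Γ →* End K V) (P : Subgroup Γ) (x : Γ)
    (hx : ∀ g, g ∈ P ↔ x * g * x⁻¹ ∈ P) (f : algP ρ P) :
    ((conjEquiv ρ P x hx f : algP ρ P) : End K V) = ρ x * (f : End K V) * ρ x⁻¹ := rfl

theorem Setting.exists_inner [IsAlgClosed K] [Nontrivial V] [Finite P] (hS : Setting ρ P Z χ)
    {x : Γ} (hx : ∀ g, g ∈ P ↔ x * g * x⁻¹ ∈ P) :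
    ∃ (n : ℕ) (e : algP ρ P ≃ₐ[K] End K (Fin n → K)) (a a' : algP ρ P), a * a' = 1 ∧ a' * a = 1 ∧
      ∀ f : algP ρ P, ρ x * (f : End K V) * ρ x⁻¹ = ((a * f * a' : algP ρ P) : End K V) := by
  have := hS.isSimpleRing_algP
  have := hS.finiteDimensional_algP
  obtain ⟨n, hn0, ⟨e₁⟩⟩ := IsSimpleRing.exists_algEquiv_matrix_of_isAlgClosed K (algP ρ P)
  let e : algP ρ P ≃ₐ[K] End K (Fin n → K) := e₁.trans Matrix.toLinAlgEquiv'
  let τ : End K (Fin n → K) ≃ₐ[K] End K (Fin n → K) :=
    (e.symm.trans (conjEquiv ρ P x hx)).trans e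
  obtain ⟨T, hT⟩ := τ.eq_linearEquivConjAlgEquiv
  have hTT : T.toLinearMap * T.symm.toLinearMap = 1 := by
    ext w
    simp
  have hTT' : T.symm.toLinearMap * T.toLinearMap = 1 := by
    ext w
    simp
  refine ⟨n, e, e.symm T.toLinearMap, e.symm T.symm.toLinearMap, ?_, ?_, ?_⟩
  · rw [← map_mul, hTT, map_one]
  · rw [← map_mul, hTT', map_one]
  · intro f
    rw [← conjEquiv_coe ρ P x hx f]
    congr 1
    apply e.injective
    rw [map_mul, map_mul, e.apply_symm_apply, e.apply_symm_apply]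
    have h1 : τ (e f) = e (conjEquiv ρ P x hx f) := by
      simp [τ]
    rw [← h1, hT, LinearEquiv.conjAlgEquiv_apply]
    rfl

theorem sum_pow_mul_of_fixed {B : Type*} [Ring B] (u m : B) (h : u * m = m) (r : ℕ) :
    (∑ i ∈ Finset.range r, u ^ i) * m = r • m := by
  have h1 : ∀ i : ℕ, u ^ i * m = m := by
    intro i
    induction i with
    | zero => rw [pow_zero, one_mul]
    | succ n ih => rw [pow_succ, mul_assoc, h, ih]
  rw [Finset.sum_mul, Finset.sum_congr rfl (fun i _ => h1 i), Finset.sum_const, Finset.card_range]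

theorem main_algClosed [IsAlgClosed K] [FiniteDimensional K V] [Nontrivial V] [Finite P]
    (hS : Setting ρ P Z χ) {x : Γ} {r : ℕ} (hX : XSetting P Z x r) (hr : r.Prime)
    (hrK : (r : K) ≠ 0) (hPZ : ∃ g ∈ P, g ∉ Z) (hsum : ∑ i ∈ Finset.range r, ρ x ^ i = 0) :
    Nat.card (Pbar P Z) = (r - 1) ^ 2 := by
  classical
  have hfd := hS.finiteDimensional_algP
  have hntA : Nontrivial (algP ρ P) := by
    refine ⟨⟨0, 1, ?_⟩⟩
    intro h
    have := congrArg Subtype.val h
    exact zero_ne_one this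
  obtain ⟨n, e, a, a', haa', ha'a, hconj⟩ := hS.exists_inner hX.norm
  have haa'E : (a : End K V) * (a' : End K V) = 1 := congrArg Subtype.val haa'
  have ha'aE : (a' : End K V) * (a : End K V) = 1 := congrArg Subtype.val ha'a
  -- the complementary factor
  obtain ⟨b, hb⟩ : ∃ b : End K V, b = (a' : End K V) * ρ x := ⟨_, rfl⟩
  have hbA : ∀ f : algP ρ P, b * (f : End K V) = (f : End K V) * b := by
    intro f
    have h1 : ρ x * (f : End K V) = ((a * f * a' : algP ρ P) : End K V) * ρ x := by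
      rw [← hconj f, mul_assoc, rho_inv', mul_one]
    have h2 : (a' : End K V) * ((a * f * a' : algP ρ P) : End K V) =
        (f : End K V) * (a' : End K V) := by
      have : a' * (a * f * a') = f * a' := by
        rw [← mul_assoc, ← mul_assoc, ha'a, one_mul]
      exact congrArg Subtype.val this
    rw [hb, mul_assoc, h1, ← mul_assoc, h2, mul_assoc]
  have hxab : ρ x = (a : End K V) * b := by
    rw [hb, ← mul_assoc, haa'E, one_mul]
  have hcab : Commute (a : End K V) b := (hbA a).symm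
  have hxr : ρ x ^ r = 1 := by rw [← map_pow, hX.pow, map_one]
  have h1 : (a : End K V) ^ r * b ^ r = 1 := by
    rw [← hcab.mul_pow, ← hxab, hxr]
  have h1' : b ^ r * (a : End K V) ^ r = 1 := by
    rw [(hcab.pow_pow r r).eq] at h1
    exact h1
  have hbrA : ∀ f : algP ρ P, b ^ r * (f : End K V) = (f : End K V) * b ^ r := by
    intro f
    exact ((show Commute b (f : End K V) from hbA f).pow_left r).eq
  have hcen : ∀ f : algP ρ P, a ^ r * f = f * a ^ r := by
    intro f
    apply Subtype.ext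
    show (a : End K V) ^ r * (f : End K V) = (f : End K V) * (a : End K V) ^ r
    calc (a : End K V) ^ r * (f : End K V)
        = (a : End K V) ^ r * ((f : End K V) * (b ^ r * (a : End K V) ^ r)) := by
          rw [h1', mul_one]
      _ = (a : End K V) ^ r * (b ^ r * (f : End K V)) * (a : End K V) ^ r := by
          rw [hbrA f]
          simp only [mul_assoc]
      _ = (f : End K V) * (a : End K V) ^ r := by
          rw [← mul_assoc ((a : End K V) ^ r), h1, one_mul]
  -- `a ^ r` is a scalar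
  obtain ⟨c, hc⟩ : ∃ c : K, a ^ r = algebraMap K (algP ρ P) c := by
    have hmem : e (a ^ r) ∈ Subalgebra.center K (End K (Fin n → K)) := by
      rw [Subalgebra.mem_center_iff]
      intro g
      have := congrArg e (hcen (e.symm g))
      rw [map_mul, map_mul, e.apply_symm_apply] at this
      exact this.symm
    rw [Algebra.IsCentral.center_eq_bot K (End K (Fin n → K)), Algebra.mem_bot] at hmem
    obtain ⟨c, hc⟩ := hmem
    refine ⟨c, ?_⟩
    apply e.injective
    rw [← hc, AlgEquiv.commutes]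
  have hc0 : c ≠ 0 := by
    intro h0
    rw [h0, map_zero] at hc
    have h2 : (a ^ r) * (a' ^ r) = 1 := by
      have hc' : Commute a a' := by
        show a * a' = a' * a
        rw [haa', ha'a]
      rw [← hc'.mul_pow, haa', one_pow]
    rw [hc, zero_mul] at h2
    exact zero_ne_one h2
  obtain ⟨γ, hγ⟩ := IsAlgClosed.exists_pow_nat_eq c hr.pos
  have hγ0 : γ ≠ 0 := by
    intro h0
    rw [h0, zero_pow hr.ne_zero] at hγ
    exact hc0 hγ.symm
  -- normalised factors
  obtain ⟨a₁, ha₁⟩ : ∃ a₁ : algP ρ P, a₁ = γ⁻¹ • a := ⟨_, rfl⟩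
  obtain ⟨b₁, hb₁⟩ : ∃ b₁ : End K V, b₁ = γ • b := ⟨_, rfl⟩
  have ha₁r : a₁ ^ r = 1 := by
    rw [ha₁, smul_pow, hc, Algebra.algebraMap_eq_smul_one, smul_smul, inv_pow, hγ,
      inv_mul_cancel₀ hc0, one_smul]
  have hxab₁ : ρ x = (a₁ : End K V) * b₁ := by
    rw [ha₁, hb₁, hxab]
    show (a : End K V) * b = (γ⁻¹ • (a : End K V)) * (γ • b)
    rw [smul_mul_smul_comm, inv_mul_cancel₀ hγ0, one_smul]
  have hb₁A : ∀ f : algP ρ P, b₁ * (f : End K V) = (f : End K V) * b₁ := by
    intro f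
    rw [hb₁, smul_mul_assoc, hbA f, mul_smul_comm]
  have ha₁rE : (a₁ : End K V) ^ r = 1 := by
    have := congrArg Subtype.val ha₁r
    exact this
  have hb₁r : b₁ ^ r = 1 := by
    have hc' : Commute (a₁ : End K V) b₁ := (hb₁A a₁).symm
    have h2 : (a₁ : End K V) ^ r * b₁ ^ r = 1 := by
      rw [← hc'.mul_pow, ← hxab₁, hxr]
    rw [ha₁rE, one_mul] at h2
    exact h2
  -- an eigenvalue of `b₁`
  obtain ⟨β, hβ⟩ := Module.End.exists_eigenvalue b₁
  obtain ⟨v, hv⟩ := hβ.exists_hasEigenvector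
  have hbv : b₁ v = β • v := hv.apply_eq_smul
  have hv0 : v ≠ 0 := hv.2
  have hpowv : ∀ i : ℕ, (b₁ ^ i) v = β ^ i • v := by
    intro i
    induction i with
    | zero => simp
    | succ i ih => rw [pow_succ', End.mul_apply, ih, map_smul, hbv, smul_smul, pow_succ]
  have hβr : β ^ r = 1 := by
    have h2 := hpowv r
    rw [hb₁r, End.one_apply] at h2
    have h3 : ((1 : K) - β ^ r) • v = 0 := by rw [sub_smul, one_smul, ← h2, sub_self]
    rcases smul_eq_zero.mp h3 with h4 | h4
    · exact (sub_eq_zero.mp h4).symm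
    · exact absurd h4 hv0
  have hβ0 : β ≠ 0 := by
    intro h0
    rw [h0, zero_pow hr.ne_zero] at hβr
    exact zero_ne_one hβr
  have hβir : β⁻¹ ^ r = 1 := by rw [inv_pow, hβr, inv_one]
  obtain ⟨E, hE⟩ : ∃ E : End K V, E = tsum r b₁ β⁻¹ := ⟨_, rfl⟩
  have hEv : E v = (r : K) • v := by
    rw [hE, tsum_apply_eigen r b₁ β⁻¹ β v hbv, inv_mul_cancel₀ hβ0]
    simp
  have hE0 : E ≠ 0 := by
    intro h0
    rw [h0, LinearMap.zero_apply] at hEv
    rcases smul_eq_zero.mp hEv.symm with h4 | h4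
    · exact hrK h4
    · exact hv0 h4
  have hEcomm : ∀ f : algP ρ P, (f : End K V) * E = E * (f : End K V) := by
    intro f
    have hc' : Commute (f : End K V) b₁ := (hb₁A f).symm
    rw [hE]
    unfold tsum
    exact (Commute.sum_right _ _ _ (fun i _ => (hc'.pow_right i).smul_right _)).eq
  have hbE : b₁ * E = β • E := by
    rw [hE, mul_tsum r b₁ β⁻¹ hb₁r hβir (inv_ne_zero hβ0), inv_inv]
  obtain ⟨F, hF⟩ : ∃ F : algP ρ P, F = tsum r a₁ β := ⟨_, rfl⟩
  have haF : a₁ * F = β⁻¹ • F := by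
    rw [hF, mul_tsum r a₁ β ha₁r hβr hβ0]
  have hfix : ρ x * ((F : End K V) * E) = (F : End K V) * E := by
    have haFE : (a₁ : End K V) * (F : End K V) = β⁻¹ • (F : End K V) :=
      congrArg Subtype.val haF
    calc ρ x * ((F : End K V) * E)
        = (a₁ : End K V) * (b₁ * (F : End K V)) * E := by
          rw [hxab₁]
          simp only [mul_assoc]
      _ = ((a₁ : End K V) * (F : End K V)) * (b₁ * E) := by
          rw [hb₁A F]
          simp only [mul_assoc]
      _ = (F : End K V) * E := by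
          rw [haFE, hbE, smul_mul_smul_comm, inv_mul_cancel₀ hβ0, one_smul]
  have hFE : (F : End K V) * E = 0 := by
    have h2 := sum_pow_mul_of_fixed (ρ x) ((F : End K V) * E) hfix r
    rw [hsum, zero_mul] at h2
    have h3 : (r : K) • ((F : End K V) * E) = 0 := by
      rw [← Nat.cast_smul_eq_nsmul K] at h2
      exact h2.symm
    rcases smul_eq_zero.mp h3 with h4 | h4
    · exact absurd h4 hrK
    · exact h4
  have hF0 : F = 0 := by
    apply Subtype.ext
    exact hS.mul_right_injective E hE0 (fun g hg => hEcomm ⟨ρ g, rho_mem_algP ρ hg⟩) _ F.2 hFE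
  -- transport to the matrix algebra
  obtain ⟨α, hα⟩ : ∃ α : End K (Fin n → K), α = e a₁ := ⟨_, rfl⟩
  have hαr : α ^ r = 1 := by rw [hα, ← map_pow, ha₁r, map_one]
  have hαts : tsum r α β = 0 := by
    have h2 : e (tsum r a₁ β) = tsum r (e a₁) β := map_tsum e.toAlgHom r a₁ β
    rw [← hF, hF0, map_zero] at h2
    rw [hα]
    exact h2.symm
  have hne : ∀ w, α w = β⁻¹ • w → w = 0 := by
    intro w hw
    have h2 := tsum_apply_eigen r α β β⁻¹ w hw
    rw [hαts, LinearMap.zero_apply, mul_inv_cancel₀ hβ0] at h2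
    simp only [one_pow, Finset.sum_const, Finset.card_range, nsmul_eq_mul, mul_one] at h2
    rcases smul_eq_zero.mp h2.symm with h4 | h4
    · exact absurd h4 hrK
    · exact h4
  have hclb := commutant_lower_bound α r hr.pos hrK hαr β⁻¹ hβir hne
  -- compare commutants
  have hle : finrank K (commSub (K := K) α) ≤ finrank K (fixA ρ P x) := by
    let ψ₀ : End K (Fin n → K) →ₗ[K] End K V :=
      (algP ρ P).val.toLinearMap.comp e.symm.toLinearEquiv.toLinearMap
    have hψ₀ : ∀ g, ψ₀ g = ((e.symm g : algP ρ P) : End K V) := fun g => rfl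
    have hmaps : ∀ g ∈ commSub (K := K) α, ψ₀ g ∈ fixA ρ P x := by
      intro g hg
      rw [mem_commSub] at hg
      rw [mem_fixA, hψ₀]
      refine ⟨(e.symm g).2, ?_⟩
      have h2 : a₁ * e.symm g = e.symm g * a₁ := by
        have := congrArg e.symm hg
        rw [map_mul, map_mul, hα, e.symm_apply_apply] at this
        exact this
      have h2E : (a₁ : End K V) * ((e.symm g : algP ρ P) : End K V) =
          ((e.symm g : algP ρ P) : End K V) * (a₁ : End K V) := congrArg Subtype.val h2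
      rw [hxab₁, mul_assoc, hb₁A (e.symm g), ← mul_assoc, h2E, mul_assoc]
    have hinj : Function.Injective (ψ₀.restrict hmaps) := by
      intro g g' hgg'
      apply Subtype.ext
      have h2 : ((ψ₀.restrict hmaps g : fixA ρ P x) : End K V) =
          ((ψ₀.restrict hmaps g' : fixA ρ P x) : End K V) := congrArg Subtype.val hgg'
      rw [LinearMap.coe_restrict_apply, LinearMap.coe_restrict_apply, hψ₀, hψ₀] at h2
      exact e.symm.injective (Subtype.ext h2)
    exact LinearMap.finrank_le_finrank_of_injective hinj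
  have hfb := hS.fix_bound hX.norm
  -- counting
  have : Fintype (Pbar P Z) := Fintype.ofFinite _
  obtain ⟨hoc1, hoc2⟩ := orbit_count (sig hS hX.norm) r hr (sig_pow_eq_one hS hX)
    (QuotientGroup.mk ⟨1, P.one_mem⟩) (sig_fix_iff hS hX)
  have hcard : Nat.card (Pbar P Z) = (finrank K (Fin n → K)) ^ 2 := by
    rw [← hS.finrank_algP, LinearEquiv.finrank_eq e.toLinearEquiv, Module.finrank_linearMap, sq]
  rw [← Nat.card_eq_fintype_card, hcard] at hoc1 hoc2
  have hn1 : finrank K (Fin n → K) ≠ 1 := by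
    intro h1
    rw [h1, one_pow] at hcard
    obtain ⟨g, hg, hgZ⟩ := hPZ
    have h2 : (QuotientGroup.mk ⟨g, hg⟩ : Pbar P Z) = QuotientGroup.mk ⟨1, P.one_mem⟩ := by
      have hsub : Subsingleton (Pbar P Z) := (Nat.card_eq_one_iff_unique.mp hcard).1
      exact Subsingleton.elim _ _
    rw [mk_eq_iff] at h2
    apply hgZ
    have := Z.inv_mem h2
    simpa using this
  have hfin := numeric_core (finrank K (Fin n → K)) r (finrank K (commSub (K := K) α)) _ hr hn1
    hclb (le_trans hle hfb) hoc1 hoc2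
  rw [hcard, hfin]

end main

end Cfsg.Agent.Lib.Helper20.HHExt
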