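import Mathlib
import Cfsg.Agent.Lib.Helper20.HHExtD
import Cfsg.Agent.Lib.Helper20.HHAbelB

set_option autoImplicit false

/-!
Descent of the main theorem to an arbitrary field (weight spaces of the centre after base change).
-/

namespace Cfsg.Agent.Lib.Helper20.HHExt

open Module TensorProduct Cfsg.Agent.Lib.Helper11.FrobLinEig

section restrict

variable {K : Type*} [Field K] {W : Type*} [AddCommGroup W] [Module K W]
variable {Γ : Type*} [Group Γ]

/-- Restriction of a representation to an invariant subspace. -/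
def restrictRep (ρ : Γ →* End K W) (U : Submodule K W) (hU : ∀ g, ∀ u ∈ U, ρ g u ∈ U) :
    Γ →* End K U where
  toFun g := (ρ g).restrict (hU g)
  map_one' := by
    apply LinearMap.ext
    intro u
    apply Subtype.ext
    rw [LinearMap.coe_restrict_apply, map_one]
    rfl
  map_mul' g h := by
    apply LinearMap.ext
    intro u
    apply Subtype.ext
    rw [LinearMap.coe_restrict_apply, map_mul, End.mul_apply, End.mul_apply,
      LinearMap.coe_restrict_apply, LinearMap.coe_restrict_apply]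

theorem restrictRep_apply (ρ : Γ →* End K W) (U : Submodule K W)
    (hU : ∀ g, ∀ u ∈ U, ρ g u ∈ U) (g : Γ) (u : U) :
    ((restrictRep ρ U hU g u : U) : W) = ρ g (u : W) := rfl

end restrict

section closed

variable {K : Type*} [Field K] {W : Type*} [AddCommGroup W] [Module K W]
variable {Γ : Type*} [Group Γ]

/-- The main theorem over an algebraically closed field, without assuming that the centre acts by
scalars. -/
theorem main_closed [IsAlgClosed K] [FiniteDimensional K W] (ρ : Γ →* End K W)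
    (P Z : Subgroup Γ) [Finite P] (x : Γ) {r : ℕ} (hr : r.Prime) (hrK : (r : K) ≠ 0)
    (hZK : ((Nat.card Z : ℕ) : K) ≠ 0) (hle : Z ≤ P)
    (hcen : ∀ z ∈ Z, ∀ g : Γ, g * z = z * g)
    (hcomm : ∀ h ∈ P, ∀ g ∈ P, h * g * h⁻¹ * g⁻¹ ∈ Z)
    (hD : ∀ D : Subgroup Γ, D ≤ Z → (∃ h ∈ P, ∃ g ∈ P, h * g * h⁻¹ * g⁻¹ ∉ D) →
      ∀ g ∈ P, (∀ h ∈ P, h * g * h⁻¹ * g⁻¹ ∈ D) → g ∈ Z)
    (hX : XSetting P Z x r)
    (hnt : ∃ h ∈ P, ∃ g ∈ P, ρ (h * g * h⁻¹ * g⁻¹) ≠ 1)
    (hsum : ∑ i ∈ Finset.range r, ρ x ^ i = 0) :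
    Nat.card (Pbar P Z) = (r - 1) ^ 2 := by
  classical
  have : Finite Z := Finite.of_injective (fun z : Z => (⟨z.1, hle z.2⟩ : P))
    (fun a b h => Subtype.ext (congrArg (fun p : P => (p : Γ)) h))
  obtain ⟨h₀, hh₀, g₀, hg₀, hne⟩ := hnt
  set c₀ := h₀ * g₀ * h₀⁻¹ * g₀⁻¹ with hc₀
  have hc₀Z : c₀ ∈ Z := hcomm h₀ hh₀ g₀ hg₀
  have hZcomm : ∀ z ∈ Z, ∀ z' ∈ Z, Commute (ρ z) (ρ z') := by
    intro z hz z' _
    show ρ z * ρ z' = ρ z' * ρ z
    rw [← map_mul, ← map_mul, hcen z hz z']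
  have htop := jointEig_iSup ρ Z hZcomm hZK
  -- a weight not killing `c₀`
  obtain ⟨θ, hθ⟩ : ∃ θ : Z → K, jointEig ρ Z θ ≠ ⊥ ∧ θ ⟨c₀, hc₀Z⟩ ≠ 1 := by
    by_contra hcon
    push Not at hcon
    apply hne
    have hle' : (⨆ θ : Z → K, jointEig ρ Z θ) ≤ LinearMap.eqLocus (ρ c₀) 1 := by
      apply iSup_le
      intro θ
      by_cases hθ : jointEig ρ Z θ = ⊥
      · rw [hθ]; exact bot_le
      · intro w hw
        rw [LinearMap.mem_eqLocus]
        have h1 := (mem_jointEig ρ Z θ w).mp hw ⟨c₀, hc₀Z⟩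
        simp only at h1
        rw [h1, hcon θ hθ, one_smul]
        rfl
    rw [htop] at hle'
    apply LinearMap.ext
    intro w
    exact hle' Submodule.mem_top
  obtain ⟨hθU, hθc⟩ := hθ
  set U := jointEig ρ Z θ with hUdef
  have hUinv : ∀ g, ∀ u ∈ U, ρ g u ∈ U := by
    intro g u hu
    rw [hUdef, mem_jointEig] at hu ⊢
    intro z
    have h1 : ρ (z : Γ) (ρ g u) = ρ g (ρ (z : Γ) u) := by
      rw [← End.mul_apply, ← End.mul_apply, ← map_mul, ← map_mul, hcen z z.2 g]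
    rw [h1, hu z, map_smul]
  have hUnt : Nontrivial U := Submodule.nontrivial_iff_ne_bot.mpr hθU
  obtain ⟨u₀, hu₀⟩ := exists_ne (0 : U)
  have hu₀' : (u₀ : W) ≠ 0 := fun h => hu₀ (Subtype.ext h)
  have hθeq : ∀ (z : Z) (u : U), ρ (z : Γ) (u : W) = θ z • (u : W) := by
    intro z u
    exact (mem_jointEig ρ Z θ u).mp u.2 z
  have hθmul : ∀ z z' : Z, θ (z * z') = θ z * θ z' := by
    intro z z'
    have h1 := hθeq (z * z') u₀
    rw [Subgroup.coe_mul, map_mul, End.mul_apply, hθeq z' u₀, map_smul, hθeq z u₀, smul_smul] at h1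
    have h2 : (θ z' * θ z - θ (z * z')) • (u₀ : W) = 0 := by rw [sub_smul, h1, sub_self]
    rcases smul_eq_zero.mp h2 with h3 | h3
    · rw [mul_comm]
      exact (sub_eq_zero.mp h3).symm
    · exact absurd h3 hu₀'
  have hθone : θ 1 = 1 := by
    have h1 := hθeq 1 u₀
    rw [Subgroup.coe_one, map_one, End.one_apply] at h1
    have h2 : ((1 : K) - θ 1) • (u₀ : W) = 0 := by rw [sub_smul, one_smul, ← h1, sub_self]
    rcases smul_eq_zero.mp h2 with h3 | h3
    · exact (sub_eq_zero.mp h3).symm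
    · exact absurd h3 hu₀'
  -- the kernel of the weight
  let D : Subgroup Γ :=
    { carrier := {z | ∃ hz : z ∈ Z, θ ⟨z, hz⟩ = 1}
      mul_mem' := by
        rintro a b ⟨ha, ha1⟩ ⟨hb, hb1⟩
        refine ⟨Z.mul_mem ha hb, ?_⟩
        have := hθmul ⟨a, ha⟩ ⟨b, hb⟩
        rw [ha1, hb1, mul_one] at this
        exact this
      one_mem' := ⟨Z.one_mem, hθone⟩
      inv_mem' := by
        rintro a ⟨ha, ha1⟩
        refine ⟨Z.inv_mem ha, ?_⟩
        have h1 := hθmul ⟨a, ha⟩ ⟨a⁻¹, Z.inv_mem ha⟩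
        have h2 : (⟨a, ha⟩ : Z) * ⟨a⁻¹, Z.inv_mem ha⟩ = 1 := by
          apply Subtype.ext
          simp
        rw [h2, hθone, ha1, one_mul] at h1
        exact h1.symm }
  have hDZ : D ≤ Z := by
    rintro z ⟨hz, -⟩
    exact hz
  have hc₀D : c₀ ∉ D := by
    rintro ⟨hz, h1⟩
    exact hθc h1
  have hnd := hD D hDZ ⟨h₀, hh₀, g₀, hg₀, hc₀D⟩
  -- the restricted representation
  set ρU := restrictRep ρ U hUinv with hρU
  set χ : Γ → K := fun g => if h : g ∈ Z then θ ⟨g, h⟩ else 0 with hχ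
  have hχZ : ∀ z (hz : z ∈ Z), χ z = θ ⟨z, hz⟩ := by
    intro z hz
    rw [hχ]
    simp only [hz, dite_true]
  have hS : Setting ρU P Z χ := by
    refine ⟨hle, ?_, hcomm, ?_⟩
    · intro z hz
      apply LinearMap.ext
      intro u
      apply Subtype.ext
      rw [hρU, restrictRep_apply, hθeq ⟨z, hz⟩ u, hχZ z hz]
      rfl
    · intro g hg hgZ
      by_contra hcon
      push Not at hcon
      apply hgZ
      apply hnd g hg
      intro h hh
      refine ⟨hcomm h hh g hg, ?_⟩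
      have := hcon h hh
      unfold cc at this
      rw [hχZ _ (hcomm h hh g hg)] at this
      exact this
  have hsumU : ∑ i ∈ Finset.range r, ρU x ^ i = 0 := by
    apply LinearMap.ext
    intro u
    apply Subtype.ext
    have h1 : ∀ i : ℕ, (((ρU x ^ i) u : U) : W) = (ρ x ^ i) (u : W) := by
      intro i
      rw [← map_pow, ← map_pow, hρU, restrictRep_apply]
    rw [LinearMap.sum_apply, LinearMap.zero_apply, AddSubmonoidClass.coe_finsetSum]
    rw [Finset.sum_congr rfl (fun i _ => h1 i), ← LinearMap.sum_apply, hsum]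
    rfl
  have hPZ : ∃ g ∈ P, g ∉ Z := by
    refine ⟨g₀, hg₀, ?_⟩
    intro hgZ
    apply hne
    have : h₀ * g₀ * h₀⁻¹ * g₀⁻¹ = 1 := by
      rw [hcen g₀ hgZ h₀]
      group
    rw [hc₀, this, map_one]
  exact main_algClosed hS hX hr hrK hPZ hsumU

end closed

section field

variable {k : Type*} [Field k] {V : Type*} [AddCommGroup V] [Module k V]
variable {Γ : Type*} [Group Γ]

/-- The main theorem over an arbitrary field. -/
theorem main_field [FiniteDimensional k V] (ρ₀ : Γ →* End k V)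
    (P Z : Subgroup Γ) [Finite P] (x : Γ) {r : ℕ} (hr : r.Prime) (hrk : (r : k) ≠ 0)
    (hZk : ((Nat.card Z : ℕ) : k) ≠ 0) (hle : Z ≤ P)
    (hcen : ∀ z ∈ Z, ∀ g : Γ, g * z = z * g)
    (hcomm : ∀ h ∈ P, ∀ g ∈ P, h * g * h⁻¹ * g⁻¹ ∈ Z)
    (hD : ∀ D : Subgroup Γ, D ≤ Z → (∃ h ∈ P, ∃ g ∈ P, h * g * h⁻¹ * g⁻¹ ∉ D) →
      ∀ g ∈ P, (∀ h ∈ P, h * g * h⁻¹ * g⁻¹ ∈ D) → g ∈ Z)
    (hX : XSetting P Z x r)
    (hnt : ∃ h ∈ P, ∃ g ∈ P, ρ₀ (h * g * h⁻¹ * g⁻¹) ≠ 1)
    (hsum : ∑ i ∈ Finset.range r, ρ₀ x ^ i = 0) :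
    Nat.card (Pbar P Z) = (r - 1) ^ 2 := by
  obtain ⟨bc, hbc⟩ : ∃ bc : End k V →ₐ[k] End (AlgebraicClosure k) (AlgebraicClosure k ⊗[k] V),
      bc = Module.End.baseChangeHom k (AlgebraicClosure k) V := ⟨_, rfl⟩
  have hbca : ∀ f : End k V, bc f = f.baseChange (AlgebraicClosure k) := by
    intro f
    rw [hbc]
    rfl
  obtain ⟨ρ, hρ⟩ : ∃ ρ : Γ →* End (AlgebraicClosure k) (AlgebraicClosure k ⊗[k] V),
      ρ = (bc : End k V →* _).comp ρ₀ := ⟨_, rfl⟩
  have hρa : ∀ g : Γ, ρ g = bc (ρ₀ g) := by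
    intro g
    rw [hρ]
    rfl
  have hcast : ∀ n : ℕ, ((n : ℕ) : k) ≠ 0 → ((n : ℕ) : AlgebraicClosure k) ≠ 0 := by
    intro n hn h
    apply hn
    apply (algebraMap k (AlgebraicClosure k)).injective
    rw [map_natCast, h, map_zero]
  apply main_closed ρ P Z x hr (hcast _ hrk) (hcast _ hZk) hle hcen hcomm hD hX
  · obtain ⟨h, hh, g, hg, hne⟩ := hnt
    refine ⟨h, hh, g, hg, ?_⟩
    rw [hρa]
    intro heq
    have h1 : bc (ρ₀ (h * g * h⁻¹ * g⁻¹) - 1) = 0 := by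
      rw [map_sub, heq, map_one, sub_self]
    rw [hbca] at h1
    exact Cfsg.Agent.Lib.Helper20.HHAbel.baseChange_ne_zero _ _ (sub_ne_zero.mpr hne) h1
  · have : ∑ i ∈ Finset.range r, ρ x ^ i = bc (∑ i ∈ Finset.range r, ρ₀ x ^ i) := by
      rw [map_sum]
      apply Finset.sum_congr rfl
      intro i _
      rw [hρa, map_pow]
    rw [this, hsum, map_zero]

end field

end Cfsg.Agent.Lib.Helper20.HHExt
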