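import Mathlib
import Cfsg.Agent.Lib.Helper20.HHExtE

set_option autoImplicit false

/-!
Group-theoretic forms of the main theorem.
-/

namespace Cfsg.Agent.Lib.Helper20.HHExt

open Module Cfsg.Agent.Lib.Helper11.FrobGrpCore

section group

theorem main_group_aux (p : ℕ) [hp : Fact p.Prime] {V : Type*} [CommGroup V] [Finite V]
    [Module (ZMod p) (Additive V)]
    {Γ : Type*} [Group Γ] (φ : Γ →* MulAut V) (P Z : Subgroup Γ) [Finite P] (x : Γ) {r : ℕ}
    (hr : r.Prime) (hrp : r ≠ p) (hZp : ¬ p ∣ Nat.card Z) (hle : Z ≤ P)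
    (hcen : ∀ z ∈ Z, ∀ g : Γ, g * z = z * g)
    (hcomm : ∀ h ∈ P, ∀ g ∈ P, h * g * h⁻¹ * g⁻¹ ∈ Z)
    (hD : ∀ D : Subgroup Γ, D ≤ Z → (∃ h ∈ P, ∃ g ∈ P, h * g * h⁻¹ * g⁻¹ ∉ D) →
      ∀ g ∈ P, (∀ h ∈ P, h * g * h⁻¹ * g⁻¹ ∈ D) → g ∈ Z)
    (hX : XSetting P Z x r)
    (hnt : ∃ h ∈ P, ∃ g ∈ P, φ (h * g * h⁻¹ * g⁻¹) ≠ 1)
    (hfix : ∀ v : V, φ x v = v → v = 1) :
    Nat.card (Pbar P Z) = (r - 1) ^ 2 := by
  have hfin : Module.Finite (ZMod p) (Additive V) := Module.Finite.of_finite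
  apply main_field (linRep p φ) P Z x hr
    (by
      rw [Ne, ZMod.natCast_eq_zero_iff]
      intro h
      exact hrp ((Nat.prime_dvd_prime_iff_eq hp.out hr).mp h).symm)
    (by rw [Ne, ZMod.natCast_eq_zero_iff]; exact hZp) hle hcen hcomm hD hX
  · obtain ⟨h, hh, g, hg, hne⟩ := hnt
    refine ⟨h, hh, g, hg, ?_⟩
    intro heq
    apply hne
    apply MulEquiv.ext
    intro v
    have h1 := congrArg (fun f => f (Additive.ofMul v)) heq
    simp only [linRep_apply] at h1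
    exact congrArg Additive.toMul h1
  · apply LinearMap.ext
    intro a
    rw [LinearMap.zero_apply, LinearMap.sum_apply]
    have hfixed : linRep p φ x (∑ i ∈ Finset.range r, (linRep p φ x ^ i) a) =
        ∑ i ∈ Finset.range r, (linRep p φ x ^ i) a := by
      rw [map_sum]
      have h1 : ∀ i ∈ Finset.range r, linRep p φ x ((linRep p φ x ^ i) a) =
          (linRep p φ x ^ (i + 1)) a := by
        intro i _
        rw [pow_succ', End.mul_apply]
      rw [Finset.sum_congr rfl h1]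
      have e1 := Finset.sum_range_succ' (fun i => (linRep p φ x ^ i) a) r
      have e2 := Finset.sum_range_succ (fun i => (linRep p φ x ^ i) a) r
      have e3 : (linRep p φ x ^ r) a = (linRep p φ x ^ 0) a := by
        rw [← map_pow, hX.pow, map_one, pow_zero]
      rw [e2, e3] at e1
      exact (add_right_cancel e1).symm
    rw [linRep_apply] at hfixed
    have h2 := hfix _ (congrArg Additive.toMul hfixed)
    exact congrArg Additive.ofMul h2

theorem main_group (p : ℕ) [hp : Fact p.Prime] {V : Type*} [CommGroup V] [Finite V]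
    (hV : ∀ v : V, v ^ p = 1)
    {Γ : Type*} [Group Γ] (φ : Γ →* MulAut V) (P Z : Subgroup Γ) [Finite P] (x : Γ) {r : ℕ}
    (hr : r.Prime) (hrp : r ≠ p) (hZp : ¬ p ∣ Nat.card Z) (hle : Z ≤ P)
    (hcen : ∀ z ∈ Z, ∀ g : Γ, g * z = z * g)
    (hcomm : ∀ h ∈ P, ∀ g ∈ P, h * g * h⁻¹ * g⁻¹ ∈ Z)
    (hD : ∀ D : Subgroup Γ, D ≤ Z → (∃ h ∈ P, ∃ g ∈ P, h * g * h⁻¹ * g⁻¹ ∉ D) →
      ∀ g ∈ P, (∀ h ∈ P, h * g * h⁻¹ * g⁻¹ ∈ D) → g ∈ Z)
    (hX : XSetting P Z x r)
    (hnt : ∃ h ∈ P, ∃ g ∈ P, φ (h * g * h⁻¹ * g⁻¹) ≠ 1)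
    (hfix : ∀ v : V, φ x v = v → v = 1) :
    Nat.card (Pbar P Z) = (r - 1) ^ 2 := by
  have hA : ∀ a : Additive V, p • a = 0 := by
    intro a
    have := hV (Additive.toMul a)
    exact congrArg Additive.ofMul this
  exact @main_group_aux p _ V _ _ (AddCommGroup.zmodModule hA) Γ _ φ P Z _ x r hr hrp hZp hle hcen
    hcomm hD hX hnt hfix

end group

section subgroups

open scoped IsMulCommutative in
/-- The main theorem for subgroups of a finite group acting by conjugation on an elementary abelian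
`p`-subgroup. -/
theorem main_subgroups {G : Type*} [Group G] [Finite G] {p r : ℕ} (hp : p.Prime) (hr : r.Prime)
    (hrp : r ≠ p) (x : G) (P Z V : Subgroup G) (hxr : x ^ r = 1)
    [hVc : IsMulCommutative V] (hVp : ∀ v ∈ V, v ^ p = 1)
    (hxV : x ∈ Subgroup.normalizer (V : Set G)) (hPV : P ≤ Subgroup.normalizer (V : Set G))
    (hxP : x ∈ Subgroup.normalizer (P : Set G))
    (hZP : Z ≤ P) (hZcenP : ∀ z ∈ Z, ∀ g ∈ P, g * z = z * g) (hZcenx : ∀ z ∈ Z, x * z = z * x)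
    (hZp : ¬ p ∣ Nat.card Z)
    (hcomm : ∀ h ∈ P, ∀ g ∈ P, h * g * h⁻¹ * g⁻¹ ∈ Z)
    (hD : ∀ D : Subgroup G, D ≤ Z → (∃ h ∈ P, ∃ g ∈ P, h * g * h⁻¹ * g⁻¹ ∉ D) →
      ∀ g ∈ P, (∀ h ∈ P, h * g * h⁻¹ * g⁻¹ ∈ D) → g ∈ Z)
    (hfpf : ∀ g ∈ P, x * g * x⁻¹ * g⁻¹ ∈ Z → g ∈ Z)
    (hnt : ∃ h ∈ P, ∃ g ∈ P, ∃ v ∈ V,
      (h * g * h⁻¹ * g⁻¹) * v * (h * g * h⁻¹ * g⁻¹)⁻¹ ≠ v)
    (hCV : ∀ v ∈ V, x * v = v * x → v = 1) :
    Nat.card P = (r - 1) ^ 2 * Nat.card Z := by
  have hfp : Fact p.Prime := ⟨hp⟩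
  set N : Subgroup G := Subgroup.normalizer (V : Set G) ⊓ Subgroup.centralizer (Z : Set G) with hN
  have hxN : x ∈ N := by
    refine Subgroup.mem_inf.mpr ⟨hxV, ?_⟩
    rw [Subgroup.mem_centralizer_iff]
    intro z hz
    exact (hZcenx z hz).symm
  have hPN : P ≤ N := by
    intro g hg
    refine Subgroup.mem_inf.mpr ⟨hPV hg, ?_⟩
    rw [Subgroup.mem_centralizer_iff]
    intro z hz
    exact (hZcenP z hz g hg).symm
  have hZN : Z ≤ N := le_trans hZP hPN
  let φ : ↥N →* MulAut ↥V := V.normalizerMonoidHom.comp (Subgroup.inclusion inf_le_left)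
  have hφ : ∀ (g : ↥N) (v : ↥V), ((φ g v : ↥V) : G) = (g : G) * (v : G) * (g : G)⁻¹ := by
    intro g v
    rfl
  have hcard := main_group p (V := ↥V) (fun v => Subtype.ext (hVp v v.2)) φ (P.subgroupOf N)
    (Z.subgroupOf N) ⟨x, hxN⟩ hr hrp
    (by
      rw [Nat.card_congr (Subgroup.subgroupOfEquivOfLe hZN).toEquiv]
      exact hZp)
    (by
      intro g hg
      exact hZP hg)
    (by
      intro z hz g
      apply Subtype.ext
      have := (Subgroup.mem_centralizer_iff.mp (Subgroup.mem_inf.mp g.2).2) (z : G) hz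
      exact this.symm)
    (by
      intro h hh g hg
      exact hcomm h hh g hg)
    (by
      intro D' hD'Z hex g hg hall
      have hDZ : D'.map N.subtype ≤ Z := by
        rintro _ ⟨d, hd, rfl⟩
        exact hD'Z hd
      have hmem : ∀ d : ↥N, (d : G) ∈ D'.map N.subtype ↔ d ∈ D' := by
        intro d
        constructor
        · rintro ⟨d', hd', hdd'⟩
          have : d' = d := Subtype.ext hdd'
          rw [← this]
          exact hd'
        · intro hd
          exact ⟨d, hd, rfl⟩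
      apply hD (D'.map N.subtype) hDZ
      · obtain ⟨h, hh, g', hg', hne⟩ := hex
        refine ⟨h, hh, g', hg', ?_⟩
        intro hcon
        apply hne
        exact (hmem (h * g' * h⁻¹ * g'⁻¹)).mp hcon
      · exact hg
      · intro h hh
        have := hall ⟨h, hPN hh⟩ hh
        exact (hmem (⟨h, hPN hh⟩ * g * (⟨h, hPN hh⟩ : ↥N)⁻¹ * g⁻¹)).mpr this)
    (by
      refine ⟨?_, ?_, ?_⟩
      · intro g
        exact (Subgroup.mem_normalizer_iff.mp hxP) (g : G)
      · apply Subtype.ext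
        exact hxr
      · intro g hg hgz
        exact hfpf g hg hgz)
    (by
      obtain ⟨h, hh, g, hg, v, hv, hne⟩ := hnt
      refine ⟨⟨h, hPN hh⟩, hh, ⟨g, hPN hg⟩, hg, ?_⟩
      intro heq
      apply hne
      have h1 := congrArg (fun f : MulAut ↥V => ((f ⟨v, hv⟩ : ↥V) : G)) heq
      simp only [hφ] at h1
      exact h1)
    (by
      intro v hv
      apply Subtype.ext
      apply hCV v v.2
      have h1 := congrArg (fun w : ↥V => (w : G)) hv
      simp only [hφ] at h1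
      have h2 : x * (v : G) = x * (v : G) * x⁻¹ * x := by group
      rw [h2]
      exact congrArg (· * x) h1)
  have h1 : Nat.card (P.subgroupOf N) = Nat.card P :=
    Nat.card_congr (Subgroup.subgroupOfEquivOfLe hPN).toEquiv
  have h2 : Nat.card ((Z.subgroupOf N).subgroupOf (P.subgroupOf N)) = Nat.card Z := by
    have hle' : Z.subgroupOf N ≤ P.subgroupOf N := fun g hg => hZP hg
    rw [Nat.card_congr (Subgroup.subgroupOfEquivOfLe hle').toEquiv,
      Nat.card_congr (Subgroup.subgroupOfEquivOfLe hZN).toEquiv]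
  have h3 := Subgroup.card_eq_card_quotient_mul_card_subgroup
    ((Z.subgroupOf N).subgroupOf (P.subgroupOf N))
  rw [h1, h2] at h3
  rw [h3]
  congr 1

end subgroups

end Cfsg.Agent.Lib.Helper20.HHExt
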