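import Mathlib
import Cfsg.Agent.Lib.Helper20.HHExtF

set_option autoImplicit false

/-!
Auxiliary group-theoretic and arithmetic lemmas for the applications of the main theorem.
-/

namespace Cfsg.Agent.Lib.Helper20.HHExt

theorem fermat_arith (q r m : ℕ) (hq : q.Prime) (hr : r.Prime) (h : q ^ m = (r - 1) ^ 2 * q)
    (hne : r - 1 ≠ 1) : q = 2 ∧ ∃ n : ℕ, r = 2 ^ n + 1 ∧ q ^ m = 2 ^ (2 * n + 1) := by
  have hr2 := hr.two_le
  have hm : m ≠ 0 := by
    intro h0
    rw [h0, pow_zero] at h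
    have : q ∣ 1 := Dvd.intro_left _ h.symm
    exact hq.one_lt.ne' (Nat.dvd_one.mp this)
  obtain ⟨m', rfl⟩ : ∃ m', m = m' + 1 := ⟨m - 1, by omega⟩
  rw [pow_succ] at h
  have h1 : q ^ m' = (r - 1) ^ 2 := Nat.eq_of_mul_eq_mul_right hq.pos h
  have h2 : (r - 1) ∣ q ^ m' := ⟨r - 1, by rw [h1]; ring⟩
  obtain ⟨t, -, ht⟩ := (Nat.dvd_prime_pow hq).mp h2
  rw [ht, ← pow_mul] at h1
  have h3 : m' = t * 2 := Nat.pow_right_injective hq.two_le h1
  have ht0 : t ≠ 0 := by
    intro h0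
    rw [h0, pow_zero] at ht
    exact hne ht
  have hrq : r = q ^ t + 1 := by omega
  have hq2 : q = 2 := by
    by_contra hq2
    have hqodd : Odd q := hq.odd_of_ne_two hq2
    have : Odd (q ^ t) := hqodd.pow
    have hreven : Even r := by
      rw [hrq]
      exact this.add_one
    have hr2' : r = 2 := (hr.even_iff.mp hreven)
    have : q ^ t = 1 := by omega
    have h4 := Nat.one_lt_pow ht0 hq.one_lt
    omega
  refine ⟨hq2, t, ?_, ?_⟩
  · rw [hrq, hq2]
  · rw [hq2, h3]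
    congr 1
    ring

section generator

variable {G : Type*} [Group G]

theorem exists_generator (X : Subgroup G) {r : ℕ} (hr : r.Prime) (hX : Nat.card X = r) :
    ∃ x ∈ X, x ≠ 1 ∧ x ^ r = 1 ∧ ∀ y ∈ X, ∃ n : ℕ, y = x ^ n := by
  have hfact : Fact r.Prime := ⟨hr⟩
  have hfin : Finite X := Nat.finite_of_card_ne_zero (hX ▸ hr.ne_zero)
  have hnt : Nontrivial X := by
    rw [← Finite.one_lt_card_iff_nontrivial, hX]
    exact hr.one_lt
  obtain ⟨x, hx⟩ := exists_ne (1 : X)
  refine ⟨x, x.2, fun h => hx (Subtype.ext h), ?_, ?_⟩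
  · have h1 : x ^ r = 1 := by
      rw [← hX]
      exact pow_card_eq_one'
    exact congrArg Subtype.val h1
  · intro y hy
    have h1 : (⟨y, hy⟩ : X) ∈ Submonoid.powers x := mem_powers_of_prime_card hX hx
    obtain ⟨n, hn⟩ := h1
    refine ⟨n, ?_⟩
    have := congrArg Subtype.val hn
    exact this.symm

theorem mem_centralizer_of_generator (X : Subgroup G) (x : G) (hgen : ∀ y ∈ X, ∃ n : ℕ, y = x ^ n)
    (g : G) (hg : x * g = g * x) : g ∈ Subgroup.centralizer (X : Set G) := by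
  rw [Subgroup.mem_centralizer_iff]
  intro y hy
  obtain ⟨n, rfl⟩ := hgen y hy
  exact ((show Commute x g from hg).pow_left n).eq

/-- If `x g x⁻¹ = z g` with `z` commuting with `x`, `x ^ r = 1` and `z ^ q = 1` for coprime `q`,
`r`, then `z = 1`. -/
theorem conj_coset_fixed (x g z : G) {q r : ℕ} (hqr : Nat.Coprime q r) (hxr : x ^ r = 1)
    (hzq : z ^ q = 1) (hxz : x * z = z * x) (h : x * g * x⁻¹ = z * g) : z = 1 := by
  have hpow : ∀ i : ℕ, x ^ i * g * (x ^ i)⁻¹ = z ^ i * g := by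
    intro i
    induction i with
    | zero => simp
    | succ n ih =>
      have e1 : x ^ (n + 1) * g * (x ^ (n + 1))⁻¹ = x * (x ^ n * g * (x ^ n)⁻¹) * x⁻¹ := by
        rw [pow_succ']
        group
      have hc : Commute x (z ^ n) := (show Commute x z from hxz).pow_right n
      rw [e1, ih, ← mul_assoc, hc.eq, mul_assoc (z ^ n), mul_assoc (z ^ n), h,
        ← mul_assoc, ← pow_succ]
  have h1 := hpow r
  rw [hxr, one_mul, inv_one, mul_one] at h1
  have hzr : z ^ r = 1 := by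
    have : z ^ r * g = 1 * g := by rw [← h1, one_mul]
    exact mul_right_cancel this
  have h2 : orderOf z ∣ Nat.gcd q r := Nat.dvd_gcd (orderOf_dvd_of_pow_eq_one hzq)
    (orderOf_dvd_of_pow_eq_one hzr)
  rw [hqr.gcd_eq_one, Nat.dvd_one] at h2
  exact orderOf_eq_one_iff.mp h2

end generator

end Cfsg.Agent.Lib.Helper20.HHExt
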