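import Mathlib
import Cfsg.Agent.Lib.Helper20.HHExtG

set_option autoImplicit false

/-!
Minimal invariant subgroups with non-trivial action of an element of prime order (coprime action on
a `q`-group).
-/

namespace Cfsg.Agent.Lib.Helper20.HHExt

section minimal

variable {G : Type*} [Group G]

theorem conj_mem_closure {S : Set G} {x : G} (hS : ∀ s ∈ S, x * s * x⁻¹ ∈ S) :
    ∀ h ∈ Subgroup.closure S, x * h * x⁻¹ ∈ Subgroup.closure S := by
  intro h hh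
  induction hh using Subgroup.closure_induction with
  | mem s hs => exact Subgroup.subset_closure (hS s hs)
  | one => simp
  | mul a b _ _ iha ihb =>
    have : x * (a * b) * x⁻¹ = (x * a * x⁻¹) * (x * b * x⁻¹) := by group
    rw [this]
    exact Subgroup.mul_mem _ iha ihb
  | inv a _ iha =>
    have : x * a⁻¹ * x⁻¹ = (x * a * x⁻¹)⁻¹ := by group
    rw [this]
    exact Subgroup.inv_mem _ iha

theorem mem_normalizer_closure {S : Set G} {x : G} (hS : ∀ s ∈ S, x * s * x⁻¹ ∈ S)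
    (hS' : ∀ s ∈ S, x⁻¹ * s * x ∈ S) : x ∈ Subgroup.normalizer (Subgroup.closure S : Set G) := by
  rw [Subgroup.mem_normalizer_iff]
  intro h
  constructor
  · exact conj_mem_closure hS h
  · intro hh
    have h1 := conj_mem_closure (x := x⁻¹) (S := S) (by
      intro s hs
      rw [inv_inv]
      exact hS' s hs) _ hh
    have h2 : x⁻¹ * (x * h * x⁻¹) * x⁻¹⁻¹ = h := by group
    rw [h2] at h1
    exact h1

/-- `x` acts non-trivially on `P`, normalises it, and centralises every proper invariant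
subgroup. -/
structure MinAct (x : G) (P : Subgroup G) : Prop where
  norm : x ∈ Subgroup.normalizer (P : Set G)
  nontriv : ∃ g ∈ P, x * g ≠ g * x
  min : ∀ R : Subgroup G, R ≤ P → x ∈ Subgroup.normalizer (R : Set G) → R ≠ P →
    ∀ g ∈ R, x * g = g * x

theorem conj_mem_of_norm {x : G} {P : Subgroup G} (h : x ∈ Subgroup.normalizer (P : Set G))
    {g : G} (hg : g ∈ P) : x * g * x⁻¹ ∈ P :=
  (Subgroup.mem_normalizer_iff.mp h g).mp hg

theorem conj_mem_of_norm' {x : G} {P : Subgroup G} (h : x ∈ Subgroup.normalizer (P : Set G))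
    {g : G} (hg : g ∈ P) : x⁻¹ * g * x ∈ P := by
  rw [Subgroup.mem_normalizer_iff.mp h]
  have : x * (x⁻¹ * g * x) * x⁻¹ = g := by group
  rw [this]
  exact hg

/-- Coprime action: trivial action on `N` and on `P` modulo `N` forces trivial action on `P`. -/
theorem centralizes_of_comm {x : G} {P N : Subgroup G} {q r : ℕ} (hq : IsPGroup q P)
    (hqr : q.Coprime r) (hxr : x ^ r = 1) (hNP : N ≤ P) (hNx : ∀ n ∈ N, x * n = n * x)
    (hc : ∀ g ∈ P, g⁻¹ * (x * g * x⁻¹) ∈ N) : ∀ g ∈ P, x * g = g * x := by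
  intro g hg
  have hn := hc g hg
  set n := g⁻¹ * (x * g * x⁻¹) with hndef
  obtain ⟨k, hk⟩ := hq ⟨n, hNP hn⟩
  have hk' : n ^ q ^ k = 1 := congrArg Subtype.val hk
  have h1 : n⁻¹ = 1 := by
    apply conj_coset_fixed x g⁻¹ n⁻¹ (Nat.Coprime.pow_left k hqr) hxr
    · rw [inv_pow, hk', inv_one]
    · have := hNx n hn
      have h2 : x * n⁻¹ = n⁻¹ * (n * x) * n⁻¹ := by group
      rw [h2, ← this]
      group
    · rw [hndef]
      group
  have h2 : n = 1 := inv_eq_one.mp h1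
  rw [hndef] at h2
  have h3 : x * g = g * (g⁻¹ * (x * g * x⁻¹)) * x := by group
  rw [h3, h2, mul_one]

/-- The generating set of `[P, x]`. -/
def commSet (x : G) (P : Subgroup G) : Set G := {c | ∃ g ∈ P, c = g⁻¹ * (x * g * x⁻¹)}

namespace MinAct

variable {x : G} {P : Subgroup G}

theorem closure_commSet_le (h : MinAct x P) : Subgroup.closure (commSet x P) ≤ P := by
  rw [Subgroup.closure_le]
  rintro _ ⟨g, hg, rfl⟩
  exact P.mul_mem (P.inv_mem hg) (conj_mem_of_norm h.norm hg)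

theorem norm_closure_commSet (h : MinAct x P) :
    x ∈ Subgroup.normalizer (Subgroup.closure (commSet x P) : Set G) := by
  apply mem_normalizer_closure
  · rintro _ ⟨g, hg, rfl⟩
    refine ⟨x * g * x⁻¹, conj_mem_of_norm h.norm hg, ?_⟩
    group
  · rintro _ ⟨g, hg, rfl⟩
    refine ⟨x⁻¹ * g * x, conj_mem_of_norm' h.norm hg, ?_⟩
    group

/-- `P = [P, x]`. -/
theorem closure_commSet_eq (h : MinAct x P) {q r : ℕ} (hq : IsPGroup q P) (hqr : q.Coprime r)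
    (hxr : x ^ r = 1) : Subgroup.closure (commSet x P) = P := by
  by_contra hne
  obtain ⟨g, hg, hgx⟩ := h.nontriv
  apply hgx
  apply centralizes_of_comm hq hqr hxr h.closure_commSet_le
    (h.min _ h.closure_commSet_le h.norm_closure_commSet hne) _ g hg
  intro g' hg'
  exact Subgroup.subset_closure ⟨g', hg', rfl⟩

/-- Proper invariant normal subgroups are central. -/
theorem central_of_normal (h : MinAct x P) {q r : ℕ} (hq : IsPGroup q P) (hqr : q.Coprime r)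
    (hxr : x ^ r = 1) (N : Subgroup G) (hNP : N ≤ P) (hne : N ≠ P)
    (hxN : x ∈ Subgroup.normalizer (N : Set G)) (hnorm : ∀ g ∈ P, ∀ n ∈ N, g * n * g⁻¹ ∈ N) :
    ∀ n ∈ N, ∀ g ∈ P, g * n = n * g := by
  intro n hn
  have hxn := h.min N hNP hxN hne
  have hle : Subgroup.closure (commSet x P) ≤ Subgroup.centralizer {n} := by
    rw [Subgroup.closure_le]
    rintro _ ⟨g, hg, rfl⟩
    rw [SetLike.mem_coe, Subgroup.mem_centralizer_singleton_iff]
    have h1 := hxn _ (hnorm g hg n hn)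
    have h2 := hxn n hn
    -- t n t⁻¹ = n for t = g⁻¹ x g x⁻¹
    have h3 : x⁻¹ * n = n * x⁻¹ := by
      have : x⁻¹ * n = x⁻¹ * (n * x) * x⁻¹ := by group
      rw [this, ← h2]
      group
    have h4 : x * (g * n * g⁻¹) * x⁻¹ = g * n * g⁻¹ := by
      rw [h1]
      group
    have e1 : g⁻¹ * (x * g * x⁻¹) * n = g⁻¹ * x * g * (x⁻¹ * n) := by group
    have e2 : g⁻¹ * x * g * (n * x⁻¹) = g⁻¹ * (x * (g * n * g⁻¹) * x⁻¹) * (x * g * x⁻¹) := by group
    rw [e1, h3, e2, h4]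
    group
  rw [h.closure_commSet_eq hq hqr hxr] at hle
  intro g hg
  have := hle hg
  rw [Subgroup.mem_centralizer_singleton_iff] at this
  exact this

end MinAct

end minimal

section minimal2

open scoped commutatorElement

variable {G : Type*} [Group G]

theorem commutator_ne (P : Subgroup G) [Finite P] {q : ℕ} [Fact q.Prime] (hq : IsPGroup q P)
    (hnt : P ≠ ⊥) : ⁅P, P⁆ ≠ P := by
  intro heq
  have hnil : Group.IsNilpotent P := hq.isNilpotent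
  have hntP : Nontrivial P := (Subgroup.nontrivial_iff_ne_bot P).mpr hnt
  have h1 := Group.IsSolvable.commutator_lt_top_of_nontrivial (G := P)
  apply h1.ne
  apply Subgroup.map_injective P.subtype_injective
  rw [commutator_def, Subgroup.map_commutator, ← MonoidHom.range_eq_map, Subgroup.range_subtype]
  exact heq

namespace MinAct

variable {x : G} {P : Subgroup G}

/-- Commutators of `P` are central in `P` and fixed by `x`. -/
theorem comm_central (h : MinAct x P) [Finite P] {q r : ℕ} [Fact q.Prime] (hq : IsPGroup q P)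
    (hqr : q.Coprime r) (hxr : x ^ r = 1) (a b : G) (ha : a ∈ P) (hb : b ∈ P) :
    (∀ g ∈ P, g * (a * b * a⁻¹ * b⁻¹) = (a * b * a⁻¹ * b⁻¹) * g) ∧
      x * (a * b * a⁻¹ * b⁻¹) = (a * b * a⁻¹ * b⁻¹) * x := by
  have hPnt : P ≠ ⊥ := by
    intro hbot
    obtain ⟨g, hg, hgx⟩ := h.nontriv
    rw [hbot, Subgroup.mem_bot] at hg
    rw [hg] at hgx
    simp at hgx
  have hNP : ⁅P, P⁆ ≤ P := by
    rw [Subgroup.commutator_le]
    intro g₁ hg₁ g₂ hg₂
    rw [commutatorElement_def]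
    exact P.mul_mem (P.mul_mem (P.mul_mem hg₁ hg₂) (P.inv_mem hg₁)) (P.inv_mem hg₂)
  have hne : ⁅P, P⁆ ≠ P := commutator_ne P hq hPnt
  have hconj : ∀ y : G, (∀ g ∈ P, y * g * y⁻¹ ∈ P) →
      ∀ s ∈ {g | ∃ g₁ ∈ P, ∃ g₂ ∈ P, ⁅g₁, g₂⁆ = g}, y * s * y⁻¹ ∈
        {g | ∃ g₁ ∈ P, ∃ g₂ ∈ P, ⁅g₁, g₂⁆ = g} := by
    rintro y hy _ ⟨g₁, hg₁, g₂, hg₂, rfl⟩
    refine ⟨y * g₁ * y⁻¹, hy g₁ hg₁, y * g₂ * y⁻¹, hy g₂ hg₂, ?_⟩
    rw [commutatorElement_def, commutatorElement_def]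
    group
  have hxN : x ∈ Subgroup.normalizer ((⁅P, P⁆ : Subgroup G) : Set G) := by
    rw [Subgroup.commutator_def]
    apply mem_normalizer_closure
    · exact hconj x (fun g hg => conj_mem_of_norm h.norm hg)
    · have := hconj x⁻¹ (fun g hg => by rw [inv_inv]; exact conj_mem_of_norm' h.norm hg)
      intro s hs
      have h2 := this s hs
      rw [inv_inv] at h2
      exact h2
  have hnorm : ∀ g ∈ P, ∀ n ∈ ⁅P, P⁆, g * n * g⁻¹ ∈ ⁅P, P⁆ := by
    intro g hg n hn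
    rw [Subgroup.commutator_def] at hn ⊢
    exact conj_mem_closure (hconj g (fun k hk => P.mul_mem (P.mul_mem hg hk) (P.inv_mem hg))) n hn
  have hmem : a * b * a⁻¹ * b⁻¹ ∈ ⁅P, P⁆ := by
    rw [← commutatorElement_def]
    exact Subgroup.commutator_mem_commutator ha hb
  exact ⟨h.central_of_normal hq hqr hxr _ hNP hne hxN hnorm _ hmem,
    h.min _ hNP hxN hne _ hmem⟩

/-- The fixed points of `x` on `P` are central. -/
theorem fixed_central (h : MinAct x P) [Finite P] {q r : ℕ} [Fact q.Prime] (hq : IsPGroup q P)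
    (hqr : q.Coprime r) (hxr : x ^ r = 1) (c : G) (hc : c ∈ P) (hxc : x * c = c * x) :
    ∀ g ∈ P, g * c = c * g := by
  have hle : Subgroup.closure (commSet x P) ≤ Subgroup.centralizer {c} := by
    rw [Subgroup.closure_le]
    rintro _ ⟨g, hg, rfl⟩
    rw [SetLike.mem_coe, Subgroup.mem_centralizer_singleton_iff]
    obtain ⟨-, hz⟩ := h.comm_central hq hqr hxr c g hc hg
    have hz' : x * (c * g * c⁻¹ * g⁻¹) * x⁻¹ = c * g * c⁻¹ * g⁻¹ := by
      rw [hz]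
      group
    have hcx : c * x * c⁻¹ = x := by
      rw [← hxc]
      group
    have e1 : c * (g⁻¹ * (x * g * x⁻¹)) =
        (c * g * c⁻¹)⁻¹ * ((c * x * c⁻¹) * (c * g * c⁻¹) * (c * x * c⁻¹)⁻¹) * c := by group
    have e2 : c * g * c⁻¹ = (c * g * c⁻¹ * g⁻¹) * g := by group
    have e3 : ((c * g * c⁻¹ * g⁻¹) * g)⁻¹ * (x * ((c * g * c⁻¹ * g⁻¹) * g) * x⁻¹) =
        g⁻¹ * ((c * g * c⁻¹ * g⁻¹)⁻¹ * (x * (c * g * c⁻¹ * g⁻¹) * x⁻¹)) * (x * g * x⁻¹) := by group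
    rw [e1, hcx, e2, e3, hz']
    group
  rw [h.closure_commSet_eq hq hqr hxr] at hle
  intro g hg
  have := hle hg
  rw [Subgroup.mem_centralizer_singleton_iff] at this
  exact this

/-- Elements of `P` all of whose commutators lie in a subgroup `D` not containing the derived
subgroup are central. -/
theorem zD_central (h : MinAct x P) [Finite P] {q r : ℕ} [Fact q.Prime] (hq : IsPGroup q P)
    (hqr : q.Coprime r) (hxr : x ^ r = 1) (D : Subgroup G)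
    (hex : ∃ a ∈ P, ∃ b ∈ P, a * b * a⁻¹ * b⁻¹ ∉ D) (g : G) (hg : g ∈ P)
    (hall : ∀ a ∈ P, a * g * a⁻¹ * g⁻¹ ∈ D) : ∀ k ∈ P, k * g = g * k := by
  have hcc := h.comm_central hq hqr hxr
  let ZD : Subgroup G :=
    { carrier := {g | g ∈ P ∧ ∀ a ∈ P, a * g * a⁻¹ * g⁻¹ ∈ D}
      mul_mem' := by
        rintro g₁ g₂ ⟨hg₁, h₁⟩ ⟨hg₂, h₂⟩
        refine ⟨P.mul_mem hg₁ hg₂, ?_⟩
        intro a ha
        have e1 : a * (g₁ * g₂) * a⁻¹ * (g₁ * g₂)⁻¹ =
            (a * g₁ * a⁻¹ * g₁⁻¹) * (g₁ * (a * g₂ * a⁻¹ * g₂⁻¹)) * g₁⁻¹ := by group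
        rw [e1, (hcc a g₂ ha hg₂).1 g₁ hg₁]
        have e2 : a * g₁ * a⁻¹ * g₁⁻¹ * (a * g₂ * a⁻¹ * g₂⁻¹ * g₁) * g₁⁻¹ =
            (a * g₁ * a⁻¹ * g₁⁻¹) * (a * g₂ * a⁻¹ * g₂⁻¹) := by group
        rw [e2]
        exact D.mul_mem (h₁ a ha) (h₂ a ha)
      one_mem' := by
        refine ⟨P.one_mem, ?_⟩
        intro a _
        have : a * 1 * a⁻¹ * (1 : G)⁻¹ = 1 := by group
        rw [this]
        exact D.one_mem
      inv_mem' := by
        rintro g₁ ⟨hg₁, h₁⟩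
        refine ⟨P.inv_mem hg₁, ?_⟩
        intro a ha
        have e1 : a * g₁⁻¹ * a⁻¹ * g₁⁻¹⁻¹ = g₁⁻¹ * ((a * g₁ * a⁻¹ * g₁⁻¹)⁻¹ * g₁) := by group
        have e2 : (a * g₁ * a⁻¹ * g₁⁻¹)⁻¹ * g₁ = g₁ * (a * g₁ * a⁻¹ * g₁⁻¹)⁻¹ := by
          have h3 := (hcc a g₁ ha hg₁).1 g₁ hg₁
          have e3 : (a * g₁ * a⁻¹ * g₁⁻¹)⁻¹ * g₁ = (a * g₁ * a⁻¹ * g₁⁻¹)⁻¹ *
              (g₁ * (a * g₁ * a⁻¹ * g₁⁻¹)) * (a * g₁ * a⁻¹ * g₁⁻¹)⁻¹ := by group
          rw [e3, h3]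
          group
        rw [e1, e2, ← mul_assoc, inv_mul_cancel, one_mul]
        exact D.inv_mem (h₁ a ha) }
  have hmemZD : ∀ g, g ∈ ZD ↔ g ∈ P ∧ ∀ a ∈ P, a * g * a⁻¹ * g⁻¹ ∈ D := fun g => Iff.rfl
  have hZDP : ZD ≤ P := fun g hg => hg.1
  have hne : ZD ≠ P := by
    intro heq
    obtain ⟨a, ha, b, hb, hab⟩ := hex
    have hbZ : b ∈ ZD := heq ▸ hb
    exact hab (hbZ.2 a ha)
  have hconj : ∀ y : G, (∀ k ∈ P, y * k * y⁻¹ ∈ P) → (∀ k ∈ P, y⁻¹ * k * y ∈ P) →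
      (∀ a ∈ P, ∀ b ∈ P, y * (a * b * a⁻¹ * b⁻¹) * y⁻¹ = a * b * a⁻¹ * b⁻¹) →
      ∀ g ∈ ZD, y * g * y⁻¹ ∈ ZD := by
    intro y hy hy' hfix g₁ hg₁
    refine ⟨hy _ hg₁.1, ?_⟩
    intro a ha
    have e1 : a * (y * g₁ * y⁻¹) * a⁻¹ * (y * g₁ * y⁻¹)⁻¹ =
        y * ((y⁻¹ * a * y) * g₁ * (y⁻¹ * a * y)⁻¹ * g₁⁻¹) * y⁻¹ := by group
    rw [e1, hfix _ (hy' a ha) _ hg₁.1]
    exact hg₁.2 _ (hy' a ha)
  have hxfix : ∀ a ∈ P, ∀ b ∈ P, x * (a * b * a⁻¹ * b⁻¹) * x⁻¹ = a * b * a⁻¹ * b⁻¹ := by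
    intro a ha b hb
    rw [(hcc a b ha hb).2]
    group
  have hxfix' : ∀ a ∈ P, ∀ b ∈ P, x⁻¹ * (a * b * a⁻¹ * b⁻¹) * x⁻¹⁻¹ = a * b * a⁻¹ * b⁻¹ := by
    intro a ha b hb
    rw [inv_inv, mul_assoc, ← (hcc a b ha hb).2]
    group
  have hxN : x ∈ Subgroup.normalizer (ZD : Set G) := by
    rw [Subgroup.mem_normalizer_iff]
    intro g₁
    constructor
    · exact hconj x (fun k hk => conj_mem_of_norm h.norm hk)
        (fun k hk => conj_mem_of_norm' h.norm hk) hxfix g₁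
    · intro hg₁
      have h1 := hconj x⁻¹ (fun k hk => by rw [inv_inv]; exact conj_mem_of_norm' h.norm hk)
        (fun k hk => by rw [inv_inv]; exact conj_mem_of_norm h.norm hk) hxfix' _ hg₁
      have e : x⁻¹ * (x * g₁ * x⁻¹) * x⁻¹⁻¹ = g₁ := by group
      rw [e] at h1
      exact h1
  have hnorm : ∀ k ∈ P, ∀ n ∈ ZD, k * n * k⁻¹ ∈ ZD := by
    intro k hk n hn
    apply hconj k (fun k' hk' => P.mul_mem (P.mul_mem hk hk') (P.inv_mem hk))
      (fun k' hk' => P.mul_mem (P.mul_mem (P.inv_mem hk) hk') hk) _ n hn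
    intro a ha b hb
    rw [(hcc a b ha hb).1 k hk]
    group
  have hgZD : g ∈ ZD := ⟨hg, hall⟩
  intro k hk
  exact h.central_of_normal hq hqr hxr ZD hZDP hne hxN hnorm g hgZD k hk

end MinAct

end minimal2

end Cfsg.Agent.Lib.Helper20.HHExt
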