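import Mathlib
import Cfsg.Agent.Lib.Helper20.HHExtH
import Cfsg.Agent.Lib.Helper20.HHAbelB

set_option autoImplicit false

/-!
The abelian case (fixed points of an element of prime order `r` normalising an abelian `p'`-group
acting faithfully on an elementary abelian `p`-group), in subgroup form.
-/

namespace Cfsg.Agent.Lib.Helper20.HHExt

open Module Cfsg.Agent.Lib.Helper11.FrobGrpCore

section abelian

theorem abelian_group_aux (p : ℕ) [hp : Fact p.Prime] {V : Type*} [CommGroup V] [Finite V]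
    [Module (ZMod p) (Additive V)]
    {Γ : Type*} [Group Γ] (φ : Γ →* MulAut V) (A : Subgroup Γ) [Finite A] (x : Γ) {r : ℕ}
    (hr : r.Prime) (hxr : x ^ r = 1)
    (hcomm : ∀ z ∈ A, ∀ z' ∈ A, z * z' = z' * z) (hAp : ¬ p ∣ Nat.card A)
    (hn : ∀ y ∈ Subgroup.zpowers x, ∀ z ∈ A, y⁻¹ * z * y ∈ A)
    (hy : ∃ z ∈ A, φ (x⁻¹ * z * x) ≠ φ z) :
    ∃ v : V, v ≠ 1 ∧ φ x v = v := by
  have hfin : Module.Finite (ZMod p) (Additive V) := Module.Finite.of_finite
  have hmain := Cfsg.Agent.Lib.Helper20.HHAbel.main_field (linRep p φ) A x hr (m := 1) le_rfl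
    (by rw [pow_one]; exact hxr)
    (fun z hz z' hz' => by
      show linRep p φ z * linRep p φ z' = linRep p φ z' * linRep p φ z
      rw [← map_mul, ← map_mul, hcomm z hz z' hz'])
    (by rw [Ne, ZMod.natCast_eq_zero_iff]; exact hAp) hn
    (by
      obtain ⟨z, hz, hne⟩ := hy
      refine ⟨z, hz, ?_⟩
      rw [Nat.sub_self, pow_zero, pow_one]
      intro heq
      apply hne
      apply MulEquiv.ext
      intro v
      have h1 := congrArg (fun f => f (Additive.ofMul v)) heq
      simp only [linRep_apply] at h1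
      exact congrArg Additive.toMul h1)
  rw [pow_one] at hmain
  obtain ⟨a, ha⟩ : ∃ a : Additive V, (∑ i ∈ Finset.range r, linRep p φ x ^ i) a ≠ 0 := by
    by_contra hcon
    push Not at hcon
    apply hmain
    apply LinearMap.ext
    intro a
    rw [hcon a, LinearMap.zero_apply]
  rw [LinearMap.sum_apply] at ha
  have hfixed : linRep p φ x (∑ i ∈ Finset.range r, (linRep p φ x ^ i) a) =
      ∑ i ∈ Finset.range r, (linRep p φ x ^ i) a := by
    rw [map_sum]
    have h1 : ∀ i ∈ Finset.range r, linRep p φ x ((linRep p φ x ^ i) a) =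
        (linRep p φ x ^ (i + 1)) a := by
      intro i _
      rw [pow_succ', End.mul_apply]
    rw [Finset.sum_congr rfl h1]
    have e1 := Finset.sum_range_succ' (fun i => (linRep p φ x ^ i) a) r
    have e2 := Finset.sum_range_succ (fun i => (linRep p φ x ^ i) a) r
    have e3 : (linRep p φ x ^ r) a = (linRep p φ x ^ 0) a := by
      rw [← map_pow, hxr, map_one, pow_zero]
    rw [e2, e3] at e1
    exact (add_right_cancel e1).symm
  rw [linRep_apply] at hfixed
  refine ⟨Additive.toMul (∑ i ∈ Finset.range r, (linRep p φ x ^ i) a), ?_,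
    congrArg Additive.toMul hfixed⟩
  intro h1
  apply ha
  exact congrArg Additive.ofMul h1

theorem abelian_group (p : ℕ) [hp : Fact p.Prime] {V : Type*} [CommGroup V] [Finite V]
    (hV : ∀ v : V, v ^ p = 1)
    {Γ : Type*} [Group Γ] (φ : Γ →* MulAut V) (A : Subgroup Γ) [Finite A] (x : Γ) {r : ℕ}
    (hr : r.Prime) (hxr : x ^ r = 1)
    (hcomm : ∀ z ∈ A, ∀ z' ∈ A, z * z' = z' * z) (hAp : ¬ p ∣ Nat.card A)
    (hn : ∀ y ∈ Subgroup.zpowers x, ∀ z ∈ A, y⁻¹ * z * y ∈ A)
    (hy : ∃ z ∈ A, φ (x⁻¹ * z * x) ≠ φ z) :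
    ∃ v : V, v ≠ 1 ∧ φ x v = v := by
  have hA : ∀ a : Additive V, p • a = 0 := by
    intro a
    have := hV (Additive.toMul a)
    exact congrArg Additive.ofMul this
  exact @abelian_group_aux p _ V _ _ (AddCommGroup.zmodModule hA) Γ _ φ A _ x r hr hxr hcomm hAp
    hn hy

open scoped IsMulCommutative in
theorem abelian_subgroups {G : Type*} [Group G] [Finite G] {p r : ℕ} (hp : p.Prime) (hr : r.Prime)
    (x : G) (A V : Subgroup G) (hxr : x ^ r = 1)
    [hVc : IsMulCommutative V] (hVp : ∀ v ∈ V, v ^ p = 1)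
    (hxV : x ∈ Subgroup.normalizer (V : Set G)) (hAV : A ≤ Subgroup.normalizer (V : Set G))
    (hxA : x ∈ Subgroup.normalizer (A : Set G))
    (hAab : ∀ a ∈ A, ∀ b ∈ A, a * b = b * a) (hAp : ¬ p ∣ Nat.card A)
    (hmove : ∃ a ∈ A, ∃ v ∈ V, (x⁻¹ * a * x) * v * (x⁻¹ * a * x)⁻¹ ≠ a * v * a⁻¹) :
    ∃ v ∈ V, v ≠ 1 ∧ x * v = v * x := by
  have hfp : Fact p.Prime := ⟨hp⟩
  set N : Subgroup G := Subgroup.normalizer (V : Set G) with hN
  let φ : ↥N →* MulAut ↥V := V.normalizerMonoidHom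
  have hφ : ∀ (g : ↥N) (v : ↥V), ((φ g v : ↥V) : G) = (g : G) * (v : G) * (g : G)⁻¹ := by
    intro g v
    rfl
  have hres := abelian_group p (V := ↥V) (fun v => Subtype.ext (hVp v v.2)) φ (A.subgroupOf N)
    ⟨x, hxV⟩ hr (Subtype.ext hxr)
    (by
      intro z hz z' hz'
      apply Subtype.ext
      exact hAab z hz z' hz')
    (by
      rw [Nat.card_congr (Subgroup.subgroupOfEquivOfLe hAV).toEquiv]
      exact hAp)
    (by
      intro y hy z hz
      have hle : Subgroup.zpowers (⟨x, hxV⟩ : ↥N) ≤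
          (Subgroup.normalizer (A : Set G)).subgroupOf N := by
        rw [Subgroup.zpowers_le]
        exact hxA
      have hyA : (y : G) ∈ Subgroup.normalizer (A : Set G) := hle hy
      exact conj_mem_of_norm' hyA hz)
    (by
      obtain ⟨a, ha, v, hv, hne⟩ := hmove
      refine ⟨⟨a, hAV ha⟩, ha, ?_⟩
      intro heq
      apply hne
      have h1 := congrArg (fun f : MulAut ↥V => ((f ⟨v, hv⟩ : ↥V) : G)) heq
      simp only [hφ] at h1
      exact h1)
  obtain ⟨v, hv1, hvx⟩ := hres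
  refine ⟨v, v.2, fun h => hv1 (Subtype.ext h), ?_⟩
  have h1 := congrArg (fun w : ↥V => (w : G)) hvx
  simp only [hφ] at h1
  have h2 : x * (v : G) = x * (v : G) * x⁻¹ * x := by group
  rw [h2]
  exact congrArg (· * x) h1

end abelian

end Cfsg.Agent.Lib.Helper20.HHExt
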