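import Mathlib
import Cfsg.Agent.Lib.Helper20.HHExtI

set_option autoImplicit false

/-!
Aschbacher (36.2)/(36.3): an element of prime order `r` acting non-trivially on a `q`-group `Q`, with
`Q⟨x⟩` acting on an elementary abelian `p`-group `V` (`Q` faithfully), has a non-trivial fixed point on
`V`, unless `q = 2`, `r` is a Fermat prime and `Q` is non-abelian.
-/

namespace Cfsg.Agent.Lib.Helper20.HHExt

section fixed

variable {G : Type*} [Group G] [Finite G]

theorem exists_minAct (x : G) (Q : Subgroup G) (hxQ : x ∈ Subgroup.normalizer (Q : Set G))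
    (hxnc : ∃ g ∈ Q, x * g ≠ g * x) : ∃ P : Subgroup G, P ≤ Q ∧ MinAct x P := by
  classical
  let S : Set (Subgroup G) :=
    {P | P ≤ Q ∧ x ∈ Subgroup.normalizer (P : Set G) ∧ ∃ g ∈ P, x * g ≠ g * x}
  have hne : S.Nonempty := ⟨Q, le_rfl, hxQ, hxnc⟩
  obtain ⟨P, hPS, hmin⟩ := (Set.toFinite S).exists_minimalFor (fun P : Subgroup G => Nat.card P) S hne
  obtain ⟨hPQ, hxP, hnt⟩ := hPS
  refine ⟨P, hPQ, hxP, hnt, ?_⟩
  intro R hRP hxR hne' g hg
  by_contra hcon
  have hRS : R ∈ S := ⟨le_trans hRP hPQ, hxR, g, hg, hcon⟩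
  have h1 := hmin hRS (Subgroup.card_le_of_le hRP)
  exact hne' (Subgroup.eq_of_le_of_card_ge hRP h1)

theorem not_dvd_card_of_isPGroup {p q : ℕ} (hp : p.Prime) (hq : q.Prime) (hpq : p ≠ q)
    (P : Subgroup G) (hP : IsPGroup q P) : ¬ p ∣ Nat.card P := by
  have hfq : Fact q.Prime := ⟨hq⟩
  obtain ⟨k, hk⟩ := hP.exists_card_eq
  rw [hk]
  intro h
  exact hpq ((Nat.prime_dvd_prime_iff_eq hp hq).mp (hp.dvd_of_dvd_pow h))

open scoped IsMulCommutative in
theorem exists_fixed {p q r : ℕ} (hp : p.Prime) (hq : q.Prime) (hr : r.Prime) (hpq : p ≠ q)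
    (hpr : p ≠ r) (hqr : q ≠ r) (x : G) (Q V : Subgroup G) (hxr : x ^ r = 1) (hQ : IsPGroup q Q)
    (hxQ : x ∈ Subgroup.normalizer (Q : Set G)) (hxnc : ∃ g ∈ Q, x * g ≠ g * x)
    [hVc : IsMulCommutative V] (hVp : ∀ v ∈ V, v ^ p = 1)
    (hxV : x ∈ Subgroup.normalizer (V : Set G)) (hQV : Q ≤ Subgroup.normalizer (V : Set G))
    (hfaith : Q ⊓ Subgroup.centralizer (V : Set G) = ⊥)
    (hexc : q = 2 → (∃ n : ℕ, r = 2 ^ n + 1) → ∀ a ∈ Q, ∀ b ∈ Q, a * b = b * a) :
    ∃ v ∈ V, v ≠ 1 ∧ x * v = v * x := by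
  classical
  have hfq : Fact q.Prime := ⟨hq⟩
  have hcop : q.Coprime r := (Nat.coprime_primes hq hr).mpr hqr
  obtain ⟨P, hPQ, hM⟩ := exists_minAct x Q hxQ hxnc
  have hPq : IsPGroup q P := hQ.to_le hPQ
  have hPV : P ≤ Subgroup.normalizer (V : Set G) := le_trans hPQ hQV
  -- an element of `Q` different from `1` moves some vector
  have hmoves : ∀ d ∈ Q, d ≠ 1 → ∃ v ∈ V, d * v * d⁻¹ ≠ v := by
    intro d hd hd1
    have hnc : d ∉ Subgroup.centralizer (V : Set G) := by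
      intro hc
      apply hd1
      have : d ∈ Q ⊓ Subgroup.centralizer (V : Set G) := Subgroup.mem_inf.mpr ⟨hd, hc⟩
      rw [hfaith, Subgroup.mem_bot] at this
      exact this
    rw [Subgroup.mem_centralizer_iff] at hnc
    push Not at hnc
    obtain ⟨v, hv, hvne⟩ := hnc
    refine ⟨v, hv, ?_⟩
    intro heq
    apply hvne
    have : d * v = d * v * d⁻¹ * d := by group
    rw [this, heq]
  by_cases hab : ∀ a ∈ P, ∀ b ∈ P, a * b = b * a
  · -- abelian case
    apply abelian_subgroups hp hr x P V hxr hVp hxV hPV hM.norm hab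
      (not_dvd_card_of_isPGroup hp hq hpq P hPq)
    obtain ⟨g, hg, hgx⟩ := hM.nontriv
    have hd : g⁻¹ * (x⁻¹ * g * x) ∈ Q :=
      hPQ (P.mul_mem (P.inv_mem hg) (conj_mem_of_norm' hM.norm hg))
    have hd1 : g⁻¹ * (x⁻¹ * g * x) ≠ 1 := by
      intro h1
      apply hgx
      have : x * g = g * x * (g⁻¹ * (x⁻¹ * g * x))⁻¹ := by group
      rw [this, h1, inv_one, mul_one]
    obtain ⟨v, hv, hvne⟩ := hmoves _ hd hd1
    refine ⟨g, hg, v, hv, ?_⟩
    intro heq
    apply hvne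
    have e1 : g⁻¹ * (x⁻¹ * g * x) * v * (g⁻¹ * (x⁻¹ * g * x))⁻¹ =
        g⁻¹ * ((x⁻¹ * g * x) * v * (x⁻¹ * g * x)⁻¹) * g := by group
    rw [e1, heq]
    group
  · -- non-abelian case
    by_contra hcon
    push Not at hcon
    push Not at hab
    obtain ⟨a₀, ha₀, b₀, hb₀, hab₀⟩ := hab
    obtain ⟨Z, hZdef⟩ : ∃ Z : Subgroup G, Z = P ⊓ Subgroup.centralizer (P : Set G) := ⟨_, rfl⟩
    have hZP : Z ≤ P := hZdef ▸ inf_le_left
    have hZmem : ∀ z, z ∈ Z ↔ z ∈ P ∧ ∀ g ∈ P, g * z = z * g := by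
      intro z
      rw [hZdef, Subgroup.mem_inf, Subgroup.mem_centralizer_iff]
      rfl
    have hZne : Z ≠ P := by
      intro heq
      apply hab₀
      have : b₀ ∈ Z := heq ▸ hb₀
      exact ((hZmem b₀).mp this).2 a₀ ha₀
    have hxZ : x ∈ Subgroup.normalizer (Z : Set G) := by
      rw [Subgroup.mem_normalizer_iff]
      intro z
      constructor
      · intro hz
        obtain ⟨hzP, hzc⟩ := (hZmem z).mp hz
        rw [hZmem]
        refine ⟨conj_mem_of_norm hM.norm hzP, ?_⟩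
        intro g hg
        have h1 := hzc _ (conj_mem_of_norm' hM.norm hg)
        have e1 : g * (x * z * x⁻¹) = x * ((x⁻¹ * g * x) * z) * x⁻¹ := by group
        rw [e1, h1]
        group
      · intro hz
        obtain ⟨hzP, hzc⟩ := (hZmem _).mp hz
        rw [hZmem]
        have hzP' : z ∈ P := by
          have := conj_mem_of_norm' hM.norm hzP
          have e : x⁻¹ * (x * z * x⁻¹) * x = z := by group
          rw [e] at this
          exact this
        refine ⟨hzP', ?_⟩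
        intro g hg
        have h1 := hzc _ (conj_mem_of_norm hM.norm hg)
        have e1 : g * z = x⁻¹ * ((x * g * x⁻¹) * (x * z * x⁻¹)) * x := by group
        rw [e1, h1]
        group
    have hZcenx : ∀ z ∈ Z, x * z = z * x := hM.min Z hZP hxZ hZne
    have hZcenP : ∀ z ∈ Z, ∀ g ∈ P, g * z = z * g := fun z hz => ((hZmem z).mp hz).2
    have hcomm : ∀ h ∈ P, ∀ g ∈ P, h * g * h⁻¹ * g⁻¹ ∈ Z := by
      intro h hh g hg
      rw [hZmem]
      exact ⟨P.mul_mem (P.mul_mem (P.mul_mem hh hg) (P.inv_mem hh)) (P.inv_mem hg),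
        (hM.comm_central hPq hcop hxr h g hh hg).1⟩
    have hZq : IsPGroup q Z := hPq.to_le hZP
    obtain ⟨j, hj⟩ := hZq.exists_card_eq
    have hmain := main_subgroups hp hr (Ne.symm hpr) x P Z V hxr hVp hxV hPV hM.norm hZP hZcenP
      hZcenx (not_dvd_card_of_isPGroup hp hq hpq Z hZq) hcomm
      (by
        intro D _ hex g hg hall
        rw [hZmem]
        exact ⟨hg, hM.zD_central hPq hcop hxr D hex g hg hall⟩)
      (by
        intro g hg hgz
        have hzpow : (x * g * x⁻¹ * g⁻¹) ^ q ^ j = 1 := by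
          have h1 : (⟨x * g * x⁻¹ * g⁻¹, hgz⟩ : Z) ^ q ^ j = 1 := by
            rw [← hj]
            exact pow_card_eq_one'
          exact congrArg Subtype.val h1
        have hz1 := conj_coset_fixed x g (x * g * x⁻¹ * g⁻¹) (Nat.Coprime.pow_left j hcop) hxr
          hzpow (hZcenx _ hgz) (by group)
        have hxg : x * g = g * x := by
          have h2 : x * g = (x * g * x⁻¹ * g⁻¹) * (g * x) := by group
          rw [h2, hz1, one_mul]
        rw [hZmem]
        exact ⟨hg, hM.fixed_central hPq hcop hxr g hg hxg⟩)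
      (by
        have hc1 : a₀ * b₀ * a₀⁻¹ * b₀⁻¹ ≠ 1 := by
          intro h1
          apply hab₀
          have : a₀ * b₀ = (a₀ * b₀ * a₀⁻¹ * b₀⁻¹) * (b₀ * a₀) := by group
          rw [this, h1, one_mul]
        have hcQ : a₀ * b₀ * a₀⁻¹ * b₀⁻¹ ∈ Q :=
          hPQ (P.mul_mem (P.mul_mem (P.mul_mem ha₀ hb₀) (P.inv_mem ha₀)) (P.inv_mem hb₀))
        obtain ⟨v, hv, hvne⟩ := hmoves _ hcQ hc1
        exact ⟨a₀, ha₀, b₀, hb₀, v, hv, hvne⟩)
      (by
        intro v hv hxv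
        by_contra hv1
        exact hcon v hv hv1 hxv)
    obtain ⟨m, hm⟩ := hPq.exists_card_eq
    rw [hm, hj] at hmain
    have hjm : j ≤ m := by
      have h1 : Nat.card Z ≤ Nat.card P := Subgroup.card_le_of_le hZP
      rw [hm, hj] at h1
      exact (Nat.pow_le_pow_iff_right hq.one_lt).mp h1
    have hne1 : r - 1 ≠ 1 := by
      intro h1
      rw [h1, one_pow, one_mul] at hmain
      apply hZne
      apply Subgroup.eq_of_le_of_card_ge hZP
      rw [hm, hj, hmain]
    have harith : q ^ (m - j + 1) = (r - 1) ^ 2 * q := by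
      have h1 : q ^ m = q ^ (m - j) * q ^ j := by
        rw [← pow_add]
        congr 1
        omega
      rw [h1] at hmain
      have h2 : q ^ (m - j) = (r - 1) ^ 2 := Nat.eq_of_mul_eq_mul_right (pow_pos hq.pos j) hmain
      rw [pow_succ, h2]
    obtain ⟨hq2, n, hrn, -⟩ := fermat_arith q r (m - j + 1) hq hr harith hne1
    exact hab₀ (hexc hq2 ⟨n, hrn⟩ a₀ (hPQ ha₀) b₀ (hPQ hb₀))

end fixed

end Cfsg.Agent.Lib.Helper20.HHExt
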