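import Mathlib
import Cfsg.Agent.Lib.Helper20.HHExtJ

set_option autoImplicit false

/-!
Versions of the main theorems for an abstract action `φ : G →* MulAut V`.
-/

namespace Cfsg.Agent.Lib.Helper20.HHExt

section aut

variable {G : Type*} [Group G] [Finite G]

theorem main_subgroups_aut {p r : ℕ} (hp : p.Prime) (hr : r.Prime)
    (hrp : r ≠ p) {V : Type*} [CommGroup V] [Finite V] (hV : ∀ v : V, v ^ p = 1)
    (φ : G →* MulAut V) (x : G) (P Z : Subgroup G) (hxr : x ^ r = 1)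
    (hxP : x ∈ Subgroup.normalizer (P : Set G))
    (hZP : Z ≤ P) (hZcenP : ∀ z ∈ Z, ∀ g ∈ P, g * z = z * g) (hZcenx : ∀ z ∈ Z, x * z = z * x)
    (hZp : ¬ p ∣ Nat.card Z)
    (hcomm : ∀ h ∈ P, ∀ g ∈ P, h * g * h⁻¹ * g⁻¹ ∈ Z)
    (hD : ∀ D : Subgroup G, D ≤ Z → (∃ h ∈ P, ∃ g ∈ P, h * g * h⁻¹ * g⁻¹ ∉ D) →
      ∀ g ∈ P, (∀ h ∈ P, h * g * h⁻¹ * g⁻¹ ∈ D) → g ∈ Z)
    (hfpf : ∀ g ∈ P, x * g * x⁻¹ * g⁻¹ ∈ Z → g ∈ Z)
    (hnt : ∃ h ∈ P, ∃ g ∈ P, φ (h * g * h⁻¹ * g⁻¹) ≠ 1)
    (hCV : ∀ v : V, φ x v = v → v = 1) :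
    Nat.card P = (r - 1) ^ 2 * Nat.card Z := by
  have hfp : Fact p.Prime := ⟨hp⟩
  set N : Subgroup G := Subgroup.centralizer (Z : Set G) with hN
  have hxN : x ∈ N := by
    rw [Subgroup.mem_centralizer_iff]
    intro z hz
    exact (hZcenx z hz).symm
  have hPN : P ≤ N := by
    intro g hg
    rw [Subgroup.mem_centralizer_iff]
    intro z hz
    exact (hZcenP z hz g hg).symm
  have hZN : Z ≤ N := le_trans hZP hPN
  have hcard := main_group p (V := V) hV (φ.comp N.subtype) (P.subgroupOf N)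
    (Z.subgroupOf N) ⟨x, hxN⟩ hr hrp
    (by
      rw [Nat.card_congr (Subgroup.subgroupOfEquivOfLe hZN).toEquiv]
      exact hZp)
    (by
      intro g hg
      exact hZP hg)
    (by
      intro z hz g
      apply Subtype.ext
      have := (Subgroup.mem_centralizer_iff.mp g.2) (z : G) hz
      exact this.symm)
    (by
      intro h hh g hg
      exact hcomm h hh g hg)
    (by
      intro D' hD'Z hex g hg hall
      have hDZ : D'.map N.subtype ≤ Z := by
        rintro _ ⟨d, hd, rfl⟩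
        exact hD'Z hd
      have hmem : ∀ d : ↥N, (d : G) ∈ D'.map N.subtype ↔ d ∈ D' := by
        intro d
        constructor
        · rintro ⟨d', hd', hdd'⟩
          have : d' = d := Subtype.ext hdd'
          rw [← this]
          exact hd'
        · intro hd
          exact ⟨d, hd, rfl⟩
      apply hD (D'.map N.subtype) hDZ
      · obtain ⟨h, hh, g', hg', hne⟩ := hex
        refine ⟨h, hh, g', hg', ?_⟩
        intro hcon
        apply hne
        exact (hmem (h * g' * h⁻¹ * g'⁻¹)).mp hcon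
      · exact hg
      · intro h hh
        have := hall ⟨h, hPN hh⟩ hh
        exact (hmem (⟨h, hPN hh⟩ * g * (⟨h, hPN hh⟩ : ↥N)⁻¹ * g⁻¹)).mpr this)
    (by
      refine ⟨?_, ?_, ?_⟩
      · intro g
        exact (Subgroup.mem_normalizer_iff.mp hxP) (g : G)
      · apply Subtype.ext
        exact hxr
      · intro g hg hgz
        exact hfpf g hg hgz)
    (by
      obtain ⟨h, hh, g, hg, hne⟩ := hnt
      exact ⟨⟨h, hPN hh⟩, hh, ⟨g, hPN hg⟩, hg, hne⟩)
    (by
      intro v hv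
      exact hCV v hv)
  have h1 : Nat.card (P.subgroupOf N) = Nat.card P :=
    Nat.card_congr (Subgroup.subgroupOfEquivOfLe hPN).toEquiv
  have h2 : Nat.card ((Z.subgroupOf N).subgroupOf (P.subgroupOf N)) = Nat.card Z := by
    have hle' : Z.subgroupOf N ≤ P.subgroupOf N := fun g hg => hZP hg
    rw [Nat.card_congr (Subgroup.subgroupOfEquivOfLe hle').toEquiv,
      Nat.card_congr (Subgroup.subgroupOfEquivOfLe hZN).toEquiv]
  have h3 := Subgroup.card_eq_card_quotient_mul_card_subgroup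
    ((Z.subgroupOf N).subgroupOf (P.subgroupOf N))
  rw [h1, h2] at h3
  rw [h3]
  congr 1

theorem exists_fixed_aut {p q r : ℕ} (hp : p.Prime) (hq : q.Prime) (hr : r.Prime) (hpq : p ≠ q)
    (hpr : p ≠ r) (hqr : q ≠ r) {V : Type*} [CommGroup V] [Finite V] (hV : ∀ v : V, v ^ p = 1)
    (φ : G →* MulAut V) (x : G) (Q : Subgroup G) (hxr : x ^ r = 1) (hQ : IsPGroup q Q)
    (hxQ : x ∈ Subgroup.normalizer (Q : Set G)) (hxnc : ∃ g ∈ Q, x * g ≠ g * x)
    (hfaith : ∀ d ∈ Q, φ d = 1 → d = 1)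
    (hexc : q = 2 → (∃ n : ℕ, r = 2 ^ n + 1) → ∀ a ∈ Q, ∀ b ∈ Q, a * b = b * a) :
    ∃ v : V, v ≠ 1 ∧ φ x v = v := by
  classical
  have hfq : Fact q.Prime := ⟨hq⟩
  have hfp : Fact p.Prime := ⟨hp⟩
  have hcop : q.Coprime r := (Nat.coprime_primes hq hr).mpr hqr
  obtain ⟨P, hPQ, hM⟩ := exists_minAct x Q hxQ hxnc
  have hPq : IsPGroup q P := hQ.to_le hPQ
  by_cases hab : ∀ a ∈ P, ∀ b ∈ P, a * b = b * a
  · -- abelian case
    apply abelian_group p hV φ P x hr hxr hab (not_dvd_card_of_isPGroup hp hq hpq P hPq)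
    · intro y hy z hz
      have hle : Subgroup.zpowers x ≤ Subgroup.normalizer (P : Set G) := by
        rw [Subgroup.zpowers_le]
        exact hM.norm
      exact conj_mem_of_norm' (hle hy) hz
    · obtain ⟨g, hg, hgx⟩ := hM.nontriv
      refine ⟨g, hg, ?_⟩
      intro heq
      apply hgx
      have hd : g⁻¹ * (x⁻¹ * g * x) ∈ Q :=
        hPQ (P.mul_mem (P.inv_mem hg) (conj_mem_of_norm' hM.norm hg))
      have h1 : φ (g⁻¹ * (x⁻¹ * g * x)) = 1 := by
        rw [map_mul, heq, ← map_mul, inv_mul_cancel, map_one]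
      have h2 := hfaith _ hd h1
      have : x * g = g * x * (g⁻¹ * (x⁻¹ * g * x))⁻¹ := by group
      rw [this, h2, inv_one, mul_one]
  · -- non-abelian case
    by_contra hcon
    push Not at hcon
    push Not at hab
    obtain ⟨a₀, ha₀, b₀, hb₀, hab₀⟩ := hab
    obtain ⟨Z, hZdef⟩ : ∃ Z : Subgroup G, Z = P ⊓ Subgroup.centralizer (P : Set G) := ⟨_, rfl⟩
    have hZP : Z ≤ P := hZdef ▸ inf_le_left
    have hZmem : ∀ z, z ∈ Z ↔ z ∈ P ∧ ∀ g ∈ P, g * z = z * g := by
      intro z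
      rw [hZdef, Subgroup.mem_inf, Subgroup.mem_centralizer_iff]
      rfl
    have hZne : Z ≠ P := by
      intro heq
      apply hab₀
      have : b₀ ∈ Z := heq ▸ hb₀
      exact ((hZmem b₀).mp this).2 a₀ ha₀
    have hxZ : x ∈ Subgroup.normalizer (Z : Set G) := by
      rw [Subgroup.mem_normalizer_iff]
      intro z
      constructor
      · intro hz
        obtain ⟨hzP, hzc⟩ := (hZmem z).mp hz
        rw [hZmem]
        refine ⟨conj_mem_of_norm hM.norm hzP, ?_⟩
        intro g hg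
        have h1 := hzc _ (conj_mem_of_norm' hM.norm hg)
        have e1 : g * (x * z * x⁻¹) = x * ((x⁻¹ * g * x) * z) * x⁻¹ := by group
        rw [e1, h1]
        group
      · intro hz
        obtain ⟨hzP, hzc⟩ := (hZmem _).mp hz
        rw [hZmem]
        have hzP' : z ∈ P := by
          have := conj_mem_of_norm' hM.norm hzP
          have e : x⁻¹ * (x * z * x⁻¹) * x = z := by group
          rw [e] at this
          exact this
        refine ⟨hzP', ?_⟩
        intro g hg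
        have h1 := hzc _ (conj_mem_of_norm hM.norm hg)
        have e1 : g * z = x⁻¹ * ((x * g * x⁻¹) * (x * z * x⁻¹)) * x := by group
        rw [e1, h1]
        group
    have hZcenx : ∀ z ∈ Z, x * z = z * x := hM.min Z hZP hxZ hZne
    have hZcenP : ∀ z ∈ Z, ∀ g ∈ P, g * z = z * g := fun z hz => ((hZmem z).mp hz).2
    have hcomm : ∀ h ∈ P, ∀ g ∈ P, h * g * h⁻¹ * g⁻¹ ∈ Z := by
      intro h hh g hg
      rw [hZmem]
      exact ⟨P.mul_mem (P.mul_mem (P.mul_mem hh hg) (P.inv_mem hh)) (P.inv_mem hg),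
        (hM.comm_central hPq hcop hxr h g hh hg).1⟩
    have hZq : IsPGroup q Z := hPq.to_le hZP
    obtain ⟨j, hj⟩ := hZq.exists_card_eq
    have hmain := main_subgroups_aut hp hr (Ne.symm hpr) hV φ x P Z hxr hM.norm hZP hZcenP
      hZcenx (not_dvd_card_of_isPGroup hp hq hpq Z hZq) hcomm
      (by
        intro D _ hex g hg hall
        rw [hZmem]
        exact ⟨hg, hM.zD_central hPq hcop hxr D hex g hg hall⟩)
      (by
        intro g hg hgz
        have hzpow : (x * g * x⁻¹ * g⁻¹) ^ q ^ j = 1 := by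
          have h1 : (⟨x * g * x⁻¹ * g⁻¹, hgz⟩ : Z) ^ q ^ j = 1 := by
            rw [← hj]
            exact pow_card_eq_one'
          exact congrArg Subtype.val h1
        have hz1 := conj_coset_fixed x g (x * g * x⁻¹ * g⁻¹) (Nat.Coprime.pow_left j hcop) hxr
          hzpow (hZcenx _ hgz) (by group)
        have hxg : x * g = g * x := by
          have h2 : x * g = (x * g * x⁻¹ * g⁻¹) * (g * x) := by group
          rw [h2, hz1, one_mul]
        rw [hZmem]
        exact ⟨hg, hM.fixed_central hPq hcop hxr g hg hxg⟩)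
      (by
        have hc1 : a₀ * b₀ * a₀⁻¹ * b₀⁻¹ ≠ 1 := by
          intro h1
          apply hab₀
          have : a₀ * b₀ = (a₀ * b₀ * a₀⁻¹ * b₀⁻¹) * (b₀ * a₀) := by group
          rw [this, h1, one_mul]
        have hcQ : a₀ * b₀ * a₀⁻¹ * b₀⁻¹ ∈ Q :=
          hPQ (P.mul_mem (P.mul_mem (P.mul_mem ha₀ hb₀) (P.inv_mem ha₀)) (P.inv_mem hb₀))
        exact ⟨a₀, ha₀, b₀, hb₀, fun h => hc1 (hfaith _ hcQ h)⟩)
      (by
        intro v hxv
        by_contra hv1
        exact hcon v hv1 hxv)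
    obtain ⟨m, hm⟩ := hPq.exists_card_eq
    rw [hm, hj] at hmain
    have hjm : j ≤ m := by
      have h1 : Nat.card Z ≤ Nat.card P := Subgroup.card_le_of_le hZP
      rw [hm, hj] at h1
      exact (Nat.pow_le_pow_iff_right hq.one_lt).mp h1
    have hne1 : r - 1 ≠ 1 := by
      intro h1
      rw [h1, one_pow, one_mul] at hmain
      apply hZne
      apply Subgroup.eq_of_le_of_card_ge hZP
      rw [hm, hj, hmain]
    have harith : q ^ (m - j + 1) = (r - 1) ^ 2 * q := by
      have h1 : q ^ m = q ^ (m - j) * q ^ j := by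
        rw [← pow_add]
        congr 1
        omega
      rw [h1] at hmain
      have h2 : q ^ (m - j) = (r - 1) ^ 2 := Nat.eq_of_mul_eq_mul_right (pow_pos hq.pos j) hmain
      rw [pow_succ, h2]
    obtain ⟨hq2, n, hrn, -⟩ := fermat_arith q r (m - j + 1) hq hr harith hne1
    exact hab₀ (hexc hq2 ⟨n, hrn⟩ a₀ (hPQ ha₀) b₀ (hPQ hb₀))

end aut

end Cfsg.Agent.Lib.Helper20.HHExt
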