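import Mathlib

/-!
# Wielandt's join theorem (finite groups)

`isSubnormal_sup`: in a finite group the join of two subnormal subgroups is subnormal.
`isSubnormal_sup_of_le_normalizer'`: (any group) if `A`, `K` are subnormal and `K` normalizes `A`
then `A ⊔ K` is subnormal.
`isSubnormal_iSup`, `isSubnormal_sSup`: finite joins.
-/

set_option autoImplicit false

namespace Cfsg.Agent.Lib.Helper20

open Subgroup

universe u

section
variable {G : Type*} [Group G]

theorem conj_mem_of_le_normalizer' {H K : Subgroup G} (hK : K ≤ normalizer (H : Set G))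
    {k : G} (hk : k ∈ K) {x : G} (hx : x ∈ H) : k * x * k⁻¹ ∈ H :=
  (Subgroup.mem_set_normalizer_iff.mp (hK hk) x).mp hx

theorem le_normalizer_of_conj_mem' {H K : Subgroup G}
    (h : ∀ k ∈ K, ∀ x ∈ H, k * x * k⁻¹ ∈ H) : K ≤ normalizer (H : Set G) := by
  intro k hk
  rw [Subgroup.mem_set_normalizer_iff]
  intro x
  refine ⟨h k hk x, fun hx => ?_⟩
  have := h k⁻¹ (K.inv_mem hk) _ hx
  simpa [mul_assoc] using this

/-- if conjugation by `g` maps generators into the closure, it maps the closure into itself -/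
theorem conj_mem_closure {S : Set G} {g : G}
    (h : ∀ s ∈ S, g * s * g⁻¹ ∈ Subgroup.closure S) {y : G} (hy : y ∈ Subgroup.closure S) :
    g * y * g⁻¹ ∈ Subgroup.closure S := by
  have h1 : (Subgroup.closure S).map (MulAut.conj g).toMonoidHom ≤ Subgroup.closure S := by
    rw [MonoidHom.map_closure, Subgroup.closure_le]
    rintro _ ⟨s, hs, rfl⟩
    exact h s hs
  exact h1 ⟨y, hy, rfl⟩

theorem isSubnormal_sup_of_normal (N K : Subgroup G) [N.Normal] (hK : K.IsSubnormal) :
    (N ⊔ K).IsSubnormal := by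
  have := (hK.map (QuotientGroup.mk'_surjective N)).comap (QuotientGroup.mk' N)
  rwa [Subgroup.comap_map_eq, QuotientGroup.ker_mk', sup_comm] at this

theorem isSubnormal_sup_of_le_normalizer {N K B : Subgroup G} (hK : K.IsSubnormal)
    (hB : B.IsSubnormal) (hNB : N ≤ B) (hKB : K ≤ B) (hn : B ≤ normalizer (N : Set G)) :
    (N ⊔ K).IsSubnormal := by
  have : (N.subgroupOf B).Normal := (normal_subgroupOf_iff_le_normalizer hNB).mpr hn
  have h1 : (N.subgroupOf B ⊔ K.subgroupOf B).IsSubnormal :=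
    isSubnormal_sup_of_normal _ _ hK.subgroupOf
  rw [← subgroupOf_sup hNB hKB] at h1
  exact IsSubnormal.trans (sup_le hNB hKB) h1 hB

/-- the normal closure series of `A` in `G` -/
def ncs (A : Subgroup G) : ℕ → Subgroup G
  | 0 => ⊤
  | (i+1) => Subgroup.closure {y | ∃ x ∈ ncs A i, ∃ a ∈ A, y = x * a * x⁻¹}

theorem le_ncs (A : Subgroup G) (i : ℕ) : A ≤ ncs A i := by
  cases i with
  | zero => exact le_top
  | succ i =>
    intro a ha
    exact Subgroup.subset_closure ⟨1, one_mem _, a, ha, by simp⟩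

theorem ncs_succ_le (A : Subgroup G) (i : ℕ) : ncs A (i+1) ≤ ncs A i := by
  change Subgroup.closure _ ≤ _
  rw [Subgroup.closure_le]
  rintro _ ⟨x, hx, a, ha, rfl⟩
  exact mul_mem (mul_mem hx (le_ncs A i ha)) (inv_mem hx)

theorem ncs_le_normalizer_succ (A : Subgroup G) (i : ℕ) :
    ncs A i ≤ normalizer (ncs A (i+1) : Set G) := by
  apply le_normalizer_of_conj_mem'
  intro g hg y hy
  change y ∈ Subgroup.closure _ at hy
  change _ ∈ Subgroup.closure _
  refine conj_mem_closure ?_ hy
  rintro _ ⟨x, hx, a, ha, rfl⟩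
  refine Subgroup.subset_closure ⟨g * x, mul_mem hg hx, a, ha, ?_⟩
  simp [mul_assoc]

theorem le_normalizer_ncs {A K : Subgroup G} (hK : K ≤ normalizer (A : Set G)) (i : ℕ) :
    K ≤ normalizer (ncs A i : Set G) := by
  induction i with
  | zero =>
    change K ≤ normalizer ((⊤ : Subgroup G) : Set G)
    rw [Subgroup.normalizer_eq_top_iff.mpr (inferInstance : (⊤ : Subgroup G).Normal)]
    exact le_top
  | succ i ih =>
    apply le_normalizer_of_conj_mem'
    intro k hk y hy
    change y ∈ Subgroup.closure _ at hy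
    change _ ∈ Subgroup.closure _
    refine conj_mem_closure ?_ hy
    rintro _ ⟨x, hx, a, ha, rfl⟩
    refine Subgroup.subset_closure ⟨k * x * k⁻¹, conj_mem_of_le_normalizer' ih hk hx,
      k * a * k⁻¹, conj_mem_of_le_normalizer' hK hk ha, ?_⟩
    simp [mul_assoc]

theorem ncs_le_chain {A : Subgroup G} {n : ℕ} {f : ℕ → Subgroup G} (hmono : Monotone f)
    (hnorm : ∀ i, ((f i).subgroupOf (f (i + 1))).Normal) (h0 : A ≤ f 0) (hn : f n = ⊤) :
    ∀ j, j ≤ n → ncs A j ≤ f (n - j) := by
  intro j
  induction j with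
  | zero => intro _; simp [hn]
  | succ j ih =>
    intro hj
    have ih' := ih (by omega)
    change Subgroup.closure _ ≤ _
    rw [Subgroup.closure_le]
    rintro _ ⟨x, hx, a, ha, rfl⟩
    have h1 : f (n - (j+1) + 1) ≤ normalizer (f (n - (j+1)) : Set G) :=
      (normal_subgroupOf_iff_le_normalizer (hmono (Nat.le_succ _))).mp (hnorm _)
    have h2 : n - (j+1) + 1 = n - j := by omega
    rw [h2] at h1
    exact conj_mem_of_le_normalizer' h1 (ih' hx) (hmono (Nat.zero_le _) (h0 ha))

theorem ncs_eventually_eq {A : Subgroup G} (hA : A.IsSubnormal) : ∃ n, ncs A n = A := by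
  obtain ⟨n, f, hmono, hnorm, h0, hn⟩ := hA.exists_chain
  refine ⟨n, le_antisymm ?_ (le_ncs A n)⟩
  have := ncs_le_chain hmono hnorm h0.ge hn n le_rfl
  simpa [h0] using this

/-- If `A` and `K` are subnormal and `K` normalizes `A`, then `A ⊔ K` is subnormal. -/
theorem isSubnormal_sup_of_le_normalizer' {A K : Subgroup G} (hA : A.IsSubnormal)
    (hK : K.IsSubnormal) (hKA : K ≤ normalizer (A : Set G)) : (A ⊔ K).IsSubnormal := by
  obtain ⟨n, hn⟩ := ncs_eventually_eq hA
  have key : ∀ j, (ncs A j ⊔ K).IsSubnormal := by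
    intro j
    induction j with
    | zero =>
      change ((⊤ : Subgroup G) ⊔ K).IsSubnormal
      rw [top_sup_eq]; exact IsSubnormal.top
    | succ j ih =>
      refine isSubnormal_sup_of_le_normalizer hK ih ((ncs_succ_le A j).trans le_sup_left)
        le_sup_right (sup_le (ncs_le_normalizer_succ A j) (le_normalizer_ncs hKA (j+1)))
  rw [← hn]
  exact key n

theorem isSubnormal_finset_sup {ι : Type*}
    (hbin : ∀ A B : Subgroup G, A.IsSubnormal → B.IsSubnormal → (A ⊔ B).IsSubnormal)
    (s : Finset ι) (H : ι → Subgroup G) (hH : ∀ i ∈ s, (H i).IsSubnormal) :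
    (s.sup H).IsSubnormal :=
  Finset.sup_induction IsSubnormal.bot (fun a ha b hb => hbin a b ha hb) hH

end

theorem isSubnormal_sup_aux (n : ℕ) : ∀ (G : Type u) [Group G] [Finite G], Nat.card G = n →
    ∀ A B : Subgroup G, A.IsSubnormal → B.IsSubnormal → (A ⊔ B).IsSubnormal := by
  induction n using Nat.strong_induction_on with
  | _ n ih =>
    intro G _ _ hn A B hA hB
    classical
    by_cases hAtop : A = ⊤
    · rw [hAtop, top_sup_eq]; exact IsSubnormal.top
    obtain ⟨M, hMn, hAM, hMtop⟩ := hA.exists_normal_and_le_and_lt_top_of_ne hAtop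
    have hcard : Nat.card M < n := by
      rw [← hn]
      by_contra hcon
      exact hMtop.ne (Subgroup.eq_top_of_le_card M (not_lt.mp hcon))
    have hbinM := ih (Nat.card M) hcard ↥M rfl
    have : Fintype ↥B := Fintype.ofFinite _
    -- the B-conjugates of A
    let C : ↥B → Subgroup G := fun k => A.map (MulAut.conj (k : G)).toMonoidHom
    have hCM : ∀ k, C k ≤ M := by
      rintro k _ ⟨a, ha, rfl⟩
      exact hMn.conj_mem a (hAM ha) k
    have hCsub : ∀ k, (C k).IsSubnormal := fun k => hA.map (MulAut.conj (k : G)).surjective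
    have hJ' : (Finset.univ.sup (fun k : ↥B => (C k).subgroupOf M)).IsSubnormal :=
      isSubnormal_finset_sup hbinM _ _ (fun k _ => (hCsub k).subgroupOf)
    have hJ := hJ'.trans' hMn.isSubnormal
    rw [Finset.sup_univ_eq_iSup, Subgroup.map_iSup] at hJ
    have hJeq : (⨆ k : ↥B, ((C k).subgroupOf M).map M.subtype) = ⨆ k : ↥B, C k := by
      congr 1
      funext k
      exact map_subgroupOf_eq_of_le (hCM k)
    rw [hJeq] at hJ
    set J := ⨆ k : ↥B, C k with hJdef
    have hAJ : A ≤ J := by
      refine le_trans ?_ (le_iSup C ⟨1, one_mem B⟩)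
      intro a ha
      exact ⟨a, ha, by simp⟩
    have hJAB : J ≤ A ⊔ B := by
      apply iSup_le
      rintro ⟨k, hk⟩ _ ⟨a, ha, rfl⟩
      have hk' : k ∈ A ⊔ B := (le_sup_right : B ≤ A ⊔ B) hk
      have ha' : a ∈ A ⊔ B := (le_sup_left : A ≤ A ⊔ B) ha
      exact mul_mem (mul_mem hk' ha') (inv_mem hk')
    have hBJ : B ≤ normalizer (J : Set G) := by
      apply le_normalizer_of_conj_mem'
      intro b hb x hx
      refine Subgroup.iSup_induction C (C := fun x => b * x * b⁻¹ ∈ J) hx ?_ ?_ ?_
      · rintro ⟨k, hk⟩ _ ⟨a, ha, rfl⟩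
        refine (le_iSup C ⟨b * k, mul_mem hb hk⟩) ⟨a, ha, ?_⟩
        simp [mul_assoc]
      · simp
      · intro x y hx hy
        have : b * (x * y) * b⁻¹ = (b * x * b⁻¹) * (b * y * b⁻¹) := by group
        rw [this]
        exact mul_mem hx hy
    have hfinal := isSubnormal_sup_of_le_normalizer' hJ hB hBJ
    have : J ⊔ B = A ⊔ B :=
      le_antisymm (sup_le hJAB le_sup_right) (sup_le (hAJ.trans le_sup_left) le_sup_right)
    rwa [this] at hfinal

/-- **Wielandt's join theorem**: in a finite group, the join of two subnormal subgroups is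
subnormal. -/
theorem isSubnormal_sup {G : Type*} [Group G] [Finite G] {A B : Subgroup G}
    (hA : A.IsSubnormal) (hB : B.IsSubnormal) : (A ⊔ B).IsSubnormal :=
  isSubnormal_sup_aux _ G rfl A B hA hB

theorem isSubnormal_iSup {G : Type*} [Group G] [Finite G] {ι : Type*} [Finite ι]
    (H : ι → Subgroup G) (hH : ∀ i, (H i).IsSubnormal) : (⨆ i, H i).IsSubnormal := by
  classical
  have : Fintype ι := Fintype.ofFinite _
  rw [← Finset.sup_univ_eq_iSup]
  exact isSubnormal_finset_sup (fun A B hA hB => isSubnormal_sup hA hB) _ _ (fun i _ => hH i)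

theorem isSubnormal_sSup {G : Type*} [Group G] [Finite G] (S : Set (Subgroup G))
    (hS : ∀ H ∈ S, H.IsSubnormal) : (sSup S).IsSubnormal := by
  rw [sSup_eq_iSup']
  exact isSubnormal_iSup _ (fun i => hS i.1 i.2)

end Cfsg.Agent.Lib.Helper20
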