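import Mathlib

set_option autoImplicit false

open scoped commutatorElement

namespace Cfsg.Agent.Lib.Helper20.Hup

universe u

section Norm
variable {G : Type*} [Group G]

/-- Collection formula: if `g⁻¹ m g = m m₁`, `g⁻¹ m₁ g = m₁ m₂`, `g⁻¹ m₂ g = m₂` with `m, m₁, m₂`
pairwise commuting, then `(g m)^n = g^n m^n m₁^(n choose 2) m₂^(n choose 3)`. -/
theorem norm_formula (g m m₁ m₂ : G)
    (h1 : g⁻¹ * m * g = m * m₁) (h2 : g⁻¹ * m₁ * g = m₁ * m₂) (h3 : g⁻¹ * m₂ * g = m₂)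
    (c01 : Commute m m₁) (c02 : Commute m m₂) (c12 : Commute m₁ m₂) (n : ℕ) :
    (g * m) ^ n = g ^ n * (m ^ n * m₁ ^ (n.choose 2) * m₂ ^ (n.choose 3)) := by
  induction n with
  | zero => simp
  | succ n ih =>
    have hconj : ∀ x : G, ∀ k : ℕ, g⁻¹ * x ^ k * g = (g⁻¹ * x * g) ^ k := by
      intro x k
      have := map_pow (MulAut.conj g⁻¹) x k
      simpa [MulAut.conj_apply] using this
    have e1 : g⁻¹ * (m ^ n * m₁ ^ (n.choose 2) * m₂ ^ (n.choose 3)) * g
        = (m * m₁) ^ n * (m₁ * m₂) ^ (n.choose 2) * m₂ ^ (n.choose 3) := by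
      have : g⁻¹ * (m ^ n * m₁ ^ (n.choose 2) * m₂ ^ (n.choose 3)) * g
          = (g⁻¹ * m ^ n * g) * (g⁻¹ * m₁ ^ (n.choose 2) * g) * (g⁻¹ * m₂ ^ (n.choose 3) * g) := by
        group
      rw [this, hconj, hconj, hconj, h1, h2, h3]
    have e2 : (m * m₁) ^ n * (m₁ * m₂) ^ (n.choose 2) * m₂ ^ (n.choose 3) * m
        = m ^ (n + 1) * m₁ ^ ((n + 1).choose 2) * m₂ ^ ((n + 1).choose 3) := by
      rw [c01.mul_pow, c12.mul_pow]
      have hc2 : (n + 1).choose 2 = n + n.choose 2 := by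
        rw [Nat.choose_succ_succ' n 1, Nat.choose_one_right]
      have hc3 : (n + 1).choose 3 = n.choose 2 + n.choose 3 := by
        rw [Nat.choose_succ_succ' n 2]
      rw [hc2, hc3, pow_succ m n, pow_add m₁, pow_add m₂]
      -- commutative rearrangement
      have cm1 : ∀ a b : ℕ, Commute (m ^ a) (m₁ ^ b) := fun a b => c01.pow_pow a b
      have cm2 : ∀ a b : ℕ, Commute (m ^ a) (m₂ ^ b) := fun a b => c02.pow_pow a b
      have c12' : ∀ a b : ℕ, Commute (m₁ ^ a) (m₂ ^ b) := fun a b => c12.pow_pow a b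
      have cmm1 : ∀ b : ℕ, Commute m (m₁ ^ b) := fun b => c01.pow_right b
      have cmm2 : ∀ b : ℕ, Commute m (m₂ ^ b) := fun b => c02.pow_right b
      have s1 : m₂ ^ n.choose 3 * m = m * m₂ ^ n.choose 3 := (cmm2 _).eq.symm
      have s2 : m₂ ^ n.choose 2 * m = m * m₂ ^ n.choose 2 := (cmm2 _).eq.symm
      have s3 : m₁ ^ n.choose 2 * m = m * m₁ ^ n.choose 2 := (cmm1 _).eq.symm
      have s4 : m₁ ^ n * m = m * m₁ ^ n := (cmm1 _).eq.symm
      calc m ^ n * m₁ ^ n * (m₁ ^ n.choose 2 * m₂ ^ n.choose 2) * m₂ ^ n.choose 3 * m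
          = m ^ n * m₁ ^ n * (m₁ ^ n.choose 2 * m₂ ^ n.choose 2) * (m₂ ^ n.choose 3 * m) := by
            simp only [mul_assoc]
        _ = m ^ n * m₁ ^ n * (m₁ ^ n.choose 2 * (m₂ ^ n.choose 2 * m)) * m₂ ^ n.choose 3 := by
            rw [s1]; simp only [mul_assoc]
        _ = m ^ n * m₁ ^ n * ((m₁ ^ n.choose 2 * m) * m₂ ^ n.choose 2) * m₂ ^ n.choose 3 := by
            rw [s2]; simp only [mul_assoc]
        _ = m ^ n * ((m₁ ^ n * m) * m₁ ^ n.choose 2 * m₂ ^ n.choose 2) * m₂ ^ n.choose 3 := by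
            rw [s3]; simp only [mul_assoc]
        _ = m ^ n * m * (m₁ ^ n * m₁ ^ n.choose 2) * (m₂ ^ n.choose 2 * m₂ ^ n.choose 3) := by
            rw [s4]; simp only [mul_assoc]
    calc (g * m) ^ (n + 1) = (g * m) ^ n * (g * m) := pow_succ _ _
      _ = g ^ n * (m ^ n * m₁ ^ (n.choose 2) * m₂ ^ (n.choose 3)) * (g * m) := by rw [ih]
      _ = g ^ (n + 1) * ((g⁻¹ * (m ^ n * m₁ ^ (n.choose 2) * m₂ ^ (n.choose 3)) * g) * m) := by
          rw [pow_succ g n]; group
      _ = _ := by rw [e1, e2]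

/-- In a group whose commutators are central of order dividing the odd prime `p`, the `p`-th
power map is multiplicative. -/
theorem pow_mul_of_class_two (p : ℕ) [hp : Fact p.Prime] (hp2 : p ≠ 2)
    (hc : ∀ a b : G, ⁅a, b⁆ ∈ Subgroup.center G) (he : ∀ a b : G, ⁅a, b⁆ ^ p = 1) (a b : G) :
    (a * b) ^ p = a ^ p * b ^ p := by
  set m₁ : G := ⁅b⁻¹, a⁻¹⁆ with hm₁
  have hm₁c : m₁ ∈ Subgroup.center G := hc _ _
  have h1 : a⁻¹ * b * a = b * m₁ := by
    rw [hm₁, commutatorElement_def]; group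
  have hcomm : ∀ x : G, Commute x m₁ := fun x => by
    have := Subgroup.mem_center_iff.mp hm₁c x
    exact this
  have h2 : a⁻¹ * m₁ * a = m₁ * 1 := by
    rw [mul_one, (hcomm a⁻¹).eq]; group
  have h3 : a⁻¹ * (1 : G) * a = 1 := by group
  have := norm_formula a b m₁ 1 h1 h2 h3 (hcomm b) (Commute.one_right b) (Commute.one_right m₁) p
  rw [this, one_pow, mul_one]
  have hdvd : p ∣ p.choose 2 := by
    apply hp.out.dvd_choose_self (by norm_num)
    have := hp.out.two_le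
    omega
  obtain ⟨k, hk⟩ := hdvd
  have : m₁ ^ p.choose 2 = 1 := by
    rw [hk, pow_mul, he, one_pow]
  rw [this, mul_one]

end Norm

section Small
variable {G : Type*} [Group G] [Finite G]

/-- A group of order `p^j` with `j ≤ 2` is commutative. -/
theorem comm_of_card_pow_le_two (p : ℕ) [hp : Fact p.Prime] (j : ℕ) (hj : j ≤ 2)
    (hcard : Nat.card G = p ^ j) (a b : G) : a * b = b * a := by
  interval_cases j
  · rw [pow_zero] at hcard
    have : Subsingleton G := (Nat.card_eq_one_iff_unique.mp hcard).1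
    rw [Subsingleton.elim a 1, Subsingleton.elim b 1]
  · rw [pow_one] at hcard
    have : IsCyclic G := isCyclic_of_prime_card hcard
    exact (isMulCommutative_iff.mp IsCyclic.isMulCommutative) a b
  · exact (isMulCommutative_iff.mp (IsPGroup.isMulCommutative_of_card_eq_prime_sq hcard)) a b

end Small

end Cfsg.Agent.Lib.Helper20.Hup
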