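import Mathlib
import Cfsg.Agent.Lib.Helper20.HupA

set_option autoImplicit false

open scoped commutatorElement

namespace Cfsg.Agent.Lib.Helper20.Hup

universe u

section Center
variable {G : Type*} [Group G] [Finite G]

theorem card_center_pow (p : ℕ) [hp : Fact p.Prime] {n : ℕ} (hG : Nat.card G = p ^ n) (hn : 1 ≤ n) :
    ∃ c, 1 ≤ c ∧ c ≤ n ∧ Nat.card (Subgroup.center G) = p ^ c ∧
      Nat.card (G ⧸ Subgroup.center G) = p ^ (n - c) := by
  have hpG : IsPGroup p G := IsPGroup.of_card hG
  have hp1 : 1 < p := hp.out.one_lt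
  have hnt : Nontrivial G := by
    rw [← Finite.one_lt_card_iff_nontrivial, hG]
    exact Nat.one_lt_pow (by omega) hp1
  have hcnt : Nontrivial (Subgroup.center G) := hpG.center_nontrivial
  have hdvd : Nat.card (Subgroup.center G) ∣ p ^ n := hG ▸ Subgroup.card_subgroup_dvd_card _
  obtain ⟨c, hcn, hc⟩ := (Nat.dvd_prime_pow hp.out).mp hdvd
  have hc1 : 1 ≤ c := by
    by_contra hcon
    have : c = 0 := by omega
    rw [this, pow_zero] at hc
    have := Finite.one_lt_card_iff_nontrivial.mpr hcnt
    omega
  refine ⟨c, hc1, hcn, hc, ?_⟩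
  have hmul := Subgroup.card_eq_card_quotient_mul_card_subgroup (Subgroup.center G)
  rw [hG, hc] at hmul
  have hpc : 0 < p ^ c := pow_pos (by omega) c
  have : p ^ n = p ^ (n - c) * p ^ c := by rw [← pow_add]; congr 1; omega
  rw [this] at hmul
  exact (Nat.eq_of_mul_eq_mul_right hpc hmul).symm

/-- In a group of order `p^n`, `n ≤ 3`, commutators are central. -/
theorem comm_mem_center (p : ℕ) [hp : Fact p.Prime] {n : ℕ} (hG : Nat.card G = p ^ n) (hn : n ≤ 3)
    (a b : G) : ⁅a, b⁆ ∈ Subgroup.center G := by
  rcases Nat.eq_zero_or_pos n with h0 | hpos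
  · rw [h0, pow_zero] at hG
    have : Subsingleton G := (Nat.card_eq_one_iff_unique.mp hG).1
    rw [Subsingleton.elim ⁅a, b⁆ 1]; exact one_mem _
  · obtain ⟨c, hc1, hcn, hc, hq⟩ := card_center_pow p hG hpos
    have hcomm := comm_of_card_pow_le_two (G := G ⧸ Subgroup.center G) p (n - c) (by omega) hq
    have h := hcomm (QuotientGroup.mk a) (QuotientGroup.mk b)
    have h1 : (QuotientGroup.mk ⁅a, b⁆ : G ⧸ Subgroup.center G) = 1 := by
      rw [commutatorElement_def]
      simp only [QuotientGroup.mk_mul, QuotientGroup.mk_inv]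
      rw [h]; group
    exact (QuotientGroup.eq_one_iff _).mp h1

/-- In a group of order `p^4`, double commutators are central. -/
theorem comm_comm_mem_center (p : ℕ) [hp : Fact p.Prime] (hG : Nat.card G = p ^ 4)
    (a b g : G) : ⁅⁅a, b⁆, g⁆ ∈ Subgroup.center G := by
  obtain ⟨c, hc1, hcn, hc, hq⟩ := card_center_pow p hG (by norm_num)
  have h := comm_mem_center (G := G ⧸ Subgroup.center G) p hq (by omega)
    (QuotientGroup.mk a) (QuotientGroup.mk b)
  have h2 := Subgroup.mem_center_iff.mp h (QuotientGroup.mk g)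
  have h1 : (QuotientGroup.mk ⁅⁅a, b⁆, g⁆ : G ⧸ Subgroup.center G) = 1 := by
    have e : (QuotientGroup.mk ⁅⁅a, b⁆, g⁆ : G ⧸ Subgroup.center G)
        = ⁅⁅(QuotientGroup.mk a : G ⧸ Subgroup.center G), (QuotientGroup.mk b : G ⧸ Subgroup.center G)⁆,
            (QuotientGroup.mk g : G ⧸ Subgroup.center G)⁆ := by
      simp only [commutatorElement_def, QuotientGroup.mk_mul, QuotientGroup.mk_inv]
    rw [e, commutatorElement_def ⁅_, _⁆, ← h2]; group
  exact (QuotientGroup.eq_one_iff _).mp h1

/-- A group of order `p^3` (p odd) generated by elements of order dividing `p` has exponent `p`. -/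
theorem exp_p_of_card_cube (p : ℕ) [hp : Fact p.Prime] (hp2 : p ≠ 2) (hG : Nat.card G = p ^ 3)
    (hgen : Subgroup.closure {q : G | q ^ p = 1} = ⊤) (q : G) : q ^ p = 1 := by
  have hc : ∀ a b : G, ⁅a, b⁆ ∈ Subgroup.center G := comm_mem_center p hG le_rfl
  obtain ⟨c, hc1, hcn, hcard, hq⟩ := card_center_pow p hG (by norm_num)
  have he : ∀ a b : G, ⁅a, b⁆ ^ p = 1 := by
    intro a b
    rcases Nat.lt_or_ge c 2 with hlt | hge
    · have hc' : c = 1 := by omega
      rw [hc', pow_one] at hcard
      have := pow_card_eq_one' (G := Subgroup.center G) (x := ⟨⁅a, b⁆, hc a b⟩)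
      rw [hcard] at this
      have h2 := congrArg Subtype.val this
      simpa using h2
    · -- quotient by the centre cyclic, so commutative
      have hq' : Nat.card (G ⧸ Subgroup.center G) = p ^ (3 - c) := hq
      have hcyc : IsCyclic (G ⧸ Subgroup.center G) := by
        rcases Nat.lt_or_ge c 3 with h3 | h3
        · have : 3 - c = 1 := by omega
          rw [this, pow_one] at hq'
          exact isCyclic_of_prime_card hq'
        · have : 3 - c = 0 := by omega
          rw [this, pow_zero] at hq'
          have : Subsingleton (G ⧸ Subgroup.center G) := (Nat.card_eq_one_iff_unique.mp hq').1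
          infer_instance
      have hcomm := isMulCommutative_iff.mp
        (MonoidHom.isMulCommutative_of_isCyclic_of_ker_le_center (QuotientGroup.mk' (Subgroup.center G))
        (by rw [QuotientGroup.ker_mk']))
      rw [commutatorElement_def, hcomm a b]; group
  let ψ : G →* G :=
    { toFun := fun x => x ^ p
      map_one' := one_pow p
      map_mul' := pow_mul_of_class_two p hp2 hc he }
  have hle : Subgroup.closure {q : G | q ^ p = 1} ≤ ψ.ker := by
    rw [Subgroup.closure_le]
    intro x hx
    exact hx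
  rw [hgen] at hle
  exact hle (Subgroup.mem_top q)

end Center

end Cfsg.Agent.Lib.Helper20.Hup
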