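import Mathlib
import Cfsg.Agent.Lib.Helper20.HupB

set_option autoImplicit false

open scoped commutatorElement

namespace Cfsg.Agent.Lib.Helper20.Hup

universe u

section Four
variable {G : Type*} [Group G] [Finite G]

theorem card_ker_mul_card_range {H : Type*} [Group H] (f : G →* H) :
    Nat.card f.ker * Nat.card f.range = Nat.card G := by
  rw [Subgroup.card_eq_card_quotient_mul_card_subgroup f.ker,
    Nat.card_congr (QuotientGroup.quotientKerEquivRange f).toEquiv, mul_comm]

/-- A group of order `p^3` whose centre has at least `p^2` elements is commutative. -/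
theorem comm_of_card_cube_of_center (p : ℕ) [hp : Fact p.Prime] (hG : Nat.card G = p ^ 3)
    (hc : p ^ 2 ≤ Nat.card (Subgroup.center G)) (a b : G) : a * b = b * a := by
  obtain ⟨c, hc1, hcn, hcard, hq⟩ := card_center_pow p hG (by norm_num)
  have hp1 : 1 < p := hp.out.one_lt
  have hc2 : 2 ≤ c := by
    rw [hcard] at hc
    exact (Nat.pow_le_pow_iff_right hp1).mp hc
  have hcyc : IsCyclic (G ⧸ Subgroup.center G) := by
    rcases Nat.lt_or_ge c 3 with h3 | h3
    · have : 3 - c = 1 := by omega
      rw [this, pow_one] at hq
      exact isCyclic_of_prime_card hq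
    · have : 3 - c = 0 := by omega
      rw [this, pow_zero] at hq
      have : Subsingleton (G ⧸ Subgroup.center G) := (Nat.card_eq_one_iff_unique.mp hq).1
      infer_instance
  exact isMulCommutative_iff.mp
    (MonoidHom.isMulCommutative_of_isCyclic_of_ker_le_center (QuotientGroup.mk' (Subgroup.center G))
    (by rw [QuotientGroup.ker_mk'])) a b

/-- A subgroup `M` of order `p^3` containing a subgroup `B` of order at least `p^2` all of whose
elements commute with all of `M` is commutative. -/
theorem comm_of_central_sub (p : ℕ) [hp : Fact p.Prime] (M B : Subgroup G) (hM : Nat.card M = p ^ 3)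
    (hBM : B ≤ M) (hB : p ^ 2 ≤ Nat.card B) (hcomm : ∀ x ∈ B, ∀ m ∈ M, x * m = m * x) :
    ∀ a ∈ M, ∀ b ∈ M, a * b = b * a := by
  have hle : B.subgroupOf M ≤ Subgroup.center M := by
    intro x hx
    rw [Subgroup.mem_center_iff]
    intro m
    apply Subtype.ext
    have := hcomm x.1 hx m.1 m.2
    simp only [Subgroup.coe_mul]
    exact this.symm
  have hcard : p ^ 2 ≤ Nat.card (Subgroup.center M) := by
    calc p ^ 2 ≤ Nat.card B := hB
      _ = Nat.card (B.subgroupOf M) := (Nat.card_congr (Subgroup.subgroupOfEquivOfLe hBM).toEquiv).symm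
      _ ≤ Nat.card (Subgroup.center M) := Subgroup.card_le_of_le hle
  intro a ha b hb
  have := comm_of_card_cube_of_center (G := M) p hM hcard ⟨a, ha⟩ ⟨b, hb⟩
  exact congrArg Subtype.val this

/-- A group of order `p^4` has an abelian subgroup of order `p^3`. -/
theorem exists_abelian_cube (p : ℕ) [hp : Fact p.Prime] (hG : Nat.card G = p ^ 4) :
    ∃ M : Subgroup G, Nat.card M = p ^ 3 ∧ ∀ a ∈ M, ∀ b ∈ M, a * b = b * a := by
  have hp1 : 1 < p := hp.out.one_lt
  have hpG : IsPGroup p G := IsPGroup.of_card hG
  obtain ⟨c, hc1, hcn, hcard, hq⟩ := card_center_pow p hG (by norm_num)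
  rcases Nat.lt_or_ge c 2 with hlt | hge
  · -- centre of order p
    have hc' : c = 1 := by omega
    rw [hc'] at hq hcard
    rw [pow_one] at hcard
    have hq3 : Nat.card (G ⧸ Subgroup.center G) = p ^ 3 := by simpa using hq
    have hpQ : IsPGroup p (G ⧸ Subgroup.center G) := IsPGroup.of_card hq3
    have hntQ : Nontrivial (G ⧸ Subgroup.center G) := by
      rw [← Finite.one_lt_card_iff_nontrivial, hq3]
      exact Nat.one_lt_pow (by norm_num) hp1
    have hcQ : Nontrivial (Subgroup.center (G ⧸ Subgroup.center G)) := hpQ.center_nontrivial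
    obtain ⟨⟨xbar, hxbar⟩, hne⟩ := exists_ne (1 : Subgroup.center (G ⧸ Subgroup.center G))
    obtain ⟨x, rfl⟩ := QuotientGroup.mk_surjective xbar
    have hxnc : x ∉ Subgroup.center G := by
      intro hx
      apply hne
      apply Subtype.ext
      exact (QuotientGroup.eq_one_iff x).mpr hx
    have hκmem : ∀ g : G, g * x * g⁻¹ * x⁻¹ ∈ Subgroup.center G := by
      intro g
      rw [← QuotientGroup.eq_one_iff]
      simp only [QuotientGroup.mk_mul, QuotientGroup.mk_inv]
      have := Subgroup.mem_center_iff.mp hxbar (QuotientGroup.mk g)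
      rw [this]; group
    let κ : G →* Subgroup.center G :=
      { toFun := fun g => ⟨g * x * g⁻¹ * x⁻¹, hκmem g⟩
        map_one' := by apply Subtype.ext; simp
        map_mul' := by
          intro g h
          apply Subtype.ext
          simp only [Subgroup.coe_mul]
          have hc := Subgroup.mem_center_iff.mp (hκmem h) g
          have hc2 := Subgroup.mem_center_iff.mp (hκmem h) (g * x * g⁻¹ * x⁻¹)
          calc g * h * x * (g * h)⁻¹ * x⁻¹ = g * (h * x * h⁻¹ * x⁻¹) * x * g⁻¹ * x⁻¹ := by group
            _ = (h * x * h⁻¹ * x⁻¹) * g * x * g⁻¹ * x⁻¹ := by rw [hc]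
            _ = (h * x * h⁻¹ * x⁻¹) * (g * x * g⁻¹ * x⁻¹) := by group
            _ = (g * x * g⁻¹ * x⁻¹) * (h * x * h⁻¹ * x⁻¹) := by rw [hc2] }
    have hκker : ∀ g : G, g ∈ κ.ker ↔ g * x = x * g := by
      intro g
      rw [MonoidHom.mem_ker]
      constructor
      · intro h
        have := congrArg Subtype.val h
        simp only [κ, MonoidHom.coe_mk, OneHom.coe_mk, Subgroup.coe_one] at this
        calc g * x = (g * x * g⁻¹ * x⁻¹) * x * g := by group
          _ = x * g := by rw [this, one_mul]
      · intro h
        apply Subtype.ext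
        simp only [κ, MonoidHom.coe_mk, OneHom.coe_mk, Subgroup.coe_one]
        rw [h]; group
    have hmul := card_ker_mul_card_range κ
    have hrdvd : Nat.card κ.range ∣ p := by
      have := Subgroup.card_subgroup_dvd_card κ.range
      rwa [hcard] at this
    have hrne : Nat.card κ.range ≠ 1 := by
      intro h1
      have hbot : κ.range = ⊥ := Subgroup.card_eq_one.mp h1
      apply hxnc
      rw [Subgroup.mem_center_iff]
      intro g
      have hg : κ g ∈ κ.range := ⟨g, rfl⟩
      rw [hbot, Subgroup.mem_bot] at hg
      exact ((hκker g).mp ((MonoidHom.mem_ker).mpr hg))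
    have hrp : Nat.card κ.range = p := by
      rcases (Nat.dvd_prime hp.out).mp hrdvd with h | h
      · exact absurd h hrne
      · exact h
    have hkcard : Nat.card κ.ker = p ^ 3 := by
      rw [hrp, hG] at hmul
      have hp0 : 0 < p := by omega
      have : p ^ 4 = p ^ 3 * p := by ring
      rw [this] at hmul
      exact Nat.eq_of_mul_eq_mul_right hp0 hmul
    refine ⟨κ.ker, hkcard, ?_⟩
    -- B = centre ⊔ ⟨x⟩
    set B : Subgroup G := Subgroup.center G ⊔ Subgroup.zpowers x with hB
    have hxker : x ∈ κ.ker := (hκker x).mpr rfl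
    have hcker : Subgroup.center G ≤ κ.ker := by
      intro w hw
      exact (hκker w).mpr ((Subgroup.mem_center_iff.mp hw x).symm)
    have hBM : B ≤ κ.ker := sup_le hcker ((Subgroup.zpowers_le).mpr hxker)
    have hBcomm : ∀ y ∈ B, ∀ m ∈ κ.ker, y * m = m * y := by
      intro y hy m hm
      have hmx : m * x = x * m := (hκker m).mp hm
      have : B ≤ Subgroup.centralizer {m} := by
        apply sup_le
        · intro w hw
          rw [Subgroup.mem_centralizer_iff]
          intro h hh
          rw [Set.mem_singleton_iff] at hh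
          rw [hh]
          exact (Subgroup.mem_center_iff.mp hw m)
        · rw [Subgroup.zpowers_le, Subgroup.mem_centralizer_iff]
          intro h hh
          rw [Set.mem_singleton_iff] at hh
          rw [hh]; exact hmx
      have := Subgroup.mem_centralizer_iff.mp (this hy) m (Set.mem_singleton m)
      exact this.symm
    have hBcard : p ^ 2 ≤ Nat.card B := by
      have hpB : IsPGroup p B := hpG.to_subgroup B
      obtain ⟨j, hj⟩ := hpB.exists_card_eq
      have hlt : Subgroup.center G < B := by
        refine lt_of_le_of_ne le_sup_left ?_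
        intro heq
        apply hxnc
        rw [heq]
        exact (le_sup_right : Subgroup.zpowers x ≤ B) (Subgroup.mem_zpowers x)
      have hcl : Nat.card (Subgroup.center G) < Nat.card B := by
        have hle := Subgroup.card_le_of_le hlt.le
        rcases Nat.lt_or_ge (Nat.card (Subgroup.center G)) (Nat.card B) with h | h
        · exact h
        · exact absurd (Subgroup.eq_of_le_of_card_ge hlt.le h) hlt.ne
      rw [hcard, hj] at hcl
      rw [hj]
      have : 1 < j := by
        by_contra hcon
        have hj1 : j ≤ 1 := by omega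
        have : p ^ j ≤ p ^ 1 := Nat.pow_le_pow_right (by omega) hj1
        rw [pow_one] at this
        omega
      exact Nat.pow_le_pow_right (by omega) this
    exact comm_of_central_sub p κ.ker B hkcard hBM hBcard hBcomm
  · -- centre of order at least p^2
    have hdvd : p ^ 2 ∣ Nat.card (Subgroup.center G) := by
      rw [hcard]; exact pow_dvd_pow p hge
    obtain ⟨A', hA'⟩ := Sylow.exists_subgroup_card_pow_prime p hdvd
    set A : Subgroup G := A'.map (Subgroup.center G).subtype with hA
    have hAcard : Nat.card A = p ^ 2 := by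
      rw [hA, Subgroup.card_map_of_injective (Subgroup.subtype_injective _), hA']
    have hAc : A ≤ Subgroup.center G := by
      rw [hA]
      intro y hy
      obtain ⟨w, _, rfl⟩ := hy
      exact w.2
    have hdvd3 : p ^ 3 ∣ Nat.card G := by rw [hG]; exact pow_dvd_pow p (by norm_num)
    obtain ⟨M, hMcard, hAM⟩ := Sylow.exists_subgroup_card_pow_prime_le p hdvd3 A hAcard (by norm_num)
    refine ⟨M, hMcard, ?_⟩
    apply comm_of_central_sub p M A hMcard hAM (by rw [hAcard])
    intro y hy m _
    exact (Subgroup.mem_center_iff.mp (hAc hy) m).symm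

end Four

end Cfsg.Agent.Lib.Helper20.Hup
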