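import Mathlib
import Cfsg.Agent.Lib.Helper20.HupC

set_option autoImplicit false

open scoped commutatorElement

namespace Cfsg.Agent.Lib.Helper20.Hup

universe u

section Final
variable {G : Type*} [Group G] [Finite G]

/-- The order-`p^4` configuration is impossible: if `|G| = p^4`, `p ≥ 5`, all `p`-th powers lie in a
central subgroup `⟨z⟩` of order `p`, then the elements with `x^p = 1` cannot all lie in a subgroup
of order at most `p^2`. -/
theorem final_four (p : ℕ) [hp : Fact p.Prime] (hp3 : 3 < p) (hG : Nat.card G = p ^ 4) (z : G)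
    (hz : z ∈ Subgroup.center G) (hzo : orderOf z = p)
    (hpow : ∀ r : G, r ^ p ∈ Subgroup.zpowers z) (E : Subgroup G) (hE : Nat.card E ≤ p ^ 2)
    (hTE : ∀ x : G, x ^ p = 1 → x ∈ E) : False := by
  have hp1 : 1 < p := hp.out.one_lt
  have hp0 : 0 < p := by omega
  obtain ⟨M, hMcard, hMcomm⟩ := exists_abelian_cube p hG
  -- M is normal
  have hMidx : M.index = p := by
    have h := Subgroup.card_mul_index M
    rw [hMcard, hG] at h
    have : p ^ 4 = p ^ 3 * p := by ring
    rw [this] at h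
    exact Nat.eq_of_mul_eq_mul_left (pow_pos hp0 3) h
  have hMn : M.Normal := by
    apply Subgroup.normal_of_index_eq_minFac_card
    rw [hMidx, hG, Nat.pow_minFac (by norm_num), Nat.Prime.minFac_eq hp.out]
  -- the power map on M
  have hZcard : Nat.card (Subgroup.zpowers z) = p := by rw [Nat.card_zpowers, hzo]
  let ψ : M →* Subgroup.zpowers z :=
    { toFun := fun m => ⟨(m : G) ^ p, hpow m⟩
      map_one' := by apply Subtype.ext; simp
      map_mul' := by
        intro a b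
        apply Subtype.ext
        simp only [Subgroup.coe_mul]
        exact (show Commute (a : G) (b : G) from hMcomm a a.2 b b.2).mul_pow p }
  have hker : ∀ m : M, m ∈ ψ.ker ↔ (m : G) ^ p = 1 := by
    intro m
    rw [MonoidHom.mem_ker]
    constructor
    · intro h; exact congrArg Subtype.val h
    · intro h; apply Subtype.ext; exact h
  set K : Subgroup G := ψ.ker.map M.subtype with hK
  have hKE : K ≤ E := by
    intro y hy
    obtain ⟨m, hm, rfl⟩ := hy
    exact hTE _ ((hker m).mp hm)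
  have hKcard : Nat.card K = Nat.card ψ.ker :=
    Subgroup.card_map_of_injective (Subgroup.subtype_injective _)
  have hmul := card_ker_mul_card_range ψ
  rw [hMcard] at hmul
  have hrle : Nat.card ψ.range ≤ p := by
    have := Subgroup.card_le_card_group (H := ψ.range)
    rwa [hZcard] at this
  have hkle : Nat.card ψ.ker ≤ p ^ 2 := by
    rw [← hKcard]; exact (Subgroup.card_le_of_le hKE).trans hE
  have hkeq : Nat.card ψ.ker = p ^ 2 ∧ Nat.card ψ.range = p := by
    have h1 : p ^ 3 ≤ p ^ 2 * Nat.card ψ.range := by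
      rw [← hmul]; exact Nat.mul_le_mul_right _ hkle
    have h2 : p ^ 2 * Nat.card ψ.range ≤ p ^ 2 * p := Nat.mul_le_mul_left _ hrle
    have h3 : p ^ 3 = p ^ 2 * p := by ring
    have hr : Nat.card ψ.range = p := by
      have : p ^ 2 * p ≤ p ^ 2 * Nat.card ψ.range := by rw [← h3]; exact h1
      exact le_antisymm hrle (Nat.le_of_mul_le_mul_left this (pow_pos hp0 2))
    refine ⟨?_, hr⟩
    rw [hr, h3] at hmul
    exact Nat.eq_of_mul_eq_mul_right hp0 hmul
  have hKeqE : K = E := by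
    apply Subgroup.eq_of_le_of_card_ge hKE
    rw [hKcard, hkeq.1]; exact hE
  have hsurj : ψ.range = ⊤ := by
    apply Subgroup.eq_top_of_card_eq
    rw [hkeq.2, hZcard]
  -- choose g ∉ M
  have hMne : M ≠ ⊤ := by
    intro h
    rw [h, Subgroup.index_top] at hMidx
    omega
  obtain ⟨g, hg⟩ : ∃ g : G, g ∉ M := by
    by_contra hcon
    push Not at hcon
    exact hMne (Subgroup.eq_top_iff' M |>.mpr hcon)
  have hginv : (g ^ p)⁻¹ ∈ Subgroup.zpowers z := inv_mem (hpow g)
  obtain ⟨m₀, hm₀⟩ : ∃ m₀ : M, ψ m₀ = ⟨(g ^ p)⁻¹, hginv⟩ := by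
    have : (⟨(g ^ p)⁻¹, hginv⟩ : Subgroup.zpowers z) ∈ ψ.range := by rw [hsurj]; trivial
    exact this
  have hm₀p : (m₀ : G) ^ p = (g ^ p)⁻¹ := congrArg Subtype.val hm₀
  set m : G := (m₀ : G) with hm
  have hmM : m ∈ M := m₀.2
  set c : G := g⁻¹ * m * g with hc
  have hcM : c ∈ M := by
    have := hMn.conj_mem m hmM g⁻¹
    simpa [hc] using this
  set m₁ : G := m⁻¹ * c with hm₁
  have hm₁M : m₁ ∈ M := mul_mem (inv_mem hmM) hcM
  set c₁ : G := g⁻¹ * m₁ * g with hc₁
  have hc₁M : c₁ ∈ M := by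
    have := hMn.conj_mem m₁ hm₁M g⁻¹
    simpa [hc₁] using this
  set m₂ : G := m₁⁻¹ * c₁ with hm₂
  have hm₂M : m₂ ∈ M := mul_mem (inv_mem hm₁M) hc₁M
  have h1 : g⁻¹ * m * g = m * m₁ := by rw [hm₁, hc]; group
  have h2 : g⁻¹ * m₁ * g = m₁ * m₂ := by rw [hm₂, hc₁]; group
  -- m₂ is central
  have hm₂c : m₂ ∈ Subgroup.center G := by
    have e : m₂ = ⁅⁅g⁻¹, m⁻¹⁆, g⁻¹⁆ := by
      rw [hm₂, hc₁, hm₁, hc]
      simp only [commutatorElement_def]; group
    rw [e]
    exact comm_comm_mem_center p hG _ _ _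
  have h3 : g⁻¹ * m₂ * g = m₂ := by
    have := Subgroup.mem_center_iff.mp hm₂c g⁻¹
    rw [this]; group
  -- p-th powers
  have hconjpow : ∀ x : G, g⁻¹ * x ^ p * g = (g⁻¹ * x * g) ^ p := by
    intro x
    have := map_pow (MulAut.conj g⁻¹) x p
    simpa [MulAut.conj_apply] using this
  have hcentral_pow : ∀ x : G, g⁻¹ * x ^ p * g = x ^ p := by
    intro x
    have hxc : x ^ p ∈ Subgroup.center G := by
      have hle : Subgroup.zpowers z ≤ Subgroup.center G := (Subgroup.zpowers_le).mpr hz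
      exact hle (hpow x)
    have := Subgroup.mem_center_iff.mp hxc g⁻¹
    rw [this]; group
  have hm₁p : m₁ ^ p = 1 := by
    rw [hm₁, (show Commute m⁻¹ c from hMcomm _ (inv_mem hmM) _ hcM).mul_pow, hc, ← hconjpow,
      hcentral_pow, inv_pow, inv_mul_cancel]
  have hm₂p : m₂ ^ p = 1 := by
    rw [hm₂, (show Commute m₁⁻¹ c₁ from hMcomm _ (inv_mem hm₁M) _ hc₁M).mul_pow, hc₁, ← hconjpow,
      hcentral_pow, inv_pow, inv_mul_cancel]
  have hform := norm_formula g m m₁ m₂ h1 h2 h3 (hMcomm _ hmM _ hm₁M) (hMcomm _ hmM _ hm₂M)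
    (hMcomm _ hm₁M _ hm₂M) p
  have hd2 : p ∣ p.choose 2 := hp.out.dvd_choose_self (by norm_num) (by omega)
  have hd3 : p ∣ p.choose 3 := hp.out.dvd_choose_self (by norm_num) (by omega)
  obtain ⟨k2, hk2⟩ := hd2
  obtain ⟨k3, hk3⟩ := hd3
  have e2 : m₁ ^ p.choose 2 = 1 := by rw [hk2, pow_mul, hm₁p, one_pow]
  have e3 : m₂ ^ p.choose 3 = 1 := by rw [hk3, pow_mul, hm₂p, one_pow]
  rw [e2, e3, mul_one, mul_one, hm₀p, mul_inv_cancel] at hform
  have hgmE : g * m ∈ E := hTE _ hform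
  rw [← hKeqE] at hgmE
  have hgmM : g * m ∈ M := by
    obtain ⟨w, _, hw⟩ := hgmE
    rw [← hw]; exact w.2
  apply hg
  have := mul_mem hgmM (inv_mem hmM)
  simpa using this

end Final

end Cfsg.Agent.Lib.Helper20.Hup
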