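import Mathlib
import Cfsg.Agent.Lib.Helper20.HupD

set_option autoImplicit false

open scoped commutatorElement

namespace Cfsg.Agent.Lib.Helper20.Hup

universe u

section Helpers
variable {G : Type*} [Group G]

theorem card_lt_of_ne_top [Finite G] (H : Subgroup G) (h : H ≠ ⊤) : Nat.card H < Nat.card G := by
  rcases Nat.lt_or_ge (Nat.card H) (Nat.card G) with hlt | hge
  · exact hlt
  · exact absurd (Subgroup.eq_top_of_card_eq H (le_antisymm (Subgroup.card_le_card_group H) hge)) h

theorem card_subgroupOf_le [Finite G] (E W : Subgroup G) : Nat.card (E.subgroupOf W) ≤ Nat.card E := by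
  apply Nat.card_le_card_of_injective (fun x : E.subgroupOf W => (⟨x.1.1, x.2⟩ : E))
  intro a b hab
  apply Subtype.ext
  apply Subtype.ext
  have := congrArg Subtype.val hab
  simpa using this

theorem zpowers_normal_of_center (z : G) (hz : z ∈ Subgroup.center G) : (Subgroup.zpowers z).Normal := by
  constructor
  intro n hn g
  have hle : Subgroup.zpowers z ≤ Subgroup.center G := (Subgroup.zpowers_le).mpr hz
  have := Subgroup.mem_center_iff.mp (hle hn) g
  rw [this]
  simpa using hn

theorem pow_eq_one_of_mem_zpowers (p : ℕ) (z x : G) (hzo : orderOf z = p) (hx : x ∈ Subgroup.zpowers z) :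
    x ^ p = 1 := by
  obtain ⟨k, rfl⟩ := hx
  rw [← zpow_natCast, ← zpow_mul, mul_comm, zpow_mul, zpow_natCast, ← hzo, pow_orderOf_eq_one, one_zpow]

/-- In a group of order `p^j`, `j ≤ 3`, commutators lie in every normal subgroup of order `p`. -/
theorem comm_mem_of_card_le_cube [Finite G] (p : ℕ) [hp : Fact p.Prime] (j : ℕ) (hj : j ≤ 3)
    (hG : Nat.card G = p ^ j) (N : Subgroup G) [N.Normal] (hN : Nat.card N = p) (a b : G) :
    ⁅a, b⁆ ∈ N := by
  have hp0 : 0 < p := hp.out.pos
  have hj1 : 1 ≤ j := by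
    by_contra hcon
    have : j = 0 := by omega
    rw [this, pow_zero] at hG
    have := Subgroup.card_le_card_group N
    rw [hN, hG] at this
    have := hp.out.one_lt
    omega
  have hq : Nat.card (G ⧸ N) = p ^ (j - 1) := by
    have hmul := Subgroup.card_eq_card_quotient_mul_card_subgroup N
    rw [hG, hN] at hmul
    have : p ^ j = p ^ (j - 1) * p := by rw [← pow_succ]; congr 1; omega
    rw [this] at hmul
    exact (Nat.eq_of_mul_eq_mul_right hp0 hmul).symm
  have hcomm := comm_of_card_pow_le_two (G := G ⧸ N) p (j - 1) (by omega) hq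
  have h := hcomm (QuotientGroup.mk a) (QuotientGroup.mk b)
  have h1 : (QuotientGroup.mk ⁅a, b⁆ : G ⧸ N) = 1 := by
    rw [commutatorElement_def]
    simp only [QuotientGroup.mk_mul, QuotientGroup.mk_inv]
    rw [h]; group
  exact (QuotientGroup.eq_one_iff _).mp h1

end Helpers

/-- elements whose `p`-th power lies in `⟨z⟩` -/
def Xs {R : Type*} [Group R] (p : ℕ) (z : R) : Set R := {x | x ^ p ∈ Subgroup.zpowers z}

theorem z_mem_Xs {R : Type*} [Group R] (p : ℕ) (z : R) (hzo : orderOf z = p) : z ∈ Xs p z := by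
  show z ^ p ∈ Subgroup.zpowers z
  rw [← hzo, pow_orderOf_eq_one]; exact one_mem _

theorem conj_mem_Xs {R : Type*} [Group R] (p : ℕ) (z : R) (hz : z ∈ Subgroup.center R) (x g : R)
    (hx : x ∈ Xs p z) : g * x * g⁻¹ ∈ Xs p z := by
  show (g * x * g⁻¹) ^ p ∈ Subgroup.zpowers z
  have : (g * x * g⁻¹) ^ p = g * x ^ p * g⁻¹ := by
    have := map_pow (MulAut.conj g) x p
    simpa [MulAut.conj_apply] using this
  rw [this]
  exact (zpowers_normal_of_center z hz).conj_mem _ hx g

end Cfsg.Agent.Lib.Helper20.Hup
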