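import Mathlib
import Cfsg.Agent.Lib.Helper20.HupE

set_option autoImplicit false

open scoped commutatorElement

namespace Cfsg.Agent.Lib.Helper20.Hup

universe u

theorem normal_closure_of_conj_inv {G : Type*} [Group G] (S : Set G)
    (h : ∀ s ∈ S, ∀ g : G, g * s * g⁻¹ ∈ S) : (Subgroup.closure S).Normal := by
  constructor
  intro n hn g
  have hmap : (Subgroup.closure S).map (MulAut.conj g).toMonoidHom ≤ Subgroup.closure S := by
    rw [MonoidHom.map_closure, Subgroup.closure_le]
    rintro _ ⟨s, hs, rfl⟩
    apply Subgroup.subset_closure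
    simpa [MulAut.conj_apply] using h s hs g
  have : (MulAut.conj g).toMonoidHom n ∈ (Subgroup.closure S).map (MulAut.conj g).toMonoidHom :=
    Subgroup.mem_map_of_mem _ hn
  have := hmap this
  simpa [MulAut.conj_apply] using this

set_option maxHeartbeats 800000 in
/-- Key lemma: in a `p`-group (`p ≥ 5`) whose elements of order dividing `p` lie in a subgroup of
order at most `p^2`, the elements whose `p`-th power lies in a central subgroup `⟨z⟩` of order `p`
generate a subgroup of order at most `p^3`. -/
theorem key (p : ℕ) [hp : Fact p.Prime] (hp3 : 3 < p) :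
    ∀ n : ℕ, ∀ (R : Type u) [Group R] [Finite R], Nat.card R = n → IsPGroup p R →
      ∀ E : Subgroup R, Nat.card E ≤ p ^ 2 → (∀ x : R, x ^ p = 1 → x ∈ E) →
      ∀ z : R, z ∈ Subgroup.center R → orderOf z = p →
        Nat.card (Subgroup.closure (Xs p z)) ≤ p ^ 3 := by
  intro n
  induction n using Nat.strong_induction_on with
  | _ n ih =>
  intro R _ _ hn hR E hE hTE z hz hzo
  have hp1 : 1 < p := hp.out.one_lt
  have hp0 : 0 < p := by omega
  have hp2 : p ≠ 2 := by omega
  by_contra hbig
  push Not at hbig
  -- induction hypothesis for subgroups generated by elements of Xs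
  have hsub : ∀ S : Set R, S ⊆ Xs p z → z ∈ Subgroup.closure S → Subgroup.closure S ≠ ⊤ →
      Nat.card (Subgroup.closure S) ≤ p ^ 3 := by
    intro S hS hzS hne
    have hlt : Nat.card (Subgroup.closure S) < n := hn ▸ card_lt_of_ne_top _ hne
    have hzc : (⟨z, hzS⟩ : Subgroup.closure S) ∈ Subgroup.center (Subgroup.closure S) := by
      rw [Subgroup.mem_center_iff]
      intro g
      apply Subtype.ext
      simp only [Subgroup.coe_mul]
      exact Subgroup.mem_center_iff.mp hz g
    have hzo' : orderOf (⟨z, hzS⟩ : Subgroup.closure S) = p := by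
      rw [Subgroup.orderOf_mk]; exact hzo
    have hTE' : ∀ x : Subgroup.closure S, x ^ p = 1 → x ∈ E.subgroupOf (Subgroup.closure S) := by
      intro x hx
      rw [Subgroup.mem_subgroupOf]
      apply hTE
      have := congrArg Subtype.val hx
      simpa using this
    have := ih _ hlt (Subgroup.closure S) rfl (hR.to_subgroup _) (E.subgroupOf _)
      ((card_subgroupOf_le _ _).trans hE) hTE' ⟨z, hzS⟩ hzc hzo'
    have htop : Subgroup.closure (Xs p (⟨z, hzS⟩ : Subgroup.closure S)) = ⊤ := by
      apply top_le_iff.mp
      rw [← Subgroup.closure_closure_coe_preimage (k := S)]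
      apply Subgroup.closure_mono
      intro x hx
      have hxX : (x : R) ^ p ∈ Subgroup.zpowers z := hS hx
      obtain ⟨k, hk⟩ := hxX
      show x ^ p ∈ Subgroup.zpowers _
      refine ⟨k, ?_⟩
      apply Subtype.ext
      simp only [Subgroup.coe_zpow, Subgroup.coe_pow]
      exact hk
    rw [htop, Subgroup.card_top] at this
    exact this
  -- Step 1: Xs generates R
  have htop : Subgroup.closure (Xs p z) = ⊤ := by
    by_contra hne
    have := hsub (Xs p z) subset_rfl (Subgroup.subset_closure (z_mem_Xs p z hzo)) hne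
    omega
  rw [htop, Subgroup.card_top] at hbig
  obtain ⟨k, hk⟩ := hR.exists_card_eq
  have hk4 : 4 ≤ k := by
    rw [hk] at hbig
    have := (Nat.pow_lt_pow_iff_right hp1).mp hbig
    omega
  set Z : Subgroup R := Subgroup.zpowers z with hZ
  have hZn : Z.Normal := zpowers_normal_of_center z hz
  have hZc : Z ≤ Subgroup.center R := (Subgroup.zpowers_le).mpr hz
  have hZcard : Nat.card Z = p := by rw [hZ, Nat.card_zpowers, hzo]
  have hquot : ∀ a b : R, (QuotientGroup.mk a : R ⧸ Z) * QuotientGroup.mk b
      = QuotientGroup.mk b * QuotientGroup.mk a → ⁅a, b⁆ ∈ Z := by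
    intro a b h
    have h1 : (QuotientGroup.mk ⁅a, b⁆ : R ⧸ Z) = 1 := by
      rw [commutatorElement_def]
      simp only [QuotientGroup.mk_mul, QuotientGroup.mk_inv]
      rw [h]; group
    exact (QuotientGroup.eq_one_iff _).mp h1
  by_cases hA : ∀ x ∈ Xs p z, ∀ y ∈ Xs p z, ⁅x, y⁆ ∈ Z
  · -- Case A: R/Z abelian
    set S' : Set (R ⧸ Z) := (QuotientGroup.mk' Z) '' Xs p z with hS'
    have hgenQ : Subgroup.closure S' = ⊤ := by
      rw [hS', ← MonoidHom.map_closure, htop,
        Subgroup.map_top_of_surjective _ (QuotientGroup.mk'_surjective Z)]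
    have hcommgen : ∀ s ∈ S', ∀ t ∈ S', s * t = t * s := by
      rintro _ ⟨x, hx, rfl⟩ _ ⟨y, hy, rfl⟩
      have h := hA x hx y hy
      have h1 : (QuotientGroup.mk ⁅x, y⁆ : R ⧸ Z) = 1 := (QuotientGroup.eq_one_iff _).mpr h
      rw [commutatorElement_def] at h1
      simp only [QuotientGroup.mk_mul, QuotientGroup.mk_inv] at h1
      simp only [QuotientGroup.mk'_apply]
      calc (QuotientGroup.mk x : R ⧸ Z) * QuotientGroup.mk y
          = (QuotientGroup.mk x * QuotientGroup.mk y * (QuotientGroup.mk x)⁻¹ * (QuotientGroup.mk y)⁻¹)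
            * (QuotientGroup.mk y * QuotientGroup.mk x) := by group
        _ = QuotientGroup.mk y * QuotientGroup.mk x := by rw [h1, one_mul]
    have h1 : Subgroup.closure S' ≤ Subgroup.centralizer S' := by
      rw [Subgroup.closure_le]
      intro s hs
      rw [SetLike.mem_coe, Subgroup.mem_centralizer_iff]
      intro t ht
      exact hcommgen t ht s hs
    have h2 : Subgroup.closure S' ≤ Subgroup.center (R ⧸ Z) := by
      rw [Subgroup.closure_le]
      intro s hs
      rw [SetLike.mem_coe, Subgroup.mem_center_iff]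
      intro q
      have hq : q ∈ Subgroup.centralizer S' := h1 (hgenQ ▸ Subgroup.mem_top q)
      exact (Subgroup.mem_centralizer_iff.mp hq s hs).symm
    have hcomAll : ∀ a b : R, ⁅a, b⁆ ∈ Z := by
      intro a b
      apply hquot
      have hb : (QuotientGroup.mk b : R ⧸ Z) ∈ Subgroup.center (R ⧸ Z) :=
        h2 (hgenQ ▸ Subgroup.mem_top _)
      exact Subgroup.mem_center_iff.mp hb _
    have hc : ∀ a b : R, ⁅a, b⁆ ∈ Subgroup.center R := fun a b => hZc (hcomAll a b)
    have he : ∀ a b : R, ⁅a, b⁆ ^ p = 1 := fun a b =>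
      pow_eq_one_of_mem_zpowers p z _ hzo (hcomAll a b)
    let ψ : R →* R :=
      { toFun := fun x => x ^ p
        map_one' := one_pow p
        map_mul' := pow_mul_of_class_two p hp2 hc he }
    have hall : ∀ r : R, ψ r ∈ Z := by
      have hle : Subgroup.closure (Xs p z) ≤ Z.comap ψ := by
        rw [Subgroup.closure_le]
        intro x hx
        exact hx
      intro r
      exact hle (htop ▸ Subgroup.mem_top r)
    let ψ' : R →* Z := ψ.codRestrict Z hall
    have hkercard : Nat.card ψ'.ker ≤ p ^ 2 := by
      have hle : ψ'.ker ≤ E := by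
        intro x hx
        apply hTE
        have := congrArg Subtype.val ((MonoidHom.mem_ker).mp hx)
        simpa [ψ', ψ] using this
      exact (Subgroup.card_le_of_le hle).trans hE
    have hrange : Nat.card ψ'.range ≤ p := by
      have := Subgroup.card_le_card_group ψ'.range
      rwa [hZcard] at this
    have hmul := card_ker_mul_card_range ψ'
    have : Nat.card R ≤ p ^ 2 * p := by
      rw [← hmul]; exact Nat.mul_le_mul hkercard hrange
    have h3 : p ^ 3 = p ^ 2 * p := by ring
    omega
  · -- Case B
    push Not at hA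
    obtain ⟨x, hx, y, hy, hxy⟩ := hA
    have hzX : z ∈ Xs p z := z_mem_Xs p z hzo
    set S₀ : Set R := {x, y, z} with hS₀
    have hS₀X : S₀ ⊆ Xs p z := by
      intro s hs
      rcases hs with rfl | rfl | rfl
      · exact hx
      · exact hy
      · exact hzX
    have hzS₀ : z ∈ Subgroup.closure S₀ := Subgroup.subset_closure (by simp [hS₀])
    have hxS₀ : x ∈ Subgroup.closure S₀ := Subgroup.subset_closure (by simp [hS₀])
    have hyS₀ : y ∈ Subgroup.closure S₀ := Subgroup.subset_closure (by simp [hS₀])
    have hK : Subgroup.closure S₀ = ⊤ := by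
      by_contra hne
      have hcard := hsub S₀ hS₀X hzS₀ hne
      obtain ⟨j, hj⟩ := (hR.to_subgroup (Subgroup.closure S₀)).exists_card_eq
      have hj3 : j ≤ 3 := by
        rw [hj] at hcard
        exact (Nat.pow_le_pow_iff_right hp1).mp hcard
      have hZK : Z ≤ Subgroup.closure S₀ := (Subgroup.zpowers_le).mpr hzS₀
      have : (Z.subgroupOf (Subgroup.closure S₀)).Normal := hZn.subgroupOf _
      have hNcard : Nat.card (Z.subgroupOf (Subgroup.closure S₀)) = p := by
        rw [Nat.card_congr (Subgroup.subgroupOfEquivOfLe hZK).toEquiv, hZcard]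
      have := comm_mem_of_card_le_cube (G := Subgroup.closure S₀) p j hj3 hj
        (Z.subgroupOf (Subgroup.closure S₀)) hNcard ⟨x, hxS₀⟩ ⟨y, hyS₀⟩
      rw [Subgroup.mem_subgroupOf] at this
      apply hxy
      simpa [commutatorElement_def] using this
    -- a maximal subgroup containing x and z
    set H₀ : Subgroup R := Subgroup.closure {x, z} with hH₀
    have hH₀ne : H₀ ≠ ⊤ := by
      intro htop'
      apply hxy
      have hle : H₀ ≤ Subgroup.centralizer {x} := by
        rw [hH₀, Subgroup.closure_le]
        intro s hs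
        rw [SetLike.mem_coe, Subgroup.mem_centralizer_iff]
        intro t ht
        rw [Set.mem_singleton_iff] at ht
        rw [ht]
        rcases hs with rfl | rfl
        · rfl
        · exact (Subgroup.mem_center_iff.mp hz x)
      have hyc : y ∈ Subgroup.centralizer {x} := hle (htop' ▸ Subgroup.mem_top y)
      have := Subgroup.mem_centralizer_iff.mp hyc x (Set.mem_singleton x)
      rw [commutatorElement_def, this]
      simp
    obtain ⟨n₀, hn₀⟩ := (hR.to_subgroup H₀).exists_card_eq
    have hn₀k : n₀ < k := by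
      have := card_lt_of_ne_top H₀ hH₀ne
      rw [hn₀, hk] at this
      exact (Nat.pow_lt_pow_iff_right hp1).mp this
    have hdvd : p ^ (k - 1) ∣ Nat.card R := by rw [hk]; exact pow_dvd_pow p (by omega)
    obtain ⟨M, hMcard, hH₀M⟩ := Sylow.exists_subgroup_card_pow_prime_le p hdvd H₀ hn₀ (by omega)
    have hMidx : M.index = p := by
      have h := Subgroup.card_mul_index M
      rw [hMcard, hk] at h
      have : p ^ k = p ^ (k - 1) * p := by rw [← pow_succ]; congr 1; omega
      rw [this] at h
      exact Nat.eq_of_mul_eq_mul_left (pow_pos hp0 _) h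
    have hMn : M.Normal := by
      apply Subgroup.normal_of_index_eq_minFac_card
      rw [hMidx, hk, Nat.pow_minFac (by omega), Nat.Prime.minFac_eq hp.out]
    have hMne : M ≠ ⊤ := by
      intro h
      rw [h, Subgroup.index_top] at hMidx
      omega
    have hxM : x ∈ M := hH₀M (Subgroup.subset_closure (by simp))
    have hzM : z ∈ M := hH₀M (Subgroup.subset_closure (by simp))
    set F : Subgroup R := Subgroup.closure (Xs p z ∩ (M : Set R)) with hF
    have hFM : F ≤ M := by
      rw [hF, Subgroup.closure_le]
      exact Set.inter_subset_right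
    have hFne : F ≠ ⊤ := by
      intro h
      apply hMne
      exact top_le_iff.mp (h ▸ hFM)
    have hzF : z ∈ F := Subgroup.subset_closure ⟨hzX, hzM⟩
    have hxF : x ∈ F := Subgroup.subset_closure ⟨hx, hxM⟩
    have hFcard : Nat.card F ≤ p ^ 3 := hsub _ Set.inter_subset_left hzF hFne
    have hFn : F.Normal := by
      apply normal_closure_of_conj_inv
      rintro s ⟨hs1, hs2⟩ g
      exact ⟨conj_mem_Xs p z hz s g hs1, hMn.conj_mem s hs2 g⟩
    have hyM : y ∉ M := by
      intro hyM
      apply hMne
      apply top_le_iff.mp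
      rw [← hK, Subgroup.closure_le]
      intro s hs
      rcases hs with rfl | rfl | rfl
      · exact hxM
      · exact hyM
      · exact hzM
    have hFy : F ⊔ Subgroup.zpowers y = ⊤ := by
      apply top_le_iff.mp
      rw [← hK, Subgroup.closure_le]
      intro s hs
      rcases hs with rfl | rfl | rfl
      · exact Subgroup.mem_sup_left hxF
      · exact Subgroup.mem_sup_right (Subgroup.mem_zpowers _)
      · exact Subgroup.mem_sup_left hzF
    have hQF : Nat.card (R ⧸ F) ≤ p := by
      have htopq : (⊤ : Subgroup (R ⧸ F)) = Subgroup.zpowers (QuotientGroup.mk y : R ⧸ F) := by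
        rw [← Subgroup.map_top_of_surjective _ (QuotientGroup.mk'_surjective F), ← hFy,
          Subgroup.map_sup, QuotientGroup.map_mk'_self, bot_sup_eq, MonoidHom.map_zpowers]
        rfl
      have hyp : (QuotientGroup.mk y : R ⧸ F) ^ p = 1 := by
        rw [← QuotientGroup.mk_pow, QuotientGroup.eq_one_iff]
        exact (Subgroup.zpowers_le.mpr hzF) hy
      have hord : orderOf (QuotientGroup.mk y : R ⧸ F) ∣ p := orderOf_dvd_of_pow_eq_one hyp
      have : Nat.card (R ⧸ F) = orderOf (QuotientGroup.mk y : R ⧸ F) := by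
        rw [← Subgroup.card_top, htopq, Nat.card_zpowers]
      rw [this]
      exact Nat.le_of_dvd hp0 hord
    have hR4 : Nat.card R = p ^ 4 := by
      have hmul := Subgroup.card_eq_card_quotient_mul_card_subgroup F
      have hle : Nat.card R ≤ p * p ^ 3 := by
        rw [hmul]; exact Nat.mul_le_mul hQF hFcard
      have h4 : p * p ^ 3 = p ^ 4 := by ring
      rw [h4, hk] at hle
      have := (Nat.pow_le_pow_iff_right hp1).mp hle
      have hk4' : k = 4 := by omega
      rw [hk, hk4']
    -- R/Z has exponent p
    have hQcard : Nat.card (R ⧸ Z) = p ^ 3 := by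
      have hmul := Subgroup.card_eq_card_quotient_mul_card_subgroup Z
      rw [hR4, hZcard] at hmul
      have : p ^ 4 = p ^ 3 * p := by ring
      rw [this] at hmul
      exact (Nat.eq_of_mul_eq_mul_right hp0 hmul).symm
    have hgenQ : Subgroup.closure {q : R ⧸ Z | q ^ p = 1} = ⊤ := by
      apply top_le_iff.mp
      rw [← Subgroup.map_top_of_surjective _ (QuotientGroup.mk'_surjective Z), ← htop,
        MonoidHom.map_closure]
      apply Subgroup.closure_mono
      rintro _ ⟨w, hw, rfl⟩
      show (QuotientGroup.mk' Z w) ^ p = 1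
      rw [QuotientGroup.mk'_apply, ← QuotientGroup.mk_pow, QuotientGroup.eq_one_iff]
      exact hw
    have hexp := exp_p_of_card_cube p hp2 hQcard hgenQ
    have hall : ∀ r : R, r ^ p ∈ Subgroup.zpowers z := by
      intro r
      have := hexp (QuotientGroup.mk r)
      rw [← QuotientGroup.mk_pow, QuotientGroup.eq_one_iff] at this
      exact this
    exact final_four p hp3 hR4 z hz hzo hall E hE hTE

end Cfsg.Agent.Lib.Helper20.Hup
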