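import Mathlib
import Cfsg.Agent.Lib.Helper20.HupF
import Cfsg.Prelude.Def_PLocal

set_option autoImplicit false

open scoped commutatorElement

namespace Cfsg.Agent.Lib.Helper20.Hup

universe u

theorem normal_inf_center_ne_bot_nilp {G : Type*} [Group G] [Group.IsNilpotent G]
    (N : Subgroup G) [N.Normal] (hN : N ≠ ⊥) : N ⊓ Subgroup.center G ≠ ⊥ := by
  classical
  have hex : ∃ n : ℕ, N ⊓ Subgroup.upperCentralSeries G n ≠ ⊥ := by
    obtain ⟨n, hn⟩ := Group.IsNilpotent.nilpotent G
    exact ⟨n, by rw [hn, inf_top_eq]; exact hN⟩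
  have hmin : ∀ m, m < Nat.find hex → ¬ (N ⊓ Subgroup.upperCentralSeries G m ≠ ⊥) :=
    fun m hm => Nat.find_min hex hm
  have hspec := Nat.find_spec hex
  set n := Nat.find hex with hn
  cases hn' : n with
  | zero =>
    rw [hn'] at hspec
    simp at hspec
  | succ m =>
    have hm : N ⊓ Subgroup.upperCentralSeries G m = ⊥ := by
      have := hmin m (by omega)
      simpa using this
    rw [hn'] at hspec
    intro hbot
    apply hspec
    rw [eq_bot_iff] at hbot ⊢
    refine le_trans ?_ hbot
    intro x hx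
    refine Subgroup.mem_inf.mpr ⟨hx.1, ?_⟩
    rw [Subgroup.mem_center_iff]
    intro y
    have h1 : ⁅x, y⁆ ∈ Subgroup.upperCentralSeries G m :=
      Subgroup.mem_upperCentralSeries_succ_iff.mp hx.2 y
    have h2 : ⁅x, y⁆ ∈ N := by
      rw [commutatorElement_def]
      have := ‹N.Normal›.conj_mem x⁻¹ (N.inv_mem hx.1) y
      have h3 : x * y * x⁻¹ * y⁻¹ = x * (y * x⁻¹ * y⁻¹) := by group
      rw [h3]
      exact N.mul_mem hx.1 this
    have h4 : ⁅x, y⁆ ∈ N ⊓ Subgroup.upperCentralSeries G m := ⟨h2, h1⟩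
    rw [hm, Subgroup.mem_bot, commutatorElement_eq_one_iff_mul_comm] at h4
    exact h4.symm

theorem card_omegaOne_congr {G H : Type*} [Group G] [Group H] (p : ℕ) (e : G ≃* H) :
    Nat.card (Cfsg.omegaOne p (⊤ : Subgroup G)) = Nat.card (Cfsg.omegaOne p (⊤ : Subgroup H)) := by
  have hmap : (Cfsg.omegaOne p (⊤ : Subgroup G)).map e.toMonoidHom
      = Cfsg.omegaOne p (⊤ : Subgroup H) := by
    unfold Cfsg.omegaOne
    rw [MonoidHom.map_closure]
    congr 1
    ext y
    constructor
    · rintro ⟨x, ⟨_, hx⟩, rfl⟩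
      refine ⟨Subgroup.mem_top _, ?_⟩
      show (e x) ^ p = 1
      rw [← map_pow, hx, map_one]
    · rintro ⟨_, hy⟩
      refine ⟨e.symm y, ⟨Subgroup.mem_top _, ?_⟩, ?_⟩
      · rw [← map_pow, hy, map_one]
      · show e (e.symm y) = y
        simp
  rw [← hmap]
  exact (Subgroup.card_map_of_injective e.injective).symm

/-- size of the image of a subgroup under a hom, via the restricted hom -/
theorem card_map_mul_card_ker {G H : Type*} [Group G] [Group H] [Finite G] (f : G →* H)
    (Y : Subgroup G) :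
    Nat.card (f.comp Y.subtype).ker * Nat.card (Y.map f) = Nat.card Y := by
  have h := card_ker_mul_card_range (f.comp Y.subtype)
  have hr : (f.comp Y.subtype).range = Y.map f := by
    rw [MonoidHom.range_eq_map, ← Subgroup.map_map, ← MonoidHom.range_eq_map, Subgroup.range_subtype]
  rw [hr] at h
  exact h

/-- One step: quotient by a central subgroup of order `p`. -/
theorem omega_step (p : ℕ) [hp : Fact p.Prime] (hp3 : 3 < p) (R : Type u) [Group R] [Finite R]
    (hR : IsPGroup p R) (hO : Nat.card (Cfsg.omegaOne p (⊤ : Subgroup R)) ≤ p ^ 2)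
    (z : R) (hz : z ∈ Subgroup.center R) (hzo : orderOf z = p) (N : Subgroup R) [N.Normal]
    (hN : N = Subgroup.zpowers z) :
    Nat.card (Cfsg.omegaOne p (⊤ : Subgroup (R ⧸ N))) ≤ p ^ 2 := by
  have hp1 : 1 < p := hp.out.one_lt
  have hp0 : 0 < p := by omega
  have hTE : ∀ x : R, x ^ p = 1 → x ∈ Cfsg.omegaOne p (⊤ : Subgroup R) := by
    intro x hx
    exact Subgroup.subset_closure ⟨Subgroup.mem_top _, hx⟩
  have hkey := key p hp3 (Nat.card R) R rfl hR _ hO hTE z hz hzo
  set Y := Subgroup.closure (Xs p z) with hY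
  have hle : Cfsg.omegaOne p (⊤ : Subgroup (R ⧸ N)) ≤ Y.map (QuotientGroup.mk' N) := by
    unfold Cfsg.omegaOne
    rw [Subgroup.closure_le]
    rintro q ⟨_, hq⟩
    obtain ⟨x, rfl⟩ := QuotientGroup.mk_surjective q
    refine ⟨x, ?_, rfl⟩
    apply Subgroup.subset_closure
    show x ^ p ∈ Subgroup.zpowers z
    rw [← hN, ← QuotientGroup.eq_one_iff]
    exact hq
  have hcard := card_map_mul_card_ker (QuotientGroup.mk' N) Y
  have hzY : z ∈ Y := Subgroup.subset_closure (z_mem_Xs p z hzo)
  have hzker : (⟨z, hzY⟩ : Y) ∈ ((QuotientGroup.mk' N).comp Y.subtype).ker := by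
    rw [MonoidHom.mem_ker]
    show (QuotientGroup.mk' N) z = 1
    rw [QuotientGroup.mk'_apply, QuotientGroup.eq_one_iff, hN]
    exact Subgroup.mem_zpowers z
  have hpdvd : p ∣ Nat.card ((QuotientGroup.mk' N).comp Y.subtype).ker := by
    have h1 : orderOf (⟨⟨z, hzY⟩, hzker⟩ : ((QuotientGroup.mk' N).comp Y.subtype).ker) = p := by
      rw [Subgroup.orderOf_mk, Subgroup.orderOf_mk]; exact hzo
    rw [← h1]
    exact orderOf_dvd_natCard _
  obtain ⟨k, hk⟩ := hpdvd
  have h1 : Nat.card (Cfsg.omegaOne p (⊤ : Subgroup (R ⧸ N))) ≤ Nat.card (Y.map (QuotientGroup.mk' N)) :=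
    Subgroup.card_le_of_le hle
  refine le_trans h1 ?_
  rw [hk] at hcard
  have hk0 : 0 < k := by
    rcases Nat.eq_zero_or_pos k with h | h
    · rw [h, mul_zero] at hk
      have := Nat.card_pos (α := ((QuotientGroup.mk' N).comp Y.subtype).ker)
      omega
    · exact h
  have h2 : p * Nat.card (Y.map (QuotientGroup.mk' N)) ≤ p * p ^ 2 := by
    calc p * Nat.card (Y.map (QuotientGroup.mk' N))
        ≤ p * k * Nat.card (Y.map (QuotientGroup.mk' N)) := by
          have : p * Nat.card (Y.map (QuotientGroup.mk' N)) * 1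
              ≤ p * Nat.card (Y.map (QuotientGroup.mk' N)) * k := Nat.mul_le_mul_left _ hk0
          calc p * Nat.card (Y.map (QuotientGroup.mk' N))
              = p * Nat.card (Y.map (QuotientGroup.mk' N)) * 1 := (mul_one _).symm
            _ ≤ p * Nat.card (Y.map (QuotientGroup.mk' N)) * k := this
            _ = p * k * Nat.card (Y.map (QuotientGroup.mk' N)) := by ring
      _ = Nat.card Y := hcard
      _ ≤ p ^ 3 := hkey
      _ = p * p ^ 2 := by ring
  exact Nat.le_of_mul_le_mul_left h2 hp0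

theorem omega_quotient (p : ℕ) [hp : Fact p.Prime] (hp3 : 3 < p) :
    ∀ n : ℕ, ∀ (R : Type u) [Group R] [Finite R], IsPGroup p R →
      Nat.card (Cfsg.omegaOne p (⊤ : Subgroup R)) ≤ p ^ 2 →
      ∀ (T : Subgroup R) [T.Normal], Nat.card T = n →
        Nat.card (Cfsg.omegaOne p (⊤ : Subgroup (R ⧸ T))) ≤ p ^ 2 := by
  intro n
  induction n using Nat.strong_induction_on with
  | _ n ih =>
  intro R _ _ hR hO T hTn hn
  have hp1 : 1 < p := hp.out.one_lt
  by_cases hT : T = ⊥
  · subst hT
    rw [card_omegaOne_congr p (QuotientGroup.quotientBot (G := R))]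
    exact hO
  · have : Group.IsNilpotent R := hR.isNilpotent
    have hne := normal_inf_center_ne_bot_nilp T hT
    have hCp : IsPGroup p (T ⊓ Subgroup.center R : Subgroup R) := hR.to_subgroup _
    obtain ⟨k, hk⟩ := hCp.exists_card_eq
    have hk0 : k ≠ 0 := by
      intro h0
      rw [h0, pow_zero] at hk
      exact hne (Subgroup.card_eq_one.mp hk)
    have hpd : p ∣ Nat.card (T ⊓ Subgroup.center R : Subgroup R) := by
      rw [hk]; exact dvd_pow_self p hk0
    obtain ⟨c, hc⟩ := exists_prime_orderOf_dvd_card' p hpd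
    have hzo : orderOf (c : R) = p := by rw [Subgroup.orderOf_coe]; exact hc
    have hzT : (c : R) ∈ T := c.2.1
    have hzc : (c : R) ∈ Subgroup.center R := c.2.2
    set z : R := (c : R) with hzdef
    have hNn : (Subgroup.zpowers z).Normal := zpowers_normal_of_center z hzc
    have hNT : Subgroup.zpowers z ≤ T := Subgroup.zpowers_le.mpr hzT
    have hO1 := omega_step p hp3 R hR hO z hzc hzo (Subgroup.zpowers z) rfl
    have hR1 : IsPGroup p (R ⧸ Subgroup.zpowers z) := hR.to_quotient _
    have : (T.map (QuotientGroup.mk' (Subgroup.zpowers z))).Normal :=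
      Subgroup.Normal.map hTn _ (QuotientGroup.mk'_surjective _)
    -- card of image < card T
    have hcard := card_map_mul_card_ker (QuotientGroup.mk' (Subgroup.zpowers z)) T
    have hzker : (⟨z, hzT⟩ : T) ∈ ((QuotientGroup.mk' (Subgroup.zpowers z)).comp T.subtype).ker := by
      rw [MonoidHom.mem_ker]
      show (QuotientGroup.mk' (Subgroup.zpowers z)) z = 1
      rw [QuotientGroup.mk'_apply, QuotientGroup.eq_one_iff]
      exact Subgroup.mem_zpowers z
    have hker2 : 2 ≤ Nat.card ((QuotientGroup.mk' (Subgroup.zpowers z)).comp T.subtype).ker := by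
      by_contra hcon
      have h1 : Nat.card ((QuotientGroup.mk' (Subgroup.zpowers z)).comp T.subtype).ker = 1 := by
        have := Nat.card_pos (α := ((QuotientGroup.mk' (Subgroup.zpowers z)).comp T.subtype).ker)
        omega
      rw [Subgroup.card_eq_one] at h1
      rw [h1, Subgroup.mem_bot] at hzker
      have hz1 : z = 1 := congrArg Subtype.val hzker
      rw [hz1, orderOf_one] at hzo
      omega
    have hlt : Nat.card (T.map (QuotientGroup.mk' (Subgroup.zpowers z))) < n := by
      rw [← hn, ← hcard]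
      have hpos := Nat.card_pos (α := (T.map (QuotientGroup.mk' (Subgroup.zpowers z))))
      nlinarith
    have hih := ih _ hlt (R ⧸ Subgroup.zpowers z) hR1 hO1
      (T.map (QuotientGroup.mk' (Subgroup.zpowers z))) rfl
    rw [card_omegaOne_congr p (QuotientGroup.quotientQuotientEquivQuotient (Subgroup.zpowers z) T hNT)]
      at hih
    exact hih

end Cfsg.Agent.Lib.Helper20.Hup
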