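import Mathlib
import Cfsg.Agent.Lib.Helper20.HupG

set_option autoImplicit false

open scoped commutatorElement

namespace Cfsg.Agent.Lib.Helper20.Hup

universe u

/-- solutions of `x ^ n = 1` in a group with commuting elements -/
def powKer {H : Type*} [Group H] (hc : ∀ a b : H, a * b = b * a) (n : ℕ) : Subgroup H where
  carrier := {q | q ^ n = 1}
  mul_mem' := by
    intro a b ha hb
    show (a * b) ^ n = 1
    have ha' : a ^ n = 1 := ha
    have hb' : b ^ n = 1 := hb
    rw [(show Commute a b from hc a b).mul_pow, ha', hb', one_mul]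
  one_mem' := one_pow n
  inv_mem' := by
    intro a ha
    show a⁻¹ ^ n = 1
    have ha' : a ^ n = 1 := ha
    rw [inv_pow, ha', inv_one]

theorem mem_powKer {H : Type*} [Group H] (hc : ∀ a b : H, a * b = b * a) (n : ℕ) (q : H) :
    q ∈ powKer hc n ↔ q ^ n = 1 := Iff.rfl

theorem card_powKer_le {H : Type*} [Group H] [Finite H] (hc : ∀ a b : H, a * b = b * a) (p : ℕ)
    (W : Subgroup H) (hW : Nat.card W ≤ p) (hWp : ∀ q : H, q ^ p = 1 → q ∈ W) :
    ∀ j : ℕ, Nat.card (powKer hc (p ^ j)) ≤ p ^ j := by
  intro j
  induction j with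
  | zero =>
    have : powKer hc (p ^ 0) = ⊥ := by
      rw [eq_bot_iff]
      intro q hq
      rw [mem_powKer, pow_zero, pow_one] at hq
      rw [Subgroup.mem_bot]; exact hq
    rw [this, pow_zero]
    simp
  | succ j ih =>
    let f : powKer hc (p ^ (j + 1)) →* powKer hc (p ^ j) :=
      { toFun := fun q => ⟨q.1 ^ p, by
          rw [mem_powKer, ← pow_mul, ← pow_succ']
          exact q.2⟩
        map_one' := by
          apply Subtype.ext
          simp
        map_mul' := by
          intro a b
          apply Subtype.ext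
          show (a.1 * b.1) ^ p = a.1 ^ p * b.1 ^ p
          exact (show Commute a.1 b.1 from hc a.1 b.1).mul_pow p }
    have hcard := card_ker_mul_card_range f
    have hker : Nat.card f.ker ≤ p := by
      refine le_trans ?_ hW
      apply Nat.card_le_card_of_injective (fun x : f.ker => (⟨x.1.1, hWp _ (by
        have := x.2
        rw [MonoidHom.mem_ker] at this
        exact congrArg Subtype.val this)⟩ : W))
      intro a b hab
      apply Subtype.ext
      apply Subtype.ext
      have := congrArg Subtype.val hab
      simpa using this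
    have hrange : Nat.card f.range ≤ p ^ j := le_trans (Subgroup.card_le_card_group f.range) ih
    calc Nat.card (powKer hc (p ^ (j + 1))) = Nat.card f.ker * Nat.card f.range := hcard.symm
      _ ≤ p * p ^ j := Nat.mul_le_mul hker hrange
      _ = p ^ (j + 1) := (pow_succ' p j).symm

/-- A finite commutative `p`-group whose elements with `x ^ p = 1` lie in a subgroup of order at most
`p` is cyclic. -/
theorem isCyclic_of_omega_le {H : Type*} [Group H] [Finite H] (hc : ∀ a b : H, a * b = b * a)
    (p : ℕ) [hp : Fact p.Prime] (hH : IsPGroup p H) (W : Subgroup H) (hW : Nat.card W ≤ p)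
    (hWp : ∀ q : H, q ^ p = 1 → q ∈ W) : IsCyclic H := by
  obtain ⟨x, hx⟩ := Finite.exists_max (fun q : H => orderOf q)
  obtain ⟨e, he⟩ := (IsPGroup.iff_orderOf.mp hH) x
  have hall : ∀ q : H, q ^ (p ^ e) = 1 := by
    intro q
    obtain ⟨i, hi⟩ := (IsPGroup.iff_orderOf.mp hH) q
    have hle : p ^ i ≤ p ^ e := by rw [← hi, ← he]; exact hx q
    have hie : i ≤ e := (Nat.pow_le_pow_iff_right hp.out.one_lt).mp hle
    rw [← orderOf_dvd_iff_pow_eq_one, hi]
    exact pow_dvd_pow p hie
  have htop : powKer hc (p ^ e) = ⊤ := by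
    rw [eq_top_iff]
    intro q _
    exact (mem_powKer hc _ q).mpr (hall q)
  have hcard := card_powKer_le hc p W hW hWp e
  rw [htop, Subgroup.card_top] at hcard
  apply isCyclic_of_card_le_orderOf x
  rw [he]; exact hcard

end Cfsg.Agent.Lib.Helper20.Hup
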