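import Mathlib
import Cfsg.Agent.Lib.Helper20.HupH
import Cfsg.Prelude.Def_OddOrderLocal

set_option autoImplicit false

open scoped commutatorElement

namespace Cfsg.Agent.Lib.Helper20.Hup

universe u

theorem card_map_le_of_mem {G : Type*} [Group G] [Finite G] (p j : ℕ) (hp0 : 0 < p)
    (N : Subgroup G) [N.Normal] (Y : Subgroup G) (hY : Nat.card Y ≤ p ^ (j + 1)) (z : G)
    (hzY : z ∈ Y) (hzN : z ∈ N) (hzo : orderOf z = p) :
    Nat.card (Y.map (QuotientGroup.mk' N)) ≤ p ^ j := by
  have hcard := card_map_mul_card_ker (QuotientGroup.mk' N) Y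
  have hzker : (⟨z, hzY⟩ : Y) ∈ ((QuotientGroup.mk' N).comp Y.subtype).ker := by
    rw [MonoidHom.mem_ker]
    show (QuotientGroup.mk' N) z = 1
    rw [QuotientGroup.mk'_apply, QuotientGroup.eq_one_iff]
    exact hzN
  have hpdvd : p ∣ Nat.card ((QuotientGroup.mk' N).comp Y.subtype).ker := by
    have h1 : orderOf (⟨⟨z, hzY⟩, hzker⟩ : ((QuotientGroup.mk' N).comp Y.subtype).ker) = p := by
      rw [Subgroup.orderOf_mk, Subgroup.orderOf_mk]; exact hzo
    rw [← h1]
    exact orderOf_dvd_natCard _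
  obtain ⟨k, hk⟩ := hpdvd
  rw [hk] at hcard
  have hk0 : 0 < k := by
    rcases Nat.eq_zero_or_pos k with h | h
    · rw [h, mul_zero] at hk
      have := Nat.card_pos (α := ((QuotientGroup.mk' N).comp Y.subtype).ker)
      omega
    · exact h
  have h2 : p * Nat.card (Y.map (QuotientGroup.mk' N)) ≤ p * p ^ j := by
    calc p * Nat.card (Y.map (QuotientGroup.mk' N))
        = p * Nat.card (Y.map (QuotientGroup.mk' N)) * 1 := (mul_one _).symm
      _ ≤ p * Nat.card (Y.map (QuotientGroup.mk' N)) * k := Nat.mul_le_mul_left _ hk0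
      _ = p * k * Nat.card (Y.map (QuotientGroup.mk' N)) := by ring
      _ = Nat.card Y := hcard
      _ ≤ p ^ (j + 1) := hY
      _ = p * p ^ j := pow_succ' p j
  exact Nat.le_of_mul_le_mul_left h2 hp0

/-- the splitting claim: if `⟨g⟩` is not contained in a larger cyclic subgroup, then every `h` with
`h ^ p ∈ ⟨g⟩` is a product of an element of order dividing `p` and an element of `⟨g⟩`. -/
theorem pow_mem_split {G : Type*} [Group G] [Finite G] (p : ℕ) [hp : Fact p.Prime]
    (hG : IsPGroup p G) (hpow : ∀ a b : G, (a * b) ^ p = a ^ p * b ^ p) (g : G) (hg1 : g ≠ 1)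
    (hmax : ∀ h : G, Subgroup.zpowers g ≤ Subgroup.zpowers h → orderOf h ≤ orderOf g)
    (h : G) (hh : h ^ p ∈ Subgroup.zpowers g) :
    ∃ w : G, w ^ p = 1 ∧ ∃ n ∈ Subgroup.zpowers g, h = w * n := by
  have hp1 : 1 < p := hp.out.one_lt
  have hh' : h ^ p ∈ Submonoid.powers g := (mem_powers_iff_mem_zpowers).mpr hh
  obtain ⟨s, hs⟩ := hh'
  replace hs : g ^ s = h ^ p := hs
  by_cases hps : p ∣ s
  · obtain ⟨s', rfl⟩ := hps
    refine ⟨h * (g ^ s')⁻¹, ?_, g ^ s', Subgroup.pow_mem _ (Subgroup.mem_zpowers g) s', by group⟩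
    rw [hpow, ← hs, inv_pow, ← pow_mul, mul_comm s' p, mul_inv_cancel]
  · exfalso
    obtain ⟨e, he⟩ := (IsPGroup.iff_orderOf.mp hG) g
    have hcop : (orderOf g).Coprime s := by
      rw [he]
      exact Nat.Coprime.pow_left e ((Nat.Prime.coprime_iff_not_dvd hp.out).mpr hps)
    have ho : orderOf (g ^ s) = orderOf g := hcop.orderOf_pow
    have hle : Subgroup.zpowers (g ^ s) ≤ Subgroup.zpowers g :=
      Subgroup.zpowers_le.mpr (Subgroup.pow_mem _ (Subgroup.mem_zpowers g) s)
    have heq : Subgroup.zpowers (g ^ s) = Subgroup.zpowers g := by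
      apply Subgroup.eq_of_le_of_card_ge hle
      rw [Nat.card_zpowers, Nat.card_zpowers, ho]
    have hgh : Subgroup.zpowers g ≤ Subgroup.zpowers (h ^ p) := by
      rw [← heq, hs]
    have hgh' : Subgroup.zpowers g ≤ Subgroup.zpowers h :=
      le_trans hgh (Subgroup.zpowers_le.mpr (Subgroup.pow_mem _ (Subgroup.mem_zpowers h) p))
    have h1 := hmax h hgh'
    have h2 : orderOf g ≤ orderOf (h ^ p) := by
      have := Subgroup.card_le_of_le hgh
      rwa [Nat.card_zpowers, Nat.card_zpowers] at this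
    have hh1 : h ≠ 1 := by
      intro h1'
      rw [h1', one_pow, Subgroup.zpowers_one_eq_bot, le_bot_iff, Subgroup.zpowers_eq_bot] at hgh
      exact hg1 hgh
    obtain ⟨i, hi⟩ := (IsPGroup.iff_orderOf.mp hG) h
    have hi0 : i ≠ 0 := by
      intro h0
      rw [h0, pow_zero, orderOf_eq_one_iff] at hi
      exact hh1 hi
    have hpd : p ∣ orderOf h := by rw [hi]; exact dvd_pow_self p hi0
    have h3 : orderOf (h ^ p) = orderOf h / p := orderOf_pow_of_dvd (by omega) hpd
    have h4 : orderOf h / p < orderOf h := Nat.div_lt_self (orderOf_pos h) hp1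
    omega

end Cfsg.Agent.Lib.Helper20.Hup
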