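import Mathlib
import Cfsg.Agent.Lib.Helper20.HupI
import Cfsg.Prelude.Def_OddOrderLocal

set_option autoImplicit false

open scoped commutatorElement

namespace Cfsg.Agent.Lib.Helper20.Hup

universe u

/-- solutions of `x ^ p = 1` when the `p`-th power map is multiplicative -/
def omegaSub {G : Type*} [Group G] (p : ℕ) (hpow : ∀ a b : G, (a * b) ^ p = a ^ p * b ^ p) :
    Subgroup G where
  carrier := {q | q ^ p = 1}
  mul_mem' := by
    intro a b ha hb
    show (a * b) ^ p = 1
    have ha' : a ^ p = 1 := ha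
    have hb' : b ^ p = 1 := hb
    rw [hpow, ha', hb', one_mul]
  one_mem' := one_pow p
  inv_mem' := by
    intro a ha
    show a⁻¹ ^ p = 1
    have ha' : a ^ p = 1 := ha
    rw [inv_pow, ha', inv_one]

theorem mem_omegaSub {G : Type*} [Group G] (p : ℕ)
    (hpow : ∀ a b : G, (a * b) ^ p = a ^ p * b ^ p) (q : G) :
    q ∈ omegaSub p hpow ↔ q ^ p = 1 := Iff.rfl

/-- A finite `p`-group with multiplicative `p`-th power map, all of whose commutators lie in a cyclic
subgroup, and whose elements of order dividing `p` lie in a subgroup of order at most `p^2`, is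
metacyclic. -/
theorem metacyclic_of_pow_hom {G : Type u} [Group G] [Finite G] (p : ℕ) [hp : Fact p.Prime]
    (hG : IsPGroup p G) (hpow : ∀ a b : G, (a * b) ^ p = a ^ p * b ^ p) (k : G)
    (hcomm : ∀ a b : G, ⁅a, b⁆ ∈ Subgroup.zpowers k)
    (E : Subgroup G) (hE : Nat.card E ≤ p ^ 2) (hTE : ∀ x : G, x ^ p = 1 → x ∈ E) :
    Cfsg.IsMetacyclic G := by
  have hp1 : 1 < p := hp.out.one_lt
  have hp0 : 0 < p := by omega
  -- choose a cyclic subgroup containing `k` of maximal order
  obtain ⟨g, hgS, hgmax⟩ := Set.exists_max_image {g : G | k ∈ Subgroup.zpowers g} (fun g => orderOf g)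
    (Set.toFinite _) ⟨k, Subgroup.mem_zpowers k⟩
  have hkg : k ∈ Subgroup.zpowers g := hgS
  have hKN : Subgroup.zpowers k ≤ Subgroup.zpowers g := Subgroup.zpowers_le.mpr hkg
  have hmax : ∀ h : G, Subgroup.zpowers g ≤ Subgroup.zpowers h → orderOf h ≤ orderOf g := by
    intro h hh
    exact hgmax h (hh hkg)
  have hNn : (Subgroup.zpowers g).Normal := by
    constructor
    intro n hn x
    have h1 : x * n * x⁻¹ = ⁅x, n⁆ * n := by rw [commutatorElement_def]; group
    rw [h1]
    exact Subgroup.mul_mem _ (hKN (hcomm x n)) hn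
  refine ⟨Subgroup.zpowers g, hNn, inferInstance, ?_⟩
  by_cases hg1 : g = 1
  · -- then the group is trivial
    have htriv : ∀ h : G, h = 1 := by
      intro h
      have hk1 : k = 1 := by
        rw [hg1, Subgroup.zpowers_one_eq_bot, Subgroup.mem_bot] at hkg
        exact hkg
      have hh : h ∈ {g : G | k ∈ Subgroup.zpowers g} := by
        show k ∈ Subgroup.zpowers h
        rw [hk1]; exact one_mem _
      have := hgmax h hh
      simp only [hg1, orderOf_one] at this
      have hpos := orderOf_pos h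
      have : orderOf h = 1 := by omega
      exact orderOf_eq_one_iff.mp this
    refine ⟨1, fun q => ?_⟩
    have hq1 : q = 1 := by
      obtain ⟨x, rfl⟩ := QuotientGroup.mk_surjective q
      rw [htriv x]
      rfl
    rw [hq1]
    exact Subgroup.one_mem (Subgroup.zpowers (1 : G ⧸ Subgroup.zpowers g))
  · -- commutative quotient
    have hcq : ∀ a b : G ⧸ Subgroup.zpowers g, a * b = b * a := by
      intro a b
      obtain ⟨x, rfl⟩ := QuotientGroup.mk_surjective a
      obtain ⟨y, rfl⟩ := QuotientGroup.mk_surjective b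
      rw [← QuotientGroup.mk_mul, ← QuotientGroup.mk_mul, QuotientGroup.eq]
      have : (x * y)⁻¹ * (y * x) = ⁅y⁻¹, x⁻¹⁆ := by rw [commutatorElement_def]; group
      rw [this]
      exact hKN (hcomm _ _)
    have hQ : IsPGroup p (G ⧸ Subgroup.zpowers g) := hG.to_quotient _
    -- an element of order p in ⟨g⟩
    obtain ⟨e, he⟩ := (IsPGroup.iff_orderOf.mp hG) g
    have he0 : e ≠ 0 := by
      intro h0
      rw [h0, pow_zero, orderOf_eq_one_iff] at he
      exact hg1 he
    have hz0 : orderOf (g ^ (p ^ (e - 1))) = p := by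
      have hd : p ^ (e - 1) ∣ orderOf g := by rw [he]; exact pow_dvd_pow p (by omega)
      rw [orderOf_pow_of_dvd (by positivity) hd, he]
      have : p ^ e = p ^ (e - 1) * p := by rw [← pow_succ]; congr 1; omega
      rw [this, Nat.mul_div_cancel_left _ (by positivity)]
    have hz0p : (g ^ (p ^ (e - 1))) ^ p = 1 := by
      have := pow_orderOf_eq_one (g ^ (p ^ (e - 1)))
      rwa [hz0] at this
    have hOm : Nat.card (omegaSub p hpow) ≤ p ^ (1 + 1) := by
      refine le_trans (Subgroup.card_le_of_le ?_) hE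
      intro x hx
      exact hTE x hx
    have hW := card_map_le_of_mem p 1 hp0 (Subgroup.zpowers g) (omegaSub p hpow) hOm
      (g ^ (p ^ (e - 1))) hz0p (Subgroup.pow_mem _ (Subgroup.mem_zpowers g) _) hz0
    rw [pow_one] at hW
    refine isCyclic_of_omega_le hcq p hQ _ hW ?_
    intro q hq
    obtain ⟨h, rfl⟩ := QuotientGroup.mk_surjective q
    have hh : h ^ p ∈ Subgroup.zpowers g := by
      rw [← QuotientGroup.eq_one_iff]
      exact hq
    obtain ⟨w, hw, n, hn, rfl⟩ := pow_mem_split p hG hpow g hg1 hmax h hh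
    refine ⟨w, hw, ?_⟩
    show (QuotientGroup.mk' (Subgroup.zpowers g)) w = _
    rw [QuotientGroup.mk'_apply, QuotientGroup.mk_mul]
    have : ((n : G) : G ⧸ Subgroup.zpowers g) = 1 := (QuotientGroup.eq_one_iff n).mpr hn
    rw [this, mul_one]

end Cfsg.Agent.Lib.Helper20.Hup
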