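import Mathlib
import Cfsg.Agent.Lib.Helper20.HupJ
import Cfsg.Prelude.Def_OddOrderLocal

set_option autoImplicit false

open scoped commutatorElement

namespace Cfsg.Agent.Lib.Helper20.Hup

universe u

theorem zpow_eq_pow_nat {G : Type*} [Group G] [Finite G] (g : G) (s : ℤ) : ∃ n : ℕ, g ^ s = g ^ n := by
  have h : g ^ s ∈ Subgroup.zpowers g := ⟨s, rfl⟩
  have h' : g ^ s ∈ Submonoid.powers g := (mem_powers_iff_mem_zpowers).mpr h
  obtain ⟨n, hn⟩ := h'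
  exact ⟨n, hn.symm⟩

theorem exists_gens_of_metacyclic_quotient {G : Type u} [Group G] [Finite G] (k : G)
    (N : Subgroup G) [N.Normal] (hN : N = Subgroup.zpowers k) (hm : Cfsg.IsMetacyclic (G ⧸ N)) :
    ∃ (A : Subgroup G) (_ : A.Normal) (a b : G), a ∈ A ∧ k ∈ A ∧
      (∀ x ∈ A, ∃ s t : ℕ, x = a ^ s * k ^ t) ∧ (∀ g : G, ∃ n : ℕ, ∃ x ∈ A, g = b ^ n * x) := by
  obtain ⟨Ab, hAbn, hAbc, hQc⟩ := hm
  obtain ⟨a0, ha0⟩ := hAbc.exists_generator
  obtain ⟨b0, hb0⟩ := hQc.exists_generator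
  obtain ⟨a, ha⟩ := QuotientGroup.mk_surjective a0.1
  obtain ⟨b1, hb1⟩ := QuotientGroup.mk_surjective b0
  obtain ⟨b, hb⟩ := QuotientGroup.mk_surjective b1
  have hkN : k ∈ N := by rw [hN]; exact Subgroup.mem_zpowers k
  refine ⟨Ab.comap (QuotientGroup.mk' N), hAbn.comap _, a, b, ?_, ?_, ?_, ?_⟩
  · show (QuotientGroup.mk' N) a ∈ Ab
    rw [QuotientGroup.mk'_apply, ha]; exact a0.2
  · show (QuotientGroup.mk' N) k ∈ Ab
    rw [QuotientGroup.mk'_apply, (QuotientGroup.eq_one_iff k).mpr hkN]; exact one_mem _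
  · intro x hx
    have hx' : (QuotientGroup.mk x : G ⧸ N) ∈ Ab := hx
    obtain ⟨s, hs⟩ := ha0 ⟨_, hx'⟩
    have hs' : (QuotientGroup.mk a : G ⧸ N) ^ s = QuotientGroup.mk x := by
      have := congrArg Subtype.val hs
      rw [ha]
      simpa using this
    obtain ⟨s', hs''⟩ := zpow_eq_pow_nat a s
    have h1 : (a ^ s')⁻¹ * x ∈ N := by
      rw [← QuotientGroup.eq, ← hs', ← hs'', QuotientGroup.mk_zpow]
    rw [hN] at h1
    obtain ⟨t, ht⟩ := h1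
    replace ht : k ^ t = (a ^ s')⁻¹ * x := ht
    obtain ⟨t', ht'⟩ := zpow_eq_pow_nat k t
    refine ⟨s', t', ?_⟩
    rw [← ht', ht]; group
  · intro g
    obtain ⟨n, hn⟩ := hb0 (QuotientGroup.mk (QuotientGroup.mk g))
    replace hn : b0 ^ n = QuotientGroup.mk (QuotientGroup.mk g) := hn
    obtain ⟨n', hn'⟩ := zpow_eq_pow_nat b n
    refine ⟨n', (b ^ n')⁻¹ * g, ?_, by group⟩
    show (QuotientGroup.mk' N) ((b ^ n')⁻¹ * g) ∈ Ab
    rw [QuotientGroup.mk'_apply, QuotientGroup.mk_mul, QuotientGroup.mk_inv, ← QuotientGroup.eq, ← hn,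
      ← hb1, ← hb, ← hn', QuotientGroup.mk_zpow, QuotientGroup.mk_zpow]

end Cfsg.Agent.Lib.Helper20.Hup
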