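import Mathlib
import Cfsg.Agent.Lib.Helper20.HupK
import Cfsg.Prelude.Def_OddOrderLocal

set_option autoImplicit false

open scoped commutatorElement

namespace Cfsg.Agent.Lib.Helper20.Hup

universe u

/-- commutators lie in `⟨k⟩` under the structural hypotheses -/
theorem comm_mem_of_gens {G : Type u} [Group G] [Finite G] (p : ℕ) [hp : Fact p.Prime]
    (hG : IsPGroup p G) (k : G) (hk : k ∈ Subgroup.center G) (hko : orderOf k = p)
    (hkc : k ∈ commutator G) (A : Subgroup G) (hAn : A.Normal) (a b : G) (haA : a ∈ A)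
    (hkA : k ∈ A) (hA : ∀ x ∈ A, ∃ s t : ℕ, x = a ^ s * k ^ t)
    (hb : ∀ g : G, ∃ n : ℕ, ∃ x ∈ A, g = b ^ n * x) (hka : k ∉ Subgroup.zpowers a) :
    ∀ g h : G, ⁅g, h⁆ ∈ Subgroup.zpowers k := by
  have hp1 : 1 < p := hp.out.one_lt
  have hkcomm : ∀ x : G, Commute k x := fun x => (Subgroup.mem_center_iff.mp hk x).symm
  have hak : Commute a k := (hkcomm a).symm
  -- A is abelian
  have hAab : ∀ x ∈ A, ∀ y ∈ A, x * y = y * x := by
    intro x hx y hy
    obtain ⟨s, t, rfl⟩ := hA x hx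
    obtain ⟨s', t', rfl⟩ := hA y hy
    have h1 : Commute (a ^ s) (a ^ s') := (Commute.refl a).pow_pow s s'
    have h2 : Commute (a ^ s) (k ^ t') := hak.pow_pow s t'
    have h3 : Commute (k ^ t) (a ^ s') := hak.symm.pow_pow t s'
    have h4 : Commute (k ^ t) (k ^ t') := (Commute.refl k).pow_pow t t'
    exact (h1.mul_right h2).mul_left (h3.mul_right h4)
  have hcA : ∀ x ∈ A, ⁅x, b⁆ ∈ A := by
    intro x hx
    rw [commutatorElement_def]
    have h1 : b * x⁻¹ * b⁻¹ ∈ A := hAn.conj_mem _ (A.inv_mem hx) b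
    have h2 : x * b * x⁻¹ * b⁻¹ = x * (b * x⁻¹ * b⁻¹) := by group
    rw [h2]; exact A.mul_mem hx h1
  have hmul : ∀ x ∈ A, ∀ y ∈ A, ⁅x * y, b⁆ = ⁅x, b⁆ * ⁅y, b⁆ := by
    intro x hx y hy
    have h1 : ⁅x * y, b⁆ = x * ⁅y, b⁆ * x⁻¹ * ⁅x, b⁆ := by
      simp only [commutatorElement_def]; group
    rw [h1, hAab x hx _ (hcA y hy), mul_assoc ⁅y, b⁆ x, mul_inv_cancel, mul_one]
    exact hAab _ (hcA y hy) _ (hcA x hx)
  have hpowc : ∀ x ∈ A, ∀ n : ℕ, ⁅x ^ n, b⁆ = ⁅x, b⁆ ^ n := by
    intro x hx n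
    induction n with
    | zero => simp
    | succ n ih => rw [pow_succ, hmul _ (A.pow_mem hx n) _ hx, ih, pow_succ]
  set c : G := ⁅a, b⁆ with hc
  have hcAm : c ∈ A := hcA a haA
  obtain ⟨i, j, hij⟩ := hA c hcAm
  have hkj : ⁅k ^ j, b⁆ = 1 := by
    rw [commutatorElement_eq_one_iff_commute]
    exact (hkcomm b).pow_left j
  have hcb : ⁅c, b⁆ = c ^ i := by
    conv_lhs => rw [hij]
    rw [hmul _ (A.pow_mem haA i) _ (A.pow_mem hkA j), hkj, mul_one, hpowc a haA i]
  have hbc : b * c * b⁻¹ ∈ Subgroup.zpowers c := by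
    have h1 : b * c⁻¹ * b⁻¹ = c⁻¹ * c ^ i := by
      rw [← hcb, commutatorElement_def]; group
    have h2 : b * c * b⁻¹ = (b * c⁻¹ * b⁻¹)⁻¹ := by group
    rw [h2, h1]
    exact Subgroup.inv_mem _ (Subgroup.mul_mem _ (Subgroup.inv_mem _ (Subgroup.mem_zpowers c))
      (Subgroup.pow_mem _ (Subgroup.mem_zpowers c) i))
  have hbconj : ∀ y ∈ Subgroup.zpowers c, b * y * b⁻¹ ∈ Subgroup.zpowers c := by
    intro y hy
    obtain ⟨t, rfl⟩ := hy
    have : b * c ^ t * b⁻¹ = (b * c * b⁻¹) ^ t := by rw [conj_zpow]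
    rw [this]
    exact Subgroup.zpow_mem _ hbc t
  have hbnconj : ∀ n : ℕ, ∀ y ∈ Subgroup.zpowers c, b ^ n * y * (b ^ n)⁻¹ ∈ Subgroup.zpowers c := by
    intro n
    induction n with
    | zero => intro y hy; simpa using hy
    | succ n ih =>
      intro y hy
      have : b ^ (n + 1) * y * (b ^ (n + 1))⁻¹ = b * (b ^ n * y * (b ^ n)⁻¹) * b⁻¹ := by
        rw [pow_succ']; group
      rw [this]
      exact hbconj _ (ih y hy)
  have hcle : Subgroup.zpowers c ≤ A := Subgroup.zpowers_le.mpr hcAm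
  have hCn : (Subgroup.zpowers c).Normal := by
    constructor
    intro y hy g
    obtain ⟨n, x, hx, rfl⟩ := hb g
    have h1 : b ^ n * x * y * (b ^ n * x)⁻¹ = b ^ n * (x * y * x⁻¹) * (b ^ n)⁻¹ := by group
    have h2 : x * y * x⁻¹ = y := by
      rw [hAab x hx y (hcle hy), mul_assoc, mul_inv_cancel, mul_one]
    rw [h1, h2]
    exact hbnconj n y hy
  -- the quotient by ⟨c⟩ is commutative
  have hQ : ∀ g h : G, ⁅g, h⁆ ∈ Subgroup.zpowers c := by
    let π := QuotientGroup.mk' (Subgroup.zpowers c)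
    have hπab : Commute (π a) (π b) := by
      show π a * π b = π b * π a
      rw [← map_mul, ← map_mul]
      have h1 : a * b = c * (b * a) := by rw [hc, commutatorElement_def]; group
      rw [h1, map_mul]
      have : π c = 1 := by
        show (QuotientGroup.mk' (Subgroup.zpowers c)) c = 1
        rw [QuotientGroup.mk'_apply, QuotientGroup.eq_one_iff]
        exact Subgroup.mem_zpowers c
      rw [this, one_mul]
    have hπk : ∀ q, Commute (π k) q := by
      intro q
      obtain ⟨x, rfl⟩ := QuotientGroup.mk'_surjective (Subgroup.zpowers c) q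
      show π k * π x = π x * π k
      rw [← map_mul, ← map_mul, (hkcomm x).eq]
    have hdec : ∀ q, ∃ n s t : ℕ, q = π b ^ n * (π a ^ s * π k ^ t) := by
      intro q
      obtain ⟨g, rfl⟩ := QuotientGroup.mk'_surjective (Subgroup.zpowers c) q
      obtain ⟨n, x, hx, rfl⟩ := hb g
      obtain ⟨s, t, rfl⟩ := hA x hx
      exact ⟨n, s, t, by simp [π, map_mul, map_pow]⟩
    have hπa : ∀ q, Commute (π a) q := by
      intro q
      obtain ⟨n, s, t, rfl⟩ := hdec q
      exact (hπab.pow_right n).mul_right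
        (((Commute.refl (π a)).pow_right s).mul_right ((hπk (π a)).symm.pow_right t))
    have hπb : ∀ q, Commute (π b) q := by
      intro q
      obtain ⟨n, s, t, rfl⟩ := hdec q
      exact ((Commute.refl (π b)).pow_right n).mul_right
        ((hπab.symm.pow_right s).mul_right ((hπk (π b)).symm.pow_right t))
    have hall : ∀ q r : G ⧸ Subgroup.zpowers c, Commute q r := by
      intro q r
      obtain ⟨n, s, t, rfl⟩ := hdec q
      exact ((hπb r).pow_left n).mul_left (((hπa r).pow_left s).mul_left ((hπk r).pow_left t))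
    intro g h
    rw [← QuotientGroup.eq_one_iff]
    show π ⁅g, h⁆ = 1
    rw [map_commutatorElement, commutatorElement_eq_one_iff_commute]
    exact hall _ _
  -- k is a power of c
  have hkc' : k ∈ Subgroup.zpowers c := by
    have hle : commutator G ≤ Subgroup.zpowers c := by
      rw [commutator_def, Subgroup.commutator_le]
      intro g _ h _
      exact hQ g h
    exact hle hkc
  have hkc'' : k ∈ Submonoid.powers c := (mem_powers_iff_mem_zpowers).mpr hkc'
  obtain ⟨t, ht⟩ := hkc''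
  replace ht : c ^ t = k := ht
  have hct : c ^ t = a ^ (i * t) * k ^ (j * t) := by
    rw [hij, (hak.pow_pow i j).mul_pow, ← pow_mul, ← pow_mul]
  -- intersection of ⟨a⟩ and ⟨k⟩ is trivial
  have hint : ∀ y : G, y ∈ Subgroup.zpowers a → y ∈ Subgroup.zpowers k → y = 1 := by
    intro y hya hyk
    by_contra hy1
    have hcardk : Nat.card (Subgroup.zpowers k) = p := by rw [Nat.card_zpowers, hko]
    have hne : (⟨y, hyk⟩ : Subgroup.zpowers k) ≠ 1 := by
      intro h; exact hy1 (congrArg Subtype.val h)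
    have hmem := mem_zpowers_of_prime_card (G := Subgroup.zpowers k) (p := p) hcardk
      (g := ⟨y, hyk⟩) (g' := ⟨k, Subgroup.mem_zpowers k⟩) hne
    obtain ⟨v, hv⟩ := hmem
    have hv' : y ^ v = k := by
      have := congrArg Subtype.val hv
      simpa using this
    exact hka (hv' ▸ Subgroup.zpow_mem _ hya v)
  have hait : a ^ (i * t) = 1 := by
    apply hint _ (Subgroup.pow_mem _ (Subgroup.mem_zpowers a) _)
    have h0 : a ^ (i * t) * k ^ (j * t) = k := by rw [← hct, ht]
    have : a ^ (i * t) = k * (k ^ (j * t))⁻¹ := eq_mul_inv_of_mul_eq h0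
    rw [this]
    exact Subgroup.mul_mem _ (Subgroup.mem_zpowers k)
      (Subgroup.inv_mem _ (Subgroup.pow_mem _ (Subgroup.mem_zpowers k) _))
  have hkjt : k ^ (j * t) = k ^ 1 := by
    rw [pow_one]
    have := hct
    rw [hait, one_mul, ht] at this
    exact this.symm
  have hmod : j * t ≡ 1 [MOD p] := by
    rw [← hko]
    exact pow_eq_pow_iff_modEq.mp hkjt
  have hpt : ¬ p ∣ t := by
    intro hdvd
    have h0 : j * t ≡ 0 [MOD p] := (Nat.modEq_zero_iff_dvd).mpr (Dvd.dvd.mul_left hdvd j)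
    have h10 : 1 ≡ 0 [MOD p] := hmod.symm.trans h0
    have := (Nat.modEq_zero_iff_dvd).mp h10
    exact absurd (Nat.le_of_dvd (by norm_num) this) (by omega)
  obtain ⟨e, he⟩ := (IsPGroup.iff_orderOf.mp hG) a
  have hdvd : orderOf a ∣ i * t := orderOf_dvd_of_pow_eq_one hait
  have hcop : (orderOf a).Coprime t := by
    rw [he]
    exact Nat.Coprime.pow_left e ((Nat.Prime.coprime_iff_not_dvd hp.out).mpr hpt)
  have hdvd' : orderOf a ∣ i := hcop.dvd_of_dvd_mul_right hdvd
  have hai : a ^ i = 1 := orderOf_dvd_iff_pow_eq_one.mp hdvd'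
  have hck : c ∈ Subgroup.zpowers k := by
    rw [hij, hai, one_mul]
    exact Subgroup.pow_mem _ (Subgroup.mem_zpowers k) j
  intro g h
  exact (Subgroup.zpowers_le.mpr hck) (hQ g h)

end Cfsg.Agent.Lib.Helper20.Hup
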