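import Mathlib
import Cfsg.Agent.Lib.Helper20.HupL
import Cfsg.Prelude.Def_OddOrderLocal
import Cfsg.Prelude.Def_PLocal

set_option autoImplicit false

open scoped commutatorElement

namespace Cfsg.Agent.Lib.Helper20.Hup

universe u

theorem lift_metacyclic {G : Type u} [Group G] [Finite G] (p : ℕ) [hp : Fact p.Prime]
    (hp2 : p ≠ 2) (hG : IsPGroup p G) (k : G) (hk : k ∈ Subgroup.center G) (hko : orderOf k = p)
    (hkc : k ∈ commutator G) (N : Subgroup G) [N.Normal] (hN : N = Subgroup.zpowers k)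
    (hm : Cfsg.IsMetacyclic (G ⧸ N))
    (E : Subgroup G) (hE : Nat.card E ≤ p ^ 2) (hTE : ∀ x : G, x ^ p = 1 → x ∈ E) :
    Cfsg.IsMetacyclic G := by
  obtain ⟨A, hAn, a, b, haA, hkA, hA, hb⟩ := exists_gens_of_metacyclic_quotient k N hN hm
  by_cases hka : k ∈ Subgroup.zpowers a
  · have hAeq : Subgroup.zpowers a = A := by
      apply le_antisymm (Subgroup.zpowers_le.mpr haA)
      intro x hx
      obtain ⟨s, t, rfl⟩ := hA x hx
      exact Subgroup.mul_mem _ (Subgroup.pow_mem _ (Subgroup.mem_zpowers a) s)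
        (Subgroup.pow_mem _ hka t)
    refine ⟨A, hAn, (Subgroup.isCyclic_iff_exists_zpowers_eq_top A).mpr ⟨a, hAeq⟩, ?_⟩
    refine ⟨⟨(QuotientGroup.mk b : G ⧸ A), fun q => ?_⟩⟩
    obtain ⟨g, rfl⟩ := QuotientGroup.mk_surjective q
    obtain ⟨n, x, hx, rfl⟩ := hb g
    refine ⟨(n : ℤ), ?_⟩
    show (QuotientGroup.mk b : G ⧸ A) ^ (n : ℤ) = QuotientGroup.mk (b ^ n * x)
    rw [QuotientGroup.mk_mul, (QuotientGroup.eq_one_iff x).mpr hx, mul_one, zpow_natCast,
      QuotientGroup.mk_pow]
  · have hcomm := comm_mem_of_gens p hG k hk hko hkc A hAn a b haA hkA hA hb hka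
    have hKc : Subgroup.zpowers k ≤ Subgroup.center G := Subgroup.zpowers_le.mpr hk
    have hpow := pow_mul_of_class_two (G := G) p hp2 (fun x y => hKc (hcomm x y))
      (fun x y => pow_eq_one_of_mem_zpowers p k _ hko (hcomm x y))
    exact metacyclic_of_pow_hom p hG hpow k hcomm E hE hTE

theorem huppert (p : ℕ) [hp : Fact p.Prime] (hp3 : 3 < p) :
    ∀ n : ℕ, ∀ (R : Type u) [Group R] [Finite R], Nat.card R = n → IsPGroup p R →
      Nat.card (Cfsg.omegaOne p (⊤ : Subgroup R)) ≤ p ^ 2 → Cfsg.IsMetacyclic R := by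
  intro n
  induction n using Nat.strong_induction_on with
  | _ n ih =>
  intro R _ _ hn hR hO
  have hp1 : 1 < p := hp.out.one_lt
  have hp2 : p ≠ 2 := by omega
  have hTE : ∀ x : R, x ^ p = 1 → x ∈ Cfsg.omegaOne p (⊤ : Subgroup R) := by
    intro x hx
    exact Subgroup.subset_closure ⟨Subgroup.mem_top _, hx⟩
  by_cases hab : ∀ a b : R, a * b = b * a
  · have hpow : ∀ a b : R, (a * b) ^ p = a ^ p * b ^ p := fun a b =>
      (show Commute a b from hab a b).mul_pow p
    have hcomm : ∀ a b : R, ⁅a, b⁆ ∈ Subgroup.zpowers (1 : R) := by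
      intro a b
      have : ⁅a, b⁆ = 1 := commutatorElement_eq_one_iff_mul_comm.mpr (hab a b)
      rw [this]; exact one_mem _
    exact metacyclic_of_pow_hom p hR hpow 1 hcomm _ hO hTE
  · have hcne : commutator R ≠ ⊥ := by
      intro hbot
      apply hab
      intro a b
      have : ⁅a, b⁆ ∈ commutator R := by
        rw [commutator_def]
        exact Subgroup.commutator_mem_commutator (Subgroup.mem_top a) (Subgroup.mem_top b)
      rw [hbot, Subgroup.mem_bot] at this
      exact commutatorElement_eq_one_iff_mul_comm.mp this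
    have : Group.IsNilpotent R := hR.isNilpotent
    have hne := normal_inf_center_ne_bot_nilp (commutator R) hcne
    have hCp : IsPGroup p (commutator R ⊓ Subgroup.center R : Subgroup R) := hR.to_subgroup _
    obtain ⟨k, hk⟩ := hCp.exists_card_eq
    have hk0 : k ≠ 0 := by
      intro h0
      rw [h0, pow_zero] at hk
      exact hne (Subgroup.card_eq_one.mp hk)
    have hpd : p ∣ Nat.card (commutator R ⊓ Subgroup.center R : Subgroup R) := by
      rw [hk]; exact dvd_pow_self p hk0
    obtain ⟨c, hc⟩ := exists_prime_orderOf_dvd_card' p hpd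
    have hzo : orderOf (c : R) = p := by rw [Subgroup.orderOf_coe]; exact hc
    have hzT : (c : R) ∈ commutator R := c.2.1
    have hzc : (c : R) ∈ Subgroup.center R := c.2.2
    set z : R := (c : R) with hzdef
    have hNn : (Subgroup.zpowers z).Normal := zpowers_normal_of_center z hzc
    have hO1 := omega_step p hp3 R hR hO z hzc hzo (Subgroup.zpowers z) rfl
    have hR1 : IsPGroup p (R ⧸ Subgroup.zpowers z) := hR.to_quotient _
    have hlt : Nat.card (R ⧸ Subgroup.zpowers z) < n := by
      rw [← hn, Subgroup.card_eq_card_quotient_mul_card_subgroup (Subgroup.zpowers z),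
        Nat.card_zpowers, hzo]
      have hpos := Nat.card_pos (α := R ⧸ Subgroup.zpowers z)
      nlinarith
    have hm := ih _ hlt (R ⧸ Subgroup.zpowers z) rfl hR1 hO1
    exact lift_metacyclic p hp2 hR z hzc hzo hzT (Subgroup.zpowers z) rfl hm _ hO hTE

end Cfsg.Agent.Lib.Helper20.Hup
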