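import Mathlib
import Cfsg.Agent.Lib.Helper1.Nilp
import Cfsg.Agent.Lib.Helper21.OmegaCent

set_option autoImplicit false

namespace Cfsg.Agent.Lib.Helper20.RkTwo

open scoped commutatorElement

variable {R : Type*} [Group R]

/-- elements of a join of two elementwise commuting subgroups -/
theorem mem_sup_of_commute (H K : Subgroup R) (hc : ∀ a ∈ H, ∀ b ∈ K, a * b = b * a) (x : R) :
    x ∈ H ⊔ K ↔ ∃ a ∈ H, ∃ b ∈ K, x = a * b := by
  constructor
  · intro hx
    have hcomm' : ∀ (a : H) (b : K), Commute (H.subtype a) (K.subtype b) := fun a b => hc a a.2 b b.2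
    have hrange : (MonoidHom.noncommCoprod H.subtype K.subtype hcomm').range = H ⊔ K := by
      rw [MonoidHom.noncommCoprod_range, Subgroup.range_subtype, Subgroup.range_subtype]
    rw [← hrange] at hx
    obtain ⟨q, rfl⟩ := hx
    exact ⟨q.1, q.1.2, q.2, q.2.2, rfl⟩
  · rintro ⟨a, ha, b, hb, rfl⟩
    exact (H ⊔ K).mul_mem (Subgroup.mem_sup_left ha) (Subgroup.mem_sup_right hb)

/-- elements of a join with a normal subgroup -/
theorem mem_sup_normal (N H : Subgroup R) [hN : N.Normal] (x : R) :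
    x ∈ N ⊔ H ↔ ∃ a ∈ N, ∃ b ∈ H, x = a * b := by
  have h := Subgroup.normal_mul N H
  constructor
  · intro hx
    have hx' : x ∈ ((N ⊔ H : Subgroup R) : Set R) := hx
    rw [h] at hx'
    obtain ⟨a, ha, b, hb, rfl⟩ := Set.mem_mul.mp hx'
    exact ⟨a, ha, b, hb, rfl⟩
  · rintro ⟨a, ha, b, hb, rfl⟩
    exact (N ⊔ H).mul_mem (Subgroup.mem_sup_left ha) (Subgroup.mem_sup_right hb)

theorem comm_mul_left (a b c : R) : ⁅a * b, c⁆ = a * ⁅b, c⁆ * a⁻¹ * ⁅a, c⁆ := by
  simp only [commutatorElement_def]; group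

theorem comm_mul_right (a b c : R) : ⁅a, b * c⁆ = ⁅a, b⁆ * (b * ⁅a, c⁆ * b⁻¹) := by
  simp only [commutatorElement_def]; group

theorem comm_inv_symm (a b : R) : ⁅a, b⁆⁻¹ = ⁅b, a⁆ := by
  simp only [commutatorElement_def]; group


/-- The configuration: a normal elementary abelian subgroup `B` of order `p ^ 2` of `R` and an
element `y` not centralizing it. -/
structure Cfg (p : ℕ) (R : Type*) [Group R] where
  B : Subgroup R
  nB : B.Normal
  cB : ∀ a ∈ B, ∀ b ∈ B, a * b = b * a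
  eB : ∀ b ∈ B, b ^ p = 1
  card_B : Nat.card B = p ^ 2
  y : R
  hy : y ∉ Subgroup.centralizer (B : Set R)
  yp : y ^ p = 1

namespace Cfg

variable {p : ℕ} (C : Cfg p R)

/-- the centralizer of `B` -/
def M : Subgroup R := Subgroup.centralizer (C.B : Set R)

/-- the central part of `B` -/
def L : Subgroup R := C.B ⊓ Subgroup.center R

theorem mem_M {x : R} : x ∈ C.M ↔ ∀ b ∈ C.B, b * x = x * b := Subgroup.mem_centralizer_iff

theorem B_le_M : C.B ≤ C.M := by
  intro a ha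
  rw [C.mem_M]
  intro b hb
  exact C.cB b hb a ha

theorem L_le_B : C.L ≤ C.B := inf_le_left

theorem L_le_center : C.L ≤ Subgroup.center R := inf_le_right

theorem L_central {l : R} (hl : l ∈ C.L) (g : R) : g * l = l * g :=
  Subgroup.mem_center_iff.mp (C.L_le_center hl) g

theorem M_normal : C.M.Normal := by
  haveI := C.nB
  exact Subgroup.normal_centralizer

theorem conj_mem_B {b : R} (hb : b ∈ C.B) (g : R) : g * b * g⁻¹ ∈ C.B := C.nB.conj_mem b hb g

theorem conj_mem_B' {b : R} (hb : b ∈ C.B) (g : R) : g⁻¹ * b * g ∈ C.B := by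
  have := C.nB.conj_mem b hb g⁻¹
  rwa [inv_inv] at this

theorem comm_mem_B {b : R} (hb : b ∈ C.B) (g : R) : ⁅g, b⁆ ∈ C.B := by
  rw [commutatorElement_def]
  exact C.B.mul_mem (C.conj_mem_B hb g) (C.B.inv_mem hb)

theorem comm_mem_B' {b : R} (hb : b ∈ C.B) (g : R) : ⁅b, g⁆ ∈ C.B := by
  rw [← comm_inv_symm]
  exact C.B.inv_mem (C.comm_mem_B hb g)


section PGroup

variable [Finite R] [hp : Fact p.Prime]

theorem card_dvd_sq_cases {n : ℕ} (h : n ∣ p ^ 2) : n = 1 ∨ n = p ∨ n = p ^ 2 := by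
  obtain ⟨i, hi, rfl⟩ := (Nat.dvd_prime_pow hp.out).mp h
  interval_cases i
  · left; simp
  · right; left; simp
  · right; right; rfl

theorem B_ne_bot : C.B ≠ ⊥ := by
  intro e
  have h := C.card_B
  rw [e, Subgroup.card_bot] at h
  have : 1 < p ^ 2 := Nat.one_lt_pow (by norm_num) hp.out.one_lt
  omega

theorem comm_top_ne (hR : IsPGroup p R) : ⁅C.B, (⊤ : Subgroup R)⁆ ≠ C.B := by
  intro e
  haveI : Group.IsNilpotent R := hR.isNilpotent
  obtain ⟨n, hn⟩ := nilpotent_iff_lowerCentralSeries.mp (inferInstance : Group.IsNilpotent R)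
  have hle : ∀ k, C.B ≤ (⊤ : Subgroup R).lowerCentralSeries k := by
    intro k
    induction k with
    | zero => exact le_top
    | succ k ih =>
      rw [Subgroup.lowerCentralSeries_succ]
      calc C.B = ⁅C.B, (⊤ : Subgroup R)⁆ := e.symm
        _ ≤ _ := Subgroup.commutator_mono ih le_rfl
  have := hle n
  rw [hn, le_bot_iff] at this
  exact C.B_ne_bot this

theorem comm_top_le_L (hR : IsPGroup p R) : ⁅C.B, (⊤ : Subgroup R)⁆ ≤ C.L := by
  haveI := C.nB
  haveI : Group.IsNilpotent R := hR.isNilpotent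
  have hKB : ⁅C.B, (⊤ : Subgroup R)⁆ ≤ C.B := Subgroup.commutator_le_left _ _
  refine le_inf hKB ?_
  by_cases hK : ⁅C.B, (⊤ : Subgroup R)⁆ = ⊥
  · rw [hK]; exact bot_le
  have hcard : Nat.card ↥⁅C.B, (⊤ : Subgroup R)⁆ = p := by
    have hdvd : Nat.card ↥⁅C.B, (⊤ : Subgroup R)⁆ ∣ p ^ 2 := by
      rw [← C.card_B]; exact Subgroup.card_dvd_of_le hKB
    rcases card_dvd_sq_cases hdvd with h | h | h
    · exact absurd (Subgroup.card_eq_one.mp h) hK
    · exact h
    · exfalso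
      apply C.comm_top_ne hR
      exact Subgroup.eq_of_le_of_card_ge hKB (by rw [h, C.card_B])
  have hne := Cfsg.Agent.Lib.Helper1.normal_inf_center_ne_bot ⁅C.B, (⊤ : Subgroup R)⁆ hK
  obtain ⟨⟨z, hzK, hzZ⟩, hz1'⟩ := Subgroup.ne_bot_iff_exists_ne_one.mp hne
  have hz1 : z ≠ 1 := fun e => hz1' (Subtype.ext e)
  intro k hk
  have hz1K : (⟨z, hzK⟩ : ↥⁅C.B, (⊤ : Subgroup R)⁆) ≠ 1 := fun e => hz1 (congrArg Subtype.val e)
  obtain ⟨i, hi⟩ := mem_zpowers_of_prime_card (g' := (⟨k, hk⟩ : ↥⁅C.B, (⊤ : Subgroup R)⁆)) hcard hz1K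
  have hk' : k = z ^ i := by
    have := congrArg Subtype.val hi
    simpa using this.symm
  rw [hk']
  exact (Subgroup.center R).zpow_mem hzZ i

theorem comm_mem_L (hR : IsPGroup p R) {b : R} (hb : b ∈ C.B) (g : R) : ⁅g, b⁆ ∈ C.L := by
  rw [← comm_inv_symm]
  exact C.L.inv_mem (C.comm_top_le_L hR (Subgroup.commutator_mem_commutator hb (Subgroup.mem_top g)))

theorem comm_mem_L' (hR : IsPGroup p R) {b : R} (hb : b ∈ C.B) (g : R) : ⁅b, g⁆ ∈ C.L :=
  C.comm_top_le_L hR (Subgroup.commutator_mem_commutator hb (Subgroup.mem_top g))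

theorem L_ne_bot (hR : IsPGroup p R) : C.L ≠ ⊥ := by
  haveI := C.nB
  haveI : Group.IsNilpotent R := hR.isNilpotent
  exact Cfsg.Agent.Lib.Helper1.normal_inf_center_ne_bot C.B C.B_ne_bot

theorem L_ne_B : C.L ≠ C.B := by
  intro e
  apply C.hy
  rw [Subgroup.mem_centralizer_iff]
  intro b hb
  have : b ∈ C.L := by rw [e]; exact hb
  exact (C.L_central this C.y).symm

theorem card_L (hR : IsPGroup p R) : Nat.card C.L = p := by
  have hdvd : Nat.card C.L ∣ p ^ 2 := by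
    rw [← C.card_B]; exact Subgroup.card_dvd_of_le C.L_le_B
  rcases card_dvd_sq_cases hdvd with h | h | h
  · exact absurd (Subgroup.card_eq_one.mp h) (C.L_ne_bot hR)
  · exact h
  · exfalso
    apply C.L_ne_B
    exact Subgroup.eq_of_le_of_card_ge C.L_le_B (by rw [h, C.card_B])


theorem exists_not_mem_L : ∃ b ∈ C.B, b ∉ C.L := by
  by_contra h
  push Not at h
  exact C.L_ne_B (le_antisymm C.L_le_B h)

theorem L_sup_zpowers (hR : IsPGroup p R) {b : R} (hb : b ∈ C.B) (hbL : b ∉ C.L) :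
    C.L ⊔ Subgroup.zpowers b = C.B := by
  obtain ⟨hcard, -, -⟩ := Cfsg.Agent.Lib.Helper21.OmegaCent.sup_zpowers_facts (p := p) C.L b
    (C.eB b hb) hbL (fun l hl => C.L_central hl b)
    (fun a ha c _ => (C.L_central ha c).symm) (fun l hl => C.eB l (C.L_le_B hl))
  apply Subgroup.eq_of_le_of_card_ge
  · exact sup_le C.L_le_B (by rw [Subgroup.zpowers_le]; exact hb)
  · rw [hcard, C.card_L hR, C.card_B]; exact le_of_eq (by ring)

theorem mem_M_of_comm (hR : IsPGroup p R) {b : R} (hb : b ∈ C.B) (hbL : b ∉ C.L) {g : R}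
    (hg : g * b = b * g) : g ∈ C.M := by
  have hle : C.B ≤ Subgroup.centralizer ({g} : Set R) := by
    rw [← C.L_sup_zpowers hR hb hbL]
    apply sup_le
    · intro l hl
      rw [Subgroup.mem_centralizer_iff]
      intro x hx
      rw [Set.mem_singleton_iff] at hx
      rw [hx]; exact C.L_central hl g
    · rw [Subgroup.zpowers_le, Subgroup.mem_centralizer_iff]
      intro x hx
      rw [Set.mem_singleton_iff] at hx
      rw [hx]; exact hg
  rw [C.mem_M]
  intro c hc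
  have := hle hc
  rw [Subgroup.mem_centralizer_iff] at this
  exact (this g rfl).symm

theorem mem_L_of_comm_y (hR : IsPGroup p R) {b : R} (hb : b ∈ C.B) (h : C.y * b = b * C.y) :
    b ∈ C.L := by
  by_contra hbL
  exact C.hy (C.mem_M_of_comm hR hb hbL h)

theorem comm_eq_one_iff (a b : R) : ⁅a, b⁆ = 1 ↔ a * b = b * a := by
  rw [commutatorElement_eq_one_iff_commute]; rfl

/-- `r ↦ ⁅r, b⁆` as a homomorphism, for `b ∈ B` -/
def cl (hR : IsPGroup p R) (b : R) (hb : b ∈ C.B) : R →* R where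
  toFun r := ⁅r, b⁆
  map_one' := by simp
  map_mul' r r' := by
    rw [comm_mul_left]
    have h1 := C.comm_mem_L hR hb r'
    have h2 := C.comm_mem_L hR hb r
    rw [C.L_central h1 r, mul_inv_cancel_right]
    exact (C.L_central h1 _).symm

theorem cl_apply (hR : IsPGroup p R) (b : R) (hb : b ∈ C.B) (r : R) : C.cl hR b hb r = ⁅r, b⁆ := rfl

/-- `b ↦ ⁅r, b⁆` as a homomorphism on `B` -/
def cr (hR : IsPGroup p R) (r : R) : C.B →* R where
  toFun b := ⁅r, (b : R)⁆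
  map_one' := by simp
  map_mul' b b' := by
    rw [Subgroup.coe_mul, comm_mul_right]
    have h1 := C.comm_mem_L hR b'.2 r
    rw [C.L_central h1 (b : R), mul_inv_cancel_right]

theorem cr_apply (hR : IsPGroup p R) (r : R) (b : C.B) : C.cr hR r b = ⁅r, (b : R)⁆ := rfl

theorem comm_L_eq_one {l : R} (hl : l ∈ C.L) (g : R) : ⁅g, l⁆ = 1 := by
  rw [comm_eq_one_iff]; exact C.L_central hl g

theorem exists_zpow_mul (hR : IsPGroup p R) (r : R) : ∃ i : ℤ, ∃ w ∈ C.M, r = C.y ^ i * w := by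
  obtain ⟨b, hb, hbL⟩ := C.exists_not_mem_L
  have hz1 : ⁅C.y, b⁆ ≠ 1 := by
    intro h
    rw [comm_eq_one_iff] at h
    exact C.hy (C.mem_M_of_comm hR hb hbL h)
  have hzL : ⁅C.y, b⁆ ∈ C.L := C.comm_mem_L hR hb _
  have hrL : ⁅r, b⁆ ∈ C.L := C.comm_mem_L hR hb _
  have hz1' : (⟨_, hzL⟩ : C.L) ≠ 1 := fun e => hz1 (congrArg Subtype.val e)
  obtain ⟨i, hi⟩ := mem_zpowers_of_prime_card (g' := (⟨_, hrL⟩ : C.L)) (C.card_L hR) hz1'
  have hi' : ⁅C.y, b⁆ ^ i = ⁅r, b⁆ := by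
    have := congrArg Subtype.val hi
    simpa using this
  refine ⟨i, (C.y ^ i)⁻¹ * r, ?_, by group⟩
  apply C.mem_M_of_comm hR hb hbL
  rw [← comm_eq_one_iff, ← C.cl_apply hR b hb, map_mul, map_inv, map_zpow, C.cl_apply, C.cl_apply, hi']
  group

theorem zpow_y_mem_M_iff (hR : IsPGroup p R) (i : ℤ) : C.y ^ i ∈ C.M ↔ (p : ℤ) ∣ i := by
  obtain ⟨b, hb, hbL⟩ := C.exists_not_mem_L
  have hz1 : ⁅C.y, b⁆ ≠ 1 := by
    intro h
    rw [comm_eq_one_iff] at h
    exact C.hy (C.mem_M_of_comm hR hb hbL h)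
  have hzL : ⁅C.y, b⁆ ∈ C.L := C.comm_mem_L hR hb _
  have hzp : ⁅C.y, b⁆ ^ p = 1 := C.eB _ (C.L_le_B hzL)
  have hord : orderOf ⁅C.y, b⁆ = p := orderOf_eq_prime hzp hz1
  constructor
  · intro h
    have h1 : ⁅C.y ^ i, b⁆ = 1 := by
      rw [comm_eq_one_iff]
      exact ((C.mem_M.mp h) b hb).symm
    rw [← C.cl_apply hR b hb, map_zpow, C.cl_apply] at h1
    rw [← hord]
    exact orderOf_dvd_iff_zpow_eq_one.mpr h1
  · rintro ⟨k, rfl⟩
    rw [zpow_mul, zpow_natCast, C.yp, one_zpow]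
    exact C.M.one_mem

end PGroup

end Cfg

end Cfsg.Agent.Lib.Helper20.RkTwo
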