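import Mathlib
import Cfsg.Prelude.Def_CaseTheorems
import Cfsg.Agent.Lib.Helper20.RkTwoA
import Cfsg.Agent.Lib.Helper20.HupA
import Cfsg.Agent.Lib.Helper24.NormalRank

set_option autoImplicit false

namespace Cfsg.Agent.Lib.Helper20.RkTwo

open scoped commutatorElement

variable {R : Type*} [Group R]

/-- a `p`-group (`p` odd) all of whose elements of order dividing `p` lie in a subgroup of order `p`
is cyclic -/
theorem isCyclic_of_pow_mem [Finite R] {p : ℕ} [hp : Fact p.Prime] (hp2 : p ≠ 2)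
    (Q L : Subgroup R) (hQ : IsPGroup p Q) (hL : Nat.card L = p)
    (h : ∀ x ∈ Q, x ^ p = 1 → x ∈ L) : IsCyclic Q := by
  by_contra hnc
  obtain ⟨E, -, ⟨-, hEe⟩, hEc⟩ := Cfsg.Agent.Lib.Helper24.nr_main hp2 hQ hnc
  have hle : E.map Q.subtype ≤ L := by
    rintro _ ⟨e, he, rfl⟩
    apply h _ e.2
    have := hEe e he
    have h2 := congrArg Subtype.val this
    simpa using h2
  have hcard : Nat.card (E.map Q.subtype) = p ^ 2 := by
    rw [Subgroup.card_map_of_injective Q.subtype_injective, hEc]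
  have := Subgroup.card_le_of_le hle
  rw [hcard, hL] at this
  have h1 : 1 < p := hp.out.one_lt
  nlinarith

namespace Cfg

variable {p : ℕ} (C : Cfg p R)

/-- the subgroup `S = B⟨y⟩` -/
def S : Subgroup R := C.B ⊔ Subgroup.zpowers C.y

/-- the part of the normalizer of `S` inside `M` -/
def MS : Subgroup R := C.M ⊓ Subgroup.normalizer (C.S : Set R)

/-- the centralizer of `S` -/
def D : Subgroup R := C.M ⊓ Subgroup.centralizer ({C.y} : Set R)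

theorem B_le_S : C.B ≤ C.S := le_sup_left

theorem y_mem_S : C.y ∈ C.S := Subgroup.mem_sup_right (Subgroup.mem_zpowers _)

theorem mem_S {s : R} : s ∈ C.S ↔ ∃ b ∈ C.B, ∃ i : ℤ, s = b * C.y ^ i := by
  haveI := C.nB
  unfold S
  rw [mem_sup_normal]
  constructor
  · rintro ⟨a, ha, b, ⟨i, rfl⟩, rfl⟩
    exact ⟨a, ha, i, rfl⟩
  · rintro ⟨a, ha, i, rfl⟩
    exact ⟨a, ha, _, ⟨i, rfl⟩, rfl⟩

theorem mem_S' {s : R} : s ∈ C.S ↔ ∃ i : ℤ, ∃ b ∈ C.B, s = C.y ^ i * b := by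
  rw [C.mem_S]
  constructor
  · rintro ⟨b, hb, i, rfl⟩
    refine ⟨i, (C.y ^ i)⁻¹ * b * C.y ^ i, C.conj_mem_B' hb _, by group⟩
  · rintro ⟨i, b, hb, rfl⟩
    refine ⟨C.y ^ i * b * (C.y ^ i)⁻¹, C.conj_mem_B hb _, i, by group⟩

theorem mem_D {d : R} : d ∈ C.D ↔ d ∈ C.M ∧ C.y * d = d * C.y := by
  unfold D
  rw [Subgroup.mem_inf, Subgroup.mem_centralizer_iff]
  constructor
  · rintro ⟨h1, h2⟩
    exact ⟨h1, h2 _ rfl⟩
  · rintro ⟨h1, h2⟩
    refine ⟨h1, ?_⟩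
    intro x hx
    rw [Set.mem_singleton_iff] at hx
    rw [hx]; exact h2

theorem D_comm_S {d : R} (hd : d ∈ C.D) {s : R} (hs : s ∈ C.S) : s * d = d * s := by
  obtain ⟨hdM, hdy⟩ := C.mem_D.mp hd
  obtain ⟨b, hb, i, rfl⟩ := C.mem_S.mp hs
  have h1 : b * d = d * b := (C.mem_M.mp hdM) b hb
  have h2 : C.y ^ i * d = d * C.y ^ i := ((show Commute C.y d from hdy).zpow_left i).eq
  calc b * C.y ^ i * d = b * (C.y ^ i * d) := by group
    _ = b * (d * C.y ^ i) := by rw [h2]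
    _ = (b * d) * C.y ^ i := by group
    _ = d * b * C.y ^ i := by rw [h1]
    _ = d * (b * C.y ^ i) := by group

theorem D_le_MS : C.D ≤ C.MS := by
  intro d hd
  refine ⟨(C.mem_D.mp hd).1, ?_⟩
  show d ∈ Subgroup.normalizer (C.S : Set R)
  rw [Subgroup.mem_normalizer_iff]
  intro s
  constructor
  · intro hs
    have := C.D_comm_S hd hs
    have e : d * s * d⁻¹ = s := by rw [← this]; group
    rw [e]; exact hs
  · intro hs
    have := C.D_comm_S (C.D.inv_mem hd) hs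
    have e : s = d⁻¹ * (d * s * d⁻¹) * d := by group
    rw [e, ← this]
    have e2 : d * s * d⁻¹ * d⁻¹ * d = d * s * d⁻¹ := by group
    rw [e2]; exact hs

theorem S_le_normalizer : C.S ≤ Subgroup.normalizer (C.S : Set R) := Subgroup.le_normalizer

theorem B_le_MS : C.B ≤ C.MS := fun _ hb => ⟨C.B_le_M hb, C.S_le_normalizer (C.B_le_S hb)⟩

section PGroup

variable [Finite R] [hp : Fact p.Prime]

theorem S_inf_M (hR : IsPGroup p R) {s : R} (hs : s ∈ C.S) (hsM : s ∈ C.M) : s ∈ C.B := by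
  obtain ⟨b, hb, i, rfl⟩ := C.mem_S.mp hs
  have h1 : C.y ^ i ∈ C.M := by
    have := C.M.mul_mem (C.M.inv_mem (C.B_le_M hb)) hsM
    rwa [inv_mul_cancel_left] at this
  obtain ⟨k, rfl⟩ := (C.zpow_y_mem_M_iff hR i).mp h1
  rw [zpow_mul, zpow_natCast, C.yp, one_zpow, mul_one]
  exact hb

theorem comm_mem_B_of_MS (hR : IsPGroup p R) {s w : R} (hs : s ∈ C.S) (hw : w ∈ C.MS) :
    ⁅s, w⁆ ∈ C.B := by
  have := C.M_normal
  apply C.S_inf_M hR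
  · rw [commutatorElement_def]
    have h1 : w * s⁻¹ * w⁻¹ ∈ C.S := (Subgroup.mem_normalizer_iff.mp hw.2 s⁻¹).mp (C.S.inv_mem hs)
    have : s * w * s⁻¹ * w⁻¹ = s * (w * s⁻¹ * w⁻¹) := by group
    rw [this]
    exact C.S.mul_mem hs h1
  · rw [commutatorElement_def]
    have h1 : s * w * s⁻¹ ∈ C.M := this.conj_mem w hw.1 s
    exact C.M.mul_mem h1 (C.M.inv_mem hw.1)

theorem mem_B_of_pow (hrk : Cfsg.PRankLE p 2 R) {w : R} (hw : w ∈ C.M) (hwp : w ^ p = 1) :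
    w ∈ C.B := by
  by_contra hwB
  obtain ⟨hcard, hcomm, hexp⟩ := Cfsg.Agent.Lib.Helper21.OmegaCent.sup_zpowers_facts (p := p) C.B w
    hwp hwB (fun b hb => ((C.mem_M.mp hw) b hb).symm) C.cB C.eB
  have hc : IsMulCommutative ↥(C.B ⊔ Subgroup.zpowers w) :=
    ⟨⟨fun a b => Subtype.ext (hcomm a a.2 b b.2)⟩⟩
  have := hrk _ hc hexp
  rw [hcard, C.card_B] at this
  have h1 : 1 < p := hp.out.one_lt
  nlinarith [pow_pos hp.out.pos 2]

theorem norm_pow (hR : IsPGroup p R) (hp3 : 3 < p) {s w : R} (hs : s ∈ C.S) (hsp : s ^ p = 1)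
    (hw : w ∈ C.MS) : (s * w) ^ p = w ^ p := by
  have hm1 : w⁻¹ * s⁻¹ * w * s ∈ C.B := by
    have h := C.comm_mem_B_of_MS hR (C.S.inv_mem hs) (C.MS.inv_mem hw)
    have e : w⁻¹ * s⁻¹ * w * s = ⁅s⁻¹, w⁻¹⁆⁻¹ := by
      rw [commutatorElement_def]; group
    rw [e]; exact C.B.inv_mem h
  obtain ⟨m₁, hm₁⟩ : ∃ m₁, m₁ = w⁻¹ * s⁻¹ * w * s := ⟨_, rfl⟩
  rw [← hm₁] at hm1
  have hm2 : m₁⁻¹ * s⁻¹ * m₁ * s ∈ C.L := by
    have h := C.comm_mem_L' hR (C.B.inv_mem hm1) s⁻¹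
    have e : m₁⁻¹ * s⁻¹ * m₁ * s = ⁅m₁⁻¹, s⁻¹⁆ := by
      rw [commutatorElement_def]; group
    rw [e]; exact h
  obtain ⟨m₂, hm₂⟩ : ∃ m₂, m₂ = m₁⁻¹ * s⁻¹ * m₁ * s := ⟨_, rfl⟩
  rw [← hm₂] at hm2
  have h1 : s⁻¹ * w * s = w * m₁ := by rw [hm₁]; group
  have h2 : s⁻¹ * m₁ * s = m₁ * m₂ := by rw [hm₂]; group
  have h3 : s⁻¹ * m₂ * s = m₂ := by
    rw [mul_assoc, ← C.L_central hm2 s, ← mul_assoc, inv_mul_cancel, one_mul]
  have c01 : Commute w m₁ := ((C.mem_M.mp hw.1) m₁ hm1).symm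
  have c02 : Commute w m₂ := C.L_central hm2 w
  have c12 : Commute m₁ m₂ := C.L_central hm2 m₁
  rw [Cfsg.Agent.Lib.Helper20.Hup.norm_formula s w m₁ m₂ h1 h2 h3 c01 c02 c12 p, hsp, one_mul]
  have hp2 : (2 : ℕ) < p := by omega
  obtain ⟨k2, hk2⟩ := hp.out.dvd_choose_self (by norm_num : (2 : ℕ) ≠ 0) hp2
  obtain ⟨k3, hk3⟩ := hp.out.dvd_choose_self (by norm_num : (3 : ℕ) ≠ 0) hp3
  rw [hk2, hk3, pow_mul, pow_mul, C.eB m₁ hm1, C.eB m₂ (C.L_le_B hm2), one_pow, one_pow, mul_one,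
    mul_one]

theorem zpow_y_pow (i : ℤ) : (C.y ^ i) ^ p = 1 := by
  rw [← zpow_natCast, ← zpow_mul, mul_comm, zpow_mul, zpow_natCast, C.yp, one_zpow]

theorem S_exp (hR : IsPGroup p R) (hp3 : 3 < p) {s : R} (hs : s ∈ C.S) : s ^ p = 1 := by
  obtain ⟨i, b, hb, rfl⟩ := C.mem_S'.mp hs
  rw [C.norm_pow hR hp3 (C.S.zpow_mem C.y_mem_S i) (C.zpow_y_pow i) (C.B_le_MS hb)]
  exact C.eB b hb

theorem mem_S_of_pow_of_normalizer (hR : IsPGroup p R) (hp3 : 3 < p) (hrk : Cfsg.PRankLE p 2 R)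
    {h : R} (hh : h ∈ Subgroup.normalizer (C.S : Set R)) (hhp : h ^ p = 1) : h ∈ C.S := by
  obtain ⟨i, w, hw, rfl⟩ := C.exists_zpow_mul hR h
  have hyS : C.y ^ i ∈ C.S := C.S.zpow_mem C.y_mem_S i
  have hwN : w ∈ Subgroup.normalizer (C.S : Set R) := by
    have := (Subgroup.normalizer (C.S : Set R)).mul_mem
      ((Subgroup.normalizer (C.S : Set R)).inv_mem (C.S_le_normalizer hyS)) hh
    rwa [inv_mul_cancel_left] at this
  have hwMS : w ∈ C.MS := ⟨hw, hwN⟩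
  rw [C.norm_pow hR hp3 hyS (C.zpow_y_pow i) hwMS] at hhp
  exact C.S.mul_mem hyS (C.B_le_S (C.mem_B_of_pow hrk hw hhp))

theorem mem_L_of_mem_D_pow (hR : IsPGroup p R) (hrk : Cfsg.PRankLE p 2 R) {d : R} (hd : d ∈ C.D)
    (hdp : d ^ p = 1) : d ∈ C.L := by
  obtain ⟨hdM, hdy⟩ := C.mem_D.mp hd
  exact C.mem_L_of_comm_y hR (C.mem_B_of_pow hrk hdM hdp) hdy

theorem D_cyclic (hR : IsPGroup p R) (hp2 : p ≠ 2) (hrk : Cfsg.PRankLE p 2 R) : IsCyclic C.D :=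
  isCyclic_of_pow_mem hp2 C.D C.L (hR.to_subgroup _) (C.card_L hR)
    (fun _ hx hxp => C.mem_L_of_mem_D_pow hR hrk hx hxp)

theorem L_le_D : C.L ≤ C.D := by
  intro l hl
  rw [C.mem_D]
  exact ⟨C.B_le_M (C.L_le_B hl), C.L_central hl _⟩

/-- `w ↦ ⁅y, w⁆` as a homomorphism on `MS` -/
def theta (hR : IsPGroup p R) : C.MS →* R where
  toFun w := ⁅C.y, (w : R)⁆
  map_one' := by simp
  map_mul' w w' := by
    rw [Subgroup.coe_mul, comm_mul_right]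
    have h1 := C.comm_mem_B_of_MS hR C.y_mem_S w'.2
    have h2 : (w : R) * ⁅C.y, (w' : R)⁆ = ⁅C.y, (w' : R)⁆ * w := ((C.mem_M.mp w.2.1) _ h1).symm
    rw [h2, mul_inv_cancel_right]

theorem theta_apply (hR : IsPGroup p R) (w : C.MS) : C.theta hR w = ⁅C.y, (w : R)⁆ := rfl

theorem theta_mem_B (hR : IsPGroup p R) (w : C.MS) : C.theta hR w ∈ C.B :=
  C.comm_mem_B_of_MS hR C.y_mem_S w.2

theorem theta_eq_one_iff (hR : IsPGroup p R) (w : C.MS) : C.theta hR w = 1 ↔ (w : R) ∈ C.D := by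
  rw [C.theta_apply, comm_eq_one_iff, C.mem_D]
  constructor
  · intro h; exact ⟨w.2.1, h⟩
  · intro h; exact h.2

end PGroup

end Cfg

end Cfsg.Agent.Lib.Helper20.RkTwo
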