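import Mathlib
import Cfsg.Agent.Lib.Helper20.RkTwoB
import Cfsg.Agent.Lib.Helper20.HupG

set_option autoImplicit false

namespace Cfsg.Agent.Lib.Helper20.RkTwo

open scoped commutatorElement

variable {R : Type*} [Group R]

/-- the structural conclusion: a central product of a nonabelian group of order `p ^ 3` and
exponent `p` with a cyclic group -/
def Concl (p : ℕ) (R : Type*) [Group R] : Prop :=
  ∃ R₁ R₂ : Subgroup R, R₁ ⊔ R₂ = ⊤ ∧ (∀ a ∈ R₁, ∀ b ∈ R₂, a * b = b * a) ∧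
    ¬ IsMulCommutative R₁ ∧ Nat.card R₁ = p ^ 3 ∧ Monoid.exponent R₁ = p ∧ IsCyclic R₂ ∧
    Subgroup.closure {x : R | x ∈ R₂ ∧ x ^ p = 1} = ⁅R₁, R₁⁆

namespace Cfg

variable {p : ℕ} (C : Cfg p R)

variable [Finite R] [hp : Fact p.Prime]

theorem y_not_mem_M : C.y ∉ C.M := C.hy

theorem exists_gen (hR : IsPGroup p R) : ∃ b ∈ C.B, b ∉ C.L ∧ ⁅C.y, b⁆ ≠ 1 ∧ ⁅C.y, b⁆ ∈ C.L := by
  obtain ⟨b, hb, hbL⟩ := C.exists_not_mem_L
  refine ⟨b, hb, hbL, ?_, C.comm_mem_L hR hb _⟩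
  intro h
  rw [comm_eq_one_iff] at h
  exact C.hy (C.mem_M_of_comm hR hb hbL h)

/-- every element of `L` is `⁅y, b⁆` for some `b ∈ B` -/
theorem exists_comm_eq (hR : IsPGroup p R) {l : R} (hl : l ∈ C.L) : ∃ b ∈ C.B, ⁅C.y, b⁆ = l := by
  obtain ⟨b, hb, -, hz1, hzL⟩ := C.exists_gen hR
  have hz1' : (⟨_, hzL⟩ : C.L) ≠ 1 := fun e => hz1 (congrArg Subtype.val e)
  obtain ⟨i, hi⟩ := mem_zpowers_of_prime_card (g' := (⟨l, hl⟩ : C.L)) (C.card_L hR) hz1'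
  have hi' : ⁅C.y, b⁆ ^ i = l := by
    have := congrArg Subtype.val hi
    simpa using this
  refine ⟨b ^ i, C.B.zpow_mem hb i, ?_⟩
  have := map_zpow (C.cr hR C.y) (⟨b, hb⟩ : C.B) i
  rw [C.cr_apply, C.cr_apply] at this
  rw [← hi', ← this]
  simp

theorem card_S (hR : IsPGroup p R) : Nat.card C.S = p ^ 3 := by
  obtain ⟨b, hb, hbL, hz1, hzL⟩ := C.exists_gen hR
  have h := Cfsg.Agent.Lib.Helper20.Hup.card_map_mul_card_ker (C.cl hR b hb) C.S
  have hker : ((C.cl hR b hb).comp C.S.subtype).ker.map C.S.subtype = C.B := by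
    ext x
    constructor
    · rintro ⟨k, hk, rfl⟩
      replace hk : ((C.cl hR b hb).comp C.S.subtype) k = 1 := MonoidHom.mem_ker.mp hk
      rw [MonoidHom.comp_apply, C.cl_apply, comm_eq_one_iff] at hk
      exact C.S_inf_M hR k.2 (C.mem_M_of_comm hR hb hbL hk)
    · intro hx
      refine ⟨⟨x, C.B_le_S hx⟩, ?_, rfl⟩
      apply MonoidHom.mem_ker.mpr
      rw [MonoidHom.comp_apply, C.cl_apply, comm_eq_one_iff]
      exact C.cB x hx b hb
  have hkc : Nat.card ((C.cl hR b hb).comp C.S.subtype).ker = p ^ 2 := by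
    rw [← Subgroup.card_map_of_injective C.S.subtype_injective, hker, C.card_B]
  have hle : C.S.map (C.cl hR b hb) ≤ C.L := by
    rintro _ ⟨s, -, rfl⟩
    exact C.comm_mem_L hR hb s
  have hne : C.S.map (C.cl hR b hb) ≠ ⊥ := by
    intro e
    have : ⁅C.y, b⁆ ∈ C.S.map (C.cl hR b hb) := ⟨C.y, C.y_mem_S, rfl⟩
    rw [e, Subgroup.mem_bot] at this
    exact hz1 this
  have hmc : Nat.card (C.S.map (C.cl hR b hb)) = p := by
    have hdvd := Subgroup.card_dvd_of_le hle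
    rw [C.card_L hR] at hdvd
    rcases (Nat.dvd_prime hp.out).mp hdvd with h1 | h1
    · exact absurd (Subgroup.card_eq_one.mp h1) hne
    · exact h1
  rw [hkc, hmc] at h
  rw [← h]; ring

theorem S_not_comm (hR : IsPGroup p R) : ¬ IsMulCommutative C.S := by
  obtain ⟨b, hb, -, hz1, -⟩ := C.exists_gen hR
  intro hc
  apply hz1
  rw [comm_eq_one_iff]
  exact congrArg Subtype.val (hc.is_comm.comm ⟨C.y, C.y_mem_S⟩ ⟨b, C.B_le_S hb⟩)

theorem exponent_S (hR : IsPGroup p R) (hp3 : 3 < p) : Monoid.exponent C.S = p := by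
  have hdvd : Monoid.exponent C.S ∣ p := by
    apply Monoid.exponent_dvd_of_forall_pow_eq_one
    intro s
    apply Subtype.ext
    have := C.S_exp hR hp3 s.2
    simpa using this
  rcases (Nat.dvd_prime hp.out).mp hdvd with h1 | h1
  · exfalso
    rw [Monoid.exp_eq_one_iff] at h1
    have h2 := Nat.card_eq_one_iff_unique.mpr ⟨h1, ⟨1⟩⟩
    rw [C.card_S hR] at h2
    have : 1 < p ^ 3 := Nat.one_lt_pow (by norm_num) hp.out.one_lt
    omega
  · exact h1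

theorem comm_S_le_L (hR : IsPGroup p R) : ⁅C.S, C.S⁆ ≤ C.L := by
  rw [Subgroup.commutator_le]
  intro s hs s' hs'
  obtain ⟨b, hb, i, rfl⟩ := C.mem_S.mp hs
  obtain ⟨b', hb', j, rfl⟩ := C.mem_S.mp hs'
  rw [comm_mul_left]
  have h1 : ⁅b, b' * C.y ^ j⁆ ∈ C.L := C.comm_mem_L' hR hb _
  have h2 : ⁅C.y ^ i, b' * C.y ^ j⁆ ∈ C.L := by
    rw [comm_mul_right]
    have e : ⁅C.y ^ i, C.y ^ j⁆ = 1 := by
      rw [comm_eq_one_iff, ← zpow_add, ← zpow_add, add_comm]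
    rw [e, mul_one, mul_inv_cancel, mul_one]
    exact C.comm_mem_L hR hb' _
  rw [C.L_central h2 b, mul_inv_cancel_right]
  exact C.L.mul_mem h2 h1

theorem L_le_comm_S (hR : IsPGroup p R) : C.L ≤ ⁅C.S, C.S⁆ := by
  intro l hl
  obtain ⟨b, hb, rfl⟩ := C.exists_comm_eq hR hl
  exact Subgroup.commutator_mem_commutator C.y_mem_S (C.B_le_S hb)

theorem closure_D (hR : IsPGroup p R) (hrk : Cfsg.PRankLE p 2 R) :
    Subgroup.closure {x : R | x ∈ C.D ∧ x ^ p = 1} = C.L := by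
  apply le_antisymm
  · rw [Subgroup.closure_le]
    rintro x ⟨hx, hxp⟩
    exact C.mem_L_of_mem_D_pow hR hrk hx hxp
  · intro l hl
    exact Subgroup.subset_closure ⟨C.L_le_D hl, C.eB l (C.L_le_B hl)⟩

/-- the subgroup `N = S D` -/
def N : Subgroup R := C.S ⊔ C.D

theorem mem_N {n : R} : n ∈ C.N ↔ ∃ s ∈ C.S, ∃ d ∈ C.D, n = s * d :=
  mem_sup_of_commute C.S C.D (fun _ ha _ hb => C.D_comm_S hb ha) n

theorem mem_S_of_mem_N_pow (hR : IsPGroup p R) (hrk : Cfsg.PRankLE p 2 R) (hp3 : 3 < p) {n : R}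
    (hn : n ∈ C.N) (hnp : n ^ p = 1) : n ∈ C.S := by
  obtain ⟨s, hs, d, hd, rfl⟩ := C.mem_N.mp hn
  have hc : Commute s d := C.D_comm_S hd hs
  rw [hc.mul_pow, C.S_exp hR hp3 hs, one_mul] at hnp
  exact C.S.mul_mem hs (C.B_le_S (C.L_le_B (C.mem_L_of_mem_D_pow hR hrk hd hnp)))

theorem conj_mem_S_of_normalizer_N (hR : IsPGroup p R) (hrk : Cfsg.PRankLE p 2 R) (hp3 : 3 < p)
    {g : R} (hg : g ∈ Subgroup.normalizer (C.N : Set R)) {s : R} (hs : s ∈ C.S) :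
    g * s * g⁻¹ ∈ C.S := by
  apply C.mem_S_of_mem_N_pow hR hrk hp3
  · exact (Subgroup.mem_normalizer_iff.mp hg s).mp (Subgroup.mem_sup_left hs)
  · rw [conj_pow, C.S_exp hR hp3 hs]; group

theorem normalizer_N_le (hR : IsPGroup p R) (hrk : Cfsg.PRankLE p 2 R) (hp3 : 3 < p)
    (hI : ∀ w ∈ C.MS, ⁅C.y, w⁆ ∈ C.L) : Subgroup.normalizer (C.N : Set R) ≤ C.N := by
  intro g hg
  have hgS : g ∈ Subgroup.normalizer (C.S : Set R) := by
    rw [Subgroup.mem_normalizer_iff]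
    intro s
    constructor
    · intro hs; exact C.conj_mem_S_of_normalizer_N hR hrk hp3 hg hs
    · intro hs
      have := C.conj_mem_S_of_normalizer_N hR hrk hp3
        ((Subgroup.normalizer (C.N : Set R)).inv_mem hg) hs
      have e : g⁻¹ * (g * s * g⁻¹) * g⁻¹⁻¹ = s := by group
      rwa [e] at this
  obtain ⟨i, w, hw, rfl⟩ := C.exists_zpow_mul hR g
  have hyS : C.y ^ i ∈ C.S := C.S.zpow_mem C.y_mem_S i
  have hwN : w ∈ Subgroup.normalizer (C.S : Set R) := by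
    have := (Subgroup.normalizer (C.S : Set R)).mul_mem
      ((Subgroup.normalizer (C.S : Set R)).inv_mem (C.S_le_normalizer hyS)) hgS
    rwa [inv_mul_cancel_left] at this
  have hwMS : w ∈ C.MS := ⟨hw, hwN⟩
  obtain ⟨b, hb, hbw⟩ := C.exists_comm_eq hR (hI w hwMS)
  have hd : b⁻¹ * w ∈ C.D := by
    have hmem : b⁻¹ * w ∈ C.MS := C.MS.mul_mem (C.MS.inv_mem (C.B_le_MS hb)) hwMS
    have := (C.theta_eq_one_iff hR ⟨_, hmem⟩).mp (by
      have e : (⟨b⁻¹ * w, hmem⟩ : C.MS) = (⟨b, C.B_le_MS hb⟩ : C.MS)⁻¹ * ⟨w, hwMS⟩ := rfl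
      rw [e, map_mul, map_inv, C.theta_apply, C.theta_apply]
      simp only [hbw]
      group)
    exact this
  rw [C.mem_N]
  refine ⟨C.y ^ i * b, C.S.mul_mem hyS (C.B_le_S hb), b⁻¹ * w, hd, by group⟩

theorem N_eq_top (hR : IsPGroup p R) (hrk : Cfsg.PRankLE p 2 R) (hp3 : 3 < p)
    (hI : ∀ w ∈ C.MS, ⁅C.y, w⁆ ∈ C.L) : C.N = ⊤ := by
  haveI : Group.IsNilpotent R := hR.isNilpotent
  have hnc := Group.normalizerCondition_of_isNilpotent (G := R)
  rw [normalizerCondition_iff_only_full_group_self_normalizing] at hnc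
  apply hnc
  exact le_antisymm (C.normalizer_N_le hR hrk hp3 hI) Subgroup.le_normalizer

theorem concl_of_caseI (hR : IsPGroup p R) (hrk : Cfsg.PRankLE p 2 R) (hp3 : 3 < p)
    (hI : ∀ w ∈ C.MS, ⁅C.y, w⁆ ∈ C.L) : Concl p R := by
  have hp2 : p ≠ 2 := by omega
  refine ⟨C.S, C.D, C.N_eq_top hR hrk hp3 hI, fun a ha b hb => C.D_comm_S hb ha, C.S_not_comm hR,
    C.card_S hR, C.exponent_S hR hp3, C.D_cyclic hR hp2 hrk, ?_⟩
  rw [C.closure_D hR hrk]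
  exact le_antisymm (C.L_le_comm_S hR) (C.comm_S_le_L hR)

end Cfg

end Cfsg.Agent.Lib.Helper20.RkTwo
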