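import Mathlib
import Cfsg.Agent.Lib.Helper20.RkTwoC
import Cfsg.Agent.Lib.Helper20.HupK

set_option autoImplicit false

namespace Cfsg.Agent.Lib.Helper20.RkTwo

open scoped commutatorElement

variable {R : Type*} [Group R]

/-- powers of an element of order `p` outside a subgroup -/
theorem zpow_mem_iff_dvd {p : ℕ} [hp : Fact p.Prime] (H : Subgroup R) {x : R} (hxp : x ^ p = 1)
    (hx : x ∉ H) (j : ℤ) : x ^ j ∈ H ↔ (p : ℤ) ∣ j := by
  constructor
  · intro h
    by_contra hdiv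
    have hcop : IsCoprime (p : ℤ) j := by
      rw [Int.isCoprime_iff_gcd_eq_one]
      have h1 : ¬ p ∣ j.natAbs := fun h => hdiv (Int.natCast_dvd.mpr h)
      have := (Nat.Prime.coprime_iff_not_dvd hp.out).mpr h1
      simpa [Int.gcd] using this
    obtain ⟨u, v, huv⟩ := hcop
    apply hx
    have e : x = (x ^ j) ^ v := by
      calc x = x ^ (u * (p : ℤ) + v * j) := by rw [huv, zpow_one]
        _ = (x ^ j) ^ v := by
          rw [zpow_add, mul_comm u, zpow_mul, zpow_natCast, hxp, one_zpow, one_mul, mul_comm v,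
            zpow_mul]
    rw [e]
    exact H.zpow_mem h v
  · rintro ⟨k, rfl⟩
    rw [zpow_mul, zpow_natCast, hxp, one_zpow]
    exact H.one_mem

/-- the second configuration: an element `m` of `MS` with `⁅y, m⁆ ∉ L` -/
structure Cfg2 (p : ℕ) (R : Type*) [Group R] extends Cfg p R where
  m : R
  hm : m ∈ toCfg.MS
  hbL : ⁅toCfg.y, m⁆ ∉ toCfg.L

namespace Cfg2

variable {p : ℕ} (C : Cfg2 p R)

/-- the element `b = ⁅y, m⁆` -/
def b : R := ⁅C.y, C.m⁆

variable [Finite R] [hp : Fact p.Prime]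

theorem b_mem_B (hR : IsPGroup p R) : C.b ∈ C.B := C.comm_mem_B_of_MS hR C.y_mem_S C.hm

theorem b_not_mem_L : C.b ∉ C.L := C.hbL

theorem theta_m (hR : IsPGroup p R) : C.theta hR ⟨C.m, C.hm⟩ = C.b := rfl

theorem m_mem_M : C.m ∈ C.M := C.hm.1

theorem m_not_mem_D : C.m ∉ C.D := by
  intro h
  obtain ⟨-, h2⟩ := C.mem_D.mp h
  rw [← Cfg.comm_eq_one_iff] at h2
  apply C.hbL
  rw [h2]; exact C.L.one_mem

theorem m_pow_mem_D (hR : IsPGroup p R) : C.m ^ p ∈ C.D := by
  have hmem : C.m ^ p ∈ C.MS := C.MS.pow_mem C.hm p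
  apply (C.theta_eq_one_iff hR ⟨_, hmem⟩).mp
  have e : (⟨C.m ^ p, hmem⟩ : C.MS) = (⟨C.m, C.hm⟩ : C.MS) ^ p := rfl
  rw [e, map_pow, C.theta_m hR]
  exact C.eB _ (C.b_mem_B hR)

/-- the preimage of `⟨b⟩` under `θ`, as a subgroup of `R` -/
def T (hR : IsPGroup p R) : Subgroup R :=
  ((Subgroup.zpowers C.b).comap (C.theta hR)).map C.MS.subtype

theorem mem_T (hR : IsPGroup p R) {x : R} :
    x ∈ C.T hR ↔ x ∈ C.MS ∧ ⁅C.y, x⁆ ∈ Subgroup.zpowers C.b := by
  unfold T
  constructor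
  · rintro ⟨w, hw, rfl⟩
    exact ⟨w.2, hw⟩
  · rintro ⟨h1, h2⟩
    exact ⟨⟨x, h1⟩, h2, rfl⟩

/-- the subgroup `E = D⟨m⟩` -/
def E : Subgroup R := C.D ⊔ Subgroup.zpowers C.m

theorem E_le_T (hR : IsPGroup p R) : C.E ≤ C.T hR := by
  unfold E
  apply sup_le
  · intro d hd
    rw [C.mem_T]
    refine ⟨C.D_le_MS hd, ?_⟩
    have := (C.theta_eq_one_iff hR ⟨d, C.D_le_MS hd⟩).mpr hd
    rw [C.theta_apply] at this
    rw [this]; exact Subgroup.one_mem _
  · rw [Subgroup.zpowers_le, C.mem_T]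
    exact ⟨C.hm, Subgroup.mem_zpowers _⟩

theorem mem_L_of_mem_E_pow (hR : IsPGroup p R) (hrk : Cfsg.PRankLE p 2 R) {e : R} (he : e ∈ C.E)
    (hep : e ^ p = 1) : e ∈ C.L := by
  obtain ⟨heMS, ⟨j, hj⟩⟩ := (C.mem_T hR).mp (C.E_le_T hR he)
  have heB : e ∈ C.B := C.mem_B_of_pow hrk heMS.1 hep
  have hL : ⁅C.y, e⁆ ∈ C.L := C.comm_mem_L hR heB _
  have hj' : C.b ^ j = ⁅C.y, e⁆ := hj
  rw [← hj'] at hL
  have hdvd := (zpow_mem_iff_dvd C.L (C.eB _ (C.b_mem_B hR)) C.b_not_mem_L j).mp hL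
  obtain ⟨k, rfl⟩ := hdvd
  rw [zpow_mul, zpow_natCast, C.eB _ (C.b_mem_B hR), one_zpow] at hj'
  have hc : C.y * e = e * C.y := (Cfg.comm_eq_one_iff _ _).mp hj'.symm
  exact C.mem_L_of_comm_y hR heB hc

theorem E_cyclic (hR : IsPGroup p R) (hp2 : p ≠ 2) (hrk : Cfsg.PRankLE p 2 R) : IsCyclic C.E :=
  isCyclic_of_pow_mem hp2 C.E C.L (hR.to_subgroup _) (C.card_L hR)
    (fun _ hx hxp => C.mem_L_of_mem_E_pow hR hrk hx hxp)

theorem E_comm (hR : IsPGroup p R) (hp2 : p ≠ 2) (hrk : Cfsg.PRankLE p 2 R) {a c : R}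
    (ha : a ∈ C.E) (hc : c ∈ C.E) : a * c = c * a := by
  have := C.E_cyclic hR hp2 hrk
  let _ : CommGroup C.E := IsCyclic.commGroup
  have := mul_comm (⟨a, ha⟩ : C.E) ⟨c, hc⟩
  exact congrArg Subtype.val this

theorem D_le_zpowers_m (hR : IsPGroup p R) (hp2 : p ≠ 2) (hrk : Cfsg.PRankLE p 2 R) :
    C.D ≤ Subgroup.zpowers C.m := by
  have hcyc := C.E_cyclic hR hp2 hrk
  obtain ⟨g, hg⟩ := hcyc.exists_generator
  obtain ⟨n, hn⟩ := IsPGroup.iff_card.mp (hR.to_subgroup C.E)
  have hordg : orderOf g = p ^ n := by rw [orderOf_eq_card_of_forall_mem_zpowers hg, hn]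
  have hDE : C.D ≤ C.E := le_sup_left
  have hmE : C.m ∈ C.E := Subgroup.mem_sup_right (Subgroup.mem_zpowers _)
  have hn1 : 1 ≤ n := by
    rcases Nat.eq_zero_or_pos n with h0 | h0
    · exfalso
      rw [h0, pow_zero] at hn
      have hbot : C.E = ⊥ := Subgroup.card_eq_one.mp hn
      have : C.m ∈ (⊥ : Subgroup R) := hbot ▸ hmE
      rw [Subgroup.mem_bot] at this
      apply C.m_not_mem_D
      rw [this]; exact C.D.one_mem
    · exact h0
  -- order of `m` is the full `p ^ n`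
  have hordm : orderOf C.m = p ^ n := by
    obtain ⟨k, hk⟩ := (IsPGroup.iff_orderOf.mp hR) C.m
    have hkn : k ≤ n := by
      have h1 : orderOf C.m ∣ Nat.card C.E := by
        have := orderOf_dvd_natCard (⟨C.m, hmE⟩ : C.E)
        rwa [Subgroup.orderOf_mk] at this
      rw [hk, hn] at h1
      exact (Nat.pow_dvd_pow_iff_le_right hp.out.one_lt).mp h1
    rcases Nat.lt_or_ge k n with hlt | hge
    · exfalso
      -- every element of `E` is killed by `p ^ (n - 1)`
      have hDcard : Nat.card C.D ∣ p ^ (n - 1) := by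
        have h1 : Nat.card C.D ∣ p ^ n := by rw [← hn]; exact Subgroup.card_dvd_of_le hDE
        obtain ⟨i, hi, hi'⟩ := (Nat.dvd_prime_pow hp.out).mp h1
        rw [hi']
        apply pow_dvd_pow
        by_contra hlt'
        have hin : i = n := by omega
        apply C.m_not_mem_D
        have : C.D = C.E := Subgroup.eq_of_le_of_card_ge hDE (by rw [hi', hin, hn])
        rw [this]; exact hmE
      let K : Subgroup R :=
        { carrier := {x | x ∈ C.E ∧ x ^ (p ^ (n - 1)) = 1}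
          one_mem' := ⟨C.E.one_mem, one_pow _⟩
          mul_mem' := by
            rintro a c ⟨ha, hap⟩ ⟨hc, hcp⟩
            refine ⟨C.E.mul_mem ha hc, ?_⟩
            have hcomm : Commute a c := C.E_comm hR hp2 hrk ha hc
            rw [hcomm.mul_pow, hap, hcp, one_mul]
          inv_mem' := by
            rintro a ⟨ha, hap⟩
            exact ⟨C.E.inv_mem ha, by rw [inv_pow, hap, inv_one]⟩ }
      have hEK : C.E ≤ K := by
        unfold E
        apply sup_le
        · intro d hd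
          refine ⟨hDE hd, ?_⟩
          obtain ⟨c, hc⟩ := hDcard
          have h1 : d ^ Nat.card C.D = 1 := by
            have := pow_card_eq_one' (G := C.D) (x := ⟨d, hd⟩)
            have h2 := congrArg Subtype.val this
            rw [Subgroup.coe_pow, Subgroup.coe_one] at h2
            exact h2
          rw [hc, pow_mul, h1, one_pow]
        · rw [Subgroup.zpowers_le]
          refine ⟨hmE, ?_⟩
          have : p ^ k ∣ p ^ (n - 1) := pow_dvd_pow p (by omega)
          rw [← hk] at this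
          exact orderOf_dvd_iff_pow_eq_one.mp this
      have hgK := hEK g.2
      have hg1 : (g : R) ^ (p ^ (n - 1)) = 1 := hgK.2
      have hg2 : g ^ (p ^ (n - 1)) = 1 := Subtype.ext (by simpa using hg1)
      have := orderOf_dvd_of_pow_eq_one hg2
      rw [hordg] at this
      have := (Nat.pow_dvd_pow_iff_le_right hp.out.one_lt).mp this
      omega
    · have : k = n := le_antisymm hkn hge
      rw [hk, this]
  have hcard : Nat.card (Subgroup.zpowers C.m) = Nat.card C.E := by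
    rw [Nat.card_zpowers, hordm, hn]
  have hle : Subgroup.zpowers C.m ≤ C.E := by rw [Subgroup.zpowers_le]; exact hmE
  have heq : Subgroup.zpowers C.m = C.E := Subgroup.eq_of_le_of_card_ge hle (by rw [hcard])
  rw [heq]; exact hDE

end Cfg2

end Cfsg.Agent.Lib.Helper20.RkTwo
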