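import Mathlib
import Cfsg.Agent.Lib.Helper20.RkTwoD

set_option autoImplicit false

namespace Cfsg.Agent.Lib.Helper20.RkTwo

open scoped commutatorElement

variable {R : Type*} [Group R]

namespace Cfg

variable {p : ℕ} (C : Cfg p R)

variable [Finite R] [hp : Fact p.Prime]

theorem conj_mem_S_of_normalizer2 (hR : IsPGroup p R) (hp3 : 3 < p) (hrk : Cfsg.PRankLE p 2 R)
    {g : R} (hg : g ∈ Subgroup.normalizer ((Subgroup.normalizer (C.S : Set R) : Subgroup R) : Set R))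
    {s : R} (hs : s ∈ C.S) : g * s * g⁻¹ ∈ C.S := by
  apply C.mem_S_of_pow_of_normalizer hR hp3 hrk
  · exact (Subgroup.mem_normalizer_iff.mp hg s).mp (C.S_le_normalizer hs)
  · rw [conj_pow, C.S_exp hR hp3 hs]; group

theorem normalizer_S_eq_top (hR : IsPGroup p R) (hp3 : 3 < p) (hrk : Cfsg.PRankLE p 2 R) :
    Subgroup.normalizer (C.S : Set R) = ⊤ := by
  haveI : Group.IsNilpotent R := hR.isNilpotent
  have hnc := Group.normalizerCondition_of_isNilpotent (G := R)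
  rw [normalizerCondition_iff_only_full_group_self_normalizing] at hnc
  apply hnc
  apply le_antisymm _ Subgroup.le_normalizer
  intro g hg
  rw [Subgroup.mem_normalizer_iff]
  intro s
  constructor
  · intro hs; exact C.conj_mem_S_of_normalizer2 hR hp3 hrk hg hs
  · intro hs
    have := C.conj_mem_S_of_normalizer2 hR hp3 hrk (Subgroup.inv_mem _ hg) hs
    have e : g⁻¹ * (g * s * g⁻¹) * g⁻¹⁻¹ = s := by group
    rwa [e] at this

theorem MS_eq_M (hR : IsPGroup p R) (hp3 : 3 < p) (hrk : Cfsg.PRankLE p 2 R) : C.MS = C.M := by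
  unfold MS
  rw [C.normalizer_S_eq_top hR hp3 hrk, inf_top_eq]

theorem mem_S_iff_pow (hR : IsPGroup p R) (hp3 : 3 < p) (hrk : Cfsg.PRankLE p 2 R) (r : R) :
    r ∈ C.S ↔ r ^ p = 1 := by
  constructor
  · exact fun h => C.S_exp hR hp3 h
  · intro h
    apply C.mem_S_of_pow_of_normalizer hR hp3 hrk _ h
    rw [C.normalizer_S_eq_top hR hp3 hrk]; exact Subgroup.mem_top _

theorem S_normal (hR : IsPGroup p R) (hp3 : 3 < p) (hrk : Cfsg.PRankLE p 2 R) : C.S.Normal := by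
  constructor
  intro s hs g
  rw [C.mem_S_iff_pow hR hp3 hrk] at hs ⊢
  rw [conj_pow, hs]; group

theorem comm_mem_M (hR : IsPGroup p R) (r r' : R) : ⁅r, r'⁆ ∈ C.M := by
  obtain ⟨b, hb, hbL, -, -⟩ := C.exists_gen hR
  apply C.mem_M_of_comm hR hb hbL
  rw [← comm_eq_one_iff, ← C.cl_apply hR b hb, map_commutatorElement, C.cl_apply, C.cl_apply,
    comm_eq_one_iff]
  exact C.L_central (C.comm_mem_L hR hb r') _

theorem comm_S_top_le (hR : IsPGroup p R) (hp3 : 3 < p) (hrk : Cfsg.PRankLE p 2 R) :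
    ⁅C.S, (⊤ : Subgroup R)⁆ ≤ C.B := by
  have hn := C.S_normal hR hp3 hrk
  rw [Subgroup.commutator_le]
  intro s hs r _
  apply C.S_inf_M hR _ (C.comm_mem_M hR s r)
  rw [commutatorElement_def]
  have h1 : r * s⁻¹ * r⁻¹ ∈ C.S := hn.conj_mem _ (C.S.inv_mem hs) r
  have e : s * r * s⁻¹ * r⁻¹ = s * (r * s⁻¹ * r⁻¹) := by group
  rw [e]
  exact C.S.mul_mem hs h1

end Cfg

namespace Cfg2

variable {p : ℕ} (C : Cfg2 p R)

variable [Finite R] [hp : Fact p.Prime]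

theorem m_mem_MS : C.m ∈ C.MS := C.hm

theorem mem_M_decomp (hR : IsPGroup p R) (hp3 : 3 < p) (hrk : Cfsg.PRankLE p 2 R) {w : R}
    (hw : w ∈ C.M) : ∃ β ∈ C.B, ∃ j : ℤ, w = β * C.m ^ j := by
  have hp2 : p ≠ 2 := by omega
  have hwMS : w ∈ C.MS := by rw [C.MS_eq_M hR hp3 hrk]; exact hw
  have hθB : ⁅C.y, w⁆ ∈ C.B := C.theta_mem_B hR ⟨w, hwMS⟩
  rw [← C.L_sup_zpowers hR (C.b_mem_B hR) C.b_not_mem_L] at hθB
  rw [mem_sup_of_commute _ _ (fun a ha c _ => (C.L_central ha c).symm)] at hθB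
  obtain ⟨l, hl, _, ⟨i, rfl⟩, hlw⟩ := hθB
  obtain ⟨β, hβ, hβl⟩ := C.exists_comm_eq hR hl
  have hβMS : β ∈ C.MS := C.B_le_MS hβ
  have hmi : C.m ^ i ∈ C.MS := C.MS.zpow_mem C.hm i
  have hmem : β⁻¹ * w * (C.m ^ i)⁻¹ ∈ C.MS :=
    C.MS.mul_mem (C.MS.mul_mem (C.MS.inv_mem hβMS) hwMS) (C.MS.inv_mem hmi)
  have hd : β⁻¹ * w * (C.m ^ i)⁻¹ ∈ C.D := by
    apply (C.theta_eq_one_iff hR ⟨_, hmem⟩).mp
    have e : (⟨β⁻¹ * w * (C.m ^ i)⁻¹, hmem⟩ : C.MS)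
        = (⟨β, hβMS⟩ : C.MS)⁻¹ * ⟨w, hwMS⟩ * ((⟨C.m, C.hm⟩ : C.MS) ^ i)⁻¹ := rfl
    rw [e, map_mul, map_mul, map_inv, map_inv, map_zpow, C.theta_m hR, C.theta_apply,
      C.theta_apply]
    simp only [hβl, hlw]
    group
  obtain ⟨j, hj⟩ := C.D_le_zpowers_m hR hp2 hrk hd
  refine ⟨β, hβ, j + i, ?_⟩
  have hj' : C.m ^ j = β⁻¹ * w * (C.m ^ i)⁻¹ := hj
  rw [zpow_add, hj']
  group

theorem B_le_comm_S_top (hR : IsPGroup p R) : C.B ≤ ⁅C.S, (⊤ : Subgroup R)⁆ := by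
  rw [← C.L_sup_zpowers hR (C.b_mem_B hR) C.b_not_mem_L]
  apply sup_le
  · exact (C.L_le_comm_S hR).trans (Subgroup.commutator_mono le_rfl le_top)
  · rw [Subgroup.zpowers_le]
    exact Subgroup.commutator_mem_commutator C.y_mem_S (Subgroup.mem_top _)

theorem comm_S_top (hR : IsPGroup p R) (hp3 : 3 < p) (hrk : Cfsg.PRankLE p 2 R) :
    ⁅C.S, (⊤ : Subgroup R)⁆ = C.B :=
  le_antisymm (C.comm_S_top_le hR hp3 hrk) (C.B_le_comm_S_top hR)

/-- the order of `m` is at least `p ^ 2` -/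
theorem exists_orderOf_m (hR : IsPGroup p R) (hrk : Cfsg.PRankLE p 2 R) :
    ∃ k : ℕ, orderOf C.m = p ^ (k + 2) := by
  obtain ⟨k, hk⟩ := (IsPGroup.iff_orderOf.mp hR) C.m
  have hmp : C.m ^ p ≠ 1 := by
    intro h
    have hB := C.mem_B_of_pow hrk C.m_mem_M h
    exact C.hbL (C.comm_mem_L hR hB _)
  rcases Nat.lt_or_ge k 2 with hlt | hge
  · exfalso
    apply hmp
    apply orderOf_dvd_iff_pow_eq_one.mp
    rw [hk]
    calc p ^ k ∣ p ^ 1 := pow_dvd_pow p (by omega)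
      _ = p := pow_one p
  · exact ⟨k - 2, by rw [hk]; congr 1; omega⟩

end Cfg2

end Cfsg.Agent.Lib.Helper20.RkTwo
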