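import Mathlib
import Cfsg.Agent.Lib.Helper20.RkTwoE

set_option autoImplicit false

namespace Cfsg.Agent.Lib.Helper20.RkTwo

open scoped commutatorElement

variable {R : Type*} [Group R]

namespace Cfg

variable {p : ℕ} (C : Cfg p R)

variable [Finite R] [hp : Fact p.Prime]

theorem comm_mul_B_left (e : ℕ) {β w : R} (hβ : β ∈ C.B) (hw : w ∈ C.M) :
    ⁅C.y ^ e * β, w⁆ = ⁅C.y ^ e, w⁆ := by
  rw [comm_mul_left]
  have h1 : ⁅β, w⁆ = 1 := by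
    rw [comm_eq_one_iff]; exact (C.mem_M.mp hw) β hβ
  rw [h1, mul_one, mul_inv_cancel, one_mul]

theorem comm_pow_MS (hR : IsPGroup p R) (e : ℕ) {w : R} (hw : w ∈ C.MS) :
    ∃ l ∈ C.L, ⁅C.y ^ e, w⁆ = l * ⁅C.y, w⁆ ^ e := by
  induction e with
  | zero => exact ⟨1, C.L.one_mem, by simp⟩
  | succ e ih =>
    obtain ⟨l, hl, hle⟩ := ih
    have hθ : ⁅C.y, w⁆ ∈ C.B := C.comm_mem_B_of_MS hR C.y_mem_S hw
    have hθe : ⁅C.y, w⁆ ^ e ∈ C.B := C.B.pow_mem hθ e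
    have hl2 : ⁅C.y, ⁅C.y, w⁆ ^ e⁆ ∈ C.L := C.comm_mem_L hR hθe _
    refine ⟨l * ⁅C.y, ⁅C.y, w⁆ ^ e⁆, C.L.mul_mem hl hl2, ?_⟩
    rw [pow_succ', comm_mul_left, hle]
    have e1 : C.y * (l * ⁅C.y, w⁆ ^ e) * C.y⁻¹ = l * (⁅C.y, ⁅C.y, w⁆ ^ e⁆ * ⁅C.y, w⁆ ^ e) := by
      have : C.y * (l * ⁅C.y, w⁆ ^ e) * C.y⁻¹ = (C.y * l) * ⁅C.y, w⁆ ^ e * C.y⁻¹ := by group
      rw [this, C.L_central hl C.y]
      rw [commutatorElement_def]
      group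
    rw [e1, pow_succ]
    group

theorem comm_comm_pow (hR : IsPGroup p R) (e : ℕ) {w : R} (hw : w ∈ C.MS) :
    ⁅C.y, ⁅C.y ^ e, w⁆⁆ = ⁅C.y, ⁅C.y, w⁆⁆ ^ e := by
  obtain ⟨l, hl, hle⟩ := C.comm_pow_MS hR e hw
  have hθ : ⁅C.y, w⁆ ∈ C.B := C.comm_mem_B_of_MS hR C.y_mem_S hw
  have h1 := map_mul (C.cr hR C.y) ⟨l, C.L_le_B hl⟩ ((⟨_, hθ⟩ : C.B) ^ e)
  rw [map_pow, C.cr_apply, C.cr_apply, C.cr_apply] at h1
  have h2 : ⁅C.y, l⁆ = 1 := C.comm_L_eq_one hl _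
  simp only [Subgroup.coe_mul, Subgroup.coe_pow] at h1
  rw [hle, h1, h2, one_mul]

end Cfg

namespace Cfg2

variable {p : ℕ} (C : Cfg2 p R)

variable [Finite R] [hp : Fact p.Prime]

/-- automorphisms preserve `S` -/
theorem aut_S (hR : IsPGroup p R) (hp3 : 3 < p) (hrk : Cfsg.PRankLE p 2 R) (α : MulAut R) (r : R) :
    α r ∈ C.S ↔ r ∈ C.S := by
  rw [C.mem_S_iff_pow hR hp3 hrk, C.mem_S_iff_pow hR hp3 hrk, ← map_pow]
  constructor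
  · intro h
    apply α.injective
    rw [h, map_one]
  · intro h
    rw [h, map_one]

theorem aut_B (hR : IsPGroup p R) (hp3 : 3 < p) (hrk : Cfsg.PRankLE p 2 R) (α : MulAut R) {r : R}
    (hr : r ∈ C.B) : α r ∈ C.B := by
  have hS : C.S.map α.toMonoidHom = C.S := by
    ext x
    constructor
    · rintro ⟨s, hs, rfl⟩
      exact (C.aut_S hR hp3 hrk α s).mpr hs
    · intro hx
      refine ⟨α.symm x, ?_, by simp⟩
      show α.symm x ∈ C.S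
      rw [← C.aut_S hR hp3 hrk α, MulEquiv.apply_symm_apply]
      exact hx
  have hT : (⊤ : Subgroup R).map α.toMonoidHom = ⊤ :=
    Subgroup.map_top_of_surjective _ α.surjective
  have hB : C.B.map α.toMonoidHom = C.B := by
    rw [← C.comm_S_top hR hp3 hrk, Subgroup.map_commutator, hS, hT]
  rw [← hB]
  exact ⟨r, hr, rfl⟩

theorem aut_M (hR : IsPGroup p R) (hp3 : 3 < p) (hrk : Cfsg.PRankLE p 2 R) (α : MulAut R) {w : R}
    (hw : w ∈ C.M) : α w ∈ C.M := by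
  rw [C.mem_M]
  intro b hb
  have hb' : α.symm b ∈ C.B := C.aut_B hR hp3 hrk α⁻¹ hb
  have h1 := (C.mem_M.mp hw) _ hb'
  have h2 := congrArg α h1
  rw [map_mul, map_mul, MulEquiv.apply_symm_apply] at h2
  exact h2

theorem chi_M (hR : IsPGroup p R) {b₁ : R} (hb₁ : b₁ ∈ C.B) {w : R} (hw : w ∈ C.M) :
    C.cl hR b₁ hb₁ w = 1 := by
  rw [C.cl_apply, Cfg.comm_eq_one_iff]
  exact ((C.mem_M.mp hw) b₁ hb₁).symm

theorem chi_aut (hR : IsPGroup p R) (hp3 : 3 < p) (hrk : Cfsg.PRankLE p 2 R) (α : MulAut R)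
    {b₁ : R} (hb₁ : b₁ ∈ C.B) (e : ℕ) {β : R} (hβ : β ∈ C.B) (hαy : α C.y = C.y ^ e * β) (r : R) :
    C.cl hR b₁ hb₁ (α r) = C.cl hR b₁ hb₁ r ^ e := by
  obtain ⟨i, w, hw, rfl⟩ := C.exists_zpow_mul hR r
  have h1 : C.cl hR b₁ hb₁ (α (C.y ^ i * w)) = (C.cl hR b₁ hb₁ C.y ^ e) ^ i := by
    rw [map_mul, map_zpow, hαy, map_mul, map_zpow, map_mul, map_pow,
      C.chi_M hR hb₁ (C.aut_M hR hp3 hrk α hw), C.chi_M hR hb₁ (C.B_le_M hβ), mul_one, mul_one]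
  have h2 : C.cl hR b₁ hb₁ (C.y ^ i * w) = C.cl hR b₁ hb₁ C.y ^ i := by
    rw [map_mul, map_zpow, C.chi_M hR hb₁ hw, mul_one]
  rw [h1, h2, ← zpow_natCast, ← zpow_natCast, ← zpow_mul, ← zpow_mul, mul_comm]

theorem chi_iter (hR : IsPGroup p R) (hp3 : 3 < p) (hrk : Cfsg.PRankLE p 2 R) (α : MulAut R)
    {b₁ : R} (hb₁ : b₁ ∈ C.B) (e : ℕ) {β : R} (hβ : β ∈ C.B) (hαy : α C.y = C.y ^ e * β) (k : ℕ)
    (r : R) : C.cl hR b₁ hb₁ ((α ^ k) r) = C.cl hR b₁ hb₁ r ^ (e ^ k) := by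
  induction k generalizing r with
  | zero => simp
  | succ k ih =>
    rw [pow_succ, MulAut.mul_apply, ih, C.chi_aut hR hp3 hrk α hb₁ e hβ hαy, ← pow_mul, pow_succ,
      mul_comm]

/-- the key congruence `e ^ 2 ≡ 1` -/
theorem chase (hR : IsPGroup p R) (hp3 : 3 < p) (hrk : Cfsg.PRankLE p 2 R) (α : MulAut R)
    (e : ℕ) {β : R} (hβ : β ∈ C.B) (hαy : α C.y = C.y ^ e * β) : 1 ≡ e * e [MOD p] := by
  -- the image of `m`
  obtain ⟨β'', hβ'', j, hj⟩ := C.mem_M_decomp hR hp3 hrk (C.aut_M hR hp3 hrk α C.m_mem_M)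
  obtain ⟨f, hf⟩ := Cfsg.Agent.Lib.Helper20.Hup.zpow_eq_pow_nat C.m j
  rw [hf] at hj
  -- the element `t`
  obtain ⟨k, hk⟩ := C.exists_orderOf_m hR hrk
  obtain ⟨t, ht⟩ : ∃ t, t = C.m ^ (p ^ (k + 1)) := ⟨_, rfl⟩
  have htp : t ^ p = 1 := by
    rw [ht, ← pow_mul, ← pow_succ, ← hk]; exact pow_orderOf_eq_one _
  have ht1 : t ≠ 1 := by
    intro h
    rw [ht] at h
    have := orderOf_dvd_of_pow_eq_one h
    rw [hk] at this
    have := (Nat.pow_dvd_pow_iff_le_right hp.out.one_lt).mp this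
    omega
  have htD : t ∈ C.D := by
    rw [ht, pow_succ', pow_mul]
    exact C.D.pow_mem (C.m_pow_mem_D hR) _
  have htL : t ∈ C.L := C.mem_L_of_mem_D_pow hR hrk htD htp
  have hαt : α t = t ^ f := by
    rw [ht, map_pow, hj]
    have hc : Commute β'' (C.m ^ f) := (C.mem_M.mp (C.M.pow_mem C.m_mem_M f)) β'' hβ''
    rw [hc.mul_pow, pow_succ', pow_mul, C.eB β'' hβ'', one_pow, one_mul, ← pow_mul, ← pow_mul,
      mul_comm]
  -- the element `l₀`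
  have hbB : C.b ∈ C.B := C.b_mem_B hR
  obtain ⟨l₀, hl₀⟩ : ∃ l₀, l₀ = ⁅C.y, C.b⁆ := ⟨_, rfl⟩
  have hl₀L : l₀ ∈ C.L := by rw [hl₀]; exact C.comm_mem_L hR hbB _
  have hl₀1 : l₀ ≠ 1 := by
    intro h
    rw [hl₀, Cfg.comm_eq_one_iff] at h
    exact C.b_not_mem_L (C.mem_L_of_comm_y hR hbB h)
  have hl₀p : l₀ ^ p = 1 := C.eB _ (C.L_le_B hl₀L)
  have hord : orderOf l₀ = p := orderOf_eq_prime hl₀p hl₀1
  -- first computation of `α l₀`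
  have h1 : α l₀ = l₀ ^ f := by
    have ht1' : (⟨t, htL⟩ : C.L) ≠ 1 := fun e => ht1 (congrArg Subtype.val e)
    obtain ⟨u, hu⟩ := mem_zpowers_of_prime_card (g' := (⟨l₀, hl₀L⟩ : C.L)) (C.card_L hR) ht1'
    have hu' : t ^ u = l₀ := by
      have := congrArg Subtype.val hu
      simpa using this
    rw [← hu', map_zpow, hαt, ← zpow_natCast, ← zpow_natCast, ← zpow_mul, ← zpow_mul, mul_comm]
  -- second computation
  have hwM : β'' * C.m ^ f ∈ C.M := C.M.mul_mem (C.B_le_M hβ'') (C.M.pow_mem C.m_mem_M f)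
  have hwMS : β'' * C.m ^ f ∈ C.MS := by rw [C.MS_eq_M hR hp3 hrk]; exact hwM
  have hαb : α C.b = ⁅C.y ^ e, β'' * C.m ^ f⁆ := by
    unfold b
    rw [map_commutatorElement, hαy, hj, C.comm_mul_B_left e hβ hwM]
  have hαbB : α C.b ∈ C.B := C.aut_B hR hp3 hrk α hbB
  have hθw : ⁅C.y, ⁅C.y, β'' * C.m ^ f⁆⁆ = l₀ ^ f := by
    have e1 : ⁅C.y, β'' * C.m ^ f⁆ = ⁅C.y, β''⁆ * C.b ^ f := by
      have := map_mul (C.theta hR) ⟨β'', C.B_le_MS hβ''⟩ ((⟨C.m, C.hm⟩ : C.MS) ^ f)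
      rw [map_pow, C.theta_m hR, C.theta_apply, C.theta_apply] at this
      simpa using this
    have hlβ : ⁅C.y, β''⁆ ∈ C.L := C.comm_mem_L hR hβ'' _
    have h2 := map_mul (C.cr hR C.y) ⟨_, C.L_le_B hlβ⟩ ((⟨C.b, hbB⟩ : C.B) ^ f)
    rw [map_pow, C.cr_apply, C.cr_apply, C.cr_apply] at h2
    simp only [Subgroup.coe_mul, Subgroup.coe_pow] at h2
    rw [e1, h2, C.comm_L_eq_one hlβ, one_mul, hl₀]
  have h2 : α l₀ = ((l₀ ^ f) ^ e) ^ e := by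
    rw [hl₀, map_commutatorElement, hαy, C.comm_mul_B_left e hβ (C.B_le_M hαbB)]
    rw [← C.cl_apply hR (α C.b) hαbB, map_pow, C.cl_apply, hαb, C.comm_comm_pow hR e hwMS, hθw, hl₀]
  -- conclusion
  have h3 : l₀ ^ (f * 1) = l₀ ^ (f * (e * e)) := by
    rw [mul_one, ← h1, h2, ← pow_mul, ← pow_mul]
  rw [pow_eq_pow_iff_modEq, hord] at h3
  have hfp : ¬ p ∣ f := by
    rintro ⟨q, hq⟩
    have : α l₀ = 1 := by rw [h1, hq, pow_mul, hl₀p, one_pow]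
    apply hl₀1
    apply α.injective
    rw [this, map_one]
  have hcop : Nat.gcd p f = 1 := (Nat.Prime.coprime_iff_not_dvd hp.out).mpr hfp
  exact Nat.ModEq.cancel_left_of_coprime hcop h3

end Cfg2

end Cfsg.Agent.Lib.Helper20.RkTwo
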