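import Mathlib
import Cfsg.Agent.Lib.Helper20.RkTwoF
import Cfsg.Agent.Lib.Helper20.HupM

set_option autoImplicit false

namespace Cfsg.Agent.Lib.Helper20.RkTwo

open scoped commutatorElement

universe u

variable {R : Type u} [Group R]

namespace Cfg2

variable {p : ℕ} (C : Cfg2 p R)

variable [Finite R] [hp : Fact p.Prime]

theorem aut_trivial (hR : IsPGroup p R) (hp3 : 3 < p) (hrk : Cfsg.PRankLE p 2 R) (α : MulAut R)
    (n : ℕ) (hn : Odd n) (hαn : α ^ n = 1) (r : R) : r⁻¹ * α r ∈ C.M := by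
  have hαyS : α C.y ∈ C.S := (C.aut_S hR hp3 hrk α C.y).mpr C.y_mem_S
  obtain ⟨i, β, hβ, hi⟩ := C.mem_S'.mp hαyS
  obtain ⟨e, he⟩ := Cfsg.Agent.Lib.Helper20.Hup.zpow_eq_pow_nat C.y i
  rw [he] at hi
  have hsq := C.chase hR hp3 hrk α e hβ hi
  obtain ⟨b₁, hb₁, hb₁L, hz1, hzL⟩ := C.exists_gen hR
  have hzp : ⁅C.y, b₁⁆ ^ p = 1 := C.eB _ (C.L_le_B hzL)
  have hord : orderOf ⁅C.y, b₁⁆ = p := orderOf_eq_prime hzp hz1
  have hiter := C.chi_iter hR hp3 hrk α hb₁ e hβ hi n C.y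
  rw [hαn, MulAut.one_apply, C.cl_apply] at hiter
  have h1 : ⁅C.y, b₁⁆ ^ 1 = ⁅C.y, b₁⁆ ^ (e ^ n) := by rw [pow_one]; exact hiter
  rw [pow_eq_pow_iff_modEq, hord] at h1
  obtain ⟨q, hq⟩ := hn
  have he1 : e ≡ 1 [MOD p] := by
    have h2 : e ^ n ≡ e [MOD p] := by
      rw [hq, pow_succ, pow_mul, pow_two]
      calc (e * e) ^ q * e ≡ 1 ^ q * e [MOD p] := (hsq.symm.pow q).mul_right e
        _ = e := by rw [one_pow, one_mul]
    exact h2.symm.trans h1.symm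
  have hχ : C.cl hR b₁ hb₁ (α r) = C.cl hR b₁ hb₁ r := by
    rw [C.chi_aut hR hp3 hrk α hb₁ e hβ hi r]
    have hrL : C.cl hR b₁ hb₁ r ∈ C.L := C.comm_mem_L hR hb₁ r
    have hrp : C.cl hR b₁ hb₁ r ^ p = 1 := C.eB _ (C.L_le_B hrL)
    have hdvd : orderOf (C.cl hR b₁ hb₁ r) ∣ p := orderOf_dvd_of_pow_eq_one hrp
    have := he1.of_dvd hdvd
    have h3 := pow_eq_pow_iff_modEq.mpr this
    rw [h3, pow_one]
  apply C.mem_M_of_comm hR hb₁ hb₁L
  rw [← Cfg.comm_eq_one_iff, ← C.cl_apply hR b₁ hb₁, map_mul, map_inv, hχ, inv_mul_cancel]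

end Cfg2

/-- version of `mem_B_of_pow` without a configuration -/
theorem mem_of_pow_of_centralizer {p : ℕ} [hp : Fact p.Prime] (hrk : Cfsg.PRankLE p 2 R)
    (B : Subgroup R) (cB : ∀ a ∈ B, ∀ b ∈ B, a * b = b * a) (eB : ∀ b ∈ B, b ^ p = 1)
    (card_B : Nat.card B = p ^ 2) {w : R} (hw : w ∈ Subgroup.centralizer (B : Set R))
    (hwp : w ^ p = 1) : w ∈ B := by
  by_contra hwB
  obtain ⟨hcard, hcomm, hexp⟩ := Cfsg.Agent.Lib.Helper21.OmegaCent.sup_zpowers_facts (p := p) B w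
    hwp hwB (fun b hb => ((Subgroup.mem_centralizer_iff.mp hw) b hb).symm) cB eB
  have hc : IsMulCommutative ↥(B ⊔ Subgroup.zpowers w) :=
    ⟨⟨fun a b => Subtype.ext (hcomm a a.2 b b.2)⟩⟩
  have := hrk _ hc hexp
  rw [hcard, card_B] at this
  have h1 : 1 < p := hp.out.one_lt
  nlinarith [pow_pos hp.out.pos 2]

/-- The structure theorem at the level of types. -/
theorem main_type [Finite R] {p : ℕ} [hp : Fact p.Prime] (hp3 : 3 < p) (hR : IsPGroup p R)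
    (hrk : Cfsg.PRankLE p 2 R) (hnm : ¬ Cfsg.IsMetacyclic R) :
    Concl p R ∨ ∃ M : Subgroup R, M ≠ ⊤ ∧
      ∀ α : MulAut R, ∀ n : ℕ, Odd n → α ^ n = 1 → ∀ r : R, r⁻¹ * α r ∈ M := by
  have hp2 : p ≠ 2 := by omega
  have hnc : ¬ IsCyclic R := by
    intro hc
    apply hnm
    refine ⟨⊤, inferInstance, ?_, ?_⟩
    · exact isCyclic_of_surjective Subgroup.topEquiv.symm Subgroup.topEquiv.symm.surjective
    · haveI : Subsingleton (R ⧸ (⊤ : Subgroup R)) := QuotientGroup.subsingleton_quotient_top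
      infer_instance
  obtain ⟨B, hBn, ⟨hBc, hBe⟩, hBcard⟩ := Cfsg.Agent.Lib.Helper24.nr_main hp2 hR hnc
  have cB : ∀ a ∈ B, ∀ b ∈ B, a * b = b * a := by
    intro a ha b hb
    exact congrArg Subtype.val (hBc.is_comm.comm ⟨a, ha⟩ ⟨b, hb⟩)
  have hy : ∃ y : R, y ^ p = 1 ∧ y ∉ Subgroup.centralizer (B : Set R) := by
    by_contra hno
    push Not at hno
    apply hnm
    apply Cfsg.Agent.Lib.Helper20.Hup.huppert p hp3 (Nat.card R) R rfl hR
    have hle : Cfsg.omegaOne p (⊤ : Subgroup R) ≤ B := by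
      unfold Cfsg.omegaOne
      rw [Subgroup.closure_le]
      rintro x ⟨-, hx⟩
      exact mem_of_pow_of_centralizer hrk B cB hBe hBcard (hno x hx) hx
    calc Nat.card (Cfsg.omegaOne p (⊤ : Subgroup R)) ≤ Nat.card B := Subgroup.card_le_of_le hle
      _ = p ^ 2 := hBcard
  obtain ⟨y, hyp, hyB⟩ := hy
  let C : Cfg p R := ⟨B, hBn, cB, hBe, hBcard, y, hyB, hyp⟩
  by_cases hI : ∀ w ∈ C.MS, ⁅C.y, w⁆ ∈ C.L
  · left
    exact C.concl_of_caseI hR hrk hp3 hI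
  · right
    push Not at hI
    obtain ⟨m, hm, hbL⟩ := hI
    let C2 : Cfg2 p R := ⟨C, m, hm, hbL⟩
    refine ⟨C2.M, ?_, fun α n hn hαn r => C2.aut_trivial hR hp3 hrk α n hn hαn r⟩
    intro htop
    apply C2.hy
    show C2.y ∈ C2.M
    rw [htop]; exact Subgroup.mem_top _

end Cfsg.Agent.Lib.Helper20.RkTwo
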