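import Mathlib
import Cfsg.Agent.Lib.Helper20.Metacyclic1
import Cfsg.Agent.Lib.Helper1.Frat
import Cfsg.Agent.Lib.helper17.Frattini

set_option autoImplicit false
set_option linter.unusedSectionVars false
open scoped commutatorElement

namespace Cfsg.Agent.Lib.Helper20

namespace MC

variable {G : Type*} [Group G] [Finite G] {p : ℕ} [hp : Fact p.Prime] (D : MC p G)

theorem commutator_le_pw_one : commutator G ≤ D.pw 1 := by
  rw [D.commutator_eq, Subgroup.zpowers_le]
  obtain ⟨c, hc⟩ := D.p_dvd_r_sub_one
  rw [D.mem_pw]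
  exact ⟨c, 0, by rw [hc]; simp⟩

theorem normal_of_commutator_le {X : Type*} [Group X] (M : Subgroup X) (h : commutator X ≤ M) :
    M.Normal := by
  constructor
  intro x hx g
  have h1 : g * x * g⁻¹ = ⁅g, x⁆ * x := by simp [commutatorElement_def]
  rw [h1]
  apply M.mul_mem _ hx
  apply h
  rw [commutator_def]
  exact Subgroup.commutator_mem_commutator (Subgroup.mem_top _) (Subgroup.mem_top _)

theorem frattini_eq_pw_one (hp2 : p ≠ 2) (hG : IsPGroup p G) : frattini G = D.pw 1 := by
  apply le_antisymm
  · have hn : (D.pw 1).Normal := normal_of_commutator_le _ D.commutator_le_pw_one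
    apply Cfsg.Agent.Lib.helper17.frattini_le_of_comm_pow_mem (p := p) (D.pw 1)
    · intro x y
      apply D.commutator_le_pw_one
      rw [commutator_def]
      exact Subgroup.commutator_mem_commutator (Subgroup.mem_top _) (Subgroup.mem_top _)
    · intro x
      rw [← D.closure_pow_eq_pw hp2 1]
      apply Subgroup.subset_closure
      exact ⟨x, by rw [pow_one]⟩
  · rw [← D.closure_pow_eq_pw hp2 1, Subgroup.closure_le]
    rintro x ⟨y, rfl⟩
    rw [pow_one]
    exact Cfsg.Agent.Lib.Helper1.pgroup_pow_mem_frattini hG y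

include D in
theorem not_mem_frattini_iff (hp2 : p ≠ 2) (hG : IsPGroup p G) (hna : ¬ IsMulCommutative G)
    (g : G) : g ∉ frattini G ↔ IsMulCommutative ↥(Subgroup.centralizer ({g} : Set G)) := by
  have hn : D.n ≠ 0 := fun h => hna (D.isMulCommutative_iff_n_eq_zero.mpr h)
  rw [D.frattini_eq_pw_one hp2 hG, D.mem_pw_iff_index_le hp2 1 (by omega),
    D.sub_comm_iff hp2 hG]
  obtain ⟨c, hc⟩ := index_centralizer_pow hG g
  rw [hc]
  have hcard : p ^ c * Nat.card (Subgroup.centralizer ({g} : Set G)) =
      p ^ D.n * (commutator G).index := by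
    rw [← hc, mul_comm, Subgroup.card_mul_index, D.card_eq_pow_n_mul]
  have hidxpos : 0 < (commutator G).index := by
    rcases Nat.eq_zero_or_pos (commutator G).index with h | h
    · exact absurd h Subgroup.index_ne_zero_of_finite
    · exact h
  rw [le_iff_of_pow_mul_eq hidxpos hcard, Nat.pow_le_pow_iff_right hp.out.one_lt]
  omega

end MC

end Cfsg.Agent.Lib.Helper20
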