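import Mathlib
import Cfsg.Agent.Lib.Helper20.RkTwoG
import Cfsg.Agent.Lib.Helper9.MetaCop8
import Cfsg.Agent.Lib.Helper9.AutRank2

set_option autoImplicit false

namespace Cfsg.Agent.Lib.Helper20.RkTwo

open scoped commutatorElement

variable {G : Type*} [Group G]

/-- transfer of the structural conclusion from the subgroup (as a type) to the ambient group -/
theorem concl_transfer {p : ℕ} (R : Subgroup G) (h : Concl p R) :
    ∃ R₁ R₂ : Subgroup G, R₁ ⊔ R₂ = R ∧ (∀ a ∈ R₁, ∀ b ∈ R₂, a * b = b * a) ∧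
      ¬ IsMulCommutative R₁ ∧ Nat.card R₁ = p ^ 3 ∧ Monoid.exponent R₁ = p ∧ IsCyclic R₂ ∧
      Subgroup.closure {x : G | x ∈ R₂ ∧ x ^ p = 1} = ⁅R₁, R₁⁆ := by
  obtain ⟨R₁, R₂, hsup, hcomm, hnc, hcard, hexp, hcyc, hcl⟩ := h
  have hinj : Function.Injective R.subtype := R.subtype_injective
  refine ⟨R₁.map R.subtype, R₂.map R.subtype, ?_, ?_, ?_, ?_, ?_, ?_, ?_⟩
  · rw [← Subgroup.map_sup, hsup, ← MonoidHom.range_eq_map, Subgroup.range_subtype]
  · rintro _ ⟨a, ha, rfl⟩ _ ⟨b, hb, rfl⟩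
    have := hcomm a ha b hb
    exact congrArg Subtype.val this
  · intro hc
    apply hnc
    refine ⟨⟨fun x y => ?_⟩⟩
    have := hc.is_comm.comm ⟨R.subtype x.1, ⟨x.1, x.2, rfl⟩⟩ ⟨R.subtype y.1, ⟨y.1, y.2, rfl⟩⟩
    have h2 := congrArg Subtype.val this
    apply Subtype.ext
    apply hinj
    simpa using h2
  · rw [Subgroup.card_map_of_injective hinj, hcard]
  · rw [← Monoid.exponent_eq_of_mulEquiv (Subgroup.equivMapOfInjective R₁ R.subtype hinj), hexp]
  · exact isCyclic_of_surjective (Subgroup.equivMapOfInjective R₂ R.subtype hinj)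
      (Subgroup.equivMapOfInjective R₂ R.subtype hinj).surjective
  · rw [← Subgroup.map_commutator, ← hcl, MonoidHom.map_closure]
    congr 1
    ext x
    constructor
    · rintro ⟨⟨y, hy, rfl⟩, hxp⟩
      refine ⟨y, ⟨hy, ?_⟩, rfl⟩
      apply hinj
      simpa using hxp
    · rintro ⟨y, ⟨hy, hyp⟩, rfl⟩
      refine ⟨⟨y, hy, rfl⟩, ?_⟩
      have := congrArg R.subtype hyp
      simpa using this

variable [Finite G]

theorem rank_two_main (p : ℕ) [hp' : Fact p.Prime] (hp : p ≠ 2) (R A : Subgroup G)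
    (hR : IsPGroup p R) (hR1 : R ≠ ⊥) (hr : Cfsg.PRankLE p 2 R)
    (hA : (A ≤ Subgroup.normalizer (R : Set G))) (hcop : (Nat.card A).Coprime p)
    (hAodd : Odd (Nat.card A)) (hRA : ⁅R, A⁆ = R) :
    3 < p ∧ (IsMulCommutative R ∨ ∃ R₁ R₂ : Subgroup G, R₁ ⊔ R₂ = R ∧
      (∀ a ∈ R₁, ∀ b ∈ R₂, a * b = b * a) ∧
        ¬ IsMulCommutative R₁ ∧ Nat.card R₁ = p ^ 3 ∧ Monoid.exponent R₁ = p ∧ IsCyclic R₂ ∧
        Subgroup.closure {x : G | x ∈ R₂ ∧ x ^ p = 1} = ⁅R₁, R₁⁆) := by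
  letI := Cfsg.Agent.Lib.Helper9.mcpConjAct R A hA
  let φ : A →* MulAut R := MulDistribMulAction.toMulAut A R
  have hφ : ∀ (a : A) (r : R), ((φ a r : R) : G) = a * r * (a : G)⁻¹ := fun a r => rfl
  -- if every `φ a` is trivial we get a contradiction
  have hnontriv : ¬ ∀ a : A, φ a = 1 := by
    intro h
    apply hR1
    rw [← hRA, Subgroup.commutator_eq_bot_iff_le_centralizer]
    intro r hr'
    rw [Subgroup.mem_centralizer_iff]
    intro a ha
    have h1 := hφ ⟨a, ha⟩ ⟨r, hr'⟩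
    rw [h ⟨a, ha⟩, MulAut.one_apply] at h1
    have h2 : r = a * r * a⁻¹ := h1
    calc a * r = a * r * a⁻¹ * a := by group
      _ = r * a := by rw [← h2]
  have hp3 : 3 < p := by
    by_contra hle
    have hp2' : 2 ≤ p := hp'.out.two_le
    have hp3' : p = 3 := by omega
    apply hnontriv
    intro a
    by_contra hne
    have ho1 : orderOf (φ a) ≠ 1 := fun h => hne (orderOf_eq_one_iff.mp h)
    obtain ⟨q, hq, hqo⟩ := Nat.exists_prime_and_dvd ho1
    have hqA : q ∣ Nat.card A :=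
      hqo.trans ((orderOf_map_dvd φ a).trans (orderOf_dvd_natCard a))
    have hqp : q ≠ p := by
      intro e
      have := Nat.Coprime.eq_one_of_dvd hcop.symm (e ▸ hqA)
      exact hp'.out.one_lt.ne' this
    have hqAut : q ∣ Nat.card (MulAut R) := hqo.trans (orderOf_dvd_natCard (φ a))
    have h8 := Cfsg.Agent.Lib.Helper9.ar_main hp hR hr q hq hqp hqAut
    rw [hp3'] at h8
    have hq2 : q = 2 := by
      have : q ∣ 2 ^ 3 := by norm_num at h8 ⊢; exact h8
      exact (Nat.prime_dvd_prime_iff_eq hq Nat.prime_two).mp (hq.dvd_of_dvd_pow this)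
    rw [hq2] at hqA
    obtain ⟨k, hk⟩ := hAodd
    omega
  refine ⟨hp3, ?_⟩
  by_cases hm : Cfsg.IsMetacyclic R
  · left
    have := (Cfsg.Agent.Lib.Helper9.mcp_main p hp R A hR hm hA hcop).1
    rwa [hRA] at this
  · right
    rcases main_type hp3 hR hr hm with hC | ⟨M, hM, hall⟩
    · exact concl_transfer R hC
    · exfalso
      apply hM
      have hle : ⁅R, A⁆ ≤ M.map R.subtype := by
        rw [Subgroup.commutator_le]
        intro r hr' a ha
        have hαn : (φ ⟨a, ha⟩) ^ Nat.card A = 1 := by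
          rw [← map_pow, pow_card_eq_one', map_one]
        have := hall (φ ⟨a, ha⟩) (Nat.card A) hAodd hαn (⟨r, hr'⟩ : R)⁻¹
        refine ⟨_, this, ?_⟩
        rw [Subgroup.coe_subtype, Subgroup.coe_mul, hφ, commutatorElement_def]
        simp
        group
      rw [hRA] at hle
      rw [eq_top_iff]
      intro x _
      obtain ⟨m, hm', hmx⟩ := hle x.2
      have : m = x := Subtype.ext hmx
      rw [← this]; exact hm'

end Cfsg.Agent.Lib.Helper20.RkTwo
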