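import Mathlib
import Cfsg.Agent.Lib.Helper18.BLK.Defs
import Cfsg.Agent.Lib.Helper1.Nilp
import Cfsg.Agent.Lib.Helper21.OmegaCent

/-!
# Project BLK (S3888), pieces S0a, S0b, S0c, S0d, S0e: first facts about Setting S
-/

set_option autoImplicit false

namespace Cfsg.Agent.Lib.Helper18.BLK

open scoped commutatorElement

section
variable {G : Type*} [Group G]

theorem h20_rc_eq_comm (a b : G) : rc a b = ⁅a⁻¹, b⁻¹⁆ := by
  unfold rc
  rw [commutatorElement_def]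
  group

theorem h20_normal_of_le_center (H : Subgroup G) (h : H ≤ Subgroup.center G) : H.Normal := by
  constructor
  intro n hn g
  have := Subgroup.mem_center_iff.mp (h hn) g
  have e : g * n * g⁻¹ = n := by rw [this, mul_inv_cancel_right]
  rw [e]; exact hn

theorem Base.h20_Z_le_E {p : ℕ} {E : Subgroup G} {z₀ : G} (B : Base p E z₀) :
    Subgroup.zpowers z₀ ≤ E := by
  rw [Subgroup.zpowers_le]; exact B.z₀E

theorem Base.h20_Z_le_center {p : ℕ} {E : Subgroup G} {z₀ : G} (B : Base p E z₀) :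
    Subgroup.zpowers z₀ ≤ Subgroup.center G := by
  rw [Subgroup.zpowers_le]; exact B.z₀c

theorem Base.h20_card_Z {p : ℕ} {E : Subgroup G} {z₀ : G} (B : Base p E z₀) :
    Nat.card (Subgroup.zpowers z₀) = p := by
  rw [Nat.card_zpowers, B.z₀o]

theorem h20_card_dvd_sq_cases {p : ℕ} [hp : Fact p.Prime] {n : ℕ} (h : n ∣ p ^ 2) :
    n = 1 ∨ n = p ∨ n = p ^ 2 := by
  obtain ⟨i, hi, rfl⟩ := (Nat.dvd_prime_pow hp.out).mp h
  interval_cases i
  · left; simp
  · right; left; simp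
  · right; right; rfl

end

section
variable {G : Type*} [Group G] [Finite G] {p : ℕ} [hp : Fact p.Prime] {E : Subgroup G} {z₀ : G}

theorem Base.h20_E_ne_bot (B : Base p E z₀) : E ≠ ⊥ := by
  intro e
  have h := B.cardE
  rw [e, Subgroup.card_bot] at h
  have : 1 < p ^ 2 := Nat.one_lt_pow (by norm_num) hp.out.one_lt
  omega

theorem Base.h20_comm_top_ne (B : Base p E z₀) : ⁅E, (⊤ : Subgroup G)⁆ ≠ E := by
  intro e
  haveI : Group.IsNilpotent G := B.pG.isNilpotent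
  obtain ⟨n, hn⟩ := nilpotent_iff_lowerCentralSeries.mp (inferInstance : Group.IsNilpotent G)
  have hle : ∀ k, E ≤ (⊤ : Subgroup G).lowerCentralSeries k := by
    intro k
    induction k with
    | zero => exact le_top
    | succ k ih =>
      rw [Subgroup.lowerCentralSeries_succ]
      calc E = ⁅E, (⊤ : Subgroup G)⁆ := e.symm
        _ ≤ _ := Subgroup.commutator_mono ih le_rfl
  have := hle n
  rw [hn, le_bot_iff] at this
  exact B.h20_E_ne_bot this

theorem Base.h20_comm_top_le_Z (B : Base p E z₀) :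
    ⁅E, (⊤ : Subgroup G)⁆ ≤ Subgroup.zpowers z₀ := by
  haveI := B.nE
  haveI : Group.IsNilpotent G := B.pG.isNilpotent
  have hKB : ⁅E, (⊤ : Subgroup G)⁆ ≤ E := Subgroup.commutator_le_left _ _
  by_cases hK : ⁅E, (⊤ : Subgroup G)⁆ = ⊥
  · rw [hK]; exact bot_le
  have hcard : Nat.card ↥⁅E, (⊤ : Subgroup G)⁆ = p := by
    have hdvd : Nat.card ↥⁅E, (⊤ : Subgroup G)⁆ ∣ p ^ 2 := by
      rw [← B.cardE]; exact Subgroup.card_dvd_of_le hKB
    rcases h20_card_dvd_sq_cases hdvd with h | h | h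
    · exact absurd (Subgroup.card_eq_one.mp h) hK
    · exact h
    · exfalso
      apply B.h20_comm_top_ne
      exact Subgroup.eq_of_le_of_card_ge hKB (by rw [h, B.cardE])
  have hne := Cfsg.Agent.Lib.Helper1.normal_inf_center_ne_bot ⁅E, (⊤ : Subgroup G)⁆ hK
  obtain ⟨⟨z, hzK, hzZ⟩, hz1'⟩ := Subgroup.ne_bot_iff_exists_ne_one.mp hne
  have hz1 : z ≠ 1 := fun e => hz1' (Subtype.ext e)
  intro k hk
  have hz1K : (⟨z, hzK⟩ : ↥⁅E, (⊤ : Subgroup G)⁆) ≠ 1 := fun e => hz1 (congrArg Subtype.val e)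
  obtain ⟨i, hi⟩ := mem_zpowers_of_prime_card (g' := (⟨k, hk⟩ : ↥⁅E, (⊤ : Subgroup G)⁆)) hcard hz1K
  have hk' : k = z ^ i := by
    have := congrArg Subtype.val hi
    simpa using this.symm
  apply B.cent k (hKB hk)
  rw [hk']
  exact (Subgroup.center G).zpow_mem hzZ i

/-- **S0a**. `[E, G] ≤ Z`. -/
theorem Base.rc_mem_Z {G : Type*} [Group G] [Finite G] {p : ℕ} [Fact p.Prime] {E : Subgroup G}
    {z₀ : G} (B : Base p E z₀) (e : G) (he : e ∈ E) (g : G) : rc e g ∈ Subgroup.zpowers z₀ := by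
  rw [h20_rc_eq_comm]
  exact B.h20_comm_top_le_Z
    (Subgroup.commutator_mem_commutator (E.inv_mem he) (Subgroup.mem_top _))

/-- **S0b**. there is `e₁ ∈ E \ Z`, and `E = ⟨z₀⟩ × ⟨e₁⟩`. -/
theorem Base.exists_e1 {G : Type*} [Group G] [Finite G] {p : ℕ} [Fact p.Prime] {E : Subgroup G}
    {z₀ : G} (B : Base p E z₀) : ∃ e₁ ∈ E, e₁ ∉ Subgroup.zpowers z₀ := by
  by_contra h
  push Not at h
  have hle : E ≤ Subgroup.zpowers z₀ := h
  have h1 : Nat.card E ≤ Nat.card (Subgroup.zpowers z₀) :=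
    Nat.le_of_dvd Nat.card_pos (Subgroup.card_dvd_of_le hle)
  rw [B.cardE, B.h20_card_Z] at h1
  have hp1 : 1 < p := (Fact.out : p.Prime).one_lt
  nlinarith

theorem Base.h20_Z_sup_zpowers (B : Base p E z₀) (e₁ : G) (he₁ : e₁ ∈ E)
    (he₁z : e₁ ∉ Subgroup.zpowers z₀) : Subgroup.zpowers z₀ ⊔ Subgroup.zpowers e₁ = E := by
  obtain ⟨hcard, -, -⟩ := Cfsg.Agent.Lib.Helper21.OmegaCent.sup_zpowers_facts (p := p)
    (Subgroup.zpowers z₀) e₁ (B.eE e₁ he₁) he₁z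
    (fun l hl => ((Subgroup.mem_center_iff.mp (B.h20_Z_le_center hl)) e₁))
    (fun a ha c _ => ((Subgroup.mem_center_iff.mp (B.h20_Z_le_center ha)) c).symm)
    (fun l hl => B.eE l (B.h20_Z_le_E hl))
  apply Subgroup.eq_of_le_of_card_ge
  · exact sup_le B.h20_Z_le_E (by rw [Subgroup.zpowers_le]; exact he₁)
  · rw [hcard, B.h20_card_Z, B.cardE]; exact le_of_eq (by ring)

theorem h20_mem_zpowers_nat {x y : G} (h : y ∈ Subgroup.zpowers x) : ∃ i : ℕ, y = x ^ i := by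
  rw [← mem_powers_iff_mem_zpowers] at h
  obtain ⟨i, hi⟩ := h
  exact ⟨i, hi.symm⟩

/-- **S0c**. -/
theorem Base.E_eq {G : Type*} [Group G] [Finite G] {p : ℕ} [Fact p.Prime] {E : Subgroup G}
    {z₀ : G} (B : Base p E z₀) (e₁ : G) (he₁ : e₁ ∈ E) (he₁z : e₁ ∉ Subgroup.zpowers z₀)
    (e : G) (he : e ∈ E) : ∃ i j : ℕ, e = z₀ ^ i * e₁ ^ j := by
  rw [← B.h20_Z_sup_zpowers e₁ he₁ he₁z] at he
  haveI : (Subgroup.zpowers z₀).Normal :=
    h20_normal_of_le_center _ B.h20_Z_le_center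
  rw [Subgroup.mem_sup_of_normal_left] at he
  obtain ⟨a, ha, b, hb, rfl⟩ := he
  obtain ⟨i, rfl⟩ := h20_mem_zpowers_nat ha
  obtain ⟨j, rfl⟩ := h20_mem_zpowers_nat hb
  exact ⟨i, j, rfl⟩

/-- **S0d**. an element outside `C` moves every element of `E \ Z`. -/
theorem Base.rc_ne_one {G : Type*} [Group G] [Finite G] {p : ℕ} [Fact p.Prime] {E : Subgroup G}
    {z₀ : G} (B : Base p E z₀) (e : G) (he : e ∈ E) (hez : e ∉ Subgroup.zpowers z₀) (g : G)
    (hg : g ∉ Subgroup.centralizer (E : Set G)) : rc e g ≠ 1 := by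
  intro h1
  rw [rc_eq_one_iff] at h1
  apply hg
  rw [Subgroup.mem_centralizer_iff]
  intro x hx
  obtain ⟨i, j, rfl⟩ := B.E_eq e he hez x hx
  have hz : Commute z₀ g := (Subgroup.mem_center_iff.mp B.z₀c g).symm
  have he' : Commute e g := h1
  exact ((hz.pow_left i).mul_left (he'.pow_left j)).eq

/-- **S0e**. `r ∈ E \ Z`, `s ∈ Z`: `r^j s ∈ Z` only if `p ∣ j`. -/
theorem Base.dvd_of_pow_mul_mem {G : Type*} [Group G] [Finite G] {p : ℕ} [Fact p.Prime]
    {E : Subgroup G} {z₀ : G} (B : Base p E z₀) (r : G) (hr : r ∈ E)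
    (hrz : r ∉ Subgroup.zpowers z₀) (s : G) (hs : s ∈ Subgroup.zpowers z₀) (j : ℕ)
    (h : r ^ j * s ∈ Subgroup.zpowers z₀) : p ∣ j := by
  have hrj : r ^ j ∈ Subgroup.zpowers z₀ := by
    have := (Subgroup.zpowers z₀).mul_mem h ((Subgroup.zpowers z₀).inv_mem hs)
    simpa using this
  by_contra hpj
  apply hrz
  have hcop : Nat.Coprime j p := ((Fact.out : p.Prime).coprime_iff_not_dvd.mpr hpj).symm
  have hrp : r ^ p = 1 := B.eE r hr
  -- r = (r^j)^a * (r^p)^b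
  have hgcd : r ^ (Nat.gcd j p) ∈ Subgroup.zpowers z₀ := by
    have hb := Nat.gcd_eq_gcd_ab j p
    have : r ^ ((Nat.gcd j p : ℕ) : ℤ) = (r ^ j) ^ (Nat.gcdA j p) * (r ^ p) ^ (Nat.gcdB j p) := by
      rw [hb, zpow_add, zpow_mul, zpow_mul, zpow_natCast, zpow_natCast]
    rw [← zpow_natCast, this, hrp, one_zpow, mul_one]
    exact (Subgroup.zpowers z₀).zpow_mem hrj _
  rw [hcop, pow_one] at hgcd
  exact hgcd

end

end Cfsg.Agent.Lib.Helper18.BLK
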