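import Mathlib
import Cfsg.Agent.Lib.helper3.BSZ.Defs

/-!
# Project BSZ, spare copies (own names) of rows E05 (`nu_invol_card`) and E06 (`nu_fiber`):
the EXACT statements of `helper3/BSZ/Skel.lean.txt`, under the names `bsze05_h20_nu_invol_card` / `bsze06_h20_nu_fiber`.
-/

set_option autoImplicit false

namespace Cfsg.Agent.Lib.helper3.BSZ

open Cfsg Cfsg.Agent.Lib.helper3

variable {F : Type*} [Field F] [Fintype F] {m : ℕ}

/-- E05, own-name copy: the involutions of `N(U)` inject into `U` by `t' ↦ t₀ * t'`. -/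
theorem bsze05_h20_nu_invol_card (hF : Fintype.card F = 2 ^ (2 * m + 1)) (hm : 1 ≤ m) {U : Subgroup (Sz F m)}
    (hU : IsTorus m U) :
    Nat.card {t' : Sz F m // t' ∈ Subgroup.normalizer (U : Set (Sz F m)) ∧ t' ≠ 1 ∧ t' * t' = 1} ≤ Nat.card U := by
  have hfin : Finite (Sz F m) := finite_Sz hF hm
  by_cases hne : Nonempty {t' : Sz F m // t' ∈ Subgroup.normalizer (U : Set (Sz F m)) ∧ t' ≠ 1 ∧ t' * t' = 1}
  · obtain ⟨⟨t₀, ht₀N, ht₀1, ht₀2⟩⟩ := hne
    have hmem : ∀ t' : {t' : Sz F m // t' ∈ Subgroup.normalizer (U : Set (Sz F m)) ∧ t' ≠ 1 ∧ t' * t' = 1},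
        t₀ * t'.1 ∈ U := by
      rintro ⟨t', ht'N, ht'1, ht'2⟩
      exact invol_mul_mem_torus hF hm hU ht₀N ht₀1 ht₀2 ht'N ht'1 ht'2
    apply Nat.card_le_card_of_injective (fun t' => (⟨t₀ * t'.1, hmem t'⟩ : U))
    intro x y hxy
    have h1 : t₀ * x.1 = t₀ * y.1 := congrArg Subtype.val hxy
    exact Subtype.ext (mul_left_cancel h1)
  · rw [not_nonempty_iff] at hne
    rw [Nat.card_of_isEmpty]
    exact Nat.zero_le _

/-- E06, own-name copy: two involutions of `N(cj U' v) ∩ N(cj U' v')` force `v⁻¹ * v' ∈ N(U')`. -/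
theorem bsze06_h20_nu_fiber (hF : Fintype.card F = 2 ^ (2 * m + 1)) (hm : 1 ≤ m) {U' : Subgroup (Sz F m)}
    (hU' : IsTorus m U') {s t' v v' : Sz F m} (hs1 : s ≠ 1) (hs2 : s * s = 1) (ht1 : t' ≠ 1) (ht2 : t' * t' = 1)
    (hne : t' ≠ s)
    (h1 : s ∈ Subgroup.normalizer ((cj U' v : Subgroup (Sz F m)) : Set (Sz F m)))
    (h2 : t' ∈ Subgroup.normalizer ((cj U' v : Subgroup (Sz F m)) : Set (Sz F m)))
    (h3 : s ∈ Subgroup.normalizer ((cj U' v' : Subgroup (Sz F m)) : Set (Sz F m)))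
    (h4 : t' ∈ Subgroup.normalizer ((cj U' v' : Subgroup (Sz F m)) : Set (Sz F m))) :
    v⁻¹ * v' ∈ Subgroup.normalizer (U' : Set (Sz F m)) := by
  have hT : IsTorus m (cj U' v) := hU'.map_conj v
  have hT' : IsTorus m (cj U' v') := hU'.map_conj v'
  have hst1 : s * t' ≠ 1 := by
    intro h
    apply hne
    have h5 : t' = s⁻¹ := eq_inv_of_mul_eq_one_right h
    rw [h5]
    exact inv_eq_of_mul_eq_one_left hs2
  have hm1 : s * t' ∈ cj U' v := invol_mul_mem_torus hF hm hT h1 hs1 hs2 h2 ht1 ht2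
  have hm2 : s * t' ∈ cj U' v' := invol_mul_mem_torus hF hm hT' h3 hs1 hs2 h4 ht1 ht2
  have heq : cj U' v = cj U' v' := torus_unique hF hm hT hT' hm1 hm2 hst1
  apply mem_normalizer_of_map_conj_eq
  have h6 : (cj U' v').map (MulAut.conj v⁻¹).toMonoidHom = U'.map (MulAut.conj (v⁻¹ * v')).toMonoidHom :=
    map_conj_map_conj v⁻¹ v' U'
  rw [← h6, ← heq]
  have h7 : (cj U' v).map (MulAut.conj v⁻¹).toMonoidHom = U'.map (MulAut.conj (v⁻¹ * v)).toMonoidHom :=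
    map_conj_map_conj v⁻¹ v U'
  rw [h7, inv_mul_cancel, map_one]
  ext x
  simp

end Cfsg.Agent.Lib.helper3.BSZ
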