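import Mathlib
import Cfsg.Prelude.Def_OddOrderChar
import Cfsg.Agent.Lib.helper7.BD.D1Defs
import Cfsg.Agent.Lib.helper7.BD.D1Defs2
import Cfsg.Agent.Lib.helper7.KleinDef8
import Cfsg.Agent.Lib.Helper25.CentralDefect
import Cfsg.Agent.Lib.Helper24.CyclicInertial3
import Cfsg.Agent.Lib.Helper10.BDCHARS
import Cfsg.Agent.Lib.helper2.BDREPS
import Cfsg.Agent.Lib.Helper13.BD3IBLK

/-!
# Project BD, stage B, piece 3-KD: the subsection count at a nontrivial element of `P`
-/

set_option autoImplicit false
set_option linter.unusedVariables false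
set_option linter.unusedSectionVars false
set_option linter.style.haveILetI false

namespace Cfsg.Agent.Lib.helper7.BD

open Cfsg.Agent.Lib.helper7

universe u

section glob

variable {G : Type u} [Group G] [Fintype G] {M : Ideal Cfsg.AlgInt} {p : ℕ} [Fact p.Prime]
  {P : Sylow p G} {B : Set (Cfsg.IrrCharacter G)}
  {b : Set (Cfsg.IrrCharacter (Subgroup.centralizer ((P : Subgroup G) : Set G)))}
  {θ : Cfsg.IrrCharacter (Subgroup.centralizer ((P : Subgroup G) : Set G))} {T : Subgroup G}

/-- every block of `C = C_G(P)` inducing `B` has rank one -/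
theorem bd3kd_rank_one (h : RootHyp p M P B b θ T)
    (b' : Set (Cfsg.IrrCharacter (Subgroup.centralizer ((P : Subgroup G) : Set G))))
    (hb' : Cfsg.IsInducedBlock M (Subgroup.centralizer ((P : Subgroup G) : Set G)) b' B) :
    Cfsg.blockRank p b' = 1 := by
  classical
  haveI : Fintype ↥(Subgroup.centralizer ((P : Subgroup G) : Set G)) := Fintype.ofFinite _
  have hPC : (P : Subgroup G) ≤ Subgroup.centralizer ((P : Subgroup G) : Set G) :=
    bdchars_le_centralizer (P : Subgroup G) h.card_P
  have hdef := Cfsg.Agent.Lib.Helper24.ci_defect h.hM B (P : Subgroup G) h.hBP P.2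
    (Subgroup.centralizer ((P : Subgroup G) : Set G)) hPC le_rfl b' hb'
  refine Cfsg.Agent.Lib.Helper25.cd_main p M h.hM b' hb'.1 _ hdef ?_
  intro y hy
  rw [Subgroup.mem_center_iff]
  intro g
  apply Subtype.ext
  have hy' : (y : G) ∈ (P : Subgroup G) := Subgroup.mem_subgroupOf.mp hy
  exact (Subgroup.mem_centralizer_iff.mp g.2 (y : G) hy').symm

/-- KD : the subsection count at a nontrivial element of `P` -/
theorem root_kd_n (h : RootHyp p M P B b θ T) (x : G) (hx : x ∈ (P : Subgroup G)) (hx1 : x ≠ 1) :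
    h7_kd_n p M B x = T.relIndex (Subgroup.normalizer ((P : Subgroup G) : Set G)) := by
  classical
  haveI : Fintype ↥(Subgroup.centralizer ((P : Subgroup G) : Set G)) := Fintype.ofFinite _
  unfold h7_kd_n
  rw [h7_kd_transport p M B _ _
    (h2_centralizer_singleton_eq p (P : Subgroup G) h.card_P x hx hx1)]
  rw [h7_kd_finsum_eq
    {b' : Set (Cfsg.IrrCharacter (Subgroup.centralizer ((P : Subgroup G) : Set G))) |
      Cfsg.IsInducedBlock M (Subgroup.centralizer ((P : Subgroup G) : Set G)) b' B}
    (fun b' => Cfsg.blockRank p b') (fun b' hb' => bd3kd_rank_one h b' hb')]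
  rw [← (root_blocks_inducing h).2, Nat.card_coe_set_eq]

end glob

end Cfsg.Agent.Lib.helper7.BD
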