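import Mathlib
import Cfsg.Prelude.Def_OddOrderChar
import Cfsg.Agent.Lib.helper7.BD.D1Defs
import Cfsg.Agent.Lib.helper7.BD.D1Defs2
import Cfsg.Agent.Lib.helper7.KleinDef8
import Cfsg.Agent.Lib.helper2.BDREPS
import Cfsg.Agent.Lib.Helper25.BDTSUB
import Cfsg.Agent.Lib.Helper20.BD3KD

/-!
# Project BD, stage B, piece 3-K: `k(B) = l(B) + (p - 1) / e`
-/

set_option autoImplicit false
set_option linter.unusedVariables false
set_option linter.unusedSectionVars false
set_option linter.style.haveILetI false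

namespace Cfsg.Agent.Lib.helper7.BD

open Cfsg.Agent.Lib.helper7

universe u

section glob

variable {G : Type u} [Group G] [Fintype G] {M : Ideal Cfsg.AlgInt} {p : ℕ} [Fact p.Prime]
  {P : Sylow p G} {B : Set (Cfsg.IrrCharacter G)}
  {b : Set (Cfsg.IrrCharacter (Subgroup.centralizer ((P : Subgroup G) : Set G)))}
  {θ : Cfsg.IrrCharacter (Subgroup.centralizer ((P : Subgroup G) : Set G))} {T : Subgroup G}

/-- an element of order `p` is conjugate to a nontrivial element of the Sylow `p`-subgroup `P` -/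
theorem bd3k_conj_into (P : Sylow p G) (x : G) (hx : orderOf x = p) :
    ∃ x' : G, x' ∈ (P : Subgroup G) ∧ x' ≠ 1 ∧ IsConj x x' := by
  have hp := (Fact.out : p.Prime)
  have hQ : IsPGroup p (Subgroup.zpowers x) :=
    h7_kd_isPGroup_zpowers p x ⟨1, by rw [hx, pow_one]⟩
  obtain ⟨Q, hQ'⟩ := hQ.exists_le_sylow
  obtain ⟨g, hg⟩ := MulAction.exists_smul_eq G Q P
  refine ⟨g * x * g⁻¹, ?_, ?_, isConj_iff.mpr ⟨g, rfl⟩⟩
  · rw [← hg, Sylow.smul_def, Sylow.pointwise_smul_def,
      Subgroup.mem_pointwise_smul_iff_inv_smul_mem]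
    have : (MulAut.conj g)⁻¹ • (g * x * g⁻¹) = x := by
      rw [MulAut.smul_def, ← map_inv, MulAut.conj_apply]
      group
    rw [this]
    exact hQ' (Subgroup.mem_zpowers x)
  · intro h1
    have hx1 : x = 1 := by
      have : g⁻¹ * (g * x * g⁻¹) * g = g⁻¹ * 1 * g := by rw [h1]
      simpa [mul_assoc] using this
    rw [hx1, orderOf_one] at hx
    exact hp.one_lt.ne hx

/-- K : `k(B) = l(B) + (p - 1) / e` -/
theorem root_card_eq (h : RootHyp p M P B b θ T) :
    Nat.card B = Cfsg.blockRank p B +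
      (p - 1) / (Subgroup.centralizer ((P : Subgroup G) : Set G)).relIndex T := by
  classical
  have hp := (Fact.out : p.Prime)
  obtain ⟨X, h1X, hXp, hXrep, hcard⟩ := h7_kd_brauer p M h.hM B h.hB
  obtain ⟨hord, hcnt⟩ := card_pclass_reps p P h.card_P X h1X hXp hXrep
  have hsum : ∑ x ∈ X.erase 1, h7_kd_n p M B x =
      (X.erase 1).card * T.relIndex (Subgroup.normalizer ((P : Subgroup G) : Set G)) := by
    rw [Finset.sum_congr rfl (fun x hx => by
      obtain ⟨x', hx'P, hx'1, hconj⟩ := bd3k_conj_into P x (hord x hx)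
      rw [h7_kd_n_conj p M h.hM B h.hB x x' ⟨1, by rw [hord x hx, pow_one]⟩ hconj,
        root_kd_n h x' hx'P hx'1])]
    rw [Finset.sum_const, smul_eq_mul]
  rw [hcard, hsum]
  congr 1
  obtain ⟨hCT, hTN⟩ := root_C_le_T h
  have hfe := Subgroup.relIndex_mul_relIndex _ _ _ hCT hTN
  rw [← hfe] at hcnt
  have he0 : 0 < (Subgroup.centralizer ((P : Subgroup G) : Set G)).relIndex T := by
    rcases Nat.eq_zero_or_pos ((Subgroup.centralizer ((P : Subgroup G) : Set G)).relIndex T)
      with h0 | h0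
    · rw [h0, zero_mul, mul_zero] at hcnt
      have := hp.two_le
      omega
    · exact h0
  rw [← hcnt]
  rw [show (X.erase 1).card * ((Subgroup.centralizer ((P : Subgroup G) : Set G)).relIndex T *
      T.relIndex (Subgroup.normalizer ((P : Subgroup G) : Set G))) =
      (Subgroup.centralizer ((P : Subgroup G) : Set G)).relIndex T *
        ((X.erase 1).card * T.relIndex (Subgroup.normalizer ((P : Subgroup G) : Set G))) by ring]
  rw [Nat.mul_div_cancel_left _ he0]

end glob

end Cfsg.Agent.Lib.helper7.BD
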