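import Mathlib
import Cfsg.Agent.Lib.helper15.PSL.Defs
import Cfsg.Agent.Lib.Helper13.PSLEXB
import Cfsg.Agent.Lib.Helper25.CharOrth

/-!
# Project PSL, piece QGEN : the products of the values of a pair of exceptional characters at two
elements of `P ∖ 1`
-/

set_option autoImplicit false
set_option linter.unusedVariables false
set_option linter.unusedSectionVars false
open scoped ComplexConjugate
open Classical

namespace Cfsg.Agent.Lib.helper15.PSL

open Cfsg.Agent.Lib.helper7 Cfsg.Agent.Lib.helper7.BR Cfsg.Agent.Lib.helper2 Cfsg.Agent.Lib.Helper25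
  Cfsg.Agent.Lib.Helper29 Cfsg.Agent.Lib.helper15.BH

universe u

variable {G : Type u} [Group G] [Fintype G] {p : ℕ} [Fact p.Prime]

/-- an irreducible character takes the same value on conjugate elements -/
theorem pslqgen_conj (η : Cfsg.IrrCharacter G) {a b : G} (h : IsConj a b) :
    (η : G → ℂ) a = (η : G → ℂ) b := by
  obtain ⟨c, hc⟩ := isConj_iff.mp h
  rw [← hc, irr_conj_invariant η a c]

/-- every element of `P ∖ 1` is conjugate to one of two non-conjugate elements of `P ∖ 1` -/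
theorem pslqgen_two {f : ℕ} {P : Sylow p G} (hL : Loc p f P) (a c : G)
    (ha : a ∈ (P : Subgroup G)) (ha1 : a ≠ 1) (hc : c ∈ (P : Subgroup G)) (hc1 : c ≠ 1)
    (hac : ¬ IsConj a c) (x : G) (hx : x ∈ (P : Subgroup G)) (hx1 : x ≠ 1) :
    IsConj a x ∨ IsConj c x := by
  by_contra hcon
  push Not at hcon
  obtain ⟨hax, hcx⟩ := hcon
  have hF : Cfsg.IsClassFunction G (fun y : G => if IsConj x y then (1 : ℂ) else 0) := by
    intro g h
    have : IsConj x (h * g * h⁻¹) ↔ IsConj x g := by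
      constructor
      · intro h1
        exact h1.trans (isConj_iff.mpr ⟨h⁻¹, by group⟩)
      · intro h1
        exact h1.trans (isConj_iff.mpr ⟨h, rfl⟩)
    simp only [this]
  have h1 := two_class hL (fun y : G => if IsConj x y then (1 : ℂ) else 0) hF a c ha ha1 hc hc1 hac
  have hxa : ¬ IsConj x a := fun h => hax h.symm
  have hxc : ¬ IsConj x c := fun h => hcx h.symm
  simp only [if_neg hxa, if_neg hxc, mul_zero, add_zero] at h1
  have h2 : ∑ y : ↥(P : Subgroup G),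
      (if (y : G) = 1 then (0 : ℂ) else (if IsConj x (y : G) then (1 : ℂ) else 0)) =
      ∑ y : ↥(P : Subgroup G), (if ((y : G) ≠ 1 ∧ IsConj x (y : G)) then (1 : ℂ) else 0) := by
    refine Finset.sum_congr rfl fun y _ => ?_
    by_cases hy : (y : G) = 1
    · simp [hy]
    · simp [hy]
  rw [h2, Finset.sum_boole] at h1
  have h3 : (⟨x, hx⟩ : ↥(P : Subgroup G)) ∈ (Finset.univ : Finset ↥(P : Subgroup G)).filter
      (fun y : ↥(P : Subgroup G) => (y : G) ≠ 1 ∧ IsConj x (y : G)) := by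
    simp only [Finset.mem_filter, Finset.mem_univ, true_and]
    exact ⟨hx1, IsConj.refl x⟩
  have h4 : ((Finset.univ : Finset ↥(P : Subgroup G)).filter
      (fun y : ↥(P : Subgroup G) => (y : G) ≠ 1 ∧ IsConj x (y : G))).card ≠ 0 :=
    Finset.card_ne_zero_of_mem h3
  exact h4 (by exact_mod_cast h1)

/-- QGEN : the products of the values of a pair of `exceptional' characters at two elements of `P ∖ 1` -/
theorem Q_gen {f : ℕ} {P : Sylow p G} (hL : Loc p f P) (η₁ η₂ : Cfsg.IrrCharacter G) (ε : ℂ)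
    (hε : ε = 1 ∨ ε = -1)
    (hsum : ∀ x ∈ (P : Subgroup G), x ≠ 1 → (η₁ : G → ℂ) x + (η₂ : G → ℂ) x = -ε)
    (hP1 : ∑ x : ↥(P : Subgroup G), (if (x : G) = 1 then 0 else (η₁ : G → ℂ) (x : G)) = -ε * (f : ℂ))
    (hsq : ∑ x : ↥(P : Subgroup G),
        (if (x : G) = 1 then 0 else (η₁ : G → ℂ) (x : G) * conj ((η₁ : G → ℂ) (x : G))) =
      (f : ℂ) * ((f : ℂ) + 1))
    (a₀ b : G) (ha₀ : a₀ ∈ (P : Subgroup G)) (ha₀1 : a₀ ≠ 1) (hb : b ∈ (P : Subgroup G)) (hb1 : b ≠ 1) :
    (η₁ : G → ℂ) a₀ * (η₁ : G → ℂ) b + (η₂ : G → ℂ) a₀ * (η₂ : G → ℂ) b =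
      if IsConj a₀⁻¹ b then (f : ℂ) + 1 else -(f : ℂ) := by
  obtain ⟨c, hc, hc1, hac⟩ := exists_nonconj hL a₀ ha₀ ha₀1
  have hf0 : (f : ℂ) ≠ 0 := by
    have := hL.f_ge
    exact_mod_cast (by omega : f ≠ 0)
  have hcl₁ : Cfsg.IsClassFunction G (η₁ : G → ℂ) := fun g h => irr_conj_invariant η₁ g h
  have hcl₂ : Cfsg.IsClassFunction G (fun g => (η₁ : G → ℂ) g * conj ((η₁ : G → ℂ) g)) := by
    intro g h
    show (η₁ : G → ℂ) (h * g * h⁻¹) * conj ((η₁ : G → ℂ) (h * g * h⁻¹)) = _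
    rw [irr_conj_invariant η₁ g h]
  set u : ℂ := (η₁ : G → ℂ) a₀ with hu
  set w : ℂ := (η₁ : G → ℂ) c with hw
  have e1 : u + w = -ε := by
    have h1 := two_class hL (η₁ : G → ℂ) hcl₁ a₀ c ha₀ ha₀1 hc hc1 hac
    rw [hP1] at h1
    have h2 : (f : ℂ) * (u + w) = (f : ℂ) * (-ε) := by
      rw [mul_add, ← h1]
      ring
    exact mul_left_cancel₀ hf0 h2
  have e2 : u * conj u + w * conj w = (f : ℂ) + 1 := by
    have h1 := two_class hL (fun g => (η₁ : G → ℂ) g * conj ((η₁ : G → ℂ) g)) hcl₂ a₀ c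
      ha₀ ha₀1 hc hc1 hac
    rw [hsq] at h1
    have h2 : (f : ℂ) * (u * conj u + w * conj w) = (f : ℂ) * ((f : ℂ) + 1) := by
      rw [h1]
      ring
    exact mul_left_cancel₀ hf0 h2
  have e3 : (η₂ : G → ℂ) a₀ = w := by
    have := hsum a₀ ha₀ ha₀1
    rw [← hu] at this
    linear_combination this - e1
  have e4 : (η₂ : G → ℂ) c = u := by
    have := hsum c hc hc1
    rw [← hw] at this
    linear_combination this - e1
  have hεε : ε * ε = 1 := by
    rcases hε with h | h <;> rw [h] <;> norm_num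
  have hεc : conj ε = ε := by
    rcases hε with h | h <;> rw [h] <;> simp
  have hinvP : a₀⁻¹ ∈ (P : Subgroup G) := (P : Subgroup G).inv_mem ha₀
  have hinv1 : a₀⁻¹ ≠ 1 := by
    intro h
    exact ha₀1 (inv_eq_one.mp h)
  have e5 : (η₁ : G → ℂ) a₀⁻¹ = conj u := irr_inv η₁ a₀
  rcases pslqgen_two hL a₀ c ha₀ ha₀1 hc hc1 hac a₀⁻¹ hinvP hinv1 with hi | hi
  · -- a₀ ~ a₀⁻¹ : u is real
    have e6 : conj u = u := by
      rw [← e5, ← pslqgen_conj η₁ hi]
    have e7 : conj w = w := by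
      have : w = -ε - u := by linear_combination e1
      rw [this, map_sub, map_neg, hεc, e6]
    rw [e6, e7] at e2
    rcases pslqgen_two hL a₀ c ha₀ ha₀1 hc hc1 hac b hb hb1 with hb' | hb'
    · have hcj : IsConj a₀⁻¹ b := hi.symm.trans hb'
      rw [if_pos hcj, ← pslqgen_conj η₁ hb', ← pslqgen_conj η₂ hb', e3, ← hu]
      linear_combination e2
    · have hcj : ¬ IsConj a₀⁻¹ b := by
        intro h
        exact hac ((hi.trans h).trans hb'.symm)
      rw [if_neg hcj, ← pslqgen_conj η₁ hb', ← pslqgen_conj η₂ hb', e3, e4, ← hw]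
      linear_combination (u + w - ε) * e1 - e2 + hεε
  · -- c ~ a₀⁻¹ : w = conj u
    have e6 : w = conj u := by
      rw [← e5, hw]
      exact pslqgen_conj η₁ hi
    have e7 : conj w = u := by
      rw [e6, Complex.conj_conj]
    rw [e7] at e2
    rcases pslqgen_two hL a₀ c ha₀ ha₀1 hc hc1 hac b hb hb1 with hb' | hb'
    · have hcj : ¬ IsConj a₀⁻¹ b := by
        intro h
        exact hac (hb'.trans (h.symm.trans hi.symm))
      rw [if_neg hcj, ← pslqgen_conj η₁ hb', ← pslqgen_conj η₂ hb', e3, ← hu]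
      rw [← e6] at e2
      linear_combination (u + w - ε) * e1 - e2 + hεε
    · have hcj : IsConj a₀⁻¹ b := hi.symm.trans hb'
      rw [if_pos hcj, ← pslqgen_conj η₁ hb', ← pslqgen_conj η₂ hb', e3, e4, ← hw]
      rw [← e6] at e2
      linear_combination e2

end Cfsg.Agent.Lib.helper15.PSL
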