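import Mathlib
import Cfsg.Agent.Lib.helper15.PSL.Defs
import Cfsg.Agent.Lib.helper7.BR.Defs
import Cfsg.Agent.Lib.Helper28.BRN1a
import Cfsg.Agent.Lib.Helper28.BRN1b
import Cfsg.Agent.Lib.Helper28.BRN1c
import Cfsg.Agent.Lib.Helper16.BRN1d
import Cfsg.Agent.Lib.Helper28.PSLCARDG
import Cfsg.Agent.S0732

/-!
# Project PSL, piece RECOG (helper20)

`G` perfect, `|G : N_G(P)| = p + 1`, the local configuration `Loc p f P`: then
`G / Z(G) ≃ PSL(2, p)`, via S0732 applied to the image of `G` in `Sym(Syl_p(G))`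
(adaptation of `Helper16.BRN1d.case_n_eq_one`).
-/

set_option autoImplicit false
set_option linter.unusedVariables false
set_option linter.unusedSectionVars false
open scoped ComplexConjugate
open Classical

namespace Cfsg.Agent.Lib.helper15.PSL

open Cfsg.Agent.Lib.helper7 Cfsg.Agent.Lib.helper7.BR Cfsg.Agent.Lib.helper2 Cfsg.Agent.Lib.Helper25
  Cfsg.Agent.Lib.Helper29 Cfsg.Agent.Lib.helper15.BH

universe u

variable {G : Type u} [Group G] [Fintype G] {p : ℕ} [Fact p.Prime]

/-- the centre acts trivially on the Sylow subgroups -/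
theorem pslrecog_center_le_ker :
    Subgroup.center G ≤ (MulAction.toPermHom G (Sylow p G)).ker := by
  intro z hz
  rw [MonoidHom.mem_ker]
  apply Equiv.ext
  intro Q
  show z • Q = Q
  rw [Sylow.smul_eq_iff_mem_normalizer]
  exact Subgroup.center_le_normalizer _ hz

/-- RECOG : `G` perfect, `|G : N_G(P)| = p + 1`, `C_G(P) = P × Z(G)`, `|N_G(P) : C_G(P)| = (p - 1) / 2` -/
theorem recognize {f : ℕ} {P : Sylow p G} (hL : Loc p f P) (hperf : commutator G = ⊤)
    (hidx : (nrm P).index = p + 1) :
    Nonempty ((G ⧸ Subgroup.center G) ≃* Matrix.ProjectiveSpecialLinearGroup (Fin 2) (ZMod p)) := by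
  have hp : p.Prime := Fact.out
  have hf2 := hL.f_ge
  have hpf := hL.two_f
  have hp2 : p ≠ 2 := by omega
  have hp3 : 3 ≤ p := by omega
  have hGcard := card_G hL
  rw [hidx] at hGcard
  -- the order of `N_G(P)`
  have hN : Nat.card ↥(nrm P) = p * (f * Nat.card ↥(Subgroup.center G)) := by
    have hCN : cen P ≤ nrm P := Subgroup.centralizer_le_normalizer _
    have h1 := Subgroup.card_mul_index (nrm P)
    rw [hidx, hGcard] at h1
    have h2 : Nat.card ↥(nrm P) * (p + 1) = p * (f * Nat.card ↥(Subgroup.center G)) * (p + 1) := by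
      rw [h1]; ring
    exact Nat.eq_of_mul_eq_mul_right (by omega) h2
  -- the action on the Sylow subgroups
  haveI : Fintype (Sylow p G) := Fintype.ofFinite _
  let φ : G →* Equiv.Perm (Sylow p G) := MulAction.toPermHom G (Sylow p G)
  obtain ⟨hKN, hKp⟩ := sylow_kernel P hL.cardP hL.not_normal
  have hα : Fintype.card (Sylow p G) = p + 1 := by
    rw [← Nat.card_eq_fintype_card, P.card_eq_index_normalizer]
    exact hidx
  have hZK : Subgroup.center G ≤ φ.ker := pslrecog_center_le_ker
  -- `|K|` divides `f v`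
  have hKdvd : Nat.card ↥φ.ker ∣ f * Nat.card ↥(Subgroup.center G) := by
    have h1 : Nat.card ↥φ.ker ∣ Nat.card ↥(nrm P) := Subgroup.card_dvd_of_le hKN
    rw [hN] at h1
    have hcop : Nat.Coprime (Nat.card ↥φ.ker) p :=
      (Nat.Coprime.symm ((Nat.Prime.coprime_iff_not_dvd hp).mpr hKp))
    exact hcop.dvd_of_dvd_mul_left h1
  -- `v` divides `|K|`
  have hvdvd : Nat.card ↥(Subgroup.center G) ∣ Nat.card ↥φ.ker := Subgroup.card_dvd_of_le hZK
  obtain ⟨d, hd⟩ := hKdvd
  obtain ⟨c, hc⟩ := hvdvd
  have hKpos : 0 < Nat.card ↥φ.ker := Nat.card_pos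
  have hvpos : 0 < Nat.card ↥(Subgroup.center G) := Nat.card_pos
  -- `c d = f`
  have hcd : c * d = f := by
    have h1 : Nat.card ↥(Subgroup.center G) * (c * d) = Nat.card ↥(Subgroup.center G) * f := by
      rw [← mul_assoc, ← hc, ← hd]; ring
    exact Nat.eq_of_mul_eq_mul_left hvpos h1
  have hcpos : 0 < c := by
    rcases Nat.eq_zero_or_pos c with h0 | h0
    · rw [h0, mul_zero] at hc; omega
    · exact h0
  have hdlt : d < p := by
    have : d ≤ c * d := Nat.le_mul_of_pos_left d hcpos
    omega
  -- the order of the image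
  have hcardR : Nat.card ↥φ.range * Nat.card ↥φ.ker = Nat.card G := by
    have h1 := Subgroup.card_eq_card_quotient_mul_card_subgroup φ.ker
    have h2' : Nat.card (G ⧸ φ.ker) = Nat.card ↥φ.range :=
      Nat.card_congr (QuotientGroup.quotientKerEquivRange φ).toEquiv
    rw [h2'] at h1
    exact h1.symm
  have hR : Nat.card ↥φ.range = (p + 1) * p * d := by
    have h1 : Nat.card ↥φ.range * Nat.card ↥φ.ker = (p + 1) * p * d * Nat.card ↥φ.ker := by
      rw [hcardR, hGcard, mul_assoc (p + 1) f p, mul_assoc (p + 1) (f * p),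
        mul_assoc f p, mul_comm p (Nat.card ↥(Subgroup.center G)), ← mul_assoc f, hd]; ring
    exact Nat.eq_of_mul_eq_mul_right hKpos h1
  -- transitivity
  haveI : MulAction.IsPretransitive ↥φ.range (Sylow p G) := by
    constructor
    intro P₁ P₂
    obtain ⟨g, hg⟩ := MulAction.exists_smul_eq G P₁ P₂
    exact ⟨⟨φ g, ⟨g, rfl⟩⟩, hg⟩
  -- the surjection onto the image
  have hsurj : Function.Surjective φ.rangeRestrict := φ.rangeRestrict_surjective
  rcases Cfsg.Agent.S0732.result hp hα φ.range hR hdlt with ⟨-, ⟨e⟩⟩ | ⟨h2d, ⟨e⟩⟩ | ⟨r, hr, hpr, -, e, he⟩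
  · -- `PGL(2,p)` is not perfect
    exfalso
    apply pgl_not_perfect (p := p) hp2
    exact brn1d_perfect_of_surj hperf (e.toMonoidHom.comp φ.rangeRestrict)
      (e.surjective.comp hsurj)
  · -- `PSL(2,p)`
    have hdf : d = f := by omega
    have hc1 : c = 1 := by
      rw [hdf] at hcd
      have : c * f = 1 * f := by rw [one_mul]; exact hcd
      exact Nat.eq_of_mul_eq_mul_right (by omega) this
    have hKv : Nat.card ↥φ.ker = Nat.card ↥(Subgroup.center G) := by rw [hc, hc1, mul_one]
    have hKZ : Subgroup.center G = φ.ker :=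
      Subgroup.eq_of_le_of_card_ge hZK (le_of_eq hKv)
    exact ⟨((QuotientGroup.quotientMulEquivOfEq hKZ).trans
      (QuotientGroup.quotientKerEquivRange φ)).trans e⟩
  · -- semi-affine: a perfect subgroup is trivial
    exfalso
    let ψ : Equiv.Perm (Sylow p G) →* Equiv.Perm (GaloisField 2 r) := (Equiv.permCongrHom e).toMonoidHom
    let H : Subgroup (Equiv.Perm (GaloisField 2 r)) := φ.range.map ψ
    have hH : H ≤ Cfsg.semiaffineGroup (GaloisField 2 r) := by
      rintro _ ⟨σ, hσ, rfl⟩
      have := he ⟨σ, hσ⟩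
      have e1 : ψ σ = e.symm.trans (Equiv.trans σ e) := by
        ext x
        rfl
      rw [e1]
      exact this
    -- `G → H` surjective
    let g : G →* ↥H := (ψ.subgroupMap φ.range).comp φ.rangeRestrict
    have hg : Function.Surjective g :=
      (ψ.subgroupMap_surjective φ.range).comp hsurj
    have hHperf : commutator ↥H = ⊤ := brn1d_perfect_of_surj hperf g hg
    have hHbot : H = ⊥ := semiaffine_perfect_bot H hH hHperf
    -- so the image of `G` is trivial, contradicting transitivity
    have hRbot : φ.range = ⊥ := by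
      have hinj : Function.Injective ψ := (Equiv.permCongrHom e).injective
      have : φ.range.map ψ = (⊥ : Subgroup _).map ψ := by rw [Subgroup.map_bot]; exact hHbot
      exact Subgroup.map_injective hinj this
    have hcard1 : Nat.card ↥φ.range = 1 := by rw [hRbot]; exact Subgroup.card_bot
    rw [hR] at hcard1
    have : 3 ≤ (p + 1) * p * d := by
      have hd0 : 0 < d := by
        rcases Nat.eq_zero_or_pos d with h0 | h0
        · rw [h0, mul_zero] at hcard1; omega
        · exact h0
      calc 3 ≤ p := hp3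
        _ ≤ (p + 1) * p * d := by
          have : p ≤ (p + 1) * p := Nat.le_mul_of_pos_left p (by omega)
          exact le_trans this (Nat.le_mul_of_pos_right _ hd0)
    omega

end Cfsg.Agent.Lib.helper15.PSL
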