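import Mathlib
import Cfsg.Agent.Lib.Lead.Coprime

set_option autoImplicit false

namespace Cfsg.Agent.Lib.Helper20

open Cfsg.Agent.Lib.Lead
open scoped commutatorElement

variable {G : Type*} [Group G]

/-- iterated commutator with the whole group: `[M, G; j]` -/
def iterComm (M : Subgroup G) : ℕ → Subgroup G
  | 0 => M
  | j + 1 => ⁅iterComm M j, ⊤⁆

theorem iterComm_zero (M : Subgroup G) : iterComm M 0 = M := rfl

theorem iterComm_succ (M : Subgroup G) (j : ℕ) : iterComm M (j + 1) = ⁅iterComm M j, ⊤⁆ := rfl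

instance iterComm_normal (M : Subgroup G) [M.Normal] (j : ℕ) : (iterComm M j).Normal := by
  induction j with
  | zero => rw [iterComm_zero]; infer_instance
  | succ j ih => rw [iterComm_succ]; infer_instance

theorem iterComm_shift (M : Subgroup G) (j : ℕ) : iterComm ⁅M, ⊤⁆ j = iterComm M (j + 1) := by
  induction j with
  | zero => rfl
  | succ j ih => rw [iterComm_succ, ih, ← iterComm_succ]

theorem iterComm_mono {M M' : Subgroup G} (h : M ≤ M') (j : ℕ) : iterComm M j ≤ iterComm M' j := by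
  induction j with
  | zero => exact h
  | succ j ih => exact Subgroup.commutator_mono ih le_rfl

theorem iterComm_succ_le (M : Subgroup G) [M.Normal] (j : ℕ) : iterComm M (j + 1) ≤ iterComm M j := by
  rw [iterComm_succ]
  exact Subgroup.commutator_le_left _ _

theorem iterComm_antitone (M : Subgroup G) [M.Normal] : Antitone (iterComm M) :=
  antitone_nat_of_succ_le (iterComm_succ_le M)

/-- three subgroups lemma modulo a normal subgroup -/
theorem three_subgroups_normal (H₁ H₂ H₃ K : Subgroup G) [K.Normal]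
    (h1 : ⁅⁅H₂, H₃⁆, H₁⁆ ≤ K) (h2 : ⁅⁅H₃, H₁⁆, H₂⁆ ≤ K) : ⁅⁅H₁, H₂⁆, H₃⁆ ≤ K := by
  have e : ∀ A B C : Subgroup G, ⁅⁅A, B⁆, C⁆ ≤ K ↔
      ⁅⁅A.map (QuotientGroup.mk' K), B.map (QuotientGroup.mk' K)⁆, C.map (QuotientGroup.mk' K)⁆ = ⊥ := by
    intro A B C
    rw [← Subgroup.map_commutator, ← Subgroup.map_commutator, Subgroup.map_eq_bot_iff,
      QuotientGroup.ker_mk']
  rw [e] at h1 h2 ⊢
  exact Subgroup.commutator_commutator_eq_bot_of_rotate h1 h2

/-- P. Hall: `[M, γ_{j+1}(G)] ≤ [M, G; j+1]` for normal `M`. -/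
theorem commutator_lcs_le_iterComm (j : ℕ) : ∀ (M : Subgroup G) [M.Normal],
    ⁅M, (⊤ : Subgroup G).lowerCentralSeries j⁆ ≤ iterComm M (j + 1) := by
  induction j with
  | zero =>
    intro M _
    rw [Subgroup.lowerCentralSeries_zero]
    exact le_rfl
  | succ j ih =>
    intro M _
    rw [Subgroup.lowerCentralSeries_succ, Subgroup.commutator_comm]
    apply three_subgroups_normal
    · -- ⁅⁅⊤, M⁆, lcs j⁆
      rw [Subgroup.commutator_comm ⊤ M]
      have := ih ⁅M, ⊤⁆
      rw [iterComm_shift] at this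
      exact this
    · -- ⁅⁅M, lcs j⁆, ⊤⁆
      rw [iterComm_succ M (j + 1)]
      exact Subgroup.commutator_mono (ih M) le_rfl

theorem sup_commutator_le (A B C K : Subgroup G) [K.Normal] (hA : ⁅A, C⁆ ≤ K) (hB : ⁅B, C⁆ ≤ K) :
    ⁅A ⊔ B, C⁆ ≤ K := by
  let S : Subgroup G :=
    { carrier := {g | ∀ c ∈ C, ⁅g, c⁆ ∈ K}
      mul_mem' := by
        intro g h hg hh c hc
        have e : ⁅g * h, c⁆ = g * ⁅h, c⁆ * g⁻¹ * ⁅g, c⁆ := by
          simp only [commutatorElement_def]; group
        rw [e]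
        exact K.mul_mem (Subgroup.Normal.conj_mem inferInstance _ (hh c hc) g) (hg c hc)
      one_mem' := by
        intro c _
        rw [commutatorElement_one_left]
        exact K.one_mem
      inv_mem' := by
        intro g hg c hc
        have e : ⁅g⁻¹, c⁆ = g⁻¹ * ⁅g, c⁆⁻¹ * (g⁻¹)⁻¹ := by
          simp only [commutatorElement_def]; group
        rw [e]
        exact Subgroup.Normal.conj_mem inferInstance _ (K.inv_mem (hg c hc)) g⁻¹ }
  have hAS : A ≤ S := fun a ha c hc => hA (Subgroup.commutator_mem_commutator ha hc)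
  have hBS : B ≤ S := fun b hb c hc => hB (Subgroup.commutator_mem_commutator hb hc)
  rw [Subgroup.commutator_le]
  intro g hg c hc
  exact (sup_le hAS hBS) hg c hc

/-- in a nilpotent group, for normal subgroups `L < M`, `[M, G] L < M`. -/
theorem commutator_sup_lt [hnil : Group.IsNilpotent G] (L M : Subgroup G) [L.Normal] [M.Normal]
    (h : L < M) : ⁅M, ⊤⁆ ⊔ L < M := by
  have hle : ⁅M, ⊤⁆ ⊔ L ≤ M := sup_le (Subgroup.commutator_le_left _ _) h.le
  refine lt_of_le_of_ne hle ?_
  intro heq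
  obtain ⟨n, hn⟩ := Subgroup.nilpotent_iff_lowerCentralSeries.mp hnil
  have key : ∀ j, M ≤ (⊤ : Subgroup G).lowerCentralSeries j ⊔ L := by
    intro j
    induction j with
    | zero => rw [Subgroup.lowerCentralSeries_zero]; exact le_top.trans le_sup_left
    | succ j ih =>
      have h1 : ⁅M, ⊤⁆ ≤ (⊤ : Subgroup G).lowerCentralSeries (j + 1) ⊔ L := by
        refine le_trans (Subgroup.commutator_mono ih le_rfl) ?_
        have : ((⊤ : Subgroup G).lowerCentralSeries (j + 1)).Normal := by
          have : ((⊤ : Subgroup G).lowerCentralSeries (j + 1)).Characteristic := inferInstance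
          infer_instance
        apply sup_commutator_le
        · rw [Subgroup.lowerCentralSeries_succ]
          exact le_sup_left
        · exact (Subgroup.commutator_le_left L ⊤).trans le_sup_right
      calc M = ⁅M, ⊤⁆ ⊔ L := heq.symm
        _ ≤ (⊤ : Subgroup G).lowerCentralSeries (j + 1) ⊔ L := sup_le h1 le_sup_right
  have := key n
  rw [hn, bot_sup_eq] at this
  exact (not_le_of_gt h) this

/-- in a finite `p`-group, normal `L ≤ M` with `|M| ≤ p^k |L|` satisfy `[M, G; k] ≤ L`. -/
theorem iterComm_le_of_card_le [Finite G] {p : ℕ} [Fact p.Prime] (hG : IsPGroup p G) (k : ℕ) :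
    ∀ (L M : Subgroup G) [L.Normal] [M.Normal], L ≤ M → Nat.card M ≤ p ^ k * Nat.card L →
      iterComm M k ≤ L := by
  have hpp : p.Prime := Fact.out
  have : Group.IsNilpotent G := hG.isNilpotent
  induction k with
  | zero =>
    intro L M _ _ hLM hcard
    rw [pow_zero, one_mul] at hcard
    rw [iterComm_zero]
    exact (Subgroup.eq_of_le_of_card_ge hLM hcard).ge
  | succ k ih =>
    intro L M _ _ hLM hcard
    by_cases heq : L = M
    · rw [← heq]
      exact (iterComm_mono le_rfl (k+1)).trans (by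
        have : Antitone (iterComm L) := antitone_nat_of_succ_le (fun j => by
          rw [iterComm_succ]; exact Subgroup.commutator_le_left _ _)
        exact this (Nat.zero_le _))
    · have hlt : L < M := lt_of_le_of_ne hLM heq
      have h1 := commutator_sup_lt L M hlt
      have hL'n : (⁅M, ⊤⁆ ⊔ L).Normal := inferInstance
      -- cards
      obtain ⟨a, ha⟩ := IsPGroup.iff_card.mp (hG.to_subgroup M)
      obtain ⟨b, hb⟩ := IsPGroup.iff_card.mp (hG.to_subgroup (⁅M, ⊤⁆ ⊔ L))
      have hlt' := card_lt_card_of_lt h1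
      rw [ha, hb] at hlt'
      have hba : b < a := (Nat.pow_lt_pow_iff_right hpp.one_lt).mp hlt'
      have h2 : Nat.card (⁅M, ⊤⁆ ⊔ L : Subgroup G) * p ≤ Nat.card M := by
        rw [ha, hb, ← pow_succ]
        exact Nat.pow_le_pow_right hpp.pos hba
      have h3 : Nat.card (⁅M, ⊤⁆ ⊔ L : Subgroup G) ≤ p ^ k * Nat.card L := by
        have h4 : Nat.card (⁅M, ⊤⁆ ⊔ L : Subgroup G) * p ≤ p ^ k * Nat.card L * p := by
          calc Nat.card (⁅M, ⊤⁆ ⊔ L : Subgroup G) * p ≤ Nat.card M := h2
            _ ≤ p ^ (k + 1) * Nat.card L := hcard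
            _ = p ^ k * Nat.card L * p := by ring
        exact Nat.le_of_mul_le_mul_right h4 hpp.pos
      have h5 := ih L (⁅M, ⊤⁆ ⊔ L) le_sup_right h3
      rw [← iterComm_shift]
      exact (iterComm_mono le_sup_left k).trans h5


instance lcs_normal (N : Subgroup G) [N.Normal] (j : ℕ) : (N.lowerCentralSeries j).Normal := by
  induction j with
  | zero => rw [Subgroup.lowerCentralSeries_zero]; infer_instance
  | succ j ih => rw [Subgroup.lowerCentralSeries_succ]; infer_instance

/-- P. Hall: if `N ⊴ G` lies in `γ_n(G)` and `γ_{i+1}(N) ≠ 1`, then `|γ_i(N) : γ_{i+1}(N)| ≥ p^n`. -/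
theorem hall_lcs_index [Finite G] {p : ℕ} [Fact p.Prime] (hG : IsPGroup p G) (n : ℕ) (hn : 1 ≤ n)
    (N : Subgroup G) [N.Normal] (hN : N ≤ (⊤ : Subgroup G).lowerCentralSeries (n - 1))
    (i' : ℕ) (hne : N.lowerCentralSeries (i' + 1) ≠ ⊥) :
    p ^ n ≤ (N.lowerCentralSeries (i' + 1)).relIndex (N.lowerCentralSeries i') := by
  have hpp : p.Prime := Fact.out
  have hnil : Group.IsNilpotent G := hG.isNilpotent
  set M := N.lowerCentralSeries i' with hM
  set L := N.lowerCentralSeries (i' + 1) with hL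
  have hLM : L ≤ M := Subgroup.lowerCentralSeries_antitone N (Nat.le_succ i')
  have hLdef : L = ⁅M, N⁆ := Subgroup.lowerCentralSeries_succ N i'
  obtain ⟨a, ha⟩ := IsPGroup.iff_card.mp (hG.to_subgroup M)
  obtain ⟨b, hb⟩ := IsPGroup.iff_card.mp (hG.to_subgroup L)
  have hmul : L.relIndex M * Nat.card L = Nat.card M := by
    have h1 := Subgroup.card_mul_index (L.subgroupOf M)
    rw [Nat.card_congr (Subgroup.subgroupOfEquivOfLe hLM).toEquiv] at h1
    rw [mul_comm]; exact h1
  by_contra hcon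
  push Not at hcon
  have hba : b ≤ a := by
    have := Subgroup.card_le_of_le hLM
    rw [ha, hb] at this
    exact (Nat.pow_le_pow_iff_right hpp.one_lt).mp this
  have hrel : L.relIndex M = p ^ (a - b) := by
    have h1 : L.relIndex M * p ^ b = p ^ (a - b) * p ^ b := by
      rw [← pow_add, Nat.sub_add_cancel hba, ← ha, ← hb]; exact hmul
    exact Nat.eq_of_mul_eq_mul_right (pow_pos hpp.pos b) h1
  rw [hrel] at hcon
  have hab : a - b < n := (Nat.pow_lt_pow_iff_right hpp.one_lt).mp hcon
  have hcard : Nat.card M ≤ p ^ (n - 1) * Nat.card L := by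
    rw [← hmul, hrel]
    apply Nat.mul_le_mul_right
    exact Nat.pow_le_pow_right hpp.pos (by omega)
  have h1 : iterComm M (n - 1) ≤ L := iterComm_le_of_card_le hG (n - 1) L M hLM hcard
  have h2 : iterComm M (n - 1 + 1) ≤ ⁅L, ⊤⁆ := by
    rw [iterComm_succ]
    exact Subgroup.commutator_mono h1 le_rfl
  have h3 : L ≤ iterComm M (n - 1 + 1) := by
    rw [hLdef]
    exact (Subgroup.commutator_mono le_rfl hN).trans (commutator_lcs_le_iterComm (n - 1) M)
  have hniltop : Group.IsNilpotent (⊤ : Subgroup G) := Group.isNilpotent_top.mpr hnil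
  have h4 : ⁅L, ⊤⁆ < L := commutator_lt_of_nilpotent L ⊤ le_top
    (by rw [Subgroup.normalizer_eq_top]) hniltop hne
  exact (not_le_of_gt h4) (h3.trans h2)

end Cfsg.Agent.Lib.Helper20
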