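import Mathlib
import Cfsg.Agent.Lib.Helper20.HallLcs

set_option autoImplicit false

namespace Cfsg.Agent.Lib.Helper20

open Cfsg.Agent.Lib.Lead
open scoped commutatorElement

variable {G : Type*} [Group G]

/-- the two-step centraliser `C_G(γ_j / γ_{j+2})` -/
def twoStepCent (j : ℕ) : Subgroup G where
  carrier := {x | ∀ y ∈ (⊤ : Subgroup G).lowerCentralSeries j,
    ⁅y, x⁆ ∈ (⊤ : Subgroup G).lowerCentralSeries (j + 2)}
  mul_mem' := by
    intro x z hx hz y hy
    have e : ⁅y, x * z⁆ = ⁅y, x⁆ * (x * ⁅y, z⁆ * x⁻¹) := by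
      simp only [commutatorElement_def]; group
    rw [e]
    exact Subgroup.mul_mem _ (hx y hy) (Subgroup.Normal.conj_mem inferInstance _ (hz y hy) x)
  one_mem' := by
    intro y _
    rw [commutatorElement_one_right]
    exact Subgroup.one_mem _
  inv_mem' := by
    intro x hx y hy
    have e : ⁅y, x⁻¹⁆ = x⁻¹ * ⁅y, x⁆⁻¹ * (x⁻¹)⁻¹ := by
      simp only [commutatorElement_def]; group
    rw [e]
    exact Subgroup.Normal.conj_mem inferInstance _ (Subgroup.inv_mem _ (hx y hy)) x⁻¹

theorem mem_twoStepCent (j : ℕ) (x : G) : x ∈ twoStepCent (G := G) j ↔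
    ∀ y ∈ (⊤ : Subgroup G).lowerCentralSeries j, ⁅y, x⁆ ∈ (⊤ : Subgroup G).lowerCentralSeries (j + 2) :=
  Iff.rfl

theorem twoStepCent_ne_top [hnil : Group.IsNilpotent G] (j : ℕ)
    (hj : (⊤ : Subgroup G).lowerCentralSeries (j + 1) ≠ ⊥) : twoStepCent (G := G) j ≠ ⊤ := by
  intro htop
  have h1 : (⊤ : Subgroup G).lowerCentralSeries (j + 1) ≤ (⊤ : Subgroup G).lowerCentralSeries (j + 2) := by
    rw [Subgroup.lowerCentralSeries_succ _ j, Subgroup.commutator_le]
    intro y hy x _
    have hx : x ∈ twoStepCent (G := G) j := by rw [htop]; trivial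
    exact hx y hy
  have hniltop : Group.IsNilpotent (⊤ : Subgroup G) := Group.isNilpotent_top.mpr hnil
  have h2 : ⁅(⊤ : Subgroup G).lowerCentralSeries (j + 1), ⊤⁆ < (⊤ : Subgroup G).lowerCentralSeries (j + 1) :=
    commutator_lt_of_nilpotent _ ⊤ le_top (by rw [Subgroup.normalizer_eq_top]) hniltop hj
  rw [← Subgroup.lowerCentralSeries_succ] at h2
  exact (not_le_of_gt h2) h1

/-- strict inclusion of subgroups of a `p`-group gains a factor `p` -/
theorem card_mul_le_of_lt [Finite G] {p : ℕ} [Fact p.Prime] (hG : IsPGroup p G) {H K : Subgroup G}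
    (h : H < K) : Nat.card H * p ≤ Nat.card K := by
  have hpp : p.Prime := Fact.out
  obtain ⟨a, ha⟩ := IsPGroup.iff_card.mp (hG.to_subgroup K)
  obtain ⟨b, hb⟩ := IsPGroup.iff_card.mp (hG.to_subgroup H)
  have hlt' := card_lt_card_of_lt h
  rw [ha, hb] at hlt'
  have hba : b < a := (Nat.pow_lt_pow_iff_right hpp.one_lt).mp hlt'
  rw [ha, hb, ← pow_succ]
  exact Nat.pow_le_pow_right hpp.pos hba

open scoped Classical in
/-- Claim A: the class size of `x` is at least `p ^ #{j < m : x ∉ C_j}`. -/
theorem pow_card_filter_le_index [Finite G] {p : ℕ} [Fact p.Prime] (hG : IsPGroup p G) (x : G)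
    (m : ℕ) :
    p ^ ((Finset.range m).filter (fun j => x ∉ twoStepCent (G := G) j)).card ≤
      (Subgroup.centralizer ({x} : Set G)).index := by
  classical
  have hpp : p.Prime := Fact.out
  set C := Subgroup.centralizer ({x} : Set G) with hC
  -- chain H_j = C ⊔ Γ_j
  have hstep : ∀ j, x ∉ twoStepCent (G := G) j →
      C ⊔ (⊤ : Subgroup G).lowerCentralSeries (j + 1) < C ⊔ (⊤ : Subgroup G).lowerCentralSeries j := by
    intro j hx
    have hle : C ⊔ (⊤ : Subgroup G).lowerCentralSeries (j + 1) ≤
        C ⊔ (⊤ : Subgroup G).lowerCentralSeries j :=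
      sup_le_sup_left (Subgroup.lowerCentralSeries_antitone _ (Nat.le_succ j)) _
    refine lt_of_le_of_ne hle ?_
    intro heq
    apply hx
    -- S = {y | ⁅y,x⁆ ∈ Γ_{j+2}}
    let S : Subgroup G :=
      { carrier := {y | ⁅y, x⁆ ∈ (⊤ : Subgroup G).lowerCentralSeries (j + 2)}
        mul_mem' := by
          intro g h hg hh
          have e : ⁅g * h, x⁆ = g * ⁅h, x⁆ * g⁻¹ * ⁅g, x⁆ := by
            simp only [commutatorElement_def]; group
          show ⁅g * h, x⁆ ∈ (⊤ : Subgroup G).lowerCentralSeries (j + 2)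
          rw [e]
          exact Subgroup.mul_mem _ (Subgroup.Normal.conj_mem inferInstance _ hh g) hg
        one_mem' := by
          show ⁅(1 : G), x⁆ ∈ (⊤ : Subgroup G).lowerCentralSeries (j + 2)
          rw [commutatorElement_one_left]
          exact Subgroup.one_mem _
        inv_mem' := by
          intro g hg
          have e : ⁅g⁻¹, x⁆ = g⁻¹ * ⁅g, x⁆⁻¹ * (g⁻¹)⁻¹ := by
            simp only [commutatorElement_def]; group
          show ⁅g⁻¹, x⁆ ∈ (⊤ : Subgroup G).lowerCentralSeries (j + 2)
          rw [e]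
          exact Subgroup.Normal.conj_mem inferInstance _ (Subgroup.inv_mem _ hg) g⁻¹ }
    have hCS : C ≤ S := by
      intro c hc
      have h1 := (Subgroup.mem_centralizer_iff.mp hc) x rfl
      have e : ⁅c, x⁆ = 1 := by
        rw [commutatorElement_eq_one_iff_commute]
        exact h1.symm
      show ⁅c, x⁆ ∈ (⊤ : Subgroup G).lowerCentralSeries (j + 2)
      rw [e]; exact Subgroup.one_mem _
    have hΓS : (⊤ : Subgroup G).lowerCentralSeries (j + 1) ≤ S := by
      intro g hg
      show ⁅g, x⁆ ∈ (⊤ : Subgroup G).lowerCentralSeries (j + 2)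
      rw [Subgroup.lowerCentralSeries_succ _ (j + 1)]
      exact Subgroup.commutator_mem_commutator hg (Subgroup.mem_top x)
    intro y hy
    have : y ∈ C ⊔ (⊤ : Subgroup G).lowerCentralSeries (j + 1) := by
      rw [heq]; exact (le_sup_right : _ ≤ C ⊔ _) hy
    exact (sup_le hCS hΓS) this
  -- induction
  have key : ∀ k, p ^ ((Finset.range k).filter (fun j => x ∉ twoStepCent (G := G) j)).card *
      Nat.card (C ⊔ (⊤ : Subgroup G).lowerCentralSeries k : Subgroup G) ≤ Nat.card G := by
    intro k
    induction k with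
    | zero =>
      simp only [Finset.range_zero, Finset.filter_empty, Finset.card_empty, pow_zero, one_mul]
      exact Subgroup.card_le_card_group _
    | succ k ih =>
      rw [Finset.range_add_one, Finset.filter_insert]
      by_cases hx : x ∉ twoStepCent (G := G) k
      · rw [if_pos hx, Finset.card_insert_of_notMem (by simp)]
        have h1 := card_mul_le_of_lt hG (hstep k hx)
        calc p ^ (((Finset.range k).filter (fun j => x ∉ twoStepCent (G := G) j)).card + 1) *
              Nat.card (C ⊔ (⊤ : Subgroup G).lowerCentralSeries (k + 1) : Subgroup G)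
            = p ^ ((Finset.range k).filter (fun j => x ∉ twoStepCent (G := G) j)).card *
              (Nat.card (C ⊔ (⊤ : Subgroup G).lowerCentralSeries (k + 1) : Subgroup G) * p) := by ring
          _ ≤ p ^ ((Finset.range k).filter (fun j => x ∉ twoStepCent (G := G) j)).card *
              Nat.card (C ⊔ (⊤ : Subgroup G).lowerCentralSeries k : Subgroup G) :=
            Nat.mul_le_mul_left _ h1
          _ ≤ Nat.card G := ih
      · rw [if_neg hx]
        refine le_trans (Nat.mul_le_mul_left _ ?_) ih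
        exact Subgroup.card_le_of_le
          (sup_le_sup_left (Subgroup.lowerCentralSeries_antitone _ (Nat.le_succ k)) _)
  have h1 := key m
  have h2 : Nat.card C ≤ Nat.card (C ⊔ (⊤ : Subgroup G).lowerCentralSeries m : Subgroup G) :=
    Subgroup.card_le_of_le le_sup_left
  have h3 : p ^ ((Finset.range m).filter (fun j => x ∉ twoStepCent (G := G) j)).card * Nat.card C ≤
      Nat.card G := le_trans (Nat.mul_le_mul_left _ h2) h1
  rw [← Subgroup.card_mul_index C, mul_comm] at h3
  exact Nat.le_of_mul_le_mul_left h3 Nat.card_pos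

open scoped Classical in
/-- Leedham-Green–Neumann–Wiegold: breadth `b ≥ 1` and class `≥ c` force `(c-1)(p-1) < bp`. -/
theorem lgnw_bound [Finite G] {p : ℕ} [Fact p.Prime] (hG : IsPGroup p G) (b : ℕ) (hb0 : b ≠ 0)
    (hb : ∀ x : G, (Subgroup.centralizer ({x} : Set G)).index ≤ p ^ b) (c : ℕ)
    (hc : ∀ j < c, (⊤ : Subgroup G).lowerCentralSeries j ≠ ⊥) :
    (c - 1) * (p - 1) < b * p := by
  have hpp : p.Prime := Fact.out
  have hnil : Group.IsNilpotent G := hG.isNilpotent
  let _ : Fintype G := Fintype.ofFinite G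
  set N : G → ℕ := fun x => ((Finset.range (c - 1)).filter (fun j => x ∉ twoStepCent (G := G) j)).card
    with hNdef
  have hN : ∀ x, N x ≤ b := by
    intro x
    have h1 := pow_card_filter_le_index hG x (c - 1)
    exact (Nat.pow_le_pow_iff_right hpp.one_lt).mp (h1.trans (hb x))
  have hN1 : N 1 = 0 := by
    rw [hNdef]
    simp only [Finset.card_eq_zero, Finset.filter_eq_empty_iff]
    intro j _ h
    exact h (Subgroup.one_mem _)
  have hcardG : Fintype.card G = Nat.card G := (Nat.card_eq_fintype_card).symm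
  have hsum_le : ∑ x : G, N x ≤ b * (Nat.card G - 1) := by
    rw [← Finset.sum_erase Finset.univ hN1]
    have h1 : ∑ x ∈ Finset.univ.erase (1 : G), N x ≤ (Finset.univ.erase (1 : G)).card • b :=
      Finset.sum_le_card_nsmul _ _ _ (fun x _ => hN x)
    rw [Finset.card_erase_of_mem (Finset.mem_univ _), Finset.card_univ, hcardG, smul_eq_mul,
      mul_comm] at h1
    exact h1
  -- double counting
  have hdc : ∑ x : G, N x = ∑ j ∈ Finset.range (c - 1),
      (Finset.univ.filter (fun x : G => x ∉ twoStepCent (G := G) j)).card := by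
    simp only [hNdef, Finset.card_filter]
    rw [Finset.sum_comm]
  have hj : ∀ j ∈ Finset.range (c - 1), (p - 1) * Nat.card G ≤
      p * (Finset.univ.filter (fun x : G => x ∉ twoStepCent (G := G) j)).card := by
    intro j hj
    rw [Finset.mem_range] at hj
    have hj1 : (⊤ : Subgroup G).lowerCentralSeries (j + 1) ≠ ⊥ := hc (j + 1) (by omega)
    have hne := twoStepCent_ne_top j hj1
    have hlt : twoStepCent (G := G) j < ⊤ := lt_top_iff_ne_top.mpr hne
    have h1 := card_mul_le_of_lt hG hlt
    rw [Subgroup.card_top] at h1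
    have h2 : (Finset.univ.filter (fun x : G => x ∈ twoStepCent (G := G) j)).card +
        (Finset.univ.filter (fun x : G => x ∉ twoStepCent (G := G) j)).card = Nat.card G := by
      rw [Finset.card_filter_add_card_filter_not, Finset.card_univ, hcardG]
    have h3 : (Finset.univ.filter (fun x : G => x ∈ twoStepCent (G := G) j)).card =
        Nat.card (twoStepCent (G := G) j) := by
      rw [Nat.card_eq_fintype_card, Fintype.card_subtype]
    rw [h3] at h2
    have hp1 : 1 ≤ p := hpp.pos
    obtain ⟨p', rfl⟩ : ∃ p', p = p' + 1 := ⟨p - 1, by omega⟩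
    simp only [Nat.add_sub_cancel]
    nlinarith
  have h4 : (c - 1) * ((p - 1) * Nat.card G) ≤ p * ∑ x : G, N x := by
    rw [hdc, Finset.mul_sum]
    calc (c - 1) * ((p - 1) * Nat.card G)
        = ∑ _j ∈ Finset.range (c - 1), (p - 1) * Nat.card G := by
          rw [Finset.sum_const, Finset.card_range, smul_eq_mul]
      _ ≤ _ := Finset.sum_le_sum hj
  have hGpos : 0 < Nat.card G := Nat.card_pos
  have h5 : (c - 1) * (p - 1) * Nat.card G < b * p * Nat.card G := by
    have h6 : p * ∑ x : G, N x ≤ p * (b * (Nat.card G - 1)) := Nat.mul_le_mul_left _ hsum_le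
    have h7 : p * (b * (Nat.card G - 1)) < b * p * Nat.card G := by
      have hb1 : 0 < b := Nat.pos_of_ne_zero hb0
      have : p * (b * (Nat.card G - 1)) = b * p * (Nat.card G - 1) := by ring
      rw [this]
      exact Nat.mul_lt_mul_of_pos_left (by omega) (Nat.mul_pos hb1 hpp.pos)
    calc (c - 1) * (p - 1) * Nat.card G = (c - 1) * ((p - 1) * Nat.card G) := by ring
      _ ≤ p * ∑ x : G, N x := h4
      _ ≤ p * (b * (Nat.card G - 1)) := h6
      _ < b * p * Nat.card G := h7
  exact Nat.lt_of_mul_lt_mul_right h5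

end Cfsg.Agent.Lib.Helper20
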