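import Mathlib
import Cfsg.Agent.Lib.helper3.S5953.Defs

/-!
# S5953 rows T1 (hermI_conj) + T2 (hermI_nd) (helper20): conjugate symmetry and non-degeneracy of the standard hermitian form.
-/

set_option autoImplicit false

namespace Cfsg.Agent.Lib.helper3.S5953

open Polynomial Module

/-- T1 [S] CONJ: conjugate symmetry `h(v, u) = h(u, v) ^ q`. -/
theorem hermI_conj {F : Type*} [Field F] [Fintype F] {q : ℕ} (hF : Fintype.card F = q ^ 2)
    {ι : Type*} [Fintype ι] (u v : ι → F) : hermI ι F q v u = (hermI ι F q u v) ^ q := by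
  obtain ⟨p, hchar, e, hp, hcard⟩ := FiniteField.card' F
  have := hchar
  have : Fact p.Prime := ⟨hp⟩
  rw [hF] at hcard
  have hdvd : q ∣ p ^ (e : ℕ) := ⟨q, by rw [← hcard]; ring⟩
  obtain ⟨j, -, rfl⟩ := (Nat.dvd_prime_pow hp).mp hdvd
  have hsum : ∀ (s : Finset ι) (f : ι → F), (∑ i ∈ s, f i) ^ (p ^ j) = ∑ i ∈ s, f i ^ (p ^ j) :=
    fun s f => sum_pow_char_pow (p := p) (n := j) s f
  unfold hermI
  rw [hsum]
  apply Finset.sum_congr rfl
  intro i _
  have h1 : (v i) ^ (p ^ j) ^ 2 = v i := by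
    rw [← hF]
    exact FiniteField.pow_card (v i)
  rw [mul_pow, ← pow_mul, ← sq, h1, mul_comm]

/-- T2 [S] NDTOP: the form is non-degenerate on the whole space (`q ≠ 0`). -/
theorem hermI_nd {F : Type*} [Field F] {q : ℕ} (hq : q ≠ 0) {ι : Type*} [Fintype ι] (u : ι → F)
    (h : ∀ v, hermI ι F q u v = 0) : u = 0 := by
  classical
  funext j
  have h1 := h (Pi.single j 1)
  unfold hermI at h1
  rw [Finset.sum_eq_single j] at h1
  · rw [Pi.single_eq_same, one_pow, mul_one] at h1
    exact h1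
  · intro i _ hij
    rw [Pi.single_eq_of_ne hij, zero_pow hq, mul_zero]
  · intro hh
    exact absurd (Finset.mem_univ j) hh

end Cfsg.Agent.Lib.helper3.S5953
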