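import Mathlib
import Cfsg.Prelude.Def_GeometricClasses
import Cfsg.Agent.Lib.Helper27.ASC.Defs
import Cfsg.Agent.Lib.Helper19.ASG.Defs
import Cfsg.Agent.Lib.Helper18.ASP.Defs
import Cfsg.Agent.Lib.Helper18.ASPADJ
import Cfsg.Agent.Lib.helper8.ASPC.Defs

set_option autoImplicit false
set_option linter.unusedVariables false
set_option linter.unusedSectionVars false

/-!
# Project ASP, block C, piece C-ACT : the action of `P R(a ⊗ b) P⁻¹` on the vectors `P ((α ⊗ v) ∘ e)` (verbatim)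
-/

namespace Cfsg.Agent.Lib.Helper18.ASP

open Cfsg Cfsg.Geo Cfsg.Agent.Lib.Helper27.ASC Cfsg.Agent.Lib.Helper19.ASG
open scoped MatrixGroups Matrix Kronecker

variable {n : ℕ} {F : Type*} [Field F]

/-- `formOfGram id M` in matrix form -/
theorem aspcact_formOfGram {κ : Type} [Fintype κ] (M : Matrix κ κ F) (x y : κ → F) :
    formOfGram id M x y = x ⬝ᵥ (M *ᵥ y) := by
  unfold formOfGram
  simp only [dotProduct, Matrix.mulVec, id, Finset.mul_sum, mul_assoc]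

/-- `R(M) *ᵥ (x ∘ e) = (M *ᵥ x) ∘ e` -/
theorem aspcact_reindex_mulVec {k d : ℕ} (e : Fin n ≃ Fin k × Fin d)
    (M : Matrix (Fin k × Fin d) (Fin k × Fin d) F) (x : Fin k × Fin d → F) :
    Matrix.reindexAlgEquiv F F e.symm M *ᵥ (x ∘ e) = (M *ᵥ x) ∘ e := by
  rw [Matrix.reindexAlgEquiv_apply, Matrix.reindex_apply, Matrix.submatrix_mulVec_equiv]
  congr 2
  funext p
  simp

/-- C-ACT (easy-medium) : the action of `P R(a ⊗ b) P⁻¹` on the vectors `P ((α ⊗ v) ∘ e)`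
(`Matrix.mulVec_mulVec`, `P⁻¹ P = 1`, `Matrix.submatrix_mulVec_equiv`, cf. `Helper28.OTens.tens_act`, `kron_mulVec_pt`). -/
theorem spc_kr_act {k d : ℕ} (e : Fin n ≃ Fin k × Fin d) (P : GL (Fin n) F)
    (a : Matrix (Fin k) (Fin k) F) (b : Matrix (Fin d) (Fin d) F) (x : Fin k × Fin d → F) :
    ((P : Matrix (Fin n) (Fin n) F) * Matrix.reindexAlgEquiv F F e.symm (a ⊗ₖ b) *
        ((P⁻¹ : GL (Fin n) F) : Matrix (Fin n) (Fin n) F)) *ᵥ ((P : Matrix (Fin n) (Fin n) F) *ᵥ (x ∘ e)) =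
      (P : Matrix (Fin n) (Fin n) F) *ᵥ (((a ⊗ₖ b) *ᵥ x) ∘ e) := by
  have e' : ((P⁻¹ : GL (Fin n) F) : Matrix (Fin n) (Fin n) F) * (P : Matrix (Fin n) (Fin n) F) = 1 := by
    rw [← Units.val_mul, inv_mul_cancel, Units.val_one]
  rw [Matrix.mulVec_mulVec, mul_assoc, e', mul_one, ← Matrix.mulVec_mulVec, aspcact_reindex_mulVec]

/-- C-ACT : on pure tensors. -/
theorem spc_kr_act_ptv {k d : ℕ} (a : Matrix (Fin k) (Fin k) F) (b : Matrix (Fin d) (Fin d) F)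
    (α : Fin k → F) (v : Fin d → F) : (a ⊗ₖ b) *ᵥ ptv α v = ptv (a *ᵥ α) (b *ᵥ v) := by
  funext ij
  obtain ⟨i, j⟩ := ij
  simp only [Matrix.mulVec, dotProduct, ptv, Fintype.sum_prod_type, Matrix.kroneckerMap_apply]
  rw [Finset.sum_mul_sum]
  apply Finset.sum_congr rfl
  intro i' _
  apply Finset.sum_congr rfl
  intro j' _
  ring

/-- the form with Gram matrix `A ⊗ B` on pure tensors -/
theorem aspcact_form_ptv {k d : ℕ} (A : Matrix (Fin k) (Fin k) F) (B : Matrix (Fin d) (Fin d) F)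
    (α α' : Fin k → F) (v v' : Fin d → F) :
    formOfGram id (A ⊗ₖ B) (ptv α v) (ptv α' v') = (α ⬝ᵥ (A *ᵥ α')) * (v ⬝ᵥ (B *ᵥ v')) := by
  rw [aspcact_formOfGram, spc_kr_act_ptv]
  simp only [dotProduct, ptv, Fintype.sum_prod_type]
  rw [Finset.sum_mul_sum]
  apply Finset.sum_congr rfl
  intro i _
  apply Finset.sum_congr rfl
  intro j _
  ring

/-- C-ACT : the form on pure tensors. -/
theorem spc_krGram_ptv (f : (Fin n → F) → (Fin n → F) → F) {k d : ℕ}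
    (e : Fin n ≃ Fin k × Fin d) (P : GL (Fin n) F) (A : Matrix (Fin k) (Fin k) F) (B : Matrix (Fin d) (Fin d) F)
    (hK : KrGram f e P A B) (α α' : Fin k → F) (v v' : Fin d → F) :
    f ((P : Matrix (Fin n) (Fin n) F) *ᵥ (ptv α v ∘ e)) ((P : Matrix (Fin n) (Fin n) F) *ᵥ (ptv α' v' ∘ e)) =
      (α ⬝ᵥ (A *ᵥ α')) * (v ⬝ᵥ (B *ᵥ v')) := by
  rw [hK, aspcact_form_ptv]

end Cfsg.Agent.Lib.Helper18.ASP
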