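import Mathlib
import Cfsg.Prelude.Def_GeometricClasses
import Cfsg.Agent.Lib.Helper27.ASC.Defs
import Cfsg.Agent.Lib.Helper19.ASG.Defs
import Cfsg.Agent.Lib.Helper18.ASP.Defs
import Cfsg.Agent.Lib.Helper18.ASPADJ
import Cfsg.Agent.Lib.helper8.ASPC.Defs
import Cfsg.Agent.Lib.Helper20.ASGCMEM
import Cfsg.Agent.Lib.Helper20.ASPCACT

set_option autoImplicit false
set_option linter.unusedVariables false
set_option linter.unusedSectionVars false

/-!
# Project ASP, block C, piece C-SIM : an isometry in the tensor product subgroup is a tensor product of similitudes (verbatim)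
(with an own copy `aspcsim_kron_eq_kron` of C-KUNIQ)
-/

namespace Cfsg.Agent.Lib.Helper18.ASP

open Cfsg Cfsg.Geo Cfsg.Agent.Lib.Helper27.ASC Cfsg.Agent.Lib.Helper19.ASG
open scoped MatrixGroups Matrix Kronecker

variable {n : ℕ} {F : Type*} [Field F]

/-- own copy of C-KUNIQ : uniqueness of the factors of a non-zero Kronecker product -/
theorem aspcsim_kron_eq_kron {k d : ℕ} (X A : Matrix (Fin k) (Fin k) F) (Y B : Matrix (Fin d) (Fin d) F)
    (hA : A ≠ 0) (hB : B ≠ 0) (h : X ⊗ₖ Y = A ⊗ₖ B) :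
    ∃ μ : F, μ ≠ 0 ∧ X = μ • A ∧ Y = μ⁻¹ • B := by
  have hent : ∀ i i' j j', X i i' * Y j j' = A i i' * B j j' := by
    intro i i' j j'
    have := congrFun (congrFun h (i, j)) (i', j')
    simpa [Matrix.kroneckerMap_apply] using this
  obtain ⟨i₀, i₀', hα⟩ : ∃ i i', A i i' ≠ 0 := by
    by_contra hne
    push Not at hne
    exact hA (Matrix.ext hne)
  obtain ⟨j₀, j₀', hβ⟩ : ∃ j j', B j j' ≠ 0 := by
    by_contra hne
    push Not at hne
    exact hB (Matrix.ext hne)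
  have h0 := hent i₀ i₀' j₀ j₀'
  have hξη : X i₀ i₀' * Y j₀ j₀' ≠ 0 := by rw [h0]; exact mul_ne_zero hα hβ
  have hξ : X i₀ i₀' ≠ 0 := left_ne_zero_of_mul hξη
  have hη : Y j₀ j₀' ≠ 0 := right_ne_zero_of_mul hξη
  refine ⟨X i₀ i₀' / A i₀ i₀', div_ne_zero hξ hα, ?_, ?_⟩
  · ext i i'
    simp only [Matrix.smul_apply, smul_eq_mul]
    have h1 := hent i i' j₀ j₀'
    rw [div_mul_eq_mul_div, eq_div_iff hα]
    apply mul_right_cancel₀ hη
    linear_combination (A i₀ i₀') * h1 - (A i i') * h0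
  · ext j j'
    simp only [Matrix.smul_apply, smul_eq_mul]
    have h1 := hent i₀ i₀' j j'
    rw [inv_div, div_mul_eq_mul_div, eq_div_iff hξ]
    linear_combination h1

/-- the Gram matrix of `(x, y) ↦ (N x) ⬝ᵥ M (N y)` is `Nᵀ M N` -/
theorem aspcsim_entry {κ : Type} [Fintype κ] [DecidableEq κ] (M N : Matrix κ κ F) (p q : κ) :
    (N *ᵥ Pi.single p 1) ⬝ᵥ (M *ᵥ (N *ᵥ Pi.single q 1)) = (Nᵀ * M * N) p q := by
  rw [← Matrix.vecMul_transpose, ← Matrix.dotProduct_mulVec, Matrix.mulVec_mulVec, Matrix.mulVec_mulVec,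
    Matrix.mulVec_single_one, single_one_dotProduct]
  rfl

/-- C-SIM (medium) : an isometry in the tensor product subgroup is a tensor product of similitudes of the two factors:
`h = P R(a ⊗ b) P⁻¹` (`mem_tensorProductSubgroup_iff`), `h (P (x ∘ e)) = P (((a ⊗ b) *ᵥ x) ∘ e)`, so
`(a ⊗ b)ᵀ (A ⊗ B) (a ⊗ b) = A ⊗ B` (evaluate on `Pi.single`s), i.e. `(aᵀ A a) ⊗ (bᵀ B b) = A ⊗ B`; C-KUNIQ. -/
theorem spc_kron_sim (f : (Fin n → F) → (Fin n → F) → F) {k d : ℕ}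
    (e : Fin n ≃ Fin k × Fin d) (P : GL (Fin n) F) (A : Matrix (Fin k) (Fin k) F) (B : Matrix (Fin d) (Fin d) F)
    (hA : A ≠ 0) (hB : B ≠ 0) (hK : KrGram f e P A B) (h : GL (Fin n) F) (hiso : h ∈ isoGL f)
    (hmem : h ∈ tensorProductSubgroup k d e P) :
    ∃ (a : GL (Fin k) F) (b : GL (Fin d) F) (μ : F), μ ≠ 0 ∧
      (h : Matrix (Fin n) (Fin n) F) = (P : Matrix (Fin n) (Fin n) F) *
        Matrix.reindexAlgEquiv F F e.symm ((a : Matrix (Fin k) (Fin k) F) ⊗ₖ (b : Matrix (Fin d) (Fin d) F)) *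
        ((P⁻¹ : GL (Fin n) F) : Matrix (Fin n) (Fin n) F) ∧
      (a : Matrix (Fin k) (Fin k) F)ᵀ * A * (a : Matrix (Fin k) (Fin k) F) = μ • A ∧
      (b : Matrix (Fin d) (Fin d) F)ᵀ * B * (b : Matrix (Fin d) (Fin d) F) = μ⁻¹ • B := by
  classical
  obtain ⟨a, b, hab⟩ := (mem_tensorProductSubgroup_iff e P h).1 hmem
  rw [mem_isoGL_iff] at hiso
  have hM : ((a : Matrix (Fin k) (Fin k) F) ⊗ₖ (b : Matrix (Fin d) (Fin d) F))ᵀ * (A ⊗ₖ B) *
      ((a : Matrix (Fin k) (Fin k) F) ⊗ₖ (b : Matrix (Fin d) (Fin d) F)) = A ⊗ₖ B := by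
    ext p q
    have h1 := hiso ((P : Matrix (Fin n) (Fin n) F) *ᵥ ((Pi.single p 1 : Fin k × Fin d → F) ∘ e))
      ((P : Matrix (Fin n) (Fin n) F) *ᵥ ((Pi.single q 1 : Fin k × Fin d → F) ∘ e))
    rw [hab, spc_kr_act, spc_kr_act, hK, hK, aspcact_formOfGram, aspcact_formOfGram, aspcsim_entry] at h1
    rw [h1, Matrix.mulVec_single_one, single_one_dotProduct]
    rfl
  rw [← Matrix.kroneckerMap_transpose, ← Matrix.mul_kronecker_mul, ← Matrix.mul_kronecker_mul] at hM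
  obtain ⟨μ, hμ, h1, h2⟩ := aspcsim_kron_eq_kron _ A _ B hA hB hM
  exact ⟨a, b, μ, hμ, hab, h1, h2⟩

end Cfsg.Agent.Lib.Helper18.ASP
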