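import Mathlib
import Cfsg.Agent.Lib.Helper1.FrobPQ.Defs

set_option autoImplicit false

/-!
Piece P3 (`exists_hyperplane`) of helper1's plan for S4305 (Shult's S3 theorem):
an elementary abelian `s`-group `Z ≠ 1` of automorphisms of a finite abelian `s'`-group `M`
has a maximal subgroup `Z₁` whose fixed points meet the kernel of the trace of `Z`
nontrivially.
-/

namespace Cfsg.Agent.Lib.Helper20.FrobHyp

open Cfsg.Agent.Lib.Helper18.Fpf4 Cfsg.Agent.Lib.Helper1.FrobPQ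

variable {M : Type*} [CommGroup M] [Finite M]

theorem eq_one_of_pow_coprime {k : ℕ} (hk : (Nat.card M).Coprime k) (m : M) (hm : m ^ k = 1) :
    m = 1 := by
  have h1 : orderOf m ∣ k := orderOf_dvd_of_pow_eq_one hm
  have h2 : orderOf m ∣ Nat.card M := orderOf_dvd_natCard m
  have h3 : orderOf m ∣ Nat.gcd (Nat.card M) k := Nat.dvd_gcd h2 h1
  have h4 : Nat.gcd (Nat.card M) k = 1 := hk
  rw [h4] at h3
  exact orderOf_eq_one_iff.mp (Nat.dvd_one.mp h3)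

theorem mem_of_pow_mem {A : Type*} [Group A] (H : Subgroup A) {s : ℕ} (hs : s.Prime) (g : A)
    (hg : g ^ s = 1) (i : ℕ) (hi0 : 0 < i) (his : i < s) (h : g ^ i ∈ H) : g ∈ H := by
  by_cases hg1 : g = 1
  · rw [hg1]; exact H.one_mem
  have ho : orderOf g = s := by
    have h0 := orderOf_dvd_of_pow_eq_one hg
    rcases (Nat.dvd_prime hs).mp h0 with h1 | h1
    · exact absurd (orderOf_eq_one_iff.mp h1) hg1
    · exact h1
  have hc : i.Coprime (orderOf g) := by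
    rw [ho]
    apply Nat.Coprime.symm
    rw [Nat.Prime.coprime_iff_not_dvd hs]
    intro hdvd
    have := Nat.le_of_dvd hi0 hdvd
    omega
  obtain ⟨m, hm⟩ := exists_pow_eq_self_of_coprime hc
  rw [← hm]
  exact H.pow_mem h m

theorem norm_fixed (g : MulAut M) {s : ℕ} (hg : g ^ s = 1) (n : M) :
    g (∏ j ∈ Finset.range s, (g ^ j) n) = ∏ j ∈ Finset.range s, (g ^ j) n := by
  rw [map_prod]
  have h1 : ∀ k ∈ Finset.range s, g ((g ^ k) n) = (g ^ (k + 1)) n := by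
    intro k _
    rw [pow_succ', MulAut.mul_apply]
  rw [Finset.prod_congr rfl h1]
  have h2 := Finset.prod_range_succ (fun k => (g ^ k) n) s
  have h3 := Finset.prod_range_succ' (fun k => (g ^ k) n) s
  rw [h2] at h3
  have h4 : (g ^ s) n = (g ^ 0) n := by rw [hg]; simp
  rw [h4] at h3
  exact (mul_right_cancel h3).symm

theorem exists_hyperplane (Z : Subgroup (MulAut M)) {s : ℕ}
    (hs : s.Prime) (hZab : ∀ a ∈ Z, ∀ b ∈ Z, a * b = b * a) (hZs : ∀ z ∈ Z, z ^ s = 1)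
    (hcop : (Nat.card M).Coprime s) (hZ : Z ≠ ⊥) :
    ∃ Z₁ : Subgroup (MulAut M), Z₁ ≤ Z ∧ Z₁ ≠ Z ∧
      (∀ z ∈ Z, z ∉ Z₁ → Z₁ ⊔ Subgroup.zpowers z = Z) ∧ comp Z Z₁ ≠ ⊥ := by
  classical
  haveI : Fact s.Prime := ⟨hs⟩
  -- |Z| is a power of s
  have hZp : IsPGroup s ↥Z := by
    intro g
    refine ⟨1, ?_⟩
    apply Subtype.ext
    rw [pow_one, Subgroup.coe_pow]
    exact hZs _ g.2
  obtain ⟨e, he⟩ := hZp.exists_card_eq
  have hcopZ : (Nat.card M).Coprime (Nat.card ↥Z) := by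
    rw [he]; exact Nat.Coprime.pow_right e hcop
  -- comp Z ⊥ ≠ ⊥
  have h0 : comp Z ⊥ ≠ ⊥ := by
    obtain ⟨z, hzZ, hz1⟩ : ∃ z ∈ Z, z ≠ 1 := by
      by_contra hcon
      push Not at hcon
      apply hZ
      rw [Subgroup.eq_bot_iff_forall]
      exact hcon
    obtain ⟨m, hm⟩ : ∃ m : M, z m ≠ m := by
      by_contra hcon
      push Not at hcon
      apply hz1
      ext m
      exact hcon m
    intro hbot
    have hmem : z m * m⁻¹ ∈ comp Z ⊥ := by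
      rw [mem_comp]
      refine ⟨?_, ?_⟩
      · intro y hy
        rw [Subgroup.mem_bot] at hy
        rw [hy]; rfl
      · rw [map_mul, map_inv, trP_apply_mem Z z hzZ m, mul_inv_cancel]
    rw [hbot, Subgroup.mem_bot] at hmem
    exact hm (mul_inv_eq_one.mp hmem)
  -- a maximal Z₁
  have hfin : ({Y : Subgroup (MulAut M) | Y ≤ Z ∧ comp Z Y ≠ ⊥}).Finite := Set.toFinite _
  obtain ⟨Z₁, -, hmax⟩ := hfin.exists_le_maximal (a := ⊥) ⟨bot_le, h0⟩
  have hZ₁Z : Z₁ ≤ Z := hmax.prop.1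
  have hZ₁c : comp Z Z₁ ≠ ⊥ := hmax.prop.2
  have hmax' : ∀ Y : Subgroup (MulAut M), Y ≤ Z → comp Z Y ≠ ⊥ → Z₁ ≤ Y → Y ≤ Z₁ :=
    fun Y h1 h2 h3 => hmax.le_of_ge ⟨h1, h2⟩ h3
  obtain ⟨n0', hn0'⟩ := (Subgroup.ne_bot_iff_exists_ne_one).mp hZ₁c
  obtain ⟨n0, hn0mem, hn01⟩ : ∃ n0 : M, n0 ∈ comp Z Z₁ ∧ n0 ≠ 1 :=
    ⟨n0'.1, n0'.2, fun h => hn0' (Subtype.ext h)⟩
  -- Z₁ ≠ Z
  have hne : Z₁ ≠ Z := by
    intro heq
    rw [heq, mem_comp] at hn0mem
    have h1 := trP_of_fixed Z n0 hn0mem.1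
    rw [hn0mem.2] at h1
    exact hn01 (eq_one_of_pow_coprime hcopZ n0 h1.symm)
  -- invariance of comp Z Z₁ under Z
  have hinv : ∀ z ∈ Z, ∀ n ∈ comp Z Z₁, z n ∈ comp Z Z₁ := by
    intro z hz n hn
    rw [mem_comp] at hn ⊢
    refine ⟨?_, ?_⟩
    · intro y hy
      have h1 : y (z n) = (y * z) n := rfl
      rw [h1, hZab y (hZ₁Z hy) z hz]
      show z (y n) = z n
      rw [hn.1 y hy]
    · rw [trP_apply_mem Z z hz n]; exact hn.2
  -- elements outside Z₁ are fixed point free on comp Z Z₁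
  have hfpf : ∀ g ∈ Z, g ∉ Z₁ → ∀ n ∈ comp Z Z₁, g n = n → n = 1 := by
    intro g hgZ hgZ₁ n hn hgn
    by_contra hn1
    have hle : Z₁ ⊔ Subgroup.zpowers g ≤ Z :=
      sup_le hZ₁Z ((Subgroup.zpowers_le).mpr hgZ)
    have hstab : Z₁ ⊔ Subgroup.zpowers g ≤ MulAction.stabilizer (MulAut M) n := by
      apply sup_le
      · intro y hy
        rw [MulAction.mem_stabilizer_iff, MulAut.smul_def]
        exact ((mem_comp).mp hn).1 y hy
      · rw [Subgroup.zpowers_le, MulAction.mem_stabilizer_iff, MulAut.smul_def]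
        exact hgn
    have hc2 : comp Z (Z₁ ⊔ Subgroup.zpowers g) ≠ ⊥ := by
      intro hbot
      have hmem : n ∈ comp Z (Z₁ ⊔ Subgroup.zpowers g) := by
        rw [mem_comp]
        refine ⟨?_, ((mem_comp).mp hn).2⟩
        intro y hy
        have := hstab hy
        rw [MulAction.mem_stabilizer_iff, MulAut.smul_def] at this
        exact this
      rw [hbot, Subgroup.mem_bot] at hmem
      exact hn1 hmem
    have h1 := hmax' _ hle hc2 le_sup_left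
    exact hgZ₁ (h1 (le_sup_right (a := Z₁) (Subgroup.mem_zpowers g)))
  -- norms vanish
  have hpowZ : ∀ g ∈ Z, ∀ j : ℕ, g ^ j ∈ Z := fun g hg j => Z.pow_mem hg j
  have hnorm : ∀ g ∈ Z, g ∉ Z₁ → ∀ n ∈ comp Z Z₁, ∏ j ∈ Finset.range s, (g ^ j) n = 1 := by
    intro g hgZ hgZ₁ n hn
    apply hfpf g hgZ hgZ₁
    · exact Subgroup.prod_mem _ (fun j _ => hinv _ (hpowZ g hgZ j) n hn)
    · exact norm_fixed g (hZs g hgZ) n
  refine ⟨Z₁, hZ₁Z, hne, ?_, hZ₁c⟩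
  intro z hzZ hzZ₁
  by_contra hcon
  have hle : Z₁ ⊔ Subgroup.zpowers z ≤ Z := sup_le hZ₁Z ((Subgroup.zpowers_le).mpr hzZ)
  obtain ⟨z₂, hz₂Z, hz₂⟩ := SetLike.exists_of_lt (lt_of_le_of_ne hle hcon)
  have hz₂Z₁ : z₂ ∉ Z₁ := fun h => hz₂ (le_sup_left (b := Subgroup.zpowers z) h)
  have hzmem : z ∈ Z₁ ⊔ Subgroup.zpowers z := le_sup_right (a := Z₁) (Subgroup.mem_zpowers z)
  have hcomm : Commute z z₂ := hZab z hzZ z₂ hz₂Z
  -- the elements z * z₂ ^ i are outside Z₁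
  have hout : ∀ i, i < s → z * z₂ ^ i ∉ Z₁ := by
    intro i his hmem
    rcases Nat.eq_zero_or_pos i with hi0 | hi0
    · rw [hi0, pow_zero, mul_one] at hmem
      exact hzZ₁ hmem
    · apply hz₂
      apply mem_of_pow_mem _ hs z₂ (hZs z₂ hz₂Z) i hi0 his
      have h1 : z₂ ^ i = z⁻¹ * (z * z₂ ^ i) := by group
      rw [h1]
      exact Subgroup.mul_mem _ (Subgroup.inv_mem _ hzmem) (le_sup_left (b := Subgroup.zpowers z) hmem)
  have hout2 : ∀ j, 0 < j → j < s → z₂ ^ j ∉ Z₁ := by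
    intro j hj0 hjs hmem
    exact hz₂Z₁ (mem_of_pow_mem _ hs z₂ (hZs z₂ hz₂Z) j hj0 hjs hmem)
  -- the double product
  have hD1 : ∏ i ∈ Finset.range s, ∏ j ∈ Finset.range s, ((z * z₂ ^ i) ^ j) n0 = 1 := by
    apply Finset.prod_eq_one
    intro i hi
    rw [Finset.mem_range] at hi
    exact hnorm _ (Z.mul_mem hzZ (hpowZ z₂ hz₂Z i)) (hout i hi) n0 hn0mem
  rw [Finset.prod_comm] at hD1
  have hterm : ∀ j : ℕ, ∏ i ∈ Finset.range s, ((z * z₂ ^ i) ^ j) n0 =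
      (z ^ j) (∏ i ∈ Finset.range s, ((z₂ ^ j) ^ i) n0) := by
    intro j
    rw [map_prod]
    apply Finset.prod_congr rfl
    intro i _
    have h1 : (z * z₂ ^ i) ^ j = z ^ j * (z₂ ^ j) ^ i := by
      rw [(hcomm.pow_right i).mul_pow, ← pow_mul, ← pow_mul, mul_comm i j]
    rw [h1]
    rfl
  have hD2 : ∏ j ∈ Finset.range s, ∏ i ∈ Finset.range s, ((z * z₂ ^ i) ^ j) n0 = n0 ^ s := by
    rw [Finset.prod_eq_single 0]
    · simp
    · intro j hj hj0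
      rw [Finset.mem_range] at hj
      rw [hterm j, hnorm _ (hpowZ z₂ hz₂Z j) (hout2 j (Nat.pos_of_ne_zero hj0) hj) n0 hn0mem,
        map_one]
    · intro h
      exfalso
      apply h
      rw [Finset.mem_range]
      exact hs.pos
  rw [hD2] at hD1
  exact hn01 (eq_one_of_pow_coprime hcop n0 hD1)

end Cfsg.Agent.Lib.Helper20.FrobHyp
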