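import Mathlib
import Cfsg.Agent.Lib.Helper1.Glauberman

set_option autoImplicit false

/-!
Piece P2 (`sz_conj`) of helper1's plan for S4305: a coprime operator group `A` of `R`
all of whose elements can be moved into `U` by left multiplication with elements of `R`
has an `R`-conjugate inside `U` (Glauberman's lemma on the cosets of `U`).
-/

namespace Cfsg.Agent.Lib.Helper20.FrobSZ

open scoped Pointwise

theorem sz_conj {G : Type*} [Group G] [Finite G] (R A U : Subgroup G)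
    (hAR : A ≤ Subgroup.normalizer (R : Set G)) (hcop : (Nat.card A).Coprime (Nat.card R))
    (hsolv : Group.IsSolvable R ∨ Group.IsSolvable A)
    (hU : ∀ a ∈ A, ∃ c ∈ R, c * a ∈ U) : ∃ c ∈ R, ∀ a ∈ A, c * a * c⁻¹ ∈ U := by
  classical
  obtain ⟨L, hL⟩ : ∃ L : Subgroup G, L = R ⊔ A := ⟨_, rfl⟩
  have hRL : R ≤ L := hL ▸ le_sup_left
  have hAL : A ≤ L := hL ▸ le_sup_right
  have hLset : (L : Set G) = (R : Set G) * (A : Set G) := by
    rw [hL]; exact Subgroup.coe_mul_of_right_le_normalizer_left R A hAR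
  have hLset' : (L : Set G) = (A : Set G) * (R : Set G) := by
    rw [hL, sup_comm]; exact Subgroup.coe_mul_of_left_le_normalizer_right A R hAR
  have hdec : ∀ l ∈ L, ∃ r ∈ R, ∃ a ∈ A, l = r * a := by
    intro l hl
    have h1 : l ∈ (L : Set G) := hl
    rw [hLset, Set.mem_mul] at h1
    obtain ⟨r, hr, a, ha, h⟩ := h1
    exact ⟨r, hr, a, ha, h.symm⟩
  have hdec' : ∀ l ∈ L, ∃ a ∈ A, ∃ r ∈ R, l = a * r := by
    intro l hl
    have h1 : l ∈ (L : Set G) := hl
    rw [hLset', Set.mem_mul] at h1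
    obtain ⟨a, ha, r, hr, h⟩ := h1
    exact ⟨a, ha, r, hr, h.symm⟩
  have hLN : L ≤ Subgroup.normalizer (R : Set G) := by
    rw [hL]; exact sup_le Subgroup.le_normalizer hAR
  have hKn : (R.subgroupOf L).Normal :=
    (Subgroup.normal_subgroupOf_iff_le_normalizer hRL).mpr hLN
  have hRA : R ⊓ A = ⊥ := disjoint_iff.mp (Subgroup.disjoint_of_coprime_natCard hcop.symm)
  have hdisj : Disjoint (R.subgroupOf L) (A.subgroupOf L) := by
    rw [Subgroup.disjoint_def]
    intro x hxR hxA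
    have h1 : (x : G) ∈ R ⊓ A := ⟨Subgroup.mem_subgroupOf.mp hxR, Subgroup.mem_subgroupOf.mp hxA⟩
    rw [hRA, Subgroup.mem_bot] at h1
    exact Subtype.ext h1
  have hmul : ((R.subgroupOf L : Subgroup ↥L) : Set ↥L) * ((A.subgroupOf L : Subgroup ↥L) : Set ↥L)
      = Set.univ := by
    rw [Set.eq_univ_iff_forall]
    intro x
    obtain ⟨r, hr, a, ha, h⟩ := hdec x.1 x.2
    rw [Set.mem_mul]
    refine ⟨⟨r, hRL hr⟩, ?_, ⟨a, hAL ha⟩, ?_, ?_⟩
    · exact Subgroup.mem_subgroupOf.mpr hr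
    · exact Subgroup.mem_subgroupOf.mpr ha
    · exact Subtype.ext h.symm
  have hc : Subgroup.IsComplement' (R.subgroupOf L) (A.subgroupOf L) :=
    Subgroup.isComplement'_of_disjoint_and_mul_eq_univ hdisj hmul
  have hcardK : Nat.card ↥(R.subgroupOf L) = Nat.card ↥R :=
    Nat.card_congr (Subgroup.subgroupOfEquivOfLe hRL).toEquiv
  have hcardH : Nat.card ↥(A.subgroupOf L) = Nat.card ↥A :=
    Nat.card_congr (Subgroup.subgroupOfEquivOfLe hAL).toEquiv
  have hcop' : (Nat.card ↥(R.subgroupOf L)).Coprime (R.subgroupOf L).index := by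
    rw [hc.symm.index_eq_card, hcardK, hcardH]
    exact hcop.symm
  have hsolv' : Group.IsSolvable ↥(R.subgroupOf L) ∨ Group.IsSolvable (↥L ⧸ R.subgroupOf L) := by
    rcases hsolv with h | h
    · left
      exact Group.isSolvable_of_isSolvable_injective
        (f := (Subgroup.subgroupOfEquivOfLe hRL).toMonoidHom) (MulEquiv.injective _)
    · right
      let f : ↥A →* ↥L ⧸ R.subgroupOf L :=
        (QuotientGroup.mk' (R.subgroupOf L)).comp (Subgroup.inclusion hAL)
      have hf : Function.Surjective f := by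
        intro q
        induction q using QuotientGroup.induction_on with
        | H x =>
          obtain ⟨a, ha, r, hr, h⟩ := hdec' x.1 x.2
          refine ⟨⟨a, ha⟩, ?_⟩
          show (QuotientGroup.mk (Subgroup.inclusion hAL ⟨a, ha⟩) : ↥L ⧸ R.subgroupOf L) =
            QuotientGroup.mk x
          rw [QuotientGroup.eq, Subgroup.mem_subgroupOf]
          have h2 : (((Subgroup.inclusion hAL ⟨a, ha⟩)⁻¹ * x : ↥L) : G) = a⁻¹ * (x : G) := rfl
          rw [h2, h]
          simpa using hr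
      exact Group.isSolvable_of_surjective hf
  -- transitivity
  have horb : ∀ y : ↥L ⧸ U.subgroupOf L, ∃ k : ↥L, k ∈ R.subgroupOf L ∧
      k • (QuotientGroup.mk (1 : ↥L) : ↥L ⧸ U.subgroupOf L) = y := by
    intro y
    induction y using QuotientGroup.induction_on with
    | H x =>
      obtain ⟨r, hr, a, ha, h⟩ := hdec x.1 x.2
      obtain ⟨c, hcR, hcU⟩ := hU a ha
      have hk : r * c⁻¹ ∈ R := R.mul_mem hr (R.inv_mem hcR)
      refine ⟨⟨r * c⁻¹, hRL hk⟩, Subgroup.mem_subgroupOf.mpr hk, ?_⟩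
      rw [MulAction.Quotient.smul_mk, smul_eq_mul, mul_one, QuotientGroup.eq,
        Subgroup.mem_subgroupOf]
      have h2 : (((⟨r * c⁻¹, hRL hk⟩ : ↥L)⁻¹ * x : ↥L) : G) = (r * c⁻¹)⁻¹ * (x : G) := rfl
      rw [h2, h]
      have h3 : (r * c⁻¹)⁻¹ * (r * a) = c * a := by group
      rw [h3]
      exact hcU
  have htrans : MulAction.IsPretransitive ↥(R.subgroupOf L) (↥L ⧸ U.subgroupOf L) := by
    refine ⟨?_⟩
    intro x y
    obtain ⟨kx, hkxm, hkx⟩ := horb x
    obtain ⟨ky, hkym, hky⟩ := horb y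
    refine ⟨⟨ky * kx⁻¹, Subgroup.mul_mem _ hkym (Subgroup.inv_mem _ hkxm)⟩, ?_⟩
    show (ky * kx⁻¹) • x = y
    rw [← hkx, mul_smul, inv_smul_smul, hky]
  obtain ⟨x, hx⟩ := Cfsg.Agent.Lib.Helper1.glauberman_exists_fixed
    (X := ↥L ⧸ U.subgroupOf L) (R.subgroupOf L) (A.subgroupOf L) hc hcop' hsolv' htrans
  induction x using QuotientGroup.induction_on with
  | H g =>
    have hg : ∀ a ∈ A, (g : G)⁻¹ * a * (g : G) ∈ U := by
      intro a ha
      have h1 := hx ⟨a, hAL ha⟩ (Subgroup.mem_subgroupOf.mpr ha)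
      rw [MulAction.Quotient.smul_mk, smul_eq_mul, QuotientGroup.eq, Subgroup.mem_subgroupOf] at h1
      have h2 : ((((⟨a, hAL ha⟩ : ↥L) * g)⁻¹ * g : ↥L) : G) = (a * (g : G))⁻¹ * (g : G) := rfl
      rw [h2] at h1
      have h3 := U.inv_mem h1
      have h4 : ((a * (g : G))⁻¹ * (g : G))⁻¹ = (g : G)⁻¹ * a * (g : G) := by group
      rw [h4] at h3
      exact h3
    obtain ⟨c, hcR, a₀, ha₀, h⟩ := hdec ((g : G)⁻¹) (L.inv_mem g.2)
    refine ⟨c, hcR, ?_⟩
    intro a ha
    have h1 := hg (a₀⁻¹ * a * a₀) (A.mul_mem (A.mul_mem (A.inv_mem ha₀) ha) ha₀)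
    have hg' : (g : G) = (c * a₀)⁻¹ := by rw [← h, inv_inv]
    rw [hg'] at h1
    have h2 : (c * a₀)⁻¹⁻¹ * (a₀⁻¹ * a * a₀) * (c * a₀)⁻¹ = c * a * c⁻¹ := by group
    rw [h2] at h1
    exact h1

end Cfsg.Agent.Lib.Helper20.FrobSZ
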