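import Mathlib
import Cfsg.Agent.S0026
import Cfsg.Agent.Lib.Lead.Coprime
import Cfsg.Agent.Lib.Helper1.Nilp
import Cfsg.Agent.Lib.Helper1.FrobPQ.LocalC
import Cfsg.Agent.Lib.Helper1.FrobPQ.HH
import Cfsg.Agent.Lib.Helper20.FrobHyp

set_option autoImplicit false
set_option linter.unusedSectionVars false

/-!
Piece P5 (`core2`) of helper1's plan for S4305 (Shult's S3 theorem), `MulAut M` form:
`S3 ≅ A ≤ MulAut M` fixed point free on the elementary abelian `ℓ`-group `M` and on an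
`A`-invariant `r`-subgroup `R ≤ MulAut M` forces `R` abelian.
-/

namespace Cfsg.Agent.Lib.Helper20.FrobCore2

open Cfsg.Agent.Lib.Helper18.Fpf4 Cfsg.Agent.Lib.Helper1.FrobPQ Cfsg.Agent.Lib.Helper1.Ward
open scoped commutatorElement

section General

variable {G : Type*} [Group G]

/-- index two: squares lie in `F`. -/
theorem sq_mem_of_card [Finite G] {A F : Subgroup G} (hFA : F ≤ A) {n : ℕ} (hn : 0 < n)
    (hF : Nat.card F = n) (hA : Nat.card A = n * 2) : (F.subgroupOf A).index = 2 := by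
  have h1 := (F.subgroupOf A).card_mul_index
  have h2 : Nat.card (F.subgroupOf A) = n := by
    rw [← hF]; exact Nat.card_congr (Subgroup.subgroupOfEquivOfLe hFA).toEquiv
  rw [h2, hA] at h1
  exact Nat.eq_of_mul_eq_mul_left hn h1

theorem dec_of_index_two {A F : Subgroup G} (hidx : (F.subgroupOf A).index = 2) {x : G}
    (hxA : x ∈ A) (hxF : x ∉ F) {a : G} (ha : a ∈ A) : a ∈ F ∨ a * x⁻¹ ∈ F := by
  by_cases haF : a ∈ F
  · exact Or.inl haF
  · right
    have h1 := Subgroup.mul_mem_iff_of_index_two hidx (a := (⟨a, ha⟩ : ↥A))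
      (b := (⟨x, hxA⟩ : ↥A)⁻¹)
    have h2 : ((⟨a, ha⟩ : ↥A) ∈ F.subgroupOf A ↔ (⟨x, hxA⟩ : ↥A)⁻¹ ∈ F.subgroupOf A) := by
      rw [Subgroup.inv_mem_iff, Subgroup.mem_subgroupOf, Subgroup.mem_subgroupOf]
      exact ⟨fun h => absurd h haF, fun h => absurd h hxF⟩
    have h3 := h1.mpr h2
    rw [Subgroup.mem_subgroupOf] at h3
    exact h3

theorem sq_mem_of_index_two' {A F : Subgroup G} (hidx : (F.subgroupOf A).index = 2) {a : G}
    (ha : a ∈ A) : a ^ 2 ∈ F := by
  have h1 := Subgroup.sq_mem_of_index_two hidx (⟨a, ha⟩ : ↥A)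
  rw [Subgroup.mem_subgroupOf] at h1
  exact h1

/-- an element commuting with `F` and with some `x ∈ A \ F` commutes with `A`. -/
theorem comm_all_of_index_two {A F : Subgroup G} (hidx : (F.subgroupOf A).index = 2) {x : G}
    (hxA : x ∈ A) (hxF : x ∉ F) {y : G} (hF : ∀ g ∈ F, g * y = y * g) (hx : x * y = y * x) :
    ∀ a ∈ A, a * y = y * a := by
  intro a ha
  rcases dec_of_index_two hidx hxA hxF ha with h | h
  · exact hF a h
  · have h1 := hF _ h
    have e : a = a * x⁻¹ * x := by group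
    rw [e, mul_assoc, hx, ← mul_assoc, h1, mul_assoc]

end General


section Main

variable {M : Type*} [CommGroup M] [Finite M]

/-- pointwise fixer of a subgroup -/
def fixW (W : Subgroup M) : Subgroup (MulAut M) where
  carrier := {g | ∀ w ∈ W, g w = w}
  one_mem' := fun _ _ => rfl
  mul_mem' := by
    intro g h hg hh w hw
    rw [MulAut.mul_apply, hh w hw, hg w hw]
  inv_mem' := by
    intro g hg w hw
    have h1 : g⁻¹ (g w) = w := MulAut.inv_apply_self M g w
    rw [hg w hw] at h1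
    exact h1

theorem mem_fixW {W : Subgroup M} {g : MulAut M} : g ∈ fixW W ↔ ∀ w ∈ W, g w = w := Iff.rfl

/-- `Ω₁` of `R' ∩ Z(R)` as an ambient subgroup. -/
def omZ (r : ℕ) (R : Subgroup (MulAut M)) : Subgroup (MulAut M) where
  carrier := {z | z ∈ ⁅R, R⁆ ∧ z ∈ R ∧ (∀ y ∈ R, y * z = z * y) ∧ z ^ r = 1}
  one_mem' := ⟨one_mem _, one_mem _, fun y _ => by rw [mul_one, one_mul], one_pow r⟩
  mul_mem' := by
    rintro a b ⟨ha1, ha2, ha3, ha4⟩ ⟨hb1, hb2, hb3, hb4⟩
    refine ⟨mul_mem ha1 hb1, mul_mem ha2 hb2, fun y hy => ?_, ?_⟩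
    · rw [← mul_assoc, ha3 y hy, mul_assoc, hb3 y hy, mul_assoc]
    · have hc : Commute a b := (ha3 b hb2).symm
      rw [hc.mul_pow, ha4, hb4, one_mul]
  inv_mem' := by
    rintro a ⟨ha1, ha2, ha3, ha4⟩
    refine ⟨inv_mem ha1, inv_mem ha2, fun y hy => ?_, by rw [inv_pow, ha4, inv_one]⟩
    have h := ha3 y hy
    have e1 : y * a⁻¹ = a⁻¹ * (a * y) * a⁻¹ := by group
    rw [e1, ← h]
    group

theorem mem_omZ {r : ℕ} {R : Subgroup (MulAut M)} {z : MulAut M} :
    z ∈ omZ r R ↔ z ∈ ⁅R, R⁆ ∧ z ∈ R ∧ (∀ y ∈ R, y * z = z * y) ∧ z ^ r = 1 := Iff.rfl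

theorem omZ_ne_bot {r : ℕ} [hr : Fact r.Prime] {R : Subgroup (MulAut M)} (hR : IsPGroup r R)
    (hnab : ¬ ∀ a ∈ R, ∀ b ∈ R, a * b = b * a) : omZ r R ≠ ⊥ := by
  have : Group.IsNilpotent ↥R := hR.isNilpotent
  have hne : commutator ↥R ≠ ⊥ := by
    intro hbot
    apply hnab
    intro a ha b hb
    have h1 : ⁅(⟨a, ha⟩ : ↥R), ⟨b, hb⟩⁆ ∈ commutator ↥R :=
      Subgroup.commutator_mem_commutator (Subgroup.mem_top _) (Subgroup.mem_top _)
    rw [hbot, Subgroup.mem_bot, commutatorElement_eq_one_iff_mul_comm] at h1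
    exact congrArg Subtype.val h1
  have h1 := Cfsg.Agent.Lib.Helper1.normal_inf_center_ne_bot (commutator ↥R) hne
  obtain ⟨z0', hz0'⟩ := (Subgroup.ne_bot_iff_exists_ne_one).mp h1
  obtain ⟨z0, hz0, hz01⟩ : ∃ z0 : ↥R, z0 ∈ commutator ↥R ⊓ Subgroup.center ↥R ∧ z0 ≠ 1 :=
    ⟨z0'.1, z0'.2, fun h => hz0' (Subtype.ext h)⟩
  -- an element of order r in ⟨z0⟩
  obtain ⟨k, hk⟩ := hR.exists_orderOf_eq_pow z0
  have hk0 : k ≠ 0 := by
    intro h0
    rw [h0, pow_zero, orderOf_eq_one_iff] at hk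
    exact hz01 hk
  obtain ⟨j, rfl⟩ : ∃ j, k = j + 1 := ⟨k - 1, by omega⟩
  have hz1ord : orderOf (z0 ^ r ^ j) = r := by
    rw [orderOf_pow' z0 (pow_ne_zero j hr.out.ne_zero), hk, Nat.gcd_eq_right (pow_dvd_pow r (Nat.le_succ j)),
      pow_succ, Nat.mul_div_cancel_left r (pow_pos hr.out.pos j)]
  have hz1mem : z0 ^ r ^ j ∈ commutator ↥R ⊓ Subgroup.center ↥R := Subgroup.pow_mem _ hz0 _
  intro hbot
  have hmem : ((z0 ^ r ^ j : ↥R) : MulAut M) ∈ omZ r R := by
    refine ⟨?_, (z0 ^ r ^ j).2, ?_, ?_⟩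
    · rw [← Subgroup.map_subtype_commutator]
      exact Subgroup.mem_map_of_mem _ hz1mem.1
    · intro y hy
      have h2 := Subgroup.mem_center_iff.mp hz1mem.2 ⟨y, hy⟩
      exact congrArg Subtype.val h2
    · have h2 : (z0 ^ r ^ j) ^ r = 1 := by
        have h4 := pow_orderOf_eq_one (z0 ^ r ^ j)
        rw [hz1ord] at h4
        exact h4
      have h3 := congrArg Subtype.val h2
      simpa using h3
  rw [hbot, Subgroup.mem_bot] at hmem
  have h2 : z0 ^ r ^ j = 1 := Subtype.ext hmem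
  rw [h2, orderOf_one] at hz1ord
  exact hr.out.one_lt.ne hz1ord

theorem core2_aux {ℓ r : ℕ} (hℓ : ℓ.Prime) (hr : r.Prime)
    (hℓ2 : ℓ ≠ 2) (hℓ3 : ℓ ≠ 3) (hr2 : r ≠ 2) (hr3 : r ≠ 3) (hrℓ : r ≠ ℓ)
    (hexpM : ∀ m : M, m ^ ℓ = 1)
    (A F : Subgroup (MulAut M)) (hA : PQ 3 2 A) (hFA : F ≤ A) (hF : Nat.card F = 3)
    (hAF : A ≤ Subgroup.normalizer (F : Set (MulAut M)))
    (hfpfM : ∀ m : M, (∀ a ∈ A, a m = m) → m = 1)
    (hcl : ∀ (R : Subgroup (MulAut M)) (f x : MulAut M),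
      f ∈ Subgroup.normalizer (R : Set (MulAut M)) → x ∈ Subgroup.normalizer (R : Set (MulAut M)) →
      f ^ 3 = 1 → x ^ 2 = 1 → x * f * x⁻¹ = f⁻¹ → (Nat.card R).Coprime 6 → Group.IsNilpotent R →
      (∀ y ∈ R, f * y = y * f → x * y = y * x → y = 1) → ⁅R, R⁆ ≤ ⁅R, Subgroup.zpowers x⁆) :
    ∀ n : ℕ, ∀ R : Subgroup (MulAut M), Nat.card R = n → IsPGroup r R →
      A ≤ Subgroup.normalizer (R : Set (MulAut M)) →
      (∀ y ∈ R, (∀ a ∈ A, a * y = y * a) → y = 1) → ∀ a ∈ R, ∀ b ∈ R, a * b = b * a := by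
  classical
  haveI : Fact r.Prime := ⟨hr⟩
  haveI : Fact ℓ.Prime := ⟨hℓ⟩
  have hidx : (F.subgroupOf A).index = 2 := sq_mem_of_card hFA (by norm_num) hF hA.card
  have hFprime : (Nat.card F).Prime := by rw [hF]; norm_num
  obtain ⟨f, hfF, hf1⟩ : ∃ f ∈ F, f ≠ 1 := by
    by_contra hcon
    push Not at hcon
    have hbot : F = ⊥ := (Subgroup.eq_bot_iff_forall F).mpr hcon
    rw [hbot, Subgroup.card_bot] at hF
    omega
  have hFgen : Subgroup.zpowers f = F := PQ.zpowers_eq_of_prime_card hFprime hfF hf1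
  have hf3 : f ^ 3 = 1 := by
    have h1 : orderOf f ∣ Nat.card F := by
      have := orderOf_dvd_natCard (⟨f, hfF⟩ : ↥F)
      rwa [Subgroup.orderOf_mk] at this
    rw [hF] at h1
    exact orderOf_dvd_iff_pow_eq_one.mp h1
  have hFelts : ∀ g ∈ F, g = 1 ∨ g = f ∨ g = f⁻¹ := by
    intro g hg
    rw [← hFgen] at hg
    obtain ⟨i, rfl⟩ := hg
    change f ^ i = 1 ∨ f ^ i = f ∨ f ^ i = f⁻¹
    have hf3' : f ^ (3 : ℤ) = 1 := by
      have : f ^ ((3 : ℕ) : ℤ) = 1 := by rw [zpow_natCast]; exact hf3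
      exact this
    have h1 : f ^ i = f ^ (i % 3) := by
      conv_lhs => rw [← Int.emod_add_mul_ediv i 3]
      rw [zpow_add, zpow_mul, hf3', one_zpow, mul_one]
    have h2 : i % 3 = 0 ∨ i % 3 = 1 ∨ i % 3 = 2 := by omega
    rcases h2 with h | h | h
    · left; rw [h1, h, zpow_zero]
    · right; left; rw [h1, h, zpow_one]
    · right; right
      rw [h1, h]
      have h3 : f ^ (2 : ℤ) * f = 1 := by
        have : f ^ (2 : ℤ) * f = f ^ (3 : ℤ) := by
          rw [show (3 : ℤ) = 2 + 1 from rfl, zpow_add, zpow_one]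
        rw [this, hf3']
      exact eq_inv_of_mul_eq_one_left h3
  intro n
  induction n using Nat.strong_induction_on with
  | _ n ih =>
  intro R hn hR hAR hfpfR
  by_contra hnab
  -- (i) F does not centralize R
  have hFR : ¬ ∀ g ∈ F, ∀ y ∈ R, g * y = y * g := by
    intro hc
    obtain ⟨x, hxA, hxF⟩ : ∃ x ∈ A, x ∉ F := by
      by_contra hcon
      push Not at hcon
      have hle : A ≤ F := hcon
      have h1 := Nat.le_of_dvd (by rw [hF]; norm_num) (Subgroup.card_dvd_of_le hle)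
      rw [hF, hA.card] at h1
      omega
    have hx2 : x ^ 2 ∈ F := sq_mem_of_index_two' hidx hxA
    let φ : ↥R →* ↥R := (Cfsg.Agent.Lib.Lead.conjAut R x (hAR hxA)).toMonoidHom
    have hφ : MonoidHom.FixedPointFree φ := by
      intro y hy
      have h1 : x * (y : MulAut M) * x⁻¹ = y := congrArg Subtype.val hy
      have h2 : x * (y : MulAut M) = y * x := by
        calc x * (y : MulAut M) = (x * (y : MulAut M) * x⁻¹) * x := by group
          _ = y * x := by rw [h1]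
      apply Subtype.ext
      apply hfpfR y y.2
      exact comm_all_of_index_two hidx hxA hxF (fun g hg => hc g hg y y.2) h2
    have hinv : Function.Involutive φ := by
      intro y
      apply Subtype.ext
      show x * (x * (y : MulAut M) * x⁻¹) * x⁻¹ = y
      have h1 := hc _ hx2 y y.2
      calc x * (x * (y : MulAut M) * x⁻¹) * x⁻¹ = x ^ 2 * y * (x ^ 2)⁻¹ := by
            rw [pow_two, mul_inv_rev]; simp only [mul_assoc]
        _ = y := by rw [h1, mul_inv_cancel_right]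
    apply hnab
    intro a ha b hb
    have h3 := hφ.commute_all_of_involutive hinv ⟨a, ha⟩ ⟨b, hb⟩
    exact congrArg Subtype.val h3
  -- (ii) the subgroup Z
  obtain ⟨Z, hZdef⟩ : ∃ Z : Subgroup (MulAut M), Z = omZ r R := ⟨_, rfl⟩
  have hZne : Z ≠ ⊥ := hZdef ▸ omZ_ne_bot hR hnab
  have hZmem : ∀ z, z ∈ Z ↔ z ∈ ⁅R, R⁆ ∧ z ∈ R ∧ (∀ y ∈ R, y * z = z * y) ∧ z ^ r = 1 := by
    intro z; rw [hZdef]; exact mem_omZ
  have hZR : Z ≤ R := fun z hz => ((hZmem z).mp hz).2.1
  have hZcomm : Z ≤ ⁅R, R⁆ := fun z hz => ((hZmem z).mp hz).1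
  have hZcen : ∀ z ∈ Z, ∀ y ∈ R, y * z = z * y := fun z hz => ((hZmem z).mp hz).2.2.1
  have hZab : ∀ a ∈ Z, ∀ b ∈ Z, a * b = b * a := fun a ha b hb => hZcen b hb a (hZR ha)
  have hZs : ∀ z ∈ Z, z ^ r = 1 := fun z hz => ((hZmem z).mp hz).2.2.2
  have hAZ : A ≤ Subgroup.normalizer (Z : Set (MulAut M)) := by
    apply conj_mem_of_normalizer_le
    intro a ha z hz
    rw [hZmem] at hz ⊢
    obtain ⟨h1, h2, h3, h4⟩ := hz
    have hnR := hAR ha
    refine ⟨nmem (normalizer_commutator hAR hAR ha) h1, nmem hnR h2, ?_, ?_⟩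
    · intro y hy
      have hy' : a⁻¹ * y * a ∈ R := nmem' hnR hy
      have h5 := h3 _ hy'
      calc y * (a * z * a⁻¹) = a * ((a⁻¹ * y * a) * z) * a⁻¹ := by group
        _ = a * (z * (a⁻¹ * y * a)) * a⁻¹ := by rw [h5]
        _ = a * z * a⁻¹ * y := by group
    · rw [conj_pow, h4]; group
  -- coprimality
  have hMp : IsPGroup ℓ M := fun m => ⟨1, by rw [pow_one]; exact hexpM m⟩
  obtain ⟨k, hk⟩ := IsPGroup.iff_card.mp hMp
  have hcopMr : (Nat.card M).Coprime r := by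
    rw [hk]; exact Nat.Coprime.pow_left k ((Nat.coprime_primes hℓ hr).mpr (Ne.symm hrℓ))
  have hcopM6 : (Nat.card M).Coprime (Nat.card A) := by
    rw [hk, hA.card]
    apply Nat.Coprime.pow_left
    exact Nat.Coprime.mul_right ((Nat.coprime_primes hℓ Nat.prime_three).mpr hℓ3)
      ((Nat.coprime_primes hℓ Nat.prime_two).mpr hℓ2)
  have hcopAr : (Nat.card A).Coprime r := by
    rw [hA.card]
    exact Nat.Coprime.mul_left ((Nat.coprime_primes Nat.prime_three hr).mpr (Ne.symm hr3))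
      ((Nat.coprime_primes Nat.prime_two hr).mpr (Ne.symm hr2))
  obtain ⟨kR, hkR⟩ := IsPGroup.iff_card.mp hR
  -- (iii) hyperplane and local analysis
  obtain ⟨Z₁, hZ₁Z, hZ₁ne, hZ₁max, hcompne⟩ :=
    Cfsg.Agent.Lib.Helper20.FrobHyp.exists_hyperplane Z hr hZab hZs hcopMr hZne
  have L : LocalData r A Z Z₁ :=
    { hs := hr, Zab := hZab, Zs := hZs, AZ := hAZ, Z₁Z := hZ₁Z, Z₁ne := hZ₁ne, Z₁max := hZ₁max,
      compne := hcompne, copMs := hcopMr, copMA := hcopM6, copAs := hcopAr, fpfM := hfpfM,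
      fpfZ := fun z hz h => hfpfR z (hZR hz) h }
  obtain ⟨x, hxA, hx1, hxs, hxfpf⟩ := L.local_main hA
  -- (iv)
  obtain ⟨W, hW⟩ : ∃ W : Subgroup M, W = comp Z Z₁ := ⟨_, rfl⟩
  have hRZ : R ≤ Subgroup.normalizer (Z : Set (MulAut M)) := by
    apply conj_mem_of_normalizer_le
    intro g hg u hu
    have h1 : g * u * g⁻¹ = u := by rw [hZcen u hu g hg]; group
    rw [h1]; exact hu
  have hRZ₁ : R ≤ Subgroup.normalizer (Z₁ : Set (MulAut M)) := by
    apply conj_mem_of_normalizer_le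
    intro g hg u hu
    have h1 : g * u * g⁻¹ = u := by rw [hZcen u (hZ₁Z hu) g hg]; group
    rw [h1]; exact hu
  have hRW : R ≤ stabS W := by
    intro y hy
    apply mem_stabS_of_forall
    intro w hw
    rw [hW] at hw ⊢
    exact L.comp_B_inv (hRZ hy) (hRZ₁ hy) hw
  have hxW : x ∈ stabS W := by
    apply mem_stabS_of_forall
    intro w hw
    rw [hW] at hw ⊢
    exact L.comp_B_inv hxs.1 (L.stab_le_norm hxs) hw
  have hB1 : Subgroup.zpowers x ≠ ⊥ := by
    intro h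
    apply hx1
    have h1 := Subgroup.mem_zpowers x
    rw [h, Subgroup.mem_bot] at h1
    exact h1
  have hBA : Subgroup.zpowers x ≤ A := (Subgroup.zpowers_le).mpr hxA
  have hBne : Subgroup.zpowers x ≠ A := by
    intro h
    apply hA.nonab
    intro a ha b hb
    rw [← h] at ha hb
    obtain ⟨i, rfl⟩ := ha
    obtain ⟨j, rfl⟩ := hb
    exact (Commute.refl x).zpow_zpow i j
  have hoprime := hA.prime_card_of_ne hBA hB1 hBne
  rw [Nat.card_zpowers] at hoprime
  have hxo : x ^ orderOf x = 1 := pow_orderOf_eq_one x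
  have ho23 : orderOf x = 2 ∨ orderOf x = 3 := by
    have h1 : orderOf x ∣ Nat.card A := by
      have := orderOf_dvd_natCard (⟨x, hxA⟩ : ↥A)
      rwa [Subgroup.orderOf_mk] at this
    rw [hA.card] at h1
    rcases (Nat.Prime.dvd_mul hoprime).mp h1 with h | h
    · right; exact (Nat.prime_dvd_prime_iff_eq hoprime Nat.prime_three).mp h
    · left; exact (Nat.prime_dvd_prime_iff_eq hoprime Nat.prime_two).mp h
  have hℓo : ℓ ≠ orderOf x := by
    rcases ho23 with h | h <;> rw [h] <;> assumption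
  have hro : r ≠ orderOf x := by
    rcases ho23 with h | h <;> rw [h] <;> assumption
  have hstep := hh_step hℓ hr hoprime (Ne.symm hrℓ) hℓo hro hexpM W R hR x hxo (hAR hxA) hxW hRW
    (by intro w hw; rw [hW] at hw; exact hxfpf w hw) (fun h2 => absurd h2 hr2)
  obtain ⟨K, hK⟩ : ∃ K : Subgroup (MulAut M), K = R ⊓ fixW W := ⟨_, rfl⟩
  have hxK : x ∈ stabMod R K := by
    refine ⟨hAR hxA, fun y hy => ?_⟩
    rw [hK]
    refine Subgroup.mem_inf.mpr ⟨R.mul_mem (R.inv_mem hy) (nmem (hAR hxA) hy), ?_⟩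
    intro w hw
    have hyw : y w ∈ W := apply_mem_of_mem_stabS (hRW hy) hw
    have h1 := hstep y hy (y w) hyw
    have h2 : (y⁻¹ * (x * y * x⁻¹)) w = y⁻¹ ((x * y * x⁻¹ * y⁻¹) (y w)) := by
      simp only [MulAut.mul_apply, MulAut.inv_apply_self]
    rw [h2, h1, MulAut.inv_apply_self]
  have hcomK : ⁅R, Subgroup.zpowers x⁆ ≤ K :=
    commutator_le_of_le_stabMod ((Subgroup.zpowers_le).mpr hxK)
  have hZK : ¬ Z ≤ K := by
    intro hle
    obtain ⟨z, hz, hz1⟩ := L.exists_out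
    obtain ⟨w, hw1⟩ := (Subgroup.ne_bot_iff_exists_ne_one).mp hcompne
    apply hw1
    apply Subtype.ext
    have hzK := hle hz
    rw [hK] at hzK
    exact L.fpf_out hz hz1 w.2 (hzK.2 w (hW ▸ w.2))
  suffices hsuff : ⁅R, R⁆ ≤ K from hZK (hZcomm.trans hsuff)
  by_cases hxF : x ∈ F
  · -- (v)
    have hFx : Subgroup.zpowers x = F := PQ.zpowers_eq_of_prime_card hFprime hxF hx1
    rw [hFx] at hcomK
    obtain ⟨C, hC⟩ : ∃ C : Subgroup (MulAut M),
      C = R ⊓ Subgroup.centralizer (F : Set (MulAut M)) := ⟨_, rfl⟩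
    have hCR : C ≤ R := by rw [hC]; exact inf_le_left
    have hCne : C ≠ R := by
      intro h
      apply hFR
      intro g hg y hy
      have h1 : y ∈ C := h ▸ hy
      rw [hC] at h1
      exact Subgroup.mem_centralizer_iff.mp h1.2 g hg
    have hCA : A ≤ Subgroup.normalizer (C : Set (MulAut M)) := by
      rw [hC]; exact normalizer_inf hAR (normalizer_centralizer hAF)
    have hCcard : Nat.card C < n := by
      rw [← hn]
      exact lt_of_not_ge (fun h => hCne (Subgroup.eq_of_le_of_card_ge hCR h))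
    have hCab := ih (Nat.card C) hCcard C rfl (hR.to_le hCR) hCA
      (fun y hy h => hfpfR y (hCR hy) h)
    have hcopFR : (Nat.card F).Coprime (Nat.card R) := by
      rw [hF, hkR]
      exact Nat.Coprime.pow_right kR ((Nat.coprime_primes Nat.prime_three hr).mpr (Ne.symm hr3))
    have hRsolv : Group.IsSolvable ↥R := by
      have := hR.isNilpotent
      infer_instance
    have hdecomp := Cfsg.Agent.S0026.result F R (hFA.trans hAR) hcopFR (Or.inr hRsolv)
    have hNnorm : R ≤ Subgroup.normalizer ((⁅R, F⁆ : Subgroup (MulAut M)) : Set (MulAut M)) :=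
      Cfsg.Agent.Lib.Lead.left_le_normalizer_commutator R F
    have hNR : ⁅R, F⁆ ≤ R :=
      Cfsg.Agent.Lib.Lead.commutator_le_left_of_le_normalizer R F (hFA.trans hAR)
    have hNle : ⁅R, F⁆ ≤ stabMod R ⁅R, F⁆ := by
      intro m hm
      refine ⟨Subgroup.le_normalizer (hNR hm), fun y hy => ?_⟩
      have h1 : y⁻¹ * m * y ∈ ⁅R, F⁆ := nmem' (hNnorm hy) hm
      have e : y⁻¹ * (m * y * m⁻¹) = (y⁻¹ * m * y) * m⁻¹ := by group
      rw [e]; exact mul_mem h1 (inv_mem hm)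
    have hCle : C ≤ stabMod R ⁅R, F⁆ := by
      intro c hc
      have hcR : c ∈ R := hCR hc
      have h1 : ⁅R, F⁆ ≤ fixMod ⁅R, F⁆ c := by
        intro m hm
        refine ⟨Subgroup.le_normalizer hm, ?_⟩
        exact mul_mem (inv_mem hm) (nmem (hNnorm hcR) hm)
      have h2 : R ⊓ Subgroup.centralizer (F : Set (MulAut M)) ≤ fixMod ⁅R, F⁆ c := by
        intro c' hc'
        have hc'C : c' ∈ C := by rw [hC]; exact hc'
        refine ⟨hNnorm (hCR hc'C), ?_⟩
        have h3 := hCab c hc c' hc'C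
        have e : c'⁻¹ * (c * c' * c⁻¹) = 1 := by rw [h3]; group
        rw [e]; exact one_mem _
      have hRfix : R ≤ fixMod ⁅R, F⁆ c := le_trans (le_of_eq hdecomp.symm) (sup_le h1 h2)
      exact ⟨Subgroup.le_normalizer hcR, fun y hy => (hRfix hy).2⟩
    have hRle : R ≤ stabMod R ⁅R, F⁆ :=
      le_trans (le_of_eq hdecomp.symm) (sup_le hNle (hC ▸ hCle))
    exact (commutator_le_of_le_stabMod hRle).trans hcomK
  · -- (vi)
    have hx2 : x ^ 2 = 1 := by
      rcases ho23 with h | h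
      · rw [← h]; exact hxo
      · exfalso
        apply hxF
        have h3 : x ^ 3 = 1 := by rw [← h]; exact hxo
        have h2 := sq_mem_of_index_two' hidx hxA
        have e : x = (x ^ 2)⁻¹ := by
          rw [eq_inv_iff_mul_eq_one, ← pow_succ', h3]
        rw [e]; exact inv_mem h2
    have hxfx : x * f * x⁻¹ = f⁻¹ := by
      have h1 : x * f * x⁻¹ ∈ F := nmem (hAF hxA) hfF
      rcases hFelts _ h1 with h | h | h
      · exfalso
        apply hf1
        have e : f = x⁻¹ * (x * f * x⁻¹) * x := by group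
        rw [e, h]; group
      · exfalso
        have hxf : x * f = f * x := by
          calc x * f = (x * f * x⁻¹) * x := by group
            _ = f * x := by rw [h]
        apply hA.nonab
        have hcF : ∀ g ∈ F, ∀ g' ∈ F, g * g' = g' * g := by
          intro g hg g' hg'
          rw [← hFgen] at hg hg'
          obtain ⟨i, rfl⟩ := hg
          obtain ⟨j, rfl⟩ := hg'
          exact (Commute.refl f).zpow_zpow i j
        have hxF' : ∀ g ∈ F, g * x = x * g := by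
          intro g hg
          rw [← hFgen] at hg
          obtain ⟨i, rfl⟩ := hg
          have hc : Commute f x := hxf.symm
          exact hc.zpow_left i
        have hxc : ∀ a ∈ A, a * x = x * a :=
          comm_all_of_index_two hidx hxA hxF (y := x) hxF' rfl
        have hFc : ∀ g ∈ F, ∀ a ∈ A, a * g = g * a := fun g hg =>
          comm_all_of_index_two hidx hxA hxF (fun g' hg' => hcF g' hg' g hg) ((hxF' g hg).symm)
        intro a ha b hb
        exact comm_all_of_index_two hidx hxA hxF (y := b) (fun g hg => (hFc g hg b hb).symm)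
          ((hxc b hb).symm) a ha
      · exact h
    have hcop6 : (Nat.card R).Coprime 6 := by
      rw [hkR]
      apply Nat.Coprime.pow_left
      show Nat.Coprime r (2 * 3)
      exact Nat.Coprime.mul_right ((Nat.coprime_primes hr Nat.prime_two).mpr hr2)
        ((Nat.coprime_primes hr Nat.prime_three).mpr hr3)
    have hRnil : Group.IsNilpotent ↥R := hR.isNilpotent
    have hfix : ∀ y ∈ R, f * y = y * f → x * y = y * x → y = 1 := by
      intro y hy hfy hxy
      apply hfpfR y hy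
      apply comm_all_of_index_two hidx hxA hxF _ hxy
      intro g hg
      rw [← hFgen] at hg
      obtain ⟨i, rfl⟩ := hg
      have hc : Commute f y := hfy
      exact hc.zpow_left i
    have h4 := hcl R f x (hAR (hFA hfF)) (hAR hxA) hf3 hx2 hxfx hcop6 hRnil hfix
    exact h4.trans hcomK

theorem core2 {ℓ r : ℕ} (hℓ : ℓ.Prime) (hr : r.Prime)
    (hℓ2 : ℓ ≠ 2) (hℓ3 : ℓ ≠ 3) (hr2 : r ≠ 2) (hr3 : r ≠ 3) (hrℓ : r ≠ ℓ)
    (hexpM : ∀ m : M, m ^ ℓ = 1)
    (A F : Subgroup (MulAut M)) (hA : PQ 3 2 A) (hFA : F ≤ A) (hF : Nat.card F = 3)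
    (hAF : A ≤ Subgroup.normalizer (F : Set (MulAut M)))
    (hfpfM : ∀ m : M, (∀ a ∈ A, a m = m) → m = 1)
    (hcl : ∀ (R : Subgroup (MulAut M)) (f x : MulAut M),
      f ∈ Subgroup.normalizer (R : Set (MulAut M)) → x ∈ Subgroup.normalizer (R : Set (MulAut M)) →
      f ^ 3 = 1 → x ^ 2 = 1 → x * f * x⁻¹ = f⁻¹ → (Nat.card R).Coprime 6 → Group.IsNilpotent R →
      (∀ y ∈ R, f * y = y * f → x * y = y * x → y = 1) → ⁅R, R⁆ ≤ ⁅R, Subgroup.zpowers x⁆)
    (R : Subgroup (MulAut M)) (hR : IsPGroup r R)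
    (hAR : A ≤ Subgroup.normalizer (R : Set (MulAut M)))
    (hfpfR : ∀ y ∈ R, (∀ a ∈ A, a * y = y * a) → y = 1) :
    ∀ a ∈ R, ∀ b ∈ R, a * b = b * a :=
  core2_aux hℓ hr hℓ2 hℓ3 hr2 hr3 hrℓ hexpM A F hA hFA hF hAF hfpfM hcl (Nat.card R) R rfl hR hAR
    hfpfR

end Main

end Cfsg.Agent.Lib.Helper20.FrobCore2
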