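import Mathlib
import Cfsg.Agent.S0022
import Cfsg.Agent.Lib.Helper1.FPF.Main2
import Cfsg.Agent.Lib.Helper1.FrobPQ.LocalC
import Cfsg.Agent.Lib.Helper1.FrobPQ.FrobA
import Cfsg.Agent.Lib.Helper11.NilpCoprime

set_option autoImplicit false
set_option linter.unusedSectionVars false

/-!
The "exceptional" branch of helper1's tower lemma for S4306 (stabilizer of the component is a
complement of `F`): a contradiction without Hall-Higman, from the nilpotency of `C(F)`.
-/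

namespace Cfsg.Agent.Lib.Helper20.FrobExc

open Cfsg.Agent.Lib.Helper1.FrobPQ Cfsg.Agent.Lib.Helper1.Ward Cfsg.Agent.Lib.Helper18.Fpf4
open scoped commutatorElement

universe u

section Thompson

variable {Γ : Type u} [Group Γ] [Finite Γ]

theorem pow_conj_mem {K : Subgroup Γ} {f t : Γ} (hfK : f ∈ Subgroup.normalizer (K : Set Γ))
    (h : f * t * f⁻¹ * t⁻¹ ∈ K) : ∀ n : ℕ, f ^ n * t * (f ^ n)⁻¹ * t⁻¹ ∈ K := by
  intro n
  induction n with
  | zero => simp
  | succ n ih =>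
    have e : f ^ (n + 1) * t * (f ^ (n + 1))⁻¹ * t⁻¹ =
        f * (f ^ n * t * (f ^ n)⁻¹ * t⁻¹) * f⁻¹ * (f * t * f⁻¹ * t⁻¹) := by
      rw [pow_succ']; group
    rw [e]
    exact mul_mem (nmem hfK ih) h

/-- Thompson's theorem on a section `T / K` on which `f` (of prime order) acts fixed point
freely: elements of coprime orders of `T` commute modulo `K`. -/
theorem section_fpf_comm {T K : Subgroup Γ} {f : Γ} {p : ℕ}
    (hp : p.Prime) (hKT : K ≤ T) (hTK : T ≤ Subgroup.normalizer (K : Set Γ))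
    (hfT : f ∈ Subgroup.normalizer (T : Set Γ)) (hfK : f ∈ Subgroup.normalizer (K : Set Γ))
    (hfp : f ^ p = 1) (hcop : (Nat.card T).Coprime p)
    (hfix : ∀ c ∈ T, f * c = c * f → c ∈ K)
    {y z : Γ} (hy : y ∈ T) (hz : z ∈ T) (hyz : (orderOf y).Coprime (orderOf z)) :
    y * z * y⁻¹ * z⁻¹ ∈ K := by
  have hNn : (K.subgroupOf T).Normal := (Subgroup.normal_subgroupOf_iff_le_normalizer hKT).mpr hTK
  obtain ⟨e, he⟩ : ∃ e : MulAut ↥T, e = T.normalizerMonoidHom ⟨f, hfT⟩ := ⟨_, rfl⟩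
  have happ : ∀ t : ↥T, ((e t : ↥T) : Γ) = f * (t : Γ) * f⁻¹ := by
    intro t; rw [he]; rfl
  have hmap : (K.subgroupOf T).map (e : ↥T ≃* ↥T).toMonoidHom = K.subgroupOf T := by
    apply Subgroup.eq_of_le_of_card_ge
    · rintro _ ⟨n, hn, rfl⟩
      rw [Subgroup.mem_subgroupOf]
      show ((e n : ↥T) : Γ) ∈ K
      rw [happ]
      exact nmem hfK (Subgroup.mem_subgroupOf.mp hn)
    · rw [Subgroup.card_map_of_injective (e : ↥T ≃* ↥T).injective]
  obtain ⟨φ, hφ⟩ : ∃ φ : (↥T ⧸ K.subgroupOf T) ≃* (↥T ⧸ K.subgroupOf T),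
      φ = QuotientGroup.congr (K.subgroupOf T) (K.subgroupOf T) e hmap := ⟨_, rfl⟩
  have hφmk : ∀ t : ↥T, φ (QuotientGroup.mk t) = QuotientGroup.mk (e t) := by
    intro t; rw [hφ]; rfl
  have hpowmk : ∀ (k : ℕ) (t : ↥T), ((φ : MulAut (↥T ⧸ K.subgroupOf T)) ^ k) (QuotientGroup.mk t) =
      QuotientGroup.mk ((e ^ k) t) := by
    intro k
    induction k with
    | zero => intro t; simp
    | succ k ih =>
      intro t
      rw [pow_succ', pow_succ', MulAut.mul_apply, MulAut.mul_apply, ih, hφmk]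
  have hep : e ^ p = 1 := by
    rw [he, ← map_pow]
    have : (⟨f, hfT⟩ : ↥(Subgroup.normalizer (T : Set Γ))) ^ p = 1 := by
      apply Subtype.ext
      simp [hfp]
    rw [this, map_one]
  have hpow : (φ : MulAut (↥T ⧸ K.subgroupOf T)) ^ p = 1 := by
    ext q
    induction q using QuotientGroup.induction_on with
    | H t => rw [hpowmk, hep]; rfl
  have hfree : MonoidHom.FixedPointFree ((φ : (↥T ⧸ K.subgroupOf T) ≃* _) :
      (↥T ⧸ K.subgroupOf T) →* _) := by
    intro q hq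
    induction q using QuotientGroup.induction_on with
    | H t =>
      have hq' : φ (QuotientGroup.mk t) = QuotientGroup.mk t := hq
      rw [hφmk, QuotientGroup.eq, Subgroup.mem_subgroupOf] at hq'
      have h1 : f * (t : Γ) * f⁻¹ * (t : Γ)⁻¹ ∈ K := by
        have h2 : (((e t)⁻¹ * t : ↥T) : Γ) = (f * (t : Γ) * f⁻¹)⁻¹ * (t : Γ) := by
          rw [Subgroup.coe_mul, Subgroup.coe_inv, happ]
        rw [h2] at hq'
        have h3 := inv_mem hq'
        have e3 : ((f * (t : Γ) * f⁻¹)⁻¹ * (t : Γ))⁻¹ = (t : Γ)⁻¹ * (f * (t : Γ) * f⁻¹) := by group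
        rw [e3] at h3
        have e4 : f * (t : Γ) * f⁻¹ * (t : Γ)⁻¹ =
            (t : Γ) * ((t : Γ)⁻¹ * (f * (t : Γ) * f⁻¹)) * (t : Γ)⁻¹ := by group
        rw [e4]
        exact nmem (hTK t.2) h3
      have hzf : Subgroup.zpowers f ≤ Subgroup.normalizer (T : Set Γ) := by
        rw [Subgroup.zpowers_le]; exact hfT
      have hzfK : Subgroup.zpowers f ≤ Subgroup.normalizer (K : Set Γ) := by
        rw [Subgroup.zpowers_le]; exact hfK
      have hcard : Nat.card (Subgroup.zpowers f) ∣ p := by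
        rw [Nat.card_zpowers]
        exact orderOf_dvd_of_pow_eq_one hfp
      have hcop' : (Nat.card (Subgroup.zpowers f)).Coprime (Nat.card T) :=
        (Nat.Coprime.coprime_dvd_right hcard hcop).symm
      have hsolv : Group.IsSolvable (Subgroup.zpowers f) := by
        apply Group.isSolvable_of_comm
        rintro ⟨a, i, rfl⟩ ⟨b, j, rfl⟩
        apply Subtype.ext
        exact ((Commute.refl f).zpow_zpow i j).eq
      obtain ⟨c, hc, htc⟩ := Cfsg.Agent.S0022.result (Subgroup.zpowers f) T hzf hcop'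
        (Or.inl hsolv) K hKT hTK hzfK (t : Γ) t.2 (by
          intro a ha
          rw [← mem_powers_iff_mem_zpowers] at ha
          obtain ⟨n, rfl⟩ := ha
          exact pow_conj_mem hfK h1 n)
      have hcK : c ∈ K := by
        apply hfix c hc.1
        exact (Subgroup.mem_centralizer_iff.mp hc.2 f (Subgroup.mem_zpowers f))
      have htK : (t : Γ) ∈ K := by
        have h4 := mul_mem hcK (inv_mem htc)
        have e5 : c * ((t : Γ)⁻¹ * c)⁻¹ = (t : Γ) := by group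
        rwa [e5] at h4
      exact (QuotientGroup.eq_one_iff t).mpr (Subgroup.mem_subgroupOf.mpr htK)
  have hnil : Group.IsNilpotent (↥T ⧸ K.subgroupOf T) :=
    Cfsg.Agent.Lib.Helper1.FPF.fpf_nilpotent φ hfree hp hpow
  have hc : Commute (QuotientGroup.mk' (K.subgroupOf T) ⟨y, hy⟩)
      (QuotientGroup.mk' (K.subgroupOf T) ⟨z, hz⟩) := by
    apply Cfsg.Agent.Lib.Helper11.commute_of_coprime_orderOf
    have h1 : orderOf (QuotientGroup.mk' (K.subgroupOf T) ⟨y, hy⟩) ∣ orderOf y := by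
      have := orderOf_map_dvd (QuotientGroup.mk' (K.subgroupOf T)) (⟨y, hy⟩ : ↥T)
      rwa [Subgroup.orderOf_mk] at this
    have h2 : orderOf (QuotientGroup.mk' (K.subgroupOf T) ⟨z, hz⟩) ∣ orderOf z := by
      have := orderOf_map_dvd (QuotientGroup.mk' (K.subgroupOf T)) (⟨z, hz⟩ : ↥T)
      rwa [Subgroup.orderOf_mk] at this
    exact Nat.Coprime.of_dvd h1 h2 hyz
  have h5 : QuotientGroup.mk' (K.subgroupOf T)
      ((⟨y, hy⟩ : ↥T) * ⟨z, hz⟩ * (⟨y, hy⟩ : ↥T)⁻¹ * (⟨z, hz⟩ : ↥T)⁻¹) = 1 := by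
    rw [map_mul, map_mul, map_mul, map_inv, map_inv, hc.eq]
    group
  rw [← MonoidHom.mem_ker, QuotientGroup.ker_mk', Subgroup.mem_subgroupOf] at h5
  exact h5

end Thompson


section Card

variable {Γ : Type*} [Group Γ] [Finite Γ]

theorem card_sup_dvd_mul' {S R : Subgroup Γ} (hRS : R ≤ Subgroup.normalizer (S : Set Γ)) :
    Nat.card ↥(S ⊔ R) ∣ Nat.card S * Nat.card R := by
  have h1 := card_mul_relIndex' (le_sup_left : S ≤ S ⊔ R)
  have h2 : S.relIndex (S ⊔ R) = S.relIndex R := by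
    rw [sup_comm]
    have := Subgroup.normal_subgroupOf_of_le_normalizer hRS
    have := Subgroup.normal_subgroupOf_sup_of_le_normalizer hRS
    exact (Nat.card_congr
      (QuotientGroup.quotientInfEquivProdNormalizerQuotient R S hRS).toEquiv).symm
  rw [← h1, h2]
  exact Nat.mul_dvd_mul_left _ (Subgroup.relIndex_dvd_card S R)

theorem normalizer_sup' {H₁ H₂ E : Subgroup Γ}
    (h1 : E ≤ Subgroup.normalizer (H₁ : Set Γ)) (h2 : E ≤ Subgroup.normalizer (H₂ : Set Γ)) :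
    E ≤ Subgroup.normalizer ((H₁ ⊔ H₂ : Subgroup Γ) : Set Γ) := by
  intro g hg
  have e1 := Subgroup.mem_normalizer_iff_map_conj_eq.mp (h1 hg)
  have e2 := Subgroup.mem_normalizer_iff_map_conj_eq.mp (h2 hg)
  rw [Subgroup.mem_normalizer_iff_map_conj_eq, Subgroup.map_sup, e1, e2]

end Card

section Local

variable {M : Type u} [CommGroup M] [Finite M]

/-- the automorphisms fixing all `A`-translates of `W` pointwise -/
def fixA (A : Subgroup (MulAut M)) (W : Subgroup M) : Subgroup (MulAut M) where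
  carrier := {g | ∀ a ∈ A, ∀ w ∈ W, g (a w) = a w}
  one_mem' := fun _ _ _ _ => rfl
  mul_mem' := by
    intro g h hg hh a ha w hw
    rw [MulAut.mul_apply, hh a ha w hw, hg a ha w hw]
  inv_mem' := by
    intro g hg a ha w hw
    rw [MulAut.inv_apply, MulEquiv.symm_apply_eq, hg a ha w hw]

theorem mem_fixA {A : Subgroup (MulAut M)} {W : Subgroup M} {g : MulAut M} :
    g ∈ fixA A W ↔ ∀ a ∈ A, ∀ w ∈ W, g (a w) = a w := Iff.rfl

theorem fixA_norm_A (A : Subgroup (MulAut M)) (W : Subgroup M) :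
    A ≤ Subgroup.normalizer ((fixA A W : Subgroup (MulAut M)) : Set (MulAut M)) := by
  apply conj_mem_of_normalizer_le
  intro b hb g hg a ha w hw
  have h1 : (b * g * b⁻¹) (a w) = b (g ((b⁻¹ * a) w)) := by
    simp only [MulAut.mul_apply]
  rw [h1, hg _ (mul_mem (inv_mem hb) ha) w hw]
  simp only [MulAut.mul_apply, MulAut.apply_inv_self]

variable {p q s : ℕ} {A F Z Z₁ : Subgroup (MulAut M)}

theorem cent_stab (L : LocalData s A Z Z₁) {c : MulAut M}
    (hc : c ∈ Subgroup.centralizer (Z : Set (MulAut M))) {w : M} (hw : w ∈ comp Z Z₁) :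
    c w ∈ comp Z Z₁ :=
  L.comp_B_inv (Subgroup.centralizer_le_normalizer _ hc)
    (Subgroup.centralizer_le_normalizer _ (Subgroup.centralizer_le L.Z₁Z hc)) hw

theorem conj_mem_centralizer (L : LocalData s A Z Z₁) {a c : MulAut M} (ha : a ∈ A)
    (hc : c ∈ Subgroup.centralizer (Z : Set (MulAut M))) :
    a⁻¹ * c * a ∈ Subgroup.centralizer (Z : Set (MulAut M)) :=
  nmem' (normalizer_centralizer L.AZ ha) hc

theorem fixA_norm_cent (L : LocalData s A Z Z₁) :
    Subgroup.centralizer (Z : Set (MulAut M)) ≤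
      Subgroup.normalizer ((fixA A (comp Z Z₁) : Subgroup (MulAut M)) : Set (MulAut M)) := by
  apply conj_mem_of_normalizer_le
  intro c hc g hg a ha w hw
  have hc' : a⁻¹ * c⁻¹ * a ∈ Subgroup.centralizer (Z : Set (MulAut M)) :=
    conj_mem_centralizer L ha (inv_mem hc)
  have hw' : (a⁻¹ * c⁻¹ * a) w ∈ comp Z Z₁ := cent_stab L hc' hw
  have h1 : (c * g * c⁻¹) (a w) = c (g (a ((a⁻¹ * c⁻¹ * a) w))) := by
    simp only [MulAut.mul_apply, MulAut.apply_inv_self]
  rw [h1, hg a ha _ hw']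
  simp only [MulAut.mul_apply, MulAut.apply_inv_self]

theorem F_not_norm (hfrob : FrobA p q A F) (L : LocalData s A Z Z₁) {x : MulAut M} (hxA : x ∈ A)
    (hxF : x ∉ F) (hxstab : x ∈ stabMod Z Z₁) :
    ∀ f ∈ F, f ≠ 1 → f ∉ Subgroup.normalizer (Z₁ : Set (MulAut M)) := by
  intro f hf hf1 hfn
  have hfA := hfrob.FA hf
  have hg := L.comm_mem (b := x) (b' := f) (L.AZ hxA) (L.stab_le_norm hxstab) (L.AZ hfA) hfn
  have hgF : (f * x)⁻¹ * (x * f) ∈ F := by
    have e : (f * x)⁻¹ * (x * f) = (x⁻¹ * f⁻¹ * x⁻¹⁻¹) * f := by group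
    rw [e]
    exact mul_mem (nmem (hfrob.AF (inv_mem hxA)) (inv_mem hf)) hf
  have hg1 : (f * x)⁻¹ * (x * f) ≠ 1 := by
    intro h
    apply hf1
    apply hfrob.free hxA hxF hf
    exact (inv_mul_eq_one.mp h).symm
  obtain ⟨H, hH⟩ : ∃ H : Subgroup (MulAut M), H = A ⊓ stabMod Z Z₁ := ⟨_, rfl⟩
  have hHA : H ≤ A := by rw [hH]; exact inf_le_left
  have hgH : (f * x)⁻¹ * (x * f) ∈ H := by rw [hH]; exact ⟨hfrob.FA hgF, hg⟩
  have hxH : x ∈ H := by rw [hH]; exact ⟨hxA, hxstab⟩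
  have hH1 : H ≠ ⊥ := by
    intro hbot
    rw [hbot, Subgroup.mem_bot] at hgH
    exact hg1 hgH
  have hH2 : H ≠ A := by
    intro h
    apply L.not_le_stab
    rw [← h, hH]
    exact inf_le_right
  have hprime := hfrob.toPQ.prime_card_of_ne hHA hH1 hH2
  have e1 := PQ.zpowers_eq_of_prime_card hprime hgH hg1
  have e2 := hfrob.F_eq_zpowers hgF hg1
  apply hxF
  rw [← e2, e1]
  exact hxH

theorem fix_of_centF (L : LocalData s A Z Z₁) (hFA : F ≤ A)
    (hF1 : ∀ f ∈ F, f ≠ 1 → f ∉ Subgroup.normalizer (Z₁ : Set (MulAut M)))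
    {c : MulAut M} (hcZ : c ∈ Subgroup.centralizer (Z : Set (MulAut M)))
    (hcF : ∀ f ∈ F, f * c = c * f) (hcM : ∀ m : M, (∀ f ∈ F, f m = m) → c m = m) :
    ∀ w ∈ comp Z Z₁, c w = w := by
  classical
  intro w hw
  have hcw : c w ∈ comp Z Z₁ := cent_stab L hcZ hw
  have hw' : c w * w⁻¹ ∈ comp Z Z₁ := mul_mem hcw (inv_mem hw)
  have h1 : trP F (c w) = c (trP F w) := by
    apply trP_conj F c
    intro y hy
    have := hcF y hy
    rw [← this]
    simpa using hy
  have h2 : c (trP F w) = trP F w := hcM _ (fun f hf => mem_apply_trP F f hf w)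
  have h3 : trP F (c w * w⁻¹) = 1 := by
    rw [map_mul, map_inv, h1, h2, mul_inv_cancel]
  haveI : Fintype ↥F := Fintype.ofFinite _
  have h4 : trP Z₁ (trP F (c w * w⁻¹)) =
      ∏ f : ↥F, (if f = 1 then (c w * w⁻¹) ^ Nat.card ↥Z₁ else 1) := by
    rw [trP_apply F, map_prod]
    apply Finset.prod_congr rfl
    intro f _
    by_cases hf : f = 1
    · rw [if_pos hf, hf]
      exact trP_of_fixed Z₁ _ (mem_comp.mp hw').1
    · rw [if_neg hf]
      exact L.trP_kill (L.AZ (hFA f.2)) (hF1 f f.2 (fun h => hf (Subtype.ext h))) hw'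
  rw [h3, map_one, Finset.prod_ite_eq' Finset.univ (1 : ↥F), if_pos (Finset.mem_univ _)] at h4
  have h5 : c w * w⁻¹ = 1 := pow_eq_one_of_coprime (L.copMsub L.Z₁Z) h4.symm
  exact mul_inv_eq_one.mp h5

/-- elements of an `A`-invariant subgroup `S` centralizing `Z` and `F`, and acting trivially on
`C_M(F)`, fix all translates of the component. -/
theorem centF_le_fixA (hfrob : FrobA p q A F) (L : LocalData s A Z Z₁)
    (hF1 : ∀ f ∈ F, f ≠ 1 → f ∉ Subgroup.normalizer (Z₁ : Set (MulAut M)))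
    {S : Subgroup (MulAut M)} (hAS : A ≤ Subgroup.normalizer (S : Set (MulAut M)))
    (hSC : S ≤ Subgroup.centralizer (Z : Set (MulAut M)))
    (nilMS : ∀ y ∈ S, (∀ f ∈ F, f * y = y * f) → ∀ m : M, (∀ f ∈ F, f m = m) → y m = m)
    {c : MulAut M} (hc : c ∈ S) (hcF : ∀ f ∈ F, f * c = c * f) :
    c ∈ fixA A (comp Z Z₁) := by
  intro a ha w hw
  have hc' : a⁻¹ * c * a ∈ S := nmem' (hAS ha) hc
  have hc'F : ∀ f ∈ F, f * (a⁻¹ * c * a) = (a⁻¹ * c * a) * f := by
    intro f hf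
    have hf' : a * f * a⁻¹ ∈ F := nmem (hfrob.AF ha) hf
    have h1 := hcF _ hf'
    calc f * (a⁻¹ * c * a) = a⁻¹ * ((a * f * a⁻¹) * c) * a := by group
      _ = a⁻¹ * (c * (a * f * a⁻¹)) * a := by rw [h1]
      _ = (a⁻¹ * c * a) * f := by group
  have h2 := fix_of_centF L hfrob.FA hF1 (hSC hc') hc'F (nilMS _ hc' hc'F) w hw
  have h3 : c (a w) = a ((a⁻¹ * c * a) w) := by
    simp only [MulAut.mul_apply, MulAut.apply_inv_self]
  rw [h3, h2]


theorem pgroup_card_coprime {G : Type*} [Group G] [Finite G] {S : Subgroup G} {s p : ℕ}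
    (hs : s.Prime) (hp : p.Prime) (hsp : s ≠ p) (hS : IsPGroup s S) :
    (Nat.card S).Coprime p := by
  have := Fact.mk hs
  obtain ⟨n, hn⟩ := (IsPGroup.iff_card).mp hS
  rw [hn]
  exact Nat.Coprime.pow_left n ((Nat.coprime_primes hs hp).mpr hsp)

theorem orderOf_coprime_pgroups {G : Type*} [Group G] {S R : Subgroup G} {s r : ℕ}
    (hs : s.Prime) (hr : r.Prime) (hsr : s ≠ r) (hS : IsPGroup s S) (hR : IsPGroup r R)
    {x y : G} (hx : x ∈ S) (hy : y ∈ R) : (orderOf x).Coprime (orderOf y) := by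
  obtain ⟨i, hi⟩ := hS ⟨x, hx⟩
  obtain ⟨j, hj⟩ := hR ⟨y, hy⟩
  have hi' : x ^ (s ^ i) = 1 := congrArg Subtype.val hi
  have hj' : y ^ (r ^ j) = 1 := congrArg Subtype.val hj
  have h1 : orderOf x ∣ s ^ i := orderOf_dvd_of_pow_eq_one hi'
  have h2 : orderOf y ∣ r ^ j := orderOf_dvd_of_pow_eq_one hj'
  exact Nat.Coprime.coprime_dvd_left h1 (Nat.Coprime.coprime_dvd_right h2
    (Nat.Coprime.pow i j ((Nat.coprime_primes hs hr).mpr hsr)))

/-- The branch "the stabilizer of the component is a complement of `F`" of the non-abelian case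
of the tower lemma is contradictory, given the nilpotency of `C(F)` (`nilMS`, `nilMR`). -/
theorem exc_branch {p q s r : ℕ} {A F S R Z Z₁ : Subgroup (MulAut M)}
    (hfrob : FrobA p q A F) (hs : s.Prime) (hr : r.Prime) (hsr : s ≠ r) (hsp : s ≠ p)
    (hrp : r ≠ p) (Sgroup : IsPGroup s S) (Rgroup : IsPGroup r R)
    (AS : A ≤ Subgroup.normalizer (S : Set (MulAut M)))
    (AR : A ≤ Subgroup.normalizer (R : Set (MulAut M)))
    (RS : R ≤ Subgroup.normalizer (S : Set (MulAut M)))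
    (hSR : ⁅S, R⁆ = S) (L : LocalData s A Z Z₁) (hZS : Z ≤ S)
    (hSC : S ≤ Subgroup.centralizer (Z : Set (MulAut M)))
    (hRC : R ≤ Subgroup.centralizer (Z : Set (MulAut M)))
    (nilMS : ∀ y ∈ S, (∀ f ∈ F, f * y = y * f) → ∀ m : M, (∀ f ∈ F, f m = m) → y m = m)
    (nilMR : ∀ y ∈ R, (∀ f ∈ F, f * y = y * f) → ∀ m : M, (∀ f ∈ F, f m = m) → y m = m)
    {x : MulAut M} (hxA : x ∈ A) (hxF : x ∉ F) (hxstab : x ∈ stabMod Z Z₁) : False := by
  have hF1 := F_not_norm hfrob L hxA hxF hxstab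
  obtain ⟨f, hf, hf1⟩ := hfrob.exists_gen_F
  have hTfix : S ⊔ R ≤ Subgroup.normalizer
      ((fixA A (comp Z Z₁) : Subgroup (MulAut M)) : Set (MulAut M)) :=
    sup_le (hSC.trans (fixA_norm_cent L)) (hRC.trans (fixA_norm_cent L))
  have hTK : S ⊔ R ≤ Subgroup.normalizer
      ((fixA A (comp Z Z₁) ⊓ (S ⊔ R) : Subgroup (MulAut M)) : Set (MulAut M)) :=
    normalizer_inf hTfix Subgroup.le_normalizer
  have hFT : F ≤ Subgroup.normalizer ((S ⊔ R : Subgroup (MulAut M)) : Set (MulAut M)) :=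
    normalizer_sup' (hfrob.FA.trans AS) (hfrob.FA.trans AR)
  have hFK : F ≤ Subgroup.normalizer
      ((fixA A (comp Z Z₁) ⊓ (S ⊔ R) : Subgroup (MulAut M)) : Set (MulAut M)) :=
    normalizer_inf (hfrob.FA.trans (fixA_norm_A A _)) hFT
  have hcop : (Nat.card ↥(S ⊔ R)).Coprime p := by
    apply Nat.Coprime.coprime_dvd_left (card_sup_dvd_mul' RS)
    exact Nat.Coprime.mul_left (pgroup_card_coprime hs hfrob.hp hsp Sgroup)
      (pgroup_card_coprime hr hfrob.hp hrp Rgroup)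
  have hcomm_all : ∀ c : MulAut M, f * c = c * f → ∀ f' ∈ F, f' * c = c * f' := by
    intro c hc f' hf'
    rw [← hfrob.F_eq_zpowers hf hf1] at hf'
    obtain ⟨i, rfl⟩ := hf'
    exact ((show Commute f c from hc).zpow_left i).eq
  have hfix : ∀ c ∈ S ⊔ R, f * c = c * f → c ∈ fixA A (comp Z Z₁) ⊓ (S ⊔ R) := by
    intro c hc hfc
    refine ⟨?_, hc⟩
    have h2 : c ∈ ((R ⊔ S : Subgroup (MulAut M)) : Set (MulAut M)) := by
      rw [sup_comm]; exact hc
    rw [Subgroup.coe_mul_of_left_le_normalizer_right R S RS] at h2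
    obtain ⟨z, hz, y, hy, rfl⟩ := h2
    have hfz : f * z * f⁻¹ ∈ R := nmem (AR (hfrob.FA hf)) hz
    have hfy : f * y * f⁻¹ ∈ S := nmem (AS (hfrob.FA hf)) hy
    have hd : z⁻¹ * (f * z * f⁻¹) = y * (f * y * f⁻¹)⁻¹ := by
      have h3 : f * (z * y) * f⁻¹ = z * y := by rw [hfc]; group
      have h4 : (f * z * f⁻¹) * (f * y * f⁻¹) = z * y := by rw [← h3]; group
      calc z⁻¹ * (f * z * f⁻¹) = z⁻¹ * ((f * z * f⁻¹) * (f * y * f⁻¹)) * (f * y * f⁻¹)⁻¹ := by
            group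
        _ = y * (f * y * f⁻¹)⁻¹ := by rw [h4]; group
    have hdR : z⁻¹ * (f * z * f⁻¹) ∈ R := mul_mem (inv_mem hz) hfz
    have hdS : z⁻¹ * (f * z * f⁻¹) ∈ S := by rw [hd]; exact mul_mem hy (inv_mem hfy)
    have hd1 : z⁻¹ * (f * z * f⁻¹) = 1 := by
      have h5 := orderOf_coprime_pgroups hs hr hsr Sgroup Rgroup hdS hdR
      rw [Nat.coprime_self] at h5
      exact orderOf_eq_one_iff.mp h5
    have hz' : f * z = z * f := by
      have h6 : f * z * f⁻¹ = z := by
        calc f * z * f⁻¹ = z * (z⁻¹ * (f * z * f⁻¹)) := by group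
          _ = z := by rw [hd1, mul_one]
      calc f * z = f * z * f⁻¹ * f := by group
        _ = z * f := by rw [h6]
    have hy' : f * y = y * f := by
      have h7 : y * (f * y * f⁻¹)⁻¹ = 1 := by rw [← hd, hd1]
      have h8 : f * y * f⁻¹ = y := by
        have := mul_eq_one_iff_eq_inv.mp h7
        rw [inv_inv] at this
        exact this.symm
      calc f * y = f * y * f⁻¹ * f := by group
        _ = y * f := by rw [h8]
    have hzK := centF_le_fixA hfrob L hF1 AR hRC nilMR hz (hcomm_all z hz')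
    have hyK := centF_le_fixA hfrob L hF1 AS hSC nilMS hy (hcomm_all y hy')
    exact mul_mem hzK hyK
  have hcommK : ⁅S, R⁆ ≤ fixA A (comp Z Z₁) := by
    rw [Subgroup.commutator_le]
    intro y hy z hz
    have h9 := section_fpf_comm hfrob.hp inf_le_right hTK (hFT hf) (hFK hf)
      (hfrob.pow_p_eq_one hf) hcop hfix (le_sup_left (a := S) (b := R) hy)
      (le_sup_right (a := S) (b := R) hz)
      (orderOf_coprime_pgroups hs hr hsr Sgroup Rgroup hy hz)
    rw [commutatorElement_def]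
    exact h9.1
  rw [hSR] at hcommK
  obtain ⟨z₀, hz₀, hz₀1⟩ := L.exists_out
  obtain ⟨w, hw1⟩ := (Subgroup.ne_bot_iff_exists_ne_one).mp L.compne
  apply hw1
  apply Subtype.ext
  apply L.fpf_out hz₀ hz₀1 w.2
  exact hcommK (hZS hz₀) 1 (one_mem A) w w.2

end Local

end Cfsg.Agent.Lib.Helper20.FrobExc
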