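import Mathlib
import Cfsg.Agent.Lib.Helper1.O9L.Defs
import Cfsg.Agent.Lib.Helper16.OHelp
import Cfsg.Agent.Lib.Helper16.SumQF2
import Cfsg.Agent.Lib.Helper19.OPELEVI

/-!
# Project O9L (helper1), row SPLUSF (`free_plus`): the Singer cycle of `GL_k(q)` in the Levi subgroup of `O⁺_{2k}(q)` has order
`q ^ k - 1` and its nontrivial powers fix no nonzero vector.
-/

set_option autoImplicit false
set_option linter.unusedVariables false
set_option linter.unusedSectionVars false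

namespace Cfsg.Agent.Lib.Helper1.O9L

open Matrix Module Polynomial Cfsg.Agent.Lib.Helper13.OTS Cfsg.Agent.Lib.Helper16 Cfsg.Agent.Lib.Helper19.O9U

/-- a Singer cycle: an element `G` of order `q ^ k - 1` of `GL_k(F)` such that `G ^ j - 1` is invertible unless `q ^ k - 1 ∣ j` -/
theorem o9lsplusf_singer {F : Type*} [Field F] [Fintype F] (k : ℕ) (hk : 1 ≤ k) :
    ∃ G : GL (Fin k) F, orderOf G = Fintype.card F ^ k - 1 ∧
      ∀ j : ℕ, ¬ (Fintype.card F ^ k - 1) ∣ j →
        IsUnit (((G ^ j : GL (Fin k) F) : Matrix (Fin k) (Fin k) F) - 1) := by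
  classical
  obtain ⟨p, hp⟩ := CharP.exists F
  haveI : Fact p.Prime := ⟨CharP.char_is_prime F p⟩
  haveI : NeZero k := ⟨by omega⟩
  let K := FiniteField.Extension F p k
  haveI : Fintype K := Fintype.ofFinite K
  have hfr : Module.finrank F K = k := FiniteField.finrank_extension F p k
  have hcardK : Nat.card K = Fintype.card F ^ k := by
    rw [FiniteField.natCard_extension F p k, Nat.card_eq_fintype_card]
  obtain ⟨γ, hγ⟩ := IsCyclic.exists_ofOrder_eq_natCard (α := Kˣ)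
  have hγo : orderOf γ = Fintype.card F ^ k - 1 := by
    rw [hγ, Nat.card_units, hcardK]
  let b : Module.Basis (Fin k) F K := Module.finBasisOfFinrankEq F K hfr
  have hρinj : Function.Injective (Algebra.leftMulMatrix b) := Algebra.leftMulMatrix_injective b
  let f : K →* Matrix (Fin k) (Fin k) F := (Algebra.leftMulMatrix b).toRingHom.toMonoidHom
  have hf : Function.Injective f := hρinj
  refine ⟨Units.map f γ, ?_, ?_⟩
  · rw [orderOf_injective (Units.map f) (Units.map_injective hf) γ, hγo]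
  · intro j hj
    have h1 : (((Units.map f γ) ^ j : GL (Fin k) F) : Matrix (Fin k) (Fin k) F) =
        Algebra.leftMulMatrix b ((γ : K) ^ j) := by
      rw [Units.val_pow_eq_pow_val, Units.coe_map, map_pow]
      rfl
    have h2 : (((Units.map f γ) ^ j : GL (Fin k) F) : Matrix (Fin k) (Fin k) F) - 1 =
        Algebra.leftMulMatrix b ((γ : K) ^ j - 1) := by
      rw [h1, map_sub, map_one]
    rw [h2]
    have hne : (γ : K) ^ j - 1 ≠ 0 := by
      intro h0
      have h3 : (γ : K) ^ j = 1 := sub_eq_zero.1 h0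
      have h4 : γ ^ j = 1 := by
        apply Units.ext
        rw [Units.val_pow_eq_pow_val, h3, Units.val_one]
      have := orderOf_dvd_of_pow_eq_one h4
      rw [hγo] at this
      exact hj this
    exact (IsUnit.mk0 _ hne).map (Algebra.leftMulMatrix b)

/-- a matrix `A` with `A - 1` invertible fixes no nonzero vector -/
theorem o9lsplusf_mulVec {F : Type*} [Field F] {n : Type*} [Fintype n] [DecidableEq n] (A : Matrix n n F)
    (hA : IsUnit (A - 1)) (v : n → F) (hv : A *ᵥ v = v) : v = 0 := by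
  obtain ⟨u, hu⟩ := hA
  have h1 : (A - 1) *ᵥ v = 0 := by rw [sub_mulVec, hv, one_mulVec, sub_self]
  have h2 : ((u⁻¹ : (Matrix n n F)ˣ) : Matrix n n F) *ᵥ ((A - 1) *ᵥ v) = v := by
    rw [mulVec_mulVec, ← hu, Units.inv_mul, one_mulVec]
  rw [h1, mulVec_zero] at h2
  exact h2.symm

theorem o9lsplusf_vecMul {F : Type*} [Field F] {n : Type*} [Fintype n] [DecidableEq n] (A : Matrix n n F)
    (hA : IsUnit (A - 1)) (v : n → F) (hv : v ᵥ* A = v) : v = 0 := by
  obtain ⟨u, hu⟩ := hA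
  have h1 : v ᵥ* (A - 1) = 0 := by rw [vecMul_sub, hv, vecMul_one, sub_self]
  have h2 : (v ᵥ* (A - 1)) ᵥ* ((u⁻¹ : (Matrix n n F)ˣ) : Matrix n n F) = v := by
    rw [vecMul_vecMul, ← hu, Units.mul_inv, vecMul_one]
  rw [h1, zero_vecMul] at h2
  exact h2.symm

/-- the Levi block matrix of a `G` with `G - 1` invertible fixes no nonzero vector -/
theorem o9lsplusf_blocks {F : Type*} [Field F] (k : ℕ) (A : GL (Fin k) F)
    (hA : IsUnit ((A : Matrix (Fin k) (Fin k) F) - 1)) (v : Fin k ⊕ Fin k → F)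
    (hv : Matrix.fromBlocks (A : Matrix (Fin k) (Fin k) F) 0 0
      (((A⁻¹ : GL (Fin k) F) : Matrix (Fin k) (Fin k) F)ᵀ) *ᵥ v = v) : v = 0 := by
  rw [fromBlocks_mulVec] at hv
  have hl : (A : Matrix (Fin k) (Fin k) F) *ᵥ (v ∘ Sum.inl) = v ∘ Sum.inl := by
    have := congrArg (fun w => w ∘ Sum.inl) hv
    simpa using this
  have hr : (((A⁻¹ : GL (Fin k) F) : Matrix (Fin k) (Fin k) F)ᵀ) *ᵥ (v ∘ Sum.inr) = v ∘ Sum.inr := by
    have := congrArg (fun w => w ∘ Sum.inr) hv
    simpa using this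
  have h1 := o9lsplusf_mulVec _ hA _ hl
  have hr' : (v ∘ Sum.inr) ᵥ* (A : Matrix (Fin k) (Fin k) F) = v ∘ Sum.inr := by
    rw [mulVec_transpose] at hr
    have h3 := congrArg (fun w => w ᵥ* (A : Matrix (Fin k) (Fin k) F)) hr
    simp only [vecMul_vecMul] at h3
    rw [← Units.val_mul, inv_mul_cancel, Units.val_one, vecMul_one] at h3
    exact h3.symm
  have h2 := o9lsplusf_vecMul _ hA _ hr'
  funext i
  rcases i with i | i
  · exact congrFun h1 i
  · exact congrFun h2 i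

/-- SPLUSF [M]: as helper15's `oreal_splus` (helper15/SO8SPLUS.lean): `K = FiniteField.Extension F p k`, `γ` a generator of `Kˣ`, basis `b`, `G = Algebra.leftMulMatrix b γ ∈ GL_k(F)`, `φ = levi` (Helper19/OPELEVI.lean),
`φ G = fromBlocks G 0 0 (G⁻¹)ᵀ`, order `q^k - 1`.  Free: `(φ G)^j = fromBlocks (G^j) 0 0 ((G^j)⁻¹)ᵀ`; `G^j = leftMulMatrix b (γ^j)`, `γ^j ≠ 1` when `¬ (q^k - 1) ∣ j`; `G^j *ᵥ w = w` means `(γ^j - 1) x = 0` for the
`x ∈ K` with coordinates `w` (`Algebra.leftMulMatrix_mulVec_repr`), so `w = 0`; for the lower block: `((G^j)⁻¹)ᵀ *ᵥ w = w` gives `(G^j)ᵀ *ᵥ w = w`, and `(G^j)ᵀ - 1 = (G^j - 1)ᵀ` is invertible since `G^j - 1` is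
(`det` of the transpose; `G^j - 1 = leftMulMatrix b (γ^j - 1)`, a unit). -/
theorem free_plus {F : Type*} [Field F] [Fintype F] (k : ℕ) (hk : 1 ≤ k) :
    ∃ g : ↥(Cfsg.isometryGroup F (⇑(qfPlus k F))),
      FreeG (g : GL (Fin k ⊕ Fin k) F) (Fintype.card F ^ k - 1) := by
  obtain ⟨G, hG, hfree⟩ := o9lsplusf_singer (F := F) k hk
  obtain ⟨φ, hφ, _⟩ := Cfsg.Agent.Lib.Helper18.OPE.levi (F := F) k
  have hinj : Function.Injective φ := by
    intro g h hgh
    have h1 := hφ g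
    rw [hgh, hφ h] at h1
    have h2 := (Matrix.fromBlocks_inj.mp h1).1
    exact Units.ext h2.symm
  have hord : orderOf (φ G) = Fintype.card F ^ k - 1 := by
    rw [orderOf_injective φ hinj G, hG]
  refine ⟨φ G, ?_, ?_⟩
  · rw [Subgroup.orderOf_coe]
    exact hord
  · intro j hj v hv
    have h1 : (((φ G : ↥(Cfsg.isometryGroup F (Cfsg.quadFormPlus k F))) : GL (Fin k ⊕ Fin k) F) ^ j) =
        ((φ (G ^ j) : ↥(Cfsg.isometryGroup F (Cfsg.quadFormPlus k F))) : GL (Fin k ⊕ Fin k) F) := by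
      rw [map_pow, SubgroupClass.coe_pow]
    have h2 := hφ (G ^ j)
    have h3 : Matrix.fromBlocks ((G ^ j : GL (Fin k) F) : Matrix (Fin k) (Fin k) F) 0 0
        ((((G ^ j)⁻¹ : GL (Fin k) F) : Matrix (Fin k) (Fin k) F)ᵀ) *ᵥ v = v := by
      rw [← h2, ← h1]
      exact hv
    exact o9lsplusf_blocks k (G ^ j) (hfree j hj) v h3

end Cfsg.Agent.Lib.Helper1.O9L
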