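import Mathlib
import Cfsg.Agent.Lib.Helper1.ODN.Defs
import Cfsg.Agent.Lib.helper17.ONENDSUPS
import Cfsg.Agent.Lib.helper17.ONENDPERPS

/-!
# Project ODN, row EXND (ex_nd) (helper20): nondegenerate subspaces of every dimension `k ≤ dim N`.
-/

set_option autoImplicit false
set_option linter.unusedVariables false

namespace Cfsg.Agent.Lib.Helper1.ODN

open Polynomial Module Cfsg.Agent.Lib.Helper13.S5955 Cfsg.Agent.Lib.helper15.S5972 Cfsg.Agent.Lib.Helper18.ONE
  Cfsg.Agent.Lib.Helper16.OSemi

/-- a nonzero nondegenerate subspace of a symmetric space (`2 ≠ 0`) contains a nonsingular vector -/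
theorem odnexnd_nonsing {F : Type*} [Field F] (h2 : (2 : F) ≠ 0) {V : Type*} [AddCommGroup V] [Module F V]
    (B : LinearMap.BilinForm F V) (hsymm : ∀ u v, B u v = B v u)
    (N : Submodule F V) (hN : SND B N) (hN0 : N ≠ ⊥) : ∃ v ∈ N, B v v ≠ 0 := by
  by_contra hcon
  push Not at hcon
  obtain ⟨u, hu, hu0⟩ := Submodule.exists_mem_ne_zero_of_ne_bot hN0
  apply hu0
  apply hN u hu
  intro v hv
  have h1 := hcon (u + v) (N.add_mem hu hv)
  simp only [map_add, LinearMap.add_apply] at h1
  rw [hcon u hu, hcon v hv, hsymm v u] at h1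
  have h3 : 2 * B u v = 0 := by linear_combination h1
  exact (mul_eq_zero.mp h3).resolve_left h2

/-- the line spanned by a nonsingular vector is nondegenerate -/
theorem odnexnd_line {F : Type*} [Field F] {V : Type*} [AddCommGroup V] [Module F V]
    (B : LinearMap.BilinForm F V) (v : V) (hv : B v v ≠ 0) : SND B (Submodule.span F {v}) := by
  intro u hu hall
  obtain ⟨c, rfl⟩ := Submodule.mem_span_singleton.mp hu
  have h1 := hall v (Submodule.mem_span_singleton_self v)
  rw [map_smul, LinearMap.smul_apply, smul_eq_mul] at h1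
  rw [(mul_eq_zero.mp h1).resolve_right hv, zero_smul]

/-- EXND [M]: nondegenerate subspaces of every dimension `k ≤ dim N`.  Induction on `k`: `W` of dimension `k < dim N`, `N' = N ⊓ W^⊥` is nondegenerate
of dimension `≥ 1` (ONE NDPERPS `nd_perp_symm`), it contains a nonsingular `v` (else `B` is alternating and symmetric on `N'`, so `2 B = 0` there),
`W ⊔ span {v}` (ONE NDSUPS `nd_sup_symm`). -/
theorem ex_nd {F : Type*} [Field F] (h2 : (2 : F) ≠ 0) {V : Type*} [AddCommGroup V] [Module F V]
    [FiniteDimensional F V] (B : LinearMap.BilinForm F V) (hsymm : ∀ u v, B u v = B v u)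
    (N : Submodule F V) (hN : SND B N) (k : ℕ) (hk : k ≤ finrank F N) :
    ∃ W : Submodule F V, W ≤ N ∧ SND B W ∧ finrank F W = k := by
  induction k with
  | zero =>
    refine ⟨⊥, bot_le, ?_, finrank_bot F V⟩
    intro u hu _
    exact (Submodule.mem_bot F).mp hu
  | succ k ih =>
    obtain ⟨W, hWN, hW, hWdim⟩ := ih (by omega)
    obtain ⟨-, -, hN'nd, hWN', hdim⟩ := nd_perp_symm B hsymm N W hN hWN hW
    have hN'0 : N ⊓ B.orthogonal W ≠ ⊥ := by
      intro h0
      rw [h0, finrank_bot] at hdim
      omega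
    obtain ⟨v, hvN', hvv⟩ := odnexnd_nonsing h2 B hsymm _ hN'nd hN'0
    have hv0 : v ≠ 0 := by
      rintro rfl
      apply hvv
      simp
    have hline := odnexnd_line B v hvv
    have horth : SOrth B W (Submodule.span F {v}) := by
      intro w hw u hu
      obtain ⟨c, rfl⟩ := Submodule.mem_span_singleton.mp hu
      rw [map_smul, smul_eq_mul, hWN' w hw v hvN', mul_zero]
    obtain ⟨hsupnd, -, hsupdim⟩ := nd_sup_symm B hsymm W (Submodule.span F {v}) hW hline horth
    refine ⟨W ⊔ Submodule.span F {v}, ?_, hsupnd, ?_⟩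
    · apply sup_le hWN
      rw [Submodule.span_singleton_le_iff_mem]
      exact hvN'.1
    · rw [hsupdim, hWdim, finrank_span_singleton hv0]

end Cfsg.Agent.Lib.Helper1.ODN
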