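import Mathlib
import Cfsg.Agent.Lib.Helper1.ODN.Defs

/-!
# Project ODN, row CONG (odn_cong) (helper20): `#Ω ≡ #Fix (mod r)`.
-/

set_option autoImplicit false
set_option linter.unusedVariables false

namespace Cfsg.Agent.Lib.Helper1.ODN

open Polynomial Module Cfsg.Agent.Lib.Helper13.S5955 Cfsg.Agent.Lib.helper15.S5972 Cfsg.Agent.Lib.Helper18.ONE
  Cfsg.Agent.Lib.Helper16.OSemi

/-- the image of a member of the class under an isometry is a member of the class -/
theorem odncong_map {F : Type*} [Field F] {V : Type*} [AddCommGroup V] [Module F V]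
    [FiniteDimensional F V] (B : LinearMap.BilinForm F V) (x : Module.End F V)
    (hinj : Function.Injective x) (hpres : ∀ u v, B (x u) (x v) = B u v) (m : ℕ)
    (W₀ W : Submodule F V) (hW : finrank F W = m ∧ SND B W ∧ SIso B W W₀) :
    finrank F ↥(W.map x) = m ∧ SND B (W.map x) ∧ SIso B (W.map x) W₀ := by
  obtain ⟨hdim, hnd, e₀, he₀⟩ := hW
  refine ⟨?_, ?_, ?_⟩
  · rw [← hdim]
    exact (Submodule.equivMapOfInjective x hinj W).finrank_eq.symm
  · rintro _ ⟨w, hw, rfl⟩ hall
    have : w = 0 := by
      apply hnd w hw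
      intro w' hw'
      rw [← hpres]
      exact hall _ (Submodule.mem_map_of_mem hw')
    rw [this, map_zero]
  · let ex := Submodule.equivMapOfInjective x hinj W
    refine ⟨ex.symm.trans e₀, ?_⟩
    intro u
    have h1 : ((ex.symm.trans e₀) u) = e₀ (ex.symm u) := rfl
    rw [h1, he₀]
    have h2 : x ((ex.symm u : ↥W) : V) = (u : V) := by
      have h3 : ((ex (ex.symm u) : ↥(W.map x)) : V) = x ((ex.symm u : ↥W) : V) :=
        Submodule.coe_equivMapOfInjective_apply x hinj W _
      rw [← h3, LinearEquiv.apply_symm_apply]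
    rw [← hpres, h2]

/-- CONG [M-L]: `#Ω ≡ #Fix (mod r)` for the cyclic group generated by `x` (`x ^ r = 1`).  `x` is invertible (`x * x ^ (r-1) = 1`); `W ↦ W.map x` is a permutation `σ` of `OmC B m W₀`
(dimension: injective; `SND`, `SIso`: `x` restricted is an isometry `W ≃ W.map x`), `σ ^ r = 1`; `Equiv.Perm.card_fixedPoints_modEq` (`hσ : σ ^ r ^ 1 = 1`) or
`MulAction.card_modEq_card_fixedPoints` for `Subgroup.zpowers σ`; `σ W = W ↔ SInv x W.1` (`W.map x ≤ W` + equal dimensions). -/
theorem odn_cong {F : Type*} [Field F] [Fintype F] {V : Type*} [AddCommGroup V] [Module F V]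
    [FiniteDimensional F V] {r : ℕ} [Fact r.Prime] (B : LinearMap.BilinForm F V) (x : Module.End F V)
    (hx : x ^ r = 1) (hpres : ∀ u v, B (x u) (x v) = B u v) (m : ℕ) (W₀ : Submodule F V) :
    Nat.card (OmC B m W₀) ≡ Nat.card {W : OmC B m W₀ // SInv x W.1} [MOD r] := by
  classical
  have hr : r.Prime := Fact.out
  have hinj : Function.Injective x := by
    intro u v huv
    have h1 : (x ^ (r - 1)) (x u) = (x ^ (r - 1)) (x v) := by rw [huv]
    rw [← Module.End.mul_apply, ← Module.End.mul_apply, ← pow_succ, Nat.sub_add_cancel hr.pos, hx,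
      Module.End.one_apply, Module.End.one_apply] at h1
    exact h1
  have : Finite V := Module.finite_of_finite F
  have : Finite (Submodule F V) := Finite.of_injective (fun W : Submodule F V => (W : Set V))
    SetLike.coe_injective
  have : Fintype (OmC B m W₀) := Fintype.ofFinite _
  let f : Function.End (OmC B m W₀) := fun W => ⟨W.1.map x, odncong_map B x hinj hpres m W₀ W.1 W.2⟩
  have hfk : ∀ (k : ℕ) (W : OmC B m W₀), ((f ^ k) W).1 = W.1.map (x ^ k) := by
    intro k
    induction k with
    | zero =>
      intro W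
      rw [pow_zero, pow_zero]
      show W.1 = W.1.map LinearMap.id
      rw [Submodule.map_id]
    | succ k ih =>
      intro W
      rw [pow_succ', pow_succ']
      show ((f ^ k) W).1.map x = W.1.map (x * x ^ k)
      rw [ih W, Module.End.mul_eq_comp, Submodule.map_comp]
  have hf : f ^ r ^ 1 = 1 := by
    rw [pow_one]
    funext W
    apply Subtype.ext
    rw [hfk r W, hx]
    show W.1.map LinearMap.id = W.1
    rw [Submodule.map_id]
  have hmain := Equiv.Perm.card_fixedPoints_modEq (f := f) (p := r) (n := 1) hf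
  rw [Nat.card_eq_fintype_card]
  have hfix : Fintype.card (Function.fixedPoints f) = Nat.card {W : OmC B m W₀ // SInv x W.1} := by
    rw [← Nat.card_eq_fintype_card]
    apply Nat.card_congr
    apply Equiv.subtypeEquivRight
    intro W
    show f W = W ↔ SInv x W.1
    constructor
    · intro h1
      have h2 : W.1.map x = W.1 := congrArg Subtype.val h1
      show Cfsg.Agent.Lib.Helper24.ElInv x W.1
      rw [← Cfsg.Agent.Lib.Helper24.el_inv_iff, h2]
    · intro h1
      apply Subtype.ext
      show W.1.map x = W.1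
      have h2 : W.1.map x ≤ W.1 := (Cfsg.Agent.Lib.Helper24.el_inv_iff x W.1).mpr h1
      apply Submodule.eq_of_le_of_finrank_eq h2
      exact (Submodule.equivMapOfInjective x hinj W.1).finrank_eq.symm
  rw [← hfix]
  exact hmain

end Cfsg.Agent.Lib.Helper1.ODN
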