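import Mathlib
import Cfsg.Agent.Lib.Helper1.ODN.Defs
import Cfsg.Agent.Lib.Helper24.ElD

/-!
# Project ODN, row MAXEL (odn_maxel), CORE (helper20): the statements of MODEL (`odn_model`) and TRANSPORT (`odn_transport`) as hypotheses.
-/

set_option autoImplicit false
set_option linter.unusedVariables false

namespace Cfsg.Agent.Lib.Helper1.ODN

open Polynomial Module Cfsg.Agent.Lib.Helper13.S5955 Cfsg.Agent.Lib.helper15.S5972 Cfsg.Agent.Lib.Helper18.ONE
  Cfsg.Agent.Lib.Helper16.OSemi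

theorem odnmaxel_core.{u} {F : Type u} [Field F] [Fintype F] {p : ℕ} [Fact p.Prime] [CharP F p]
    (hp2 : p ≠ 2) (r : ℕ) [Fact r.Prime] (hrp : r ≠ p) (hr2 : r ≠ 2) (i c : ℕ)
    (hi : i = orderOf ((Fintype.card F : ℕ) : ZMod r)) (hc : c = if Even i then i else 2 * i)
    {ι : Type} [Fintype ι] [DecidableEq ι] (Q : QuadraticForm F (ι → F))
    (hQ : (QuadraticMap.polarBilin Q).Nondegenerate) (d : ℕ) (hd : 1 ≤ d)
    (hcard : Fintype.card ι = 2 * d) (ε : ℤ) (hε : ε = 1 ∨ ε = -1) (htyQ : IsType (⇑Q) d ε)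
    (hcd : c ≤ 2 * d) (hadm : (2 * d) % c = 0 → (ε = 1 ↔ (Odd i ∨ Even (2 * d / i))))
    (hmodel : ∀ (A f : ℕ), 1 ≤ A → Even f →
      (f = 0 → (ε = 1 ↔ (Odd i ∨ Even (c * A / i)))) →
      ∃ (V' : Type u) (_ : AddCommGroup V') (_ : Module F V') (_ : FiniteDimensional F V')
        (B' : LinearMap.BilinForm F V') (x' : Module.End F V'),
        OCtx r B' x' ∧ x' ≠ 1 ∧ finrank F V' = c * A + f ∧ finrank F (fixS x') = f ∧ OTy B' ⊤ ε)
    (htr : ∀ (V' : Type u) (_ : AddCommGroup V') (_ : Module F V') (_ : FiniteDimensional F V')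
      (B' : LinearMap.BilinForm F V') (x' : Module.End F V'), OCtx r B' x' →
      finrank F V' = 2 * d → OTy B' ⊤ ε →
      ∃ (y : Module.End F (ι → F)) (ψ : (ι → F) ≃ₗ[F] V'),
        OCtx r (QuadraticMap.polarBilin Q) y ∧
        (∀ u v, 2 * B' (ψ u) (ψ v) = QuadraticMap.polarBilin Q u v) ∧ (∀ u, ψ (y u) = x' (ψ u)) ∧
        finrank F (fixS y) = finrank F (fixS x') ∧ (y = 1 ↔ x' = 1)) :
    ∃ y : Module.End F (ι → F), OCtx r (QuadraticMap.polarBilin Q) y ∧ y ≠ 1 ∧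
      finrank F (fixS y) = (2 * d) % c := by
  have hipos : 0 < i := by
    rw [hi]
    exact Cfsg.Agent.Lib.Helper24.el_ord_pos (F := F) (p := p) r hrp
  have hceven : 2 ∣ c := by
    rw [hc]
    split_ifs with he
    · exact even_iff_two_dvd.mp he
    · exact dvd_mul_right 2 i
  have hcpos : 0 < c := by
    rw [hc]
    split_ifs <;> omega
  have hA : 1 ≤ 2 * d / c := Nat.div_pos hcd hcpos
  have hdm := Nat.div_add_mod (2 * d) c
  obtain ⟨c', hc'⟩ := hceven
  have hf : Even ((2 * d) % c) := by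
    have h1 : c * (2 * d / c) = 2 * (c' * (2 * d / c)) := by rw [hc']; ring
    rw [Nat.even_iff]
    omega
  have hadm' : (2 * d) % c = 0 → (ε = 1 ↔ (Odd i ∨ Even (c * (2 * d / c) / i))) := by
    intro h0
    have h1 : c * (2 * d / c) = 2 * d := by omega
    rw [h1]
    exact hadm h0
  obtain ⟨V', i1, i2, i3, B', x', hctx, hne1, hdimV, hfix, hty⟩ :=
    hmodel (2 * d / c) ((2 * d) % c) hA hf hadm'
  have hV : finrank F V' = 2 * d := by rw [hdimV]; exact hdm
  obtain ⟨y, ψ, hy, -, -, hfixeq, hone⟩ := htr V' i1 i2 i3 B' x' hctx hV hty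
  exact ⟨y, hy, fun h1 => hne1 (hone.mp h1), by rw [hfixeq, hfix]⟩

end Cfsg.Agent.Lib.Helper1.ODN
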