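import Mathlib
import Cfsg.Agent.Lib.Helper1.ODN.Defs
import Cfsg.Agent.Lib.helper17.ONETYSUM
import Cfsg.Agent.Lib.Helper16.OStd
import Cfsg.Agent.Lib.Helper16.OPlane

/-!
# Project ODN, row TRANSPORT (odn_transport) (helper20): an abstract context of dimension `2d` and type `ε` is carried to any
standard space of type `ε`, up to the factor `2`.
-/

set_option autoImplicit false
set_option linter.unusedVariables false

namespace Cfsg.Agent.Lib.Helper1.ODN

open Polynomial Module Cfsg.Agent.Lib.Helper13.S5955 Cfsg.Agent.Lib.helper15.S5972 Cfsg.Agent.Lib.Helper18.ONE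
  Cfsg.Agent.Lib.Helper16.OSemi

/-- membership in the fixed space -/
theorem odntransport_mem_fixS {F : Type*} [Field F] {V : Type*} [AddCommGroup V] [Module F V]
    (x : Module.End F V) (v : V) : v ∈ fixS x ↔ x v = v := by
  unfold fixS
  rw [LinearMap.mem_ker, map_sub, aeval_X, map_one, LinearMap.sub_apply, Module.End.one_apply,
    sub_eq_zero]

/-- two nondegenerate quadratic spaces of the same dimension `2d` and the same counting type are isometric -/
theorem odntransport_iso {F : Type*} [Field F] [Fintype F] {ι ι₁ : Type} [Fintype ι] [DecidableEq ι]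
    [Fintype ι₁] [DecidableEq ι₁] (Q : QuadraticForm F (ι → F)) (Q₁ : QuadraticForm F (ι₁ → F))
    (hQ : (QuadraticMap.polarBilin Q).Nondegenerate) (hQ₁ : (QuadraticMap.polarBilin Q₁).Nondegenerate)
    (d : ℕ) (hd : 1 ≤ d) (hcard : Fintype.card ι = 2 * d) (hcard₁ : Fintype.card ι₁ = 2 * d)
    (ε : ℤ) (hε : ε = 1 ∨ ε = -1) (hty : IsType (⇑Q) d ε) (hty₁ : IsType (⇑Q₁) d ε) :
    ∃ Ψ : (ι → F) ≃ₗ[F] (ι₁ → F), ∀ u, Q₁ (Ψ u) = Q u := by
  rcases hε with rfl | rfl
  · obtain ⟨Φ, hΦ⟩ := to_std_plus Q hQ d hd hcard hty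
    obtain ⟨Φ₁, hΦ₁⟩ := to_std_plus Q₁ hQ₁ d hd hcard₁ hty₁
    refine ⟨Φ.symm.trans Φ₁, ?_⟩
    intro u
    have h1 : (Φ.symm.trans Φ₁) u = Φ₁ (Φ.symm u) := rfl
    rw [h1, hΦ₁, ← hΦ, LinearEquiv.apply_symm_apply]
  · rcases classify hd hcard Q hQ with ⟨Φ, hΦ⟩ | ⟨ζ, hζ, Φ, hΦ⟩
    · exfalso
      have h1 := isType_plus (F := F) d
      have h2 := (isType_of_equiv (⇑Q) _ Φ hΦ d 1).mpr h1
      exact isType_unique _ d h2 hty
    · obtain ⟨Φ₁, hΦ₁⟩ := to_std_minus Q₁ hQ₁ d hd hcard₁ hty₁ 1 ζ (aniso_of_irred ζ hζ)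
      refine ⟨Φ.symm.trans Φ₁, ?_⟩
      intro u
      have h1 : (Φ.symm.trans Φ₁) u = Φ₁ (Φ.symm u) := rfl
      rw [h1, hΦ₁, ← hΦ, LinearEquiv.apply_symm_apply]

/-- TRANSPORT [M-L]: an abstract context of dimension `2d` and type `ε` is carried to any standard space of type `ε`, up to the factor `2`.
Coordinates on `V'`: `Cfsg.Agent.Lib.Helper18.ONE.onetysum_coord` (helper17, ONETYSUM.lean) for `W = ⊤`, or a basis: `Q'` on `Fin (2d) → F` with `Q' (coords v) = B' v v`, nondegenerate, `IsType Q' d ε`.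
`ε = 1`: helper16's `to_std_plus` for `Q'` and for `Q` (reindex `ι ≃ Fin (2d)`); `ε = -1`: `to_std_minus` for both with the SAME anisotropic pair `(0, -ν)`, `ν` a non-square (`FiniteField.exists_nonsquare`).
Compose: `ψ : (ι → F) ≃ₗ V'` with `B' (ψ u) (ψ u) = Q u`; polarize: `2 B' (ψ u) (ψ v) = polarBilin Q u v`.  `y := ψ⁻¹ x' ψ`. -/
theorem odn_transport {F : Type*} [Field F] [Fintype F] (h2 : (2 : F) ≠ 0)
    {V' : Type*} [AddCommGroup V'] [Module F V'] [FiniteDimensional F V'] {r : ℕ}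
    (B' : LinearMap.BilinForm F V') (x' : Module.End F V') (h : OCtx r B' x') (d : ℕ) (hd : 1 ≤ d)
    (hV : finrank F V' = 2 * d) (ε : ℤ) (hε : ε = 1 ∨ ε = -1) (hty : OTy B' ⊤ ε)
    {ι : Type} [Fintype ι] [DecidableEq ι] (Q : QuadraticForm F (ι → F))
    (hQ : (QuadraticMap.polarBilin Q).Nondegenerate) (hcard : Fintype.card ι = 2 * d)
    (htyQ : IsType (⇑Q) d ε) :
    ∃ (y : Module.End F (ι → F)) (ψ : (ι → F) ≃ₗ[F] V'),
      OCtx r (QuadraticMap.polarBilin Q) y ∧
      (∀ u v, 2 * B' (ψ u) (ψ v) = QuadraticMap.polarBilin Q u v) ∧ (∀ u, ψ (y u) = x' (ψ u)) ∧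
      finrank F (fixS y) = finrank F (fixS x') ∧ (y = 1 ↔ x' = 1) := by
  classical
  have htopnd : SND B' (⊤ : Submodule F V') := fun u _ hu => h.nd u (fun v => hu v Submodule.mem_top)
  obtain ⟨Q₁, e₁, hQ₁e, hQ₁nd⟩ := onetysum_coord h2 B' h.symm ⊤ htopnd
  have hftop : finrank F ↥(⊤ : Submodule F V') = 2 * d := by rw [finrank_top, hV]
  have hcard₁ : Fintype.card (Fin (finrank F ↥(⊤ : Submodule F V'))) = 2 * d := by
    rw [Fintype.card_fin, hftop]
  have hty₁ : IsType (⇑Q₁) d ε := by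
    have h1 : IsType (fun w : ↥(⊤ : Submodule F V') => B' (w : V') (w : V'))
        (finrank F ↥(⊤ : Submodule F V') / 2) ε := hty
    have h3 : finrank F ↥(⊤ : Submodule F V') / 2 = d := by rw [hftop]; omega
    rw [h3] at h1
    exact (isType_congr e₁.toEquiv (fun w : ↥(⊤ : Submodule F V') => B' (w : V') (w : V')) (⇑Q₁)
      (fun v => (hQ₁e v).symm) d ε).mp h1
  obtain ⟨Ψ, hΨ⟩ := odntransport_iso Q Q₁ hQ hQ₁nd d hd hcard hcard₁ ε hε htyQ hty₁
  -- the equivalence `ψ`
  let ψ : (ι → F) ≃ₗ[F] V' := (Ψ.trans e₁).trans (Submodule.topEquiv)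
  have hψ : ∀ u, ψ u = ((e₁ (Ψ u) : ↥(⊤ : Submodule F V')) : V') := fun u => rfl
  have hψQ : ∀ u, B' (ψ u) (ψ u) = Q u := by
    intro u
    rw [hψ, ← hQ₁e, hΨ]
  have hpol : ∀ u v, 2 * B' (ψ u) (ψ v) = QuadraticMap.polarBilin Q u v := by
    intro u v
    rw [QuadraticMap.polarBilin_apply_apply]
    unfold QuadraticMap.polar
    rw [← hψQ, ← hψQ, ← hψQ, map_add]
    simp only [map_add, LinearMap.add_apply]
    rw [h.symm (ψ v) (ψ u)]
    ring
  let y : Module.End F (ι → F) := (ψ.symm : V' →ₗ[F] (ι → F)) ∘ₗ x' ∘ₗ (ψ : (ι → F) →ₗ[F] V')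
  have hy : ∀ u, ψ (y u) = x' (ψ u) := by
    intro u
    show ψ (ψ.symm (x' (ψ u))) = x' (ψ u)
    rw [LinearEquiv.apply_symm_apply]
  have hypow : ∀ (k : ℕ) u, ψ ((y ^ k) u) = (x' ^ k) (ψ u) := by
    intro k
    induction k with
    | zero => intro u; rw [pow_zero, pow_zero, Module.End.one_apply, Module.End.one_apply]
    | succ k ih =>
      intro u
      rw [pow_succ', pow_succ', Module.End.mul_apply, Module.End.mul_apply, hy, ih]
  refine ⟨y, ψ, ⟨?_, ?_, ?_, ?_⟩, hpol, hy, ?_, ?_⟩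
  · intro u v
    rw [← hpol, ← hpol, h.symm]
  · intro u hu
    exact hQ.1 u hu
  · intro u v
    rw [← hpol, ← hpol, hy, hy, h.pres]
  · apply LinearMap.ext
    intro u
    apply ψ.injective
    rw [hypow, h.pow, Module.End.one_apply, Module.End.one_apply]
  · have hmap : (fixS y).map (ψ : (ι → F) →ₗ[F] V') = fixS x' := by
      ext v
      constructor
      · rintro ⟨u, hu, rfl⟩
        have hu' : y u = u := (odntransport_mem_fixS y u).mp hu
        apply (odntransport_mem_fixS x' _).mpr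
        show x' (ψ u) = ψ u
        rw [← hy, hu']
      · intro hv
        have hv' : x' v = v := (odntransport_mem_fixS x' v).mp hv
        refine ⟨ψ.symm v, ?_, by simp⟩
        apply (odntransport_mem_fixS y _).mpr
        apply ψ.injective
        rw [hy, LinearEquiv.apply_symm_apply, hv']
    rw [← hmap]
    exact (LinearEquiv.finrank_map_eq ψ (fixS y)).symm
  · constructor
    · intro h1
      apply LinearMap.ext
      intro v
      have h3 := hy (ψ.symm v)
      rw [h1, Module.End.one_apply, LinearEquiv.apply_symm_apply] at h3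
      rw [Module.End.one_apply]
      exact h3.symm
    · intro h1
      apply LinearMap.ext
      intro u
      apply ψ.injective
      rw [hy, h1, Module.End.one_apply, Module.End.one_apply]

end Cfsg.Agent.Lib.Helper1.ODN
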