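import Mathlib
import Cfsg.Agent.Lib.Helper1.ODN.Defs
import Cfsg.Agent.Lib.Helper20.ODNMAXELcore
import Cfsg.Agent.Lib.Helper20.ODNTRANSPORT
import Cfsg.Agent.Lib.Helper1.ODNMODEL

/-!
# Project ODN, row MAXEL (odn_maxel), verbatim (helper20): `odnmaxel_core` + MODEL (helper1) + TRANSPORT (helper20).
-/

set_option autoImplicit false
set_option linter.unusedVariables false

namespace Cfsg.Agent.Lib.Helper1.ODN

open Polynomial Module Cfsg.Agent.Lib.Helper13.S5955 Cfsg.Agent.Lib.helper15.S5972 Cfsg.Agent.Lib.Helper18.ONE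
  Cfsg.Agent.Lib.Helper16.OSemi

/-- MAXEL [M]: MODEL with `A := 2d / c ≥ 1`, `f := (2d) % c` (even: `c` and `2d` are; `c * A / i = 2d / i` when `f = 0`) + TRANSPORT. -/
theorem odn_maxel {F : Type*} [Field F] [Fintype F] {p : ℕ} [Fact p.Prime] [CharP F p]
    (hp2 : p ≠ 2) (r : ℕ) [Fact r.Prime] (hrp : r ≠ p) (hr2 : r ≠ 2) (i c : ℕ)
    (hi : i = orderOf ((Fintype.card F : ℕ) : ZMod r)) (hc : c = if Even i then i else 2 * i)
    {ι : Type} [Fintype ι] [DecidableEq ι] (Q : QuadraticForm F (ι → F))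
    (hQ : (QuadraticMap.polarBilin Q).Nondegenerate) (d : ℕ) (hd : 1 ≤ d)
    (hcard : Fintype.card ι = 2 * d) (ε : ℤ) (hε : ε = 1 ∨ ε = -1) (htyQ : IsType (⇑Q) d ε)
    (hcd : c ≤ 2 * d) (hadm : (2 * d) % c = 0 → (ε = 1 ↔ (Odd i ∨ Even (2 * d / i)))) :
    ∃ y : Module.End F (ι → F), OCtx r (QuadraticMap.polarBilin Q) y ∧ y ≠ 1 ∧
      finrank F (fixS y) = (2 * d) % c := by
  have h2 : (2 : F) ≠ 0 := by
    intro h0
    have h2' : ((2 : ℕ) : F) = 0 := by exact_mod_cast h0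
    have hdvd := (CharP.cast_eq_zero_iff F p 2).mp h2'
    have hpp : p.Prime := Fact.out
    exact hp2 ((Nat.prime_dvd_prime_iff_eq hpp Nat.prime_two).mp hdvd)
  exact odnmaxel_core hp2 r hrp hr2 i c hi hc Q hQ d hd hcard ε hε htyQ hcd hadm
    (fun A f hA hf hadm' => odn_model hp2 r hrp hr2 i c hi hc A f hA hf ε hε hadm')
    (fun V' i1 i2 i3 B' x' hctx hV hty =>
      @odn_transport F _ _ h2 V' i1 i2 i3 r B' x' hctx d hd hV ε hε hty ι _ _ Q hQ hcard htyQ)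

end Cfsg.Agent.Lib.Helper1.ODN
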