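import Mathlib
import Cfsg.Agent.Lib.helper3.S5956.Defs
import Cfsg.Agent.Lib.Helper5.S5955T1
import Cfsg.Agent.Lib.Helper5.S5955T7
import Cfsg.Agent.Lib.Lead.S5955T3
import Cfsg.Agent.Lib.helper7.S5955T4

set_option autoImplicit false

/-!
# Project S5956, row O3 (min_nd), core: a non-zero nondegenerate invariant `N ≤ ker Φ_r(x)` contains a
nondegenerate invariant subspace of dimension `c`; the row O2 (even_irr_nd) enters as a hypothesis.
-/

namespace Cfsg.Agent.Lib.helper3.S5956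

open Polynomial Module
open Cfsg.Agent.Lib.Helper13.S5955 Cfsg.Agent.Lib.Helper24

universe u

/-- a non-zero invariant `M ≤ ker Φ_r(x)` contains an invariant `i`-space which is nondegenerate or
totally isotropic. -/
theorem s5956o3_dich {F : Type*} [Field F] [Fintype F] {p : ℕ} [Fact p.Prime] [CharP F p]
    {V : Type*} [AddCommGroup V] [Module F V] [FiniteDimensional F V]
    {r : ℕ} [Fact r.Prime] (hrp : r ≠ p) {B : LinearMap.BilinForm F V}
    {x : Module.End F V} (h : SCtx r B x)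
    (M : Submodule F V) (hM : SInv x M) (hMc : M ≤ cycS r x) (hM0 : M ≠ ⊥) :
    ∃ Y : Submodule F V, Y ≤ M ∧ SInv x Y ∧
      finrank F Y = orderOf ((Fintype.card F : ℕ) : ZMod r) ∧ (SND B Y ∨ STI B Y) := by
  set i := orderOf ((Fintype.card F : ℕ) : ZMod r) with hi
  have hipos : 0 < i := el_ord_pos (F := F) (p := p) r hrp
  have hQ0 : cyclotomic r F ≠ 0 := cyclotomic_ne_zero r F
  have hdeg : ∀ P : F[X], Irreducible P → P ∣ cyclotomic r F → P.natDegree = i :=
    fun P hP hPd => el_cyc_deg (F := F) (p := p) r hrp P hP hPd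
  have hr0 : 0 < r := (Fact.out : r.Prime).pos
  have hskew : ∀ u v : V, B u v = - B v u := by
    intro u v
    have h1 := h.alt (u + v)
    simp only [map_add, LinearMap.add_apply, h.alt u, h.alt v, zero_add, add_zero] at h1
    exact eq_neg_of_add_eq_zero_right h1
  have hkillM : ∀ u ∈ M, aeval x (cyclotomic r F) u = 0 := fun u hu =>
    LinearMap.mem_ker.mp (hMc hu)
  have hdvdM : i ∣ finrank F M := el_dvd_dim x M hM (cyclotomic r F) hQ0 hkillM i hipos hdeg
  have hMpos : 0 < finrank F M := by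
    rw [Nat.pos_iff_ne_zero]
    intro h0
    exact hM0 (Submodule.finrank_eq_zero.mp h0)
  have hile : 1 * i ≤ finrank F M := by
    rw [one_mul]
    exact Nat.le_of_dvd hMpos hdvdM
  obtain ⟨Y, hYM, hY, hYd⟩ := el_exists_dim x M hM (cyclotomic r F) hQ0 hkillM i hdeg 1 hile
  rw [one_mul] at hYd
  refine ⟨Y, hYM, hY, hYd, ?_⟩
  have hRinv : SInv x (Y ⊓ B.orthogonal Y) := el_inv_inf hY (perp_inv hr0 h Y hY)
  have hRkill : ∀ u ∈ Y ⊓ B.orthogonal Y, aeval x (cyclotomic r F) u = 0 := fun u hu =>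
    hkillM u (hYM hu.1)
  have hRdvd : i ∣ finrank F ↥(Y ⊓ B.orthogonal Y) :=
    el_dvd_dim x _ hRinv (cyclotomic r F) hQ0 hRkill i hipos hdeg
  have hRle : finrank F ↥(Y ⊓ B.orthogonal Y) ≤ finrank F Y := Submodule.finrank_mono inf_le_left
  by_cases hR0 : finrank F ↥(Y ⊓ B.orthogonal Y) = 0
  · left
    have hbot : Y ⊓ B.orthogonal Y = ⊥ := Submodule.finrank_eq_zero.mp hR0
    intro u hu huv
    have : u ∈ Y ⊓ B.orthogonal Y := by
      refine ⟨hu, ?_⟩
      show u ∈ B.orthogonal Y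
      rw [LinearMap.BilinForm.mem_orthogonal_iff]
      intro m hm
      show B m u = 0
      rw [hskew, huv m hm, neg_zero]
    rw [hbot] at this
    exact (Submodule.mem_bot F).mp this
  · right
    have hReq : finrank F ↥(Y ⊓ B.orthogonal Y) = finrank F Y := by
      obtain ⟨k, hk⟩ := hRdvd
      rw [hYd] at hRle ⊢
      rcases Nat.eq_zero_or_pos k with hk0 | hkpos
      · rw [hk0, mul_zero] at hk; exact absurd hk hR0
      · have : i * k ≥ i * 1 := Nat.mul_le_mul_left i hkpos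
        rw [hk]
        rw [hk] at hRle
        omega
    have hRY : Y ⊓ B.orthogonal Y = Y := Submodule.eq_of_le_of_finrank_eq inf_le_left hReq
    intro u hu v hv
    have hv' : v ∈ B.orthogonal Y := by
      have : v ∈ Y ⊓ B.orthogonal Y := by rw [hRY]; exact hv
      exact this.2
    rw [LinearMap.BilinForm.mem_orthogonal_iff] at hv'
    exact hv' u hu

/-- O3 core: `min_nd` with the statement of O2 (`even_irr_nd`) as hypothesis `hO2`. -/
theorem s5956o3_core {F : Type*} [Field F] [Fintype F] {p : ℕ} [Fact p.Prime] [CharP F p]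
    {V : Type*} [AddCommGroup V] [Module F V] [FiniteDimensional F V]
    {r : ℕ} [Fact r.Prime] (hrp : r ≠ p) {B : LinearMap.BilinForm F V}
    {x : Module.End F V} (h : SCtx r B x) (i c : ℕ)
    (hi : i = orderOf ((Fintype.card F : ℕ) : ZMod r)) (hc : c = if Even i then i else 2 * i)
    (hO2 : Even i → ∀ N : Submodule F V, SInv x N → N ≤ cycS r x → SND B N → finrank F N = 2 * i →
      ∀ U : Submodule F V, U ≤ N → SInv x U → finrank F U = i → STI B U →
        ∃ U' : Submodule F V, U' ≤ N ∧ SInv x U' ∧ SND B U' ∧ finrank F U' = i)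
    (N : Submodule F V) (hN : SInv x N) (hNc : N ≤ cycS r x) (hNnd : SND B N) (hN0 : N ≠ ⊥) :
    ∃ U : Submodule F V, U ≤ N ∧ SInv x U ∧ SND B U ∧ finrank F U = c := by
  have hipos : 0 < i := by rw [hi]; exact el_ord_pos (F := F) (p := p) r hrp
  have hr0 : 0 < r := (Fact.out : r.Prime).pos
  have hrF : (r : F) ≠ 0 := by
    intro h0
    have hd := (CharP.cast_eq_zero_iff F p r).mp h0
    exact hrp ((Nat.prime_dvd_prime_iff_eq Fact.out Fact.out).mp hd).symm
  obtain ⟨Y, hYN, hY, hYd, hnd | hti⟩ := s5956o3_dich hrp h N hN hNc hN0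
  · have hev := nd_even B h.alt Y hnd
    rw [hYd, ← hi] at hev
    exact ⟨Y, hYN, hY, hnd, by rw [hYd, ← hi, hc, if_pos hev]⟩
  · obtain ⟨N', hN'N, hN'inv, hN'nd, -, -, hN'd⟩ := peel_ti hrF h N Y hN hNnd hYN hY hti
    obtain ⟨N'', hN''N, hN''inv, hN''nd, -, -, hN''d⟩ :=
      peel_nd hr0 h N N' hN hNnd hN'N hN'inv hN'nd
    have hd2 : finrank F N'' = 2 * i := by
      rw [hYd, ← hi] at hN'd
      omega
    by_cases hev : Even i
    · have hN''0 : N'' ≠ ⊥ := by
        intro hb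
        rw [hb, finrank_bot] at hd2
        omega
      obtain ⟨Y1, hY1N, hY1, hY1d, hnd1 | hti1⟩ :=
        s5956o3_dich hrp h N'' hN''inv (hN''N.trans hNc) hN''0
      · exact ⟨Y1, hY1N.trans hN''N, hY1, hnd1, by rw [hY1d, ← hi, hc, if_pos hev]⟩
      · rw [← hi] at hY1d
        obtain ⟨U', hU'N, hU', hU'nd, hU'd⟩ :=
          hO2 hev N'' hN''inv (hN''N.trans hNc) hN''nd hd2 Y1 hY1N hY1 hY1d hti1
        exact ⟨U', hU'N.trans hN''N, hU', hU'nd, by rw [hU'd, hc, if_pos hev]⟩
    · exact ⟨N'', hN''N, hN''inv, hN''nd, by rw [hd2, hc, if_neg hev]⟩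

end Cfsg.Agent.Lib.helper3.S5956
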