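import Mathlib
import Cfsg.Agent.Lib.helper3.S5956.Defs
import Cfsg.Agent.Lib.Helper20.S5956O3core
import Cfsg.Agent.Lib.helper3.S5956O2

set_option autoImplicit false

/-!
# Project S5956, row O3 (min_nd): verbatim wrapper (core `s5956o3_core` + helper3's `even_irr_nd`).
-/

namespace Cfsg.Agent.Lib.helper3.S5956

open Polynomial Module
open Cfsg.Agent.Lib.Helper13.S5955 Cfsg.Agent.Lib.Helper24

universe u

/-- O3 [M-L] MINND: a non-zero nondegenerate invariant `N ≤ ker Φ_r(x)` contains a nondegenerate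
invariant subspace of dimension `c`. -/
theorem min_nd {F : Type*} [Field F] [Fintype F] {p : ℕ} [Fact p.Prime] [CharP F p]
    {V : Type*} [AddCommGroup V] [Module F V] [FiniteDimensional F V]
    {r : ℕ} [Fact r.Prime] (hrp : r ≠ p) (hr2 : r ≠ 2) {B : LinearMap.BilinForm F V}
    {x : Module.End F V} (h : SCtx r B x) (i c : ℕ)
    (hi : i = orderOf ((Fintype.card F : ℕ) : ZMod r)) (hc : c = if Even i then i else 2 * i)
    (N : Submodule F V) (hN : SInv x N) (hNc : N ≤ cycS r x) (hNnd : SND B N) (hN0 : N ≠ ⊥) :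
    ∃ U : Submodule F V, U ≤ N ∧ SInv x U ∧ SND B U ∧ finrank F U = c :=
  s5956o3_core hrp h i c hi hc
    (fun hie N' hN' hN'c hN'nd hdim U hUN hU hUd hUti =>
      even_irr_nd hrp hr2 h i hi hie N' hN' hN'c hN'nd hdim U hUN hU hUd hUti)
    N hN hNc hNnd hN0

end Cfsg.Agent.Lib.helper3.S5956
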