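import Mathlib
import Cfsg.Agent.Lib.helper3.S5956.Defs

set_option autoImplicit false

/-!
# Project S5956, row A2 (nd_sup): the sum of two orthogonal nondegenerate subspaces of an alternating space.
-/

namespace Cfsg.Agent.Lib.helper3.S5956

open Polynomial Module
open Cfsg.Agent.Lib.Helper13.S5955 Cfsg.Agent.Lib.Helper24

universe u

/-- alternating implies skew -/
theorem s5956a2_skew {F : Type*} [Field F] {V : Type*} [AddCommGroup V] [Module F V]
    {B : LinearMap.BilinForm F V} (halt : ∀ v, B v v = 0) (u v : V) : B u v = - B v u := by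
  have h := halt (u + v)
  simp only [map_add, LinearMap.add_apply, halt u, halt v, zero_add, add_zero] at h
  exact eq_neg_of_add_eq_zero_right h

/-- A2 [S-M] NDSUP: the sum of two orthogonal nondegenerate subspaces. -/
theorem nd_sup {F : Type*} [Field F] {V : Type*} [AddCommGroup V] [Module F V]
    [FiniteDimensional F V] (B : LinearMap.BilinForm F V) (halt : ∀ v, B v v = 0)
    (U W : Submodule F V) (hU : SND B U) (hW : SND B W) (h : SOrth B U W) :
    SND B (U ⊔ W) ∧ Disjoint U W ∧ finrank F ↥(U ⊔ W) = finrank F U + finrank F W := by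
  have h' : ∀ w ∈ W, ∀ u ∈ U, B w u = 0 := by
    intro w hw u hu
    rw [s5956a2_skew halt, h u hu w hw, neg_zero]
  have hdis : Disjoint U W := by
    rw [Submodule.disjoint_def]
    intro v hvU hvW
    exact hU v hvU (fun u hu => h' v hvW u hu)
  refine ⟨?_, hdis, ?_⟩
  · intro v hv hall
    obtain ⟨u, hu, w, hw, rfl⟩ := Submodule.mem_sup.mp hv
    have hu0 : u = 0 := by
      apply hU u hu
      intro u' hu'
      have := hall u' (Submodule.mem_sup_left hu')
      rw [map_add, LinearMap.add_apply, h' w hw u' hu', add_zero] at this
      exact this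
    have hw0 : w = 0 := by
      apply hW w hw
      intro w' hw'
      have := hall w' (Submodule.mem_sup_right hw')
      rw [map_add, LinearMap.add_apply, h u hu w' hw', zero_add] at this
      exact this
    rw [hu0, hw0, add_zero]
  · have hh := Submodule.finrank_sup_add_finrank_inf_eq U W
    rw [hdis.eq_bot, finrank_bot, add_zero] at hh
    exact hh

end Cfsg.Agent.Lib.helper3.S5956
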