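import Mathlib
import Cfsg.Agent.Lib.helper3.S5956.Defs
import Cfsg.Agent.Lib.helper7.S5955T4
import Cfsg.Agent.Lib.Helper20.S5956A2

set_option autoImplicit false

/-!
# Project S5956, row O4 (nd_ladder), core: nondegenerate invariant subspaces of every dimension `c * b ≤ dim N`;
the row O3 (min_nd) enters as the hypothesis `hO3`.
-/

namespace Cfsg.Agent.Lib.helper3.S5956

open Polynomial Module
open Cfsg.Agent.Lib.Helper13.S5955 Cfsg.Agent.Lib.Helper24

universe u

/-- O4 core: `nd_ladder` with the statement of O3 (`min_nd`) as hypothesis. -/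
theorem s5956o4_core {F : Type*} [Field F] {V : Type*} [AddCommGroup V] [Module F V]
    [FiniteDimensional F V] {r : ℕ} (hr : 0 < r) {B : LinearMap.BilinForm F V}
    {x : Module.End F V} (h : SCtx r B x) (K : Submodule F V) (c : ℕ) (hcpos : 0 < c)
    (hO3 : ∀ N : Submodule F V, SInv x N → N ≤ K → SND B N → N ≠ ⊥ →
      ∃ U : Submodule F V, U ≤ N ∧ SInv x U ∧ SND B U ∧ finrank F U = c) :
    ∀ (b : ℕ) (N : Submodule F V), SInv x N → N ≤ K → SND B N → c * b ≤ finrank F N →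
      ∃ U : Submodule F V, U ≤ N ∧ SInv x U ∧ SND B U ∧ finrank F U = c * b := by
  intro b
  induction b with
  | zero =>
    intro N _ _ _ _
    refine ⟨⊥, bot_le, el_inv_bot x, ?_, by rw [finrank_bot, mul_zero]⟩
    intro u hu _
    exact (Submodule.mem_bot F).mp hu
  | succ b ih =>
    intro N hN hNK hNnd hdim
    have hN0 : N ≠ ⊥ := by
      intro hb
      rw [hb, finrank_bot, Nat.mul_succ] at hdim
      omega
    obtain ⟨U1, hU1N, hU1, hU1nd, hU1d⟩ := hO3 N hN hNK hNnd hN0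
    obtain ⟨N', hN'N, hN'inv, hN'nd, hort, -, hN'd⟩ := peel_nd hr h N U1 hN hNnd hU1N hU1 hU1nd
    have hle : c * b ≤ finrank F N' := by
      rw [Nat.mul_succ] at hdim
      omega
    obtain ⟨U2, hU2N', hU2, hU2nd, hU2d⟩ := ih N' hN'inv (hN'N.trans hNK) hN'nd hle
    have ho : SOrth B U1 U2 := fun u hu w hw => hort u hu w (hU2N' hw)
    obtain ⟨hnd, -, hfr⟩ := nd_sup B h.alt U1 U2 hU1nd hU2nd ho
    refine ⟨U1 ⊔ U2, sup_le hU1N (hU2N'.trans hN'N), el_inv_sup hU1 hU2, hnd, ?_⟩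
    rw [hfr, hU1d, hU2d, Nat.mul_succ, add_comm]

end Cfsg.Agent.Lib.helper3.S5956
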