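import Mathlib
import Cfsg.Agent.Lib.helper3.S5956.Defs
import Cfsg.Agent.Lib.Helper20.S5956O4core
import Cfsg.Agent.Lib.Helper20.S5956O3

set_option autoImplicit false

/-!
# Project S5956, row O4 (nd_ladder): verbatim wrapper (core `s5956o4_core` + `min_nd`).
-/

namespace Cfsg.Agent.Lib.helper3.S5956

open Polynomial Module
open Cfsg.Agent.Lib.Helper13.S5955 Cfsg.Agent.Lib.Helper24

universe u

/-- O4 [M] LADDER: nondegenerate invariant subspaces of every dimension `c * b ≤ dim N`. -/
theorem nd_ladder {F : Type*} [Field F] [Fintype F] {p : ℕ} [Fact p.Prime] [CharP F p]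
    {V : Type*} [AddCommGroup V] [Module F V] [FiniteDimensional F V]
    {r : ℕ} [Fact r.Prime] (hrp : r ≠ p) (hr2 : r ≠ 2) {B : LinearMap.BilinForm F V}
    {x : Module.End F V} (h : SCtx r B x) (i c : ℕ)
    (hi : i = orderOf ((Fintype.card F : ℕ) : ZMod r)) (hc : c = if Even i then i else 2 * i) :
    ∀ (b : ℕ) (N : Submodule F V), SInv x N → N ≤ cycS r x → SND B N → c * b ≤ finrank F N →
      ∃ U : Submodule F V, U ≤ N ∧ SInv x U ∧ SND B U ∧ finrank F U = c * b := by
  have hipos : 0 < i := by rw [hi]; exact el_ord_pos (F := F) (p := p) r hrp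
  have hcpos : 0 < c := by rw [hc]; split_ifs <;> omega
  exact s5956o4_core (Fact.out : r.Prime).pos h (cycS r x) c hcpos
    (fun N hN hNc hNnd hN0 => min_nd hrp hr2 h i c hi hc N hN hNc hNnd hN0)

end Cfsg.Agent.Lib.helper3.S5956
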