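import Mathlib
import Cfsg.Agent.Lib.helper3.S5956.Defs
import Cfsg.Agent.Lib.Helper5.S5955T7

set_option autoImplicit false

/-!
# Project S5956, row O5 (cyc_nd_dvd): `c` divides the dimension of a nondegenerate invariant `N ≤ ker Φ_r(x)`.
-/

namespace Cfsg.Agent.Lib.helper3.S5956

open Polynomial Module
open Cfsg.Agent.Lib.Helper13.S5955 Cfsg.Agent.Lib.Helper24

universe u

/-- O5 [S-M] CYCDVD: `c` divides the dimension of a nondegenerate invariant `N ≤ ker Φ_r(x)`. -/
theorem cyc_nd_dvd {F : Type*} [Field F] [Fintype F] {p : ℕ} [Fact p.Prime] [CharP F p]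
    {V : Type*} [AddCommGroup V] [Module F V] [FiniteDimensional F V]
    {r : ℕ} [Fact r.Prime] (hrp : r ≠ p) {B : LinearMap.BilinForm F V}
    {x : Module.End F V} (h : SCtx r B x) (i c : ℕ)
    (hi : i = orderOf ((Fintype.card F : ℕ) : ZMod r)) (hc : c = if Even i then i else 2 * i)
    (N : Submodule F V) (hN : SInv x N) (hNc : N ≤ cycS r x) (hNnd : SND B N) :
    c ∣ finrank F N := by
  have hipos : 0 < i := by rw [hi]; exact el_ord_pos (F := F) (p := p) r hrp
  have hQ0 : cyclotomic r F ≠ 0 := cyclotomic_ne_zero r F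
  have hdeg : ∀ P : F[X], Irreducible P → P ∣ cyclotomic r F → P.natDegree = i := by
    intro P hP hPd
    rw [hi]
    exact el_cyc_deg (F := F) (p := p) r hrp P hP hPd
  have hkillN : ∀ u ∈ N, aeval x (cyclotomic r F) u = 0 := fun u hu =>
    LinearMap.mem_ker.mp (hNc hu)
  have hdvd : i ∣ finrank F N := el_dvd_dim x N hN (cyclotomic r F) hQ0 hkillN i hipos hdeg
  have hev : Even (finrank F N) := nd_even B h.alt N hNnd
  by_cases hie : Even i
  · rw [hc, if_pos hie]
    exact hdvd
  · rw [hc, if_neg hie]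
    have hodd : Odd i := Nat.not_even_iff_odd.mp hie
    have hcop : Nat.Coprime 2 i := Nat.coprime_two_left.mpr hodd
    exact Nat.Coprime.mul_dvd_of_dvd_of_dvd hcop (even_iff_two_dvd.mp hev) hdvd

end Cfsg.Agent.Lib.helper3.S5956
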