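import Mathlib
import Cfsg.Agent.Lib.Helper1.ODN.Defs
import Cfsg.Agent.Lib.Helper24.S5972SPLIT
import Cfsg.Agent.Lib.Helper18.ONESPLITW
import Cfsg.Agent.Lib.helper23.ONECYCLADDER

/-!
# Project ODN, row NECODD (odn_nec_abs) (helper20).
-/

set_option autoImplicit false
set_option linter.unusedVariables false

namespace Cfsg.Agent.Lib.Helper1.ODN

open Polynomial Module Cfsg.Agent.Lib.Helper13.S5955 Cfsg.Agent.Lib.helper15.S5972 Cfsg.Agent.Lib.Helper18.ONE
  Cfsg.Agent.Lib.Helper16.OSemi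

/-- NECODD [M]: ONE SPLITW: `W = (W ⊓ fixS) ⟂ (W ⊓ cycS)`, `dim (W ⊓ cycS) = c b` (ONE CYCDVD), `c` even, so `e := dim (W ⊓ fixS) = m - c b` is odd and `≥ m % c`;
`dim fixS = 2d - dim cycS` is even (`o_split`, CYCDVD for `cycS`), so `e < dim fixS`. -/
theorem odn_nec_abs {F : Type*} [Field F] [Fintype F] {p : ℕ} [Fact p.Prime] [CharP F p]
    (h2 : (2 : F) ≠ 0) {V : Type*} [AddCommGroup V] [Module F V] [FiniteDimensional F V]
    {r : ℕ} [Fact r.Prime] (hrp : r ≠ p) (hr2 : r ≠ 2) {B : LinearMap.BilinForm F V}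
    {x : Module.End F V} (h : OCtx r B x) (d m : ℕ) (hV : finrank F V = 2 * d) (hm : Odd m) (i c : ℕ)
    (hi : i = orderOf ((Fintype.card F : ℕ) : ZMod r)) (hc : c = if Even i then i else 2 * i)
    (W : Submodule F V) (hW : SInv x W) (hWnd : SND B W) (hWm : finrank F W = m) :
    m % c < finrank F (fixS x) := by
  obtain ⟨-, hcompl, -, hcycnd⟩ := o_split hrp h
  obtain ⟨-, hWcnd, hWcinv, -, hWdim⟩ := o_split_w hrp h W hW hWnd
  have hcycinv : SInv x (cycS r x) := Cfsg.Agent.Lib.Helper24.el_inv_ker x (cyclotomic r F)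
  have hd1 : c ∣ finrank F ↥(W ⊓ cycS r x) :=
    o_cyc_nd_dvd hrp hr2 h i c hi hc (W ⊓ cycS r x) hWcinv inf_le_right hWcnd
  have hd2 : c ∣ finrank F ↥(cycS r x) :=
    o_cyc_nd_dvd hrp hr2 h i c hi hc (cycS r x) hcycinv le_rfl hcycnd
  have hipos : 0 < i := by
    rw [hi]
    exact Cfsg.Agent.Lib.Helper24.el_ord_pos (F := F) (p := p) r hrp
  have hceven : 2 ∣ c := by
    rw [hc]
    split_ifs with he
    · exact even_iff_two_dvd.mp he
    · exact dvd_mul_right 2 i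
  have hcpos : 0 < c := by
    rw [hc]
    split_ifs <;> omega
  -- dimensions
  have hsum : finrank F ↥(fixS x) + finrank F ↥(cycS r x) = 2 * d := by
    have h1 := Submodule.finrank_sup_add_finrank_inf_eq (fixS x) (cycS r x)
    rw [hcompl.sup_eq_top, hcompl.inf_eq_bot, finrank_top, finrank_bot, add_zero, hV] at h1
    exact h1.symm
  have hle : finrank F ↥(W ⊓ fixS x) ≤ finrank F ↥(fixS x) :=
    Submodule.finrank_mono inf_le_right
  obtain ⟨k1, hk1⟩ := hd1
  obtain ⟨k2, hk2⟩ := hd2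
  obtain ⟨c', hc'⟩ := hceven
  obtain ⟨m', hm'⟩ := hm
  -- `m % c ≤ e`
  have hmod : m % c ≤ finrank F ↥(W ⊓ fixS x) := by
    have h3 : m = finrank F ↥(W ⊓ fixS x) + c * k1 := by rw [← hWm, hWdim, hk1]
    rw [h3, Nat.add_mul_mod_self_left]
    exact Nat.mod_le _ _
  -- parity
  have hpar1 : c * k1 = 2 * (c' * k1) := by rw [hc']; ring
  have hpar2 : c * k2 = 2 * (c' * k2) := by rw [hc']; ring
  rw [hWm, hk1] at hWdim
  rw [hk2] at hsum
  omega

end Cfsg.Agent.Lib.Helper1.ODN
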