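import Mathlib
import Cfsg.Agent.Lib.helper17.SLP.Defs
import Cfsg.Agent.Lib.helper17.SL3.Defs
import Cfsg.Agent.Lib.helper17.SL3.Defs2

/-!
# Project SL3 (designer helper17), row D1 `rg_mem` (writer helper20)

`Set.range X` of an additive map `X : F → G` is a subgroup, hence equals `RG X = closure (range X)`;
it is the image of the finite type `F`.
-/

set_option autoImplicit false

namespace Cfsg.Agent.Lib.helper17.SL3

open Cfsg.Agent.Lib.helper17.SLP

universe u v

section D

set_option linter.unusedSectionVars false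

variable {F : Type u} [Field F] [Fintype F] {G : Type v} [Group G]

theorem sl3d1_zero (X : F → G) (hX : ∀ s t, X (s + t) = X s * X t) : X 0 = 1 := by
  have h := hX 0 0
  rw [add_zero] at h
  exact (mul_eq_left.mp h.symm)

theorem sl3d1_neg (X : F → G) (hX : ∀ s t, X (s + t) = X s * X t) (t : F) :
    X (-t) = (X t)⁻¹ := by
  have h := hX (-t) t
  rw [neg_add_cancel, sl3d1_zero X hX] at h
  exact eq_inv_of_mul_eq_one_left h.symm

theorem sl3d1_mem (X : F → G) (hX : ∀ s t, X (s + t) = X s * X t) (g : G) :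
    g ∈ RG X ↔ ∃ t, g = X t := by
  constructor
  · intro hg
    unfold RG at hg
    induction hg using Subgroup.closure_induction with
    | mem y hy =>
      obtain ⟨t, rfl⟩ := hy
      exact ⟨t, rfl⟩
    | one => exact ⟨0, (sl3d1_zero X hX).symm⟩
    | mul a b _ _ ha hb =>
      obtain ⟨s, rfl⟩ := ha
      obtain ⟨t, rfl⟩ := hb
      exact ⟨s + t, (hX s t).symm⟩
    | inv a _ ha =>
      obtain ⟨s, rfl⟩ := ha
      exact ⟨-s, (sl3d1_neg X hX s).symm⟩
  · rintro ⟨t, rfl⟩
    exact Subgroup.subset_closure ⟨t, rfl⟩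

theorem rg_mem (X : F → G) (hX : ∀ s t, X (s + t) = X s * X t) :
    (∀ g, g ∈ RG X ↔ ∃ t, g = X t) ∧ Finite (RG X) ∧ Nat.card (RG X) ≤ Fintype.card F := by
  have hmem := sl3d1_mem X hX
  let f : F → RG X := fun t => ⟨X t, (hmem _).mpr ⟨t, rfl⟩⟩
  have hf : Function.Surjective f := by
    rintro ⟨g, hg⟩
    obtain ⟨t, ht⟩ := (hmem g).mp hg
    exact ⟨t, Subtype.ext ht.symm⟩
  refine ⟨hmem, Finite.of_surjective f hf, ?_⟩
  have h := Nat.card_le_card_of_surjective f hf
  rwa [Nat.card_eq_fintype_card (α := F)] at h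

end D

end Cfsg.Agent.Lib.helper17.SL3
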