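import Mathlib
import Cfsg.Agent.Lib.helper17.SLP.Defs
import Cfsg.Agent.Lib.helper17.SL3.Defs
import Cfsg.Agent.Lib.helper17.SL3.Defs2
import Cfsg.Agent.Lib.Helper13.SL3E2
import Cfsg.Agent.Lib.helper4.SL3E8
import Cfsg.Agent.Lib.helper4.SL3E9

/-!
# Project SL3 (designer helper17), row E10 `rd_card`, core (writer helper20)

`sl3e10_core`: the statement of E10 with the statements of the rows E1 (`bn_union`), E4 (`B_subgroup`),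
E5 (`rank1_B1`), E6 (`rank1_B2`), E7 (`cell_1`) as hypotheses (specialised to the datum); E2 (`bn_count`),
E8 (`cell_2`), E9 (`cover_B`) are cited from the landed files.
-/

set_option autoImplicit false

namespace Cfsg.Agent.Lib.helper17.SL3

open Cfsg.Agent.Lib.helper17.SLP

universe u v

section E

variable {G : Type u} [Group G]

variable (q : ℕ) (T X01 X02 X12 X10 X21 : Subgroup G) (n1 n2 : G)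

theorem sl3e10_core (D : RD q T X01 X02 X12 X10 X21 n1 n2)
    (hE4 : ∃ B : Subgroup G, Finite B ∧ Nat.card B ≤ Nat.card T * q ^ 3 ∧ T ≤ B ∧ X01 ≤ B ∧ X02 ≤ B ∧
      X12 ≤ B ∧
      (∀ g, g ∈ B ↔ ∃ τ ∈ T, ∃ a ∈ X01, ∃ z ∈ X02, ∃ b ∈ X12, g = τ * a * z * b) ∧
      (∀ g, g ∈ B ↔ ∃ a ∈ X01, ∃ τ ∈ T, ∃ z ∈ X02, ∃ b ∈ X12, g = a * τ * z * b) ∧
      (∀ g, g ∈ B ↔ ∃ τ ∈ T, ∃ z ∈ X02, ∃ b ∈ X12, ∃ a ∈ X01, g = τ * z * b * a) ∧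
      (∀ g, g ∈ B ↔ ∃ b ∈ X12, ∃ τ ∈ T, ∃ a ∈ X01, ∃ z ∈ X02, g = b * τ * a * z))
    (hE1 : ∀ B : Subgroup G, n1 ^ 2 ∈ B → n2 ^ 2 ∈ B →
      (∀ g ∈ B, n1 * g * n1 ∈ B ∨ ∃ b₁ ∈ B, ∃ b₂ ∈ B, n1 * g * n1 = b₁ * n1 * b₂) →
      (∀ g ∈ B, n2 * g * n2 ∈ B ∨ ∃ b₁ ∈ B, ∃ b₂ ∈ B, n2 * g * n2 = b₁ * n2 * b₂) →
      (∀ g ∈ B, ∃ b₁ ∈ B, ∃ b₂ ∈ B, n1 * g * n2 = b₁ * (n1 * n2) * b₂) →
      (∀ g ∈ B, ∃ b₁ ∈ B, ∃ b₂ ∈ B, n2 * g * n1 = b₁ * (n2 * n1) * b₂) →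
      (∀ g ∈ B, ∃ b₁ ∈ B, ∃ b₂ ∈ B, n1 * g * (n2 * n1) = b₁ * (n1 * n2 * n1) * b₂) →
      (∀ g ∈ B, ∃ b₁ ∈ B, ∃ b₂ ∈ B, n2 * g * (n1 * n2) = b₁ * (n2 * n1 * n2) * b₂) →
      (∃ b ∈ B, n2 * n1 * n2 = b * (n1 * n2 * n1)) →
      Subgroup.closure ((B : Set G) ∪ {n1, n2}) = ⊤ →
      ∀ g : G, ∃ m ∈ ({1, n1, n2, n1 * n2, n2 * n1, n1 * n2 * n1} : Set G),
        ∃ b₁ ∈ B, ∃ b₂ ∈ B, g = b₁ * m * b₂)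
    (hE5 : ∀ B : Subgroup G, T ≤ B → X01 ≤ B → X02 ≤ B → X12 ≤ B →
      (∀ g, g ∈ B ↔ ∃ a ∈ X01, ∃ τ ∈ T, ∃ z ∈ X02, ∃ b ∈ X12, g = a * τ * z * b) →
      ∀ g ∈ B, n1 * g * n1 ∈ B ∨ ∃ b₁ ∈ B, ∃ b₂ ∈ B, n1 * g * n1 = b₁ * n1 * b₂)
    (hE6 : ∀ B : Subgroup G, T ≤ B → X01 ≤ B → X02 ≤ B → X12 ≤ B →
      (∀ g, g ∈ B ↔ ∃ b ∈ X12, ∃ τ ∈ T, ∃ a ∈ X01, ∃ z ∈ X02, g = b * τ * a * z) →
      ∀ g ∈ B, n2 * g * n2 ∈ B ∨ ∃ b₁ ∈ B, ∃ b₂ ∈ B, n2 * g * n2 = b₁ * n2 * b₂)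
    (hE7 : ∀ B : Subgroup G, T ≤ B → X01 ≤ B → X02 ≤ B → X12 ≤ B →
      (∀ g, g ∈ B ↔ ∃ a ∈ X01, ∃ τ ∈ T, ∃ z ∈ X02, ∃ b ∈ X12, g = a * τ * z * b) →
      (∀ g ∈ B, ∃ b₁ ∈ B, ∃ b₂ ∈ B, n1 * g * n2 = b₁ * (n1 * n2) * b₂) ∧
        ∀ g ∈ B, ∃ b₁ ∈ B, ∃ b₂ ∈ B, n1 * g * (n2 * n1) = b₁ * (n1 * n2 * n1) * b₂) :
    Finite G ∧ Nat.card G ≤ Nat.card T * q ^ 3 * (1 + 2 * q + 2 * q ^ 2 + q ^ 3) := by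
  obtain ⟨B, hfin, hcard, hT, h01, h02, h12, hB1, hB2, hB3, hB4⟩ := hE4
  have hr1 := hE5 B hT h01 h02 h12 hB2
  have hr2 := hE6 B hT h01 h02 h12 hB4
  obtain ⟨hc12, hc121⟩ := hE7 B hT h01 h02 h12 hB2
  obtain ⟨hc21, hc212⟩ := cell_2 q T X01 X02 X12 X10 X21 n1 n2 D B hT h01 h02 h12 hB4
  obtain ⟨hcov1, hcov2⟩ := cover_B q T X01 X02 X12 X10 X21 n1 n2 D B hT h01 h02 h12 hB3 hB1
  have hbr : ∃ b ∈ B, n2 * n1 * n2 = b * (n1 * n2 * n1) := by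
    obtain ⟨τ, hτ, h⟩ := D.braid
    exact ⟨τ, hT hτ, h⟩
  have hgen : Subgroup.closure ((B : Set G) ∪ {n1, n2}) = ⊤ := by
    rw [eq_top_iff, ← D.gen]
    apply Subgroup.closure_mono
    intro g hg
    rcases hg with ((hg | hg) | hg) | hg
    · exact Or.inl (hT hg)
    · exact Or.inl (h01 hg)
    · exact Or.inl (h12 hg)
    · exact Or.inr hg
  have hall := hE1 B (hT D.n1sq) (hT D.n2sq) hr1 hr2 hc12 hc21 hc121 hc212 hbr hgen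
  have hX1 : ((X01 : Set G)).Finite ∧ ((X01 : Set G)).ncard ≤ q := by
    obtain ⟨hf, hc⟩ := D.fin01
    exact ⟨Set.toFinite _, hc⟩
  have hX2 : ((X12 : Set G)).Finite ∧ ((X12 : Set G)).ncard ≤ q := by
    obtain ⟨hf, hc⟩ := D.fin12
    exact ⟨Set.toFinite _, hc⟩
  obtain ⟨hGfin, hGcard⟩ := bn_count B n1 n2 (X01 : Set G) (X12 : Set G) q hX1 hX2 hcov1 hcov2 hall
  exact ⟨hGfin, hGcard.trans (Nat.mul_le_mul_right _ hcard)⟩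

end E

end Cfsg.Agent.Lib.helper17.SL3
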