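import Mathlib
import Cfsg.Agent.Lib.helper17.SLP.Defs
import Cfsg.Agent.Lib.helper17.SL3.Defs
import Cfsg.Agent.Lib.helper17.SL3.Defs2

/-!
# Project SL3 (designer helper17), row E4 `B_subgroup`, core (writer helper20)

`sl3e4_core`: the statement of E4 with the statement of row E3 (`U_subgroup`, specialised to the datum) as a
hypothesis.  `B := {τ * u}` with `τ ∈ T`, `u ∈ U`; `T` normalises `U`; the other three normal forms by moving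
the factors with `t01`, `t12`, `p1`, `p2`, `p3`.
-/

set_option autoImplicit false

namespace Cfsg.Agent.Lib.helper17.SL3

open Cfsg.Agent.Lib.helper17.SLP

universe u v

section E

variable {G : Type u} [Group G]

variable (q : ℕ) (T X01 X02 X12 X10 X21 : Subgroup G) (n1 n2 : G)

theorem sl3e4_core (D : RD q T X01 X02 X12 X10 X21 n1 n2)
    (hE3 : ∃ U : Subgroup G, (∀ g, g ∈ U ↔ ∃ a ∈ X01, ∃ z ∈ X02, ∃ b ∈ X12, g = a * z * b) ∧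
      Finite U ∧ Nat.card U ≤ q ^ 3) :
    ∃ B : Subgroup G, Finite B ∧ Nat.card B ≤ Nat.card T * q ^ 3 ∧ T ≤ B ∧ X01 ≤ B ∧ X02 ≤ B ∧ X12 ≤ B ∧
      (∀ g, g ∈ B ↔ ∃ τ ∈ T, ∃ a ∈ X01, ∃ z ∈ X02, ∃ b ∈ X12, g = τ * a * z * b) ∧
      (∀ g, g ∈ B ↔ ∃ a ∈ X01, ∃ τ ∈ T, ∃ z ∈ X02, ∃ b ∈ X12, g = a * τ * z * b) ∧
      (∀ g, g ∈ B ↔ ∃ τ ∈ T, ∃ z ∈ X02, ∃ b ∈ X12, ∃ a ∈ X01, g = τ * z * b * a) ∧
      (∀ g, g ∈ B ↔ ∃ b ∈ X12, ∃ τ ∈ T, ∃ a ∈ X01, ∃ z ∈ X02, g = b * τ * a * z) := by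
  obtain ⟨U, hU, hUfin, hUcard⟩ := hE3
  have hTfin := D.finT
  have hnorm : ∀ τ ∈ T, ∀ u ∈ U, τ * u * τ⁻¹ ∈ U := by
    intro τ hτ u hu
    obtain ⟨a, ha, z, hz, b, hb, rfl⟩ := (hU u).1 hu
    exact (hU _).2 ⟨τ * a * τ⁻¹, D.t01 τ hτ a ha, τ * z * τ⁻¹, D.t02 τ hτ z hz, τ * b * τ⁻¹,
      D.t12 τ hτ b hb, by group⟩
  let B : Subgroup G :=
    { carrier := {g | ∃ τ ∈ T, ∃ u ∈ U, g = τ * u}
      one_mem' := ⟨1, T.one_mem, 1, U.one_mem, by simp⟩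
      mul_mem' := by
        rintro _ _ ⟨τ, hτ, u, hu, rfl⟩ ⟨τ', hτ', u', hu', rfl⟩
        refine ⟨τ * τ', T.mul_mem hτ hτ', (τ'⁻¹ * u * τ'⁻¹⁻¹) * u',
          U.mul_mem (hnorm τ'⁻¹ (T.inv_mem hτ') u hu) hu', by group⟩
      inv_mem' := by
        rintro _ ⟨τ, hτ, u, hu, rfl⟩
        exact ⟨τ⁻¹, T.inv_mem hτ, τ * u⁻¹ * τ⁻¹, hnorm τ hτ _ (U.inv_mem hu), by group⟩ }
  have hBmem : ∀ g, g ∈ B ↔ ∃ τ ∈ T, ∃ u ∈ U, g = τ * u := fun g => Iff.rfl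
  have hTB : T ≤ B := fun τ hτ => (hBmem τ).2 ⟨τ, hτ, 1, U.one_mem, by simp⟩
  have h01U : X01 ≤ U := fun a ha =>
    (hU a).2 ⟨a, ha, 1, X02.one_mem, 1, X12.one_mem, by simp⟩
  have h02U : X02 ≤ U := fun z hz =>
    (hU z).2 ⟨1, X01.one_mem, z, hz, 1, X12.one_mem, by simp⟩
  have h12U : X12 ≤ U := fun b hb =>
    (hU b).2 ⟨1, X01.one_mem, 1, X02.one_mem, b, hb, by simp⟩
  have hUB : U ≤ B := fun u hu => (hBmem u).2 ⟨1, T.one_mem, u, hu, by simp⟩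
  have h01B : X01 ≤ B := h01U.trans hUB
  have h02B : X02 ≤ B := h02U.trans hUB
  have h12B : X12 ≤ B := h12U.trans hUB
  -- the first normal form
  have hF1 : ∀ g, g ∈ B ↔ ∃ τ ∈ T, ∃ a ∈ X01, ∃ z ∈ X02, ∃ b ∈ X12, g = τ * a * z * b := by
    intro g
    constructor
    · rintro ⟨τ, hτ, u, hu, rfl⟩
      obtain ⟨a, ha, z, hz, b, hb, rfl⟩ := (hU u).1 hu
      exact ⟨τ, hτ, a, ha, z, hz, b, hb, by group⟩
    · rintro ⟨τ, hτ, a, ha, z, hz, b, hb, rfl⟩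
      exact B.mul_mem (B.mul_mem (B.mul_mem (hTB hτ) (h01B ha)) (h02B hz)) (h12B hb)
  -- counting
  let f : T × U → B := fun p => ⟨(p.1 : G) * (p.2 : G), (hBmem _).2 ⟨p.1, p.1.2, p.2, p.2.2, rfl⟩⟩
  have hf : Function.Surjective f := by
    rintro ⟨g, hg⟩
    obtain ⟨τ, hτ, u, hu, rfl⟩ := (hBmem g).1 hg
    exact ⟨(⟨τ, hτ⟩, ⟨u, hu⟩), rfl⟩
  have hBfin : Finite B := Finite.of_surjective f hf
  have hBcard : Nat.card B ≤ Nat.card T * q ^ 3 := by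
    have h := Nat.card_le_card_of_surjective f hf
    rw [Nat.card_prod] at h
    exact h.trans (Nat.mul_le_mul_left _ hUcard)
  refine ⟨B, hBfin, hBcard, hTB, h01B, h02B, h12B, hF1, ?_, ?_, ?_⟩
  · -- a τ z b
    intro g
    constructor
    · intro hg
      obtain ⟨τ, hτ, a, ha, z, hz, b, hb, rfl⟩ := (hF1 g).1 hg
      exact ⟨τ * a * τ⁻¹, D.t01 τ hτ a ha, τ, hτ, z, hz, b, hb, by group⟩
    · rintro ⟨a, ha, τ, hτ, z, hz, b, hb, rfl⟩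
      exact B.mul_mem (B.mul_mem (B.mul_mem (h01B ha) (hTB hτ)) (h02B hz)) (h12B hb)
  · -- τ z b a
    intro g
    constructor
    · intro hg
      obtain ⟨τ, hτ, a, ha, z, hz, b, hb, rfl⟩ := (hF1 g).1 hg
      refine ⟨τ, hτ, z * (a * b * a⁻¹ * b⁻¹), X02.mul_mem hz (D.p3 a ha b hb), b, hb, a, ha, ?_⟩
      have h1 : a * z = z * a := (D.p1 a ha z hz).eq
      calc τ * a * z * b = τ * (a * z) * b := by group
        _ = τ * (z * a) * b := by rw [h1]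
        _ = τ * (z * (a * b * a⁻¹ * b⁻¹)) * b * a := by group
    · rintro ⟨τ, hτ, z, hz, b, hb, a, ha, rfl⟩
      exact B.mul_mem (B.mul_mem (B.mul_mem (hTB hτ) (h02B hz)) (h12B hb)) (h01B ha)
  · -- b τ a z
    intro g
    constructor
    · intro hg
      obtain ⟨τ, hτ, a, ha, z, hz, b, hb, rfl⟩ := (hF1 g).1 hg
      have hc : a * b * a⁻¹ * b⁻¹ ∈ X02 := D.p3 a ha b hb
      refine ⟨τ * b * τ⁻¹, D.t12 τ hτ b hb, τ, hτ, a, ha, (a * b * a⁻¹ * b⁻¹) * z, X02.mul_mem hc hz, ?_⟩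
      have h1 : z * b = b * z := ((D.p2 b hb z hz).eq).symm
      have h2 : (a * b * a⁻¹ * b⁻¹) * b = b * (a * b * a⁻¹ * b⁻¹) := ((D.p2 b hb _ hc).eq).symm
      have h3 : (a * b * a⁻¹ * b⁻¹) * a = a * (a * b * a⁻¹ * b⁻¹) := ((D.p1 a ha _ hc).eq).symm
      calc τ * a * z * b = τ * a * (z * b) := by group
        _ = τ * a * (b * z) := by rw [h1]
        _ = τ * ((a * b * a⁻¹ * b⁻¹) * b) * a * z := by group
        _ = τ * (b * (a * b * a⁻¹ * b⁻¹)) * a * z := by rw [h2]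
        _ = τ * b * ((a * b * a⁻¹ * b⁻¹) * a) * z := by group
        _ = τ * b * (a * (a * b * a⁻¹ * b⁻¹)) * z := by rw [h3]
        _ = τ * b * τ⁻¹ * τ * a * (a * b * a⁻¹ * b⁻¹ * z) := by group
    · rintro ⟨b, hb, τ, hτ, a, ha, z, hz, rfl⟩
      exact B.mul_mem (B.mul_mem (B.mul_mem (h12B hb) (hTB hτ)) (h01B ha)) (h02B hz)

end E

end Cfsg.Agent.Lib.helper17.SL3
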