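import Mathlib
import Cfsg.Agent.Lib.helper17.SLP.Defs
import Cfsg.Agent.Lib.helper17.SL3.Defs
import Cfsg.Agent.Lib.helper17.SL3.Defs2
import Cfsg.Agent.Lib.Helper18.SL3E3
import Cfsg.Agent.Lib.Helper20.SL3E4core

/-!
# Project SL3 (designer helper17), row E4 `B_subgroup`, verbatim (writer helper20)

`sl3e4_core` applied to the landed row E3 (`U_subgroup`, helper18).
-/

set_option autoImplicit false

namespace Cfsg.Agent.Lib.helper17.SL3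

open Cfsg.Agent.Lib.helper17.SLP

universe u v

section E

variable {G : Type u} [Group G]

variable (q : ℕ) (T X01 X02 X12 X10 X21 : Subgroup G) (n1 n2 : G)

theorem B_subgroup (D : RD q T X01 X02 X12 X10 X21 n1 n2) :
    ∃ B : Subgroup G, Finite B ∧ Nat.card B ≤ Nat.card T * q ^ 3 ∧ T ≤ B ∧ X01 ≤ B ∧ X02 ≤ B ∧ X12 ≤ B ∧
      (∀ g, g ∈ B ↔ ∃ τ ∈ T, ∃ a ∈ X01, ∃ z ∈ X02, ∃ b ∈ X12, g = τ * a * z * b) ∧
      (∀ g, g ∈ B ↔ ∃ a ∈ X01, ∃ τ ∈ T, ∃ z ∈ X02, ∃ b ∈ X12, g = a * τ * z * b) ∧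
      (∀ g, g ∈ B ↔ ∃ τ ∈ T, ∃ z ∈ X02, ∃ b ∈ X12, ∃ a ∈ X01, g = τ * z * b * a) ∧
      (∀ g, g ∈ B ↔ ∃ b ∈ X12, ∃ τ ∈ T, ∃ a ∈ X01, ∃ z ∈ X02, g = b * τ * a * z) :=
  sl3e4_core q T X01 X02 X12 X10 X21 n1 n2 D (U_subgroup q T X01 X02 X12 X10 X21 n1 n2 D)

end E

end Cfsg.Agent.Lib.helper17.SL3
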