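import Mathlib
import Cfsg.Agent.Lib.helper17.SLP.Defs
import Cfsg.Agent.Lib.helper17.SL3.Defs
import Cfsg.Agent.Lib.helper17.SL3.Defs2
import Cfsg.Agent.Lib.Helper21.SL3E1
import Cfsg.Agent.Lib.Helper18.SL3E5
import Cfsg.Agent.Lib.Helper9.SL3E6
import Cfsg.Agent.Lib.Helper20.SL3E4
import Cfsg.Agent.Lib.Helper20.SL3E10core

/-!
# Project SL3 (designer helper17), row E10 `rd_card`, verbatim (writer helper20)

`sl3e10_core` applied to the landed rows E1 (`bn_union`, helper21), E4 (`B_subgroup`), E5 (`rank1_B1`, helper18),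
E6 / E7 (`rank1_B2`, `cell_1`, helper9).
-/

set_option autoImplicit false

namespace Cfsg.Agent.Lib.helper17.SL3

open Cfsg.Agent.Lib.helper17.SLP

universe u v

section E

variable {G : Type u} [Group G]

variable (q : ℕ) (T X01 X02 X12 X10 X21 : Subgroup G) (n1 n2 : G)

theorem rd_card (D : RD q T X01 X02 X12 X10 X21 n1 n2) :
    Finite G ∧ Nat.card G ≤ Nat.card T * q ^ 3 * (1 + 2 * q + 2 * q ^ 2 + q ^ 3) :=
  sl3e10_core q T X01 X02 X12 X10 X21 n1 n2 D (B_subgroup q T X01 X02 X12 X10 X21 n1 n2 D)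
    (fun B => bn_union B n1 n2)
    (rank1_B1 q T X01 X02 X12 X10 X21 n1 n2 D)
    (rank1_B2 q T X01 X02 X12 X10 X21 n1 n2 D)
    (cell_1 q T X01 X02 X12 X10 X21 n1 n2 D)

end E

end Cfsg.Agent.Lib.helper17.SL3
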