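import Mathlib
import Cfsg.Agent.Lib.helper17.SLP.Defs

/-!
# Project SLP, row F5 (helper20): over a field with fewer than `p³` elements minimal polynomials have
degree at most 2.
-/

set_option autoImplicit false

namespace Cfsg.Agent.Lib.helper17.SLP

open Polynomial

/-- F5 [S-M] -/
theorem natDegree_minpoly_le_two {F : Type*} [Field F] [Fintype F] (p : ℕ) [Fact p.Prime] [Algebra (ZMod p) F]
    (hq : Fintype.card F < p ^ 3) (a : F) : (minpoly (ZMod p) a).natDegree ≤ 2 := by
  have hp : 1 < p := (Fact.out : p.Prime).one_lt
  have hcard : Fintype.card F = p ^ Module.finrank (ZMod p) F := by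
    rw [Module.card_eq_pow_finrank (K := ZMod p) (V := F), ZMod.card]
  have hd : Module.finrank (ZMod p) F < 3 := by
    rw [hcard] at hq
    exact (Nat.pow_lt_pow_iff_right hp).mp hq
  have h1 : (minpoly (ZMod p) a).natDegree ≤ Module.finrank (ZMod p) F := minpoly.natDegree_le a
  omega

end Cfsg.Agent.Lib.helper17.SLP
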