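import Mathlib
import Cfsg.Agent.Lib.Helper1.SLN.Defs
import Cfsg.Agent.Lib.Helper1.SLN.Defs2

/-!
# Project SL7 (designer helper1), row Z0a: five identities for the flip matrix `fM`.
-/

set_option autoImplicit false

namespace Cfsg.Agent.Lib.Helper1.SLN

open Matrix Equiv

universe u v w

section Z0

variable {F : Type u} [Field F]

theorem fM_mul_self : (fM : Matrix.SpecialLinearGroup (Fin 3) F) * fM = 1 := by
  apply Subtype.ext
  simp only [Matrix.SpecialLinearGroup.coe_mul, fM_coe, Matrix.SpecialLinearGroup.coe_one]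
  ext i j
  fin_cases i <;> fin_cases j <;> simp [Matrix.mul_apply, Fin.sum_univ_three]

theorem fM_inv : (fM : Matrix.SpecialLinearGroup (Fin 3) F)⁻¹ = fM :=
  inv_eq_of_mul_eq_one_right fM_mul_self

theorem fM_conj_cM : (fM : Matrix.SpecialLinearGroup (Fin 3) F) * cM * fM⁻¹ = cM⁻¹ := by
  rw [fM_inv]
  symm
  apply inv_eq_of_mul_eq_one_right
  apply Subtype.ext
  simp only [Matrix.SpecialLinearGroup.coe_mul, fM_coe, cM_coe, Matrix.SpecialLinearGroup.coe_one]
  ext i j
  fin_cases i <;> fin_cases j <;> simp [Matrix.mul_apply, Fin.sum_univ_three]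

theorem fM_conj_emb (m : Matrix.SpecialLinearGroup (Fin 2) F) :
    (fM : Matrix.SpecialLinearGroup (Fin 3) F) * emb23 m * fM⁻¹ = emb23 (flip2 m) := by
  rw [fM_inv]
  apply Subtype.ext
  simp only [Matrix.SpecialLinearGroup.coe_mul, fM_coe]
  change _ * (emb23F m : Matrix (Fin 3) (Fin 3) F) * _ = (emb23F (flip2F m) : Matrix (Fin 3) (Fin 3) F)
  rw [emb23F_coe, emb23F_coe, flip2F_coe]
  ext i j
  fin_cases i <;> fin_cases j <;> simp [Matrix.mul_apply, Fin.sum_univ_three]

theorem fM_conj_tv (a b : Fin 3) (h : a ≠ b) (t : F) :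
    (fM : Matrix.SpecialLinearGroup (Fin 3) F) * Matrix.SpecialLinearGroup.transvection h t * fM⁻¹ =
      Matrix.SpecialLinearGroup.transvection (i := Equiv.swap (0 : Fin 3) 1 a) (j := Equiv.swap (0 : Fin 3) 1 b)
        (fun e => h ((Equiv.swap (0 : Fin 3) 1).injective e)) t := by
  rw [fM_inv]
  apply Subtype.ext
  simp only [Matrix.SpecialLinearGroup.coe_mul, fM_coe, Matrix.SpecialLinearGroup.transvection_coe]
  fin_cases a <;> fin_cases b <;>
    first
    | exact absurd rfl h
    | (ext i j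
       fin_cases i <;> fin_cases j <;>
         simp [Matrix.mul_apply, Fin.sum_univ_three, Matrix.single, Matrix.one_apply, Matrix.vecMul, dotProduct, Matrix.add_apply,
           Equiv.swap_apply_def])

end Z0

end Cfsg.Agent.Lib.Helper1.SLN
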