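import Mathlib
import Cfsg.Prelude.Def_GeometricClasses
import Cfsg.Agent.Lib.Helper19.OU.Defs

set_option autoImplicit false
set_option linter.unusedVariables false
set_option linter.unusedSectionVars false

/-!
# Project OU (leader helper19) -> S5700, piece RHO (helper20) : `rho_ex rho_mul rho_conj rho_sg` VERBATIM vs
`Helper19/OU/Skel.lean.txt`.  Extras: `ourho_rho_smul` (`Rho Q f u (c • y) x = Tv f u y c x` for `Q y = 0`),
`ourho_rho_rho` (`Rho u y (Rho u y' x) = Rho u (y + y') x`).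
-/

namespace Cfsg.Agent.Lib.Helper19.OU

open Matrix Cfsg.Agent.Lib.Helper28.HForm Cfsg.Agent.Lib.Helper28.OGen
  Cfsg.Agent.Lib.Helper28.OMax Cfsg.Agent.Lib.Helper28.OQ Cfsg.Agent.Lib.Helper28.OMax2
  Cfsg.Agent.Lib.Helper28.OIwa Cfsg.Agent.Lib.Helper28.OPair

variable {n : ℕ} {F : Type*} [Field F] {Q : (Fin n → F) → F}
  {f : (Fin n → F) → (Fin n → F) → F} {θ : Matrix (Fin n) (Fin n) F} {t N : F}
  {G M : Subgroup (Matrix.GeneralLinearGroup (Fin n) F)}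

/-- for singular `y` the Siegel transformation `ρ_{u, c y}` is `Tv f u y c` -/
theorem ourho_rho_smul (hq : QF Q f) (u y x : Fin n → F) (c : F) (hy : Q y = 0) :
    Rho Q f u (c • y) x = Tv f u y c x := by
  unfold Rho Tv
  rw [hq.smul, hy, hq.sym.smul_left]
  module

/-- composition of Siegel transformations with the same centre -/
theorem ourho_rho_rho (hq : QF Q f) {u y y' : Fin n → F} (hu : Q u = 0) (hy : f u y = 0)
    (hy' : f u y' = 0) (x : Fin n → F) :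
    Rho Q f u y (Rho Q f u y' x) = Rho Q f u (y + y') x := by
  have hf := hq.sym
  have huu : f u u = 0 := by rw [f_self hq, hu, mul_zero]
  have hyu : f y u = 0 := by rw [s_symm hf, hy]
  unfold Rho
  simp only [f_add_right hf, f_sub_right hf, s_smul_right hf, hf.add_left, hq.polar, huu, hy, hy', hyu]
  module

/-- RHO -/
theorem rho_ex (hq : QF Q f) (vf : VFacts Q f) (hG : SgGroupQ Q f G) {u : Fin n → F} (hu : Q u = 0)
    (hu0 : u ≠ 0) (y : Fin n → F) (hy : f u y = 0) : ∃ g ∈ G, IsRho Q f g u y := by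
  have hf := hq.sym
  have hyu : f y u = 0 := by rw [s_symm hf, hy]
  obtain ⟨y₁, y₂, hsum, hQ1, hQ2, h1, h2⟩ := vf.decomp u y hu hu0 hyu
  have h1' : f u y₁ = 0 := by rw [s_symm hf, h1]
  have h2' : f u y₂ = 0 := by rw [s_symm hf, h2]
  obtain ⟨t₁, ht₁⟩ := hG.ex u y₁ 1 hu hQ1 h1'
  obtain ⟨t₂, ht₂⟩ := hG.ex u y₂ 1 hu hQ2 h2'
  have ht₁G := hG.sg t₁ u y₁ 1 hu hQ1 h1' ht₁
  have ht₂G := hG.sg t₂ u y₂ 1 hu hQ2 h2' ht₂
  refine ⟨t₂ * t₁, G.mul_mem ht₂G ht₁G, ?_⟩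
  intro x
  have huu : f u u = 0 := by rw [f_self hq, hu, mul_zero]
  rw [Cfsg.Agent.S5643.mul_mv, ht₁ x, ht₂, rho_formula hf u y₁ y₂ huu h1 h2 x]
  unfold Rho
  rw [← hsum, hq.polar, hQ1, hQ2]
  module

theorem rho_mul (hq : QF Q f) {u y y' : Fin n → F} (hu : Q u = 0) (hy : f u y = 0) (hy' : f u y' = 0)
    {g g' : Matrix.GeneralLinearGroup (Fin n) F} (hg : IsRho Q f g u y) (hg' : IsRho Q f g' u y') :
    IsRho Q f (g * g') u (y + y') := by
  intro x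
  rw [Cfsg.Agent.S5643.mul_mv, hg' x, hg, ourho_rho_rho hq hu hy hy']

theorem rho_conj (hq : QF Q f) {k g : Matrix.GeneralLinearGroup (Fin n) F}
    (hk : ∀ x, Q ((k : Matrix (Fin n) (Fin n) F) *ᵥ x) = Q x) {u y : Fin n → F}
    (hg : IsRho Q f g u y) :
    IsRho Q f (k * g * k⁻¹) ((k : Matrix (Fin n) (Fin n) F) *ᵥ u)
      ((k : Matrix (Fin n) (Fin n) F) *ᵥ y) := by
  intro x
  set x₀ := ((k⁻¹ : Matrix.GeneralLinearGroup (Fin n) F) : Matrix (Fin n) (Fin n) F) *ᵥ x with hx₀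
  have hkx : (k : Matrix (Fin n) (Fin n) F) *ᵥ x₀ = x := Cfsg.Agent.S5643.inv_mv' k x
  rw [Cfsg.Agent.S5643.mul_mv, Cfsg.Agent.S5643.mul_mv, ← hx₀, hg x₀]
  unfold Rho
  rw [Matrix.mulVec_sub, Matrix.mulVec_sub, Matrix.mulVec_add, Matrix.mulVec_smul, Matrix.mulVec_smul,
    Matrix.mulVec_smul, hkx, hk y]
  have e1 : f ((k : Matrix (Fin n) (Fin n) F) *ᵥ u) x = f u x₀ := by
    rw [← hkx, iso_f hq k hk]
  have e2 : f ((k : Matrix (Fin n) (Fin n) F) *ᵥ y) x = f y x₀ := by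
    rw [← hkx, iso_f hq k hk]
  rw [e1, e2]

theorem rho_sg (hq : QF Q f) {g : Matrix.GeneralLinearGroup (Fin n) F} {u y : Fin n → F} (c : F)
    (hy : Q y = 0) : IsRho Q f g u (c • y) ↔ IsSg f g u y c := by
  constructor
  · intro h x
    rw [h x, ourho_rho_smul hq u y x c hy]
  · intro h x
    rw [h x, ourho_rho_smul hq u y x c hy]

end Cfsg.Agent.Lib.Helper19.OU
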