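import Mathlib
import Cfsg.Prelude.Def_GeometricClasses
import Cfsg.Agent.Lib.Helper19.OU.Defs

set_option autoImplicit false
set_option linter.unusedVariables false
set_option linter.unusedSectionVars false

/-!
# Project OU (leader helper19) -> S5700, piece KLIN (helper20) : the nine `kl_*` statements of the row, VERBATIM vs
`Helper19/OU/Skel.lean.txt`: `kl_indep kl_theta_mem kl_sup_theta_mem kl_le kl_symm kl_exchange kl_finrank_le kl_sup_finrank_le kl_li2`.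
Extras: `ouklin_sq_mv` (`θ (θ x) = t θ x - N x`), `ouklin_norm_ne` (`(a, b) ≠ 0 → a² + a b t + b² N ≠ 0`),
`ouklin_key` (`(a + b t) y - b θ y = (a² + a b t + b² N) x` for `y = a x + b θ x`), `ouklin_mem_kl` (`a x + b θ x ∈ K x`).
-/

namespace Cfsg.Agent.Lib.Helper19.OU

open Matrix Cfsg.Agent.Lib.Helper28.HForm Cfsg.Agent.Lib.Helper28.OGen
  Cfsg.Agent.Lib.Helper28.OMax Cfsg.Agent.Lib.Helper28.OQ Cfsg.Agent.Lib.Helper28.OMax2
  Cfsg.Agent.Lib.Helper28.OIwa Cfsg.Agent.Lib.Helper28.OPair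

variable {n : ℕ} {F : Type*} [Field F] {Q : (Fin n → F) → F}
  {f : (Fin n → F) → (Fin n → F) → F} {θ : Matrix (Fin n) (Fin n) F} {t N : F}
  {G M : Subgroup (Matrix.GeneralLinearGroup (Fin n) F)}

/-- `θ (θ x) = t θ x - N x` -/
theorem ouklin_sq_mv (ks : KS Q f θ t N) (x : Fin n → F) :
    θ *ᵥ (θ *ᵥ x) = t • (θ *ᵥ x) - N • x := by
  rw [Matrix.mulVec_mulVec, ks.sq, Matrix.sub_mulVec, Matrix.smul_mulVec, Matrix.smul_mulVec,
    Matrix.one_mulVec]

/-- the norm form of `F[θ]` is anisotropic -/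
theorem ouklin_norm_ne (ks : KS Q f θ t N) {a b : F} (hab : a ≠ 0 ∨ b ≠ 0) :
    a * a + a * b * t + b * b * N ≠ 0 := by
  intro h
  by_cases hb : b = 0
  · subst hb
    have ha : a ≠ 0 := by
      rcases hab with h' | h'
      · exact h'
      · exact absurd rfl h'
    have : a * a = 0 := by simpa using h
    exact ha (mul_self_eq_zero.mp this)
  · apply ks.irr (-a / b)
    field_simp
    linear_combination h

/-- `θ (a x + b θ x) = (-(b N)) x + (a + b t) θ x` -/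
theorem ouklin_theta_comb (ks : KS Q f θ t N) (a b : F) (x : Fin n → F) :
    θ *ᵥ (a • x + b • (θ *ᵥ x)) = (-(b * N)) • x + (a + b * t) • (θ *ᵥ x) := by
  rw [Matrix.mulVec_add, Matrix.mulVec_smul, Matrix.mulVec_smul, ouklin_sq_mv ks]
  module

/-- the key identity : multiplying `y = (a + b θ) x` by the conjugate `a + b t - b θ` gives the norm times `x` -/
theorem ouklin_key (ks : KS Q f θ t N) (a b : F) (x : Fin n → F) :
    (a + b * t) • (a • x + b • (θ *ᵥ x)) - b • (θ *ᵥ (a • x + b • (θ *ᵥ x))) =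
      (a * a + a * b * t + b * b * N) • x := by
  rw [ouklin_theta_comb ks]
  module

theorem ouklin_mem_kl (θ : Matrix (Fin n) (Fin n) F) (a b : F) (x : Fin n → F) :
    a • x + b • (θ *ᵥ x) ∈ Kl θ x :=
  Submodule.mem_span_pair.mpr ⟨a, b, rfl⟩

/-- KLIN -/
theorem kl_indep (ks : KS Q f θ t N) (W : Submodule F (Fin n → F)) (hW : ∀ x ∈ W, θ *ᵥ x ∈ W)
    {x : Fin n → F} (hx : x ∉ W) (a b : F) (h : a • x + b • (θ *ᵥ x) ∈ W) : a = 0 ∧ b = 0 := by
  by_contra hcon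
  have hab : a ≠ 0 ∨ b ≠ 0 := by
    by_contra h'
    push Not at h'
    exact hcon h'
  have hc := ouklin_norm_ne ks hab
  have h1 : (a + b * t) • (a • x + b • (θ *ᵥ x)) - b • (θ *ᵥ (a • x + b • (θ *ᵥ x))) ∈ W :=
    W.sub_mem (W.smul_mem _ h) (W.smul_mem _ (hW _ h))
  rw [ouklin_key ks] at h1
  apply hx
  have h2 := W.smul_mem (a * a + a * b * t + b * b * N)⁻¹ h1
  rwa [smul_smul, inv_mul_cancel₀ hc, one_smul] at h2

theorem kl_theta_mem (ks : KS Q f θ t N) {u x : Fin n → F} (hx : x ∈ Kl θ u) : θ *ᵥ x ∈ Kl θ u := by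
  obtain ⟨a, b, rfl⟩ := Submodule.mem_span_pair.mp hx
  rw [ouklin_theta_comb ks]
  exact ouklin_mem_kl θ _ _ u

theorem kl_sup_theta_mem (ks : KS Q f θ t N) {u v x : Fin n → F} (hx : x ∈ Kl θ u ⊔ Kl θ v) :
    θ *ᵥ x ∈ Kl θ u ⊔ Kl θ v := by
  obtain ⟨y, hy, z, hz, rfl⟩ := Submodule.mem_sup.mp hx
  rw [Matrix.mulVec_add]
  exact Submodule.add_mem_sup (kl_theta_mem ks hy) (kl_theta_mem ks hz)

/-- `K x ≤ K u` for `x ∈ K u` -/
theorem kl_le (ks : KS Q f θ t N) {u x : Fin n → F} (hx : x ∈ Kl θ u) : Kl θ x ≤ Kl θ u := by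
  apply Submodule.span_le.mpr
  intro y hy
  rcases hy with rfl | hy
  · exact hx
  · rw [Set.mem_singleton_iff] at hy
    rw [hy]
    exact kl_theta_mem ks hx

/-- `x ≠ 0`, `x ∈ K u` : `u ∈ K x` -/
theorem kl_symm (ks : KS Q f θ t N) {u x : Fin n → F} (hx0 : x ≠ 0) (hx : x ∈ Kl θ u) : u ∈ Kl θ x := by
  obtain ⟨a, b, rfl⟩ := Submodule.mem_span_pair.mp hx
  have hab : a ≠ 0 ∨ b ≠ 0 := by
    by_contra h'
    push Not at h'
    apply hx0
    rw [h'.1, h'.2, zero_smul, zero_smul, add_zero]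
  have hc := ouklin_norm_ne ks hab
  have h1 : (a + b * t) • (a • u + b • (θ *ᵥ u)) - b • (θ *ᵥ (a • u + b • (θ *ᵥ u))) ∈
      Kl θ (a • u + b • (θ *ᵥ u)) := by
    have := ouklin_mem_kl θ (a + b * t) (-b) (a • u + b • (θ *ᵥ u))
    rwa [neg_smul, ← sub_eq_add_neg] at this
  rw [ouklin_key ks] at h1
  have h2 := (Kl θ (a • u + b • (θ *ᵥ u))).smul_mem (a * a + a * b * t + b * b * N)⁻¹ h1
  rwa [smul_smul, inv_mul_cancel₀ hc, one_smul] at h2

/-- exchange : `W` `θ`-stable, `v ∉ W`, `v ∈ W ⊔ K w` : `w ∈ W ⊔ K v` -/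
theorem kl_exchange (ks : KS Q f θ t N) (W : Submodule F (Fin n → F)) (hW : ∀ x ∈ W, θ *ᵥ x ∈ W)
    {v w : Fin n → F} (hv : v ∉ W) (h : v ∈ W ⊔ Kl θ w) : w ∈ W ⊔ Kl θ v := by
  obtain ⟨w0, hw0, z, hz, hvz⟩ := Submodule.mem_sup.mp h
  obtain ⟨a, b, rfl⟩ := Submodule.mem_span_pair.mp hz
  have hab : a ≠ 0 ∨ b ≠ 0 := by
    by_contra h'
    push Not at h'
    apply hv
    rw [← hvz, h'.1, h'.2, zero_smul, zero_smul, add_zero, add_zero]
    exact hw0
  have hc := ouklin_norm_ne ks hab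
  have hkw : a • w + b • (θ *ᵥ w) = v - w0 := by rw [← hvz]; abel
  have hkey := ouklin_key ks a b w
  rw [hkw, Matrix.mulVec_sub] at hkey
  have h1 : (a * a + a * b * t + b * b * N) • w ∈ W ⊔ Kl θ v := by
    rw [← hkey]
    have e : (a + b * t) • (v - w0) - b • (θ *ᵥ v - θ *ᵥ w0) =
        (-((a + b * t) • w0) + b • (θ *ᵥ w0)) + ((a + b * t) • v + (-b) • (θ *ᵥ v)) := by module
    rw [e]
    exact Submodule.add_mem_sup (W.add_mem (W.neg_mem (W.smul_mem _ hw0)) (W.smul_mem _ (hW _ hw0)))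
      (ouklin_mem_kl θ _ _ v)
  have h2 := (W ⊔ Kl θ v).smul_mem (a * a + a * b * t + b * b * N)⁻¹ h1
  rwa [smul_smul, inv_mul_cancel₀ hc, one_smul] at h2

theorem kl_finrank_le (θ : Matrix (Fin n) (Fin n) F) (u : Fin n → F) : Module.finrank F (Kl θ u) ≤ 2 := by
  have h : Kl θ u = Submodule.span F (Set.range ![u, θ *ᵥ u]) := by
    unfold Kl
    congr 1
    ext y
    simp only [Set.mem_insert_iff, Set.mem_singleton_iff, Set.mem_range]
    constructor
    · rintro (rfl | rfl)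
      · exact ⟨0, rfl⟩
      · exact ⟨1, rfl⟩
    · rintro ⟨i, rfl⟩
      fin_cases i
      · left; rfl
      · right; rfl
  rw [h]
  exact (finrank_range_le_card (R := F) ![u, θ *ᵥ u]).trans (by simp)

theorem kl_sup_finrank_le (θ : Matrix (Fin n) (Fin n) F) (u v : Fin n → F) :
    Module.finrank F (Kl θ u ⊔ Kl θ v : Submodule F (Fin n → F)) ≤ 4 := by
  have h1 := Submodule.finrank_add_le_finrank_add_finrank (Kl θ u) (Kl θ v)
  have h2 := kl_finrank_le θ u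
  have h3 := kl_finrank_le θ v
  omega

theorem kl_li2 (ks : KS Q f θ t N) {u : Fin n → F} (hu : u ≠ 0) :
    LinearIndependent F ![u, θ *ᵥ u] := by
  rw [LinearIndependent.pair_iff]
  intro a b h
  apply kl_indep ks ⊥ (fun x hx => by rw [(Submodule.mem_bot F).mp hx, Matrix.mulVec_zero]; exact Submodule.zero_mem _)
    (fun h' => hu ((Submodule.mem_bot F).mp h')) a b
  rw [h]
  exact Submodule.zero_mem _

end Cfsg.Agent.Lib.Helper19.OU
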