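import Cfsg.Agent.Lib.Helper1.PLK.Defs

/-!
# Project PLK (helper1, S2480), row Z2 (helper20), VERBATIM: `|Z(SL_n(F))| = gcd n (q - 1)`.
-/

set_option autoImplicit false

namespace Cfsg.Agent.Lib.Helper1.PLK

open Polynomial
open Cfsg.Agent.Lib.Helper29.GLK
open Cfsg.Agent.Lib.Helper1.SLK

universe u

/-- Z2 [M]. -/
theorem card_center_sl {F : Type u} [Field F] [Fintype F] (n : ℕ) (hn : 1 ≤ n) :
    Nat.card (Subgroup.center (Matrix.SpecialLinearGroup (Fin n) F)) =
      Nat.gcd n (Fintype.card F - 1) := by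
  have e := Matrix.SpecialLinearGroup.center_equiv_rootsOfUnity (n := Fin n) (R := F)
  rw [Nat.card_congr e.toEquiv, Fintype.card_fin, max_eq_left hn, rootsOfUnity_eq_ker,
    IsCyclic.card_powMonoidHom_ker, Nat.card_units, Nat.card_eq_fintype_card, Nat.gcd_comm]

end Cfsg.Agent.Lib.Helper1.PLK
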