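import Cfsg.Agent.Lib.Helper1.PLK.Defs

/-!
# Project PLK (helper1, S2480), row Z1a (helper20), VERBATIM: `fixedBy` of `czAction` is `czFix`.
-/

set_option autoImplicit false

namespace Cfsg.Agent.Lib.Helper1.PLK

open Polynomial
open Cfsg.Agent.Lib.Helper29.GLK
open Cfsg.Agent.Lib.Helper1.SLK

universe u

/-- Z1a [S-M]. -/
theorem czFix_eq_fixedBy {S : Type*} [Group S] (z : Subgroup.center S) :
    letI := czAction S
    MulAction.fixedBy (ConjClasses S) z = czFix (z : S) := by
  letI := czAction S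
  ext C
  rw [MulAction.mem_fixedBy]
  obtain ⟨x, rfl⟩ := ConjClasses.mk_surjective C
  show czSmul z (ConjClasses.mk x) = ConjClasses.mk x ↔ _
  rw [czSmul_mk, ConjClasses.mk_eq_mk_iff_isConj]
  constructor
  · intro h
    exact ⟨x, rfl, h⟩
  · rintro ⟨y, hy, hc⟩
    rw [ConjClasses.mk_eq_mk_iff_isConj] at hy
    obtain ⟨c, hc'⟩ := hy
    have hz : ∀ g : S, (z : S) * g = g * (z : S) := fun g =>
      (Subgroup.mem_center_iff.mp z.2 g).symm
    have h1 : IsConj ((z : S) * y) ((z : S) * x) := by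
      refine ⟨c, ?_⟩
      show (c : S) * ((z : S) * y) = (z : S) * x * (c : S)
      have hc'' : (c : S) * y = x * (c : S) := hc'
      rw [← mul_assoc, ← hz, mul_assoc, hc'', mul_assoc]
    exact (h1.symm.trans hc).trans ⟨c, hc'⟩

end Cfsg.Agent.Lib.Helper1.PLK
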