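import Mathlib
import Cfsg.Prelude.Def_Characters
import Cfsg.Agent.Lib.helper7.PM2.Defs
import Cfsg.Agent.Lib.helper7.CharTools
import Cfsg.Agent.Lib.Helper11.GaloisConj

/-!
# Project PM2 (S4705), piece POW (helper20): power maps prime to the group order permute the irreducible
characters; power maps preserve class functions.
-/

set_option autoImplicit false
set_option linter.unusedVariables false
set_option linter.unusedSectionVars false

namespace Cfsg.Agent.Lib.helper7.PM2

open scoped ComplexConjugate

universe u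

variable {G : Type u} [Group G] [Fintype G]

/-- POW : power maps prime to the group order permute the irreducible characters -/
theorem pw_irr {χ : G → ℂ} (hχ : Cfsg.IsIrrCharacter G χ) (k : ℕ) (hk : Nat.Coprime k (Nat.card G)) :
    Cfsg.IsIrrCharacter G (pw χ k) := by
  obtain ⟨τ, hτ⟩ := Cfsg.Agent.Lib.Helper11.exists_ringAut_pow (Nat.card G) k Nat.card_pos hk
  have h1 := Cfsg.Agent.Lib.Helper11.isIrrCharacter_ringAut τ hχ
  have h2 : (fun g => τ (χ g)) = pw χ k := by
    funext g
    rw [pw_apply]
    exact Cfsg.Agent.Lib.Helper11.ringAut_character_apply τ k hτ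
      (Cfsg.Agent.Lib.helper7.h7_irr_isCharacter hχ) g
  rw [← h2]
  exact h1

/-- POW -/
theorem pw_classFunction {χ : G → ℂ} (hχ : Cfsg.IsClassFunction G χ) (k : ℕ) :
    Cfsg.IsClassFunction G (pw χ k) := by
  intro g h
  rw [pw_apply, pw_apply]
  have h1 : (h * g * h⁻¹) ^ k = h * g ^ k * h⁻¹ := conj_pow
  rw [h1]
  exact hχ _ _

end Cfsg.Agent.Lib.helper7.PM2
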