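import Mathlib
import Cfsg.Prelude.Def_Characters
import Cfsg.Agent.Lib.helper7.PM2.Defs
import Cfsg.Agent.Lib.helper7.CharTools

/-!
# Project PM2 (S4705), piece UNIQ (helper20): two irreducible characters agreeing on a set carrying more than
half of the norm are equal.
-/

set_option autoImplicit false
set_option linter.unusedVariables false
set_option linter.unusedSectionVars false

namespace Cfsg.Agent.Lib.helper7.PM2

open scoped ComplexConjugate

universe u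

variable {G : Type u} [Group G] [Fintype G]

/-- the sum of `‖χ‖²` over the group is `|G|` for an irreducible character -/
theorem pm2uniq_norm {χ : G → ℂ} (hχ : Cfsg.IsIrrCharacter G χ) :
    ∑ g : G, ‖χ g‖ ^ 2 = (Nat.card G : ℝ) := by
  have h1 := Cfsg.Agent.Lib.helper7.h7_irr_norm hχ
  unfold Cfsg.classInner at h1
  have hc : (Nat.card G : ℂ) ≠ 0 := by
    have : 0 < Nat.card G := Nat.card_pos
    exact_mod_cast this.ne'
  have h2 : ∑ g : G, χ g * conj (χ g) = (Nat.card G : ℂ) := by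
    field_simp at h1
    exact h1
  have h3 : ∀ g : G, χ g * conj (χ g) = ((‖χ g‖ ^ 2 : ℝ) : ℂ) := by
    intro g
    rw [Complex.mul_conj']
    push_cast
    rfl
  simp_rw [h3] at h2
  rw [← Complex.ofReal_sum] at h2
  exact_mod_cast h2

/-- UNIQ : two irreducible characters agreeing on a set carrying more than half of the norm are equal -/
theorem uniq_of_agree {χ χ' : G → ℂ} (hχ : Cfsg.IsIrrCharacter G χ) (hχ' : Cfsg.IsIrrCharacter G χ')
    (S : Finset G) (hS : ∀ g ∈ S, χ g = χ' g)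
    (hbig : (Nat.card G : ℝ) / 2 < ∑ g ∈ S, ‖χ g‖ ^ 2) : χ = χ' := by
  classical
  by_contra hne
  have hc : (Nat.card G : ℂ) ≠ 0 := by
    have : 0 < Nat.card G := Nat.card_pos
    exact_mod_cast this.ne'
  -- orthogonality
  have h0 := Cfsg.Agent.Lib.helper7.h7_irr_inner_ne hχ hχ' hne
  have h0' := Cfsg.Agent.Lib.helper7.h7_irr_inner_ne hχ' hχ (fun h => hne h.symm)
  unfold Cfsg.classInner at h0 h0'
  have h1 : ∑ g : G, χ g * conj (χ' g) = 0 := by
    rcases mul_eq_zero.mp h0 with h | h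
    · exact absurd (inv_eq_zero.mp h) hc
    · exact h
  have h1' : ∑ g : G, χ' g * conj (χ g) = 0 := by
    rcases mul_eq_zero.mp h0' with h | h
    · exact absurd (inv_eq_zero.mp h) hc
    · exact h
  have hn := pm2uniq_norm hχ
  have hn' := pm2uniq_norm hχ'
  -- the norm of the difference
  have h2 : ∑ g : G, ‖χ g - χ' g‖ ^ 2 = 2 * (Nat.card G : ℝ) := by
    have h3 : ∀ g : G, ((‖χ g - χ' g‖ ^ 2 : ℝ) : ℂ) =
        ((‖χ g‖ ^ 2 : ℝ) : ℂ) - χ g * conj (χ' g) - χ' g * conj (χ g) + ((‖χ' g‖ ^ 2 : ℝ) : ℂ) := by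
      intro g
      have e1 : ((‖χ g - χ' g‖ ^ 2 : ℝ) : ℂ) = (χ g - χ' g) * conj (χ g - χ' g) := by
        rw [Complex.mul_conj']; push_cast; rfl
      have e2 : ((‖χ g‖ ^ 2 : ℝ) : ℂ) = χ g * conj (χ g) := by
        rw [Complex.mul_conj']; push_cast; rfl
      have e3 : ((‖χ' g‖ ^ 2 : ℝ) : ℂ) = χ' g * conj (χ' g) := by
        rw [Complex.mul_conj']; push_cast; rfl
      rw [e1, e2, e3, map_sub]
      ring
    have h4 : ((∑ g : G, ‖χ g - χ' g‖ ^ 2 : ℝ) : ℂ) = ((2 * (Nat.card G : ℝ) : ℝ) : ℂ) := by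
      rw [Complex.ofReal_sum]
      simp_rw [h3]
      rw [Finset.sum_add_distrib, Finset.sum_sub_distrib, Finset.sum_sub_distrib, h1, h1',
        ← Complex.ofReal_sum, ← Complex.ofReal_sum, hn, hn']
      push_cast
      ring
    exact_mod_cast h4
  -- the bound
  have h5 : ∀ g : G, ‖χ g - χ' g‖ ^ 2 ≤
      (if g ∈ S then 0 else 2 * ‖χ g‖ ^ 2 + 2 * ‖χ' g‖ ^ 2) := by
    intro g
    by_cases hg : g ∈ S
    · rw [if_pos hg, hS g hg, sub_self, norm_zero]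
      norm_num
    · rw [if_neg hg]
      have e1 : ‖χ g - χ' g‖ ≤ ‖χ g‖ + ‖χ' g‖ := norm_sub_le _ _
      have e2 : 0 ≤ ‖χ g - χ' g‖ := norm_nonneg _
      nlinarith [sq_nonneg (‖χ g‖ - ‖χ' g‖), norm_nonneg (χ g), norm_nonneg (χ' g)]
  have h6 : ∑ g : G, ‖χ g - χ' g‖ ^ 2 ≤
      ∑ g : G, (if g ∈ S then 0 else 2 * ‖χ g‖ ^ 2 + 2 * ‖χ' g‖ ^ 2) :=
    Finset.sum_le_sum fun g _ => h5 g
  have h7 : ∑ g : G, (if g ∈ S then 0 else 2 * ‖χ g‖ ^ 2 + 2 * ‖χ' g‖ ^ 2) =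
      2 * (Nat.card G : ℝ) + 2 * (Nat.card G : ℝ) - 4 * ∑ g ∈ S, ‖χ g‖ ^ 2 := by
    have e1 : ∀ g : G, (if g ∈ S then 0 else 2 * ‖χ g‖ ^ 2 + 2 * ‖χ' g‖ ^ 2) =
        (2 * ‖χ g‖ ^ 2 + 2 * ‖χ' g‖ ^ 2) - (if g ∈ S then 4 * ‖χ g‖ ^ 2 else 0) := by
      intro g
      by_cases hg : g ∈ S
      · rw [if_pos hg, if_pos hg, ← hS g hg]; ring
      · rw [if_neg hg, if_neg hg]; ring
    simp_rw [e1]
    rw [Finset.sum_sub_distrib, Finset.sum_add_distrib, ← Finset.mul_sum, ← Finset.mul_sum, hn, hn',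
      Finset.sum_ite_mem, Finset.univ_inter, ← Finset.mul_sum]
  rw [h2, h7] at h6
  linarith

end Cfsg.Agent.Lib.helper7.PM2
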