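import Mathlib
import Cfsg.Prelude.Def_Characters
import Cfsg.Agent.Lib.helper2.CharNat

/-!
# Project PM2, piece SQ: the symmetric and the alternating square of a character are characters

`(χ(g)^2 + χ(g^2)) / 2` and `(χ(g)^2 - χ(g^2)) / 2` are characters: they are afforded by the
`±1`-eigenspaces of the swap on `V ⊗ V`, realised on functions on `Fin n × Fin n` with Kronecker
products of matrices.
-/

set_option autoImplicit false

namespace Cfsg.Agent.Lib.helper7.PM2

open Matrix
open scoped Kronecker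

/-- the swap matrix on pairs -/
def pm2sq_S (n : ℕ) : Matrix (Fin n × Fin n) (Fin n × Fin n) ℂ :=
  Matrix.of fun a b => if b = a.swap then (1 : ℂ) else 0

theorem pm2sq_S_mul (n : ℕ) (A : Matrix (Fin n × Fin n) (Fin n × Fin n) ℂ)
    (a c : Fin n × Fin n) : (pm2sq_S n * A) a c = A a.swap c := by
  rw [Matrix.mul_apply, Finset.sum_eq_single a.swap]
  · simp [pm2sq_S]
  · intro b _ hb
    simp [pm2sq_S, hb]
  · intro h
    exact absurd (Finset.mem_univ _) h

theorem pm2sq_mul_S (n : ℕ) (A : Matrix (Fin n × Fin n) (Fin n × Fin n) ℂ)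
    (a c : Fin n × Fin n) : (A * pm2sq_S n) a c = A a c.swap := by
  rw [Matrix.mul_apply, Finset.sum_eq_single c.swap]
  · simp [pm2sq_S]
  · intro b _ hb
    have : c ≠ b.swap := by
      intro h
      apply hb
      rw [h, Prod.swap_swap]
    simp [pm2sq_S, this]
  · intro h
    exact absurd (Finset.mem_univ _) h

theorem pm2sq_S_sq (n : ℕ) : pm2sq_S n * pm2sq_S n = 1 := by
  ext a c
  rw [pm2sq_S_mul]
  simp only [pm2sq_S, Matrix.of_apply, Prod.swap_swap, Matrix.one_apply]
  by_cases h : a = c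
  · simp [h]
  · have : c ≠ a := fun h' => h h'.symm
    simp [h, this]

theorem pm2sq_S_comm (n : ℕ) (M : Matrix (Fin n) (Fin n) ℂ) :
    pm2sq_S n * (M ⊗ₖ M) = (M ⊗ₖ M) * pm2sq_S n := by
  ext ⟨i, j⟩ ⟨k, l⟩
  rw [pm2sq_S_mul, pm2sq_mul_S]
  simp only [Prod.swap_prod_mk, Matrix.kroneckerMap_apply]
  ring

theorem pm2sq_trace_S (n : ℕ) (M : Matrix (Fin n) (Fin n) ℂ) :
    Matrix.trace ((M ⊗ₖ M) * pm2sq_S n) = Matrix.trace (M * M) := by
  simp only [Matrix.trace, Matrix.diag_apply, pm2sq_mul_S]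
  rw [Fintype.sum_prod_type]
  refine Finset.sum_congr rfl fun i _ => ?_
  rw [Matrix.mul_apply]
  refine Finset.sum_congr rfl fun j _ => ?_
  simp only [Prod.swap_prod_mk, Matrix.kroneckerMap_apply]

/-- core: for `ε = ± 1`, the function `(χ(g)^2 + ε χ(g^2)) / 2` is a character -/
theorem pm2sq_core {G : Type*} [Group G] {chi : G → ℂ} (h : Cfsg.IsCharacter G chi) (ε : ℂ)
    (hε : ε * ε = 1) :
    Cfsg.IsCharacter G (fun g => (chi g ^ 2 + ε * chi (g ^ 2)) / 2) := by
  classical
  obtain ⟨n, ρ, rfl⟩ := h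
  set M : G → Matrix (Fin n) (Fin n) ℂ := fun g => LinearMap.toMatrix' (ρ g) with hM
  have hM1 : M 1 = 1 := by
    simp only [hM, map_one]
    exact LinearMap.toMatrix'_one
  have hMmul : ∀ g h : G, M (g * h) = M g * M h := by
    intro g h
    simp only [hM, map_mul]
    exact LinearMap.toMatrix'_mul _ _
  have hchar : ∀ g : G, ρ.character g = Matrix.trace (M g) := by
    intro g
    simp only [Representation.character, hM]
    rw [LinearMap.trace_eq_matrix_trace ℂ (Pi.basisFun ℂ (Fin n)), LinearMap.toMatrix_eq_toMatrix']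
  set K : G → Matrix (Fin n × Fin n) (Fin n × Fin n) ℂ := fun g => M g ⊗ₖ M g with hK
  have hK1 : K 1 = 1 := by
    simp only [hK, hM1]
    exact Matrix.one_kronecker_one
  have hKmul : ∀ g h : G, K (g * h) = K g * K h := by
    intro g h
    simp only [hK, hMmul]
    exact Matrix.mul_kronecker_mul _ _ _ _
  set S := pm2sq_S n with hS
  have hSS : S * S = 1 := pm2sq_S_sq n
  have hSK : ∀ g : G, S * K g = K g * S := fun g => pm2sq_S_comm n (M g)
  set P : Matrix (Fin n × Fin n) (Fin n × Fin n) ℂ := (2 : ℂ)⁻¹ • (1 + ε • S) with hP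
  have hPP : P * P = P := by
    rw [hP, Matrix.smul_mul, Matrix.mul_smul, Matrix.add_mul, Matrix.mul_add, Matrix.mul_add,
      Matrix.one_mul, Matrix.mul_one, Matrix.one_mul, Matrix.smul_mul, Matrix.mul_smul, hSS,
      smul_smul, smul_smul, hε, one_smul]
    ext a c
    simp only [Matrix.smul_apply, Matrix.add_apply, smul_eq_mul]
    ring
  have hPK : ∀ g : G, P * K g = K g * P := by
    intro g
    rw [hP, Matrix.smul_mul, Matrix.mul_smul, Matrix.add_mul, Matrix.mul_add, Matrix.one_mul,
      Matrix.mul_one, Matrix.smul_mul, Matrix.mul_smul, hSK]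
  let E : Submodule ℂ (Fin n × Fin n → ℂ) := LinearMap.range (Matrix.toLin' P)
  have hinv : ∀ g : G, ∀ x ∈ E, Matrix.toLin' (K g) x ∈ E := by
    rintro g _ ⟨y, rfl⟩
    refine ⟨Matrix.toLin' (K g) y, ?_⟩
    rw [← LinearMap.comp_apply, ← Matrix.toLin'_mul, hPK, Matrix.toLin'_mul, LinearMap.comp_apply]
  let ρE : Representation ℂ G E :=
    { toFun := fun g => (Matrix.toLin' (K g)).restrict (hinv g)
      map_one' := by
        apply LinearMap.ext
        intro x
        apply Subtype.ext
        rw [LinearMap.coe_restrict_apply, hK1, Matrix.toLin'_one]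
        rfl
      map_mul' := by
        intro g h
        apply LinearMap.ext
        intro x
        apply Subtype.ext
        rw [LinearMap.coe_restrict_apply, hKmul, Matrix.toLin'_mul]
        rfl }
  have hρE : ∀ g : G, ρE g = (Matrix.toLin' (K g)).restrict (hinv g) := fun g => rfl
  have hchE := Cfsg.Agent.Lib.helper2.isCharacter_of_rep ρE
  have hfun : (fun g => (ρ.character g ^ 2 + ε * ρ.character (g ^ 2)) / 2) = ρE.character := by
    funext g
    show (ρ.character g ^ 2 + ε * ρ.character (g ^ 2)) / 2 = LinearMap.trace ℂ E (ρE g)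
    -- the trace of the restriction
    let π : (Fin n × Fin n → ℂ) →ₗ[ℂ] E := (Matrix.toLin' P).rangeRestrict
    let ι : E →ₗ[ℂ] (Fin n × Fin n → ℂ) := E.subtype
    have hπι : π ∘ₗ ι = LinearMap.id := by
      apply LinearMap.ext
      rintro ⟨_, ⟨y, rfl⟩⟩
      apply Subtype.ext
      show Matrix.toLin' P (Matrix.toLin' P y) = Matrix.toLin' P y
      rw [← LinearMap.comp_apply, ← Matrix.toLin'_mul, hPP]
    have h1 : ρE g = (ρE g ∘ₗ π) ∘ₗ ι := by
      rw [LinearMap.comp_assoc, hπι, LinearMap.comp_id]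
    have h2 : ι ∘ₗ (ρE g ∘ₗ π) = Matrix.toLin' (K g * P) := by
      apply LinearMap.ext
      intro y
      rw [Matrix.toLin'_mul]
      rfl
    rw [h1, LinearMap.trace_comp_comm', h2, Matrix.trace_toLin'_eq, hchar, hchar, pow_two g,
      hMmul, ← pm2sq_trace_S n (M g), hP, Matrix.mul_smul, Matrix.mul_add, Matrix.mul_one,
      Matrix.mul_smul, Matrix.trace_smul, Matrix.trace_add, Matrix.trace_smul]
    have h3 : Matrix.trace (K g) = Matrix.trace (M g) * Matrix.trace (M g) :=
      Matrix.trace_kronecker _ _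
    rw [h3]
    simp only [smul_eq_mul]
    ring
  rw [hfun]
  exact hchE

/-- the alternating square of a character is a character -/
theorem pm2_altSq {G : Type*} [Group G] {chi : G → ℂ} (h : Cfsg.IsCharacter G chi) :
    Cfsg.IsCharacter G (fun g => (chi g ^ 2 - chi (g ^ 2)) / 2) := by
  have h1 := pm2sq_core h (-1) (by norm_num)
  have h2 : (fun g => (chi g ^ 2 + (-1 : ℂ) * chi (g ^ 2)) / 2) =
      (fun g => (chi g ^ 2 - chi (g ^ 2)) / 2) := by
    funext g
    ring
  rwa [h2] at h1

/-- the symmetric square of a character is a character -/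
theorem pm2_symSq {G : Type*} [Group G] {chi : G → ℂ} (h : Cfsg.IsCharacter G chi) :
    Cfsg.IsCharacter G (fun g => (chi g ^ 2 + chi (g ^ 2)) / 2) := by
  have h1 := pm2sq_core h 1 (by norm_num)
  have h2 : (fun g => (chi g ^ 2 + (1 : ℂ) * chi (g ^ 2)) / 2) =
      (fun g => (chi g ^ 2 + chi (g ^ 2)) / 2) := by
    funext g
    ring
  rwa [h2] at h1

end Cfsg.Agent.Lib.helper7.PM2
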