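import Mathlib
import Cfsg.Agent.Lib.helper7.REE.Defs

/-!
# Project REE (helper7), row G4K (`cent_t_A1`), core: `C(t) ∩ C(c) = E` for `c ∈ A₁ ∖ 1`, from the needed parts of the statements of
`L_basic`, `A1_basic`, `V_basic`, `D_cent`, `D_basic`, `E_basic` (as hypotheses).
-/

set_option autoImplicit false

namespace Cfsg.Agent.Lib.helper7.REE

open Matrix Cfsg.Agent.Lib.helper8

universe u v

namespace ReeAx

variable {G : Type u} [Group G] [Finite G] {K : Type v} [Field K] [Fintype K] {m : ℕ}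

theorem reeg4k_core (R : ReeAx G K m)
    (hL : ∀ c : G, R.t * c = c * R.t → c ∈ R.L ∨ ∃ l ∈ R.L, c = R.t * l)
    (hA1D : R.A1 ≤ R.D) (hVA : R.V ⊓ R.A1 = ⊥) (hn0V : R.n0 ∈ R.V)
    (hDcent : ∀ d ∈ R.D, d ≠ 1 → d ≠ R.n0 → ∀ l ∈ R.L, l * d = d * l → l ∈ R.D)
    (htD : ∀ d ∈ R.D, R.t * d = d * R.t)
    (hE : ∀ e, e ∈ R.E ↔ e ∈ R.D ∨ ∃ d ∈ R.D, e = R.t * d)
    (c : G) (hc : c ∈ R.A1) (hc1 : c ≠ 1) (g : G)
    (hgt : g * R.t = R.t * g) (hgc : g * c = c * g) : g ∈ R.E := by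
  have hcD : c ∈ R.D := hA1D hc
  have hcn : c ≠ R.n0 := by
    intro h
    have h1 : c ∈ R.V ⊓ R.A1 := ⟨h ▸ hn0V, hc⟩
    rw [hVA, Subgroup.mem_bot] at h1
    exact hc1 h1
  rcases hL g hgt.symm with hgL | ⟨l, hlL, rfl⟩
  · exact (hE g).2 (Or.inl (hDcent c hcD hc1 hcn g hgL hgc))
  · have htc := htD c hcD
    have hlc : l * c = c * l := by
      have h1 : R.t * (l * c) = R.t * (c * l) := by
        calc R.t * (l * c) = R.t * l * c := by rw [mul_assoc]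
          _ = c * (R.t * l) := hgc
          _ = c * R.t * l := by rw [mul_assoc]
          _ = R.t * c * l := by rw [htc]
          _ = R.t * (c * l) := by rw [mul_assoc]
      exact mul_left_cancel h1
    exact (hE _).2 (Or.inr ⟨l, hDcent c hcD hc1 hcn l hlL hlc, rfl⟩)

end ReeAx

end Cfsg.Agent.Lib.helper7.REE
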