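import Mathlib
import Cfsg.Agent.Lib.helper7.REE.Defs
import Cfsg.Agent.Lib.Helper20.REEG4Kcore
import Cfsg.Agent.Lib.helper8.REEG4A
import Cfsg.Agent.Lib.Helper16.REEG4E
import Cfsg.Agent.Lib.Helper16.REEG4F
import Cfsg.Agent.Lib.helper4.REEG4H
import Cfsg.Agent.Lib.Helper13.REEG4I
import Cfsg.Agent.Lib.Helper13.REEG4J

/-!
# Project REE (helper7), row G4K (`cent_t_A1`): `C(t) ∩ C(c) = E` for `c ∈ A₁ ∖ 1`
(`reeg4k_core` + `L_basic`, `A1_basic`, `V_basic`, `D_cent`, `D_basic`, `E_basic`).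
-/

set_option autoImplicit false

namespace Cfsg.Agent.Lib.helper7.REE

open Matrix Cfsg.Agent.Lib.helper8

universe u v

namespace ReeAx

variable {G : Type u} [Group G] [Finite G] {K : Type v} [Field K] [Fintype K] {m : ℕ}

/-- G4K. `C(t) ∩ C(c) = E` for `c ∈ A₁ ∖ 1`. -/
theorem cent_t_A1 (R : ReeAx G K m) (c : G) (hc : c ∈ R.A1) (hc1 : c ≠ 1) (g : G)
    (hgt : g * R.t = R.t * g) (hgc : g * c = c * g) : g ∈ R.E := by
  obtain ⟨hL1, -, -, -, -, -, -⟩ := L_basic R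
  obtain ⟨-, -, -, hA1D, -, hVA, -⟩ := A1_basic R
  obtain ⟨hV, -, -, -, -, -, -, -, -⟩ := V_basic R
  obtain ⟨-, -, -, -, -, htD, -⟩ := D_basic R
  obtain ⟨-, -, -, hE, -, -, -, -, -, -⟩ := E_basic R
  exact reeg4k_core R (fun c h => (hL1 c).1 h) hA1D hVA ((hV _).2 (Or.inr (Or.inr (Or.inl rfl))))
    (fun d hd h1 hn l hl hc => D_cent R d hd h1 hn l hl hc) htD hE c hc hc1 g hgt hgc

end ReeAx

end Cfsg.Agent.Lib.helper7.REE
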