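import Mathlib
import Cfsg.Agent.Lib.helper7.REE.Defs

/-!
# Project REE (helper7), row G5C (`NV_fix`), core: an element normalising `V` and fixing one of its involutions centralises `V`,
from the needed parts of the statements of `V_basic`, `L_basic`, `rho_exists` (as hypotheses).
-/

set_option autoImplicit false

namespace Cfsg.Agent.Lib.helper7.REE

open Matrix Cfsg.Agent.Lib.helper8

universe u v

namespace ReeAx

variable {G : Type u} [Group G] [Finite G] {K : Type v} [Field K] [Fintype K] {m : ℕ}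

/-- the case of `t` -/
theorem reeg5c_t (R : ReeAx G K m)
    (hV : ∀ v, v ∈ R.V ↔ v = 1 ∨ v = R.t ∨ v = R.n0 ∨ v = R.t * R.n0)
    (hn1 : R.n0 ≠ 1) (hVL : ∀ v ∈ R.V, v ∈ R.L → v = 1 ∨ v = R.n0)
    (hL : ∀ c : G, R.t * c = c * R.t → c ∈ R.L ∨ ∃ l ∈ R.L, c = R.t * l)
    (hn0L : R.n0 ∈ R.L) (htL : ∀ l ∈ R.L, R.t * l = l * R.t)
    (g : G) (hg : ∀ v ∈ R.V, g * v * g⁻¹ ∈ R.V) (hfix : g * R.t * g⁻¹ = R.t) :
    ∀ v ∈ R.V, g * v = v * g := by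
  have hgt : g * R.t = R.t * g := by
    have := congrArg (· * g) hfix
    simpa [mul_assoc] using this
  have hn0V : R.n0 ∈ R.V := (hV _).2 (Or.inr (Or.inr (Or.inl rfl)))
  have hconjV := hg R.n0 hn0V
  have hconjL : g * R.n0 * g⁻¹ ∈ R.L := by
    rcases hL g hgt.symm with hgL | ⟨l, hlL, rfl⟩
    · exact R.L.mul_mem (R.L.mul_mem hgL hn0L) (R.L.inv_mem hgL)
    · have h1 : l * R.n0 * l⁻¹ ∈ R.L := R.L.mul_mem (R.L.mul_mem hlL hn0L) (R.L.inv_mem hlL)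
      have h2 := htL _ h1
      have h3 : R.t * l * R.n0 * (R.t * l)⁻¹ = R.t * (l * R.n0 * l⁻¹) * R.t⁻¹ := by group
      rw [h3, h2, mul_inv_cancel_right]
      exact h1
  have hgn : g * R.n0 = R.n0 * g := by
    rcases hVL _ hconjV hconjL with h | h
    · exfalso
      apply hn1
      have h1 : g⁻¹ * (g * R.n0 * g⁻¹) * g = R.n0 := by group
      rw [h] at h1
      rw [← h1]
      group
    · have := congrArg (· * g) h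
      simpa [mul_assoc] using this
  intro v hv
  rcases (hV v).1 hv with rfl | rfl | rfl | rfl
  · rw [mul_one, one_mul]
  · exact hgt
  · exact hgn
  · rw [← mul_assoc, hgt, mul_assoc, hgn, mul_assoc]

/-- transport along an element `σ` normalising `V` -/
theorem reeg5c_transport (R : ReeAx G K m) (σ s : G)
    (hσV : ∀ v ∈ R.V, σ * v * σ⁻¹ ∈ R.V) (hσV' : ∀ v ∈ R.V, σ⁻¹ * v * σ ∈ R.V)
    (hs : σ * R.t * σ⁻¹ = s)
    (case1 : ∀ g : G, (∀ v ∈ R.V, g * v * g⁻¹ ∈ R.V) → g * R.t * g⁻¹ = R.t → ∀ v ∈ R.V, g * v = v * g)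
    (g : G) (hg : ∀ v ∈ R.V, g * v * g⁻¹ ∈ R.V) (hfix : g * s * g⁻¹ = s) :
    ∀ v ∈ R.V, g * v = v * g := by
  have h1 : ∀ v ∈ R.V, (σ⁻¹ * g * σ) * v * (σ⁻¹ * g * σ)⁻¹ ∈ R.V := by
    intro v hv
    have h2 := hσV' _ (hg _ (hσV v hv))
    have h3 : σ⁻¹ * g * σ * v * (σ⁻¹ * g * σ)⁻¹ = σ⁻¹ * (g * (σ * v * σ⁻¹) * g⁻¹) * σ := by group
    rw [h3]
    exact h2
  have h2 : (σ⁻¹ * g * σ) * R.t * (σ⁻¹ * g * σ)⁻¹ = R.t := by
    have h3 : σ⁻¹ * g * σ * R.t * (σ⁻¹ * g * σ)⁻¹ = σ⁻¹ * (g * (σ * R.t * σ⁻¹) * g⁻¹) * σ := by group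
    rw [h3, hs, hfix, ← hs]
    group
  have h4 := case1 _ h1 h2
  intro v hv
  have h5 := h4 _ (hσV' v hv)
  have h6 : g * v = σ * ((σ⁻¹ * g * σ) * (σ⁻¹ * v * σ)) * σ⁻¹ := by group
  have h7 : v * g = σ * ((σ⁻¹ * v * σ) * (σ⁻¹ * g * σ)) * σ⁻¹ := by group
  rw [h6, h7, h5]

theorem reeg5c_core (R : ReeAx G K m)
    (hV : ∀ v, v ∈ R.V ↔ v = 1 ∨ v = R.t ∨ v = R.n0 ∨ v = R.t * R.n0)
    (htn : R.t * R.n0 = R.n0 * R.t)
    (hn1 : R.n0 ≠ 1) (hVL : ∀ v ∈ R.V, v ∈ R.L → v = 1 ∨ v = R.n0)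
    (hL : ∀ c : G, R.t * c = c * R.t → c ∈ R.L ∨ ∃ l ∈ R.L, c = R.t * l)
    (hn0L : R.n0 ∈ R.L) (htL : ∀ l ∈ R.L, R.t * l = l * R.t)
    (hρ : ∃ ρ : G, ρ * R.t * ρ⁻¹ = R.n0 ∧ ρ * R.n0 * ρ⁻¹ = R.t * R.n0)
    (g : G) (hg : ∀ v ∈ R.V, g * v * g⁻¹ ∈ R.V)
    (hfix : g * R.t * g⁻¹ = R.t ∨ g * R.n0 * g⁻¹ = R.n0 ∨
      g * (R.t * R.n0) * g⁻¹ = R.t * R.n0) :
    ∀ v ∈ R.V, g * v = v * g := by
  have case1 := fun g hg hfix => reeg5c_t R hV hn1 hVL hL hn0L htL g hg hfix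
  obtain ⟨ρ, hρt, hρn⟩ := hρ
  have hnn : R.n0 * R.n0 = 1 := R.n0_sq
  have htt : R.t * R.t = 1 := R.t_sq
  have hρtn : ρ * (R.t * R.n0) * ρ⁻¹ = R.t := by
    have h1 : ρ * (R.t * R.n0) * ρ⁻¹ = (ρ * R.t * ρ⁻¹) * (ρ * R.n0 * ρ⁻¹) := by group
    rw [h1, hρt, hρn, ← mul_assoc, ← htn, mul_assoc, hnn, mul_one]
  -- the inverse direction
  have hρt' : ρ⁻¹ * R.t * ρ = R.t * R.n0 := by
    calc ρ⁻¹ * R.t * ρ = ρ⁻¹ * (ρ * (R.t * R.n0) * ρ⁻¹) * ρ := by rw [hρtn]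
      _ = R.t * R.n0 := by group
  have hρn' : ρ⁻¹ * R.n0 * ρ = R.t := by
    calc ρ⁻¹ * R.n0 * ρ = ρ⁻¹ * (ρ * R.t * ρ⁻¹) * ρ := by rw [hρt]
      _ = R.t := by group
  have hρtn' : ρ⁻¹ * (R.t * R.n0) * ρ = R.n0 := by
    calc ρ⁻¹ * (R.t * R.n0) * ρ = ρ⁻¹ * (ρ * R.n0 * ρ⁻¹) * ρ := by rw [hρn]
      _ = R.n0 := by group
  have hmemt : R.t ∈ R.V := (hV _).2 (Or.inr (Or.inl rfl))
  have hmemn : R.n0 ∈ R.V := (hV _).2 (Or.inr (Or.inr (Or.inl rfl)))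
  have hmemtn : R.t * R.n0 ∈ R.V := (hV _).2 (Or.inr (Or.inr (Or.inr rfl)))
  have hρV : ∀ v ∈ R.V, ρ * v * ρ⁻¹ ∈ R.V := by
    intro v hv
    rcases (hV v).1 hv with rfl | rfl | rfl | rfl
    · rw [mul_one, mul_inv_cancel]; exact R.V.one_mem
    · rw [hρt]; exact hmemn
    · rw [hρn]; exact hmemtn
    · rw [hρtn]; exact hmemt
  have hρV' : ∀ v ∈ R.V, ρ⁻¹ * v * ρ ∈ R.V := by
    intro v hv
    rcases (hV v).1 hv with rfl | rfl | rfl | rfl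
    · rw [mul_one, inv_mul_cancel]; exact R.V.one_mem
    · rw [hρt']; exact hmemtn
    · rw [hρn']; exact hmemt
    · rw [hρtn']; exact hmemn
  rcases hfix with h | h | h
  · exact case1 g hg h
  · exact reeg5c_transport R ρ R.n0 hρV hρV' hρt case1 g hg h
  · refine reeg5c_transport R ρ⁻¹ (R.t * R.n0) ?_ ?_ ?_ case1 g hg h
    · intro v hv
      rw [inv_inv]
      exact hρV' v hv
    · intro v hv
      rw [inv_inv]
      exact hρV v hv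
    · rw [inv_inv]
      exact hρt'

end ReeAx

end Cfsg.Agent.Lib.helper7.REE
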