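import Mathlib
import Cfsg.Agent.Lib.helper7.REE.Defs
import Cfsg.Agent.Lib.Helper20.REEG5Ccore
import Cfsg.Agent.Lib.helper8.REEG4A
import Cfsg.Agent.Lib.helper4.REEG4H
import Cfsg.Agent.Lib.helper4.REEG5B

/-!
# Project REE (helper7), row G5C (`NV_fix`): an element normalising `V` and fixing one of its involutions centralises `V`
(`reeg5c_core` + `V_basic`, `L_basic`, `rho_exists`).
-/

set_option autoImplicit false

namespace Cfsg.Agent.Lib.helper7.REE

open Matrix Cfsg.Agent.Lib.helper8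

universe u v

namespace ReeAx

variable {G : Type u} [Group G] [Finite G] {K : Type v} [Field K] [Fintype K] {m : ℕ}

/-- G5C. An element normalising `V` and fixing one of its involutions centralises `V`
(for `t`: `g n0 g⁻¹ ∈ V ∩ L = {1, n0}`; the other two by conjugating with `ρ`). -/
theorem NV_fix (R : ReeAx G K m) (g : G) (hg : ∀ v ∈ R.V, g * v * g⁻¹ ∈ R.V)
    (hfix : g * R.t * g⁻¹ = R.t ∨ g * R.n0 * g⁻¹ = R.n0 ∨
      g * (R.t * R.n0) * g⁻¹ = R.t * R.n0) :
    ∀ v ∈ R.V, g * v = v * g := by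
  obtain ⟨hL1, -, -, -, hn0L, htL, -⟩ := L_basic R
  obtain ⟨hV, -, htn, -, hn1, -, -, -, hVL⟩ := V_basic R
  exact reeg5c_core R hV htn hn1 hVL (fun c h => (hL1 c).1 h) hn0L htL (rho_exists R) g hg hfix

end ReeAx

end Cfsg.Agent.Lib.helper7.REE
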