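import Mathlib
import Cfsg.Agent.Lib.helper7.REE.Defs

/-!
# Project REE (helper7), row GENA (`ti_count_rel`, `ti_count`): counting the union of the conjugates of a TI-set.
-/

set_option autoImplicit false

namespace Cfsg.Agent.Lib.helper7.REE

open Matrix Polynomial Cfsg.Agent.Lib.helper8

universe u v

section GEN

variable {G : Type u} [Group G] [Finite G]

/-- the double counting: `|X| * |N| = |M| * |Δ|` -/
theorem reegena_mul (M N : Subgroup G) (hNM : N ≤ M) (Δ : Set G)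
    (hN : ∀ n ∈ N, ∀ d ∈ Δ, n * d * n⁻¹ ∈ Δ)
    (hTI : ∀ g ∈ M, ∀ d ∈ Δ, g * d * g⁻¹ ∈ Δ → g ∈ N) :
    Nat.card {x : G // ∃ g ∈ M, ∃ d ∈ Δ, x = g * d * g⁻¹} * Nat.card N =
      Nat.card M * Nat.card Δ := by
  classical
  -- a section
  have hsec : ∀ x : {x : G // ∃ g ∈ M, ∃ d ∈ Δ, x = g * d * g⁻¹},
      ∃ p : ↥M × ↥Δ, (x : G) = (p.1 : G) * (p.2 : G) * (p.1 : G)⁻¹ := by
    rintro ⟨x, g, hg, d, hd, rfl⟩
    exact ⟨(⟨g, hg⟩, ⟨d, hd⟩), rfl⟩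
  choose s hs using hsec
  -- the bijection
  let f : {x : G // ∃ g ∈ M, ∃ d ∈ Δ, x = g * d * g⁻¹} × ↥N → ↥M × ↥Δ := fun xn =>
    (⟨((s xn.1).1 : G) * (xn.2 : G), M.mul_mem (s xn.1).1.2 (hNM xn.2.2)⟩,
      ⟨(xn.2 : G)⁻¹ * ((s xn.1).2 : G) * (xn.2 : G), by
        have := hN (xn.2 : G)⁻¹ (N.inv_mem xn.2.2) ((s xn.1).2 : G) (s xn.1).2.2
        rwa [inv_inv] at this⟩)
  have hfx : ∀ xn, (((f xn).1 : ↥M) : G) * (((f xn).2 : ↥Δ) : G) * (((f xn).1 : ↥M) : G)⁻¹ = (xn.1 : G) := by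
    intro xn
    rw [hs xn.1]
    show ((s xn.1).1 : G) * (xn.2 : G) * ((xn.2 : G)⁻¹ * ((s xn.1).2 : G) * (xn.2 : G)) *
      (((s xn.1).1 : G) * (xn.2 : G))⁻¹ = _
    group
  have hbij : Function.Bijective f := by
    constructor
    · intro xn xn' h
      have h1 : (xn.1 : G) = (xn'.1 : G) := by rw [← hfx xn, ← hfx xn', h]
      have h2 : xn.1 = xn'.1 := Subtype.ext h1
      have h3 := congrArg (fun p : ↥M × ↥Δ => ((p.1 : ↥M) : G)) h
      simp only [f] at h3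
      rw [h2] at h3
      have h4 : (xn.2 : G) = (xn'.2 : G) := mul_left_cancel h3
      exact Prod.ext h2 (Subtype.ext h4)
    · rintro ⟨⟨g, hg⟩, ⟨d, hd⟩⟩
      let x : {x : G // ∃ g ∈ M, ∃ d ∈ Δ, x = g * d * g⁻¹} := ⟨g * d * g⁻¹, g, hg, d, hd, rfl⟩
      have hx := hs x
      have hxv : (x : G) = g * d * g⁻¹ := rfl
      -- `n = g₀⁻¹ g ∈ N`
      have hn : ((s x).1 : G)⁻¹ * g ∈ N := by
        apply hTI _ (M.mul_mem (M.inv_mem (s x).1.2) hg) d hd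
        have h1 : ((s x).1 : G)⁻¹ * g * d * (((s x).1 : G)⁻¹ * g)⁻¹ =
            ((s x).1 : G)⁻¹ * (g * d * g⁻¹) * ((s x).1 : G) := by group
        rw [h1, ← hxv, hx]
        have h2 : ((s x).1 : G)⁻¹ * (((s x).1 : G) * ((s x).2 : G) * ((s x).1 : G)⁻¹) * ((s x).1 : G) =
            ((s x).2 : G) := by group
        rw [h2]
        exact (s x).2.2
      refine ⟨(x, ⟨((s x).1 : G)⁻¹ * g, hn⟩), ?_⟩
      apply Prod.ext
      · apply Subtype.ext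
        show ((s x).1 : G) * (((s x).1 : G)⁻¹ * g) = g
        group
      · apply Subtype.ext
        show (((s x).1 : G)⁻¹ * g)⁻¹ * ((s x).2 : G) * (((s x).1 : G)⁻¹ * g) = d
        have h1 : (((s x).1 : G)⁻¹ * g)⁻¹ * ((s x).2 : G) * (((s x).1 : G)⁻¹ * g) =
            g⁻¹ * (((s x).1 : G) * ((s x).2 : G) * ((s x).1 : G)⁻¹) * g := by group
        rw [h1, ← hx, hxv]
        group
  have := Nat.card_congr (Equiv.ofBijective f hbij)
  rw [Nat.card_prod, Nat.card_prod] at this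
  exact this

/-- GENA'. Relative version of `ti_count`: conjugates under a subgroup `M`
(`ti_count` is the case `M = ⊤`). -/
theorem ti_count_rel (M N : Subgroup G) (hNM : N ≤ M) (Δ : Set G)
    (hN : ∀ n ∈ N, ∀ d ∈ Δ, n * d * n⁻¹ ∈ Δ)
    (hTI : ∀ g ∈ M, ∀ d ∈ Δ, g * d * g⁻¹ ∈ Δ → g ∈ N) :
    Nat.card {x : G // ∃ g ∈ M, ∃ d ∈ Δ, x = g * d * g⁻¹} =
      (Nat.card M / Nat.card N) * Nat.card Δ := by
  have h := reegena_mul M N hNM Δ hN hTI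
  obtain ⟨k, hk⟩ := Subgroup.card_dvd_of_le hNM
  have hNpos : 0 < Nat.card N := Nat.card_pos
  rw [hk, Nat.mul_div_cancel_left _ hNpos]
  rw [hk] at h
  have h2 : Nat.card {x : G // ∃ g ∈ M, ∃ d ∈ Δ, x = g * d * g⁻¹} * Nat.card N =
      (k * Nat.card Δ) * Nat.card N := by
    rw [h]; ring
  exact Nat.eq_of_mul_eq_mul_right hNpos h2

/-- GENA. Counting the union of the conjugates of a "TI-set" `Δ` with normaliser `N`. -/
theorem ti_count (N : Subgroup G) (Δ : Set G) (hN : ∀ n ∈ N, ∀ d ∈ Δ, n * d * n⁻¹ ∈ Δ)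
    (hTI : ∀ g : G, ∀ d ∈ Δ, g * d * g⁻¹ ∈ Δ → g ∈ N) :
    Nat.card {x : G // ∃ g : G, ∃ d ∈ Δ, x = g * d * g⁻¹} =
      (Nat.card G / Nat.card N) * Nat.card Δ := by
  have h := ti_count_rel (⊤ : Subgroup G) N le_top Δ hN (fun g _ d hd hgd => hTI g d hd hgd)
  rw [Subgroup.card_top] at h
  rw [← h]
  apply Nat.card_congr
  apply Equiv.subtypeEquivRight
  intro x
  constructor
  · rintro ⟨g, d, hd, rfl⟩
    exact ⟨g, Subgroup.mem_top g, d, hd, rfl⟩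
  · rintro ⟨g, -, d, hd, rfl⟩
    exact ⟨g, d, hd, rfl⟩

end GEN

end Cfsg.Agent.Lib.helper7.REE
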