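import Mathlib

set_option autoImplicit false

namespace Cfsg.Agent.Lib.Helper20.CycNorm

variable {G : Type*} [Group G]

/-- `z ^ (a + p * s) = z ^ a` when `z ^ p = 1`. -/
theorem zpow_add_mul_of_pow_eq_one {z : G} {p : ℕ} (hz : z ^ p = 1) (a s : ℤ) :
    z ^ (a + (p : ℤ) * s) = z ^ a := by
  rw [zpow_add, zpow_mul, zpow_natCast, hz, one_zpow, mul_one]

theorem zpow_eq_of_sub_eq_mul {z : G} {p : ℕ} (hz : z ^ p = 1) {a a' s : ℤ}
    (h : a = a' + (p : ℤ) * s) : z ^ a = z ^ a' := by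
  rw [h, zpow_add_mul_of_pow_eq_one hz]

/-- the subgroup `⟨z⟩⟨z'⟩` for commuting `z`, `z'`. -/
def span2 (z z' : G) (hc : Commute z z') : Subgroup G where
  carrier := {w | ∃ m n : ℤ, w = z ^ m * z' ^ n}
  one_mem' := ⟨0, 0, by simp⟩
  mul_mem' := by
    rintro _ _ ⟨m, n, rfl⟩ ⟨m', n', rfl⟩
    refine ⟨m + m', n + n', ?_⟩
    have h1 : Commute (z' ^ n) (z ^ m') := (hc.symm.zpow_zpow n m')
    calc z ^ m * z' ^ n * (z ^ m' * z' ^ n') = z ^ m * (z' ^ n * z ^ m') * z' ^ n' := by group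
      _ = z ^ m * (z ^ m' * z' ^ n) * z' ^ n' := by rw [h1.eq]
      _ = z ^ (m + m') * z' ^ (n + n') := by rw [zpow_add, zpow_add]; group
  inv_mem' := by
    rintro _ ⟨m, n, rfl⟩
    refine ⟨-m, -n, ?_⟩
    have h1 : Commute (z ^ m) (z' ^ n) := hc.zpow_zpow m n
    rw [mul_inv_rev, zpow_neg, zpow_neg]
    exact ((h1.inv_inv).eq).symm

theorem mem_span2 {z z' : G} (hc : Commute z z') {w : G} :
    w ∈ span2 z z' hc ↔ ∃ m n : ℤ, w = z ^ m * z' ^ n := Iff.rfl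

theorem left_mem_span2 {z z' : G} (hc : Commute z z') : z ∈ span2 z z' hc :=
  ⟨1, 0, by simp⟩

theorem right_mem_span2 {z z' : G} (hc : Commute z z') : z' ∈ span2 z z' hc :=
  ⟨0, 1, by simp⟩

/-- conjugation by `b` on `z^m z'^n`. -/
theorem conj_span2 {z z' : G} (hc : Commute z z') (b : G) (l : ℤ) (h1 : b * z * b⁻¹ = z)
    (h2 : b * z' * b⁻¹ = z ^ l * z') (m n : ℤ) :
    b * (z ^ m * z' ^ n) * b⁻¹ = z ^ (m + l * n) * z' ^ n := by
  have e : b * (z ^ m * z' ^ n) * b⁻¹ = (b * z * b⁻¹) ^ m * (b * z' * b⁻¹) ^ n := by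
    rw [← MulAut.conj_apply, ← MulAut.conj_apply, ← MulAut.conj_apply, map_mul, map_zpow, map_zpow]
  rw [e, h1, h2]
  have h3 : Commute (z ^ l) z' := hc.zpow_left l
  rw [h3.mul_zpow, ← zpow_mul, zpow_add, mul_assoc]

/-- conjugation by `b'` on `z^m z'^n`. -/
theorem conj_span2' {z z' : G} (hc : Commute z z') (b' : G) (k : ℤ) (h1 : b' * z' * b'⁻¹ = z')
    (h2 : b' * z * b'⁻¹ = z' ^ k * z) (m n : ℤ) :
    b' * (z ^ m * z' ^ n) * b'⁻¹ = z ^ m * z' ^ (n + k * m) := by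
  have e : b' * (z ^ m * z' ^ n) * b'⁻¹ = (b' * z * b'⁻¹) ^ m * (b' * z' * b'⁻¹) ^ n := by
    rw [← MulAut.conj_apply, ← MulAut.conj_apply, ← MulAut.conj_apply, map_mul, map_zpow, map_zpow]
  rw [e, h1, h2]
  have h3 : Commute (z' ^ k) z := hc.symm.zpow_left k
  have h4 : Commute (z' ^ (k * m)) (z ^ m) := hc.symm.zpow_zpow _ _
  rw [h3.mul_zpow, ← zpow_mul, h4.eq, mul_assoc, ← zpow_add, add_comm]

theorem conj_pow_span2' {z z' : G} (hc : Commute z z') (b' : G) (k : ℤ) (h1 : b' * z' * b'⁻¹ = z')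
    (h2 : b' * z * b'⁻¹ = z' ^ k * z) (j : ℕ) (m n : ℤ) :
    b' ^ j * (z ^ m * z' ^ n) * (b' ^ j)⁻¹ = z ^ m * z' ^ (n + (j : ℤ) * k * m) := by
  induction j generalizing n with
  | zero => simp
  | succ j ih =>
    have e : b' ^ (j + 1) * (z ^ m * z' ^ n) * (b' ^ (j + 1))⁻¹ =
        b' ^ j * (b' * (z ^ m * z' ^ n) * b'⁻¹) * (b' ^ j)⁻¹ := by
      rw [pow_succ]; group
    rw [e, conj_span2' hc b' k h1 h2, ih]
    congr 2
    push_cast
    ring

theorem conj_g_span2 {z z' : G} (hc : Commute z z') {p : ℕ} (hz : z ^ p = 1) (hz' : z' ^ p = 1)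
    (b b' : G) (l k : ℤ) (hb1 : b * z * b⁻¹ = z) (hb2 : b * z' * b⁻¹ = z ^ l * z')
    (hb'1 : b' * z' * b'⁻¹ = z') (hb'2 : b' * z * b'⁻¹ = z' ^ k * z) (j : ℕ) (s : ℤ)
    (hj : l * ((j : ℤ) * k) + 1 = (p : ℤ) * s) (m n : ℤ) :
    (b * b' ^ j * b) * (z ^ m * z' ^ n) * (b * b' ^ j * b)⁻¹ =
      z ^ (l * n) * z' ^ ((j : ℤ) * k * m) := by
  have e : (b * b' ^ j * b) * (z ^ m * z' ^ n) * (b * b' ^ j * b)⁻¹ =
      b * (b' ^ j * (b * (z ^ m * z' ^ n) * b⁻¹) * (b' ^ j)⁻¹) * b⁻¹ := by group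
  rw [e, conj_span2 hc b l hb1 hb2, conj_pow_span2' hc b' k hb'1 hb'2, conj_span2 hc b l hb1 hb2]
  have e1 : z ^ (m + l * n + l * (n + (j : ℤ) * k * (m + l * n))) = z ^ (l * n) := by
    apply zpow_eq_of_sub_eq_mul hz (s := s * m + s * l * n)
    linear_combination (m + l * n) * hj
  have e2 : z' ^ (n + (j : ℤ) * k * (m + l * n)) = z' ^ ((j : ℤ) * k * m) := by
    apply zpow_eq_of_sub_eq_mul hz' (s := s * n)
    linear_combination n * hj
  rw [e1, e2]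

theorem conj_gg_span2 {z z' : G} (hc : Commute z z') {p : ℕ} (hz : z ^ p = 1) (hz' : z' ^ p = 1)
    (b b' : G) (l k : ℤ) (hb1 : b * z * b⁻¹ = z) (hb2 : b * z' * b⁻¹ = z ^ l * z')
    (hb'1 : b' * z' * b'⁻¹ = z') (hb'2 : b' * z * b'⁻¹ = z' ^ k * z) (j : ℕ) (s : ℤ)
    (hj : l * ((j : ℤ) * k) + 1 = (p : ℤ) * s) (m n : ℤ) :
    ((b * b' ^ j * b) * (b * b' ^ j * b)) * (z ^ m * z' ^ n) *
      ((b * b' ^ j * b) * (b * b' ^ j * b))⁻¹ = z ^ (-m) * z' ^ (-n) := by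
  have e : ((b * b' ^ j * b) * (b * b' ^ j * b)) * (z ^ m * z' ^ n) *
      ((b * b' ^ j * b) * (b * b' ^ j * b))⁻¹ =
      (b * b' ^ j * b) * ((b * b' ^ j * b) * (z ^ m * z' ^ n) * (b * b' ^ j * b)⁻¹) *
        (b * b' ^ j * b)⁻¹ := by group
  rw [e, conj_g_span2 hc hz hz' b b' l k hb1 hb2 hb'1 hb'2 j s hj,
    conj_g_span2 hc hz hz' b b' l k hb1 hb2 hb'1 hb'2 j s hj]
  have e1 : z ^ (l * ((j : ℤ) * k * m)) = z ^ (-m) := by
    apply zpow_eq_of_sub_eq_mul hz (s := s * m)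
    linear_combination m * hj
  have e2 : z' ^ ((j : ℤ) * k * (l * n)) = z' ^ (-n) := by
    apply zpow_eq_of_sub_eq_mul hz' (s := s * n)
    linear_combination n * hj
  rw [e1, e2]

theorem pow_mul_comm_of_conj (b c w : G) (hbc : b * c * b⁻¹ = w * c) (hbw : b * w * b⁻¹ = w)
    (n : ℕ) : b ^ n * c = w ^ n * c * b ^ n := by
  have hbw' : ∀ k : ℕ, b * w ^ k = w ^ k * b := by
    intro k
    have h1 : b * w = w * b := by
      calc b * w = (b * w * b⁻¹) * b := by group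
        _ = w * b := by rw [hbw]
    exact ((Commute.pow_right (show Commute b w from h1) k)).eq
  have hbc' : b * c = w * c * b := by
    calc b * c = (b * c * b⁻¹) * b := by group
      _ = w * c * b := by rw [hbc]
  induction n with
  | zero => simp
  | succ n ih =>
    calc b ^ (n + 1) * c = b * (b ^ n * c) := by rw [pow_succ']; group
      _ = b * (w ^ n * c * b ^ n) := by rw [ih]
      _ = (b * w ^ n) * c * b ^ n := by group
      _ = w ^ n * (b * c) * b ^ n := by rw [hbw']; group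
      _ = w ^ n * (w * c * b) * b ^ n := by rw [hbc']
      _ = w ^ (n + 1) * c * b ^ (n + 1) := by rw [pow_succ, pow_succ']; group

theorem mul_pow_of_conj (b c w : G) (hbc : b * c * b⁻¹ = w * c) (hbw : b * w * b⁻¹ = w)
    (hcw : c * w = w * c) (n : ℕ) :
    (c * b) ^ n = w ^ (∑ i ∈ Finset.range n, i) * c ^ n * b ^ n := by
  induction n with
  | zero => simp
  | succ n ih =>
    have h1 := pow_mul_comm_of_conj b c w hbc hbw n
    have h2 : c ^ n * w ^ n = w ^ n * c ^ n :=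
      ((Commute.pow_pow (show Commute c w from hcw) n n)).eq
    rw [pow_succ, ih, Finset.sum_range_succ]
    calc w ^ (∑ i ∈ Finset.range n, i) * c ^ n * b ^ n * (c * b)
        = w ^ (∑ i ∈ Finset.range n, i) * c ^ n * (b ^ n * c) * b := by group
      _ = w ^ (∑ i ∈ Finset.range n, i) * c ^ n * (w ^ n * c * b ^ n) * b := by rw [h1]
      _ = w ^ (∑ i ∈ Finset.range n, i) * (c ^ n * w ^ n) * c * b ^ n * b := by group
      _ = w ^ (∑ i ∈ Finset.range n, i) * (w ^ n * c ^ n) * c * b ^ n * b := by rw [h2]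
      _ = w ^ (∑ i ∈ Finset.range n, i + n) * c ^ (n + 1) * b ^ (n + 1) := by
          rw [pow_add, pow_succ, pow_succ]; group

/-- for odd `p`: `(c b)^p = b^p`. -/
theorem mul_pow_prime_of_conj {p : ℕ} (hp : p.Prime) (hp2 : p ≠ 2) (b c w : G)
    (hbc : b * c * b⁻¹ = w * c) (hbw : b * w * b⁻¹ = w) (hcw : c * w = w * c)
    (hcp : c ^ p = 1) (hwp : w ^ p = 1) : (c * b) ^ p = b ^ p := by
  rw [mul_pow_of_conj b c w hbc hbw hcw p, hcp, mul_one]
  obtain ⟨k, hk⟩ := hp.odd_of_ne_two hp2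
  have hsum : ∑ i ∈ Finset.range p, i = p * k := by
    have h := Finset.sum_range_id_mul_two p
    have h2 : p - 1 = 2 * k := by omega
    rw [h2] at h
    have : (∑ i ∈ Finset.range p, i) * 2 = (p * k) * 2 := by rw [h]; ring
    exact Nat.eq_of_mul_eq_mul_right (by norm_num) this
  rw [hsum, pow_mul, hwp, one_pow, one_mul]

end Cfsg.Agent.Lib.Helper20.CycNorm
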