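import Mathlib
import Cfsg.Prelude.Def_Local
import Cfsg.Prelude.Def_CaseTheorems
import Cfsg.Agent.Lib.Helper1.Cores
import Cfsg.Agent.Lib.Helper1.Fitting
import Cfsg.Agent.Lib.Helper5.PConstrDual
import Cfsg.Agent.Lib.Helper13.NPStable
import Cfsg.Agent.Lib.helper17.PClosed
import Cfsg.Agent.Lib.Helper20.CycNormA

set_option autoImplicit false

namespace Cfsg.Agent.Lib.Helper20.CycNorm

universe u

variable {G : Type u} [Group G] [Finite G] {p : ℕ} [Fact p.Prime]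

/-- the preimage of `O_{p'}(G / O_p(G))`. -/
def kk (p : ℕ) (G : Type u) [Group G] : Subgroup G :=
  (Cfsg.pPrimeCore p (G ⧸ Cfsg.pCore p G)).comap (QuotientGroup.mk' (Cfsg.pCore p G))

instance kk_normal : (kk p G).Normal := by
  unfold kk
  infer_instance

theorem pCore_le_kk : Cfsg.pCore p G ≤ kk p G := by
  intro r hr
  unfold kk
  rw [Subgroup.mem_comap]
  have : QuotientGroup.mk' (Cfsg.pCore p G) r = 1 := (QuotientGroup.eq_one_iff r).mpr hr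
  rw [this]
  exact Subgroup.one_mem _

/-- (U0) -/
theorem mem_pCore_of_pow_mem {u : G} (hu : u ∈ kk p G) (k : ℕ) (h : u ^ (p ^ k) ∈ Cfsg.pCore p G) :
    u ∈ Cfsg.pCore p G := by
  have hp : p.Prime := Fact.out
  set π := QuotientGroup.mk' (Cfsg.pCore p G) with hπ
  have h1 : (π u) ^ (p ^ k) = 1 := by
    rw [← map_pow]
    exact (QuotientGroup.eq_one_iff _).mpr h
  have h2 : π u ∈ Cfsg.pPrimeCore p (G ⧸ Cfsg.pCore p G) := hu
  have hcop : (Nat.card (Cfsg.pPrimeCore p (G ⧸ Cfsg.pCore p G))).Coprime p :=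
    Cfsg.Agent.Lib.Helper1.pPrimeCore_card_coprime p
  have h3 : orderOf (π u) ∣ p ^ k := orderOf_dvd_of_pow_eq_one h1
  have h4 : orderOf (π u) ∣ Nat.card (Cfsg.pPrimeCore p (G ⧸ Cfsg.pCore p G)) := by
    have := orderOf_dvd_natCard (⟨π u, h2⟩ : Cfsg.pPrimeCore p (G ⧸ Cfsg.pCore p G))
    rwa [Subgroup.orderOf_mk] at this
  have h5 : orderOf (π u) = 1 := by
    have := Nat.dvd_gcd h4 h3
    rw [Nat.Coprime.gcd_eq_one (Nat.Coprime.pow_right k hcop)] at this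
    exact Nat.dvd_one.mp this
  rw [orderOf_eq_one_iff] at h5
  exact (QuotientGroup.eq_one_iff _).mp h5

theorem card_eq_pow_of_le_pCore (W : Subgroup G) (hW : W ≤ Cfsg.pCore p G) :
    ∃ k : ℕ, Nat.card W = p ^ k := by
  have hR : IsPGroup p (Cfsg.pCore p G) := Cfsg.Agent.Lib.Helper1.pCore_isPGroup p
  have hWp : IsPGroup p W := hR.to_le hW
  exact hWp.exists_card_eq

/-- (U2) -/
theorem mem_pCore_of_two_step
    (hcent : Subgroup.centralizer (Cfsg.pCore p G : Set G) ≤ Cfsg.pCore p G)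
    {u : G} (hu : u ∈ kk p G) (W : Subgroup G) (hW : W ≤ Cfsg.pCore p G)
    (h1 : u ∈ Subgroup.centralizer (W : Set G))
    (h2 : ∀ r ∈ Cfsg.pCore p G, u * r * u⁻¹ * r⁻¹ ∈ W) : u ∈ Cfsg.pCore p G := by
  obtain ⟨k, hk⟩ := card_eq_pow_of_le_pCore W hW
  have h3 := Cfsg.Agent.Lib.Helper13.pow_card_mem_centralizer_of_two_step u h1 h2
  rw [hk] at h3
  exact mem_pCore_of_pow_mem hu k (hcent h3)

theorem pow_comm_mem {R W : Subgroup G} {u : G} (hWn : ∀ w ∈ W, u * w * u⁻¹ ∈ W)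
    (h2 : ∀ r ∈ R, u * r * u⁻¹ * r⁻¹ ∈ W) (n : ℕ) :
    ∀ r ∈ R, u ^ n * r * (u ^ n)⁻¹ * r⁻¹ ∈ W := by
  induction n with
  | zero => intro r _; simp
  | succ n ih =>
    intro r hr
    have e : u ^ (n + 1) * r * (u ^ (n + 1))⁻¹ * r⁻¹ =
        (u * (u ^ n * r * (u ^ n)⁻¹ * r⁻¹) * u⁻¹) * (u * r * u⁻¹ * r⁻¹) := by
      rw [pow_succ']; group
    rw [e]
    exact W.mul_mem (hWn _ (ih r hr)) (h2 r hr)

/-- (U3) -/
theorem mem_pCore_of_three_step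
    (hcent : Subgroup.centralizer (Cfsg.pCore p G : Set G) ≤ Cfsg.pCore p G)
    {u : G} (hu : u ∈ kk p G) (W Z : Subgroup G) (hW : W ≤ Cfsg.pCore p G) (hZW : Z ≤ W)
    (h0 : u ∈ Subgroup.centralizer (Z : Set G))
    (h1 : ∀ w ∈ W, u * w * u⁻¹ * w⁻¹ ∈ Z)
    (h2 : ∀ r ∈ Cfsg.pCore p G, u * r * u⁻¹ * r⁻¹ ∈ W) : u ∈ Cfsg.pCore p G := by
  obtain ⟨k, hk⟩ := card_eq_pow_of_le_pCore Z (le_trans hZW hW)
  have h3 := Cfsg.Agent.Lib.Helper13.pow_card_mem_centralizer_of_two_step u h0 h1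
  rw [hk] at h3
  have hWn : ∀ w ∈ W, u * w * u⁻¹ ∈ W := by
    intro w hw
    have := W.mul_mem (hZW (h1 w hw)) hw
    have e : u * w * u⁻¹ * w⁻¹ * w = u * w * u⁻¹ := by group
    rwa [e] at this
  have h4 := pow_comm_mem hWn h2 (p ^ k)
  have h5 := mem_pCore_of_two_step hcent (Subgroup.pow_mem _ hu (p ^ k)) W hW h3 h4
  exact mem_pCore_of_pow_mem hu k h5

end Cfsg.Agent.Lib.Helper20.CycNorm
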