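import Mathlib
import Cfsg.Agent.Lib.Helper20.CycNormB

set_option autoImplicit false

namespace Cfsg.Agent.Lib.Helper20.CycNorm

universe u

variable {G : Type u} [Group G] [Finite G] {p : ℕ} [Fact p.Prime]

/-- standing hypotheses: `O_p(G)` is elementary abelian and self-centralizing, `G` `p`-solvable. -/
structure Setting (p : ℕ) (G : Type u) [Group G] : Prop where
  solv : Cfsg.IsPSolvable p G
  comm : ∀ r ∈ Cfsg.pCore p G, ∀ s ∈ Cfsg.pCore p G, r * s = s * r
  exp : ∀ r ∈ Cfsg.pCore p G, r ^ p = 1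
  cent : Subgroup.centralizer (Cfsg.pCore p G : Set G) ≤ Cfsg.pCore p G

/-- data for an element `b`. -/
structure BData (p : ℕ) (b : G) : Prop where
  notMem : b ∉ Cfsg.pCore p G
  powMem : b ^ p ∈ Cfsg.pCore p G
  comm : ∀ r ∈ Cfsg.pCore p G, b * r * b⁻¹ * r⁻¹ ∈ Subgroup.zpowers (b ^ p)

omit [Finite G] [Fact p.Prime] in
theorem conj_pow (x b : G) (n : ℕ) : (x * b * x⁻¹) ^ n = x * b ^ n * x⁻¹ := by
  rw [← MulAut.conj_apply, ← MulAut.conj_apply, map_pow]

omit [Finite G] [Fact p.Prime] in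
theorem BData.conj {b : G} (h : BData p b) (x : G) : BData p (x * b * x⁻¹) := by
  have hn : (Cfsg.pCore p G).Normal := Cfsg.pCore_normal p G
  refine ⟨?_, ?_, ?_⟩
  · intro hm
    apply h.notMem
    have := hn.conj_mem _ hm x⁻¹
    have e : x⁻¹ * (x * b * x⁻¹) * x⁻¹⁻¹ = b := by group
    rwa [e] at this
  · rw [conj_pow]
    exact hn.conj_mem _ h.powMem x
  · intro r hr
    have hr' : x⁻¹ * r * x⁻¹⁻¹ ∈ Cfsg.pCore p G := hn.conj_mem _ hr x⁻¹
    obtain ⟨n, hn'⟩ := Subgroup.mem_zpowers_iff.mp (h.comm _ hr')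
    rw [Subgroup.mem_zpowers_iff]
    refine ⟨n, ?_⟩
    rw [conj_pow]
    have e1 : (x * b ^ p * x⁻¹) ^ n = x * (b ^ p) ^ n * x⁻¹ := by
      rw [← MulAut.conj_apply, ← MulAut.conj_apply, map_zpow]
    rw [e1, hn']
    group

omit [Finite G] [Fact p.Prime] in
theorem BData.comm_self {b : G} (_h : BData p b) : b * b ^ p * b⁻¹ = b ^ p := by
  have : b * b ^ p = b ^ p * b := by rw [← pow_succ', ← pow_succ]
  rw [this]; group

omit [Finite G] [Fact p.Prime] in
theorem BData.comm_zpowers {b : G} (h : BData p b) {w : G} (hw : w ∈ Subgroup.zpowers (b ^ p)) :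
    b * w * b⁻¹ = w := by
  obtain ⟨n, rfl⟩ := Subgroup.mem_zpowers_iff.mp hw
  have e1 : b * (b ^ p) ^ n * b⁻¹ = (b * b ^ p * b⁻¹) ^ n := by
    rw [← MulAut.conj_apply, ← MulAut.conj_apply, map_zpow]
  rw [e1, h.comm_self]

omit [Finite G] [Fact p.Prime] in
theorem BData.pow_ne_one (hS : Setting p G) {b : G} (h : BData p b) : b ^ p ≠ 1 := by
  intro h1
  apply h.notMem
  apply hS.cent
  rw [Subgroup.mem_centralizer_iff]
  intro r hr
  have h2 := h.comm r hr
  rw [h1, Subgroup.zpowers_one_eq_bot, Subgroup.mem_bot] at h2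
  have : b * r = r * b := by
    calc b * r = (b * r * b⁻¹ * r⁻¹) * r * b := by group
      _ = r * b := by rw [h2, one_mul]
  exact this.symm

theorem BData.exists_x (hS : Setting p G) {b : G} (h : BData p b) :
    ∃ x ∈ kk p G, b⁻¹ * (x * b * x⁻¹) ∉ Cfsg.pCore p G := by
  by_contra hcon
  push Not at hcon
  apply h.notMem
  have hRn : (Cfsg.pCore p G).Normal := Cfsg.pCore_normal p G
  have hRp : IsPGroup p (Cfsg.pCore p G) := Cfsg.Agent.Lib.Helper1.pCore_isPGroup p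
  set π := QuotientGroup.mk' (Cfsg.pCore p G) with hπ
  have hsolvQ : Cfsg.IsPSolvable p (G ⧸ Cfsg.pCore p G) :=
    Cfsg.Agent.Lib.Helper5.h5_isPSolvable_of_surjective π (QuotientGroup.mk'_surjective _) hS.solv
  have hO : Cfsg.pCore p (G ⧸ Cfsg.pCore p G) = ⊥ := by
    rw [Cfsg.Agent.Lib.helper17.pCore_quotient (Cfsg.pCore p G) hRp, eq_bot_iff]
    rintro _ ⟨r, hr, rfl⟩
    rw [Subgroup.mem_bot]
    exact (QuotientGroup.eq_one_iff r).mpr hr
  have hle := Cfsg.Agent.Lib.Helper5.h5_centralizer_pPrimeCore_le hsolvQ hO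
  have hbK : b ∈ kk p G := by
    show π b ∈ Cfsg.pPrimeCore p (G ⧸ Cfsg.pCore p G)
    apply hle
    rw [Subgroup.mem_centralizer_iff]
    intro kb hkb
    obtain ⟨x, rfl⟩ := QuotientGroup.mk'_surjective (Cfsg.pCore p G) kb
    have hx : x ∈ kk p G := hkb
    have h1 := hcon x hx
    have h2 : π (b⁻¹ * (x * b * x⁻¹)) = 1 := (QuotientGroup.eq_one_iff _).mpr h1
    simp only [map_mul, map_inv] at h2
    calc π x * π b = π b * ((π b)⁻¹ * (π x * π b * (π x)⁻¹)) * π x := by group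
      _ = π b * π x := by rw [h2, mul_one]
  exact mem_pCore_of_pow_mem hbK 1 (by rw [pow_one]; exact h.powMem)

end Cfsg.Agent.Lib.Helper20.CycNorm
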