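import Mathlib
import Cfsg.Agent.Lib.Helper1.Cores
import Cfsg.Agent.Lib.Helper1.Fitting
import Cfsg.Agent.Lib.Helper1.CoprimeGen
import Cfsg.Agent.Lib.Helper5.PConstrDual
import Cfsg.Agent.Lib.Helper5.InvSylow
import Cfsg.Agent.Lib.helper17.PClosed
import Cfsg.Agent.Lib.Helper20.CycNormC
import Cfsg.Agent.Lib.Helper20.HHAbelB

set_option autoImplicit false

/-!
Hall–Higman Theorem B, abelian case: the reduction to an abelian normal `p'`-subgroup and the
consequence for the exponent of `G / O_p(G)`.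
-/

namespace Cfsg.Agent.Lib.Helper20.HHAbel

open scoped IsMulCommutative

universe u

section partH

variable {Γ : Type*} [Group Γ] [Finite Γ] {p : ℕ} [Fact p.Prime]

theorem exists_abelian_moved (hsolv : Cfsg.IsPSolvable p Γ) (hO : Cfsg.pCore p Γ = ⊥)
    (hab : ∀ (q : ℕ) [Fact q.Prime], q ≠ p → ∀ Q : Sylow q Γ,
      ∀ a ∈ (Q : Subgroup Γ), ∀ b ∈ (Q : Subgroup Γ), a * b = b * a)
    (x : Γ) {m : ℕ} (hm : 1 ≤ m) (hx : x ^ p ^ m = 1) (hy : x ^ p ^ (m - 1) ≠ 1) :
    ∃ Z : Subgroup Γ, (∀ z ∈ Z, ∀ z' ∈ Z, z * z' = z' * z) ∧ ¬ p ∣ Nat.card Z ∧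
      (∀ r ∈ Subgroup.zpowers x, ∀ z ∈ Z, r⁻¹ * z * r ∈ Z) ∧
      ∃ z ∈ Z, (x ^ p ^ (m - 1))⁻¹ * z * x ^ p ^ (m - 1) ≠ z := by
  have hp : p.Prime := Fact.out
  set K := Cfsg.pPrimeCore p Γ with hK
  have hKn : K.Normal := Cfsg.pPrimeCore_normal p Γ
  have hKp : (Nat.card K).Coprime p := Cfsg.Agent.Lib.Helper1.pPrimeCore_card_coprime p
  have hC : Subgroup.centralizer (K : Set Γ) ≤ K :=
    Cfsg.Agent.Lib.Helper5.h5_centralizer_pPrimeCore_le hsolv hO
  set y := x ^ p ^ (m - 1) with hydef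
  have hyp : y ^ p = 1 := by
    rw [hydef, ← pow_mul, ← pow_succ, Nat.sub_add_cancel hm, hx]
  have hyK : y ∉ K := by
    intro hyK
    have h1 : orderOf y ∣ p := orderOf_dvd_of_pow_eq_one hyp
    have h2 : orderOf y ∣ Nat.card K := Subgroup.orderOf_dvd_natCard K hyK
    rcases (Nat.dvd_prime hp).mp h1 with h | h
    · exact hy (orderOf_eq_one_iff.mp h)
    · rw [h] at h2
      exact (Nat.Prime.coprime_iff_not_dvd hp).mp hKp.symm h2
  by_contra hcon
  push Not at hcon
  apply hyK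
  apply hC
  set A := Subgroup.zpowers x with hA
  have hAK : A ≤ Subgroup.normalizer (K : Set Γ) := by
    rw [Subgroup.normalizer_eq_top]
    exact le_top
  have hAcard : Nat.card A ∣ p ^ m := by
    rw [hA, Nat.card_zpowers]
    exact orderOf_dvd_of_pow_eq_one hx
  have hcop : (Nat.card A).Coprime (Nat.card K) :=
    Nat.Coprime.coprime_dvd_left hAcard (Nat.Coprime.pow_left m hKp.symm)
  have hsolvA : Group.IsSolvable A := Cfsg.Agent.Lib.Helper1.isSolvable_zpowers x
  have hKC : K ≤ Subgroup.centralizer ({y} : Set Γ) := by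
    apply Cfsg.Agent.Lib.Helper1.sylow_le_imp_le
    intro q hq
    by_cases hqp : q = p
    · subst hqp
      obtain ⟨P⟩ : Nonempty (Sylow q K) := inferInstance
      refine ⟨P, ?_⟩
      obtain ⟨n, hn⟩ := P.isPGroup'.exists_card_eq
      have h1 : q ^ n ∣ Nat.card K := by
        rw [← hn]
        exact Subgroup.card_subgroup_dvd_card _
      have h2 : n = 0 := by
        by_contra hn0
        have : q ∣ Nat.card K := dvd_trans (dvd_pow_self q hn0) h1
        exact (Nat.Prime.coprime_iff_not_dvd hp).mp hKp.symm this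
      rw [h2, pow_zero] at hn
      have h3 : (P : Subgroup K) = ⊥ := Subgroup.eq_bot_of_card_eq _ hn
      rw [h3, Subgroup.map_bot]
      exact bot_le
    · obtain ⟨Q, hQK, hQq, hQn, hQcard⟩ :=
        Cfsg.Agent.Lib.Helper5.exists_invariant_sylow_sub A K hAK hcop hsolvA q
      have hcard : Nat.card (Q.subgroupOf K) = q ^ (Nat.card K).factorization q := by
        rw [← hQcard]
        exact Nat.card_congr (Subgroup.subgroupOfEquivOfLe hQK).toEquiv
      refine ⟨Sylow.ofCard (Q.subgroupOf K) hcard, ?_⟩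
      rw [Sylow.coe_ofCard, Subgroup.map_subgroupOf_eq_of_le hQK]
      -- `Q` is an abelian `p'`-group normalised by `x`
      obtain ⟨S, hS⟩ := hQq.exists_le_sylow
      have hQab : ∀ z ∈ Q, ∀ z' ∈ Q, z * z' = z' * z :=
        fun z hz z' hz' => hab q hqp S z (hS hz) z' (hS hz')
      have hQp : ¬ p ∣ Nat.card Q := by
        rw [hQcard]
        intro h
        have := (Nat.prime_dvd_prime_iff_eq hp hq.out).mp (hp.dvd_of_dvd_pow h)
        exact hqp this.symm
      have hQnorm : ∀ r ∈ Subgroup.zpowers x, ∀ z ∈ Q, r⁻¹ * z * r ∈ Q := by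
        intro r hr z hz
        have h1 := hQn (A.inv_mem hr)
        have h2 := (Subgroup.mem_normalizer_iff.mp h1 z).mp hz
        simpa using h2
      intro z hz
      have h3 := hcon Q hQab hQp hQnorm z hz
      rw [Subgroup.mem_centralizer_iff]
      intro h hh
      rw [Set.mem_singleton_iff] at hh
      rw [hh]
      calc y * z = y * (y⁻¹ * z * y) := by rw [h3]
        _ = z * y := by group
  rw [Subgroup.mem_centralizer_iff]
  intro k hk
  have h1 := Subgroup.mem_centralizer_iff.mp (hKC hk) y (Set.mem_singleton y)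
  exact h1.symm

end partH

section claimS

variable {L : Type u} [Group L] [Finite L] {p : ℕ} [Fact p.Prime]

open Cfsg.Agent.Lib.Helper20.CycNorm

theorem pow_mem_pCore_of_setting (hS : Setting p L)
    (hab : ∀ (q : ℕ) [Fact q.Prime], q ≠ p → ∀ Q : Sylow q L,
      ∀ a ∈ (Q : Subgroup L), ∀ b ∈ (Q : Subgroup L), a * b = b * a)
    (n : ℕ) (P : Sylow p L) (hexp : ∀ g ∈ (P : Subgroup L), g ^ p ^ (n + 1) = 1)
    (x : L) (hx : x ∈ (P : Subgroup L)) : x ^ p ^ n ∈ Cfsg.pCore p L := by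
  have hp : p.Prime := Fact.out
  set V := Cfsg.pCore p L with hVdef
  have hVn : V.Normal := Cfsg.pCore_normal p L
  have hVp : IsPGroup p V := Cfsg.Agent.Lib.Helper1.pCore_isPGroup p
  have hVP : V ≤ (P : Subgroup L) := Cfsg.Agent.Lib.Helper1.pCore_le_sylow p P
  by_contra hnot
  set π := QuotientGroup.mk' V with hπ
  have hπs : Function.Surjective π := QuotientGroup.mk'_surjective V
  set ξ := π x with hξ
  have hξ1 : ξ ^ p ^ (n + 1) = 1 := by
    rw [hξ, ← map_pow, hexp x hx, map_one]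
  have hξ2 : ξ ^ p ^ (n + 1 - 1) ≠ 1 := by
    rw [Nat.add_sub_cancel, hξ, ← map_pow]
    intro h
    exact hnot ((QuotientGroup.eq_one_iff _).mp h)
  have hΓsolv : Cfsg.IsPSolvable p (L ⧸ V) :=
    Cfsg.Agent.Lib.Helper5.h5_isPSolvable_of_surjective π hπs hS.solv
  have hΓO : Cfsg.pCore p (L ⧸ V) = ⊥ := by
    rw [Cfsg.Agent.Lib.helper17.pCore_quotient V hVp]
    exact QuotientGroup.map_mk'_self V
  have hΓab : ∀ (q : ℕ) [Fact q.Prime], q ≠ p → ∀ Q : Sylow q (L ⧸ V),
      ∀ a ∈ (Q : Subgroup (L ⧸ V)), ∀ b ∈ (Q : Subgroup (L ⧸ V)), a * b = b * a := by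
    intro q _ hqp Qb a ha b hb
    obtain ⟨Q, rfl⟩ := Sylow.mapSurjective_surjective hπs q Qb
    rw [Sylow.coe_mapSurjective] at ha hb
    obtain ⟨a', ha', rfl⟩ := ha
    obtain ⟨b', hb', rfl⟩ := hb
    rw [← map_mul, ← map_mul, hab q hqp Q a' ha' b' hb']
  obtain ⟨Z, hZab, hZp, hZn, hZy⟩ :=
    exists_abelian_moved hΓsolv hΓO hΓab ξ (Nat.succ_le_succ (Nat.zero_le n)) hξ1 hξ2
  -- the action on `V`
  haveI : IsMulCommutative V := isMulCommutative_iff.mpr
    (fun a b => Subtype.ext (hS.comm a a.2 b b.2))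
  have hker : ∀ g ∈ V, (MulAut.conjNormal g : MulAut V) = 1 := by
    intro g hg
    apply MulEquiv.ext
    intro v
    apply Subtype.ext
    rw [MulAut.conjNormal_apply, MulAut.one_apply]
    rw [hS.comm g hg v v.2]
    group
  obtain ⟨φ, hφ⟩ : ∃ φ : (L ⧸ V) →* MulAut V, ∀ g : L, φ (π g) = MulAut.conjNormal g :=
    ⟨QuotientGroup.lift V MulAut.conjNormal hker, fun g => rfl⟩
  have hφinj : Function.Injective φ := by
    rw [injective_iff_map_eq_one]
    intro γ hγ
    obtain ⟨g, rfl⟩ := hπs γ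
    rw [hφ] at hγ
    have hgc : g ∈ Subgroup.centralizer (V : Set L) := by
      rw [Subgroup.mem_centralizer_iff]
      intro v hv
      have h1 := congrArg (fun f : MulAut V => ((f ⟨v, hv⟩ : V) : L)) hγ
      simp only [MulAut.conjNormal_apply, MulAut.one_apply] at h1
      calc v * g = (g * v * g⁻¹) * g := by rw [h1]
        _ = g * v := by group
    exact (QuotientGroup.eq_one_iff g).mpr (hS.cent hgc)
  have hVexp : ∀ v : V, v ^ p = 1 := fun v => Subtype.ext (by
    rw [Subgroup.coe_pow]; exact hS.exp v v.2)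
  obtain ⟨v, hv⟩ := main_group p (V := ↥V) hVexp φ hφinj Z ξ (Nat.succ_le_succ (Nat.zero_le n))
    hξ1 hZab hZp hZn hZy
  -- the computation of a power
  have hpow : ∀ k : ℕ, ((v : L) * x) ^ k =
      ((∏ i ∈ Finset.range k, φ (ξ ^ i) v : V) : L) * x ^ k := by
    intro k
    induction k with
    | zero => simp
    | succ k ih =>
      rw [pow_succ, ih, Finset.prod_range_succ, Subgroup.coe_mul]
      have h1 : ((φ (ξ ^ k) v : V) : L) = x ^ k * v * (x ^ k)⁻¹ := by
        rw [hξ, ← map_pow, hφ, MulAut.conjNormal_apply]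
      rw [h1, pow_succ]
      group
  have hmem : (v : L) * x ∈ (P : Subgroup L) := (P : Subgroup L).mul_mem (hVP v.2) hx
  have h1 := hexp _ hmem
  rw [hpow, hexp x hx, mul_one] at h1
  apply hv
  exact Subtype.ext h1

end claimS

end Cfsg.Agent.Lib.Helper20.HHAbel
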