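import Mathlib
import Cfsg.Agent.Lib.Helper1.Frat
import Cfsg.Agent.Lib.Helper1.FrattiniFaithful
import Cfsg.Agent.Lib.Helper21.PSeries
import Cfsg.Agent.Lib.Helper20.HHAbelC

set_option autoImplicit false

/-!
Hall–Higman: `p`-length at most the exponent when the Sylow `q`-subgroups (`q ≠ p`) are abelian.
-/

namespace Cfsg.Agent.Lib.Helper20.HHAbel

open Cfsg Cfsg.Agent.Lib.Helper20.CycNorm Cfsg.Agent.Lib.Helper21 Cfsg.Agent.S0634

universe u

variable {G : Type u} [Group G] [Finite G] {p : ℕ} [Fact p.Prime]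

/-- the hypothesis on the Sylow `q`-subgroups -/
def AbSyl (p : ℕ) (G : Type u) [Group G] : Prop :=
  ∀ (q : ℕ) [Fact q.Prime], q ≠ p → ∀ Q : Sylow q G,
    ∀ a ∈ (Q : Subgroup G), ∀ b ∈ (Q : Subgroup G), a * b = b * a

theorem AbSyl.quotient (h : AbSyl p G) (N : Subgroup G) [N.Normal] : AbSyl p (G ⧸ N) := by
  intro q _ hqp Qb a ha b hb
  obtain ⟨Q, rfl⟩ := Sylow.mapSurjective_surjective (QuotientGroup.mk'_surjective N) q Qb
  rw [Sylow.coe_mapSurjective] at ha hb
  obtain ⟨a', ha', rfl⟩ := ha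
  obtain ⟨b', hb', rfl⟩ := hb
  rw [← map_mul, ← map_mul, h q hqp Q a' ha' b' hb']

theorem exp_quotient (N : Subgroup G) [N.Normal] (P : Sylow p G) (k : ℕ)
    (hexp : ∀ g ∈ (P : Subgroup G), g ^ k = 1) :
    ∀ g ∈ ((P.mapSurjective (QuotientGroup.mk'_surjective N) : Sylow p (G ⧸ N)) :
      Subgroup (G ⧸ N)), g ^ k = 1 := by
  intro g hg
  rw [Sylow.coe_mapSurjective] at hg
  obtain ⟨g', hg', rfl⟩ := hg
  rw [← map_pow, hexp g' hg', map_one]

/-- the case `O_{p'}(G) = 1`. -/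
theorem pow_mem_pCore_core_free (hsolv : Cfsg.IsPSolvable p G) (hO : Cfsg.pPrimeCore p G = ⊥)
    (hab : AbSyl p G) (n : ℕ) (P : Sylow p G)
    (hexp : ∀ g ∈ (P : Subgroup G), g ^ p ^ (n + 1) = 1) (x : G) (hx : x ∈ (P : Subgroup G)) :
    x ^ p ^ n ∈ Cfsg.pCore p G := by
  have hRn : (Cfsg.pCore p G).Normal := Cfsg.pCore_normal p G
  have hRp : IsPGroup p (Cfsg.pCore p G) := Cfsg.Agent.Lib.Helper1.pCore_isPGroup p
  have hC : Subgroup.centralizer (Cfsg.pCore p G : Set G) ≤ Cfsg.pCore p G :=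
    Cfsg.Agent.Lib.Helper5.h5_centralizer_pCore_le hsolv hO
  obtain ⟨F, hF⟩ : ∃ F : Subgroup G, F = (frattini (Cfsg.pCore p G)).map (Cfsg.pCore p G).subtype :=
    ⟨_, rfl⟩
  have hFn : F.Normal := by
    rw [hF]
    exact Cfsg.Agent.Lib.Helper5.h5_normal_map_of_characteristic (Cfsg.pCore p G)
      (frattini (Cfsg.pCore p G))
  have hFR : F ≤ Cfsg.pCore p G := by
    rw [hF]
    rintro _ ⟨x, _, rfl⟩
    exact x.2
  have hFp : IsPGroup p F := hRp.to_le hFR
  set π := QuotientGroup.mk' F with hπ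
  have hπs : Function.Surjective π := QuotientGroup.mk'_surjective F
  have hcore : Cfsg.pCore p (G ⧸ F) = (Cfsg.pCore p G).map π :=
    Cfsg.Agent.Lib.helper17.pCore_quotient F hFp
  have hmemF : ∀ x : Cfsg.pCore p G, x ∈ frattini (Cfsg.pCore p G) → (x : G) ∈ F := by
    intro x hx
    rw [hF]
    exact ⟨x, hx, rfl⟩
  have hS : Setting p (G ⧸ F) := by
    refine ⟨Cfsg.Agent.Lib.Helper5.h5_isPSolvable_of_surjective π hπs hsolv, ?_, ?_, ?_⟩
    · rw [hcore]
      rintro _ ⟨r, hr, rfl⟩ _ ⟨s, hs, rfl⟩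
      have h1 : (⟨r, hr⟩ : Cfsg.pCore p G) * ⟨s, hs⟩ * (⟨r, hr⟩)⁻¹ * (⟨s, hs⟩)⁻¹ ∈
          frattini (Cfsg.pCore p G) := by
        apply Cfsg.Agent.Lib.Helper1.pgroup_commutator_le_frattini hRp
        rw [← commutatorElement_def]
        exact Subgroup.commutator_mem_commutator (Subgroup.mem_top _) (Subgroup.mem_top _)
      have h2 : r * s * r⁻¹ * s⁻¹ ∈ F := hmemF _ h1
      have h3 : π (r * s * r⁻¹ * s⁻¹) = 1 := (QuotientGroup.eq_one_iff _).mpr h2
      simp only [map_mul, map_inv] at h3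
      calc π r * π s = (π r * π s * (π r)⁻¹ * (π s)⁻¹) * (π s * π r) := by group
        _ = π s * π r := by rw [h3, one_mul]
    · rw [hcore]
      rintro _ ⟨r, hr, rfl⟩
      have h1 : (⟨r, hr⟩ : Cfsg.pCore p G) ^ p ∈ frattini (Cfsg.pCore p G) :=
        Cfsg.Agent.Lib.Helper1.pgroup_pow_mem_frattini hRp _
      have h2 : r ^ p ∈ F := hmemF _ h1
      rw [← map_pow]
      exact (QuotientGroup.eq_one_iff _).mpr h2
    · rw [hcore]
      intro gb hgb
      obtain ⟨g, rfl⟩ := hπs gb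
      rw [Subgroup.mem_centralizer_iff] at hgb
      have hk : ∀ x ∈ Cfsg.pCore p G, g * x * g⁻¹ * x⁻¹ ∈
          (frattini (Cfsg.pCore p G)).map (Cfsg.pCore p G).subtype := by
        intro x hx
        rw [← hF]
        apply (QuotientGroup.eq_one_iff _).mp
        show π (g * x * g⁻¹ * x⁻¹) = 1
        have h1 := hgb (π x) ⟨x, hx, rfl⟩
        simp only [map_mul, map_inv]
        rw [← h1]
        group
      have := Cfsg.Agent.Lib.Helper1.mem_pCore_of_trivial_on_frattini_quotient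
        (Cfsg.pCore p G) hRp hC g hk
      exact ⟨g, this, rfl⟩
  have key := pow_mem_pCore_of_setting hS (hab.quotient F) n (P.mapSurjective hπs)
    (exp_quotient F P _ hexp) (π x) (by rw [Sylow.coe_mapSurjective]; exact ⟨x, hx, rfl⟩)
  rw [hcore, ← map_pow] at key
  obtain ⟨r, hr, hreq⟩ := key
  have h1 : r⁻¹ * x ^ p ^ n ∈ F := by
    apply (QuotientGroup.eq_one_iff _).mp
    show π (r⁻¹ * x ^ p ^ n) = 1
    rw [map_mul, map_inv, hreq, inv_mul_cancel]
  have h2 : x ^ p ^ n = r * (r⁻¹ * x ^ p ^ n) := by group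
  rw [h2]
  exact Subgroup.mul_mem _ hr (hFR h1)

/-- the general case. -/
theorem pow_mem_ups_two (hsolv : Cfsg.IsPSolvable p G) (hab : AbSyl p G) (n : ℕ) (P : Sylow p G)
    (hexp : ∀ g ∈ (P : Subgroup G), g ^ p ^ (n + 1) = 1) (x : G) (hx : x ∈ (P : Subgroup G)) :
    x ^ p ^ n ∈ ups p G 2 := by
  have hU1 : ups p G 1 = _ := ups_succ_even (G := G) p 0 (by decide)
  have hU2 : ups p G 2 = _ := ups_succ_odd (G := G) p 1 (by decide)
  have hO : Cfsg.pPrimeCore p (G ⧸ ups p G 1) = ⊥ :=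
    pPrimeCore_quotient_comap_eq_bot p (ups p G 0) (ups p G 1) hU1
  set π := QuotientGroup.mk' (ups p G 1) with hπ
  have hπs : Function.Surjective π := QuotientGroup.mk'_surjective _
  have key := pow_mem_pCore_core_free
    (Cfsg.Agent.Lib.Helper5.h5_isPSolvable_of_surjective π hπs hsolv) hO
    (hab.quotient (ups p G 1)) n (P.mapSurjective hπs) (exp_quotient _ P _ hexp) (π x)
    (by rw [Sylow.coe_mapSurjective]; exact ⟨x, hx, rfl⟩)
  rw [hU2, Subgroup.mem_comap, map_pow]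
  exact key

/-- `O_{p',p}(G)` has `p`-length at most one. -/
theorem plength_ups_two : PLengthLE p 1 ↥(ups p G 2) := by
  have hp : p.Prime := Fact.out
  set N := ups p G 2 with hN
  set M := (ups p G 1).subgroupOf N with hM
  have h12 : ups p G 1 ≤ ups p G 2 := ups_le_succ p 1
  haveI hMn : M.Normal := by
    rw [hM]
    infer_instance
  have h0 : PLengthLE p 0 ↥M := by
    apply plength_zero_of_coprime
    have : Nat.card M = Nat.card (ups p G 1) :=
      Nat.card_congr (Subgroup.subgroupOfEquivOfLe h12).toEquiv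
    rw [this]
    exact card_ups_one_coprime
  have h1 : PLengthLE p 1 (↥N ⧸ M) := by
    apply plength_one_of_isPGroup
    intro gb
    obtain ⟨g, rfl⟩ := QuotientGroup.mk'_surjective M gb
    have hU2 : ups p G 2 = _ := ups_succ_odd (G := G) p 1 (by decide)
    have hg : (g : G) ∈ ups p G 2 := g.2
    rw [hU2, Subgroup.mem_comap] at hg
    obtain ⟨k, hk⟩ := (Cfsg.Agent.Lib.Helper1.pCore_isPGroup p
      (G := G ⧸ ups p G 1)) ⟨_, hg⟩
    refine ⟨k, ?_⟩
    have hk' : (QuotientGroup.mk' (ups p G 1)) ((g : G) ^ p ^ k) = 1 := by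
      rw [map_pow]
      exact congrArg Subtype.val hk
    have hk2 : (g : G) ^ p ^ k ∈ ups p G 1 := (QuotientGroup.eq_one_iff _).mp hk'
    rw [← map_pow]
    apply (QuotientGroup.eq_one_iff _).mpr
    rw [hM, Subgroup.mem_subgroupOf, Subgroup.coe_pow]
    exact hk2
  have := plength_add M h0 h1
  rw [zero_add] at this
  exact this

theorem plength_le_exponent : ∀ (n : ℕ) {G : Type u} [Group G] [Finite G],
    Cfsg.IsPSolvable p G → AbSyl p G → (∀ P : Sylow p G, ∀ x ∈ (P : Subgroup G), x ^ p ^ n = 1) →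
    PLengthLE p n G
  | 0, G, _, _, _, _, hexp => by
    apply plength_zero_of_coprime
    have hp : p.Prime := Fact.out
    obtain ⟨P⟩ : Nonempty (Sylow p G) := inferInstance
    have hP : (P : Subgroup G) = ⊥ := by
      rw [eq_bot_iff]
      intro x hx
      have := hexp P x hx
      rw [pow_zero, pow_one] at this
      rw [Subgroup.mem_bot]
      exact this
    have h1 := P.not_dvd_index
    rw [hP, Subgroup.index_bot] at h1
    exact ((Nat.Prime.coprime_iff_not_dvd hp).mpr h1).symm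
  | n + 1, G, _, _, hsolv, hab, hexp => by
    have h1 : PLengthLE p 1 ↥(ups p G 2) := plength_ups_two
    have h2 : PLengthLE p n (G ⧸ ups p G 2) := by
      apply plength_le_exponent n
        (Cfsg.Agent.Lib.Helper5.h5_isPSolvable_of_surjective _
          (QuotientGroup.mk'_surjective _) hsolv) (hab.quotient _)
      intro Pb xb hxb
      obtain ⟨P, rfl⟩ := Sylow.mapSurjective_surjective (QuotientGroup.mk'_surjective _) p Pb
      rw [Sylow.coe_mapSurjective] at hxb
      obtain ⟨x, hx, rfl⟩ := hxb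
      rw [← map_pow]
      exact (QuotientGroup.eq_one_iff _).mpr (pow_mem_ups_two hsolv hab n P (hexp P) x hx)
    have := plength_add (ups p G 2) h1 h2
    rw [add_comm] at this
    exact this

end Cfsg.Agent.Lib.Helper20.HHAbel
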