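import Mathlib
import Cfsg.Agent.Lib.Helper24.SCH.Defs
import Cfsg.Agent.Lib.Helper21.PSeries
import Cfsg.Agent.Lib.Helper20.HHAbelD

/-!
# Project SCH, row D4: `plength_of_sylow_le`.
-/

set_option autoImplicit false

namespace Cfsg.Agent.Lib.Helper24.SCH

open scoped commutatorElement
open Cfsg.Agent.Lib.Helper21 (ups)

universe u v

section D

variable {G : Type u} [Group G] [Finite G] {p : ℕ} [Fact p.Prime]

/-- D4 [S-M]. `Helper20.HHAbel.plength_ups_two`, `Helper21.plength_add`, `plength_zero_of_coprime` (`G ⧸ ups p G 2` has order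
prime to `p` as it is the image of no `p`-element). -/
theorem plength_of_sylow_le (Q : Sylow p G) (h : (Q : Subgroup G) ≤ ups p G 2) :
    Cfsg.PLengthLE p 1 G := by
  have hp : p.Prime := Fact.out
  have h1 : Cfsg.PLengthLE p 1 ↥(ups p G 2) := Cfsg.Agent.Lib.Helper20.HHAbel.plength_ups_two
  have h2 : Cfsg.PLengthLE p 0 (G ⧸ ups p G 2) := by
    apply Cfsg.Agent.Lib.Helper21.plength_zero_of_coprime
    have hcard : Nat.card (G ⧸ ups p G 2) = (ups p G 2).index := rfl
    rw [hcard]
    have hdvd : (ups p G 2).index ∣ (Q : Subgroup G).index := Subgroup.index_dvd_of_le h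
    have hQ : ¬ p ∣ (Q : Subgroup G).index := Q.not_dvd_index
    have hnd : ¬ p ∣ (ups p G 2).index := fun hd => hQ (hd.trans hdvd)
    exact ((Nat.Prime.coprime_iff_not_dvd hp).mpr hnd).symm
  have := Cfsg.Agent.Lib.Helper21.plength_add (ups p G 2) h1 h2
  rw [add_zero] at this
  exact this

end D

end Cfsg.Agent.Lib.Helper24.SCH
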