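import Mathlib
import Cfsg.Agent.Lib.Helper24.SCH.Defs

/-!
# Project SCH, row C10: `hyp_b`.
-/

set_option autoImplicit false

namespace Cfsg.Agent.Lib.Helper24.SCH

open scoped commutatorElement

universe u v

section C

variable {G : Type u} [Group G] [Finite G] {p : ℕ} [Fact p.Prime]

/-- C10 [S]. -/
theorem hyp_b (Q : Sylow p G) :
    ∀ e ∈ sE (p := p) (Q : Subgroup G), ∀ z ∈ sZ (p := p) (Q : Subgroup G),
      (e : MulAut ↥(sA p G)) z = z := by
  intro e he z hz
  have he' : (e : MulAut ↥(sA p G)) ∈ (Q : Subgroup G).map (sRho p G) := he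
  obtain ⟨x, hx, hxe⟩ := he'
  have hz' : (z : G) ∈ (Q : Subgroup G) ⊓ Subgroup.centralizer ((Q : Subgroup G) : Set G) := hz
  have hzc : (z : G) ∈ Subgroup.centralizer ((Q : Subgroup G) : Set G) := hz'.2
  rw [← hxe]
  apply Subtype.ext
  rw [sRho_apply]
  have hcomm : x * (z : G) = (z : G) * x := Subgroup.mem_centralizer_iff.mp hzc x hx
  rw [hcomm, mul_assoc, mul_inv_cancel, mul_one]

end C

end Cfsg.Agent.Lib.Helper24.SCH
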