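import Mathlib
import Cfsg.Agent.Lib.Helper24.SCH.Defs

/-!
# Project SCH, row C11: `hyp_c`.
-/

set_option autoImplicit false

namespace Cfsg.Agent.Lib.Helper24.SCH

open scoped commutatorElement

universe u v

section C

variable {G : Type u} [Group G] [Finite G] {p : ℕ} [Fact p.Prime]

/-- commutators of elements of `Q` commute with the elements of `Q` (class 2), in `G`. -/
theorem schc11_class2 (Q : Sylow p G) (hS : SchP p ↥(Q : Subgroup G)) {x y z : G}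
    (hx : x ∈ (Q : Subgroup G)) (hy : y ∈ (Q : Subgroup G)) (hz : z ∈ (Q : Subgroup G)) :
    ⁅x, y⁆ * z = z * ⁅x, y⁆ := by
  have h := hS.class2 ⟨x, hx⟩ ⟨y, hy⟩ ⟨z, hz⟩
  have h' := congrArg Subtype.val h
  simpa [commutatorElement_def] using h'

/-- `Q ≤ N` (this is row C3, proved here directly from class 2). -/
theorem schc11_mem_sN (Q : Sylow p G) (hS : SchP p ↥(Q : Subgroup G)) {y : G}
    (hy : y ∈ (Q : Subgroup G)) : y ∈ sN p G := by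
  intro f hf
  have hfQ : f ∈ (Q : Subgroup G) := Cfsg.Agent.Lib.Helper1.pCore_le_sylow p Q hf
  change ⁅y, f⁆ ∈ Subgroup.centralizer (Cfsg.pCore p G : Set G)
  rw [Subgroup.mem_centralizer_iff]
  intro z hz
  have hzQ : z ∈ (Q : Subgroup G) := Cfsg.Agent.Lib.Helper1.pCore_le_sylow p Q hz
  exact (schc11_class2 Q hS hy hfQ hzQ).symm

/-- In a class two group `Q`, the commutators `⁅y, a⁆`, `y ∈ Q`, form a subgroup; by the
semi-extraspecial property it contains `⁅Q, Q⁆` when `a` is not central. -/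
theorem schc11_comm_form (Q : Sylow p G) (hS : SchP p ↥(Q : Subgroup G)) {a : G}
    (haQ : a ∈ (Q : Subgroup G)) (hac : a ∉ Subgroup.centralizer ((Q : Subgroup G) : Set G))
    {d : G} (hd : d ∈ ⁅(Q : Subgroup G), (Q : Subgroup G)⁆) :
    ∃ y ∈ (Q : Subgroup G), ⁅y, a⁆ = d := by
  -- `⟨a, haQ⟩` is not central in `Q`
  have hnc : (⟨a, haQ⟩ : ↥(Q : Subgroup G)) ∉ Subgroup.center ↥(Q : Subgroup G) := by
    intro hcen
    apply hac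
    rw [Subgroup.mem_centralizer_iff]
    intro z hz
    have := Subgroup.mem_center_iff.mp hcen ⟨z, hz⟩
    exact congrArg Subtype.val this
  have hinv : ∀ y ∈ (Q : Subgroup G), ⁅y⁻¹, a⁆ = ⁅y, a⁆⁻¹ := by
    intro y hy
    have hc := schc11_class2 Q hS hy haQ hy
    -- ⁅y⁻¹, a⁆ = y⁻¹ * ⁅y, a⁆⁻¹ * y
    have e : ⁅y⁻¹, a⁆ = y⁻¹ * ⁅y, a⁆⁻¹ * y := by
      simp only [commutatorElement_def]
      group
    rw [e]
    have hc' : ⁅y, a⁆⁻¹ * y = y * ⁅y, a⁆⁻¹ := by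
      have : y = ⁅y, a⁆ * y * ⁅y, a⁆⁻¹ := by rw [hc]; group
      calc ⁅y, a⁆⁻¹ * y = ⁅y, a⁆⁻¹ * (⁅y, a⁆ * y * ⁅y, a⁆⁻¹) := by rw [← this]
        _ = y * ⁅y, a⁆⁻¹ := by group
    rw [mul_assoc, hc']
    group
  rw [Subgroup.commutator_def] at hd
  induction hd using Subgroup.closure_induction with
  | mem g hg =>
    obtain ⟨u, hu, v, hv, rfl⟩ := hg
    obtain ⟨y, hy⟩ := hS.semi ⟨a, haQ⟩ hnc ⟨u, hu⟩ ⟨v, hv⟩
    have hy' : ⁅a, (y : G)⁆ = ⁅u, v⁆ := by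
      have := congrArg Subtype.val hy
      simpa [commutatorElement_def] using this
    refine ⟨(y : G)⁻¹, (Q : Subgroup G).inv_mem y.2, ?_⟩
    rw [hinv _ y.2, ← hy', commutatorElement_inv]
  | one =>
    exact ⟨1, (Q : Subgroup G).one_mem, by simp [commutatorElement_def]⟩
  | mul g₁ g₂ _ _ h₁ h₂ =>
    obtain ⟨y₁, hy₁, rfl⟩ := h₁
    obtain ⟨y₂, hy₂, rfl⟩ := h₂
    refine ⟨y₁ * y₂, (Q : Subgroup G).mul_mem hy₁ hy₂, ?_⟩
    -- ⁅y₁ * y₂, a⁆ = y₁ * ⁅y₂, a⁆ * y₁⁻¹ * ⁅y₁, a⁆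
    have e : ⁅y₁ * y₂, a⁆ = y₁ * ⁅y₂, a⁆ * y₁⁻¹ * ⁅y₁, a⁆ := by
      simp only [commutatorElement_def]
      group
    have hc := schc11_class2 Q hS hy₂ haQ hy₁
    have hcc : ⁅y₂, a⁆ * ⁅y₁, a⁆ = ⁅y₁, a⁆ * ⁅y₂, a⁆ := by
      have hmem : ⁅y₁, a⁆ ∈ (Q : Subgroup G) := by
        rw [commutatorElement_def]
        exact (Q : Subgroup G).mul_mem ((Q : Subgroup G).mul_mem ((Q : Subgroup G).mul_mem hy₁ haQ)
          ((Q : Subgroup G).inv_mem hy₁)) ((Q : Subgroup G).inv_mem haQ)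
      exact schc11_class2 Q hS hy₂ haQ hmem
    rw [e]
    calc y₁ * ⁅y₂, a⁆ * y₁⁻¹ * ⁅y₁, a⁆ = (y₁ * ⁅y₂, a⁆) * y₁⁻¹ * ⁅y₁, a⁆ := by group
      _ = (⁅y₂, a⁆ * y₁) * y₁⁻¹ * ⁅y₁, a⁆ := by rw [hc]
      _ = ⁅y₂, a⁆ * ⁅y₁, a⁆ := by group
      _ = ⁅y₁, a⁆ * ⁅y₂, a⁆ := hcc
  | inv g _ h =>
    obtain ⟨y, hy, rfl⟩ := h
    exact ⟨y⁻¹, (Q : Subgroup G).inv_mem hy, hinv y hy⟩

/-- C11 [M]. `a ∈ A ≤ Q` non-central in `Q`; `{⁅y, a⁆ | y ∈ Q}` is a subgroup (class 2) containing every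
`⁅v, u⁆ = ⁅u, v⁆⁻¹ = ⁅a, y⁆⁻¹ = ⁅y, a⁆` (`semi`), hence `⁅Q, Q⁆`; `ρ y a / a = ⁅y, a⁆`. -/
theorem hyp_c (hC : sA p G ≤ Cfsg.pCore p G) (Q : Sylow p G) (hS : SchP p ↥(Q : Subgroup G)) :
    ∀ a : ↥(sA p G), a ∉ sZ (p := p) (Q : Subgroup G) → ∀ d ∈ sD (p := p) (Q : Subgroup G),
      ∃ e ∈ sE (p := p) (Q : Subgroup G), (e : MulAut ↥(sA p G)) a / a = d := by
  intro a ha d hd
  have haQ : (a : G) ∈ (Q : Subgroup G) :=
    Cfsg.Agent.Lib.Helper1.pCore_le_sylow p Q (hC a.2)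
  have hac : (a : G) ∉ Subgroup.centralizer ((Q : Subgroup G) : Set G) := by
    intro hcen
    exact ha (show (a : G) ∈ (Q : Subgroup G) ⊓ Subgroup.centralizer ((Q : Subgroup G) : Set G) from
      ⟨haQ, hcen⟩)
  have hd' : (d : G) ∈ ⁅(Q : Subgroup G), (Q : Subgroup G)⁆ := hd
  obtain ⟨y, hy, hyd⟩ := schc11_comm_form Q hS haQ hac hd'
  have hyN : y ∈ sN p G := schc11_mem_sN Q hS hy
  refine ⟨⟨sRho p G y, Subgroup.mem_map_of_mem _ hyN⟩, ?_, ?_⟩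
  · change sRho p G y ∈ (Q : Subgroup G).map (sRho p G)
    exact Subgroup.mem_map_of_mem _ hy
  · apply Subtype.ext
    change ((((sRho p G y) a / a : ↥(sA p G)) : G)) = (d : G)
    rw [div_eq_mul_inv, Subgroup.coe_mul, Subgroup.coe_inv, sRho_apply, ← hyd, commutatorElement_def]

end C

end Cfsg.Agent.Lib.Helper24.SCH
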