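import Mathlib
import Cfsg.Agent.Lib.Helper24.SCH.Defs
import Cfsg.Agent.Lib.Helper5.PConstr
import Cfsg.Agent.Lib.Helper22.SpanOrbit

/-!
# Project SCH, row C5: `gam_psolv`.
-/

set_option autoImplicit false

namespace Cfsg.Agent.Lib.Helper24.SCH

open scoped commutatorElement

universe u v

section C

variable {G : Type u} [Group G] [Finite G] {p : ℕ} [Fact p.Prime]

/-- C5 [S-M]. `Helper22.pSolvable_subgroup` (SpanOrbit) and `Helper5.h5_isPSolvable_of_surjective` for `N → Γ`. -/
theorem gam_psolv (hsolv : Cfsg.IsPSolvable p G) : Cfsg.IsPSolvable p ↥(sGam p G) := by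
  have h1 : Cfsg.IsPSolvable p ↥(sN p G) :=
    Cfsg.Agent.Lib.Helper22.SpanOrbit.pSolvable_subgroup hsolv (sN p G)
  exact Cfsg.Agent.Lib.Helper5.h5_isPSolvable_of_surjective
    ((sRho p G).subgroupMap (sN p G)) ((sRho p G).subgroupMap_surjective (sN p G)) h1

end C

end Cfsg.Agent.Lib.Helper24.SCH
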