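import Mathlib
import Cfsg.Agent.Lib.Helper24.SCH.Defs
import Cfsg.Agent.Lib.Helper25.SCHC3
import Cfsg.Agent.Lib.helper17.Subn

/-!
# Project SCH, row C6: `gam_core` (`O_p(Γ) = 1`).
-/

set_option autoImplicit false

namespace Cfsg.Agent.Lib.Helper24.SCH

open scoped commutatorElement

universe u v

section C

variable {G : Type u} [Group G] [Finite G] {p : ℕ} [Fact p.Prime]

/-- `ρ g = 1` iff `g` centralises `A`. -/
theorem schc6_rho_eq_one_iff (g : G) :
    sRho p G g = 1 ↔ g ∈ Subgroup.centralizer (sA p G : Set G) := by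
  constructor
  · intro h
    rw [Subgroup.mem_centralizer_iff]
    intro a ha
    have h1 := congrArg (fun f : MulAut ↥(sA p G) => ((f ⟨a, ha⟩ : ↥(sA p G)) : G)) h
    simp only [sRho_apply, MulAut.one_apply] at h1
    -- h1 : g * a * g⁻¹ = a
    calc a * g = (g * a * g⁻¹) * g := by rw [h1]
      _ = g * a := by group
  · intro h
    apply MulEquiv.ext
    intro a
    apply Subtype.ext
    rw [sRho_apply, MulAut.one_apply]
    have := Subgroup.mem_centralizer_iff.mp h (a : G) a.2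
    -- this : a * g = g * a
    rw [← this]
    group

/-- the elements of `F = O_p(G)` act trivially on `A = C_G(F)`. -/
theorem schc6_rho_pCore (g : G) (hg : g ∈ Cfsg.pCore p G) : sRho p G g = 1 := by
  rw [schc6_rho_eq_one_iff]
  rw [Subgroup.mem_centralizer_iff]
  intro a ha
  have ha' : a ∈ Subgroup.centralizer (Cfsg.pCore p G : Set G) := ha
  exact (Subgroup.mem_centralizer_iff.mp ha' g hg).symm

/-- C6 [M]. `W := O_p(Γ)`; `W' := N ⊓ (W.map Γ.subtype).comap ρ` is a `p`-group (`ker ρ ∩ N ≤ F` by C4), normal in `N`,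
so subnormal in `G`: `W' ≤ F` (`helper17.le_pCore_of_subnormal_isPGroup`), and `F` acts trivially on `A`. -/
theorem gam_core (hC : sA p G ≤ Cfsg.pCore p G) : Cfsg.pCore p ↥(sGam p G) = ⊥ := by
  have hp : p.Prime := Fact.out
  set W : Subgroup ↥(sGam p G) := Cfsg.pCore p ↥(sGam p G) with hW
  have hWn : W.Normal := Cfsg.Agent.Lib.Helper1.pCore_normal p
  have hWp : IsPGroup p W := Cfsg.Agent.Lib.Helper1.pCore_isPGroup p
  have hFp : IsPGroup p (Cfsg.pCore p G) := Cfsg.Agent.Lib.Helper1.pCore_isPGroup p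
  -- the subgroup `W'`
  let W' : Subgroup G := sN p G ⊓ (W.map (sGam p G).subtype).comap (sRho p G)
  have hW'N : W' ≤ sN p G := inf_le_left
  -- `W'` is a `p`-group
  have hW'p : IsPGroup p W' := by
    rintro ⟨g, hg⟩
    have hg2 : sRho p G g ∈ W.map (sGam p G).subtype := hg.2
    obtain ⟨w, hw, hwg⟩ := hg2
    obtain ⟨k, hk⟩ := hWp ⟨w, hw⟩
    have hk' : w ^ p ^ k = 1 := congrArg Subtype.val hk
    have h1 : sRho p G (g ^ p ^ k) = 1 := by
      rw [map_pow, ← hwg, ← map_pow, hk', map_one]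
    have h2 : g ^ p ^ k ∈ Cfsg.pCore p G := by
      apply sN_inf_cent hC
      exact ⟨(sN p G).pow_mem hg.1 _, (schc6_rho_eq_one_iff _).mp h1⟩
    obtain ⟨j, hj⟩ := hFp ⟨g ^ p ^ k, h2⟩
    have hj' : (g ^ p ^ k) ^ p ^ j = 1 := congrArg Subtype.val hj
    refine ⟨k + j, ?_⟩
    apply Subtype.ext
    rw [Subgroup.coe_pow, Subgroup.coe_one, pow_add, pow_mul]
    exact hj'
  -- `W'` is normal in `N`
  have hW'norm : (W'.subgroupOf (sN p G)).Normal := by
    refine ⟨?_⟩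
    rintro ⟨g, hgN⟩ hg ⟨n, hn⟩
    rw [Subgroup.mem_subgroupOf] at hg ⊢
    change n * g * n⁻¹ ∈ W'
    have hg' : g ∈ W' := hg
    refine ⟨(sN p G).mul_mem ((sN p G).mul_mem hn hgN) ((sN p G).inv_mem hn), ?_⟩
    obtain ⟨w, hw, hwg⟩ := hg'.2
    change sRho p G (n * g * n⁻¹) ∈ W.map (sGam p G).subtype
    rw [map_mul, map_mul, map_inv]
    let ν : ↥(sGam p G) := ⟨sRho p G n, Subgroup.mem_map_of_mem _ hn⟩
    refine ⟨ν * w * ν⁻¹, hWn.conj_mem w hw ν, ?_⟩
    rw [map_mul, map_mul, map_inv, hwg]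
    rfl
  -- hence subnormal in `G`, so inside `F`
  have hW'sub : W'.IsSubnormal :=
    Subgroup.IsSubnormal.step W' (sN p G) hW'N (sN_normal p G).isSubnormal hW'norm
  have hW'F : W' ≤ Cfsg.pCore p G :=
    Cfsg.Agent.Lib.helper17.le_pCore_of_subnormal_isPGroup hW'sub hW'p
  -- conclusion
  rw [eq_bot_iff]
  rintro ⟨w, hwΓ⟩ hw
  rw [Subgroup.mem_bot]
  apply Subtype.ext
  have hwΓ' : w ∈ (sN p G).map (sRho p G) := hwΓ
  obtain ⟨g, hgN, hgw⟩ := hwΓ'
  have hgW' : g ∈ W' := by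
    refine ⟨hgN, ?_⟩
    change sRho p G g ∈ W.map (sGam p G).subtype
    exact ⟨⟨w, hwΓ⟩, hw, hgw.symm⟩
  change w = 1
  rw [← hgw]
  exact schc6_rho_pCore g (hW'F hgW')

end C

end Cfsg.Agent.Lib.Helper24.SCH
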