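import Mathlib
import Cfsg.Agent.Lib.Helper24.SCH.Defs

/-!
# Project SCH, row C9: `hyp_a`.
-/

set_option autoImplicit false

namespace Cfsg.Agent.Lib.Helper24.SCH

open scoped commutatorElement

universe u v

section C

variable {G : Type u} [Group G] [Finite G] {p : ℕ} [Fact p.Prime]

/-- C9 [S]. `ρ x a / a = ⁅x, a⁆ ∈ ⁅Q, Q⁆` (`a ∈ A ≤ F ≤ Q`). -/
theorem hyp_a (hC : sA p G ≤ Cfsg.pCore p G) (Q : Sylow p G) :
    ∀ e ∈ sE (p := p) (Q : Subgroup G), ∀ a : ↥(sA p G),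
      (e : MulAut ↥(sA p G)) a / a ∈ sD (p := p) (Q : Subgroup G) := by
  intro e he a
  have he' : (e : MulAut ↥(sA p G)) ∈ (Q : Subgroup G).map (sRho p G) := he
  obtain ⟨x, hx, hxe⟩ := he'
  have haQ : (a : G) ∈ (Q : Subgroup G) :=
    Cfsg.Agent.Lib.Helper1.pCore_le_sylow p Q (hC a.2)
  change ((((e : MulAut ↥(sA p G)) a / a : ↥(sA p G)) : G)) ∈ ⁅(Q : Subgroup G), (Q : Subgroup G)⁆
  rw [← hxe]
  have h1 : ((((sRho p G x) a / a : ↥(sA p G)) : G)) = ⁅x, (a : G)⁆ := by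
    rw [div_eq_mul_inv, Subgroup.coe_mul, Subgroup.coe_inv, sRho_apply, commutatorElement_def]
  rw [h1]
  exact Subgroup.commutator_mem_commutator hx haQ

end C

end Cfsg.Agent.Lib.Helper24.SCH
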