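import Mathlib

set_option autoImplicit false

/-!
Kernel dimensions of powers of an endomorphism: concavity, and the rank bound for the top power
of a nilpotent endomorphism.
-/

namespace Cfsg.Agent.Lib.Helper20.HHMod

open Module

section kernels

variable {K : Type*} [Field K] {E : Type*} [AddCommGroup E] [Module K E]

/-- The increment space `range (ψ ^ j) ⊓ ker ψ`. -/
def incr (ψ : End K E) (j : ℕ) : Submodule K E := LinearMap.range (ψ ^ j) ⊓ LinearMap.ker ψ

theorem incr_antitone (ψ : End K E) {i j : ℕ} (h : i ≤ j) : incr ψ j ≤ incr ψ i := by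
  intro y hy
  obtain ⟨⟨w, hw⟩, hk⟩ := hy
  refine ⟨⟨(ψ ^ (j - i)) w, ?_⟩, hk⟩
  rw [← hw, ← Module.End.mul_apply, ← pow_add, Nat.add_sub_cancel' h]

theorem ker_pow_mono (ψ : End K E) {i j : ℕ} (h : i ≤ j) :
    LinearMap.ker (ψ ^ i) ≤ LinearMap.ker (ψ ^ j) := by
  intro w hw
  rw [LinearMap.mem_ker] at hw ⊢
  rw [← Nat.sub_add_cancel h, pow_add, Module.End.mul_apply, hw, map_zero]

theorem map_ker_succ (ψ : End K E) (j : ℕ) :
    (LinearMap.ker (ψ ^ (j + 1))).map (ψ ^ j) = incr ψ j := by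
  ext y
  constructor
  · rintro ⟨w, hw, rfl⟩
    rw [SetLike.mem_coe, LinearMap.mem_ker] at hw
    refine ⟨⟨w, rfl⟩, ?_⟩
    rw [SetLike.mem_coe, LinearMap.mem_ker, ← Module.End.mul_apply, ← pow_succ']
    exact hw
  · rintro ⟨⟨w, rfl⟩, hk⟩
    rw [SetLike.mem_coe, LinearMap.mem_ker, ← Module.End.mul_apply, ← pow_succ'] at hk
    exact ⟨w, hk, rfl⟩

variable [FiniteDimensional K E]

theorem finrank_ker_succ (ψ : End K E) (j : ℕ) :
    finrank K (LinearMap.ker (ψ ^ (j + 1))) =
      finrank K (LinearMap.ker (ψ ^ j)) + finrank K (incr ψ j) := by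
  have h1 := LinearMap.finrank_range_add_finrank_ker
    ((ψ ^ j).domRestrict (LinearMap.ker (ψ ^ (j + 1))))
  rw [LinearMap.range_domRestrict, LinearMap.ker_domRestrict, map_ker_succ] at h1
  have h2 : finrank K (Submodule.comap (LinearMap.ker (ψ ^ (j + 1))).subtype
      (LinearMap.ker (ψ ^ j))) = finrank K (LinearMap.ker (ψ ^ j)) :=
    (Submodule.comapSubtypeEquivOfLe (ker_pow_mono ψ (Nat.le_succ j))).finrank_eq
  rw [h2] at h1
  omega

theorem mul_incr_le (ψ : End K E) (m : ℕ) :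
    ∀ n : ℕ, n ≤ m + 1 → n * finrank K (incr ψ m) ≤ finrank K (LinearMap.ker (ψ ^ n)) := by
  intro n
  induction n with
  | zero => intro _; simp
  | succ n ih =>
    intro hn
    have h1 := ih (by omega)
    have h2 : finrank K (incr ψ m) ≤ finrank K (incr ψ n) :=
      Submodule.finrank_mono (incr_antitone ψ (by omega))
    rw [finrank_ker_succ, Nat.succ_mul]
    omega

/-- Concavity of kernel dimensions. -/
theorem ker_pow_concave (ψ : End K E) (s₀ : ℕ) :
    ∀ s : ℕ, s₀ ≤ s →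
      s₀ * finrank K (LinearMap.ker (ψ ^ s)) ≤ s * finrank K (LinearMap.ker (ψ ^ s₀)) := by
  intro s hs
  induction s, hs using Nat.le_induction with
  | base => exact le_rfl
  | succ s hs ih =>
    have h1 := mul_incr_le ψ s s₀ (by omega)
    rw [finrank_ker_succ, Nat.mul_add, Nat.succ_mul]
    omega

/-- If `ψ ^ N = 0` then `N * rank (ψ ^ (N - 1)) ≤ dim`. -/
theorem mul_finrank_range_le (ψ : End K E) (N : ℕ) (hN : 1 ≤ N) (hψ : ψ ^ N = 0) :
    N * finrank K (LinearMap.range (ψ ^ (N - 1))) ≤ finrank K E := by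
  have h1 := mul_incr_le ψ (N - 1) N (by omega)
  have h2 : incr ψ (N - 1) = LinearMap.range (ψ ^ (N - 1)) := by
    apply le_antisymm inf_le_left
    intro y hy
    refine ⟨hy, ?_⟩
    obtain ⟨w, rfl⟩ := hy
    rw [SetLike.mem_coe, LinearMap.mem_ker, ← Module.End.mul_apply, ← pow_succ',
      Nat.sub_add_cancel hN, hψ]
    rfl
  have h3 : LinearMap.ker (ψ ^ N) = ⊤ := by
    rw [hψ]
    exact LinearMap.ker_zero
  rw [h2, h3, finrank_top] at h1
  exact h1

end kernels

end Cfsg.Agent.Lib.Helper20.HHMod
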