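import Mathlib
import Cfsg.Agent.Lib.Helper20.HHModA

set_option autoImplicit false

/-!
Intertwiners of nilpotent endomorphisms: `dim M * dim X ≤ s * dim Hom_ν(M, X)` when `ν ^ s = 0`
on both sides.
-/

namespace Cfsg.Agent.Lib.Helper20.HHMod

open Module

universe u v w

section homs

variable {K : Type u} [Field K]
variable {M : Type v} [AddCommGroup M] [Module K M]
variable {X : Type w} [AddCommGroup X] [Module K X]

/-- The space of linear maps intertwining two endomorphisms. -/
def homSub (νM : End K M) (νX : End K X) : Submodule K (M →ₗ[K] X) where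
  carrier := {A | ∀ m, A (νM m) = νX (A m)}
  add_mem' := by
    intro A B hA hB m
    rw [LinearMap.add_apply, LinearMap.add_apply, hA m, hB m, map_add]
  zero_mem' := by
    intro m
    rw [LinearMap.zero_apply, LinearMap.zero_apply, map_zero]
  smul_mem' := by
    intro c A hA m
    rw [LinearMap.smul_apply, LinearMap.smul_apply, hA m, map_smul]

theorem mem_homSub (νM : End K M) (νX : End K X) (A : M →ₗ[K] X) :
    A ∈ homSub νM νX ↔ ∀ m, A (νM m) = νX (A m) := Iff.rfl

/-- The intertwiner attached to a functional and a vector. -/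
def bigA (νM : End K M) (νX : End K X) (t : ℕ) (f : M →ₗ[K] K) (y : X) : M →ₗ[K] X :=
  ∑ i ∈ Finset.range (t + 1), (f ∘ₗ (νM ^ (t - i))).smulRight ((νX ^ i) y)

theorem bigA_apply (νM : End K M) (νX : End K X) (t : ℕ) (f : M →ₗ[K] K) (y : X) (m : M) :
    bigA νM νX t f y m = ∑ i ∈ Finset.range (t + 1), f ((νM ^ (t - i)) m) • (νX ^ i) y := by
  unfold bigA
  rw [LinearMap.sum_apply]
  rfl

theorem bigA_mem (νM : End K M) (νX : End K X) (t : ℕ) (f : M →ₗ[K] K) (y : X)
    (hM : νM ^ (t + 1) = 0) (hy : (νX ^ (t + 1)) y = 0) : bigA νM νX t f y ∈ homSub νM νX := by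
  intro m
  rw [bigA_apply, bigA_apply, map_sum, Finset.sum_range_succ', Finset.sum_range_succ]
  have h1 : f ((νM ^ (t - 0)) (νM m)) • (νX ^ 0) y = 0 := by
    rw [Nat.sub_zero, ← Module.End.mul_apply, ← pow_succ, hM, LinearMap.zero_apply, map_zero,
      zero_smul]
  have h2 : νX (f ((νM ^ (t - t)) m) • (νX ^ t) y) = 0 := by
    rw [map_smul, ← Module.End.mul_apply, ← pow_succ', hy, smul_zero]
  rw [h1, h2, add_zero, add_zero]
  apply Finset.sum_congr rfl
  intro i hi
  rw [Finset.mem_range] at hi
  rw [map_smul, ← Module.End.mul_apply νX, ← pow_succ', ← Module.End.mul_apply, ← pow_succ]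
  have : t - (i + 1) + 1 = t - i := by omega
  rw [this]

/-- The polynomial in `νX` giving the value of `bigA` at a fixed vector. -/
def gX (νM : End K M) (νX : End K X) (t : ℕ) (f : M →ₗ[K] K) (m₀ : M) : End K X :=
  ∑ i ∈ Finset.range (t + 1), f ((νM ^ (t - i)) m₀) • νX ^ i

theorem gX_apply (νM : End K M) (νX : End K X) (t : ℕ) (f : M →ₗ[K] K) (m₀ : M) (y : X) :
    gX νM νX t f m₀ y = bigA νM νX t f y m₀ := by
  rw [bigA_apply]
  unfold gX
  rw [LinearMap.sum_apply]
  rfl

theorem gX_injective (νM : End K M) (νX : End K X) (t : ℕ) (f : M →ₗ[K] K) (m₀ : M)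
    (hc : f ((νM ^ t) m₀) ≠ 0) (s : ℕ) (hX : νX ^ s = 0) :
    Function.Injective (gX νM νX t f m₀) := by
  rw [← LinearMap.ker_eq_bot, LinearMap.ker_eq_bot']
  intro y hy
  by_contra hne
  have hP : ∃ k, (νX ^ k) y = 0 := ⟨s, by rw [hX]; rfl⟩
  classical
  set k₀ := Nat.find hP with hk₀
  have hk1 : (νX ^ k₀) y = 0 := Nat.find_spec hP
  have hk0 : k₀ ≠ 0 := by
    intro h0
    rw [h0, pow_zero] at hk1
    exact hne hk1
  obtain ⟨k, hk⟩ : ∃ k, k₀ = k + 1 := Nat.exists_eq_succ_of_ne_zero hk0
  have hk2 : (νX ^ k) y ≠ 0 := Nat.find_min hP (by omega)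
  have h1 : (νX ^ k) (gX νM νX t f m₀ y) = f ((νM ^ t) m₀) • (νX ^ k) y := by
    unfold gX
    rw [LinearMap.sum_apply, map_sum, Finset.sum_range_succ']
    have hz : ∀ i ∈ Finset.range t,
        (νX ^ k) ((f ((νM ^ (t - (i + 1))) m₀) • νX ^ (i + 1)) y) = 0 := by
      intro i _
      rw [LinearMap.smul_apply, map_smul, ← Module.End.mul_apply, ← pow_add]
      have : k + (i + 1) = i + k₀ := by omega
      rw [this, pow_add, Module.End.mul_apply, hk1, map_zero, smul_zero]
    rw [Finset.sum_eq_zero hz, zero_add, Nat.sub_zero, pow_zero, LinearMap.smul_apply, map_smul]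
    rfl
  rw [hy, map_zero] at h1
  rcases smul_eq_zero.mp h1.symm with h2 | h2
  · exact hc h2
  · exact hk2 h2

end homs

section bound

variable {K : Type u} [Field K]
variable {X : Type w} [AddCommGroup X] [Module K X] [FiniteDimensional K X]

theorem hom_bound (νX : End K X) (s : ℕ) (hX : νX ^ s = 0) :
    ∀ n : ℕ, ∀ (M : Type v) [AddCommGroup M] [Module K M] [FiniteDimensional K M]
      (νM : End K M), finrank K M = n → νM ^ s = 0 →
      finrank K M * finrank K X ≤ s * finrank K (homSub νM νX) := by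
  intro n
  induction n using Nat.strong_induction_on with
  | _ n ih =>
    intro M _ _ _ νM hn hM
    rcases Nat.eq_zero_or_pos n with h0 | hpos
    · rw [hn, h0, zero_mul]
      exact Nat.zero_le _
    have hnt : Nontrivial M := by
      rw [← hn] at hpos
      exact Module.finrank_pos_iff.mp hpos
    classical
    have hP : ∃ k, νM ^ k = 0 := ⟨s, hM⟩
    set s₀ := Nat.find hP with hs₀
    have hs₀s : s₀ ≤ s := Nat.find_min' hP hM
    have hs₀0 : s₀ ≠ 0 := by
      intro h
      have h1 : νM ^ s₀ = 0 := Nat.find_spec hP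
      rw [h, pow_zero] at h1
      exact one_ne_zero h1
    obtain ⟨t, ht⟩ : ∃ t, s₀ = t + 1 := Nat.exists_eq_succ_of_ne_zero hs₀0
    have hMt1 : νM ^ (t + 1) = 0 := by
      rw [← ht]
      exact Nat.find_spec hP
    have hMt : νM ^ t ≠ 0 := Nat.find_min hP (by omega)
    obtain ⟨m₀, hm₀⟩ : ∃ m₀, (νM ^ t) m₀ ≠ 0 := by
      by_contra hcon
      apply hMt
      apply LinearMap.ext
      intro m
      by_contra hm
      exact hcon ⟨m, hm⟩
    obtain ⟨f, hf, -⟩ := Submodule.exists_dual_map_eq_bot_of_notMem (p := (⊥ : Submodule K M))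
      (x := (νM ^ t) m₀) (by rwa [Submodule.mem_bot]) inferInstance
    -- the cyclic submodule
    set U : Submodule K M := Submodule.span K (Set.range fun i : Fin (t + 1) => (νM ^ (i : ℕ)) m₀)
      with hU
    have hUinv : U ≤ U.comap νM := by
      rw [hU, Submodule.span_le]
      rintro _ ⟨i, rfl⟩
      rw [SetLike.mem_coe, Submodule.mem_comap]
      change νM ((νM ^ (i : ℕ)) m₀) ∈ _
      rw [← Module.End.mul_apply, ← pow_succ']
      by_cases hi : (i : ℕ) + 1 < t + 1
      · exact Submodule.subset_span ⟨⟨(i : ℕ) + 1, hi⟩, rfl⟩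
      · have : (i : ℕ) + 1 = t + 1 := by have := i.2; omega
        rw [this, hMt1]
        exact Submodule.zero_mem _
    have hm₀U : m₀ ∈ U := by
      rw [hU]
      apply Submodule.subset_span
      exact ⟨⟨0, by omega⟩, by simp⟩
    have hm₀ne : m₀ ≠ 0 := by
      intro h
      apply hm₀
      rw [h, map_zero]
    have hUrank : finrank K U ≤ t + 1 := by
      have := finrank_range_le_card (R := K) (fun i : Fin (t + 1) => (νM ^ (i : ℕ)) m₀)
      rw [Fintype.card_fin] at this
      exact this
    have hUpos : 0 < finrank K U := by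
      rw [Module.finrank_pos_iff]
      exact ⟨⟨⟨m₀, hm₀U⟩, 0, fun h => hm₀ne (congrArg Subtype.val h)⟩⟩
    have hquot := Submodule.finrank_quotient_add_finrank U
    -- induction hypothesis on the quotient
    have hbar : (U.mapQ U νM hUinv) ^ s = 0 := by
      rw [← Submodule.mapQ_pow]
      apply LinearMap.ext
      intro z
      obtain ⟨m, rfl⟩ := U.mkQ_surjective z
      rw [Submodule.mkQ_apply, Submodule.mapQ_apply, hM]
      rfl
    have hIH := ih (finrank K (M ⧸ U)) (by omega) (M ⧸ U) (U.mapQ U νM hUinv) rfl hbar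
    -- evaluation at m₀
    set ev : ↥(homSub νM νX) →ₗ[K] X := (LinearMap.applyₗ m₀).domRestrict (homSub νM νX) with hev
    have hrn := LinearMap.finrank_range_add_finrank_ker ev
    -- (1) range of ev
    have hinj := gX_injective νM νX t f m₀ hf s hX
    have h1 : finrank K (LinearMap.ker (νX ^ (t + 1))) ≤ finrank K (LinearMap.range ev) := by
      have e1 : finrank K ((LinearMap.ker (νX ^ (t + 1))).map (gX νM νX t f m₀)) =
          finrank K (LinearMap.ker (νX ^ (t + 1))) :=
        (Submodule.equivMapOfInjective _ hinj _).finrank_eq.symm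
      rw [← e1]
      apply Submodule.finrank_mono
      rintro _ ⟨y, hy, rfl⟩
      rw [SetLike.mem_coe, LinearMap.mem_ker] at hy
      exact ⟨⟨bigA νM νX t f y, bigA_mem νM νX t f y hMt1 hy⟩, (gX_apply νM νX t f m₀ y).symm⟩
    -- (2) kernel of ev
    have hinj2 : Function.Injective (LinearMap.lcomp K X U.mkQ) := by
      intro B B' hBB
      apply LinearMap.ext
      intro z
      obtain ⟨m, rfl⟩ := U.mkQ_surjective z
      exact LinearMap.congr_fun hBB m
    have h2 : finrank K (homSub (U.mapQ U νM hUinv) νX) ≤ finrank K (LinearMap.ker ev) := by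
      have e1 : finrank K ((homSub (U.mapQ U νM hUinv) νX).map (LinearMap.lcomp K X U.mkQ)) =
          finrank K (homSub (U.mapQ U νM hUinv) νX) :=
        (Submodule.equivMapOfInjective _ hinj2 _).finrank_eq.symm
      have e2 : finrank K ((LinearMap.ker ev).map (homSub νM νX).subtype) =
          finrank K (LinearMap.ker ev) := Submodule.finrank_map_subtype_eq _ _
      rw [← e1, ← e2]
      apply Submodule.finrank_mono
      rintro _ ⟨B, hB, rfl⟩
      have hmem : LinearMap.lcomp K X U.mkQ B ∈ homSub νM νX := by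
        intro m
        change B (U.mkQ (νM m)) = νX (B (U.mkQ m))
        rw [← hB (U.mkQ m)]
        rfl
      refine ⟨⟨_, hmem⟩, ?_, rfl⟩
      rw [SetLike.mem_coe, LinearMap.mem_ker]
      change B (U.mkQ m₀) = 0
      rw [Submodule.mkQ_apply, (Submodule.Quotient.mk_eq_zero U).mpr hm₀U, map_zero]
    -- concavity
    have h3 := ker_pow_concave νX (t + 1) s (by omega)
    have h4 : LinearMap.ker (νX ^ s) = ⊤ := by
      rw [hX]
      exact LinearMap.ker_zero
    rw [h4, finrank_top] at h3
    -- arithmetic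
    have h5 : finrank K M = finrank K (M ⧸ U) + finrank K U := hquot.symm
    calc finrank K M * finrank K X
        = finrank K (M ⧸ U) * finrank K X + finrank K U * finrank K X := by rw [h5, add_mul]
      _ ≤ s * finrank K (homSub (U.mapQ U νM hUinv) νX) + (t + 1) * finrank K X := by
          apply Nat.add_le_add hIH
          exact Nat.mul_le_mul_right _ hUrank
      _ ≤ s * finrank K (LinearMap.ker ev) + s * finrank K (LinearMap.range ev) := by
          apply Nat.add_le_add
          · exact Nat.mul_le_mul_left _ h2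
          · exact h3.trans (Nat.mul_le_mul_left _ h1)
      _ = s * finrank K (homSub νM νX) := by
          rw [← Nat.mul_add, ← hrn, add_comm]

/-- The commutant of a nilpotent endomorphism is large. -/
theorem commutant_bound (ν : End K X) (s : ℕ) (h : ν ^ s = 0) :
    finrank K X * finrank K X ≤ s * finrank K (homSub ν ν) :=
  hom_bound ν s h (finrank K X) X ν rfl h

end bound

end Cfsg.Agent.Lib.Helper20.HHMod
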