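import Mathlib
import Cfsg.Agent.Lib.Helper20.HHExtB

set_option autoImplicit false

/-!
Schur's lemma, the averaging relation and Fourier inversion for an irreducible linear group over an
algebraically closed field.
-/

namespace Cfsg.Agent.Lib.Helper20.HHMod

open Module
open Cfsg.Agent.Lib.Helper20.HHExt (rho_inv rho_inv')

section fourier

variable {K : Type*} [Field K] {V : Type*} [AddCommGroup V] [Module K V]
variable {Γ : Type*} [Group Γ]

/-- Irreducibility of the restriction of `ρ` to a subgroup. -/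
def Irr (ρ : Γ →* End K V) (Q : Subgroup Γ) : Prop :=
  ∀ W : Submodule K V, (∀ g ∈ Q, W.map (ρ g) ≤ W) → W = ⊥ ∨ W = ⊤

variable {ρ : Γ →* End K V} {Q : Subgroup Γ}

theorem schur [IsAlgClosed K] [FiniteDimensional K V] [Nontrivial V] (hirr : Irr ρ Q)
    (A : End K V) (hA : ∀ g ∈ Q, ρ g * A = A * ρ g) : ∃ c : K, A = c • (1 : End K V) := by
  obtain ⟨c, hc⟩ := Module.End.exists_eigenvalue A
  refine ⟨c, ?_⟩
  have h1 : A.eigenspace c = ⊤ := by
    rcases hirr (A.eigenspace c) (by
      intro g hg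
      rintro _ ⟨v, hv, rfl⟩
      rw [SetLike.mem_coe, Module.End.mem_eigenspace_iff] at hv
      rw [Module.End.mem_eigenspace_iff, ← Module.End.mul_apply, ← hA g hg, Module.End.mul_apply,
        hv, map_smul]) with h | h
    · exact absurd h hc
    · exact h
  apply LinearMap.ext
  intro v
  have hv : v ∈ A.eigenspace c := by rw [h1]; exact Submodule.mem_top
  rw [Module.End.mem_eigenspace_iff] at hv
  rw [hv, LinearMap.smul_apply, Module.End.one_apply]

variable [Fintype ↥Q]

/-- The average of the conjugates of an endomorphism. -/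
def avg (ρ : Γ →* End K V) (Q : Subgroup Γ) [Fintype ↥Q] (E : End K V) : End K V :=
  ∑ g : ↥Q, ρ (g : Γ) * E * ρ ((g : Γ)⁻¹)

theorem avg_comm (E : End K V) (h : Γ) (hh : h ∈ Q) : ρ h * avg ρ Q E = avg ρ Q E * ρ h := by
  unfold avg
  rw [Finset.mul_sum, Finset.sum_mul]
  have e := Equiv.sum_comp (Equiv.mulLeft (⟨h, hh⟩ : ↥Q))
    (fun g : ↥Q => ρ (g : Γ) * E * ρ ((g : Γ)⁻¹) * ρ h)
  rw [← e]
  apply Finset.sum_congr rfl
  intro g _
  rw [Equiv.coe_mulLeft]
  have h1 : ((⟨h, hh⟩ * g : ↥Q) : Γ) = h * (g : Γ) := rfl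
  rw [h1, map_mul, mul_inv_rev, map_mul]
  have h2 : ρ h⁻¹ * ρ h = 1 := rho_inv' ρ h
  simp only [mul_assoc]
  rw [h2, mul_one]

theorem trace_conj_rho [FiniteDimensional K V] (E : End K V) (g : Γ) :
    LinearMap.trace K V (ρ g * E * ρ g⁻¹) = LinearMap.trace K V E := by
  rw [LinearMap.trace_mul_comm, ← mul_assoc, rho_inv', one_mul]

theorem avg_eq [IsAlgClosed K] [FiniteDimensional K V] [Nontrivial V] (hirr : Irr ρ Q)
    (E : End K V) : ∃ μ : K, avg ρ Q E = μ • (1 : End K V) ∧
      (finrank K V : K) * μ = (Fintype.card ↥Q : K) * LinearMap.trace K V E := by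
  obtain ⟨μ, hμ⟩ := schur hirr (avg ρ Q E) (fun g hg => avg_comm E g hg)
  refine ⟨μ, hμ, ?_⟩
  have h1 : LinearMap.trace K V (avg ρ Q E) = (Fintype.card ↥Q : K) * LinearMap.trace K V E := by
    unfold avg
    rw [map_sum]
    simp only [trace_conj_rho]
    rw [Finset.sum_const, Finset.card_univ, nsmul_eq_mul]
  rw [hμ, map_smul, LinearMap.trace_one, smul_eq_mul] at h1
  rw [← h1, mul_comm]

theorem finrank_ne_zero [IsAlgClosed K] [FiniteDimensional K V] [Nontrivial V] (hirr : Irr ρ Q)
    (hQ : (Fintype.card ↥Q : K) ≠ 0) : (finrank K V : K) ≠ 0 := by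
  obtain ⟨v, hv⟩ := exists_ne (0 : V)
  obtain ⟨f, hf, -⟩ := Submodule.exists_dual_map_eq_bot_of_notMem (p := (⊥ : Submodule K V))
    (x := v) (by rwa [Submodule.mem_bot]) inferInstance
  obtain ⟨μ, -, hμ⟩ := avg_eq hirr (f.smulRight v)
  rw [LinearMap.trace_smulRight] at hμ
  intro h0
  rw [h0, zero_mul] at hμ
  exact (mul_ne_zero hQ hf) hμ.symm

/-- The Fourier coefficient sum. -/
noncomputable def fsum (ρ : Γ →* End K V) (Q : Subgroup Γ) [Fintype ↥Q] (T : End K V) : End K V :=
  ∑ g : ↥Q, LinearMap.trace K V (T * ρ ((g : Γ)⁻¹)) • ρ (g : Γ)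

theorem fsum_add (T₁ T₂ : End K V) : fsum ρ Q (T₁ + T₂) = fsum ρ Q T₁ + fsum ρ Q T₂ := by
  unfold fsum
  rw [← Finset.sum_add_distrib]
  apply Finset.sum_congr rfl
  intro g _
  rw [add_mul, map_add, add_smul]

theorem fsum_zero : fsum ρ Q (0 : End K V) = 0 := by
  unfold fsum
  apply Finset.sum_eq_zero
  intro g _
  rw [zero_mul, map_zero, zero_smul]

theorem fsum_rank_one [IsAlgClosed K] [FiniteDimensional K V] [Nontrivial V] (hirr : Irr ρ Q)
    (h : V →ₗ[K] K) (w : V) :
    (finrank K V : K) • fsum ρ Q (h.smulRight w) = (Fintype.card ↥Q : K) • h.smulRight w := by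
  apply LinearMap.ext
  intro v
  obtain ⟨μ, hμ1, hμ2⟩ := avg_eq hirr (h.smulRight v)
  rw [LinearMap.trace_smulRight] at hμ2
  have h1 : fsum ρ Q (h.smulRight w) v = avg ρ Q (h.smulRight v) w := by
    unfold fsum avg
    rw [LinearMap.sum_apply, LinearMap.sum_apply]
    apply Finset.sum_congr rfl
    intro g _
    have e1 : h.smulRight w * ρ ((g : Γ)⁻¹) = (h ∘ₗ ρ ((g : Γ)⁻¹)).smulRight w := by
      apply LinearMap.ext
      intro m
      rfl
    rw [e1, LinearMap.trace_smulRight, LinearMap.smul_apply, Module.End.mul_apply,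
      Module.End.mul_apply, LinearMap.smulRight_apply, map_smul]
    rfl
  rw [LinearMap.smul_apply, LinearMap.smul_apply, h1, hμ1, LinearMap.smul_apply,
    Module.End.one_apply, smul_smul, hμ2, LinearMap.smulRight_apply, smul_smul]

/-- Fourier inversion. -/
theorem fourier [IsAlgClosed K] [FiniteDimensional K V] [Nontrivial V] (hirr : Irr ρ Q)
    (T : End K V) :
    (finrank K V : K) • fsum ρ Q T = (Fintype.card ↥Q : K) • T := by
  classical
  set b := Module.finBasis K V with hb
  have hT : T = ∑ i, (b.coord i).smulRight (T (b i)) := by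
    apply LinearMap.ext
    intro m
    rw [LinearMap.sum_apply]
    simp only [LinearMap.smulRight_apply, Module.Basis.coord_apply]
    conv_lhs => rw [← b.sum_repr m, map_sum]
    apply Finset.sum_congr rfl
    intro i _
    rw [map_smul]
  have key : ∀ (s : Finset (Fin (finrank K V))),
      (finrank K V : K) • fsum ρ Q (∑ i ∈ s, (b.coord i).smulRight (T (b i))) =
      (Fintype.card ↥Q : K) • ∑ i ∈ s, (b.coord i).smulRight (T (b i)) := by
    intro s
    induction s using Finset.induction_on with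
    | empty => rw [Finset.sum_empty, fsum_zero, smul_zero, smul_zero]
    | insert i s hi ih =>
      rw [Finset.sum_insert hi, fsum_add, smul_add, smul_add, ih, fsum_rank_one hirr]
  have := key Finset.univ
  rw [← hT] at this
  exact this

end fourier

end Cfsg.Agent.Lib.Helper20.HHMod
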