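import Mathlib
import Cfsg.Agent.Lib.Helper20.HHModA
import Cfsg.Agent.Lib.Helper20.HHModB
import Cfsg.Agent.Lib.Helper20.HHModC

set_option autoImplicit false

/-!
The commutant of `ρ x` when `x` acts freely by conjugation on the non-scalar part of an irreducible
subgroup: it is spanned by `1` and the image of the transfer map.
-/

namespace Cfsg.Agent.Lib.Helper20.HHMod

open Module Polynomial
open Cfsg.Agent.Lib.Helper20.HHExt (rho_inv rho_inv' conjAct conjAct_apply)

section geom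

theorem geom_char {K : Type*} [Field K] (p : ℕ) [Fact p.Prime] [CharP K p] {B : Type*} [Ring B]
    [Algebra K B] (c : B) (m : ℕ) : (c - 1) ^ (p ^ m) = c ^ (p ^ m) - 1 ∧
    ∑ i ∈ Finset.range (p ^ m), c ^ i = (c - 1) ^ (p ^ m - 1) := by
  have hN : 1 ≤ p ^ m := Nat.one_le_pow _ _ (Fact.out : p.Prime).pos
  have h1 : ((X : K[X]) - 1) ^ (p ^ m) = X ^ (p ^ m) - 1 := by
    rw [sub_pow_char_pow, one_pow]
  have h2 : ∑ i ∈ Finset.range (p ^ m), (X : K[X]) ^ i = (X - 1) ^ (p ^ m - 1) := by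
    have h3 : ((X : K[X]) - 1) * ∑ i ∈ Finset.range (p ^ m), (X : K[X]) ^ i =
        (X - 1) * (X - 1) ^ (p ^ m - 1) := by
      rw [mul_geom_sum, ← pow_succ', Nat.sub_add_cancel hN, h1]
    have hne : (X : K[X]) - 1 ≠ 0 := by
      have := X_sub_C_ne_zero (1 : K)
      rwa [map_one] at this
    exact mul_left_cancel₀ hne h3
  constructor
  · have := congrArg (aeval c) h1
    simpa using this
  · have := congrArg (aeval c) h2
    simpa using this

end geom

section orbits

variable {K : Type*} [Field K]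

theorem apply_pow_perm {α : Type*} (σ : Equiv.Perm α) {E : Type*} [AddCommGroup E] [Module K E]
    (φ : End K E) (f : α → E) (hf : ∀ a, f (σ a) = φ (f a)) (a : α) (i : ℕ) :
    f ((σ ^ i) a) = (φ ^ i) (f a) := by
  induction i with
  | zero => simp
  | succ n ih =>
    rw [pow_succ', Equiv.Perm.mul_apply, hf, ih, pow_succ', Module.End.mul_apply]

theorem orbit_sum_mem {α : Type*} [DecidableEq α] (σ : Equiv.Perm α) {E : Type*} [AddCommGroup E]
    [Module K E] (φ : End K E) (N : ℕ) (hN : 0 < N) (hσ : σ ^ N = 1) (f : α → E)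
    (hf : ∀ a, f (σ a) = φ (f a)) :
    ∀ (n : ℕ) (A : Finset α), A.card = n → (∀ a ∈ A, σ a ∈ A) →
      (∀ a ∈ A, ∀ i, 0 < i → i < N → (σ ^ i) a ≠ a) →
      ∑ a ∈ A, f a ∈ LinearMap.range (∑ i ∈ Finset.range N, φ ^ i) := by
  intro n
  induction n using Nat.strong_induction_on with
  | _ n ih =>
    intro A hcard hst hfree
    rcases Finset.eq_empty_or_nonempty A with hA | ⟨a₀, ha₀⟩
    · rw [hA, Finset.sum_empty]
      exact Submodule.zero_mem _
    have hpowmem : ∀ i : ℕ, (σ ^ i) a₀ ∈ A := by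
      intro i
      induction i with
      | zero => simpa using ha₀
      | succ k ihk =>
        rw [pow_succ', Equiv.Perm.mul_apply]
        exact hst _ ihk
    set O : Finset α := (Finset.range N).image (fun i => (σ ^ i) a₀) with hO
    have hOsub : O ⊆ A := by
      intro a ha
      rw [hO, Finset.mem_image] at ha
      obtain ⟨i, -, rfl⟩ := ha
      exact hpowmem i
    have hinj : Set.InjOn (fun i => (σ ^ i) a₀) (Finset.range N : Set ℕ) := by
      have key : ∀ i j : ℕ, i < j → j < N → (σ ^ i) a₀ ≠ (σ ^ j) a₀ := by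
        intro i j hij hjN heq
        have h1 : σ ^ j = σ ^ i * σ ^ (j - i) := by
          rw [← pow_add, Nat.add_sub_cancel' hij.le]
        rw [h1, Equiv.Perm.mul_apply] at heq
        have h2 := (σ ^ i).injective heq
        exact hfree a₀ ha₀ (j - i) (by omega) (by omega) h2.symm
      intro i hi j hj heq
      rw [Finset.coe_range, Set.mem_Iio] at hi hj
      by_contra hne
      rcases Nat.lt_or_gt_of_ne hne with h | h
      · exact key i j h hj heq
      · exact key j i h hi heq.symm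
    have hOsum : ∑ a ∈ O, f a = (∑ i ∈ Finset.range N, φ ^ i) (f a₀) := by
      rw [hO, Finset.sum_image hinj, LinearMap.sum_apply]
      apply Finset.sum_congr rfl
      intro i _
      exact apply_pow_perm σ φ f hf a₀ i
    have ha₀O : a₀ ∈ O := by
      rw [hO, Finset.mem_image]
      exact ⟨0, Finset.mem_range.mpr hN, by simp⟩
    have hstab : ∀ a ∈ A \ O, σ a ∈ A \ O := by
      intro a ha
      rw [Finset.mem_sdiff] at ha ⊢
      refine ⟨hst a ha.1, ?_⟩
      intro hmem
      apply ha.2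
      rw [hO, Finset.mem_image] at hmem ⊢
      obtain ⟨i, hi, hia⟩ := hmem
      rw [Finset.mem_range] at hi
      rcases Nat.eq_zero_or_pos i with h0 | hpos
      · refine ⟨N - 1, Finset.mem_range.mpr (by omega), ?_⟩
        rw [h0, pow_zero, Equiv.Perm.one_apply] at hia
        apply σ.injective
        rw [← Equiv.Perm.mul_apply, ← pow_succ', Nat.sub_add_cancel hN, hσ, Equiv.Perm.one_apply,
          hia]
      · refine ⟨i - 1, Finset.mem_range.mpr (by omega), ?_⟩
        apply σ.injective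
        rw [← Equiv.Perm.mul_apply, ← pow_succ', Nat.sub_add_cancel hpos, hia]
    have hlt : (A \ O).card < n := by
      rw [← hcard]
      apply Finset.card_lt_card
      refine ⟨Finset.sdiff_subset, ?_⟩
      intro hsub
      have := hsub ha₀
      rw [Finset.mem_sdiff] at this
      exact this.2 ha₀O
    have h1 := ih _ hlt (A \ O) rfl hstab
      (fun a ha => hfree a (Finset.mem_sdiff.mp ha).1)
    rw [← Finset.sum_sdiff hOsub]
    apply Submodule.add_mem _ h1
    rw [hOsum]
    exact ⟨_, rfl⟩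

end orbits

section commutant

variable {K : Type*} [Field K] {V : Type*} [AddCommGroup V] [Module K V]
variable {Γ : Type*} [Group Γ]
variable {ρ : Γ →* End K V} {Q : Subgroup Γ}

theorem conjAct_pow (ρ : Γ →* End K V) (x : Γ) (i : ℕ) : (conjAct ρ x) ^ i = conjAct ρ (x ^ i) := by
  induction i with
  | zero =>
    apply LinearMap.ext
    intro f
    rw [pow_zero, pow_zero, conjAct_apply, map_one, inv_one, map_one, one_mul, mul_one]
    rfl
  | succ n ih =>
    apply LinearMap.ext
    intro f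
    rw [pow_succ', Module.End.mul_apply, ih, conjAct_apply, conjAct_apply, conjAct_apply,
      pow_succ', mul_inv_rev, map_mul, map_mul]
    simp only [mul_assoc]

/-- The transfer (norm) map for conjugation by `ρ x`. -/
def transfer (ρ : Γ →* End K V) (x : Γ) (N : ℕ) : End K (End K V) :=
  ∑ i ∈ Finset.range N, (conjAct ρ x) ^ i

theorem fsum_mem [FiniteDimensional K V] [Q.Normal] [Fintype ↥Q] (x : Γ) (N : ℕ) (hN : 0 < N)
    (hxN : x ^ N = 1)
    (hfree : ∀ g ∈ Q, ∀ i, 0 < i → i < N → x ^ i * g * (x ^ i)⁻¹ = g →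
      ∃ c : K, ρ g = c • (1 : End K V))
    (T : End K V) (hT : ρ x * T = T * ρ x) :
    fsum ρ Q T ∈ Submodule.span K {(1 : End K V)} ⊔ LinearMap.range (transfer ρ x N) := by
  classical
  set σ : Equiv.Perm ↥Q := MulAut.toPerm ↥Q (MulAut.conjNormal x) with hσdef
  have hσapp : ∀ (i : ℕ) (g : ↥Q), (((σ ^ i) g : ↥Q) : Γ) = x ^ i * (g : Γ) * (x ^ i)⁻¹ := by
    intro i g
    rw [hσdef, ← map_pow, ← map_pow]
    exact MulAut.conjNormal_apply _ _
  have hσ1 : ∀ g : ↥Q, ((σ g : ↥Q) : Γ) = x * (g : Γ) * x⁻¹ := by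
    intro g
    have := hσapp 1 g
    rwa [pow_one, pow_one] at this
  have hσN : σ ^ N = 1 := by
    rw [hσdef, ← map_pow, ← map_pow, hxN, map_one, map_one]
  set f : ↥Q → End K V :=
    fun g => LinearMap.trace K V (T * ρ ((g : Γ)⁻¹)) • ρ (g : Γ) with hfdef
  have hf : ∀ g, f (σ g) = conjAct ρ x (f g) := by
    intro g
    rw [hfdef]
    simp only
    have e0 : ρ (x * (g : Γ) * x⁻¹) = ρ x * ρ (g : Γ) * ρ x⁻¹ := by rw [map_mul, map_mul]
    have e1 : ρ ((x * (g : Γ) * x⁻¹)⁻¹) = ρ x * ρ (g : Γ)⁻¹ * ρ x⁻¹ := by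
      have : (x * (g : Γ) * x⁻¹)⁻¹ = x * (g : Γ)⁻¹ * x⁻¹ := by group
      rw [this, map_mul, map_mul]
    rw [hσ1 g, conjAct_apply, mul_smul_comm, smul_mul_assoc, e0, e1]
    congr 1
    have e2 : T * (ρ x * ρ (g : Γ)⁻¹ * ρ x⁻¹) = (T * ρ x * ρ (g : Γ)⁻¹) * ρ x⁻¹ := by
      simp only [mul_assoc]
    rw [e2, LinearMap.trace_mul_comm, ← hT]
    have e3 : ρ x⁻¹ * (ρ x * T * ρ (g : Γ)⁻¹) = (ρ x⁻¹ * ρ x) * T * ρ (g : Γ)⁻¹ := by
      simp only [mul_assoc]
    rw [e3, rho_inv', one_mul]
  set scal : ↥Q → Prop := fun g => ∃ c : K, ρ (g : Γ) = c • (1 : End K V) with hscal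
  have hsplit : fsum ρ Q T = ∑ g ∈ Finset.univ.filter scal, f g +
      ∑ g ∈ Finset.univ.filter (fun g => ¬ scal g), f g := by
    rw [Finset.sum_filter_add_sum_filter_not]
    rfl
  rw [hsplit]
  apply Submodule.add_mem
  · apply Submodule.mem_sup_left
    apply Submodule.sum_mem
    intro g hg
    rw [Finset.mem_filter] at hg
    obtain ⟨c, hc⟩ := hg.2
    rw [hfdef]
    simp only
    rw [hc, smul_smul]
    exact Submodule.smul_mem _ _ (Submodule.subset_span rfl)
  · apply Submodule.mem_sup_right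
    unfold transfer
    apply orbit_sum_mem σ (conjAct ρ x) N hN hσN f hf _ _ rfl
    · intro g hg
      rw [Finset.mem_filter] at hg ⊢
      refine ⟨Finset.mem_univ _, ?_⟩
      rintro ⟨c, hc⟩
      apply hg.2
      refine ⟨c, ?_⟩
      rw [hσ1 g, map_mul, map_mul] at hc
      have e1 : ρ (g : Γ) = ρ x⁻¹ * (ρ x * ρ (g : Γ) * ρ x⁻¹) * ρ x := by
        have : ρ x⁻¹ * (ρ x * ρ (g : Γ) * ρ x⁻¹) * ρ x =
            (ρ x⁻¹ * ρ x) * ρ (g : Γ) * (ρ x⁻¹ * ρ x) := by simp only [mul_assoc]
        rw [this, rho_inv', one_mul, mul_one]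
      rw [e1, hc, mul_smul_comm, smul_mul_assoc, mul_one, rho_inv']
    · intro g hg i hi0 hiN heq
      rw [Finset.mem_filter] at hg
      apply hg.2
      have h1 := hσapp i g
      rw [heq] at h1
      exact hfree (g : Γ) g.2 i hi0 hiN h1.symm

theorem commutant_le [IsAlgClosed K] [FiniteDimensional K V] [Nontrivial V] [Q.Normal]
    [Fintype ↥Q] (hirr : Irr ρ Q) (hQ : (Fintype.card ↥Q : K) ≠ 0) (x : Γ) (N : ℕ) (hN : 0 < N)
    (hxN : x ^ N = 1)
    (hfree : ∀ g ∈ Q, ∀ i, 0 < i → i < N → x ^ i * g * (x ^ i)⁻¹ = g →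
      ∃ c : K, ρ g = c • (1 : End K V)) :
    homSub (ρ x) (ρ x) ≤
      Submodule.span K {(1 : End K V)} ⊔ LinearMap.range (transfer ρ x N) := by
  intro T hT
  have hT' : ρ x * T = T * ρ x := by
    apply LinearMap.ext
    intro m
    exact (hT m).symm
  have h1 := fsum_mem (ρ := ρ) (Q := Q) x N hN hxN hfree T hT'
  have h2 := fourier hirr T
  have h3 : T = ((Fintype.card ↥Q : K)⁻¹ * (finrank K V : K)) • fsum ρ Q T := by
    rw [mul_smul, h2, smul_smul, inv_mul_cancel₀ hQ, one_smul]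
  rw [h3]
  exact Submodule.smul_mem _ _ h1

/-- Dimension bound for the commutant, in characteristic `p` with `x` of order dividing `p ^ m`. -/
theorem finrank_commutant_le [IsAlgClosed K] [FiniteDimensional K V] [Nontrivial V] [Q.Normal]
    [Fintype ↥Q] (p : ℕ) [Fact p.Prime] [CharP K p] (hirr : Irr ρ Q)
    (hQ : (Fintype.card ↥Q : K) ≠ 0) (x : Γ) (m : ℕ) (hxN : x ^ (p ^ m) = 1)
    (hfree : ∀ g ∈ Q, ∀ i, 0 < i → i < p ^ m → x ^ i * g * (x ^ i)⁻¹ = g →
      ∃ c : K, ρ g = c • (1 : End K V)) :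
    p ^ m * finrank K (homSub (ρ x) (ρ x)) ≤ p ^ m + finrank K V * finrank K V := by
  have hN : 0 < p ^ m := Nat.pos_of_ne_zero (pow_ne_zero _ (Fact.out : p.Prime).ne_zero)
  have h1 := Submodule.finrank_mono (commutant_le hirr hQ x (p ^ m) hN hxN hfree)
  have h2 := Submodule.finrank_add_le_finrank_add_finrank
    (Submodule.span K {(1 : End K V)}) (LinearMap.range (transfer ρ x (p ^ m)))
  have h3 : finrank K (Submodule.span K {(1 : End K V)}) = 1 :=
    finrank_span_singleton one_ne_zero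
  obtain ⟨g1, g2⟩ := geom_char (K := K) p (conjAct ρ x) m
  have hc : (conjAct ρ x) ^ (p ^ m) = 1 := by
    rw [conjAct_pow, hxN]
    apply LinearMap.ext
    intro f
    rw [conjAct_apply, inv_one, map_one, one_mul, mul_one]
    rfl
  rw [hc, sub_self] at g1
  have h4 := mul_finrank_range_le (conjAct ρ x - 1) (p ^ m) hN g1
  have h5 : transfer ρ x (p ^ m) = (conjAct ρ x - 1) ^ (p ^ m - 1) := g2
  rw [← h5] at h4
  have h6 : finrank K (End K V) = finrank K V * finrank K V := Module.finrank_linearMap K K V V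
  rw [h6] at h4
  have h7 := h1.trans h2
  rw [h3] at h7
  calc p ^ m * finrank K (homSub (ρ x) (ρ x))
      ≤ p ^ m * (1 + finrank K (LinearMap.range (transfer ρ x (p ^ m)))) :=
        Nat.mul_le_mul_left _ h7
    _ = p ^ m + p ^ m * finrank K (LinearMap.range (transfer ρ x (p ^ m))) := by ring
    _ ≤ p ^ m + finrank K V * finrank K V := by omega

end commutant

end Cfsg.Agent.Lib.Helper20.HHMod
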