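import Mathlib
import Cfsg.Agent.Lib.Helper20.HHModC

set_option autoImplicit false

/-!
The dimension of an irreducible representation of a finite `q`-group over an algebraically closed
field is a power of `q` (Clifford theory with respect to a normal subgroup that is abelian modulo
scalars).
-/

namespace Cfsg.Agent.Lib.Helper20.HHMod

open Module
open Cfsg.Agent.Lib.Helper20.HHExt (rho_inv rho_inv' rho_ne_zero smul_rho_cancel)

universe u v

section indep

variable {K : Type*} [Field K] {W : Type*} [AddCommGroup W] [Module K W] [FiniteDimensional K W]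

theorem finrank_biSup_indep {ι : Type*} [DecidableEq ι] (N : ι → Submodule K W)
    (hN : iSupIndep N) (s : Finset ι) :
    finrank K ↥(⨆ i ∈ s, N i) = ∑ i ∈ s, finrank K (N i) := by
  induction s using Finset.induction_on with
  | empty => simp
  | insert a s ha ih =>
    rw [Finset.sum_insert ha, Finset.iSup_insert]
    have hdisj : Disjoint (N a) (⨆ i ∈ (s : Set ι), N i) :=
      hN.disjoint_biSup (by simpa using ha)
    have hdisj' : N a ⊓ (⨆ i ∈ s, N i) = ⊥ := by
      have := disjoint_iff.mp hdisj
      simpa using this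
    have h5 := Submodule.finrank_sup_add_finrank_inf_eq (N a) (⨆ i ∈ s, N i)
    rw [hdisj', finrank_bot, add_zero] at h5
    rw [h5, ih]

theorem finrank_iSup_indep {ι : Type*} [Fintype ι] (N : ι → Submodule K W)
    (hN : iSupIndep N) (htop : ⨆ i, N i = ⊤) :
    finrank K W = ∑ i, finrank K (N i) := by
  classical
  have h := finrank_biSup_indep N hN Finset.univ
  have h1 : (⨆ i ∈ (Finset.univ : Finset ι), N i) = ⊤ := by
    rw [← htop]
    simp
  rw [h1, finrank_top] at h
  exact h

end indep

section scalar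

variable {K : Type*} [Field K] {V : Type*} [AddCommGroup V] [Module K V]
variable {Γ : Type*} [Group Γ] {ρ : Γ →* End K V} {Q : Subgroup Γ}

theorem finrank_eq_one_of_scalar [Nontrivial V] (hirr : Irr ρ Q)
    (h : ∀ g ∈ Q, ∃ c : K, ρ g = c • (1 : End K V)) : finrank K V = 1 := by
  obtain ⟨v, hv⟩ := exists_ne (0 : V)
  have h1 : Submodule.span K {v} = ⊤ := by
    rcases hirr (Submodule.span K {v}) (by
      intro g hg
      obtain ⟨c, hc⟩ := h g hg
      rw [hc]
      rintro _ ⟨w, hw, rfl⟩
      rw [LinearMap.smul_apply, Module.End.one_apply]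
      exact Submodule.smul_mem _ _ hw) with h2 | h2
    · exfalso
      rw [Submodule.span_singleton_eq_bot] at h2
      exact hv h2
    · exact h2
  rw [← finrank_top K V, ← h1]
  exact finrank_span_singleton hv

theorem finrank_eq_one_of_comm [IsAlgClosed K] [FiniteDimensional K V] [Nontrivial V]
    (hirr : Irr ρ Q) (h : ∀ g ∈ Q, ∀ g' ∈ Q, ρ g * ρ g' = ρ g' * ρ g) : finrank K V = 1 :=
  finrank_eq_one_of_scalar hirr (fun g hg => schur hirr (ρ g) (fun g' hg' => h g' hg' g hg))

end scalar

section qdim

variable {K : Type*} [Field K]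

/-- The subgroup of elements acting as scalars. -/
def scalSub {P : Type*} [Group P] {W : Type*} [AddCommGroup W] [Module K W] [Nontrivial W]
    (ρ : P →* End K W) : Subgroup P where
  carrier := {g | ∃ c : K, ρ g = c • (1 : End K W)}
  one_mem' := ⟨1, by rw [map_one, one_smul]⟩
  mul_mem' := by
    rintro g g' ⟨c, hc⟩ ⟨c', hc'⟩
    exact ⟨c * c', by rw [map_mul, hc, hc', smul_mul_smul_comm, mul_one]⟩
  inv_mem' := by
    rintro g ⟨c, hc⟩
    have h1 := rho_inv ρ g
    rw [hc, smul_mul_assoc, one_mul] at h1
    have hc0 : c ≠ 0 := by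
      rintro rfl
      rw [zero_smul] at h1
      exact zero_ne_one h1
    refine ⟨c⁻¹, ?_⟩
    rw [← h1, smul_smul, inv_mul_cancel₀ hc0, one_smul]

theorem mem_scalSub {P : Type*} [Group P] {W : Type*} [AddCommGroup W] [Module K W] [Nontrivial W]
    (ρ : P →* End K W) (g : P) : g ∈ scalSub ρ ↔ ∃ c : K, ρ g = c • (1 : End K W) := Iff.rfl

instance scalSub_normal {P : Type*} [Group P] {W : Type*} [AddCommGroup W] [Module K W]
    [Nontrivial W] (ρ : P →* End K W) : (scalSub ρ).Normal := by
  constructor
  rintro g ⟨c, hc⟩ h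
  refine ⟨c, ?_⟩
  rw [map_mul, map_mul, hc, mul_smul_comm, smul_mul_assoc, mul_one, rho_inv]

theorem qdim_aux (q : ℕ) [Fact q.Prime] [IsAlgClosed K] :
    ∀ n : ℕ, ∀ (P : Type u) [Group P] [Finite P] (W : Type v) [AddCommGroup W] [Module K W]
      [FiniteDimensional K W] [Nontrivial W] (ρ : P →* End K W), IsPGroup q P →
      Irr ρ ⊤ → finrank K W = n → ∃ b : ℕ, n = q ^ b := by
  intro n
  induction n using Nat.strong_induction_on with
  | _ n ih =>
    intro P _ _ W _ _ _ _ ρ hP hirr hn
    classical
    by_cases hsc : ∀ g : P, ∃ c : K, ρ g = c • (1 : End K W)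
    · refine ⟨0, ?_⟩
      rw [pow_zero, ← hn]
      exact finrank_eq_one_of_scalar hirr (fun g _ => hsc g)
    -- a non-scalar element
    obtain ⟨g₀, hg₀⟩ : ∃ g₀ : P, g₀ ∉ scalSub ρ := by
      by_contra hcon
      apply hsc
      intro g
      by_contra hg
      exact hcon ⟨g, hg⟩
    have hnt : Nontrivial (P ⧸ scalSub ρ) :=
      ⟨⟨(g₀ : P ⧸ scalSub ρ), 1, by rw [Ne, QuotientGroup.eq_one_iff]; exact hg₀⟩⟩
    have hcn := (hP.to_quotient (scalSub ρ)).center_nontrivial
    obtain ⟨⟨z, hz⟩, hz1⟩ := exists_ne (1 : Subgroup.center (P ⧸ scalSub ρ))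
    obtain ⟨a, rfl⟩ := QuotientGroup.mk_surjective z
    have ha : a ∉ scalSub ρ := by
      intro h
      apply hz1
      apply Subtype.ext
      exact (QuotientGroup.eq_one_iff a).mpr h
    have hcomm : ∀ g : P, g * a * g⁻¹ * a⁻¹ ∈ scalSub ρ := by
      intro g
      rw [← QuotientGroup.eq_one_iff]
      have h1 := Subgroup.mem_center_iff.mp hz (g : P ⧸ scalSub ρ)
      simp only [QuotientGroup.mk_mul, QuotientGroup.mk_inv]
      rw [h1]
      group
    have hex : ∀ g : P, ∃ c : K, c ≠ 0 ∧ ρ g * ρ a * ρ g⁻¹ = c • ρ a := by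
      intro g
      obtain ⟨c, hc⟩ := hcomm g
      have h1 : ρ g * ρ a * ρ g⁻¹ = c • ρ a := by
        have : ρ g * ρ a * ρ g⁻¹ = ρ (g * a * g⁻¹ * a⁻¹) * ρ a := by
          rw [map_mul, map_mul, map_mul]
          simp only [mul_assoc]
          rw [rho_inv', mul_one]
        rw [this, hc, smul_mul_assoc, one_mul]
      refine ⟨c, ?_, h1⟩
      rintro rfl
      rw [zero_smul] at h1
      have h2 : ρ a = ρ g⁻¹ * (ρ g * ρ a * ρ g⁻¹) * ρ g := by
        have : ρ g⁻¹ * (ρ g * ρ a * ρ g⁻¹) * ρ g = (ρ g⁻¹ * ρ g) * ρ a * (ρ g⁻¹ * ρ g) := by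
          simp only [mul_assoc]
        rw [this, rho_inv', one_mul, mul_one]
      rw [h1, mul_zero, zero_mul] at h2
      exact rho_ne_zero ρ a h2
    choose ζ₀ hζ0 hζ using hex
    -- the character ζ
    let ζhom : P →* K :=
      { toFun := ζ₀
        map_one' := by
          apply smul_rho_cancel ρ a
          rw [← hζ 1, map_one, inv_one, map_one, one_mul, mul_one, one_smul]
        map_mul' := by
          intro g g'
          apply smul_rho_cancel ρ a
          rw [← hζ (g * g'), mul_inv_rev, map_mul, map_mul]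
          have : ρ g * ρ g' * ρ a * (ρ g'⁻¹ * ρ g⁻¹) = ρ g * (ρ g' * ρ a * ρ g'⁻¹) * ρ g⁻¹ := by
            simp only [mul_assoc]
          rw [this, hζ g', mul_smul_comm, smul_mul_assoc, hζ g, smul_smul, mul_comm] }
    let ζ : P →* Kˣ := ζhom.toHomUnits
    have hζval : ∀ g : P, ((ζ g : Kˣ) : K) = ζ₀ g := fun g => rfl
    -- eigenvalue
    obtain ⟨lam, hlam⟩ := Module.End.exists_eigenvalue (ρ a)
    obtain ⟨v₀, hv₀⟩ := hlam.exists_hasEigenvector
    have hv₀E : v₀ ∈ (ρ a).eigenspace lam := hv₀.1
    have hv₀ne : v₀ ≠ 0 := hv₀.2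
    have hlam0 : lam ≠ 0 := by
      rintro rfl
      rw [Module.End.mem_eigenspace_iff, zero_smul] at hv₀E
      apply hv₀ne
      have : v₀ = (ρ a⁻¹ * ρ a) v₀ := by rw [rho_inv']; rfl
      rw [this, Module.End.mul_apply, hv₀E, map_zero]
    set F : Kˣ → Submodule K W := fun c => (ρ a).eigenspace ((c : K)⁻¹ * lam) with hF
    have hF1 : F 1 = (ρ a).eigenspace lam := by
      rw [hF]
      simp
    have hEtop : F 1 ≠ ⊤ := by
      rw [hF1]
      intro h
      apply ha
      refine ⟨lam, ?_⟩
      apply LinearMap.ext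
      intro w
      have hw : w ∈ (ρ a).eigenspace lam := by rw [h]; exact Submodule.mem_top
      rw [Module.End.mem_eigenspace_iff] at hw
      rw [hw, LinearMap.smul_apply, Module.End.one_apply]
    have hrel : ∀ g : P, ρ g * ρ a = ζ₀ g • (ρ a * ρ g) := by
      intro g
      have h1 := hζ g
      have h2 : ρ g * ρ a = (ρ g * ρ a * ρ g⁻¹) * ρ g := by
        rw [mul_assoc (ρ g * ρ a), rho_inv', mul_one]
      rw [h2, h1, smul_mul_assoc]
    have hmap_le : ∀ (g : P) (c : Kˣ), (F c).map (ρ g) ≤ F (ζ g * c) := by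
      intro g c
      rintro _ ⟨w, hw, rfl⟩
      rw [SetLike.mem_coe, hF, Module.End.mem_eigenspace_iff] at hw
      rw [hF, Module.End.mem_eigenspace_iff]
      have h1 : (ρ g * ρ a) w = (ζ₀ g • (ρ a * ρ g)) w := by rw [hrel g]
      rw [Module.End.mul_apply, LinearMap.smul_apply, Module.End.mul_apply, hw, map_smul] at h1
      have h2 : (ρ a) ((ρ g) w) = (ζ₀ g)⁻¹ • (((c : K)⁻¹ * lam) • (ρ g) w) := by
        rw [h1, smul_smul, inv_mul_cancel₀ (hζ0 g), one_smul]
      rw [h2, smul_smul]
      congr 1
      rw [Units.val_mul, hζval, mul_inv, mul_assoc]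
    have hmap : ∀ (g : P) (c : Kˣ), (F c).map (ρ g) = F (ζ g * c) := by
      intro g c
      apply le_antisymm (hmap_le g c)
      intro w hw
      have h1 := hmap_le g⁻¹ (ζ g * c) ⟨w, hw, rfl⟩
      rw [map_inv, inv_mul_cancel_left] at h1
      refine ⟨(ρ g⁻¹) w, h1, ?_⟩
      rw [← Module.End.mul_apply, rho_inv]
      rfl
    -- the family indexed by the range of ζ
    have hfinR : Finite ↥ζ.range := Finite.of_surjective ζ.rangeRestrict ζ.rangeRestrict_surjective
    have : Fintype ↥ζ.range := Fintype.ofFinite _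
    set Fr : ↥ζ.range → Submodule K W := fun c => F (c : Kˣ) with hFr
    have hind : iSupIndep Fr := by
      have h0 := Module.End.eigenspaces_iSupIndep (ρ a)
      have := h0.comp (f := fun c : ↥ζ.range => (((c : Kˣ) : K))⁻¹ * lam) (by
        intro c c' hcc
        simp only at hcc
        have h1 := mul_right_cancel₀ hlam0 hcc
        have h2 := inv_injective h1
        exact Subtype.ext (Units.ext h2))
      exact this
    have hsup : ⨆ c, Fr c = ⊤ := by
      rcases hirr (⨆ c, Fr c) (by
        intro g _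
        rw [Submodule.map_iSup]
        apply iSup_le
        intro c
        rw [hFr]
        simp only
        rw [hmap g (c : Kˣ)]
        exact le_iSup Fr ⟨ζ g * (c : Kˣ), ζ.range.mul_mem ⟨g, rfl⟩ c.2⟩) with h | h
      · exfalso
        have h1 : Fr 1 ≤ ⨆ c, Fr c := le_iSup Fr 1
        rw [h, le_bot_iff] at h1
        have h2 : v₀ ∈ Fr 1 := by
          rw [hFr]
          simp only
          rw [OneMemClass.coe_one, hF1]
          exact hv₀E
        rw [h1, Submodule.mem_bot] at h2
        exact hv₀ne h2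
      · exact h
    have hrank : ∀ c : ↥ζ.range, finrank K (Fr c) = finrank K (F 1) := by
      rintro ⟨c, g, rfl⟩
      have h1 := hmap g 1
      rw [mul_one] at h1
      have h2 : finrank K ↥((F 1).map (ρ g)) = finrank K ↥(F (ζ g)) :=
        congrArg (fun S : Submodule K W => finrank K ↥S) h1
      show finrank K ↥(F (ζ g)) = finrank K ↥(F 1)
      rw [← h2]
      have hinj : Function.Injective (ρ g) := by
        intro w w' hww
        have : (ρ g⁻¹ * ρ g) w = (ρ g⁻¹ * ρ g) w' := by
          rw [Module.End.mul_apply, Module.End.mul_apply, hww]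
        rwa [rho_inv'] at this
      exact (Submodule.equivMapOfInjective _ hinj _).finrank_eq.symm
    have hsum := finrank_iSup_indep Fr hind hsup
    simp only [hrank, Finset.sum_const, Finset.card_univ, smul_eq_mul] at hsum
    have hidx : Fintype.card ↥ζ.range = ζ.ker.index := by
      rw [Subgroup.index_ker, Nat.card_eq_fintype_card]
    obtain ⟨k, hk⟩ := hP.index ζ.ker
    -- the restricted representation
    have hHE : ∀ h ∈ ζ.ker, ∀ w ∈ F 1, (ρ h) w ∈ F 1 := by
      intro h hh w hw
      have h1 := hmap h 1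
      rw [MonoidHom.mem_ker.mp hh, mul_one] at h1
      rw [← h1]
      exact ⟨w, hw, rfl⟩
    let ρE : ↥ζ.ker →* End K ↥(F 1) :=
      { toFun := fun h => (ρ (h : P)).restrict (hHE h h.2)
        map_one' := by
          apply LinearMap.ext
          intro w
          apply Subtype.ext
          simp [LinearMap.restrict_apply]
        map_mul' := by
          intro h h'
          apply LinearMap.ext
          intro w
          apply Subtype.ext
          simp [LinearMap.restrict_apply] }
    have hρE : ∀ (h : ↥ζ.ker) (w : ↥(F 1)), ((ρE h w : ↥(F 1)) : W) = ρ (h : P) (w : W) :=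
      fun h w => rfl
    have hntE : Nontrivial ↥(F 1) := by
      refine ⟨⟨⟨v₀, by rw [hF1]; exact hv₀E⟩, 0, ?_⟩⟩
      intro h
      exact hv₀ne (congrArg Subtype.val h)
    have hirrE : Irr ρE ⊤ := by
      intro W₀ hW₀
      set E' : Submodule K W := W₀.map (F 1).subtype with hE'
      have hE'le : E' ≤ F 1 := by
        rintro _ ⟨w, -, rfl⟩
        exact w.2
      rcases hirr (⨆ g : P, E'.map (ρ g)) (by
        intro g _
        rw [Submodule.map_iSup]
        apply iSup_le
        intro g'
        rw [← Submodule.map_comp]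
        have : (ρ g) ∘ₗ (ρ g') = ρ (g * g') := by rw [map_mul]; rfl
        rw [this]
        exact le_iSup (fun g : P => E'.map (ρ g)) (g * g')) with h | h
      · left
        have h1 : E' ≤ ⨆ g : P, E'.map (ρ g) := by
          have := le_iSup (fun g : P => E'.map (ρ g)) 1
          simp only [map_one] at this
          have e : E'.map (1 : End K W) = E' := Submodule.map_id E'
          rwa [e] at this
        rw [h, le_bot_iff] at h1
        rw [Submodule.eq_bot_iff]
        intro w hw
        have h2 : (w : W) ∈ E' := ⟨w, hw, rfl⟩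
        rw [h1, Submodule.mem_bot] at h2
        exact Subtype.ext h2
      · right
        rw [eq_top_iff]
        intro w _
        set Rest : Submodule K W := ⨆ c ∈ ({c : ↥ζ.range | c ≠ 1} : Set ↥ζ.range), Fr c with hRest
        have hdisj : Disjoint (Fr 1) Rest := hind.disjoint_biSup (by simp)
        have hle : (⨆ g : P, E'.map (ρ g)) ≤ E' ⊔ Rest := by
          apply iSup_le
          intro g
          by_cases hg : g ∈ ζ.ker
          · apply le_trans _ le_sup_left
            rintro _ ⟨_, ⟨y, hy, rfl⟩, rfl⟩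
            refine ⟨ρE ⟨g, hg⟩ y, ?_, rfl⟩
            have := hW₀ ⟨g, hg⟩ (Subgroup.mem_top _)
            exact this ⟨y, hy, rfl⟩
          · apply le_trans _ le_sup_right
            have h1 : E'.map (ρ g) ≤ Fr ⟨ζ g, ⟨g, rfl⟩⟩ := by
              have h2 := hmap g 1
              rw [mul_one] at h2
              rw [hFr]
              simp only
              rw [← h2]
              exact Submodule.map_mono hE'le
            apply le_trans h1
            have hne : (⟨ζ g, ⟨g, rfl⟩⟩ : ↥ζ.range) ≠ 1 := by
              intro h3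
              apply hg
              rw [MonoidHom.mem_ker]
              exact congrArg Subtype.val h3
            exact le_biSup Fr (show (⟨ζ g, ⟨g, rfl⟩⟩ : ↥ζ.range) ∈ {c : ↥ζ.range | c ≠ 1} from hne)
        have hw : (w : W) ∈ E' ⊔ Rest := by
          apply hle
          rw [h]
          exact Submodule.mem_top
        obtain ⟨e', he', r, hr, hsum'⟩ := Submodule.mem_sup.mp hw
        have hrE : r ∈ Fr 1 := by
          have : r = (w : W) - e' := by rw [← hsum']; abel
          rw [this, hFr]
          simp only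
          rw [OneMemClass.coe_one]
          exact Submodule.sub_mem _ w.2 (hE'le he')
        have hr0 : r = 0 := by
          have := Submodule.disjoint_def.mp hdisj r hrE hr
          exact this
        rw [hr0, add_zero] at hsum'
        rw [hsum'] at he'
        obtain ⟨y, hy, hyw⟩ := he'
        have : y = w := Subtype.ext hyw
        rw [← this]
        exact hy
    have hlt : finrank K ↥(F 1) < n := by
      rw [← hn]
      exact Submodule.finrank_lt hEtop
    obtain ⟨b', hb'⟩ := ih _ hlt ↥ζ.ker ↥(F 1) ρE (hP.to_subgroup ζ.ker) hirrE rfl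
    refine ⟨k + b', ?_⟩
    rw [← hn, hsum, hidx, hk, hb', pow_add]

/-- The dimension of an irreducible representation of a finite `q`-group over an algebraically
closed field is a power of `q`. -/
theorem qdim (q : ℕ) [Fact q.Prime] [IsAlgClosed K] {Γ : Type u} [Group Γ] {V : Type v}
    [AddCommGroup V] [Module K V] [FiniteDimensional K V] [Nontrivial V] (ρ : Γ →* End K V)
    (Q : Subgroup Γ) [Finite Q] (hQ : IsPGroup q Q) (hirr : Irr ρ Q) :
    ∃ b : ℕ, finrank K V = q ^ b := by
  apply qdim_aux q (finrank K V) ↥Q V (ρ.comp Q.subtype) hQ _ rfl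
  intro W hW
  apply hirr W
  intro g hg
  exact hW ⟨g, hg⟩ (Subgroup.mem_top _)

end qdim

end Cfsg.Agent.Lib.Helper20.HHMod
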