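import Mathlib
import Cfsg.Agent.Lib.Helper20.HHModA
import Cfsg.Agent.Lib.Helper20.HHModB
import Cfsg.Agent.Lib.Helper20.HHModC
import Cfsg.Agent.Lib.Helper20.HHModD
import Cfsg.Agent.Lib.Helper20.HHModE

set_option autoImplicit false

/-!
The critical case of the Hall–Higman theorem in characteristic `p`.
-/

namespace Cfsg.Agent.Lib.Helper20.HHMod

open Module

section arith

theorem arith_A (N s d γ : ℕ) (h1 : d * d ≤ s * γ) (h2 : N * γ + 1 ≤ N + d * d) (h3 : s ≤ d)
    (h4 : 2 ≤ s) : N ≤ s + 1 := by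
  by_contra hcon
  push Not at hcon
  obtain ⟨t, rfl⟩ : ∃ t, N = s + t := ⟨N - s, by omega⟩
  have ht : 2 ≤ t := by omega
  -- (N - s) d² + s ≤ s N
  have e1 : (s + t) * (d * d) ≤ (s + t) * (s * γ) := Nat.mul_le_mul_left _ h1
  have e2 : s * ((s + t) * γ + 1) ≤ s * ((s + t) + d * d) := Nat.mul_le_mul_left _ h2
  have e3 : t * (d * d) + s ≤ s * (s + t) := by nlinarith
  have e4 : s * s ≤ d * d := Nat.mul_le_mul h3 h3
  have e5 : t * (s * s) ≤ t * (d * d) := Nat.mul_le_mul_left _ e4
  have e6 : t * (s * s) + s ≤ s * (s + t) := by omega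
  -- divide by s
  have e7 : t * s + 1 ≤ s + t := by
    have : s * (t * s + 1) ≤ s * (s + t) := by nlinarith
    exact Nat.le_of_mul_le_mul_left this (by omega)
  nlinarith

theorem arith_B (N s d γ : ℕ) (h1 : d * d ≤ s * γ) (h2 : N * γ + 1 ≤ N + d * d) (h3 : s ≤ d)
    (hN : N = s + 1) : d = s := by
  subst hN
  have e1 : (s + 1) * (d * d) ≤ (s + 1) * (s * γ) := Nat.mul_le_mul_left _ h1
  have e2 : s * ((s + 1) * γ + 1) ≤ s * ((s + 1) + d * d) := Nat.mul_le_mul_left _ h2
  have e3 : d * d + s ≤ s * (s + 1) := by nlinarith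
  have e4 : d * d ≤ s * s := by nlinarith
  have e5 : d ≤ s := by
    by_contra hcon
    push Not at hcon
    have : s * s < d * d := Nat.mul_lt_mul'' hcon hcon
    omega
  omega

end arith

section critical

variable {K : Type*} [Field K] {V : Type*} [AddCommGroup V] [Module K V]
variable {Γ : Type*} [Group Γ]

theorem homSub_sub_one (u : End K V) : homSub (u - 1) (u - 1) = homSub u u := by
  ext A
  rw [mem_homSub, mem_homSub]
  constructor
  · intro h m
    have := h m
    rw [LinearMap.sub_apply, LinearMap.sub_apply, Module.End.one_apply, Module.End.one_apply,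
      map_sub] at this
    exact sub_left_injective this
  · intro h m
    rw [LinearMap.sub_apply, LinearMap.sub_apply, Module.End.one_apply, Module.End.one_apply,
      map_sub, h m]

theorem nilpotent_pow_finrank [FiniteDimensional K V] (ν : End K V) (s : ℕ) (hs : ν ^ s = 0) :
    ν ^ finrank K V = 0 := by
  have h1 : IsNilpotent ν := ⟨s, hs⟩
  have h2 := IsNilpotent.charpoly_eq_X_pow_finrank h1
  have h3 := LinearMap.aeval_self_charpoly ν
  rw [h2, map_pow, Polynomial.aeval_X] at h3
  exact h3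

/-- The critical case: `x` of order `p ^ m` acting freely on the non-central part of a normal
`q`-subgroup `Q` on which the faithful representation `ρ` is irreducible. -/
theorem critical [Finite Γ] (p q : ℕ) [Fact p.Prime] [Fact q.Prime] (hpq : p ≠ q)
    (Q : Subgroup Γ) [Q.Normal] (hQ : IsPGroup q Q) (x : Γ) (m : ℕ) (hord : orderOf x = p ^ m)
    (hfree : ∀ g ∈ Q, ∀ i, 0 < i → i < p ^ m → x ^ i * g * (x ^ i)⁻¹ = g →
      g ∈ Subgroup.center Γ)
    [IsAlgClosed K] [CharP K p] [FiniteDimensional K V] [Nontrivial V]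
    (ρ : Γ →* End K V) (hfaith : Function.Injective ρ) (hirr : Irr ρ Q)
    (s : ℕ) (hs : (ρ x - 1) ^ s = 0) (hmin : ∀ k < s, (ρ x - 1) ^ k ≠ 0) :
    p ^ m - 1 ≤ s ∧ s ≤ p ^ m ∧
      (s = p ^ m - 1 → (∃ b : ℕ, p ^ m - 1 = q ^ b) ∧
        ¬ ∀ g ∈ Q, ∀ g' ∈ Q, g * g' = g' * g) := by
  classical
  have hp := (Fact.out : p.Prime)
  have hq := (Fact.out : q.Prime)
  have : Fintype ↥Q := Fintype.ofFinite _
  have hxN : x ^ (p ^ m) = 1 := by rw [← hord]; exact pow_orderOf_eq_one x
  have huN : (ρ x) ^ (p ^ m) = 1 := by rw [← map_pow, hxN, map_one]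
  have hνN : (ρ x - 1) ^ (p ^ m) = 0 := by
    rw [(geom_char (K := K) p (ρ x) m).1, huN, sub_self]
  have hsN : s ≤ p ^ m := by
    by_contra hcon
    push Not at hcon
    exact hmin _ hcon hνN
  have hs1 : 1 ≤ s := by
    rcases Nat.eq_zero_or_pos s with h | h
    · rw [h, pow_zero] at hs
      exact absurd hs one_ne_zero
    · exact h
  rcases Nat.eq_zero_or_pos m with hm0 | hmpos
  · subst hm0
    rw [pow_zero] at hsN ⊢
    refine ⟨by omega, hsN, ?_⟩
    intro h
    omega
  -- main case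
  have hN2 : 2 ≤ p ^ m := by
    calc 2 ≤ p := hp.two_le
      _ = p ^ 1 := (pow_one p).symm
      _ ≤ p ^ m := Nat.pow_le_pow_right hp.pos hmpos
  have hx1 : x ≠ 1 := by
    intro h
    rw [h, orderOf_one] at hord
    omega
  have hs2 : 2 ≤ s := by
    by_contra hcon
    have h1 : s = 1 := by omega
    rw [h1, pow_one, sub_eq_zero] at hs
    apply hx1
    apply hfaith
    rw [hs, map_one]
  -- cardinality of Q invertible in K
  have hQK : (Fintype.card ↥Q : K) ≠ 0 := by
    obtain ⟨k, hk⟩ := (IsPGroup.iff_card.mp hQ)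
    rw [← Nat.card_eq_fintype_card, hk, Nat.cast_pow]
    apply pow_ne_zero
    intro h0
    have := (CharP.cast_eq_zero_iff K p q).mp h0
    exact hpq ((Nat.prime_dvd_prime_iff_eq hp hq).mp this)
  have hfree' : ∀ g ∈ Q, ∀ i, 0 < i → i < p ^ m → x ^ i * g * (x ^ i)⁻¹ = g →
      ∃ c : K, ρ g = c • (1 : End K V) := by
    intro g hg i hi0 hiN heq
    have hc := hfree g hg i hi0 hiN heq
    apply schur hirr (ρ g)
    intro g' _
    rw [← map_mul, ← map_mul, Subgroup.mem_center_iff.mp hc g']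
  have hd0 : (finrank K V : K) ≠ 0 := finrank_ne_zero hirr hQK
  have hpd : ¬ p ∣ finrank K V := by
    intro h
    exact hd0 ((CharP.cast_eq_zero_iff K p _).mpr h)
  -- the two bounds
  have hA := commutant_bound (ρ x - 1) s hs
  rw [homSub_sub_one] at hA
  have hB := finrank_commutant_le p hirr hQK x m hxN hfree'
  have hB' : p ^ m * finrank K (homSub (ρ x) (ρ x)) + 1 ≤ p ^ m + finrank K V * finrank K V := by
    rcases Nat.lt_or_ge (p ^ m * finrank K (homSub (ρ x) (ρ x)))
      (p ^ m + finrank K V * finrank K V) with h | h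
    · omega
    · exfalso
      have heq : p ^ m * finrank K (homSub (ρ x) (ρ x)) = p ^ m + finrank K V * finrank K V :=
        le_antisymm hB h
      have hpN : p ∣ p ^ m := dvd_pow_self p (by omega)
      have h1 : p ∣ p ^ m * finrank K (homSub (ρ x) (ρ x)) := Dvd.dvd.mul_right hpN _
      rw [heq] at h1
      have h2 : p ∣ finrank K V * finrank K V := (Nat.dvd_add_right hpN).mp h1
      rcases (Nat.Prime.dvd_mul hp).mp h2 with h3 | h3 <;> exact hpd h3
  have hsd : s ≤ finrank K V := by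
    by_contra hcon
    push Not at hcon
    exact hmin _ hcon (nilpotent_pow_finrank _ s hs)
  have hNs : p ^ m ≤ s + 1 := arith_A _ _ _ _ hA hB' hsd hs2
  refine ⟨by omega, hsN, ?_⟩
  intro hseq
  have hN : p ^ m = s + 1 := by omega
  have hds : finrank K V = s := arith_B _ _ _ _ hA hB' hsd hN
  constructor
  · obtain ⟨b, hb⟩ := qdim q ρ Q hQ hirr
    exact ⟨b, by rw [← hseq, ← hds, hb]⟩
  · intro hcomm
    have h1 := finrank_eq_one_of_comm hirr (fun g hg g' hg' => by
      rw [← map_mul, ← map_mul, hcomm g hg g' hg'])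
    omega

end critical

end Cfsg.Agent.Lib.Helper20.HHMod
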