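import Mathlib
import Cfsg.Agent.Lib.Helper20.HHModF

set_option autoImplicit false

/-!
The critical case of the Hall–Higman theorem in characteristic `p`, for a subgroup that is only
normalised by the `p`-element (not necessarily normal), and without faithfulness.
-/

namespace Cfsg.Agent.Lib.Helper20.HHMod

open Module Polynomial
open Cfsg.Agent.Lib.Helper20.HHExt (rho_inv rho_inv' conjAct conjAct_apply)

section perm

variable {Γ : Type*} [Group Γ]

/-- The permutation of `Q` induced by conjugation by a normalising element. -/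
def conjPerm {Q : Subgroup Γ} {x : Γ} (hx : ∀ g, g ∈ Q ↔ x * g * x⁻¹ ∈ Q) : Equiv.Perm ↥Q where
  toFun g := ⟨x * g * x⁻¹, (hx g).mp g.2⟩
  invFun g := ⟨x⁻¹ * g * x, (hx _).mpr (by
    have : x * (x⁻¹ * (g : Γ) * x) * x⁻¹ = g := by group
    rw [this]
    exact g.2)⟩
  left_inv g := by
    apply Subtype.ext
    simp only
    group
  right_inv g := by
    apply Subtype.ext
    simp only
    group

theorem conjPerm_apply {Q : Subgroup Γ} {x : Γ} (hx : ∀ g, g ∈ Q ↔ x * g * x⁻¹ ∈ Q) (g : ↥Q) :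
    ((conjPerm hx g : ↥Q) : Γ) = x * (g : Γ) * x⁻¹ := rfl

theorem conjPerm_pow_apply {Q : Subgroup Γ} {x : Γ} (hx : ∀ g, g ∈ Q ↔ x * g * x⁻¹ ∈ Q) (i : ℕ)
    (g : ↥Q) : (((conjPerm hx ^ i) g : ↥Q) : Γ) = x ^ i * (g : Γ) * (x ^ i)⁻¹ := by
  induction i with
  | zero => simp
  | succ n ih =>
    rw [pow_succ', Equiv.Perm.mul_apply, conjPerm_apply, ih, pow_succ']
    group

end perm

section commutant

variable {K : Type*} [Field K] {V : Type*} [AddCommGroup V] [Module K V]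
variable {Γ : Type*} [Group Γ]
variable {ρ : Γ →* End K V} {Q : Subgroup Γ}

theorem fsum_mem' [FiniteDimensional K V] [Fintype ↥Q] (x : Γ)
    (hx : ∀ g, g ∈ Q ↔ x * g * x⁻¹ ∈ Q) (N : ℕ) (hN : 0 < N)
    (hxN : x ^ N = 1)
    (hfree : ∀ g ∈ Q, ∀ i, 0 < i → i < N → x ^ i * g * (x ^ i)⁻¹ = g →
      ∃ c : K, ρ g = c • (1 : End K V))
    (T : End K V) (hT : ρ x * T = T * ρ x) :
    fsum ρ Q T ∈ Submodule.span K {(1 : End K V)} ⊔ LinearMap.range (transfer ρ x N) := by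
  classical
  set σ : Equiv.Perm ↥Q := conjPerm hx with hσdef
  have hσapp : ∀ (i : ℕ) (g : ↥Q), (((σ ^ i) g : ↥Q) : Γ) = x ^ i * (g : Γ) * (x ^ i)⁻¹ :=
    fun i g => conjPerm_pow_apply hx i g
  have hσ1 : ∀ g : ↥Q, ((σ g : ↥Q) : Γ) = x * (g : Γ) * x⁻¹ := fun g => rfl
  have hσN : σ ^ N = 1 := by
    apply Equiv.ext
    intro g
    apply Subtype.ext
    rw [hσapp, hxN]
    simp
  set f : ↥Q → End K V :=
    fun g => LinearMap.trace K V (T * ρ ((g : Γ)⁻¹)) • ρ (g : Γ) with hfdef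
  have hf : ∀ g, f (σ g) = conjAct ρ x (f g) := by
    intro g
    rw [hfdef]
    simp only
    have e0 : ρ (x * (g : Γ) * x⁻¹) = ρ x * ρ (g : Γ) * ρ x⁻¹ := by rw [map_mul, map_mul]
    have e1 : ρ ((x * (g : Γ) * x⁻¹)⁻¹) = ρ x * ρ (g : Γ)⁻¹ * ρ x⁻¹ := by
      have : (x * (g : Γ) * x⁻¹)⁻¹ = x * (g : Γ)⁻¹ * x⁻¹ := by group
      rw [this, map_mul, map_mul]
    rw [hσ1 g, conjAct_apply, mul_smul_comm, smul_mul_assoc, e0, e1]
    congr 1
    have e2 : T * (ρ x * ρ (g : Γ)⁻¹ * ρ x⁻¹) = (T * ρ x * ρ (g : Γ)⁻¹) * ρ x⁻¹ := by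
      simp only [mul_assoc]
    rw [e2, LinearMap.trace_mul_comm, ← hT]
    have e3 : ρ x⁻¹ * (ρ x * T * ρ (g : Γ)⁻¹) = (ρ x⁻¹ * ρ x) * T * ρ (g : Γ)⁻¹ := by
      simp only [mul_assoc]
    rw [e3, rho_inv', one_mul]
  set scal : ↥Q → Prop := fun g => ∃ c : K, ρ (g : Γ) = c • (1 : End K V) with hscal
  have hsplit : fsum ρ Q T = ∑ g ∈ Finset.univ.filter scal, f g +
      ∑ g ∈ Finset.univ.filter (fun g => ¬ scal g), f g := by
    rw [Finset.sum_filter_add_sum_filter_not]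
    rfl
  rw [hsplit]
  apply Submodule.add_mem
  · apply Submodule.mem_sup_left
    apply Submodule.sum_mem
    intro g hg
    rw [Finset.mem_filter] at hg
    obtain ⟨c, hc⟩ := hg.2
    rw [hfdef]
    simp only
    rw [hc, smul_smul]
    exact Submodule.smul_mem _ _ (Submodule.subset_span rfl)
  · apply Submodule.mem_sup_right
    unfold transfer
    apply orbit_sum_mem σ (conjAct ρ x) N hN hσN f hf _ _ rfl
    · intro g hg
      rw [Finset.mem_filter] at hg ⊢
      refine ⟨Finset.mem_univ _, ?_⟩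
      rintro ⟨c, hc⟩
      apply hg.2
      refine ⟨c, ?_⟩
      rw [hσ1 g, map_mul, map_mul] at hc
      have e1 : ρ (g : Γ) = ρ x⁻¹ * (ρ x * ρ (g : Γ) * ρ x⁻¹) * ρ x := by
        have : ρ x⁻¹ * (ρ x * ρ (g : Γ) * ρ x⁻¹) * ρ x =
            (ρ x⁻¹ * ρ x) * ρ (g : Γ) * (ρ x⁻¹ * ρ x) := by simp only [mul_assoc]
        rw [this, rho_inv', one_mul, mul_one]
      rw [e1, hc, mul_smul_comm, smul_mul_assoc, mul_one, rho_inv']
    · intro g hg i hi0 hiN heq
      rw [Finset.mem_filter] at hg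
      apply hg.2
      have h1 := hσapp i g
      rw [heq] at h1
      exact hfree (g : Γ) g.2 i hi0 hiN h1.symm

theorem commutant_le' [IsAlgClosed K] [FiniteDimensional K V] [Nontrivial V]
    [Fintype ↥Q] (hirr : Irr ρ Q) (hQ : (Fintype.card ↥Q : K) ≠ 0) (x : Γ)
    (hx : ∀ g, g ∈ Q ↔ x * g * x⁻¹ ∈ Q) (N : ℕ) (hN : 0 < N)
    (hxN : x ^ N = 1)
    (hfree : ∀ g ∈ Q, ∀ i, 0 < i → i < N → x ^ i * g * (x ^ i)⁻¹ = g →
      ∃ c : K, ρ g = c • (1 : End K V)) :
    homSub (ρ x) (ρ x) ≤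
      Submodule.span K {(1 : End K V)} ⊔ LinearMap.range (transfer ρ x N) := by
  intro T hT
  have hT' : ρ x * T = T * ρ x := by
    apply LinearMap.ext
    intro m
    exact (hT m).symm
  have h1 := fsum_mem' (ρ := ρ) (Q := Q) x hx N hN hxN hfree T hT'
  have h2 := fourier hirr T
  have h3 : T = ((Fintype.card ↥Q : K)⁻¹ * (finrank K V : K)) • fsum ρ Q T := by
    rw [mul_smul, h2, smul_smul, inv_mul_cancel₀ hQ, one_smul]
  rw [h3]
  exact Submodule.smul_mem _ _ h1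

/-- Dimension bound for the commutant, in characteristic `p` with `x` of order dividing `p ^ m`. -/
theorem finrank_commutant_le' [IsAlgClosed K] [FiniteDimensional K V] [Nontrivial V]
    [Fintype ↥Q] (p : ℕ) [Fact p.Prime] [CharP K p] (hirr : Irr ρ Q)
    (hQ : (Fintype.card ↥Q : K) ≠ 0) (x : Γ) (hx : ∀ g, g ∈ Q ↔ x * g * x⁻¹ ∈ Q)
    (m : ℕ) (hxN : x ^ (p ^ m) = 1)
    (hfree : ∀ g ∈ Q, ∀ i, 0 < i → i < p ^ m → x ^ i * g * (x ^ i)⁻¹ = g →
      ∃ c : K, ρ g = c • (1 : End K V)) :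
    p ^ m * finrank K (homSub (ρ x) (ρ x)) ≤ p ^ m + finrank K V * finrank K V := by
  have hN : 0 < p ^ m := Nat.pos_of_ne_zero (pow_ne_zero _ (Fact.out : p.Prime).ne_zero)
  have h1 := Submodule.finrank_mono (commutant_le' hirr hQ x hx (p ^ m) hN hxN hfree)
  have h2 := Submodule.finrank_add_le_finrank_add_finrank
    (Submodule.span K {(1 : End K V)}) (LinearMap.range (transfer ρ x (p ^ m)))
  have h3 : finrank K (Submodule.span K {(1 : End K V)}) = 1 :=
    finrank_span_singleton one_ne_zero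
  obtain ⟨g1, g2⟩ := geom_char (K := K) p (conjAct ρ x) m
  have hc : (conjAct ρ x) ^ (p ^ m) = 1 := by
    rw [conjAct_pow, hxN]
    apply LinearMap.ext
    intro f
    rw [conjAct_apply, inv_one, map_one, one_mul, mul_one]
    rfl
  rw [hc, sub_self] at g1
  have h4 := mul_finrank_range_le (conjAct ρ x - 1) (p ^ m) hN g1
  have h5 : transfer ρ x (p ^ m) = (conjAct ρ x - 1) ^ (p ^ m - 1) := g2
  rw [← h5] at h4
  have h6 : finrank K (End K V) = finrank K V * finrank K V := Module.finrank_linearMap K K V V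
  rw [h6] at h4
  have h7 := h1.trans h2
  rw [h3] at h7
  calc p ^ m * finrank K (homSub (ρ x) (ρ x))
      ≤ p ^ m * (1 + finrank K (LinearMap.range (transfer ρ x (p ^ m)))) :=
        Nat.mul_le_mul_left _ h7
    _ = p ^ m + p ^ m * finrank K (LinearMap.range (transfer ρ x (p ^ m))) := by ring
    _ ≤ p ^ m + finrank K V * finrank K V := by omega

end commutant

section critical

variable {K : Type*} [Field K] {V : Type*} [AddCommGroup V] [Module K V]
variable {Γ : Type*} [Group Γ]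

/-- The critical case: `x` with `x ^ p ^ m = 1` acting freely (up to scalars) on a `q`-subgroup
`Q` normalised by `x`, on which the representation `ρ` is irreducible. -/
theorem critical' (p q : ℕ) [Fact p.Prime] [Fact q.Prime] (hpq : p ≠ q)
    (Q : Subgroup Γ) [Finite Q] (hQ : IsPGroup q Q) (x : Γ)
    (hx : ∀ g, g ∈ Q ↔ x * g * x⁻¹ ∈ Q) (m : ℕ) (hm : 1 ≤ m) (hxN : x ^ (p ^ m) = 1)
    [IsAlgClosed K] [CharP K p] [FiniteDimensional K V] [Nontrivial V]
    (ρ : Γ →* End K V) (hx1 : ρ x ≠ 1)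
    (hfree : ∀ g ∈ Q, ∀ i, 0 < i → i < p ^ m → x ^ i * g * (x ^ i)⁻¹ = g →
      ∃ c : K, ρ g = c • (1 : End K V))
    (hirr : Irr ρ Q)
    (s : ℕ) (hs : (ρ x - 1) ^ s = 0) (hmin : ∀ k < s, (ρ x - 1) ^ k ≠ 0) :
    2 ≤ s ∧ p ^ m - 1 ≤ s ∧ s ≤ p ^ m ∧
      (s = p ^ m - 1 → (∃ b : ℕ, p ^ m - 1 = q ^ b) ∧
        ¬ ∀ g ∈ Q, ∀ g' ∈ Q, ρ g * ρ g' = ρ g' * ρ g) := by
  classical
  have hp := (Fact.out : p.Prime)
  have hq := (Fact.out : q.Prime)
  have : Fintype ↥Q := Fintype.ofFinite _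
  have huN : (ρ x) ^ (p ^ m) = 1 := by rw [← map_pow, hxN, map_one]
  have hνN : (ρ x - 1) ^ (p ^ m) = 0 := by
    rw [(geom_char (K := K) p (ρ x) m).1, huN, sub_self]
  have hsN : s ≤ p ^ m := by
    by_contra hcon
    push Not at hcon
    exact hmin _ hcon hνN
  have hs1 : 1 ≤ s := by
    rcases Nat.eq_zero_or_pos s with h | h
    · rw [h, pow_zero] at hs
      exact absurd hs one_ne_zero
    · exact h
  have hs2 : 2 ≤ s := by
    by_contra hcon
    have h1 : s = 1 := by omega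
    rw [h1, pow_one, sub_eq_zero] at hs
    exact hx1 hs
  -- cardinality of Q invertible in K
  have hQK : (Fintype.card ↥Q : K) ≠ 0 := by
    obtain ⟨k, hk⟩ := (IsPGroup.iff_card.mp hQ)
    rw [← Nat.card_eq_fintype_card, hk, Nat.cast_pow]
    apply pow_ne_zero
    intro h0
    have := (CharP.cast_eq_zero_iff K p q).mp h0
    exact hpq ((Nat.prime_dvd_prime_iff_eq hp hq).mp this)
  have hd0 : (finrank K V : K) ≠ 0 := finrank_ne_zero hirr hQK
  have hpd : ¬ p ∣ finrank K V := by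
    intro h
    exact hd0 ((CharP.cast_eq_zero_iff K p _).mpr h)
  -- the two bounds
  have hA := commutant_bound (ρ x - 1) s hs
  rw [homSub_sub_one] at hA
  have hB := finrank_commutant_le' p hirr hQK x hx m hxN hfree
  have hB' : p ^ m * finrank K (homSub (ρ x) (ρ x)) + 1 ≤ p ^ m + finrank K V * finrank K V := by
    rcases Nat.lt_or_ge (p ^ m * finrank K (homSub (ρ x) (ρ x)))
      (p ^ m + finrank K V * finrank K V) with h | h
    · omega
    · exfalso
      have heq : p ^ m * finrank K (homSub (ρ x) (ρ x)) = p ^ m + finrank K V * finrank K V :=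
        le_antisymm hB h
      have hpN : p ∣ p ^ m := dvd_pow_self p (by omega)
      have h1 : p ∣ p ^ m * finrank K (homSub (ρ x) (ρ x)) := Dvd.dvd.mul_right hpN _
      rw [heq] at h1
      have h2 : p ∣ finrank K V * finrank K V := (Nat.dvd_add_right hpN).mp h1
      rcases (Nat.Prime.dvd_mul hp).mp h2 with h3 | h3 <;> exact hpd h3
  have hsd : s ≤ finrank K V := by
    by_contra hcon
    push Not at hcon
    exact hmin _ hcon (nilpotent_pow_finrank _ s hs)
  have hNs : p ^ m ≤ s + 1 := arith_A _ _ _ _ hA hB' hsd hs2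
  refine ⟨hs2, by omega, hsN, ?_⟩
  intro hseq
  have hN2 : 1 ≤ p ^ m := Nat.one_le_pow _ _ hp.pos
  have hN : p ^ m = s + 1 := by omega
  have hds : finrank K V = s := arith_B _ _ _ _ hA hB' hsd hN
  constructor
  · obtain ⟨b, hb⟩ := qdim q ρ Q hQ hirr
    exact ⟨b, by rw [← hseq, ← hds, hb]⟩
  · intro hcomm
    have h1 := finrank_eq_one_of_comm hirr hcomm
    omega

end critical

end Cfsg.Agent.Lib.Helper20.HHMod
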