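import Mathlib
import Cfsg.Agent.Lib.Helper20.HHExtH

set_option autoImplicit false

/-!
Minimal subgroups invariant under `x` on which a power `y` of `x` acts non-trivially (coprime action
on a `q`-group): two-element version of `MinAct`.
-/

namespace Cfsg.Agent.Lib.Helper20.HHThm

open Cfsg.Agent.Lib.Helper20.HHExt (conj_mem_closure mem_normalizer_closure conj_mem_of_norm
  conj_mem_of_norm' centralizes_of_comm commSet commutator_ne)

section minimal

open scoped commutatorElement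

variable {G : Type*} [Group G]

/-- `x` normalises `P`, its power `y` acts non-trivially on `P` and centralises every proper
`x`-invariant subgroup. -/
structure MinAct2 (x y : G) (P : Subgroup G) : Prop where
  norm : x ∈ Subgroup.normalizer (P : Set G)
  pow : ∃ k : ℕ, y = x ^ k
  nontriv : ∃ g ∈ P, y * g ≠ g * y
  min : ∀ R : Subgroup G, R ≤ P → x ∈ Subgroup.normalizer (R : Set G) → R ≠ P →
    ∀ g ∈ R, y * g = g * y

namespace MinAct2

variable {x y : G} {P : Subgroup G}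

theorem comm (h : MinAct2 x y P) : x * y = y * x := by
  obtain ⟨k, rfl⟩ := h.pow
  rw [← pow_succ', ← pow_succ]

theorem ynorm (h : MinAct2 x y P) {R : Subgroup G} (hR : x ∈ Subgroup.normalizer (R : Set G)) :
    y ∈ Subgroup.normalizer (R : Set G) := by
  obtain ⟨k, rfl⟩ := h.pow
  exact Subgroup.pow_mem _ hR k

theorem closure_commSet_le (h : MinAct2 x y P) : Subgroup.closure (commSet y P) ≤ P := by
  rw [Subgroup.closure_le]
  rintro _ ⟨g, hg, rfl⟩
  exact P.mul_mem (P.inv_mem hg) (conj_mem_of_norm (h.ynorm h.norm) hg)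

theorem norm_closure_commSet (h : MinAct2 x y P) :
    x ∈ Subgroup.normalizer (Subgroup.closure (commSet y P) : Set G) := by
  have hc := h.comm
  have e1 : x * y * x⁻¹ = y := by rw [hc]; group
  have e2 : x⁻¹ * y * x = y := by rw [mul_assoc, ← hc]; group
  apply mem_normalizer_closure
  · rintro _ ⟨g, hg, rfl⟩
    refine ⟨x * g * x⁻¹, conj_mem_of_norm h.norm hg, ?_⟩
    have : x * (g⁻¹ * (y * g * y⁻¹)) * x⁻¹ =
        (x * g * x⁻¹)⁻¹ * ((x * y * x⁻¹) * (x * g * x⁻¹) * (x * y * x⁻¹)⁻¹) := by group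
    rw [this, e1]
  · rintro _ ⟨g, hg, rfl⟩
    refine ⟨x⁻¹ * g * x, conj_mem_of_norm' h.norm hg, ?_⟩
    have : x⁻¹ * (g⁻¹ * (y * g * y⁻¹)) * x =
        (x⁻¹ * g * x)⁻¹ * ((x⁻¹ * y * x) * (x⁻¹ * g * x) * (x⁻¹ * y * x)⁻¹) := by group
    rw [this, e2]

/-- `P = [P, y]`. -/
theorem closure_commSet_eq (h : MinAct2 x y P) {q r : ℕ} (hq : IsPGroup q P) (hqr : q.Coprime r)
    (hyr : y ^ r = 1) : Subgroup.closure (commSet y P) = P := by
  by_contra hne
  obtain ⟨g, hg, hgx⟩ := h.nontriv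
  apply hgx
  apply centralizes_of_comm hq hqr hyr h.closure_commSet_le
    (h.min _ h.closure_commSet_le h.norm_closure_commSet hne) _ g hg
  intro g' hg'
  exact Subgroup.subset_closure ⟨g', hg', rfl⟩

/-- Proper `x`-invariant normal subgroups are central. -/
theorem central_of_normal (h : MinAct2 x y P) {q r : ℕ} (hq : IsPGroup q P) (hqr : q.Coprime r)
    (hyr : y ^ r = 1) (N : Subgroup G) (hNP : N ≤ P) (hne : N ≠ P)
    (hxN : x ∈ Subgroup.normalizer (N : Set G)) (hnorm : ∀ g ∈ P, ∀ n ∈ N, g * n * g⁻¹ ∈ N) :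
    ∀ n ∈ N, ∀ g ∈ P, g * n = n * g := by
  intro n hn
  have hxn := h.min N hNP hxN hne
  have hle : Subgroup.closure (commSet y P) ≤ Subgroup.centralizer {n} := by
    rw [Subgroup.closure_le]
    rintro _ ⟨g, hg, rfl⟩
    rw [SetLike.mem_coe, Subgroup.mem_centralizer_singleton_iff]
    have h1 := hxn _ (hnorm g hg n hn)
    have h2 := hxn n hn
    have h3 : y⁻¹ * n = n * y⁻¹ := by
      have : y⁻¹ * n = y⁻¹ * (n * y) * y⁻¹ := by group
      rw [this, ← h2]
      group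
    have h4 : y * (g * n * g⁻¹) * y⁻¹ = g * n * g⁻¹ := by
      rw [h1]
      group
    have e1 : g⁻¹ * (y * g * y⁻¹) * n = g⁻¹ * y * g * (y⁻¹ * n) := by group
    have e2 : g⁻¹ * y * g * (n * y⁻¹) = g⁻¹ * (y * (g * n * g⁻¹) * y⁻¹) * (y * g * y⁻¹) := by group
    rw [e1, h3, e2, h4]
    group
  rw [h.closure_commSet_eq hq hqr hyr] at hle
  intro g hg
  have := hle hg
  rw [Subgroup.mem_centralizer_singleton_iff] at this
  exact this

/-- Commutators of `P` are central in `P` and fixed by `y`. -/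
theorem comm_central (h : MinAct2 x y P) [Finite P] {q r : ℕ} [Fact q.Prime] (hq : IsPGroup q P)
    (hqr : q.Coprime r) (hyr : y ^ r = 1) (a b : G) (ha : a ∈ P) (hb : b ∈ P) :
    (∀ g ∈ P, g * (a * b * a⁻¹ * b⁻¹) = (a * b * a⁻¹ * b⁻¹) * g) ∧
      y * (a * b * a⁻¹ * b⁻¹) = (a * b * a⁻¹ * b⁻¹) * y := by
  have hPnt : P ≠ ⊥ := by
    intro hbot
    obtain ⟨g, hg, hgx⟩ := h.nontriv
    rw [hbot, Subgroup.mem_bot] at hg
    rw [hg] at hgx
    simp at hgx
  have hNP : ⁅P, P⁆ ≤ P := by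
    rw [Subgroup.commutator_le]
    intro g₁ hg₁ g₂ hg₂
    rw [commutatorElement_def]
    exact P.mul_mem (P.mul_mem (P.mul_mem hg₁ hg₂) (P.inv_mem hg₁)) (P.inv_mem hg₂)
  have hne : ⁅P, P⁆ ≠ P := commutator_ne P hq hPnt
  have hconj : ∀ t : G, (∀ g ∈ P, t * g * t⁻¹ ∈ P) →
      ∀ s ∈ {g | ∃ g₁ ∈ P, ∃ g₂ ∈ P, ⁅g₁, g₂⁆ = g}, t * s * t⁻¹ ∈
        {g | ∃ g₁ ∈ P, ∃ g₂ ∈ P, ⁅g₁, g₂⁆ = g} := by
    rintro t ht _ ⟨g₁, hg₁, g₂, hg₂, rfl⟩
    refine ⟨t * g₁ * t⁻¹, ht g₁ hg₁, t * g₂ * t⁻¹, ht g₂ hg₂, ?_⟩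
    rw [commutatorElement_def, commutatorElement_def]
    group
  have hxN : x ∈ Subgroup.normalizer ((⁅P, P⁆ : Subgroup G) : Set G) := by
    rw [Subgroup.commutator_def]
    apply mem_normalizer_closure
    · exact hconj x (fun g hg => conj_mem_of_norm h.norm hg)
    · have := hconj x⁻¹ (fun g hg => by rw [inv_inv]; exact conj_mem_of_norm' h.norm hg)
      intro s hs
      have h2 := this s hs
      rw [inv_inv] at h2
      exact h2
  have hnorm : ∀ g ∈ P, ∀ n ∈ ⁅P, P⁆, g * n * g⁻¹ ∈ ⁅P, P⁆ := by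
    intro g hg n hn
    rw [Subgroup.commutator_def] at hn ⊢
    exact conj_mem_closure (hconj g (fun k hk => P.mul_mem (P.mul_mem hg hk) (P.inv_mem hg))) n hn
  have hmem : a * b * a⁻¹ * b⁻¹ ∈ ⁅P, P⁆ := by
    rw [← commutatorElement_def]
    exact Subgroup.commutator_mem_commutator ha hb
  exact ⟨h.central_of_normal hq hqr hyr _ hNP hne hxN hnorm _ hmem,
    h.min _ hNP hxN hne _ hmem⟩

/-- The fixed points of `y` on `P` are central. -/
theorem fixed_central (h : MinAct2 x y P) [Finite P] {q r : ℕ} [Fact q.Prime] (hq : IsPGroup q P)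
    (hqr : q.Coprime r) (hyr : y ^ r = 1) (c : G) (hc : c ∈ P) (hyc : y * c = c * y) :
    ∀ g ∈ P, g * c = c * g := by
  have hle : Subgroup.closure (commSet y P) ≤ Subgroup.centralizer {c} := by
    rw [Subgroup.closure_le]
    rintro _ ⟨g, hg, rfl⟩
    rw [SetLike.mem_coe, Subgroup.mem_centralizer_singleton_iff]
    obtain ⟨-, hz⟩ := h.comm_central hq hqr hyr c g hc hg
    have hz' : y * (c * g * c⁻¹ * g⁻¹) * y⁻¹ = c * g * c⁻¹ * g⁻¹ := by
      rw [hz]
      group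
    have hcx : c * y * c⁻¹ = y := by
      rw [← hyc]
      group
    have e1 : c * (g⁻¹ * (y * g * y⁻¹)) =
        (c * g * c⁻¹)⁻¹ * ((c * y * c⁻¹) * (c * g * c⁻¹) * (c * y * c⁻¹)⁻¹) * c := by group
    have e2 : c * g * c⁻¹ = (c * g * c⁻¹ * g⁻¹) * g := by group
    have e3 : ((c * g * c⁻¹ * g⁻¹) * g)⁻¹ * (y * ((c * g * c⁻¹ * g⁻¹) * g) * y⁻¹) =
        g⁻¹ * ((c * g * c⁻¹ * g⁻¹)⁻¹ * (y * (c * g * c⁻¹ * g⁻¹) * y⁻¹)) * (y * g * y⁻¹) := by group
    rw [e1, hcx, e2, e3, hz']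
    group
  rw [h.closure_commSet_eq hq hqr hyr] at hle
  intro g hg
  have := hle hg
  rw [Subgroup.mem_centralizer_singleton_iff] at this
  exact this

end MinAct2

theorem exists_minAct2 (x y : G) (hy : ∃ k : ℕ, y = x ^ k) :
    ∀ (k : ℕ) (Q : Subgroup G) [Finite Q], Nat.card Q = k →
      x ∈ Subgroup.normalizer (Q : Set G) → (∃ g ∈ Q, y * g ≠ g * y) →
      ∃ P : Subgroup G, P ≤ Q ∧ MinAct2 x y P := by
  intro k
  induction k using Nat.strong_induction_on with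
  | _ k ih =>
    intro Q _ hk hxQ hnt
    by_cases hmin : ∀ R : Subgroup G, R ≤ Q → x ∈ Subgroup.normalizer (R : Set G) → R ≠ Q →
        ∀ g ∈ R, y * g = g * y
    · exact ⟨Q, le_rfl, hxQ, hy, hnt, hmin⟩
    · push Not at hmin
      obtain ⟨R, hRQ, hxR, hne, g, hg, hgy⟩ := hmin
      have hfin : Finite R :=
        Finite.of_injective (Subgroup.inclusion hRQ) (Subgroup.inclusion_injective hRQ)
      have hlt : Nat.card R < k := by
        rw [← hk]
        apply lt_of_le_of_ne (Subgroup.card_le_of_le hRQ)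
        intro heq
        exact hne (Subgroup.eq_of_le_of_card_ge hRQ heq.ge)
      obtain ⟨P, hPR, hP⟩ := ih _ hlt R rfl hxR ⟨g, hg, hgy⟩
      exact ⟨P, hPR.trans hRQ, hP⟩

end minimal

end Cfsg.Agent.Lib.Helper20.HHThm
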