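import Mathlib
import Cfsg.Agent.Lib.Helper20.HHExtE

set_option autoImplicit false

/-!
Hall–Higman Theorem B: the inductive statement, localisation to invariant subspaces and quotients,
and reduction to faithful representations.
-/

namespace Cfsg.Agent.Lib.Helper20.HHThm

open Module
open Cfsg.Agent.Lib.Helper20.HHExt (rho_inv rho_inv' restrictRep restrictRep_apply)

universe u v w

section defs

/-- The conclusion of Theorem B. -/
def Concl {Γ : Type*} [Group Γ] (p q n s : ℕ) (Q : Subgroup Γ) : Prop :=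
  p ^ n ≤ s ∨ ∃ n₀ m : ℕ, 1 ≤ n₀ ∧ n₀ ≤ n ∧ 1 ≤ m ∧ p ^ n₀ - 1 = q ^ m ∧
    (¬ ∀ g ∈ Q, ∀ g' ∈ Q, g * g' = g' * g) ∧ p ^ (n - n₀) * (p ^ n₀ - 1) ≤ s

theorem Concl.mono {Γ : Type*} [Group Γ] {p q n s s' : ℕ} {Q : Subgroup Γ}
    (h : Concl p q n s Q) (hs : s ≤ s') : Concl p q n s' Q := by
  rcases h with h | ⟨n₀, m, h1, h2, h3, h4, h5, h6⟩
  · exact Or.inl (h.trans hs)
  · exact Or.inr ⟨n₀, m, h1, h2, h3, h4, h5, h6.trans hs⟩

theorem Concl.of_noncomm {Γ Γ' : Type*} [Group Γ] [Group Γ'] {p q n s : ℕ} {Q : Subgroup Γ}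
    {Q' : Subgroup Γ'} (h : Concl p q n s Q')
    (hc : (∀ g ∈ Q, ∀ g' ∈ Q, g * g' = g' * g) → ∀ g ∈ Q', ∀ g' ∈ Q', g * g' = g' * g) :
    Concl p q n s Q := by
  rcases h with h | ⟨n₀, m, h1, h2, h3, h4, h5, h6⟩
  · exact Or.inl h
  · exact Or.inr ⟨n₀, m, h1, h2, h3, h4, fun hab => h5 (hc hab), h6⟩

/-- The inductive statement, for representations of degree `d`. -/
def Stmt (K : Type w) [Field K] (p q d : ℕ) : Prop :=
  ∀ (Γ : Type u) [Group Γ] (V : Type v) [AddCommGroup V] [Module K V] [FiniteDimensional K V]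
    (ρ : Γ →* End K V) (Q : Subgroup Γ) [Finite Q] (x : Γ) (n s : ℕ),
    finrank K V = d → IsPGroup q Q → x ∈ Subgroup.normalizer (Q : Set Γ) → x ^ p ^ n = 1 →
    1 ≤ n → (∃ g ∈ Q, ρ (x ^ p ^ (n - 1) * g * (x ^ p ^ (n - 1))⁻¹) ≠ ρ g) →
    (ρ x - 1) ^ s = 0 → Concl p q n s Q

/-- The inductive statement for faithful representations of degree `d`. -/
def StmtF (K : Type w) [Field K] (p q d : ℕ) : Prop :=
  ∀ (Γ : Type u) [Group Γ] (V : Type v) [AddCommGroup V] [Module K V] [FiniteDimensional K V]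
    (ρ : Γ →* End K V) (Q : Subgroup Γ) [Finite Q] (x : Γ) (n s : ℕ),
    finrank K V = d → Function.Injective ρ → IsPGroup q Q →
    x ∈ Subgroup.normalizer (Q : Set Γ) → x ^ p ^ n = 1 →
    1 ≤ n → (∃ g ∈ Q, ρ (x ^ p ^ (n - 1) * g * (x ^ p ^ (n - 1))⁻¹) ≠ ρ g) →
    (ρ x - 1) ^ s = 0 → Concl p q n s Q

end defs

section stab

variable {K : Type*} [Field K] {V : Type*} [AddCommGroup V] [Module K V]
variable {Γ : Type*} [Group Γ]

/-- The stabiliser of a subspace. -/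
def stab (ρ : Γ →* End K V) (U : Submodule K V) : Subgroup Γ where
  carrier := {γ | ∀ u, u ∈ U ↔ ρ γ u ∈ U}
  one_mem' := by
    intro u
    rw [map_one, Module.End.one_apply]
  mul_mem' := by
    intro a b ha hb u
    rw [map_mul, Module.End.mul_apply]
    exact (hb u).trans (ha _)
  inv_mem' := by
    intro a ha u
    rw [ha (ρ a⁻¹ u), ← Module.End.mul_apply, rho_inv, Module.End.one_apply]

theorem mem_stab (ρ : Γ →* End K V) (U : Submodule K V) (γ : Γ) :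
    γ ∈ stab ρ U ↔ ∀ u, u ∈ U ↔ ρ γ u ∈ U := Iff.rfl

theorem mem_stab_of_pow (ρ : Γ →* End K V) (U : Submodule K V) (x : Γ) (N : ℕ) (hN : 0 < N)
    (hxN : x ^ N = 1) (hxU : ∀ u ∈ U, ρ x u ∈ U) : x ∈ stab ρ U := by
  rw [mem_stab]
  intro u
  constructor
  · exact hxU u
  · intro h
    have hpow : ∀ k : ℕ, ∀ w ∈ U, (ρ x ^ k) w ∈ U := by
      intro k
      induction k with
      | zero =>
        intro w hw
        simpa using hw
      | succ k ih =>
        intro w hw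
        rw [pow_succ, Module.End.mul_apply]
        exact ih _ (hxU w hw)
    have h1 := hpow (N - 1) _ h
    rw [← Module.End.mul_apply, ← pow_succ, Nat.sub_add_cancel hN, ← map_pow, hxN, map_one,
      Module.End.one_apply] at h1
    exact h1

theorem le_stab (ρ : Γ →* End K V) (U : Submodule K V) (Q : Subgroup Γ)
    (hQU : ∀ g ∈ Q, ∀ u ∈ U, ρ g u ∈ U) : Q ≤ stab ρ U := by
  intro g hg
  rw [mem_stab]
  intro u
  constructor
  · exact hQU g hg u
  · intro h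
    have := hQU g⁻¹ (Q.inv_mem hg) _ h
    rwa [← Module.End.mul_apply, rho_inv', Module.End.one_apply] at this

/-- The representation of the stabiliser on the subspace. -/
def subRep (ρ : Γ →* End K V) (U : Submodule K V) : ↥(stab ρ U) →* End K ↥U :=
  restrictRep (ρ.comp (stab ρ U).subtype) U (fun γ u hu => (γ.2 u).mp hu)

theorem subRep_apply (ρ : Γ →* End K V) (U : Submodule K V) (γ : ↥(stab ρ U)) (u : ↥U) :
    ((subRep ρ U γ u : ↥U) : V) = ρ (γ : Γ) (u : V) := rfl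

/-- The representation of the stabiliser on the quotient. -/
def quotRep (ρ : Γ →* End K V) (U : Submodule K V) : ↥(stab ρ U) →* End K (V ⧸ U) where
  toFun γ := U.mapQ U (ρ (γ : Γ)) (fun u hu => (γ.2 u).mp hu)
  map_one' := by
    apply Submodule.linearMap_qext
    apply LinearMap.ext
    intro v
    simp
  map_mul' a b := by
    apply Submodule.linearMap_qext
    apply LinearMap.ext
    intro v
    simp

theorem quotRep_mk (ρ : Γ →* End K V) (U : Submodule K V) (γ : ↥(stab ρ U)) (v : V) :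
    quotRep ρ U γ (Submodule.Quotient.mk v) = Submodule.Quotient.mk (ρ (γ : Γ) v) := rfl

theorem sub_pow_apply {U : Submodule K V} (A : End K ↥U) (B : End K V)
    (h : ∀ u : ↥U, ((A u : ↥U) : V) = B u) (k : ℕ) (u : ↥U) :
    (((A ^ k) u : ↥U) : V) = (B ^ k) u := by
  induction k generalizing u with
  | zero => simp
  | succ k ih => rw [pow_succ, Module.End.mul_apply, ih, h, pow_succ, Module.End.mul_apply]

theorem quot_pow_apply {U : Submodule K V} (A : End K (V ⧸ U)) (B : End K V)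
    (h : ∀ v : V, A (Submodule.Quotient.mk v) = Submodule.Quotient.mk (B v)) (k : ℕ) (v : V) :
    (A ^ k) (Submodule.Quotient.mk v) = Submodule.Quotient.mk ((B ^ k) v) := by
  induction k generalizing v with
  | zero => simp
  | succ k ih => rw [pow_succ, Module.End.mul_apply, h, ih, pow_succ, Module.End.mul_apply]

end stab

section loc

variable {K : Type w} [Field K] {p q : ℕ}

theorem loc_general {d' : ℕ} (IH : Stmt.{u, v, w} K p q d') {Γ : Type u} [Group Γ]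
    (S : Subgroup Γ) {Q : Subgroup Γ} [Finite Q] (hQ : IsPGroup q Q) (hQS : Q ≤ S) {x : Γ}
    (hxS : x ∈ S) (hxQ : x ∈ Subgroup.normalizer (Q : Set Γ)) {n : ℕ} (hxn : x ^ p ^ n = 1)
    (hn : 1 ≤ n) {V' : Type v} [AddCommGroup V'] [Module K V'] [FiniteDimensional K V']
    (ρ' : ↥S →* End K V') (hd : finrank K V' = d')
    (h4 : ∃ g, ∃ hg : g ∈ Q, ρ' ((⟨x, hxS⟩ : ↥S) ^ p ^ (n - 1) * ⟨g, hQS hg⟩ *
      ((⟨x, hxS⟩ : ↥S) ^ p ^ (n - 1))⁻¹) ≠ ρ' ⟨g, hQS hg⟩)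
    {s : ℕ} (h5 : (ρ' ⟨x, hxS⟩ - 1) ^ s = 0) : Concl p q n s Q := by
  have hfin : Finite ↥(Q.subgroupOf S) :=
    Finite.of_injective (fun g : ↥(Q.subgroupOf S) => (⟨(g : ↥S), g.2⟩ : ↥Q)) (by
      intro a b hab
      apply Subtype.ext
      apply Subtype.ext
      exact congrArg (fun t : ↥Q => (t : Γ)) hab)
  have key := IH ↥S V' ρ' (Q.subgroupOf S) ⟨x, hxS⟩ n s hd hQ.comap_subtype (by
      rw [Subgroup.mem_normalizer_iff] at hxQ ⊢
      intro g
      rw [Subgroup.mem_subgroupOf, Subgroup.mem_subgroupOf]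
      exact hxQ (g : Γ)) (by
      apply Subtype.ext
      rw [Subgroup.coe_pow]
      exact hxn) hn (by
      obtain ⟨g, hg, hne⟩ := h4
      exact ⟨⟨g, hQS hg⟩, by rw [Subgroup.mem_subgroupOf]; exact hg, hne⟩) h5
  apply key.of_noncomm
  intro hab g hg g' hg'
  apply Subtype.ext
  rw [Subgroup.mem_subgroupOf] at hg hg'
  exact hab _ hg _ hg'

variable [Fact p.Prime]

theorem loc_sub {d : ℕ} (IH : ∀ d' < d, Stmt.{u, v, w} K p q d') {Γ : Type u} [Group Γ]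
    {V : Type v} [AddCommGroup V] [Module K V] [FiniteDimensional K V] (hd : finrank K V = d)
    (ρ : Γ →* End K V) (U : Submodule K V) (hU : U ≠ ⊤) (Q : Subgroup Γ) [Finite Q]
    (hQ : IsPGroup q Q) (x : Γ) (hxQ : x ∈ Subgroup.normalizer (Q : Set Γ)) (n : ℕ) (hn : 1 ≤ n)
    (hxn : x ^ p ^ n = 1) (hQU : ∀ g ∈ Q, ∀ u ∈ U, ρ g u ∈ U) (hxU : ∀ u ∈ U, ρ x u ∈ U)
    (h4 : ∃ g ∈ Q, ∃ u ∈ U, ρ (x ^ p ^ (n - 1) * g * (x ^ p ^ (n - 1))⁻¹) u ≠ ρ g u)
    (s : ℕ) (h5 : ∀ u ∈ U, ((ρ x - 1) ^ s) u = 0) : Concl p q n s Q := by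
  have hN : 0 < p ^ n := Nat.pos_of_ne_zero (pow_ne_zero _ (Fact.out : p.Prime).ne_zero)
  have hxS : x ∈ stab ρ U := mem_stab_of_pow ρ U x (p ^ n) hN hxn hxU
  have hQS : Q ≤ stab ρ U := le_stab ρ U Q hQU
  have hlt : finrank K ↥U < d := by
    rw [← hd]
    exact Submodule.finrank_lt hU
  apply loc_general (IH _ hlt) (stab ρ U) hQ hQS hxS hxQ hxn hn (subRep ρ U) rfl
  · obtain ⟨g, hg, u, hu, hne⟩ := h4
    refine ⟨g, hg, ?_⟩
    intro heq
    apply hne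
    have := congrArg (fun f : End K ↥U => ((f ⟨u, hu⟩ : ↥U) : V)) heq
    simp only [subRep_apply] at this
    simpa using this
  · apply LinearMap.ext
    intro u
    apply Subtype.ext
    rw [sub_pow_apply (subRep ρ U ⟨x, hxS⟩ - 1) (ρ x - 1) (fun u => by
      rw [LinearMap.sub_apply, LinearMap.sub_apply, Submodule.coe_sub, subRep_apply]
      rfl) s u]
    rw [h5 _ u.2]
    rfl

theorem loc_quot {d : ℕ} (IH : ∀ d' < d, Stmt.{u, v, w} K p q d') {Γ : Type u} [Group Γ]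
    {V : Type v} [AddCommGroup V] [Module K V] [FiniteDimensional K V] (hd : finrank K V = d)
    (ρ : Γ →* End K V) (U : Submodule K V) (hU : U ≠ ⊥) (Q : Subgroup Γ) [Finite Q]
    (hQ : IsPGroup q Q) (x : Γ) (hxQ : x ∈ Subgroup.normalizer (Q : Set Γ)) (n : ℕ) (hn : 1 ≤ n)
    (hxn : x ^ p ^ n = 1) (hQU : ∀ g ∈ Q, ∀ u ∈ U, ρ g u ∈ U) (hxU : ∀ u ∈ U, ρ x u ∈ U)
    (h4 : ∃ g ∈ Q, ∃ v : V, ρ (x ^ p ^ (n - 1) * g * (x ^ p ^ (n - 1))⁻¹) v - ρ g v ∉ U)
    (s : ℕ) (h5 : (ρ x - 1) ^ s = 0) : Concl p q n s Q := by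
  have hN : 0 < p ^ n := Nat.pos_of_ne_zero (pow_ne_zero _ (Fact.out : p.Prime).ne_zero)
  have hxS : x ∈ stab ρ U := mem_stab_of_pow ρ U x (p ^ n) hN hxn hxU
  have hQS : Q ≤ stab ρ U := le_stab ρ U Q hQU
  have hlt : finrank K (V ⧸ U) < d := by
    rw [← hd]
    have h1 := Submodule.finrank_quotient_add_finrank U
    have h2 : 0 < finrank K ↥U := by
      rw [Module.finrank_pos_iff]
      exact (Submodule.nontrivial_iff_ne_bot).mpr hU
    omega
  apply loc_general (IH _ hlt) (stab ρ U) hQ hQS hxS hxQ hxn hn (quotRep ρ U) rfl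
  · obtain ⟨g, hg, v, hne⟩ := h4
    refine ⟨g, hg, ?_⟩
    intro heq
    apply hne
    have := congrArg (fun f : End K (V ⧸ U) => f (Submodule.Quotient.mk v)) heq
    simp only [quotRep_mk] at this
    rw [← Submodule.Quotient.eq]
    simpa using this
  · apply Submodule.linearMap_qext
    apply LinearMap.ext
    intro v
    rw [LinearMap.comp_apply, Submodule.mkQ_apply,
      quot_pow_apply (quotRep ρ U ⟨x, hxS⟩ - 1) (ρ x - 1) (fun v => by
      rw [LinearMap.sub_apply, LinearMap.sub_apply, quotRep_mk, Submodule.Quotient.mk_sub]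
      rfl) s v, h5]
    simp

end loc

section kerq

variable {K : Type w} [Field K] {p q : ℕ}

theorem kerQuot {d : ℕ} (h : StmtF.{u, v, w} K p q d) : Stmt.{u, v, w} K p q d := by
  intro Γ _ V _ _ _ ρ Q _ x n s hd hQ hxQ hxn hn h4 h5
  obtain ⟨ρu, hρu⟩ : ∃ ρu : Γ →* (End K V)ˣ, ρu = ρ.toHomUnits := ⟨_, rfl⟩
  have hρu' : ∀ γ : Γ, ((ρu γ : (End K V)ˣ) : End K V) = ρ γ := by
    intro γ
    rw [hρu]
    rfl
  obtain ⟨f, hf⟩ : ∃ f : Γ →* Γ ⧸ ρu.ker, f = QuotientGroup.mk' ρu.ker := ⟨_, rfl⟩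
  obtain ⟨ρ', hρ'⟩ : ∃ ρ' : Γ ⧸ ρu.ker →* End K V,
      ρ' = (Units.coeHom (End K V)).comp (QuotientGroup.kerLift ρu) := ⟨_, rfl⟩
  have hk : ∀ γ : Γ, ρ' (f γ) = ρ γ := by
    intro γ
    rw [hρ', hf, ← hρu' γ]
    rfl
  have hinj : Function.Injective ρ' := by
    rw [hρ']
    intro a b hab
    apply QuotientGroup.kerLift_injective ρu
    apply Units.ext
    exact hab
  have hfin : Finite ↥(Q.map f) :=
    Finite.of_surjective (fun g : ↥Q => (⟨f g, Subgroup.mem_map_of_mem f g.2⟩ : ↥(Q.map f))) (by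
      rintro ⟨_, g, hg, rfl⟩
      exact ⟨⟨g, hg⟩, rfl⟩)
  have h4' : ∃ g ∈ Q.map f, ρ' ((f x) ^ p ^ (n - 1) * g *
      ((f x) ^ p ^ (n - 1))⁻¹) ≠ ρ' g := by
    obtain ⟨g, hg, hne⟩ := h4
    refine ⟨f g, Subgroup.mem_map_of_mem f hg, ?_⟩
    rw [← map_pow, ← map_inv, ← map_mul, ← map_mul, hk, hk]
    exact hne
  have h5' : (ρ' (f x) - 1) ^ s = 0 := by
    rw [hk]
    exact h5
  have hxn' : (f x) ^ p ^ n = 1 := by rw [← map_pow, hxn, map_one]
  have key := h (Γ ⧸ ρu.ker) V ρ' (Q.map f) (f x) n s hd hinj (hQ.map f)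
    (Subgroup.le_normalizer_map f (Subgroup.mem_map_of_mem f hxQ)) hxn' hn h4' h5'
  apply key.of_noncomm
  rintro hab _ ⟨g, hg, rfl⟩ _ ⟨g', hg', rfl⟩
  rw [← map_mul, ← map_mul, hab g hg g' hg']

end kerq

end Cfsg.Agent.Lib.Helper20.HHThm
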