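import Mathlib
import Cfsg.Agent.Lib.Helper20.HHThmA
import Cfsg.Agent.Lib.Helper20.HHThmB
import Cfsg.Agent.Lib.Helper20.HHModG
import Cfsg.Agent.Lib.Helper20.HHAbelA

set_option autoImplicit false

/-!
Hall–Higman Theorem B: the reducible case and the abelian case.
-/

namespace Cfsg.Agent.Lib.Helper20.HHThm

open Module
open Cfsg.Agent.Lib.Helper20.HHExt (rho_inv rho_inv' restrictRep restrictRep_apply)
open Cfsg.Agent.Lib.Helper20.HHMod (geom_char)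

universe u v w

section reducible

variable {K : Type w} [Field K] {p q : ℕ} [Fact p.Prime] [Fact q.Prime]

/-- An endomorphism of finite order prime to `p` which is unipotent is trivial. -/
theorem eq_one_of_unipotent [CharP K p] {V : Type*} [AddCommGroup V] [Module K V]
    (hpq : p ≠ q) (f : End K V) (a : ℕ) (hfa : f ^ q ^ a = 1) (k : ℕ) (hk : (f - 1) ^ k = 0) :
    f = 1 := by
  have hp := (Fact.out : p.Prime)
  have hq := (Fact.out : q.Prime)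
  have h1 : (f - 1) ^ p ^ k = 0 := by
    have hle : k ≤ p ^ k := (Nat.lt_pow_self hp.one_lt).le
    rw [← Nat.sub_add_cancel hle, pow_add, hk, mul_zero]
  rw [(geom_char (K := K) p f k).1, sub_eq_zero] at h1
  have h2 : orderOf f ∣ Nat.gcd (p ^ k) (q ^ a) :=
    Nat.dvd_gcd (orderOf_dvd_of_pow_eq_one h1) (orderOf_dvd_of_pow_eq_one hfa)
  have h3 : Nat.Coprime (p ^ k) (q ^ a) :=
    Nat.Coprime.pow k a ((Nat.coprime_primes hp hq).mpr hpq)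
  rw [h3.gcd_eq_one, Nat.dvd_one] at h2
  exact orderOf_eq_one_iff.mp h2

theorem reducible_case [CharP K p] (hpq : p ≠ q) {d : ℕ}
    (IH : ∀ d' < d, Stmt.{u, v, w} K p q d') {Γ : Type u} [Group Γ]
    {V : Type v} [AddCommGroup V] [Module K V] [FiniteDimensional K V] (hd : finrank K V = d)
    (ρ : Γ →* End K V) (Q : Subgroup Γ) [Finite Q]
    (hQ : IsPGroup q Q) (x : Γ) (hxQ : x ∈ Subgroup.normalizer (Q : Set Γ)) (n : ℕ) (hn : 1 ≤ n)
    (hxn : x ^ p ^ n = 1)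
    (h4 : ∃ g ∈ Q, ρ (x ^ p ^ (n - 1) * g * (x ^ p ^ (n - 1))⁻¹) ≠ ρ g)
    (s : ℕ) (h5 : (ρ x - 1) ^ s = 0)
    (W : Submodule K V) (hW0 : W ≠ ⊥) (hW1 : W ≠ ⊤) (hQW : ∀ g ∈ Q, ∀ w ∈ W, ρ g w ∈ W)
    (hxW : ∀ w ∈ W, ρ x w ∈ W) : Concl p q n s Q := by
  by_cases hsub : ∃ g ∈ Q, ∃ u ∈ W, ρ (x ^ p ^ (n - 1) * g * (x ^ p ^ (n - 1))⁻¹) u ≠ ρ g u
  · exact loc_sub IH hd ρ W hW1 Q hQ x hxQ n hn hxn hQW hxW hsub s (fun u _ => by
      rw [h5]
      rfl)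
  by_cases hquot : ∃ g ∈ Q, ∃ v : V, ρ (x ^ p ^ (n - 1) * g * (x ^ p ^ (n - 1))⁻¹) v - ρ g v ∉ W
  · exact loc_quot IH hd ρ W hW0 Q hQ x hxQ n hn hxn hQW hxW hquot s h5
  exfalso
  push Not at hsub hquot
  obtain ⟨g, hg, hne⟩ := h4
  apply hne
  obtain ⟨y, hy⟩ : ∃ y : Γ, y = x ^ p ^ (n - 1) := ⟨_, rfl⟩
  rw [← hy] at hsub hquot ⊢
  have hyQ : y ∈ Subgroup.normalizer (Q : Set Γ) := by
    rw [hy]
    exact Subgroup.pow_mem _ hxQ _
  have hygQ : y * g * y⁻¹ ∈ Q := (Subgroup.mem_normalizer_iff.mp hyQ g).mp hg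
  obtain ⟨c, hc⟩ : ∃ c : Γ, c = g⁻¹ * (y * g * y⁻¹) := ⟨_, rfl⟩
  have hcQ : c ∈ Q := by
    rw [hc]
    exact Q.mul_mem (Q.inv_mem hg) hygQ
  have hρc : ρ c = ρ g⁻¹ * ρ (y * g * y⁻¹) := by rw [hc, map_mul]
  have h1 : ∀ w ∈ W, ρ c w = w := by
    intro w hw
    rw [hρc, Module.End.mul_apply, hsub g hg w hw, ← Module.End.mul_apply, rho_inv',
      Module.End.one_apply]
  have h2 : ∀ v : V, ρ c v - v ∈ W := by
    intro v
    have e : ρ c v - v = ρ g⁻¹ (ρ (y * g * y⁻¹) v - ρ g v) := by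
      rw [map_sub, hρc, Module.End.mul_apply, ← Module.End.mul_apply (ρ g⁻¹) (ρ g), rho_inv',
        Module.End.one_apply]
    rw [e]
    exact hQW _ (Q.inv_mem hg) _ (hquot g hg v)
  have h3 : (ρ c - 1) ^ 2 = 0 := by
    apply LinearMap.ext
    intro v
    rw [pow_two, Module.End.mul_apply, LinearMap.sub_apply, Module.End.one_apply,
      LinearMap.sub_apply, Module.End.one_apply, h1 _ (h2 v), sub_self, LinearMap.zero_apply]
  obtain ⟨a, ha⟩ := hQ ⟨c, hcQ⟩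
  have ha' : c ^ q ^ a = 1 := congrArg Subtype.val ha
  have h6 : ρ c = 1 := eq_one_of_unipotent (K := K) (p := p) (q := q) hpq (ρ c) a
    (by rw [← map_pow, ha', map_one]) 2 h3
  have h7 : y * g * y⁻¹ = g * c := by
    rw [hc]
    group
  rw [h7, map_mul, h6, mul_one]

end reducible

section abelian

variable {K : Type*} [Field K] {p q : ℕ} [Fact p.Prime] [Fact q.Prime]

theorem card_cast_ne_zero [CharP K p] (hpq : p ≠ q) {Γ : Type*} [Group Γ] (Q : Subgroup Γ)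
    [Finite Q] (hQ : IsPGroup q Q) : ((Nat.card Q : ℕ) : K) ≠ 0 := by
  have hp := (Fact.out : p.Prime)
  have hq := (Fact.out : q.Prime)
  obtain ⟨k, hk⟩ := (IsPGroup.iff_card.mp hQ)
  rw [hk, Nat.cast_pow]
  apply pow_ne_zero
  intro h0
  have := (CharP.cast_eq_zero_iff K p q).mp h0
  exact hpq ((Nat.prime_dvd_prime_iff_eq hp hq).mp this)

theorem zpowers_norm {Γ : Type*} [Group Γ] {Q : Subgroup Γ} {x : Γ}
    (hxQ : x ∈ Subgroup.normalizer (Q : Set Γ)) :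
    ∀ r ∈ Subgroup.zpowers x, ∀ z ∈ Q, r⁻¹ * z * r ∈ Q := by
  intro r hr z hz
  have h1 : r⁻¹ ∈ Subgroup.normalizer (Q : Set Γ) :=
    Subgroup.inv_mem _ ((Subgroup.zpowers_le.mpr hxQ) hr)
  have h2 := (Subgroup.mem_normalizer_iff.mp h1 z).mp hz
  rwa [inv_inv] at h2

theorem abelian_case [IsAlgClosed K] [CharP K p] (hpq : p ≠ q) {Γ : Type*} [Group Γ]
    {V : Type*} [AddCommGroup V] [Module K V] [FiniteDimensional K V]
    (ρ : Γ →* End K V) (Q : Subgroup Γ) [Finite Q]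
    (hQ : IsPGroup q Q) (x : Γ) (hxQ : x ∈ Subgroup.normalizer (Q : Set Γ)) (n : ℕ) (hn : 1 ≤ n)
    (hxn : x ^ p ^ n = 1)
    (h4 : ∃ g ∈ Q, ρ (x ^ p ^ (n - 1) * g * (x ^ p ^ (n - 1))⁻¹) ≠ ρ g)
    (hab : ∀ g ∈ Q, ∀ g' ∈ Q, Commute (ρ g) (ρ g'))
    (s : ℕ) (h5 : (ρ x - 1) ^ s = 0) : p ^ n ≤ s := by
  have hp := (Fact.out : p.Prime)
  have hyQ : x ^ p ^ (n - 1) ∈ Subgroup.normalizer (Q : Set Γ) := Subgroup.pow_mem _ hxQ _
  have hmain := Cfsg.Agent.Lib.Helper20.HHAbel.main_algClosed ρ Q x hp hn hxn hab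
    (card_cast_ne_zero hpq Q hQ) (zpowers_norm hxQ) (by
      obtain ⟨g, hg, hne⟩ := h4
      refine ⟨x ^ p ^ (n - 1) * g * (x ^ p ^ (n - 1))⁻¹,
        (Subgroup.mem_normalizer_iff.mp hyQ g).mp hg, ?_⟩
      have e : (x ^ p ^ (n - 1))⁻¹ * (x ^ p ^ (n - 1) * g * (x ^ p ^ (n - 1))⁻¹) *
          x ^ p ^ (n - 1) = g := by group
      rw [e]
      exact hne.symm)
  by_contra hcon
  push Not at hcon
  apply hmain
  rw [(geom_char (K := K) p (ρ x) n).2]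
  have hle : s ≤ p ^ n - 1 := by omega
  rw [← Nat.sub_add_cancel hle, pow_add, h5, mul_zero]

end abelian

end Cfsg.Agent.Lib.Helper20.HHThm
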