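import Mathlib
import Cfsg.Agent.Lib.Helper20.HHThmC

set_option autoImplicit false

/-!
Hall–Higman Theorem B: the case where the centre of the minimal subgroup acts by scalars.
-/

namespace Cfsg.Agent.Lib.Helper20.HHThm

open Module
open Cfsg.Agent.Lib.Helper20.HHExt (rho_inv rho_inv' Setting cc algP spanP rho_mem_algP algP_le
  mem_algP)
open Cfsg.Agent.Lib.Helper20.HHMod (geom_char Irr schur critical')

section scalar

variable {K : Type*} [Field K] {p q : ℕ} [Fact p.Prime] [Fact q.Prime]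

theorem pow_top_pow {Γ : Type*} [Group Γ] (x : Γ) (n : ℕ) (hn : 1 ≤ n) (hxn : x ^ p ^ n = 1) :
    (x ^ p ^ (n - 1)) ^ p = 1 := by
  rw [← pow_mul, ← pow_succ, Nat.sub_add_cancel hn, hxn]

theorem scalar_case [IsAlgClosed K] [CharP K p] (hpq : p ≠ q) {Γ : Type*} [Group Γ]
    {V : Type*} [AddCommGroup V] [Module K V] [FiniteDimensional K V] [Nontrivial V]
    (ρ : Γ →* End K V) (hinj : Function.Injective ρ) (Q : Subgroup Γ) [Finite Q]
    (hQ : IsPGroup q Q) (x : Γ) (n : ℕ) (hn : 1 ≤ n) (hxn : x ^ p ^ n = 1)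
    (hM : MinAct2 x (x ^ p ^ (n - 1)) Q)
    (hirr : ∀ W : Submodule K V, (∀ g ∈ Q, ∀ w ∈ W, ρ g w ∈ W) → (∀ w ∈ W, ρ x w ∈ W) →
      W = ⊥ ∨ W = ⊤)
    (hscal : ∀ z ∈ Q, (∀ g ∈ Q, g * z = z * g) → ∃ c : K, ρ z = c • (1 : End K V))
    (s : ℕ) (h5 : (ρ x - 1) ^ s = 0) : Concl p q n s Q := by
  classical
  have hp := (Fact.out : p.Prime)
  have hq := (Fact.out : q.Prime)
  have hqr : q.Coprime p := (Nat.coprime_primes hq hp).mpr (Ne.symm hpq)
  obtain ⟨y, hy⟩ : ∃ y : Γ, y = x ^ p ^ (n - 1) := ⟨_, rfl⟩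
  rw [← hy] at hM
  have hyr : y ^ p = 1 := by
    rw [hy]
    exact pow_top_pow x n hn hxn
  have hx : ∀ g, g ∈ Q ↔ x * g * x⁻¹ ∈ Q := Subgroup.mem_normalizer_iff.mp hM.norm
  -- the centre
  set Z : Subgroup Γ := Q ⊓ Subgroup.centralizer (Q : Set Γ) with hZ
  have hmemZ : ∀ z, z ∈ Z ↔ z ∈ Q ∧ ∀ g ∈ Q, g * z = z * g := by
    intro z
    rw [hZ, Subgroup.mem_inf, Subgroup.mem_centralizer_iff]
    rfl
  set χ : Γ → K := fun γ => if h : ∃ c : K, ρ γ = c • (1 : End K V) then h.choose else 0 with hχ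
  have hχspec : ∀ z ∈ Z, ρ z = χ z • (1 : End K V) := by
    intro z hz
    have h := hscal z ((hmemZ z).mp hz).1 ((hmemZ z).mp hz).2
    rw [hχ]
    simp only [dif_pos h]
    exact h.choose_spec
  have hS : Setting ρ Q Z χ := by
    refine ⟨inf_le_left, hχspec, ?_, ?_⟩
    · intro h hh g hg
      rw [hmemZ]
      refine ⟨Q.mul_mem (Q.mul_mem (Q.mul_mem hh hg) (Q.inv_mem hh)) (Q.inv_mem hg), ?_⟩
      exact (hM.comm_central hQ hqr hyr h g hh hg).1
    · intro g hg hgZ
      rw [hmemZ] at hgZ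
      push Not at hgZ
      obtain ⟨h, hh, hne⟩ := hgZ hg
      refine ⟨h, hh, ?_⟩
      intro hc1
      apply hne
      have hcZ : h * g * h⁻¹ * g⁻¹ ∈ Z := by
        rw [hmemZ]
        refine ⟨Q.mul_mem (Q.mul_mem (Q.mul_mem hh hg) (Q.inv_mem hh)) (Q.inv_mem hg), ?_⟩
        exact (hM.comm_central hQ hqr hyr h g hh hg).1
      have h1 := hχspec _ hcZ
      unfold cc at hc1
      rw [hc1, one_smul, ← map_one ρ] at h1
      have h2 := hinj h1
      calc h * g = (h * g * h⁻¹ * g⁻¹) * (g * h) := by group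
        _ = g * h := by rw [h2, one_mul]
  -- `ρ x` is inner
  obtain ⟨m, -, a, a', haa', ha'a, hconj⟩ := hS.exists_inner hx
  have haa'E : (a : End K V) * (a' : End K V) = 1 := congrArg Subtype.val haa'
  obtain ⟨b, hb⟩ : ∃ b : End K V, b = (a' : End K V) * ρ x := ⟨_, rfl⟩
  have hbA : ∀ f : algP ρ Q, b * (f : End K V) = (f : End K V) * b := by
    intro f
    have h1 : ρ x * (f : End K V) = ((a * f * a' : algP ρ Q) : End K V) * ρ x := by
      rw [← hconj f, mul_assoc, rho_inv', mul_one]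
    have h2 : (a' : End K V) * ((a * f * a' : algP ρ Q) : End K V) =
        (f : End K V) * (a' : End K V) := by
      have : a' * (a * f * a') = f * a' := by
        rw [← mul_assoc, ← mul_assoc, ha'a, one_mul]
      exact congrArg Subtype.val this
    rw [hb, mul_assoc, h1, ← mul_assoc, h2, mul_assoc]
  have hxab : ρ x = (a : End K V) * b := by
    rw [hb, ← mul_assoc, haa'E, one_mul]
  have hbx : b * ρ x = ρ x * b := by
    rw [hxab, ← mul_assoc, hbA a, mul_assoc]
  -- `b` is a scalar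
  obtain ⟨c, hc⟩ := Module.End.exists_eigenvalue b
  have hEtop : b.eigenspace c = ⊤ := by
    rcases hirr (b.eigenspace c) (by
      intro g hg w hw
      rw [Module.End.mem_eigenspace_iff] at hw ⊢
      have := hbA ⟨ρ g, rho_mem_algP ρ hg⟩
      simp only at this
      rw [← Module.End.mul_apply, this, Module.End.mul_apply, hw, map_smul]) (by
      intro w hw
      rw [Module.End.mem_eigenspace_iff] at hw ⊢
      rw [← Module.End.mul_apply, hbx, Module.End.mul_apply, hw, map_smul]) with h | h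
    · exact absurd h hc
    · exact h
  have hbc : b = c • (1 : End K V) := by
    apply LinearMap.ext
    intro v
    have hv : v ∈ b.eigenspace c := by rw [hEtop]; exact Submodule.mem_top
    rw [Module.End.mem_eigenspace_iff] at hv
    rw [hv, LinearMap.smul_apply, Module.End.one_apply]
  have hxA : ρ x ∈ algP ρ Q := by
    rw [hxab, hbc, mul_smul_comm, mul_one]
    exact (algP ρ Q).smul_mem a.2 c
  -- irreducibility under `Q`
  have hirrQ : Irr ρ Q := by
    intro W hW
    have hQW : ∀ g ∈ Q, ∀ w ∈ W, ρ g w ∈ W := fun g hg w hw =>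
      hW g hg (Submodule.mem_map_of_mem hw)
    apply hirr W hQW
    let B : Submodule K (End K V) :=
      { carrier := {f | ∀ w ∈ W, f w ∈ W}
        add_mem' := by
          intro f g hf hg w hw
          rw [LinearMap.add_apply]
          exact W.add_mem (hf w hw) (hg w hw)
        zero_mem' := by
          intro w _
          rw [LinearMap.zero_apply]
          exact W.zero_mem
        smul_mem' := by
          intro r f hf w hw
          rw [LinearMap.smul_apply]
          exact W.smul_mem r (hf w hw) }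
    exact algP_le ρ Q B hQW (ρ x) hxA
  -- free action
  have hfree : ∀ g ∈ Q, ∀ i, 0 < i → i < p ^ n → x ^ i * g * (x ^ i)⁻¹ = g →
      ∃ c : K, ρ g = c • (1 : End K V) := by
    intro g hg i hi0 hi heq
    obtain ⟨u, hu⟩ := Cfsg.Agent.Lib.Helper20.HHAbel.exists_pow_eq_top_power hp hn hxn hi0 hi
    have hcomm : Commute (x ^ i) g := by
      show x ^ i * g = g * x ^ i
      calc x ^ i * g = (x ^ i * g * (x ^ i)⁻¹) * x ^ i := by group
        _ = g * x ^ i := by rw [heq]
    have hyg : y * g = g * y := by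
      rw [hy, ← hu]
      exact (hcomm.pow_left u).eq
    exact hscal g hg (hM.fixed_central hQ hqr hyr g hg hyg)
  have hx1 : ρ x ≠ 1 := by
    intro h1
    rw [← map_one ρ] at h1
    have hx1 := hinj h1
    obtain ⟨g, -, hgy⟩ := hM.nontriv
    apply hgy
    rw [hy, hx1, one_pow, one_mul, mul_one]
  -- the exact nilpotency index
  have hex : ∃ k, (ρ x - 1) ^ k = 0 := ⟨s, h5⟩
  obtain ⟨h2, hlow, hup, hcrit⟩ := critical' p q hpq Q hQ x hx n hn hxn ρ hx1 hfree hirrQ
    (Nat.find hex) (Nat.find_spec hex) (fun k hk => Nat.find_min hex hk)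
  apply Concl.mono _ (Nat.find_min' hex h5)
  rcases Nat.lt_or_ge (Nat.find hex) (p ^ n) with hlt | hge
  · right
    have heq : Nat.find hex = p ^ n - 1 := by omega
    obtain ⟨⟨b', hb'⟩, hnc⟩ := hcrit heq
    have hb1 : 1 ≤ b' := by
      rcases Nat.eq_zero_or_pos b' with h0 | h0
      · rw [h0, pow_zero] at hb'
        omega
      · exact h0
    refine ⟨n, b', hn, le_rfl, hb1, hb', ?_, ?_⟩
    · intro hab
      apply hnc
      intro g hg g' hg'
      rw [← map_mul, ← map_mul, hab g hg g' hg']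
    · rw [Nat.sub_self, pow_zero, one_mul]
      omega
  · left
    exact hge

end scalar

end Cfsg.Agent.Lib.Helper20.HHThm
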