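import Mathlib
import Cfsg.Agent.Lib.Helper20.HHThmD

set_option autoImplicit false

/-!
Hall–Higman Theorem B: the sum over a regular orbit of weight spaces.
-/

namespace Cfsg.Agent.Lib.Helper20.HHThm

open Module Cfsg.Agent.Lib.Helper11.FrobLinEig Cfsg.Agent.Lib.Helper11.FrobLinOrbit

section orbit

variable {K : Type*} [Field K] {W : Type*} [AddCommGroup W] [Module K W]
variable {Γ : Type*} [Group Γ]

theorem pow_mem_zpowers (x : Γ) (i : ℕ) : x ^ i ∈ Subgroup.zpowers x :=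
  Subgroup.pow_mem _ (Subgroup.mem_zpowers x) i

theorem act_pow_fixed (Z : Subgroup Γ) (x : Γ)
    (hn : ∀ r ∈ Subgroup.zpowers x, ∀ z ∈ Z, r⁻¹ * z * r ∈ Z) (χ : Z → K)
    (r : ↥(Subgroup.zpowers x)) (hfix : act Z (Subgroup.zpowers x) hn r χ = χ) (k : ℕ) :
    act Z (Subgroup.zpowers x) hn (r ^ k) χ = χ := by
  induction k with
  | zero => rw [pow_zero, act_one]
  | succ k ih => rw [pow_succ, act_mul, hfix, ih]

theorem orbit_sum_ne_zero (ρ : Γ →* End K W) (Z : Subgroup Γ)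
    (hcomm : ∀ z ∈ Z, ∀ z' ∈ Z, Commute (ρ z) (ρ z')) (x : Γ)
    (hn : ∀ r ∈ Subgroup.zpowers x, ∀ z ∈ Z, r⁻¹ * z * r ∈ Z) (χ : Z → K) (N : ℕ) (hN : 0 < N)
    (hstab : ∀ d : ℕ, 0 < d → d < N →
      act Z (Subgroup.zpowers x) hn ⟨x ^ d, pow_mem_zpowers x d⟩ χ ≠ χ)
    (w : W) (hw : w ∈ jointEig ρ Z χ) (hw0 : w ≠ 0) :
    (∑ i ∈ Finset.range N, ρ x ^ i) w ≠ 0 := by
  classical
  set R := Subgroup.zpowers x with hR
  have hxR : ∀ i : ℕ, x ^ i ∈ R := fun i => pow_mem_zpowers x i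
  set χi : Fin N → (Z → K) := fun i => act Z R hn ⟨x ^ (i : ℕ), hxR _⟩ χ with hχi
  have hinj : Function.Injective χi := by
    intro i j hij
    by_contra hne
    wlog hlt : (i : ℕ) < (j : ℕ) generalizing i j
    · have hne' : (i : ℕ) ≠ (j : ℕ) := fun h => hne (Fin.ext h)
      exact this hij.symm (fun h => hne h.symm) (lt_of_le_of_ne (not_lt.mp hlt) (Ne.symm hne'))
    have hd0 : 0 < (j : ℕ) - i := Nat.sub_pos_of_lt hlt
    have hd : (j : ℕ) - i < N := lt_of_le_of_lt (Nat.sub_le _ _) j.2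
    apply hstab _ hd0 hd
    have e : (⟨x ^ (j : ℕ), hxR _⟩ : R) = ⟨x ^ (i : ℕ), hxR _⟩ * ⟨x ^ ((j : ℕ) - i), hxR _⟩ := by
      apply Subtype.ext
      show x ^ (j : ℕ) = x ^ (i : ℕ) * x ^ ((j : ℕ) - i)
      rw [← pow_add]
      congr 1
      omega
    have h1 : act Z R hn ⟨x ^ (i : ℕ), hxR _⟩ χ =
        act Z R hn ⟨x ^ (i : ℕ), hxR _⟩ (act Z R hn ⟨x ^ ((j : ℕ) - i), hxR _⟩ χ) := by
      rw [← act_mul, ← e]
      exact hij
    have h2 := congrArg (act Z R hn (⟨x ^ (i : ℕ), hxR _⟩ : R)⁻¹) h1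
    rw [← act_mul, ← act_mul, inv_mul_cancel, act_one, act_one] at h2
    exact h2.symm
  have hind : iSupIndep (fun i : Fin N => jointEig ρ Z (χi i)) :=
    (jointEig_indep ρ Z hcomm).comp hinj
  intro hsum
  have hmem : ∀ i : Fin N, (ρ x ^ (i : ℕ)) w ∈ jointEig ρ Z (χi i) := by
    intro i
    have := map_mem ρ Z R hn ⟨x ^ (i : ℕ), hxR _⟩ χ w hw
    rw [map_pow] at this
    exact this
  have hs : ∑ i : Fin N, (ρ x ^ (i : ℕ)) w = 0 := by
    rw [Fin.sum_univ_eq_sum_range (fun i => (ρ x ^ i) w) N, ← LinearMap.sum_apply]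
    exact hsum
  have h0 := sum_zero_of_indep _ hind (fun i : Fin N => (ρ x ^ (i : ℕ)) w) hmem hs ⟨0, hN⟩
  simp only [pow_zero, Module.End.one_apply] at h0
  exact hw0 h0

end orbit

end Cfsg.Agent.Lib.Helper20.HHThm
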