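import Mathlib
import Cfsg.Agent.Lib.Helper20.HHThmE

set_option autoImplicit false

/-!
Hall–Higman Theorem B: the non-abelian case and the induction.
-/

namespace Cfsg.Agent.Lib.Helper20.HHThm

open Module Cfsg.Agent.Lib.Helper11.FrobLinEig Cfsg.Agent.Lib.Helper11.FrobLinOrbit
open Cfsg.Agent.Lib.Helper20.HHExt (rho_inv rho_inv')
open Cfsg.Agent.Lib.Helper20.HHMod (geom_char)

universe u v w

section orbitcase

variable {K : Type w} [Field K] {p q : ℕ} [Fact p.Prime] [Fact q.Prime]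

theorem orbit_case [CharP K p] (hpq : p ≠ q) {d : ℕ}
    (IH : ∀ d' < d, Stmt.{u, v, w} K p q d') {Γ : Type u} [Group Γ]
    {V : Type v} [AddCommGroup V] [Module K V] [FiniteDimensional K V] [Nontrivial V]
    (hd : finrank K V = d) (ρ : Γ →* End K V) (Q : Subgroup Γ) [Finite Q]
    (hQ : IsPGroup q Q) (x : Γ) (n : ℕ) (hn : 1 ≤ n) (hxn : x ^ p ^ n = 1)
    (hM : MinAct2 x (x ^ p ^ (n - 1)) Q)
    (Z : Subgroup Γ) (hZQ : Z ≤ Q) (hZc : ∀ z ∈ Z, ∀ g ∈ Q, g * z = z * g)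
    (hxZ : x ∈ Subgroup.normalizer (Z : Set Γ))
    (hyZ : ∀ z ∈ Z, x ^ p ^ (n - 1) * z = z * x ^ p ^ (n - 1))
    (χ₁ : Z → K) (hχ₁ : jointEig ρ Z χ₁ ≠ ⊥)
    (hfix : act Z (Subgroup.zpowers x) (zpowers_norm hxZ) ⟨x, Subgroup.mem_zpowers x⟩ χ₁ ≠ χ₁)
    (s : ℕ) (h5 : (ρ x - 1) ^ s = 0) : Concl p q n s Q := by
  classical
  have hp := (Fact.out : p.Prime)
  have hq := (Fact.out : q.Prime)
  have hqr : q.Coprime p := (Nat.coprime_primes hq hp).mpr (Ne.symm hpq)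
  obtain ⟨y, hy⟩ : ∃ y : Γ, y = x ^ p ^ (n - 1) := ⟨_, rfl⟩
  rw [← hy] at hM hyZ
  have hyr : y ^ p = 1 := by
    rw [hy]
    exact pow_top_pow x n hn hxn
  obtain ⟨R, hR⟩ : ∃ R : Subgroup Γ, R = Subgroup.zpowers x := ⟨_, rfl⟩
  have hnZ : ∀ r ∈ R, ∀ z ∈ Z, r⁻¹ * z * r ∈ Z := by
    rw [hR]
    exact zpowers_norm hxZ
  have hxR : ∀ i : ℕ, x ^ i ∈ R := by
    rw [hR]
    exact fun i => pow_mem_zpowers x i
  have hxR1 : x ∈ R := by
    rw [hR]
    exact Subgroup.mem_zpowers x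
  have hfix' : act Z R hnZ ⟨x, hxR1⟩ χ₁ ≠ χ₁ := by
    subst hR
    exact hfix
  obtain ⟨U₁, hU₁⟩ : ∃ U₁ : Submodule K V, U₁ = jointEig ρ Z χ₁ := ⟨_, rfl⟩
  have hmemU : ∀ u, u ∈ U₁ ↔ ∀ z : Z, ρ (z : Γ) u = χ₁ z • u := by
    intro u
    rw [hU₁]
    exact mem_jointEig ρ Z χ₁ u
  have hcommZ : ∀ z ∈ Z, ∀ z' ∈ Z, Commute (ρ z) (ρ z') := by
    intro z hz z' hz'
    show ρ z * ρ z' = ρ z' * ρ z
    rw [← map_mul, ← map_mul, hZc z' hz' z (hZQ hz)]
  have hQU : ∀ g ∈ Q, ∀ u ∈ U₁, ρ g u ∈ U₁ := by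
    intro g hg u hu
    rw [hmemU] at hu ⊢
    intro z
    rw [← Module.End.mul_apply, ← map_mul, ← hZc z z.2 g hg, map_mul, Module.End.mul_apply, hu z,
      map_smul]
  -- the stabiliser of the weight
  have hPn : act Z R hnZ ⟨x ^ p ^ (n - 1), hxR _⟩ χ₁ = χ₁ := by
    funext z
    show χ₁ _ = χ₁ z
    congr 1
    apply Subtype.ext
    show (x ^ p ^ (n - 1))⁻¹ * (z : Γ) * x ^ p ^ (n - 1) = z
    rw [← hy]
    have := hyZ z z.2
    calc y⁻¹ * (z : Γ) * y = y⁻¹ * ((z : Γ) * y) := by group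
      _ = y⁻¹ * (y * (z : Γ)) := by rw [this]
      _ = z := by group
  have hP : ∃ j : ℕ, act Z R hnZ ⟨x ^ p ^ j, hxR _⟩ χ₁ = χ₁ := ⟨n - 1, hPn⟩
  obtain ⟨j, hj, hjmin⟩ : ∃ j : ℕ, act Z R hnZ ⟨x ^ p ^ j, hxR _⟩ χ₁ = χ₁ ∧
      ∀ k < j, ¬ act Z R hnZ ⟨x ^ p ^ k, hxR _⟩ χ₁ = χ₁ :=
    ⟨Nat.find hP, Nat.find_spec hP, fun k hk => Nat.find_min hP hk⟩
  have hjle : j ≤ n - 1 := by
    by_contra hcon
    push Not at hcon
    exact hjmin _ hcon hPn
  have hj1 : 1 ≤ j := by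
    by_contra h0
    have hj0 : j = 0 := by omega
    subst hj0
    apply hfix'
    have e : (⟨x ^ p ^ 0, hxR _⟩ : R) = ⟨x, hxR1⟩ := Subtype.ext (by simp)
    rw [e] at hj
    exact hj
  have hstab : ∀ i : ℕ, 0 < i → i < p ^ j → act Z R hnZ ⟨x ^ i, hxR i⟩ χ₁ ≠ χ₁ := by
    intro i hi0 hi hfixi
    have hpjn : p ^ j ≤ p ^ n := Nat.pow_le_pow_right hp.pos (by omega)
    have hg : Nat.gcd i (p ^ n) < p ^ n :=
      lt_of_le_of_lt (Nat.le_of_dvd hi0 (Nat.gcd_dvd_left _ _)) (lt_of_lt_of_le hi hpjn)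
    obtain ⟨u, -, hu⟩ := Nat.exists_mul_mod_eq_gcd hg
    obtain ⟨a, -, hga⟩ := (Nat.dvd_prime_pow hp).mp (Nat.gcd_dvd_right i (p ^ n))
    have haj : a < j := by
      by_contra hcon
      push Not at hcon
      have h1 : p ^ j ≤ p ^ a := Nat.pow_le_pow_right hp.pos hcon
      have h2 : p ^ a ≤ i := by
        rw [← hga]
        exact Nat.le_of_dvd hi0 (Nat.gcd_dvd_left _ _)
      omega
    have h1 : x ^ (i * u) = x ^ p ^ a := by
      rw [pow_eq_pow_mod (i * u) hxn, hu, hga]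
    apply hjmin a haj
    have e : (⟨x ^ p ^ a, hxR _⟩ : R) = (⟨x ^ i, hxR i⟩ : R) ^ u := by
      apply Subtype.ext
      rw [Subgroup.coe_pow]
      show x ^ p ^ a = (x ^ i) ^ u
      rw [← pow_mul, h1]
    rw [e]
    subst hR
    exact act_pow_fixed Z x hnZ χ₁ _ hfixi u
  -- the new element
  obtain ⟨x₁, hx₁⟩ : ∃ x₁ : Γ, x₁ = x ^ p ^ j := ⟨_, rfl⟩
  have hx₁Q : x₁ ∈ Subgroup.normalizer (Q : Set Γ) := by
    rw [hx₁]
    exact Subgroup.pow_mem _ hM.norm _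
  have hnj : j + (n - j) = n := by omega
  have hx₁n : x₁ ^ p ^ (n - j) = 1 := by
    rw [hx₁, ← pow_mul, ← pow_add, hnj, hxn]
  have hn₁ : 1 ≤ n - j := by omega
  have hy₁ : x₁ ^ p ^ (n - j - 1) = y := by
    rw [hx₁, hy, ← pow_mul, ← pow_add]
    congr 2
    omega
  have hx₁U : ∀ u ∈ U₁, ρ x₁ u ∈ U₁ := by
    intro u hu
    rw [hU₁] at hu ⊢
    have := map_mem ρ Z R hnZ ⟨x ^ p ^ j, hxR _⟩ χ₁ u hu
    rw [hj] at this
    rw [hx₁]
    exact this
  have hU₁top : U₁ ≠ ⊤ := by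
    intro htop
    apply hfix'
    obtain ⟨v, hv⟩ := exists_ne (0 : V)
    have hv1 : v ∈ jointEig ρ Z χ₁ := by
      rw [← hU₁, htop]
      exact Submodule.mem_top
    have hxv : ρ x v ≠ 0 := by
      intro h0
      have := congrArg (ρ x⁻¹) h0
      rw [← Module.End.mul_apply, rho_inv', Module.End.one_apply, map_zero] at this
      exact hv this
    have h1 := map_mem ρ Z R hnZ ⟨x, hxR1⟩ χ₁ v hv1
    have h2 : ρ x v ∈ jointEig ρ Z χ₁ := by
      rw [← hU₁, htop]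
      exact Submodule.mem_top
    rw [mem_jointEig] at h1 h2
    funext z
    have := (h1 z).symm.trans (h2 z)
    exact smul_left_injective K hxv this
  have hU₁bot : U₁ ≠ ⊥ := by
    rw [hU₁]
    exact hχ₁
  have h4' : ∃ g ∈ Q, ∃ u ∈ U₁,
      ρ (x₁ ^ p ^ (n - j - 1) * g * (x₁ ^ p ^ (n - j - 1))⁻¹) u ≠ ρ g u := by
    rw [hy₁]
    by_contra hcon
    push Not at hcon
    have htriv : ∀ g ∈ Q, ∀ u ∈ U₁, ρ g u = u := by
      intro g hg
      rw [← hM.closure_commSet_eq hQ hqr hyr] at hg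
      induction hg using Subgroup.closure_induction with
      | mem c hc =>
        obtain ⟨g, hg, rfl⟩ := hc
        intro u hu
        rw [map_mul, Module.End.mul_apply, hcon g hg u hu, ← Module.End.mul_apply, rho_inv',
          Module.End.one_apply]
      | one =>
        intro u _
        rw [map_one, Module.End.one_apply]
      | mul a b _ _ iha ihb =>
        intro u hu
        rw [map_mul, Module.End.mul_apply, ihb u hu, iha u hu]
      | inv a _ iha =>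
        intro u hu
        have := iha u hu
        calc ρ a⁻¹ u = ρ a⁻¹ (ρ a u) := by rw [this]
          _ = u := by rw [← Module.End.mul_apply, rho_inv', Module.End.one_apply]
    obtain ⟨u, hu, hu0⟩ := (Submodule.ne_bot_iff _).mp hU₁bot
    have hχ1 : ∀ z : Z, χ₁ z = 1 := by
      intro z
      have h1 := (hmemU u).mp hu z
      rw [htriv z (hZQ z.2) u hu] at h1
      have : (1 : K) • u = χ₁ z • u := by
        rw [one_smul]
        exact h1
      exact (smul_left_injective K hu0 this).symm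
    apply hfix'
    funext z
    show χ₁ _ = χ₁ z
    rw [hχ1, hχ1]
  -- the exact index on the weight space
  have hgeo : ρ x₁ - 1 = (ρ x - 1) ^ p ^ j := by
    rw [(geom_char (K := K) p (ρ x) j).1, hx₁, map_pow]
  have hpj : p ^ j ≠ 0 := pow_ne_zero _ hp.ne_zero
  have hex : ∃ k : ℕ, ∀ u ∈ U₁, ((ρ x₁ - 1) ^ k) u = 0 := by
    refine ⟨s, fun u _ => ?_⟩
    rw [hgeo, ← pow_mul, mul_comm, pow_mul, h5, zero_pow hpj, LinearMap.zero_apply]
  obtain ⟨s', hs', hs'min⟩ : ∃ s' : ℕ, (∀ u ∈ U₁, ((ρ x₁ - 1) ^ s') u = 0) ∧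
      ∀ k < s', ¬ ∀ u ∈ U₁, ((ρ x₁ - 1) ^ k) u = 0 :=
    ⟨Nat.find hex, Nat.find_spec hex, fun k hk => Nat.find_min hex hk⟩
  have IHapp := loc_sub IH hd ρ U₁ hU₁top Q hQ x₁ hx₁Q (n - j) hn₁ hx₁n hQU hx₁U h4' s' hs'
  have hs'1 : 1 ≤ s' := by
    by_contra h0
    have h00 : s' = 0 := by omega
    apply hU₁bot
    rw [Submodule.eq_bot_iff]
    intro u hu
    have := hs' u hu
    rw [h00, pow_zero, Module.End.one_apply] at this
    exact this
  obtain ⟨u, hu, hw0⟩ : ∃ u ∈ U₁, ((ρ x₁ - 1) ^ (s' - 1)) u ≠ 0 := by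
    have := hs'min (s' - 1) (by omega)
    push Not at this
    exact this
  have hpowU : ∀ k : ℕ, ∀ u ∈ U₁, ((ρ x₁ - 1) ^ k) u ∈ U₁ := by
    intro k
    induction k with
    | zero =>
      intro u hu
      simpa using hu
    | succ k ih =>
      intro u hu
      rw [pow_succ, Module.End.mul_apply]
      apply ih
      rw [LinearMap.sub_apply, Module.End.one_apply]
      exact U₁.sub_mem (hx₁U u hu) hu
  have hwU : ((ρ x₁ - 1) ^ (s' - 1)) u ∈ jointEig ρ Z χ₁ := by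
    rw [← hU₁]
    exact hpowU (s' - 1) u hu
  have hsum : (∑ i ∈ Finset.range (p ^ j), ρ x ^ i) (((ρ x₁ - 1) ^ (s' - 1)) u) ≠ 0 := by
    subst hR
    exact orbit_sum_ne_zero ρ Z hcommZ x hnZ χ₁ (p ^ j) (Nat.pos_of_ne_zero hpj) hstab _ hwU hw0
  have hkey : p ^ j * s' ≤ s := by
    by_contra hlt
    push Not at hlt
    apply hsum
    rw [(geom_char (K := K) p (ρ x) j).2, hgeo, ← pow_mul, ← Module.End.mul_apply, ← pow_add]
    have hle : s ≤ p ^ j - 1 + p ^ j * (s' - 1) := by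
      have e1 : p ^ j * s' = p ^ j * (s' - 1) + p ^ j := by
        rw [← Nat.mul_succ]
        congr 1
        omega
      have e2 : 1 ≤ p ^ j := Nat.one_le_pow _ _ hp.pos
      omega
    rw [← Nat.sub_add_cancel hle, pow_add, h5, mul_zero, LinearMap.zero_apply]
  rcases IHapp with h | ⟨n₀, m, h1, h2, h3, h4, h5', h6⟩
  · left
    calc p ^ n = p ^ j * p ^ (n - j) := by rw [← pow_add, hnj]
      _ ≤ p ^ j * s' := Nat.mul_le_mul_left _ h
      _ ≤ s := hkey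
  · right
    refine ⟨n₀, m, h1, by omega, h3, h4, h5', ?_⟩
    calc p ^ (n - n₀) * (p ^ n₀ - 1) = p ^ j * (p ^ (n - j - n₀) * (p ^ n₀ - 1)) := by
          rw [← mul_assoc, ← pow_add]
          congr 2
          omega
      _ ≤ p ^ j * s' := Nat.mul_le_mul_left _ h6
      _ ≤ s := hkey

end orbitcase

end Cfsg.Agent.Lib.Helper20.HHThm
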