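import Mathlib
import Cfsg.Agent.Lib.Helper20.HHThmF

set_option autoImplicit false

/-!
Hall–Higman Theorem B over an algebraically closed field: the induction.
-/

namespace Cfsg.Agent.Lib.Helper20.HHThm

open Module Cfsg.Agent.Lib.Helper11.FrobLinEig Cfsg.Agent.Lib.Helper11.FrobLinOrbit
open Cfsg.Agent.Lib.Helper20.HHExt (rho_inv rho_inv')

universe u v w

section induction

variable {K : Type w} [Field K] {p q : ℕ} [Fact p.Prime] [Fact q.Prime]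

theorem center_conj {Γ : Type*} [Group Γ] {Q : Subgroup Γ} {t : Γ}
    (ht : t ∈ Subgroup.normalizer (Q : Set Γ)) {z : Γ}
    (hz : z ∈ Q ⊓ Subgroup.centralizer (Q : Set Γ)) :
    t * z * t⁻¹ ∈ Q ⊓ Subgroup.centralizer (Q : Set Γ) := by
  rw [Subgroup.mem_inf, Subgroup.mem_centralizer_iff] at hz ⊢
  refine ⟨(Subgroup.mem_normalizer_iff.mp ht z).mp hz.1, ?_⟩
  intro g hg
  have h1 : t⁻¹ ∈ Subgroup.normalizer (Q : Set Γ) := Subgroup.inv_mem _ ht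
  have h2 : t⁻¹ * g * t⁻¹⁻¹ ∈ Q := (Subgroup.mem_normalizer_iff.mp h1 g).mp hg
  rw [inv_inv] at h2
  have h3 := hz.2 _ h2
  calc g * (t * z * t⁻¹) = t * ((t⁻¹ * g * t) * z) * t⁻¹ := by group
    _ = t * (z * (t⁻¹ * g * t)) * t⁻¹ := by rw [h3]
    _ = t * z * t⁻¹ * g := by group

theorem center_norm {Γ : Type*} [Group Γ] {Q : Subgroup Γ} {t : Γ}
    (ht : t ∈ Subgroup.normalizer (Q : Set Γ)) :
    t ∈ Subgroup.normalizer ((Q ⊓ Subgroup.centralizer (Q : Set Γ) : Subgroup Γ) : Set Γ) := by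
  rw [Subgroup.mem_normalizer_iff]
  intro z
  constructor
  · exact center_conj ht
  · intro hz
    have h1 : t⁻¹ ∈ Subgroup.normalizer (Q : Set Γ) := Subgroup.inv_mem _ ht
    have h2 := center_conj h1 hz
    have e : t⁻¹ * (t * z * t⁻¹) * t⁻¹⁻¹ = z := by group
    rw [e] at h2
    exact h2

theorem nonabelian_case [IsAlgClosed K] [CharP K p] (hpq : p ≠ q) {d : ℕ}
    (IH : ∀ d' < d, Stmt.{u, v, w} K p q d') {Γ : Type u} [Group Γ]
    {V : Type v} [AddCommGroup V] [Module K V] [FiniteDimensional K V] [Nontrivial V]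
    (hd : finrank K V = d) (ρ : Γ →* End K V) (hinj : Function.Injective ρ) (Q : Subgroup Γ)
    [Finite Q] (hQ : IsPGroup q Q) (x : Γ) (n : ℕ) (hn : 1 ≤ n) (hxn : x ^ p ^ n = 1)
    (hM : MinAct2 x (x ^ p ^ (n - 1)) Q)
    (hirr : ∀ W : Submodule K V, (∀ g ∈ Q, ∀ w ∈ W, ρ g w ∈ W) → (∀ w ∈ W, ρ x w ∈ W) →
      W = ⊥ ∨ W = ⊤)
    (hnab : ¬ ∀ g ∈ Q, ∀ g' ∈ Q, g * g' = g' * g)
    (s : ℕ) (h5 : (ρ x - 1) ^ s = 0) : Concl p q n s Q := by
  classical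
  obtain ⟨Z, hZ⟩ : ∃ Z : Subgroup Γ, Z = Q ⊓ Subgroup.centralizer (Q : Set Γ) := ⟨_, rfl⟩
  have hmemZ : ∀ z, z ∈ Z ↔ z ∈ Q ∧ ∀ g ∈ Q, g * z = z * g := by
    intro z
    rw [hZ, Subgroup.mem_inf, Subgroup.mem_centralizer_iff]
    rfl
  have hZQ : Z ≤ Q := by
    rw [hZ]
    exact inf_le_left
  have hZc : ∀ z ∈ Z, ∀ g ∈ Q, g * z = z * g := fun z hz => ((hmemZ z).mp hz).2
  have hZne : Z ≠ Q := by
    intro heq
    apply hnab
    intro g hg g' hg'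
    rw [← heq] at hg'
    exact hZc g' hg' g hg
  have hxZ : x ∈ Subgroup.normalizer (Z : Set Γ) := by
    rw [hZ]
    exact center_norm hM.norm
  have hyZ : ∀ z ∈ Z, x ^ p ^ (n - 1) * z = z * x ^ p ^ (n - 1) := hM.min Z hZQ hxZ hZne
  have hfinZ : Finite Z :=
    Finite.of_injective (Subgroup.inclusion hZQ) (Subgroup.inclusion_injective hZQ)
  have hcommZ : ∀ z ∈ Z, ∀ z' ∈ Z, Commute (ρ z) (ρ z') := by
    intro z hz z' hz'
    show ρ z * ρ z' = ρ z' * ρ z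
    rw [← map_mul, ← map_mul, hZc z' hz' z (hZQ hz)]
  have hZK : ((Nat.card Z : ℕ) : K) ≠ 0 := card_cast_ne_zero hpq Z (hQ.to_le hZQ)
  have htop := jointEig_iSup ρ Z hcommZ hZK
  obtain ⟨χ₁, hχ₁⟩ : ∃ χ₁ : Z → K, jointEig ρ Z χ₁ ≠ ⊥ := by
    by_contra hcon
    push Not at hcon
    have : (⨆ χ : Z → K, jointEig ρ Z χ) = ⊥ := by
      rw [iSup_eq_bot]
      exact hcon
    rw [this] at htop
    exact bot_ne_top htop
  by_cases hfix : act Z (Subgroup.zpowers x) (zpowers_norm hxZ) ⟨x, Subgroup.mem_zpowers x⟩ χ₁ = χ₁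
  · -- the centre acts by scalars
    have hQU : ∀ g ∈ Q, ∀ u ∈ jointEig ρ Z χ₁, ρ g u ∈ jointEig ρ Z χ₁ := by
      intro g hg u hu
      rw [mem_jointEig] at hu ⊢
      intro z
      rw [← Module.End.mul_apply, ← map_mul, ← hZc z z.2 g hg, map_mul, Module.End.mul_apply,
        hu z, map_smul]
    have hxU : ∀ u ∈ jointEig ρ Z χ₁, ρ x u ∈ jointEig ρ Z χ₁ := by
      intro u hu
      have := map_mem ρ Z (Subgroup.zpowers x) (zpowers_norm hxZ) ⟨x, Subgroup.mem_zpowers x⟩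
        χ₁ u hu
      rw [hfix] at this
      exact this
    have hUtop : jointEig ρ Z χ₁ = ⊤ := by
      rcases hirr _ hQU hxU with h | h
      · exact absurd h hχ₁
      · exact h
    apply scalar_case hpq ρ hinj Q hQ x n hn hxn hM hirr _ s h5
    intro z hz hzc
    have hzZ : z ∈ Z := (hmemZ z).mpr ⟨hz, hzc⟩
    refine ⟨χ₁ ⟨z, hzZ⟩, ?_⟩
    apply LinearMap.ext
    intro v
    have hv : v ∈ jointEig ρ Z χ₁ := by
      rw [hUtop]
      exact Submodule.mem_top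
    rw [mem_jointEig] at hv
    rw [LinearMap.smul_apply, Module.End.one_apply]
    exact hv ⟨z, hzZ⟩
  · exact orbit_case hpq IH hd ρ Q hQ x n hn hxn hM Z hZQ hZc hxZ hyZ χ₁ hχ₁ hfix s h5

theorem step [IsAlgClosed K] [CharP K p] (hpq : p ≠ q) {d : ℕ}
    (IH : ∀ d' < d, Stmt.{u, v, w} K p q d') : StmtF.{u, v, w} K p q d := by
  intro Γ _ V _ _ _ ρ Q _ x n s hd hinj hQ hxQ hxn hn h4 h5
  have hV : Nontrivial V := by
    by_contra hnt
    rw [not_nontrivial_iff_subsingleton] at hnt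
    obtain ⟨g, _, hne⟩ := h4
    apply hne
    apply LinearMap.ext
    intro v
    exact Subsingleton.elim _ _
  obtain ⟨y, hy⟩ : ∃ y : Γ, y = x ^ p ^ (n - 1) := ⟨_, rfl⟩
  rw [← hy] at h4
  have hnt : ∃ g ∈ Q, y * g ≠ g * y := by
    obtain ⟨g, hg, hne⟩ := h4
    refine ⟨g, hg, ?_⟩
    intro h
    apply hne
    congr 1
    rw [h]
    group
  obtain ⟨P, hPQ, hM⟩ := exists_minAct2 x y ⟨_, hy⟩ (Nat.card Q) Q rfl hxQ hnt
  have hfinP : Finite P :=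
    Finite.of_injective (Subgroup.inclusion hPQ) (Subgroup.inclusion_injective hPQ)
  have hP : IsPGroup q P := hQ.to_le hPQ
  suffices hc : Concl p q n s P from
    hc.of_noncomm (fun hab g hg g' hg' => hab g (hPQ hg) g' (hPQ hg'))
  have h4P : ∃ g ∈ P, ρ (x ^ p ^ (n - 1) * g * (x ^ p ^ (n - 1))⁻¹) ≠ ρ g := by
    obtain ⟨g, hg, hne⟩ := hM.nontriv
    refine ⟨g, hg, ?_⟩
    intro h
    apply hne
    have h1 := hinj h
    rw [← hy] at h1
    calc y * g = (y * g * y⁻¹) * y := by group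
      _ = g * y := by rw [h1]
  rw [hy] at hM
  by_cases hred : ∃ W : Submodule K V, W ≠ ⊥ ∧ W ≠ ⊤ ∧ (∀ g ∈ P, ∀ w ∈ W, ρ g w ∈ W) ∧
      (∀ w ∈ W, ρ x w ∈ W)
  · obtain ⟨W, hW0, hW1, hPW, hxW⟩ := hred
    exact reducible_case hpq IH hd ρ P hP x hM.norm n hn hxn h4P s h5 W hW0 hW1 hPW hxW
  have hirr : ∀ W : Submodule K V, (∀ g ∈ P, ∀ w ∈ W, ρ g w ∈ W) → (∀ w ∈ W, ρ x w ∈ W) →
      W = ⊥ ∨ W = ⊤ := by
    intro W h1 h2
    by_contra hcon
    push Not at hcon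
    exact hred ⟨W, hcon.1, hcon.2, h1, h2⟩
  by_cases hab : ∀ g ∈ P, ∀ g' ∈ P, g * g' = g' * g
  · left
    exact abelian_case hpq ρ P hP x hM.norm n hn hxn h4P (fun g hg g' hg' => by
      show ρ g * ρ g' = ρ g' * ρ g
      rw [← map_mul, ← map_mul, hab g hg g' hg']) s h5
  · exact nonabelian_case hpq IH hd ρ hinj P hP x n hn hxn hM hirr hab s h5

theorem stmt_all [IsAlgClosed K] [CharP K p] (hpq : p ≠ q) : ∀ d : ℕ, Stmt.{u, v, w} K p q d := by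
  intro d
  induction d using Nat.strong_induction_on with
  | _ d ih => exact kerQuot (step hpq ih)

/-- Hall–Higman Theorem B over an algebraically closed field of characteristic `p`, for a
`q`-subgroup normalised by the `p`-element. -/
theorem main_closed [IsAlgClosed K] [CharP K p] (hpq : p ≠ q) {Γ : Type u} [Group Γ]
    {V : Type v} [AddCommGroup V] [Module K V] [FiniteDimensional K V]
    (ρ : Γ →* End K V) (Q : Subgroup Γ) [Finite Q] (hQ : IsPGroup q Q) (x : Γ)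
    (hxQ : x ∈ Subgroup.normalizer (Q : Set Γ)) (n : ℕ) (hn : 1 ≤ n) (hxn : x ^ p ^ n = 1)
    (h4 : ∃ g ∈ Q, ρ (x ^ p ^ (n - 1) * g * (x ^ p ^ (n - 1))⁻¹) ≠ ρ g)
    (s : ℕ) (h5 : (ρ x - 1) ^ s = 0) : Concl p q n s Q :=
  stmt_all hpq (finrank K V) Γ V ρ Q x n s rfl hQ hxQ hxn hn h4 h5

end induction

end Cfsg.Agent.Lib.Helper20.HHThm
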