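import Mathlib
import Cfsg.Agent.Lib.Helper20.HHThmG
import Cfsg.Agent.Lib.Helper20.HHAbelC

set_option autoImplicit false

/-!
Hall–Higman Theorem B: descent to an arbitrary field and the group-theoretic input.
-/

namespace Cfsg.Agent.Lib.Helper20.HHThm

open Module TensorProduct

universe u v w

section partH

variable {Γ : Type*} [Group Γ] [Finite Γ] {p : ℕ} [Fact p.Prime]

/-- In a `p`-solvable group with `O_p = 1`, a `p`-element `x` with `y = x ^ p ^ (m-1) ≠ 1` normalises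
a `q`-subgroup (`q ≠ p`) not centralised by `y`. -/
theorem exists_moved (hsolv : Cfsg.IsPSolvable p Γ) (hO : Cfsg.pCore p Γ = ⊥)
    (x : Γ) {m : ℕ} (hm : 1 ≤ m) (hx : x ^ p ^ m = 1) (hy : x ^ p ^ (m - 1) ≠ 1) :
    ∃ q : ℕ, q.Prime ∧ q ≠ p ∧ ∃ Q : Subgroup Γ, IsPGroup q Q ∧
      x ∈ Subgroup.normalizer (Q : Set Γ) ∧
      ∃ z ∈ Q, x ^ p ^ (m - 1) * z * (x ^ p ^ (m - 1))⁻¹ ≠ z := by
  have hp : p.Prime := Fact.out
  set K := Cfsg.pPrimeCore p Γ with hK
  have hKn : K.Normal := Cfsg.pPrimeCore_normal p Γ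
  have hKp : (Nat.card K).Coprime p := Cfsg.Agent.Lib.Helper1.pPrimeCore_card_coprime p
  have hC : Subgroup.centralizer (K : Set Γ) ≤ K :=
    Cfsg.Agent.Lib.Helper5.h5_centralizer_pPrimeCore_le hsolv hO
  set y := x ^ p ^ (m - 1) with hydef
  have hyp : y ^ p = 1 := by
    rw [hydef, ← pow_mul, ← pow_succ, Nat.sub_add_cancel hm, hx]
  have hyK : y ∉ K := by
    intro hyK
    have h1 : orderOf y ∣ p := orderOf_dvd_of_pow_eq_one hyp
    have h2 : orderOf y ∣ Nat.card K := Subgroup.orderOf_dvd_natCard K hyK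
    rcases (Nat.dvd_prime hp).mp h1 with h | h
    · exact hy (orderOf_eq_one_iff.mp h)
    · rw [h] at h2
      exact (Nat.Prime.coprime_iff_not_dvd hp).mp hKp.symm h2
  by_contra hcon
  push Not at hcon
  apply hyK
  apply hC
  set A := Subgroup.zpowers x with hA
  have hAK : A ≤ Subgroup.normalizer (K : Set Γ) := by
    rw [Subgroup.normalizer_eq_top]
    exact le_top
  have hAcard : Nat.card A ∣ p ^ m := by
    rw [hA, Nat.card_zpowers]
    exact orderOf_dvd_of_pow_eq_one hx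
  have hcop : (Nat.card A).Coprime (Nat.card K) :=
    Nat.Coprime.coprime_dvd_left hAcard (Nat.Coprime.pow_left m hKp.symm)
  have hsolvA : Group.IsSolvable A := Cfsg.Agent.Lib.Helper1.isSolvable_zpowers x
  have hKC : K ≤ Subgroup.centralizer ({y} : Set Γ) := by
    apply Cfsg.Agent.Lib.Helper1.sylow_le_imp_le
    intro q hq
    by_cases hqp : q = p
    · subst hqp
      obtain ⟨P⟩ : Nonempty (Sylow q K) := inferInstance
      refine ⟨P, ?_⟩
      obtain ⟨n, hn⟩ := P.isPGroup'.exists_card_eq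
      have h1 : q ^ n ∣ Nat.card K := by
        rw [← hn]
        exact Subgroup.card_subgroup_dvd_card _
      have h2 : n = 0 := by
        by_contra hn0
        have : q ∣ Nat.card K := dvd_trans (dvd_pow_self q hn0) h1
        exact (Nat.Prime.coprime_iff_not_dvd hp).mp hKp.symm this
      rw [h2, pow_zero] at hn
      have h3 : (P : Subgroup K) = ⊥ := Subgroup.eq_bot_of_card_eq _ hn
      rw [h3, Subgroup.map_bot]
      exact bot_le
    · obtain ⟨Q, hQK, hQq, hQn, hQcard⟩ :=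
        Cfsg.Agent.Lib.Helper5.exists_invariant_sylow_sub A K hAK hcop hsolvA q
      have hcard : Nat.card (Q.subgroupOf K) = q ^ (Nat.card K).factorization q := by
        rw [← hQcard]
        exact Nat.card_congr (Subgroup.subgroupOfEquivOfLe hQK).toEquiv
      refine ⟨Sylow.ofCard (Q.subgroupOf K) hcard, ?_⟩
      rw [Sylow.coe_ofCard, Subgroup.map_subgroupOf_eq_of_le hQK]
      have hxQ : x ∈ Subgroup.normalizer (Q : Set Γ) := hQn (Subgroup.mem_zpowers x)
      intro z hz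
      have h3 := hcon q hq.out hqp Q hQq hxQ z hz
      rw [Subgroup.mem_centralizer_iff]
      intro h hh
      rw [Set.mem_singleton_iff] at hh
      rw [hh]
      calc y * z = (y * z * y⁻¹) * y := by group
        _ = z * y := by rw [h3]
  rw [Subgroup.mem_centralizer_iff]
  intro k hk
  have h1 := Subgroup.mem_centralizer_iff.mp (hKC hk) y (Set.mem_singleton y)
  exact h1.symm

/-- A non-abelian `q`-subgroup forces all Sylow `q`-subgroups to be non-abelian. -/
theorem sylow_noncomm {q : ℕ} [Fact q.Prime] (Q : Subgroup Γ) (hQ : IsPGroup q Q)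
    (hnc : ¬ ∀ g ∈ Q, ∀ g' ∈ Q, g * g' = g' * g) (S : Sylow q Γ) :
    ¬ IsMulCommutative (S : Subgroup Γ) := by
  intro hS
  apply hnc
  obtain ⟨S₀, hS₀⟩ := hQ.exists_le_sylow
  obtain ⟨t, ht⟩ := MulAction.exists_smul_eq Γ S S₀
  have hmem : ∀ g ∈ Q, ∃ a ∈ (S : Subgroup Γ), t * a * t⁻¹ = g := by
    intro g hg
    have h1 : g ∈ ((t • S : Sylow q Γ) : Subgroup Γ) := by rw [ht]; exact hS₀ hg
    rw [Sylow.smul_def, Sylow.pointwise_smul_def] at h1
    obtain ⟨a, ha, hag⟩ := h1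
    exact ⟨a, ha, hag⟩
  intro g hg g' hg'
  obtain ⟨a, ha, rfl⟩ := hmem g hg
  obtain ⟨a', ha', rfl⟩ := hmem g' hg'
  have hc : a * a' = a' * a := by
    have := mul_comm' (⟨a, ha⟩ : ↥(S : Subgroup Γ)) ⟨a', ha'⟩
    exact congrArg Subtype.val this
  calc t * a * t⁻¹ * (t * a' * t⁻¹) = t * (a * a') * t⁻¹ := by group
    _ = t * (a' * a) * t⁻¹ := by rw [hc]
    _ = t * a' * t⁻¹ * (t * a * t⁻¹) := by group

end partH

section field

open Cfsg.Agent.Lib.Helper20.HHAbel (baseChange_ne_zero)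

/-- Hall–Higman Theorem B for a `q`-subgroup normalised by the `p`-element, over an arbitrary field
of characteristic `p`. -/
theorem main_field {k : Type w} [Field k] {p q : ℕ} [Fact p.Prime] [Fact q.Prime] [CharP k p]
    (hpq : p ≠ q) {Γ : Type u} [Group Γ] {V : Type v} [AddCommGroup V] [Module k V]
    [FiniteDimensional k V] (ρ₀ : Γ →* End k V) (Q : Subgroup Γ) [Finite Q] (hQ : IsPGroup q Q)
    (x : Γ) (hxQ : x ∈ Subgroup.normalizer (Q : Set Γ)) (n : ℕ) (hn : 1 ≤ n)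
    (hxn : x ^ p ^ n = 1)
    (h4 : ∃ g ∈ Q, ρ₀ (x ^ p ^ (n - 1) * g * (x ^ p ^ (n - 1))⁻¹) ≠ ρ₀ g)
    (s : ℕ) (h5 : (ρ₀ x - 1) ^ s = 0) : Concl p q n s Q := by
  have hchar : CharP (AlgebraicClosure k) p :=
    charP_of_injective_algebraMap (algebraMap k (AlgebraicClosure k)).injective p
  obtain ⟨bc, hbc⟩ : ∃ bc : End k V →ₐ[k] End (AlgebraicClosure k) (AlgebraicClosure k ⊗[k] V),
      bc = Module.End.baseChangeHom k (AlgebraicClosure k) V := ⟨_, rfl⟩
  have hbca : ∀ f : End k V, bc f = f.baseChange (AlgebraicClosure k) := by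
    intro f
    rw [hbc]
    rfl
  obtain ⟨ρ, hρ⟩ : ∃ ρ : Γ →* End (AlgebraicClosure k) (AlgebraicClosure k ⊗[k] V),
      ρ = (bc : End k V →* _).comp ρ₀ := ⟨_, rfl⟩
  have hρa : ∀ g : Γ, ρ g = bc (ρ₀ g) := by
    intro g
    rw [hρ]
    rfl
  apply main_closed (K := AlgebraicClosure k) hpq ρ Q hQ x hxQ n hn hxn
  · obtain ⟨g, hg, hne⟩ := h4
    refine ⟨g, hg, ?_⟩
    rw [hρa, hρa]
    intro heq
    have h1 : bc (ρ₀ (x ^ p ^ (n - 1) * g * (x ^ p ^ (n - 1))⁻¹) - ρ₀ g) = 0 := by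
      rw [map_sub, heq, sub_self]
    rw [hbca] at h1
    exact baseChange_ne_zero _ _ (sub_ne_zero.mpr hne) h1
  · have e : ρ x - 1 = bc (ρ₀ x - 1) := by rw [map_sub, map_one, hρa]
    rw [e, ← map_pow, h5, map_zero]

end field

end Cfsg.Agent.Lib.Helper20.HHThm
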