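import Mathlib
import Cfsg.Agent.Lib.Lead.Coprime
import Cfsg.Agent.Lib.Helper1.Frat
import Cfsg.Agent.Lib.Helper5.PGroup
import Cfsg.Agent.S0027
import Cfsg.Agent.S0056

set_option autoImplicit false

namespace Cfsg.Agent.Lib.Helper20

open scoped commutatorElement IsMulCommutative
open Cfsg.Agent.Lib.Lead


theorem hh_pow_mul {G : Type*} [Group G] (x y c : G) (h : y * x = x * y * c)
    (hcy : Commute c y) (n : ℕ) : y ^ n * x = x * y ^ n * c ^ n := by
  induction n with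
  | zero => simp
  | succ n ih =>
    have h1 : c * y ^ n = y ^ n * c := (hcy.pow_right n).eq
    calc y ^ (n + 1) * x = y * (y ^ n * x) := by rw [pow_succ', mul_assoc]
      _ = y * (x * y ^ n * c ^ n) := by rw [ih]
      _ = (y * x) * (y ^ n * c ^ n) := by simp only [mul_assoc]
      _ = x * y * c * (y ^ n * c ^ n) := by rw [h]
      _ = x * y * (c * y ^ n) * c ^ n := by simp only [mul_assoc]
      _ = x * y * (y ^ n * c) * c ^ n := by rw [h1]
      _ = x * (y * y ^ n) * (c * c ^ n) := by simp only [mul_assoc]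
      _ = x * y ^ (n + 1) * c ^ (n + 1) := by rw [← pow_succ', ← pow_succ']

theorem hh_mul_pow {G : Type*} [Group G] (x y c : G) (h : y * x = x * y * c)
    (hcx : Commute c x) (hcy : Commute c y) (n : ℕ) :
    (x * y) ^ n = x ^ n * y ^ n * c ^ (n.choose 2) := by
  induction n with
  | zero => simp
  | succ n ih =>
    have h1 : c ^ (n.choose 2) * x = x * c ^ (n.choose 2) := (hcx.pow_left _).eq
    have h2 : c ^ n * c ^ (n.choose 2) * y = y * (c ^ n * c ^ (n.choose 2)) :=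
      ((hcy.pow_left _).mul_left (hcy.pow_left _)).eq
    have h3 := hh_pow_mul x y c h hcy n
    have h4 : (n + 1).choose 2 = n + n.choose 2 := by
      rw [Nat.choose_succ_succ, Nat.choose_one_right]
    calc (x * y) ^ (n + 1) = (x * y) ^ n * (x * y) := pow_succ _ _
      _ = x ^ n * y ^ n * c ^ (n.choose 2) * (x * y) := by rw [ih]
      _ = x ^ n * y ^ n * (c ^ (n.choose 2) * x) * y := by simp only [mul_assoc]
      _ = x ^ n * y ^ n * (x * c ^ (n.choose 2)) * y := by rw [h1]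
      _ = x ^ n * (y ^ n * x) * c ^ (n.choose 2) * y := by simp only [mul_assoc]
      _ = x ^ n * (x * y ^ n * c ^ n) * c ^ (n.choose 2) * y := by rw [h3]
      _ = x ^ n * x * y ^ n * (c ^ n * c ^ (n.choose 2) * y) := by simp only [mul_assoc]
      _ = x ^ n * x * y ^ n * (y * (c ^ n * c ^ (n.choose 2))) := by rw [h2]
      _ = (x ^ n * x) * (y ^ n * y) * (c ^ n * c ^ (n.choose 2)) := by simp only [mul_assoc]
      _ = x ^ (n + 1) * y ^ (n + 1) * c ^ ((n + 1).choose 2) := by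
        rw [← pow_succ, ← pow_succ, ← pow_add, h4]


variable {X : Type*} [Group X]


/-- coprimality of `|A|` with `|P|` for a `p`-group `P`. -/
theorem hh_coprime_card [Finite X] {p : ℕ} [Fact p.Prime] (A P : Subgroup X) (hP : IsPGroup p P)
    (hAp : (Nat.card A).Coprime p) : (Nat.card A).Coprime (Nat.card P) := by
  obtain ⟨n, hn⟩ := IsPGroup.iff_card.mp hP
  rw [hn]
  exact Nat.Coprime.pow_right n hAp

/-- L1: `[P, A] = P` in the minimal situation. -/
theorem hh_commutator_eq [Finite X] {p : ℕ} [Fact p.Prime] (B A P : Subgroup X) (hP : IsPGroup p P)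
    (hBP : B ≤ Subgroup.normalizer (P : Set X)) (hAB : A ≤ B)
    (hAn : B ≤ Subgroup.normalizer (A : Set X)) (hAp : (Nat.card A).Coprime p)
    (hnt : ⁅P, A⁆ ≠ ⊥)
    (hmin : ∀ U : Subgroup X, U < P → B ≤ Subgroup.normalizer (U : Set X) → ⁅U, A⁆ = ⊥) :
    ⁅P, A⁆ = P := by
  have hAP : A ≤ Subgroup.normalizer (P : Set X) := hAB.trans hBP
  have hle : ⁅P, A⁆ ≤ P := commutator_le_left_of_le_normalizer P A hAP
  by_contra hne
  have hlt : ⁅P, A⁆ < P := lt_of_le_of_ne hle hne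
  have hB : B ≤ Subgroup.normalizer ((⁅P, A⁆ : Subgroup X) : Set X) :=
    le_normalizer_commutator B P A hBP hAn
  have h1 := hmin _ hlt hB
  have hsolv : Group.IsSolvable P := by
    have : Group.IsNilpotent P := hP.isNilpotent
    infer_instance
  have h2 := Cfsg.Agent.S0027.result A P hAP (hh_coprime_card A P hP hAp) (Or.inr hsolv)
  rw [h1] at h2
  exact hnt h2.symm

/-- L2: a subgroup `U ≤ P` normalised by `P` and centralised by `A` is central in `P`,
provided `[P, A] = P`. -/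
theorem hh_central_of_centralized (A P U : Subgroup X) (hPA : ⁅P, A⁆ = P)
    (hPU : P ≤ Subgroup.normalizer (U : Set X)) (hUA : ⁅U, A⁆ = ⊥) :
    U ≤ Subgroup.centralizer (P : Set X) := by
  have h1 : ⁅⁅A, U⁆, P⁆ = ⊥ := by
    rw [Subgroup.commutator_comm A U, hUA]
    exact Subgroup.commutator_bot_left P
  have h2 : ⁅⁅U, P⁆, A⁆ = ⊥ := by
    have h3 : ⁅U, P⁆ ≤ U := commutator_le_left_of_le_normalizer U P hPU
    have h4 : ⁅⁅U, P⁆, A⁆ ≤ ⁅U, A⁆ := Subgroup.commutator_mono h3 le_rfl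
    rw [hUA] at h4
    exact le_bot_iff.mp h4
  have h5 : ⁅⁅P, A⁆, U⁆ = ⊥ := Subgroup.commutator_commutator_eq_bot_of_rotate h1 h2
  rw [hPA] at h5
  rw [Subgroup.commutator_comm] at h5
  exact Subgroup.commutator_eq_bot_iff_le_centralizer.mp h5



/-- L3 (averaging): if `P/M` is abelian, `A` acts coprimely with `[P, A] = P`, then `C_P(A) ≤ M`. -/
theorem hh_fixed_le [Finite X] {p : ℕ} [Fact p.Prime] (A P M : Subgroup X) (hP : IsPGroup p P)
    (hAP : A ≤ Subgroup.normalizer (P : Set X))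
    (hcomm : ⁅P, P⁆ ≤ M) (hPA : ⁅P, A⁆ = P) (hAp : (Nat.card A).Coprime p) :
    P ⊓ Subgroup.centralizer (A : Set X) ≤ M := by
  classical
  let _ : Fintype A := Fintype.ofFinite A
  have hcN : commutator P ≤ M.subgroupOf P := by
    rw [commutator_def, Subgroup.commutator_le]
    intro g1 _ g2 _
    rw [Subgroup.mem_subgroupOf]
    exact hcomm (Subgroup.commutator_mem_commutator g1.2 g2.2)
  have hN : (M.subgroupOf P).Normal := Subgroup.Normal.of_commutator_le _ hcN
  have hQ : IsMulCommutative (P ⧸ M.subgroupOf P) :=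
    Subgroup.Normal.quotient_commutative_iff_commutator_le.mpr hcN
  let τ : P →* P ⧸ M.subgroupOf P :=
    ∏ a : A, (QuotientGroup.mk' (M.subgroupOf P)).comp (conjAut P a (hAP a.2)).toMonoidHom
  have hτ : ∀ x : P, τ x = ∏ a : A, (QuotientGroup.mk' (M.subgroupOf P)) (conjAut P a (hAP a.2) x) := by
    intro x
    show (∏ a : A, (QuotientGroup.mk' (M.subgroupOf P)).comp (conjAut P a (hAP a.2)).toMonoidHom) x = _
    rw [MonoidHom.finsetProd_apply]
    rfl
  have hτconj : ∀ (b : A) (x : P), τ (conjAut P b (hAP b.2) x) = τ x := by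
    intro b x
    rw [hτ, hτ]
    apply Fintype.prod_equiv (Equiv.mulRight b)
    intro a
    congr 1
    apply Subtype.ext
    simp only [conjAut_coe, Equiv.coe_mulRight, Subgroup.coe_mul]
    group
  have hker : ⁅P, A⁆ ≤ τ.ker.map P.subtype := by
    rw [Subgroup.commutator_le]
    intro v hv a ha
    refine ⟨⟨v, hv⟩ * conjAut P a (hAP ha) ⟨v⁻¹, P.inv_mem hv⟩, ?_, ?_⟩
    · rw [SetLike.mem_coe, MonoidHom.mem_ker, map_mul]
      have h1 := hτconj ⟨a, ha⟩ ⟨v⁻¹, P.inv_mem hv⟩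
      rw [h1, ← map_mul]
      have : (⟨v, hv⟩ : P) * ⟨v⁻¹, P.inv_mem hv⟩ = 1 := by
        apply Subtype.ext; simp
      rw [this, map_one]
    · simp only [Subgroup.coe_subtype, Subgroup.coe_mul, conjAut_coe, commutatorElement_def]
      group
  rw [hPA] at hker
  rintro c ⟨hcP, hcA⟩
  have hc1 : τ ⟨c, hcP⟩ = 1 := by
    obtain ⟨y, hy, hyc⟩ := hker hcP
    have : y = ⟨c, hcP⟩ := Subtype.ext hyc
    rw [← this]; exact hy
  have hc2 : τ ⟨c, hcP⟩ = (QuotientGroup.mk' (M.subgroupOf P) ⟨c, hcP⟩) ^ Fintype.card A := by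
    rw [hτ]
    have : ∀ a : A, conjAut P a (hAP a.2) ⟨c, hcP⟩ = ⟨c, hcP⟩ := by
      intro a
      apply Subtype.ext
      rw [conjAut_coe]
      have hcA' : c ∈ Subgroup.centralizer (A : Set X) := hcA
      rw [Subgroup.mem_centralizer_iff] at hcA'
      show (a : X) * c * (a : X)⁻¹ = c
      rw [hcA' a a.2]; group
    simp only [this, Finset.prod_const, Finset.card_univ]
  rw [hc2] at hc1
  have h1 : orderOf (QuotientGroup.mk' (M.subgroupOf P) ⟨c, hcP⟩) ∣ Fintype.card A :=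
    orderOf_dvd_of_pow_eq_one hc1
  rw [← Nat.card_eq_fintype_card] at h1
  obtain ⟨k, hk⟩ := hP ⟨c, hcP⟩
  have h2 : orderOf (QuotientGroup.mk' (M.subgroupOf P) ⟨c, hcP⟩) ∣ p ^ k := by
    apply orderOf_dvd_of_pow_eq_one
    rw [← map_pow, hk, map_one]
  have h3 : orderOf (QuotientGroup.mk' (M.subgroupOf P) ⟨c, hcP⟩) = 1 :=
    Nat.eq_one_of_dvd_coprimes (Nat.Coprime.pow_right k hAp) h1 h2
  rw [orderOf_eq_one_iff] at h3
  have h4 : (⟨c, hcP⟩ : P) ∈ M.subgroupOf P := by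
    rw [← QuotientGroup.eq_one_iff]; exact h3
  exact Subgroup.mem_subgroupOf.mp h4



/-- In a class ≤ 2 situation, with `p` odd: if `y ^ p * x = x * y ^ p` then
`(x * y) ^ p = x ^ p * y ^ p`. -/
theorem hh_mul_pow_prime {p : ℕ} (hp : p.Prime) (hp2 : p ≠ 2) (P : Subgroup X)
    (hcl : ⁅P, P⁆ ≤ Subgroup.centralizer (P : Set X)) (x y : X) (hx : x ∈ P) (hy : y ∈ P)
    (hyx : y ^ p * x = x * y ^ p) : (x * y) ^ p = x ^ p * y ^ p := by
  set c : X := ⁅y⁻¹, x⁻¹⁆ with hc
  have hcmem : c ∈ ⁅P, P⁆ := Subgroup.commutator_mem_commutator (P.inv_mem hy) (P.inv_mem hx)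
  have hcC := hcl hcmem
  rw [Subgroup.mem_centralizer_iff] at hcC
  have hcx : Commute c x := (hcC x hx).symm
  have hcy : Commute c y := (hcC y hy).symm
  have h : y * x = x * y * c := by
    rw [hc, commutatorElement_def]; group
  have h1 := hh_pow_mul x y c h hcy p
  rw [hyx] at h1
  have hcp : c ^ p = 1 := by
    have := h1.symm
    rwa [mul_eq_left] at this
  have h2 := hh_mul_pow x y c h hcx hcy p
  have h3 : p ∣ p.choose 2 := by
    apply hp.dvd_choose_self (by norm_num)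
    have := hp.two_le
    omega
  obtain ⟨k, hk⟩ := h3
  rw [h2, hk, pow_mul, hcp, one_pow, mul_one]

/-- class ≤ 2, `p` odd, `A` centralises all `p`-th powers of `P`: `[P, A]` has exponent `p`. -/
theorem hh_exponent {p : ℕ} (hp : p.Prime) (hp2 : p ≠ 2) (A P : Subgroup X)
    (hAP : A ≤ Subgroup.normalizer (P : Set X))
    (hcl : ⁅P, P⁆ ≤ Subgroup.centralizer (P : Set X))
    (hpow : ∀ x ∈ P, ∀ a ∈ A, a * x ^ p = x ^ p * a) :
    ∀ g ∈ ⁅P, A⁆, g ^ p = 1 := by
  let Ω : Subgroup X :=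
    { carrier := {g | g ∈ P ∧ g ^ p = 1}
      mul_mem' := by
        rintro g h ⟨hg, hg1⟩ ⟨hh, hh1⟩
        refine ⟨P.mul_mem hg hh, ?_⟩
        rw [hh_mul_pow_prime hp hp2 P hcl g h hg hh (by rw [hh1]; simp), hg1, hh1, one_mul]
      one_mem' := ⟨P.one_mem, one_pow _⟩
      inv_mem' := by
        rintro g ⟨hg, hg1⟩
        exact ⟨P.inv_mem hg, by rw [inv_pow, hg1, inv_one]⟩ }
  have hle : ⁅P, A⁆ ≤ Ω := by
    rw [Subgroup.commutator_le]
    intro x hx a ha
    have hy : a * x⁻¹ * a⁻¹ ∈ P := (Subgroup.le_normalizer_iff.mp hAP) a ha x⁻¹ (P.inv_mem hx)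
    have hyp : (a * x⁻¹ * a⁻¹) ^ p = (x ^ p)⁻¹ := by
      rw [conj_pow, inv_pow]
      have h1 := hpow x hx a ha
      have h2 : a * (x ^ p)⁻¹ = (x ^ p)⁻¹ * a := by
        have : Commute a (x ^ p) := h1
        exact this.inv_right.eq
      rw [h2]; group
    have he : ⁅x, a⁆ = x * (a * x⁻¹ * a⁻¹) := by
      rw [commutatorElement_def]; group
    refine ⟨?_, ?_⟩
    · rw [he]; exact P.mul_mem hx hy
    · rw [he, hh_mul_pow_prime hp hp2 P hcl x _ hx hy ?_, hyp, mul_inv_cancel]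
      rw [hyp]
      have : Commute (x ^ p) x := (Commute.refl x).pow_left p
      exact this.inv_left.eq
  intro g hg
  exact (hle hg).2


/-- abelian case: exponent `p`. -/
theorem hh_abelian [Finite X] {p : ℕ} [Fact p.Prime] (B A P : Subgroup X) (hP : IsPGroup p P)
    (hBP : B ≤ Subgroup.normalizer (P : Set X)) (hAB : A ≤ B)
    (hAp : (Nat.card A).Coprime p) (hnt : ⁅P, A⁆ ≠ ⊥)
    (hmin : ∀ U : Subgroup X, U < P → B ≤ Subgroup.normalizer (U : Set X) → ⁅U, A⁆ = ⊥)
    (hab : IsMulCommutative P) : ∀ x ∈ P, x ^ p = 1 := by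
  have hcomm : ∀ g ∈ P, ∀ h ∈ P, g * h = h * g := by
    intro g hg h hh
    have := hab.is_comm.comm ⟨g, hg⟩ ⟨h, hh⟩
    exact congrArg Subtype.val this
  let Ω : Subgroup X :=
    { carrier := {g | g ∈ P ∧ g ^ p = 1}
      mul_mem' := by
        rintro g h ⟨hg, hg1⟩ ⟨hh, hh1⟩
        refine ⟨P.mul_mem hg hh, ?_⟩
        have : Commute g h := hcomm g hg h hh
        rw [this.mul_pow, hg1, hh1, one_mul]
      one_mem' := ⟨P.one_mem, one_pow _⟩
      inv_mem' := by
        rintro g ⟨hg, hg1⟩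
        exact ⟨P.inv_mem hg, by rw [inv_pow, hg1, inv_one]⟩ }
  have hΩP : Ω ≤ P := fun g hg => hg.1
  by_contra hcon
  push Not at hcon
  obtain ⟨x, hxP, hx1⟩ := hcon
  have hlt : Ω < P := by
    refine lt_of_le_of_ne hΩP ?_
    intro he
    have : x ∈ Ω := by rw [he]; exact hxP
    exact hx1 this.2
  have hBΩ : B ≤ Subgroup.normalizer (Ω : Set X) := by
    rw [Subgroup.le_normalizer_iff]
    rintro b hb g ⟨hg, hg1⟩
    refine ⟨(Subgroup.le_normalizer_iff.mp hBP) b hb g hg, ?_⟩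
    rw [conj_pow, hg1]; group
  have h1 := hmin Ω hlt hBΩ
  rw [Subgroup.commutator_eq_bot_iff_le_centralizer] at h1
  have hAP : A ≤ Subgroup.normalizer (P : Set X) := hAB.trans hBP
  have h2 : A ≤ Subgroup.centralizer (P : Set X) := by
    apply Cfsg.Agent.S0056.result A P hAP (hh_coprime_card A P hP hAp)
    intro v hv hprime a ha
    obtain ⟨k, hk⟩ := (IsPGroup.iff_orderOf.mp hP) ⟨v, hv⟩
    rw [Subgroup.orderOf_mk] at hk
    have hdvd : orderOf v ∣ p ^ k := by rw [hk]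
    have hpp : p.Prime := Fact.out
    have heq : orderOf v = p := (Nat.prime_dvd_prime_iff_eq hprime hpp).mp (hprime.dvd_of_dvd_pow hdvd)
    have hvp : v ^ p = 1 := by rw [← heq]; exact pow_orderOf_eq_one v
    have hvΩ : v ∈ Ω := ⟨hv, hvp⟩
    have := h1 hvΩ
    rw [Subgroup.mem_centralizer_iff] at this
    exact this a ha
  apply hnt
  rw [Subgroup.commutator_comm, Subgroup.commutator_eq_bot_iff_le_centralizer]
  exact h2


end Cfsg.Agent.Lib.Helper20
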