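import Mathlib

set_option autoImplicit false

/-!
`p`-length versus derived length (Hall–Higman), the exceptional configuration for `p = 3`:
pure group theory of a special `2`-group `T` with centre `Z`, acted on by `E` and by an element
`a` of order `3` central in `E`.
-/

namespace Cfsg.Agent.Lib.Helper20.PLDer

variable {H : Type*} [Group H]

/-- the data of the special configuration -/
structure SpecData (T Z E : Subgroup H) (a : H) : Prop where
  ZT : Z ≤ T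
  central : ∀ z ∈ Z, ∀ t ∈ T, z * t = t * z
  comm : ∀ x ∈ T, ∀ y ∈ T, x * y * x⁻¹ * y⁻¹ ∈ Z
  sq : ∀ x ∈ T, x * x ∈ Z
  aT : ∀ t ∈ T, a * t * a⁻¹ ∈ T
  aZ : ∀ z ∈ Z, a * z * a⁻¹ = z
  a3 : a * a * a = 1
  ET : ∀ g ∈ E, ∀ t ∈ T, g * t * g⁻¹ ∈ T
  EZ : ∀ g ∈ E, ∀ z ∈ Z, g * z * g⁻¹ ∈ Z
  Ea : ∀ g ∈ E, g * a = a * g
  hF : ∀ U : Subgroup H, U ≤ T → U ≠ T → (∀ g ∈ E, ∀ u ∈ U, g * u * g⁻¹ ∈ U) → U ≤ Z
  ne : Z ≠ T
  full : ∀ U : Subgroup H, (∀ t ∈ T, a * t * a⁻¹ * t⁻¹ ∈ U) → T ≤ U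

section basic

variable {T Z E : Subgroup H} {a : H}

/-- the elements of `T` moved by `h` only modulo `Z` -/
def stabMod (T Z : Subgroup H) (h : H) (hT : ∀ t ∈ T, h * t * h⁻¹ ∈ T)
    (hc : ∀ z ∈ Z, ∀ t ∈ T, z * t = t * z) : Subgroup H where
  carrier := {t | t ∈ T ∧ h * t * h⁻¹ * t⁻¹ ∈ Z}
  one_mem' := ⟨T.one_mem, by simp [Z.one_mem]⟩
  mul_mem' := by
    rintro t t' ⟨ht, hz⟩ ⟨ht', hz'⟩
    refine ⟨T.mul_mem ht ht', ?_⟩
    have h1 := hc _ hz' _ (hT t ht)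
    have e : h * (t * t') * h⁻¹ * (t * t')⁻¹ =
        (h * t * h⁻¹) * (h * t' * h⁻¹ * t'⁻¹) * t⁻¹ := by group
    rw [e, ← h1]
    have e2 : h * t' * h⁻¹ * t'⁻¹ * (h * t * h⁻¹) * t⁻¹ =
        (h * t' * h⁻¹ * t'⁻¹) * (h * t * h⁻¹ * t⁻¹) := by group
    rw [e2]
    exact Z.mul_mem hz' hz
  inv_mem' := by
    rintro t ⟨ht, hz⟩
    refine ⟨T.inv_mem ht, ?_⟩
    have h1 := hc _ hz _ (hT t⁻¹ (T.inv_mem ht))
    have e : h * t⁻¹ * h⁻¹ * t⁻¹⁻¹ = (h * t⁻¹ * h⁻¹) * (h * t * h⁻¹ * t⁻¹)⁻¹ * (h * t * h⁻¹) := by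
      group
    have h2 : (h * t * h⁻¹ * t⁻¹)⁻¹ * (h * t⁻¹ * h⁻¹) = (h * t⁻¹ * h⁻¹) * (h * t * h⁻¹ * t⁻¹)⁻¹ := by
      have := hc _ (Z.inv_mem hz) _ (hT t⁻¹ (T.inv_mem ht))
      exact this
    rw [e, ← h2]
    have e2 : (h * t * h⁻¹ * t⁻¹)⁻¹ * (h * t⁻¹ * h⁻¹) * (h * t * h⁻¹) = (h * t * h⁻¹ * t⁻¹)⁻¹ := by
      group
    rw [e2]
    exact Z.inv_mem hz

theorem mem_stabMod {T Z : Subgroup H} {h : H} {hT : ∀ t ∈ T, h * t * h⁻¹ ∈ T}
    {hc : ∀ z ∈ Z, ∀ t ∈ T, z * t = t * z} {t : H} :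
    t ∈ stabMod T Z h hT hc ↔ t ∈ T ∧ h * t * h⁻¹ * t⁻¹ ∈ Z := Iff.rfl

theorem SpecData.ainvT (hS : SpecData T Z E a) : ∀ t ∈ T, a⁻¹ * t * a ∈ T := by
  intro t ht
  have h1 := hS.aT _ (hS.aT t ht)
  have e : a * (a * t * a⁻¹) * a⁻¹ = a⁻¹ * t * a := by
    have h3 : a⁻¹ = a * a := by
      rw [inv_eq_iff_mul_eq_one, ← mul_assoc]
      exact hS.a3
    have h4 : a * a * a * a = a := by rw [hS.a3, one_mul]
    calc a * (a * t * a⁻¹) * a⁻¹ = (a * a) * t * (a⁻¹ * a⁻¹) := by group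
      _ = a⁻¹ * t * (a⁻¹ * a⁻¹) := by rw [← h3]
      _ = a⁻¹ * t * a := by
        congr 1
        rw [h3]
        calc a * a * (a * a) = a * a * a * a := by group
          _ = a := h4
  rw [e] at h1
  exact h1

/-- `a` is fixed-point-free on `T / Z`. -/
theorem SpecData.fpf (hS : SpecData T Z E a) {x : H} (hx : x ∈ T) (h : a * x * a⁻¹ * x⁻¹ ∈ Z) :
    x ∈ Z := by
  set Y := stabMod T Z a hS.aT hS.central with hY
  have hYT : Y ≤ T := fun t ht => ht.1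
  have hxY : x ∈ Y := ⟨hx, h⟩
  by_cases hne : Y = T
  · exfalso
    apply hS.ne
    apply le_antisymm hS.ZT
    apply hS.full
    intro t ht
    have : t ∈ Y := by rw [hne]; exact ht
    exact this.2
  · apply hS.hF Y hYT hne _ hxY
    intro g hg u hu
    refine ⟨hS.ET g hg u hu.1, ?_⟩
    have h1 := hS.EZ g hg _ hu.2
    have hga := hS.Ea g hg
    have hinv : g⁻¹ * a⁻¹ = a⁻¹ * g⁻¹ := by
      rw [← mul_inv_rev, ← mul_inv_rev, hga]
    have e : a * (g * u * g⁻¹) * a⁻¹ * (g * u * g⁻¹)⁻¹ = g * (a * u * a⁻¹ * u⁻¹) * g⁻¹ := by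
      calc a * (g * u * g⁻¹) * a⁻¹ * (g * u * g⁻¹)⁻¹
          = (a * g) * u * (g⁻¹ * a⁻¹) * (g * u⁻¹ * g⁻¹) := by group
        _ = (g * a) * u * (a⁻¹ * g⁻¹) * (g * u⁻¹ * g⁻¹) := by rw [← hga, hinv]
        _ = g * (a * u * a⁻¹ * u⁻¹) * g⁻¹ := by group
    rw [e]
    exact h1

theorem SpecData.ainv (hS : SpecData T Z E a) : a⁻¹ = a * a := by
  rw [inv_eq_iff_mul_eq_one, ← mul_assoc]
  exact hS.a3

theorem SpecData.ainvZ (hS : SpecData T Z E a) : ∀ z ∈ Z, a⁻¹ * z * a = z := by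
  intro z hz
  have h1 := hS.aZ z hz
  calc a⁻¹ * z * a = a⁻¹ * (a * z * a⁻¹) * a := by rw [h1]
    _ = z := by group

/-- elements of `Z` commute with each other -/
theorem SpecData.zcomm (hS : SpecData T Z E a) {z z' : H} (hz : z ∈ Z) (hz' : z' ∈ Z) :
    z * z' = z' * z := hS.central z hz z' (hS.ZT hz')

/-- the commutator as an explicit product -/
def cm (x y : H) : H := x * y * x⁻¹ * y⁻¹

theorem cm_inv (x y : H) : cm x y = (cm y x)⁻¹ := by
  unfold cm; group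

theorem cm_self (x : H) : cm x x = 1 := by
  unfold cm; group

theorem cm_conj (g x y : H) : cm (g * x * g⁻¹) (g * y * g⁻¹) = g * cm x y * g⁻¹ := by
  unfold cm; group

theorem SpecData.cm_mem (hS : SpecData T Z E a) {x y : H} (hx : x ∈ T) (hy : y ∈ T) :
    cm x y ∈ Z := hS.comm x hx y hy

theorem SpecData.cm_mul_left (hS : SpecData T Z E a) {x y w : H} (hx : x ∈ T) (hy : y ∈ T)
    (hw : w ∈ T) : cm (x * y) w = cm x w * cm y w := by
  have h1 : cm y w * x = x * cm y w := hS.central _ (hS.cm_mem hy hw) x hx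
  have h2 : cm y w * cm x w = cm x w * cm y w :=
    hS.zcomm (hS.cm_mem hy hw) (hS.cm_mem hx hw)
  calc cm (x * y) w = x * cm y w * (w * x⁻¹ * w⁻¹) := by unfold cm; group
    _ = cm y w * x * (w * x⁻¹ * w⁻¹) := by rw [h1]
    _ = cm y w * cm x w := by unfold cm; group
    _ = cm x w * cm y w := h2

theorem SpecData.cm_mul_right (hS : SpecData T Z E a) {x y w : H} (hx : x ∈ T) (hy : y ∈ T)
    (hw : w ∈ T) : cm w (x * y) = cm w x * cm w y := by
  rw [cm_inv w (x * y), hS.cm_mul_left hx hy hw, mul_inv_rev, ← cm_inv, ← cm_inv]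
  exact hS.zcomm (hS.cm_mem hw hy) (hS.cm_mem hw hx)

theorem SpecData.cm_central_left (hS : SpecData T Z E a) {z t : H} (hz : z ∈ Z) (ht : t ∈ T) :
    cm z t = 1 := by
  have h1 := hS.central z hz t ht
  unfold cm
  rw [h1]; group

theorem SpecData.cm_central_right (hS : SpecData T Z E a) {z t : H} (hz : z ∈ Z) (ht : t ∈ T) :
    cm t z = 1 := by
  rw [cm_inv, hS.cm_central_left hz ht, inv_one]

theorem SpecData.cm_inv_left (hS : SpecData T Z E a) {x w : H} (hx : x ∈ T) (hw : w ∈ T) :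
    cm x⁻¹ w = (cm x w)⁻¹ := by
  have h1 := hS.cm_mul_left hx (T.inv_mem hx) hw
  rw [mul_inv_cancel] at h1
  have h2 : cm 1 w = 1 := by unfold cm; group
  rw [h2] at h1
  exact (eq_inv_of_mul_eq_one_right h1.symm)

theorem SpecData.cm_inv_right (hS : SpecData T Z E a) {x w : H} (hx : x ∈ T) (hw : w ∈ T) :
    cm w x⁻¹ = (cm w x)⁻¹ := by
  rw [cm_inv w x⁻¹, hS.cm_inv_left hx hw, cm_inv w x]

theorem SpecData.cm_aconj (hS : SpecData T Z E a) {x y : H} (hx : x ∈ T) (hy : y ∈ T) :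
    cm (a * x * a⁻¹) (a * y * a⁻¹) = cm x y := by
  rw [cm_conj]
  exact hS.aZ _ (hS.cm_mem hx hy)

theorem SpecData.cm_ainvconj (hS : SpecData T Z E a) {x y : H} (hx : x ∈ T) (hy : y ∈ T) :
    cm (a⁻¹ * x * a) (a⁻¹ * y * a) = cm x y := by
  have h1 := cm_conj a⁻¹ x y
  rw [inv_inv] at h1
  rw [h1]
  exact hS.ainvZ _ (hS.cm_mem hx hy)

/-- `1 + a + a²` kills `T / Z`. -/
theorem SpecData.trace (hS : SpecData T Z E a) {x : H} (hx : x ∈ T) :
    x * (a * x * a⁻¹) * (a⁻¹ * x * a) ∈ Z := by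
  set c := x * (a * x * a⁻¹) * (a⁻¹ * x * a) with hc
  have hcT : c ∈ T := T.mul_mem (T.mul_mem hx (hS.aT x hx)) (hS.ainvT x hx)
  apply hS.fpf hcT
  have h3 := hS.ainv
  have h4 : a * a * a⁻¹ = a := by group
  have e : a * c * a⁻¹ = x⁻¹ * c * x := by
    have e1 : a * (a * x * a⁻¹) * a⁻¹ = a⁻¹ * x * a := by
      calc a * (a * x * a⁻¹) * a⁻¹ = (a * a) * x * (a * a)⁻¹ := by group
        _ = a⁻¹ * x * a := by rw [← h3, inv_inv]
    calc a * c * a⁻¹ = (a * x * a⁻¹) * (a * (a * x * a⁻¹) * a⁻¹) * (a * (a⁻¹ * x * a) * a⁻¹) := by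
          rw [hc]; group
      _ = (a * x * a⁻¹) * (a⁻¹ * x * a) * x := by
          rw [e1]
          congr 1
          group
      _ = x⁻¹ * c * x := by rw [hc]; group
  rw [e]
  have : x⁻¹ * c * x * c⁻¹ = cm x⁻¹ c := by unfold cm; group
  rw [this]
  exact hS.cm_mem (T.inv_mem hx) hcT

/-- the kernel of the action of `E` on `T / Z` -/
def kerMod (T Z E : Subgroup H) (hET : ∀ g ∈ E, ∀ t ∈ T, g * t * g⁻¹ ∈ T)
    (hEZ : ∀ g ∈ E, ∀ z ∈ Z, g * z * g⁻¹ ∈ Z) : Subgroup H where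
  carrier := {h | h ∈ E ∧ ∀ t ∈ T, h * t * h⁻¹ * t⁻¹ ∈ Z}
  one_mem' := ⟨E.one_mem, fun t _ => by simp [Z.one_mem]⟩
  mul_mem' := by
    rintro h h' ⟨hE, hz⟩ ⟨hE', hz'⟩
    refine ⟨E.mul_mem hE hE', ?_⟩
    intro t ht
    have h1 := hEZ h hE _ (hz' t ht)
    have h2 := hz t ht
    have e : h * h' * t * (h * h')⁻¹ * t⁻¹ =
        (h * (h' * t * h'⁻¹ * t⁻¹) * h⁻¹) * (h * t * h⁻¹ * t⁻¹) := by group
    rw [e]
    exact Z.mul_mem h1 h2
  inv_mem' := by
    rintro h ⟨hE, hz⟩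
    refine ⟨E.inv_mem hE, ?_⟩
    intro t ht
    have h1 : h⁻¹ * t * h ∈ T := by
      have := hET h⁻¹ (E.inv_mem hE) t ht
      rwa [inv_inv] at this
    have h2 := hz _ h1
    have e : h⁻¹ * t * h⁻¹⁻¹ * t⁻¹ = (h * (h⁻¹ * t * h) * h⁻¹ * (h⁻¹ * t * h)⁻¹)⁻¹ := by group
    rw [e]
    exact Z.inv_mem h2

theorem comm_mul_eq {u v c c' : H} (huc : Commute u c) (huc' : Commute u c') (huv : Commute u v)
    (hvc : Commute v c) (hvc' : Commute v c') :
    (u * c) * (v * c') * (u * c)⁻¹ * (v * c')⁻¹ = c * c' * c⁻¹ * c'⁻¹ := by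
  have h1 : u * c * (v * c') * (u * c)⁻¹ = c * (v * c') * c⁻¹ := by
    have h2 : Commute u (c * (v * c') * c⁻¹) :=
      ((huc.mul_right (huv.mul_right huc')).mul_right huc.inv_right)
    calc u * c * (v * c') * (u * c)⁻¹ = u * (c * (v * c') * c⁻¹) * u⁻¹ := by group
      _ = (c * (v * c') * c⁻¹) * u * u⁻¹ := by rw [h2.eq]
      _ = c * (v * c') * c⁻¹ := by group
  rw [h1]
  have h3 : Commute v (c * c' * c⁻¹ * c'⁻¹) :=
    ((hvc.mul_right hvc').mul_right hvc.inv_right).mul_right hvc'.inv_right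
  calc c * (v * c') * c⁻¹ * (v * c')⁻¹ = c * v * c⁻¹ * (c * c' * c⁻¹ * c'⁻¹) * v⁻¹ := by group
    _ = v * (c * c' * c⁻¹ * c'⁻¹) * v⁻¹ := by
        have : c * v * c⁻¹ = v := by
          rw [← hvc.eq]; group
        rw [this]
    _ = (c * c' * c⁻¹ * c'⁻¹) * v * v⁻¹ := by rw [h3.eq]
    _ = c * c' * c⁻¹ * c'⁻¹ := by group

/-- the case `|T : Z| = 4`: `a` is not in the derived group of `E`. -/
theorem SpecData.four (hS : SpecData T Z E a) {x : H} (hx : x ∈ T) (hxZ : x ∉ Z)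
    (hcov : ∀ y ∈ T, y ∈ Z ∨ y * x⁻¹ ∈ Z ∨ y * (a * x * a⁻¹)⁻¹ ∈ Z ∨
      y * (x * (a * x * a⁻¹))⁻¹ ∈ Z)
    (haE : a ∈ ⁅E, E⁆) : False := by
  set C := kerMod T Z E hS.ET hS.EZ with hC
  have hx' : a * x * a⁻¹ ∈ T := hS.aT x hx
  -- an element of `E` moving `x` only modulo `Z` lies in `C`
  have claim2 : ∀ h ∈ E, h * x * h⁻¹ * x⁻¹ ∈ Z → h ∈ C := by
    intro h hE hz
    refine ⟨hE, ?_⟩
    set Sh := stabMod T Z h (hS.ET h hE) hS.central with hSh
    have hxS : x ∈ Sh := ⟨hx, hz⟩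
    have hZS : Z ≤ Sh := by
      intro z hz'
      exact ⟨hS.ZT hz', Z.mul_mem (hS.EZ h hE z hz') (Z.inv_mem hz')⟩
    have hx'S : a * x * a⁻¹ ∈ Sh := by
      refine ⟨hx', ?_⟩
      have hha := hS.Ea h hE
      have hinv : h⁻¹ * a⁻¹ = a⁻¹ * h⁻¹ := by
        rw [← mul_inv_rev, ← mul_inv_rev, hha]
      have e : h * (a * x * a⁻¹) * h⁻¹ * (a * x * a⁻¹)⁻¹ = a * (h * x * h⁻¹ * x⁻¹) * a⁻¹ := by
        calc h * (a * x * a⁻¹) * h⁻¹ * (a * x * a⁻¹)⁻¹
            = (h * a) * x * (a⁻¹ * h⁻¹) * (a * x⁻¹ * a⁻¹) := by group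
          _ = (a * h) * x * (h⁻¹ * a⁻¹) * (a * x⁻¹ * a⁻¹) := by rw [hha, hinv]
          _ = a * (h * x * h⁻¹ * x⁻¹) * a⁻¹ := by group
      rw [e, hS.aZ _ hz]
      exact hz
    intro t ht
    have htS : t ∈ Sh := by
      rcases hcov t ht with h1 | h1 | h1 | h1
      · exact hZS h1
      · have : t = (t * x⁻¹) * x := by group
        rw [this]
        exact Sh.mul_mem (hZS h1) hxS
      · have : t = (t * (a * x * a⁻¹)⁻¹) * (a * x * a⁻¹) := by group
        rw [this]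
        exact Sh.mul_mem (hZS h1) hx'S
      · have : t = (t * (x * (a * x * a⁻¹))⁻¹) * (x * (a * x * a⁻¹)) := by group
        rw [this]
        exact Sh.mul_mem (hZS h1) (Sh.mul_mem hxS hx'S)
    exact htS.2
  -- every element of `E` is a power of `a` times an element of `C`
  have claim1 : ∀ g ∈ E, ∃ u ∈ Subgroup.zpowers a, ∃ c ∈ C, g = u * c := by
    intro g hg
    have hw : g * x * g⁻¹ ∈ T := hS.ET g hg x hx
    have hwZ : g * x * g⁻¹ ∉ Z := by
      intro h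
      apply hxZ
      have := hS.EZ g⁻¹ (E.inv_mem hg) _ h
      have e : g⁻¹ * (g * x * g⁻¹) * g⁻¹⁻¹ = x := by group
      rwa [e] at this
    have haE' : a ∈ E := by
      have : ⁅E, E⁆ ≤ E := by
        rw [Subgroup.commutator_le]
        intro g₁ h₁ g₂ h₂
        rw [commutatorElement_def]
        exact E.mul_mem (E.mul_mem (E.mul_mem h₁ h₂) (E.inv_mem h₁)) (E.inv_mem h₂)
      exact this haE
    rcases hcov _ hw with h1 | h1 | h1 | h1
    · exact absurd h1 hwZ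
    · exact ⟨1, Subgroup.one_mem _, g, claim2 g hg h1, by rw [one_mul]⟩
    · refine ⟨a, Subgroup.mem_zpowers a, a⁻¹ * g, ?_, by group⟩
      apply claim2 _ (E.mul_mem (E.inv_mem haE') hg)
      have e : a⁻¹ * g * x * (a⁻¹ * g)⁻¹ * x⁻¹ =
          a⁻¹ * (g * x * g⁻¹ * (a * x * a⁻¹)⁻¹) * a := by group
      rw [e, hS.ainvZ _ h1]
      exact h1
    · refine ⟨a⁻¹, Subgroup.inv_mem _ (Subgroup.mem_zpowers a), a * g, ?_, by group⟩
      apply claim2 _ (E.mul_mem haE' hg)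
      -- `a w a⁻¹ x⁻¹ ∈ Z`
      set z := g * x * g⁻¹ * (x * (a * x * a⁻¹))⁻¹ with hz
      have hzc := hS.aZ z h1
      have htr := hS.trace hx
      set z₁ := x * (a * x * a⁻¹) * (a⁻¹ * x * a) with hz₁
      have e1 : a * (a * x * a⁻¹) * a⁻¹ = a⁻¹ * x * a := by
        have h3 := hS.ainv
        calc a * (a * x * a⁻¹) * a⁻¹ = (a * a) * x * (a * a)⁻¹ := by group
          _ = a⁻¹ * x * a := by rw [← h3, inv_inv]
      have e : a * g * x * (a * g)⁻¹ * x⁻¹ =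
          (a * z * a⁻¹) * ((a * x * a⁻¹) * (a * (a * x * a⁻¹) * a⁻¹)) * x⁻¹ := by
        rw [hz]; group
      rw [e, hzc, e1]
      have e2 : (a * x * a⁻¹) * (a⁻¹ * x * a) = x⁻¹ * z₁ := by rw [hz₁]; group
      rw [e2]
      have h5 : z₁ * x⁻¹ = x⁻¹ * z₁ := hS.central z₁ htr x⁻¹ (T.inv_mem hx)
      have e3 : z * (x⁻¹ * z₁) * x⁻¹ = z * z₁ * (x * x)⁻¹ := by
        calc z * (x⁻¹ * z₁) * x⁻¹ = z * (z₁ * x⁻¹) * x⁻¹ := by rw [h5]
          _ = z * z₁ * (x * x)⁻¹ := by group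
      rw [e3]
      exact Z.mul_mem (Z.mul_mem h1 htr) (Z.inv_mem (hS.sq x hx))
  have claim3 : ⁅E, E⁆ ≤ C := by
    rw [Subgroup.commutator_le]
    intro g hg g' hg'
    obtain ⟨u, hu, c, hc, rfl⟩ := claim1 g hg
    obtain ⟨v, hv, c', hc', rfl⟩ := claim1 g' hg'
    have hcomm : ∀ w ∈ Subgroup.zpowers a, ∀ e ∈ E, Commute w e := by
      intro w hw e he
      obtain ⟨k, rfl⟩ := Subgroup.mem_zpowers_iff.mp hw
      have : Commute a e := (hS.Ea e he).symm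
      exact this.zpow_left k
    have huv : Commute u v := by
      obtain ⟨k, rfl⟩ := Subgroup.mem_zpowers_iff.mp hu
      obtain ⟨l, rfl⟩ := Subgroup.mem_zpowers_iff.mp hv
      exact (Commute.refl a).zpow_zpow k l
    rw [commutatorElement_def, comm_mul_eq (hcomm u hu c hc.1) (hcomm u hu c' hc'.1) huv
      (hcomm v hv c hc.1) (hcomm v hv c' hc'.1)]
    have : c * c' * c⁻¹ * c'⁻¹ = (c * c') * (c' * c)⁻¹ := by group
    rw [this]
    exact C.mul_mem (C.mul_mem hc hc') (C.inv_mem (C.mul_mem hc' hc))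
  have h1 := claim3 haE
  apply hS.ne
  apply le_antisymm hS.ZT
  apply hS.full
  intro t ht
  exact h1.2 t ht

end basic

section isotropic

variable {T Z E N : Subgroup H} {a : H}

/-- `N` has index at most two in `Z` -/
def IndexTwo (N Z : Subgroup H) : Prop :=
  N ≤ Z ∧ ∀ z ∈ Z, ∀ z' ∈ Z, z ∉ N → z' ∉ N → z * z' ∈ N

theorem IndexTwo.mul_inv (hN : IndexTwo N Z) {z z' : H} (hz : z ∈ Z) (hz' : z' ∈ Z)
    (h : z ∉ N) (h' : z' ∉ N) : z * z'⁻¹ ∈ N := by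
  apply hN.2 z hz z'⁻¹ (Z.inv_mem hz') h
  intro h2
  apply h'
  have := N.inv_mem h2
  rwa [inv_inv] at this

/-- an "isotropic" element when `|T : Z| > 4`. -/
theorem SpecData.isotropic (hS : SpecData T Z E a) (hN : IndexTwo N Z) {x y₀ : H} (hx : x ∈ T)
    (hxZ : x ∉ Z) (hy₀ : y₀ ∈ T)
    (hout : ¬ (y₀ ∈ Z ∨ y₀ * x⁻¹ ∈ Z ∨ y₀ * (a * x * a⁻¹)⁻¹ ∈ Z ∨
      y₀ * (x * (a * x * a⁻¹))⁻¹ ∈ Z)) :
    ∃ s ∈ T, s ∉ Z ∧ cm s (a * s * a⁻¹) ∈ N := by
  push Not at hout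
  obtain ⟨ho0, ho1, ho2, ho3⟩ := hout
  set x' := a * x * a⁻¹ with hx'def
  have hx' : x' ∈ T := hS.aT x hx
  by_cases h0 : cm x x' ∈ N
  · exact ⟨x, hx, hxZ, h0⟩
  have h0' : cm x' x ∉ N := by
    intro h
    apply h0
    rw [cm_inv]
    exact N.inv_mem h
  -- an element `y` outside `Z` orthogonal to `x` and `x'`
  obtain ⟨y, hy, hyZ, hyx, hyx'⟩ : ∃ y ∈ T, y ∉ Z ∧ cm y x ∈ N ∧ cm y x' ∈ N := by
    by_cases c1 : cm y₀ x ∈ N
    · by_cases c2 : cm y₀ x' ∈ N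
      · exact ⟨y₀, hy₀, ho0, c1, c2⟩
      · refine ⟨y₀ * x⁻¹, T.mul_mem hy₀ (T.inv_mem hx), ho1, ?_, ?_⟩
        · rw [hS.cm_mul_left hy₀ (T.inv_mem hx) hx, hS.cm_inv_left hx hx, cm_self, inv_one,
            mul_one]
          exact c1
        · rw [hS.cm_mul_left hy₀ (T.inv_mem hx) hx', hS.cm_inv_left hx hx']
          exact hN.mul_inv (hS.cm_mem hy₀ hx') (hS.cm_mem hx hx') c2 h0
    · by_cases c2 : cm y₀ x' ∈ N
      · refine ⟨y₀ * x'⁻¹, T.mul_mem hy₀ (T.inv_mem hx'), ho2, ?_, ?_⟩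
        · rw [hS.cm_mul_left hy₀ (T.inv_mem hx') hx, hS.cm_inv_left hx' hx]
          exact hN.mul_inv (hS.cm_mem hy₀ hx) (hS.cm_mem hx' hx) c1 h0'
        · rw [hS.cm_mul_left hy₀ (T.inv_mem hx') hx', hS.cm_inv_left hx' hx', cm_self, inv_one,
            mul_one]
          exact c2
      · have hxx' : x * x' ∈ T := T.mul_mem hx hx'
        refine ⟨y₀ * (x * x')⁻¹, T.mul_mem hy₀ (T.inv_mem hxx'), ho3, ?_, ?_⟩
        · rw [hS.cm_mul_left hy₀ (T.inv_mem hxx') hx, hS.cm_inv_left hxx' hx,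
            hS.cm_mul_left hx hx' hx, cm_self, one_mul]
          exact hN.mul_inv (hS.cm_mem hy₀ hx) (hS.cm_mem hx' hx) c1 h0'
        · rw [hS.cm_mul_left hy₀ (T.inv_mem hxx') hx', hS.cm_inv_left hxx' hx',
            hS.cm_mul_left hx hx' hx', cm_self, mul_one]
          exact hN.mul_inv (hS.cm_mem hy₀ hx') (hS.cm_mem hx hx') c2 h0
  set y' := a * y * a⁻¹ with hy'def
  have hy' : y' ∈ T := hS.aT y hy
  by_cases h1 : cm y y' ∈ N
  · exact ⟨y, hy, hyZ, h1⟩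
  -- now `x * y` works
  refine ⟨x * y, T.mul_mem hx hy, ?_, ?_⟩
  · intro hxy
    apply h0
    -- `y = x⁻¹ (x y)`
    have e : y = x⁻¹ * (x * y) := by group
    have h2 : cm y x' = (cm x x')⁻¹ := by
      rw [e, hS.cm_mul_left (T.inv_mem hx) (hS.ZT hxy) hx', hS.cm_inv_left hx hx',
        hS.cm_central_left hxy hx', mul_one]
    rw [h2] at hyx'
    have := N.inv_mem hyx'
    rwa [inv_inv] at this
  · have e : a * (x * y) * a⁻¹ = x' * y' := by rw [hx'def, hy'def]; group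
    rw [e, hS.cm_mul_left hx hy (T.mul_mem hx' hy'), hS.cm_mul_right hx' hy' hx,
      hS.cm_mul_right hx' hy' hy]
    -- `cm x y' ∈ N`
    have hxy' : cm x y' ∈ N := by
      have h2 : cm x y' = cm (a⁻¹ * x * a) y := by
        have h3 := hS.cm_ainvconj hx hy'
        have e2 : a⁻¹ * y' * a = y := by rw [hy'def]; group
        rw [e2] at h3
        exact h3.symm
      rw [h2]
      set z₁ := x * x' * (a⁻¹ * x * a) with hz₁
      have hz₁Z : z₁ ∈ Z := hS.trace hx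
      have e3 : a⁻¹ * x * a = x'⁻¹ * (x⁻¹ * z₁) := by rw [hz₁]; group
      rw [e3, hS.cm_mul_left (T.inv_mem hx') (T.mul_mem (T.inv_mem hx) (hS.ZT hz₁Z)) hy,
        hS.cm_mul_left (T.inv_mem hx) (hS.ZT hz₁Z) hy, hS.cm_central_left hz₁Z hy, mul_one,
        hS.cm_inv_left hx' hy, hS.cm_inv_left hx hy, cm_inv x' y, inv_inv, cm_inv x y, inv_inv]
      exact N.mul_mem hyx' hyx
    have hc1 := hS.cm_mem hx hx'
    have hc2 := hS.cm_mem hx hy'
    have hc3 := hS.cm_mem hy hx'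
    have hc4 := hS.cm_mem hy hy'
    have h5 : cm x x' * cm y y' ∈ N := hN.2 _ hc1 _ hc4 h0 h1
    have e4 : cm x x' * cm x y' * (cm y x' * cm y y') =
        (cm x x' * cm y y') * (cm x y' * cm y x') := by
      have k1 : cm y x' * cm y y' = cm y y' * cm y x' := hS.zcomm hc3 hc4
      have k2 : cm x y' * cm y y' = cm y y' * cm x y' := hS.zcomm hc2 hc4
      calc cm x x' * cm x y' * (cm y x' * cm y y')
          = cm x x' * cm x y' * (cm y y' * cm y x') := by rw [k1]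
        _ = cm x x' * (cm x y' * cm y y') * cm y x' := by group
        _ = cm x x' * (cm y y' * cm x y') * cm y x' := by rw [k2]
        _ = (cm x x' * cm y y') * (cm x y' * cm y x') := by group
    rw [e4]
    exact N.mul_mem h5 (N.mul_mem hxy' hyx')

/-- elements of `T` orthogonal to `w` -/
def orthSub (hS : SpecData T Z E a) (N : Subgroup H) (w : H) (hw : w ∈ T) : Subgroup H where
  carrier := {u | u ∈ T ∧ cm u w ∈ N}
  one_mem' := ⟨T.one_mem, by
    have : cm 1 w = 1 := by unfold cm; group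
    rw [this]; exact N.one_mem⟩
  mul_mem' := by
    rintro u v ⟨hu, hu'⟩ ⟨hv, hv'⟩
    refine ⟨T.mul_mem hu hv, ?_⟩
    rw [hS.cm_mul_left hu hv hw]
    exact N.mul_mem hu' hv'
  inv_mem' := by
    rintro u ⟨hu, hu'⟩
    refine ⟨T.inv_mem hu, ?_⟩
    rw [hS.cm_inv_left hu hw]
    exact N.inv_mem hu'

/-- the `a`-invariant subgroup generated by an isotropic element is "abelian modulo `N`". -/
theorem SpecData.isoClosure (hS : SpecData T Z E a) (N : Subgroup H) {s : H} (hs : s ∈ T)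
    (hiso : cm s (a * s * a⁻¹) ∈ N) :
    ∃ S : Subgroup H, S ≤ T ∧ s ∈ S ∧ a * s * a⁻¹ ∈ S ∧ (∀ u ∈ S, a * u * a⁻¹ ∈ S) ∧
      (∀ u ∈ S, a⁻¹ * u * a ∈ S) ∧ ∀ u ∈ S, ∀ v ∈ S, cm u v ∈ N := by
  set s' := a * s * a⁻¹ with hs'def
  set s'' := a⁻¹ * s * a with hs''def
  have hs' : s' ∈ T := hS.aT s hs
  have hs'' : s'' ∈ T := hS.ainvT s hs
  have e1 : a * s' * a⁻¹ = s'' := by
    have h3 := hS.ainv
    calc a * s' * a⁻¹ = (a * a) * s * (a * a)⁻¹ := by rw [hs'def]; group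
      _ = s'' := by rw [← h3, inv_inv]
  have e2 : a * s'' * a⁻¹ = s := by rw [hs''def]; group
  have e3 : a⁻¹ * s' * a = s := by rw [hs'def]; group
  have e4 : a⁻¹ * s'' * a = s' := by
    have h3 := hS.ainv
    have h4 : a⁻¹ * a⁻¹ = a := by
      rw [h3]
      calc a * a * (a * a) = (a * a * a) * a := by group
        _ = a := by rw [hS.a3, one_mul]
    calc a⁻¹ * s'' * a = (a⁻¹ * a⁻¹) * s * (a⁻¹ * a⁻¹)⁻¹ := by
          rw [hs''def, mul_inv_rev, inv_inv]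
          simp only [mul_assoc]
      _ = s' := by rw [h4]
  -- orthogonality on generators
  have g12 : cm s s' ∈ N := hiso
  have g23 : cm s' s'' ∈ N := by
    have := hS.cm_aconj hs hs'
    rw [e1] at this
    rw [this]
    exact g12
  have g31 : cm s'' s ∈ N := by
    have := hS.cm_aconj hs' hs''
    rw [e1, e2] at this
    rw [this]
    exact g23
  have sym : ∀ u v : H, cm u v ∈ N → cm v u ∈ N := by
    intro u v h
    rw [cm_inv]
    exact N.inv_mem h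
  have self : ∀ u : H, cm u u ∈ N := by
    intro u
    rw [cm_self]
    exact N.one_mem
  set gens : Set H := {s, s', s''} with hgens
  have hgT : ∀ w ∈ gens, w ∈ T := by
    intro w hw
    rcases hw with rfl | rfl | rfl
    · exact hs
    · exact hs'
    · exact hs''
  have hgg : ∀ u ∈ gens, ∀ w ∈ gens, cm u w ∈ N := by
    intro u hu w hw
    rcases hu with rfl | rfl | rfl <;> rcases hw with rfl | rfl | rfl
    · exact self _
    · exact g12
    · exact sym _ _ g31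
    · exact sym _ _ g12
    · exact self _
    · exact g23
    · exact g31
    · exact sym _ _ g23
    · exact self _
  set S := Subgroup.closure gens with hSdef
  have hST : S ≤ T := (Subgroup.closure_le T).mpr hgT
  have step1 : ∀ w (hw : w ∈ gens), S ≤ orthSub hS N w (hgT w hw) := by
    intro w hw
    rw [hSdef, Subgroup.closure_le]
    intro u hu
    exact ⟨hgT u hu, hgg u hu w hw⟩
  have step2 : ∀ u (hu : u ∈ S), S ≤ orthSub hS N u (hST hu) := by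
    intro u hu
    rw [hSdef, Subgroup.closure_le]
    intro w hw
    refine ⟨hgT w hw, ?_⟩
    exact sym _ _ (step1 w hw hu).2
  have hconj : ∀ u ∈ S, a * u * a⁻¹ ∈ S := by
    intro u hu
    have hle : S ≤ S.comap (MulAut.conj a).toMonoidHom := by
      rw [hSdef, Subgroup.closure_le]
      intro w hw
      show MulAut.conj a w ∈ Subgroup.closure gens
      rw [MulAut.conj_apply]
      apply Subgroup.subset_closure
      rcases hw with rfl | rfl | rfl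
      · right; left; rfl
      · right; right; exact e1
      · left; exact e2
    have := hle hu
    rw [Subgroup.mem_comap] at this
    simpa [MulAut.conj_apply] using this
  have hconj' : ∀ u ∈ S, a⁻¹ * u * a ∈ S := by
    intro u hu
    have hle : S ≤ S.comap (MulAut.conj a⁻¹).toMonoidHom := by
      rw [hSdef, Subgroup.closure_le]
      intro w hw
      show MulAut.conj a⁻¹ w ∈ Subgroup.closure gens
      rw [MulAut.conj_apply, inv_inv]
      apply Subgroup.subset_closure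
      rcases hw with rfl | rfl | rfl
      · right; right; rfl
      · left; exact e3
      · right; left; exact e4
    have := hle hu
    rw [Subgroup.mem_comap] at this
    simpa [MulAut.conj_apply] using this
  refine ⟨S, hST, ?_, ?_, hconj, hconj', ?_⟩
  · exact Subgroup.subset_closure (by left; rfl)
  · exact Subgroup.subset_closure (by right; left; rfl)
  · intro u hu v hv
    exact sym _ _ (step2 u hu hv).2

end isotropic

end Cfsg.Agent.Lib.Helper20.PLDer
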