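import Mathlib
import Cfsg.Agent.Lib.Helper11.FrobLinEig
import Cfsg.Agent.Lib.Helper11.FrobLinOrbit
import Cfsg.Agent.Lib.Helper20.HHAbelB
import Cfsg.Agent.Lib.Helper20.PLDerA

set_option autoImplicit false

/-!
`p`-length versus derived length: the linear algebra of the exceptional configuration (`p = 3`).
-/

namespace Cfsg.Agent.Lib.Helper20.PLDer

open Module Cfsg.Agent.Lib.Helper11.FrobLinEig Cfsg.Agent.Lib.Helper11.FrobLinOrbit

variable {K : Type*} [Field K] {V : Type*} [AddCommGroup V] [Module K V]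
variable {H : Type*} [Group H]

section char3

variable [CharP K 3]

omit [Field K] [CharP K 3] in
theorem two_ne_zero_K [Field K] [CharP K 3] : (2 : K) ≠ 0 := by
  intro h
  have h1 : ((2 : ℕ) : K) = 0 := by exact_mod_cast h
  have h2 := (CharP.cast_eq_zero_iff K 3 2).mp h1
  omega

omit [Field K] [CharP K 3] in
theorem three_eq_zero_K [Field K] [CharP K 3] : (3 : K) = 0 := by
  have h1 : ((3 : ℕ) : K) = 0 := (CharP.cast_eq_zero_iff K 3 3).mpr (dvd_refl 3)
  exact_mod_cast h1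

/-- a quadratic element of order `3` in characteristic `3` has `1 + f + f² = 0`. -/
theorem sum_eq_zero_of_quad (f : End K V) (hq : (f - 1) * (f - 1) = 0) :
    ∑ i ∈ Finset.range (3 ^ 1), f ^ i = 0 := by
  have h3 : (3 : K) = 0 := three_eq_zero_K
  have e : ∑ i ∈ Finset.range (3 ^ 1), f ^ i = (f - 1) * (f - 1) + (3 : K) • f := by
    rw [pow_one, Finset.sum_range_succ, Finset.sum_range_succ, Finset.sum_range_one]
    have : ((3 : K) • f : End K V) = f + f + f := by
      have : (3 : K) = 1 + 1 + 1 := by norm_num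
      rw [this, add_smul, add_smul, one_smul]
    rw [this]
    noncomm_ring
  rw [e, hq, h3, zero_smul, add_zero]

end char3

section rep

variable (ρ : H →* End K V)

/-- the restriction of a representation to an invariant subspace -/
def resRep (W : Submodule K V) (M : Subgroup H) (hM : ∀ h ∈ M, ∀ w ∈ W, ρ h w ∈ W) :
    ↥M →* End K ↥W where
  toFun h := (ρ (h : H)).restrict (hM h h.2)
  map_one' := by
    apply LinearMap.ext
    intro w
    apply Subtype.ext
    simp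
  map_mul' := by
    intro h h'
    apply LinearMap.ext
    intro w
    apply Subtype.ext
    simp

theorem resRep_apply (W : Submodule K V) (M : Subgroup H) (hM : ∀ h ∈ M, ∀ w ∈ W, ρ h w ∈ W)
    (h : ↥M) (w : ↥W) : ((resRep ρ W M hM h) w : V) = ρ (h : H) (w : V) := rfl

theorem rho_inv_apply (h : H) (v : V) : ρ h⁻¹ (ρ h v) = v := by
  rw [← Module.End.mul_apply, ← map_mul, inv_mul_cancel, map_one, Module.End.one_apply]

theorem rho_apply_inv (h : H) (v : V) : ρ h (ρ h⁻¹ v) = v := by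
  rw [← Module.End.mul_apply, ← map_mul, mul_inv_cancel, map_one, Module.End.one_apply]

/-- an element commuting with `Z` preserves every joint eigenspace of `Z`. -/
theorem jointEig_invariant (Z : Subgroup H) (χ : Z → K) (h : H)
    (hc : ∀ z ∈ Z, z * h = h * z) (w : V) (hw : w ∈ jointEig ρ Z χ) :
    ρ h w ∈ jointEig ρ Z χ := by
  rw [mem_jointEig] at hw ⊢
  intro z
  rw [← Module.End.mul_apply, ← map_mul, hc z z.2, map_mul, Module.End.mul_apply, hw z,
    map_smul]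

end rep

section main

variable {T Z E : Subgroup H} {a : H}

/-- the linear hypotheses -/
structure LinData (ρ : H →* End K V) (T Z E : Subgroup H) (a : H) : Prop where
  inj : Function.Injective ρ
  zsq : ∀ z ∈ Z, z * z = 1
  znt : ∃ z₀ ∈ Z, z₀ ≠ 1
  gen : ∀ U : Subgroup H, (∀ x ∈ T, ∀ y ∈ T, cm x y ∈ U) → Z ≤ U
  quad : (ρ a - 1) * (ρ a - 1) = 0
  tri : ∀ g ∈ E, ∀ g' ∈ E, (ρ a - 1) * (ρ g - 1) * (ρ g' - 1) = 0
  aE : a ∈ ⁅E, E⁆

/-- the common context: a subspace `W` on which `Z` acts through the character `c`. -/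
structure EigData (ρ : H →* End K V) (T Z : Subgroup H) (a : H) (W : Submodule K V)
    (c : H → K) : Prop where
  invT : ∀ t ∈ T, ∀ w ∈ W, ρ t w ∈ W
  inva : ∀ w ∈ W, ρ a w ∈ W
  eig : ∀ w ∈ W, ∀ z ∈ Z, ρ z w = c z • w
  ne : ∃ w ∈ W, w ≠ 0

theorem EigData.c_mul {ρ : H →* End K V} {W : Submodule K V} {c : H → K}
    (hD : EigData ρ T Z a W c) {z z' : H} (hz : z ∈ Z) (hz' : z' ∈ Z) :
    c (z * z') = c z * c z' := by
  obtain ⟨w, hw, hw0⟩ := hD.ne
  have h1 := hD.eig w hw (z * z') (Z.mul_mem hz hz')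
  have hw' : ρ z' w ∈ W := by
    rw [hD.eig w hw z' hz']
    exact W.smul_mem _ hw
  rw [map_mul, Module.End.mul_apply, hD.eig w hw z' hz', map_smul, hD.eig w hw z hz,
    smul_smul] at h1
  have h2 : (c z' * c z - c (z * z')) • w = 0 := by rw [sub_smul, h1, sub_self]
  rcases smul_eq_zero.mp h2 with h | h
  · rw [sub_eq_zero] at h
    rw [← h, mul_comm]
  · exact absurd h hw0

theorem EigData.c_one {ρ : H →* End K V} {W : Submodule K V} {c : H → K}
    (hD : EigData ρ T Z a W c) : c 1 = 1 := by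
  obtain ⟨w, hw, hw0⟩ := hD.ne
  have h1 := hD.eig w hw 1 Z.one_mem
  rw [map_one, Module.End.one_apply] at h1
  have h2 : (c 1 - 1) • w = 0 := by rw [sub_smul, one_smul, ← h1, sub_self]
  rcases smul_eq_zero.mp h2 with h | h
  · exact sub_eq_zero.mp h
  · exact absurd h hw0

theorem EigData.c_eq_one_of_fix {ρ : H →* End K V} {W : Submodule K V} {c : H → K}
    (hD : EigData ρ T Z a W c) {z : H} (hz : z ∈ Z) (h : ∀ w ∈ W, ρ z w = w) : c z = 1 := by
  obtain ⟨w, hw, hw0⟩ := hD.ne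
  have h1 := hD.eig w hw z hz
  rw [h w hw] at h1
  have h2 : (c z - 1) • w = 0 := by rw [sub_smul, one_smul, ← h1, sub_self]
  rcases smul_eq_zero.mp h2 with h | h
  · exact sub_eq_zero.mp h
  · exact absurd h hw0

/-- the subgroup of elements acting trivially on `W` -/
def fixSub (ρ : H →* End K V) (W : Submodule K V) : Subgroup H where
  carrier := {h | ∀ w ∈ W, ρ h w = w}
  one_mem' := by intro w _; simp
  mul_mem' := by
    intro h h' hh hh' w hw
    rw [map_mul, Module.End.mul_apply, hh' w hw, hh w hw]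
  inv_mem' := by
    intro h hh w hw
    have := rho_inv_apply ρ h w
    rw [hh w hw] at this
    exact this

/-- if `a` is trivial on `W` we are done. -/
theorem EigData.contra_of_fix {ρ : H →* End K V} {W : Submodule K V} {c : H → K}
    (hS : SpecData T Z E a) (hD : EigData ρ T Z a W c) {z₀ : H} (hz₀ : z₀ ∈ Z) (hc : c z₀ ≠ 1)
    (hfix : ∀ w ∈ W, ρ a w = w) : False := by
  apply hc
  apply hD.c_eq_one_of_fix hz₀
  have hTU : T ≤ fixSub ρ W := by
    apply hS.full
    intro t ht w hw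
    have haU : a ∈ fixSub ρ W := hfix
    have hainv : a⁻¹ ∈ fixSub ρ W := (fixSub ρ W).inv_mem haU
    have h1 : ρ t⁻¹ w ∈ W := hD.invT _ (T.inv_mem ht) w hw
    rw [map_mul, map_mul, map_mul, Module.End.mul_apply, Module.End.mul_apply,
      Module.End.mul_apply, hainv _ h1, rho_apply_inv, hfix w hw]
  exact hTU (hS.ZT hz₀)

/-- the stabiliser of `W` -/
def stabSub (ρ : H →* End K V) (W : Submodule K V) : Subgroup H where
  carrier := {h | (∀ w ∈ W, ρ h w ∈ W) ∧ (∀ w ∈ W, ρ h⁻¹ w ∈ W)}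
  one_mem' := by
    constructor <;> intro w hw <;> simpa using hw
  mul_mem' := by
    rintro h h' ⟨h1, h2⟩ ⟨h1', h2'⟩
    constructor
    · intro w hw
      rw [map_mul, Module.End.mul_apply]
      exact h1 _ (h1' w hw)
    · intro w hw
      rw [mul_inv_rev, map_mul, Module.End.mul_apply]
      exact h2' _ (h2 w hw)
  inv_mem' := by
    rintro h ⟨h1, h2⟩
    refine ⟨h2, ?_⟩
    rw [inv_inv]
    exact h1

theorem EigData.caseB [CharP K 3] [FiniteDimensional K V] [Finite H] {ρ : H →* End K V}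
    {W : Submodule K V} {c : H → K}
    (hS : SpecData T Z E a) (hL : LinData ρ T Z E a) (hD : EigData ρ T Z a W c)
    {z₀ : H} (hz₀ : z₀ ∈ Z) (hc : c z₀ ≠ 1)
    (hfix : ∀ g ∈ E, ∀ z ∈ Z, c (g * z * g⁻¹) = c z) : False := by
  classical
  have csq : ∀ z ∈ Z, c z * c z = 1 := by
    intro z hz
    rw [← hD.c_mul hz hz, hL.zsq z hz, hD.c_one]
  have cpm : ∀ z ∈ Z, c z ≠ 1 → c z = -1 := by
    intro z hz h1
    have h2 : (c z - 1) * (c z + 1) = 0 := by
      have := csq z hz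
      ring_nf
      rw [pow_two, this]; ring
    rcases mul_eq_zero.mp h2 with h | h
    · exact absurd (sub_eq_zero.mp h) h1
    · exact eq_neg_of_add_eq_zero_left h
  -- the kernel of `c`
  let N : Subgroup H :=
    { carrier := {z | z ∈ Z ∧ c z = 1}
      one_mem' := ⟨Z.one_mem, hD.c_one⟩
      mul_mem' := by
        rintro z z' ⟨hz, h1⟩ ⟨hz', h1'⟩
        exact ⟨Z.mul_mem hz hz', by rw [hD.c_mul hz hz', h1, h1', one_mul]⟩
      inv_mem' := by
        rintro z ⟨hz, h1⟩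
        refine ⟨Z.inv_mem hz, ?_⟩
        have h2 := hD.c_mul hz (Z.inv_mem hz)
        rw [mul_inv_cancel, hD.c_one, h1, one_mul] at h2
        exact h2.symm }
  have hNmem : ∀ z, z ∈ N ↔ z ∈ Z ∧ c z = 1 := fun z => Iff.rfl
  have hN : IndexTwo N Z := by
    refine ⟨fun z hz => hz.1, ?_⟩
    intro z hz z' hz' h1 h1'
    have e1 : c z = -1 := cpm z hz (fun h => h1 ⟨hz, h⟩)
    have e2 : c z' = -1 := cpm z' hz' (fun h => h1' ⟨hz', h⟩)
    exact ⟨Z.mul_mem hz hz', by rw [hD.c_mul hz hz', e1, e2]; ring⟩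
  -- the radical
  let Rad : Subgroup H :=
    { carrier := {x | x ∈ T ∧ ∀ y ∈ T, cm x y ∈ N}
      one_mem' := ⟨T.one_mem, fun y _ => by
        have : cm 1 y = 1 := by unfold cm; group
        rw [this]; exact N.one_mem⟩
      mul_mem' := by
        rintro u v ⟨hu, hu'⟩ ⟨hv, hv'⟩
        refine ⟨T.mul_mem hu hv, fun y hy => ?_⟩
        rw [hS.cm_mul_left hu hv hy]
        exact N.mul_mem (hu' y hy) (hv' y hy)
      inv_mem' := by
        rintro u ⟨hu, hu'⟩
        refine ⟨T.inv_mem hu, fun y hy => ?_⟩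
        rw [hS.cm_inv_left hu hy]
        exact N.inv_mem (hu' y hy) }
  have hRadT : Rad ≤ T := fun x hx => hx.1
  have hRadE : ∀ g ∈ E, ∀ u ∈ Rad, g * u * g⁻¹ ∈ Rad := by
    intro g hg u hu
    refine ⟨hS.ET g hg u hu.1, fun y hy => ?_⟩
    have hy' : g⁻¹ * y * g ∈ T := by
      have := hS.ET g⁻¹ (E.inv_mem hg) y hy
      rwa [inv_inv] at this
    have e : y = g * (g⁻¹ * y * g) * g⁻¹ := by group
    rw [e, cm_conj]
    have h1 := hu.2 _ hy'
    exact ⟨hS.EZ g hg _ h1.1, by rw [hfix g hg _ h1.1]; exact h1.2⟩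
  have hRadne : Rad ≠ T := by
    intro h
    apply hc
    have h1 : Z ≤ N := by
      apply hL.gen
      intro x hx y hy
      have : x ∈ Rad := by rw [h]; exact hx
      exact this.2 y hy
    exact (h1 hz₀).2
  have hRadZ : Rad ≤ Z := hS.hF Rad hRadT hRadne hRadE
  -- an element outside `Z`
  obtain ⟨x, hx, hxZ⟩ : ∃ x ∈ T, x ∉ Z := by
    by_contra hcon
    push Not at hcon
    exact hS.ne (le_antisymm hS.ZT hcon)
  by_cases hcov : ∀ y ∈ T, y ∈ Z ∨ y * x⁻¹ ∈ Z ∨ y * (a * x * a⁻¹)⁻¹ ∈ Z ∨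
      y * (x * (a * x * a⁻¹))⁻¹ ∈ Z
  · exact hS.four hx hxZ hcov hL.aE
  push Not at hcov
  obtain ⟨y₀, hy₀, hout⟩ := hcov
  have hout' : ¬ (y₀ ∈ Z ∨ y₀ * x⁻¹ ∈ Z ∨ y₀ * (a * x * a⁻¹)⁻¹ ∈ Z ∨
      y₀ * (x * (a * x * a⁻¹))⁻¹ ∈ Z) := by
    push Not
    exact hout
  obtain ⟨s, hs, hsZ, hiso⟩ := hS.isotropic hN hx hxZ hy₀ hout'
  obtain ⟨S, hST, hsS, hs'S, hconj, hconj', horth⟩ := hS.isoClosure N hs hiso
  -- the representation on `W`
  set M := stabSub ρ W with hMdef
  have hTM : T ≤ M := fun t ht => ⟨hD.invT t ht, hD.invT _ (T.inv_mem ht)⟩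
  have haM : a ∈ M := by
    refine ⟨hD.inva, ?_⟩
    intro w hw
    rw [hS.ainv, map_mul, Module.End.mul_apply]
    exact hD.inva _ (hD.inva w hw)
  set ρ₁ := resRep ρ W M (fun h hh => hh.1) with hρ₁
  set x₁ : ↥M := ⟨a, haM⟩ with hx₁
  set S' := S.subgroupOf M with hS'
  have hx₁3 : x₁ ^ 3 ^ 1 = 1 := by
    apply Subtype.ext
    rw [pow_one, Subgroup.coe_pow, Subgroup.coe_one, hx₁]
    show a ^ 3 = 1
    rw [pow_succ, pow_two]
    exact hS.a3
  have hquad₁ : (ρ₁ x₁ - 1) * (ρ₁ x₁ - 1) = 0 := by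
    apply LinearMap.ext
    intro w
    apply Subtype.ext
    have h1 := LinearMap.congr_fun hL.quad (w : V)
    simp only [Module.End.mul_apply, LinearMap.sub_apply, Module.End.one_apply,
      LinearMap.zero_apply] at h1
    simp only [Module.End.mul_apply, LinearMap.sub_apply, Module.End.one_apply,
      LinearMap.zero_apply, Submodule.coe_sub, ZeroMemClass.coe_zero, hρ₁, resRep_apply, hx₁,
      map_sub]
    rw [map_sub] at h1
    exact h1
  have hsum0 := sum_eq_zero_of_quad (ρ₁ x₁) hquad₁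
  -- Theorem B, abelian case
  have hmain := Cfsg.Agent.Lib.Helper20.HHAbel.main_field ρ₁ S' x₁ Nat.prime_three
    (m := 1) le_rfl hx₁3 ?_ ?_ ?_ ?_
  · exact hmain hsum0
  · -- commutativity
    intro z hz z' hz'
    show ρ₁ z * ρ₁ z' = ρ₁ z' * ρ₁ z
    apply LinearMap.ext
    intro w
    apply Subtype.ext
    simp only [Module.End.mul_apply, hρ₁, resRep_apply]
    have hzS : (z : H) ∈ S := hz
    have hz'S : (z' : H) ∈ S := hz'
    have hcmN := horth _ hzS _ hz'S
    have e : (z : H) * (z' : H) = cm (z : H) (z' : H) * ((z' : H) * (z : H)) := by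
      unfold cm; group
    have h1 : ρ (z : H) (ρ (z' : H) (w : V)) = ρ ((z : H) * (z' : H)) (w : V) := by
      rw [map_mul, Module.End.mul_apply]
    have h2 : ρ (z' : H) (ρ (z : H) (w : V)) = ρ ((z' : H) * (z : H)) (w : V) := by
      rw [map_mul, Module.End.mul_apply]
    rw [h1, h2, e, map_mul, Module.End.mul_apply]
    have hw' : ρ ((z' : H) * (z : H)) (w : V) ∈ W :=
      hD.invT _ (T.mul_mem (hST hz'S) (hST hzS)) _ w.2
    rw [hD.eig _ hw' _ hcmN.1, hcmN.2, one_smul]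
  · -- the order of `S'` is prime to `3`
    have hS2 : IsPGroup 2 S' := by
      intro g
      refine ⟨2, ?_⟩
      apply Subtype.ext
      apply Subtype.ext
      have hgT : ((g : ↥M) : H) ∈ T := hST g.2
      have h1 := hS.sq _ hgT
      have h2 := hL.zsq _ h1
      simp only [Subgroup.coe_pow, Subgroup.coe_one]
      calc (((g : ↥M) : H)) ^ 2 ^ 2 = (((g : ↥M) : H) * ((g : ↥M) : H)) *
            (((g : ↥M) : H) * ((g : ↥M) : H)) := by
            rw [show (2 : ℕ) ^ 2 = 4 by norm_num, pow_succ, pow_succ, pow_succ, pow_one]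
            simp only [mul_assoc]
        _ = 1 := h2
    obtain ⟨k, hk⟩ := IsPGroup.iff_card.mp hS2
    rw [hk]
    intro h
    have h3 := (CharP.cast_eq_zero_iff K 3 (2 ^ k)).mp h
    have h4 : (3 : ℕ) ∣ 2 := Nat.Prime.dvd_of_dvd_pow Nat.prime_three h3
    omega
  · -- `x₁` normalises `S'`
    have hx₁N : x₁ ∈ Subgroup.normalizer (S' : Set ↥M) := by
      rw [Subgroup.mem_normalizer_iff]
      intro h
      constructor
      · intro hh
        rw [hS', Subgroup.mem_subgroupOf] at hh ⊢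
        exact hconj _ hh
      · intro hh
        rw [hS', Subgroup.mem_subgroupOf] at hh ⊢
        have := hconj' _ hh
        have e : a⁻¹ * ((x₁ * h * x₁⁻¹ : ↥M) : H) * a = (h : H) := by
          simp only [Subgroup.coe_mul, Subgroup.coe_inv, hx₁]
          group
        rwa [e] at this
    have hle : Subgroup.zpowers x₁ ≤ Subgroup.normalizer (S' : Set ↥M) :=
      (Subgroup.zpowers_le).mpr hx₁N
    intro r hr z hz
    have h1 := Subgroup.inv_mem _ (hle hr)
    have h2 := (Subgroup.mem_normalizer_iff.mp h1 z).mp hz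
    rwa [inv_inv] at h2
  · -- `x₁` acts non-trivially
    have hs'M : a * s * a⁻¹ ∈ M := hTM (hST hs'S)
    refine ⟨⟨a * s * a⁻¹, hs'M⟩, hs'S, ?_⟩
    have e1 : (x₁ ^ 3 ^ (1 - 1))⁻¹ * (⟨a * s * a⁻¹, hs'M⟩ : ↥M) * x₁ ^ 3 ^ (1 - 1) =
        ⟨s, hTM hs⟩ := by
      apply Subtype.ext
      simp only [Nat.sub_self, pow_zero, pow_one, Subgroup.coe_mul, Subgroup.coe_inv, hx₁]
      group
    rw [e1]
    intro heq
    -- `d = s⁻¹ (a s a⁻¹)` is trivial on `W`
    set d := s⁻¹ * (a * s * a⁻¹) with hd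
    have hdT : d ∈ T := T.mul_mem (T.inv_mem hs) (hS.aT s hs)
    have hdfix : d ∈ fixSub ρ W := by
      intro w hw
      have h1 := LinearMap.congr_fun heq ⟨w, hw⟩
      have h2 := congrArg Subtype.val h1
      simp only [hρ₁, resRep_apply] at h2
      rw [hd, map_mul, Module.End.mul_apply, ← h2, rho_inv_apply]
    have hdZ : d ∉ Z := by
      intro h
      apply hsZ
      apply hS.fpf hs
      have h1 := hS.central d h s hs
      have e : a * s * a⁻¹ * s⁻¹ = s * d * s⁻¹ := by rw [hd]; group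
      rw [e, ← h1]
      have : d * s * s⁻¹ = d := by group
      rw [this]
      exact h
    have hdRad : d ∉ Rad := fun h => hdZ (hRadZ h)
    have : ∃ y ∈ T, cm d y ∉ N := by
      by_contra hcon
      push Not at hcon
      exact hdRad ⟨hdT, hcon⟩
    obtain ⟨y, hy, hyN⟩ := this
    have hcmZ : cm d y ∈ Z := hS.cm_mem hdT hy
    apply hyN
    refine ⟨hcmZ, ?_⟩
    apply hD.c_eq_one_of_fix hcmZ
    intro w hw
    have hdinv : d⁻¹ ∈ fixSub ρ W := (fixSub ρ W).inv_mem hdfix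
    have h1 : ρ y⁻¹ w ∈ W := hD.invT _ (T.inv_mem hy) w hw
    unfold cm
    rw [map_mul, map_mul, map_mul, Module.End.mul_apply, Module.End.mul_apply,
      Module.End.mul_apply, hdinv _ h1, rho_apply_inv, hdfix w hw]

/-- the special (non-abelian) case over an algebraically closed field. -/
theorem special_case [IsAlgClosed K] [CharP K 3] [FiniteDimensional K V] [Finite H]
    {ρ : H →* End K V} (hS : SpecData T Z E a) (hL : LinData ρ T Z E a) : False := by
  classical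
  have hcommZ : ∀ z ∈ Z, ∀ z' ∈ Z, Commute (ρ z) (ρ z') := by
    intro z hz z' hz'
    show ρ z * ρ z' = ρ z' * ρ z
    rw [← map_mul, ← map_mul, hS.zcomm hz hz']
  have hZ2 : IsPGroup 2 Z := by
    intro z
    refine ⟨1, ?_⟩
    apply Subtype.ext
    rw [pow_one, Subgroup.coe_pow, Subgroup.coe_one, pow_two]
    exact hL.zsq z z.2
  have hZK : ((Nat.card Z : ℕ) : K) ≠ 0 := by
    obtain ⟨k, hk⟩ := IsPGroup.iff_card.mp hZ2
    rw [hk]
    intro h
    have h3 := (CharP.cast_eq_zero_iff K 3 (2 ^ k)).mp h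
    have h4 : (3 : ℕ) ∣ 2 := Nat.Prime.dvd_of_dvd_pow Nat.prime_three h3
    omega
  have htop := jointEig_iSup ρ Z hcommZ hZK
  have hind := jointEig_indep ρ Z hcommZ
  obtain ⟨z₀, hz₀, hz₀1⟩ := hL.znt
  have hρz₀ : ρ z₀ ≠ 1 := fun h => hz₀1 (hL.inj (by rw [h, map_one]))
  obtain ⟨χ₁, hχ₁, hχz₀⟩ : ∃ χ₁ : Z → K, jointEig ρ Z χ₁ ≠ ⊥ ∧ χ₁ ⟨z₀, hz₀⟩ ≠ 1 := by
    by_contra hcon
    push Not at hcon
    apply hρz₀
    have hle : (⊤ : Submodule K V) ≤ LinearMap.eqLocus (ρ z₀) 1 := by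
      rw [← htop]
      apply iSup_le
      intro χ w hw
      rw [LinearMap.mem_eqLocus]
      by_cases hb : jointEig ρ Z χ = ⊥
      · rw [hb, Submodule.mem_bot] at hw
        rw [hw, map_zero, map_zero]
      · have h1 := hcon χ hb
        rw [mem_jointEig] at hw
        rw [hw ⟨z₀, hz₀⟩, h1, one_smul, Module.End.one_apply]
    apply LinearMap.ext
    intro v
    exact hle (Submodule.mem_top : v ∈ ⊤)
  set W := jointEig ρ Z χ₁ with hW
  set c : H → K := fun z => if hz : z ∈ Z then χ₁ ⟨z, hz⟩ else 0 with hcdef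
  have hc_eq : ∀ z (hz : z ∈ Z), c z = χ₁ ⟨z, hz⟩ := by
    intro z hz
    rw [hcdef]
    simp only [hz, dite_true]
  have hD : EigData ρ T Z a W c := by
    refine ⟨?_, ?_, ?_, ?_⟩
    · intro t ht w hw
      exact jointEig_invariant ρ Z χ₁ t (fun z hz => hS.central z hz t ht) w hw
    · intro w hw
      apply jointEig_invariant ρ Z χ₁ a _ w hw
      intro z hz
      have := hS.aZ z hz
      calc z * a = (a * z * a⁻¹) * a := by rw [this]
        _ = a * z := by group
    · intro w hw z hz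
      rw [hc_eq z hz]
      exact (mem_jointEig ρ Z χ₁ w).mp hw ⟨z, hz⟩
    · exact (Submodule.ne_bot_iff _).mp hχ₁
  have hcz₀ : c z₀ ≠ 1 := by
    rw [hc_eq z₀ hz₀]
    exact hχz₀
  by_cases hfix : ∀ g ∈ E, ∀ z ∈ Z, c (g * z * g⁻¹) = c z
  · exact hD.caseB hS hL hz₀ hcz₀ hfix
  -- case A: some element of `E` moves the character
  push Not at hfix
  obtain ⟨g₀, hg₀, z₂, hz₂, hne⟩ := hfix
  -- use `g = g₀⁻¹`
  set g := g₀⁻¹ with hgdef
  have hg : g ∈ E := E.inv_mem hg₀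
  have hn : ∀ r ∈ E, ∀ z ∈ Z, r⁻¹ * z * r ∈ Z := by
    intro r hr z hz
    have := hS.EZ r⁻¹ (E.inv_mem hr) z hz
    rwa [inv_inv] at this
  set γ : ↥E := ⟨g, hg⟩ with hγ
  set χ₂ := act Z E hn γ χ₁ with hχ₂
  set χ₃ := act Z E hn γ χ₂ with hχ₃
  have h21 : χ₂ ≠ χ₁ := by
    intro h
    apply hne
    have h1 := congrFun h ⟨z₂, hz₂⟩
    rw [hχ₂] at h1
    unfold act at h1
    rw [hc_eq z₂ hz₂, ← h1]
    have hmem : g₀ * z₂ * g₀⁻¹ ∈ Z := hS.EZ g₀ hg₀ z₂ hz₂
    rw [hc_eq _ hmem]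
    congr 1
    apply Subtype.ext
    simp only [hγ, hgdef, inv_inv]
  have h32 : χ₃ ≠ χ₂ := by
    intro h
    apply h21
    have h1 : act Z E hn γ⁻¹ χ₃ = act Z E hn γ⁻¹ χ₂ := by rw [h]
    rw [hχ₃, ← act_mul, inv_mul_cancel, act_one, hχ₂, ← act_mul, inv_mul_cancel, act_one] at h1
    exact h1
  apply hD.contra_of_fix hS hz₀ hcz₀
  intro w hw
  -- the three components
  set w₂ := ρ g w with hw₂
  set w₃ := ρ g w₂ with hw₃
  have hw₂mem : w₂ ∈ jointEig ρ Z χ₂ := map_mem ρ Z E hn γ χ₁ w hw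
  have hw₃mem : w₃ ∈ jointEig ρ Z χ₃ := map_mem ρ Z E hn γ χ₂ w₂ hw₂mem
  have hainv : ∀ (χ : Z → K) (v : V), v ∈ jointEig ρ Z χ → ρ a v - v ∈ jointEig ρ Z χ := by
    intro χ v hv
    apply Submodule.sub_mem _ _ hv
    apply jointEig_invariant ρ Z χ a _ v hv
    intro z hz
    have := hS.aZ z hz
    calc z * a = (a * z * a⁻¹) * a := by rw [this]
      _ = a * z := by group
  have htri := LinearMap.congr_fun (hL.tri g hg g hg) w
  simp only [Module.End.mul_apply, LinearMap.sub_apply, Module.End.one_apply,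
    LinearMap.zero_apply] at htri
  -- `2 • δ w₂ = δ w₃ + δ w`
  have hkey : (2 : K) • (ρ a w₂ - w₂) = (ρ a w₃ - w₃) + (ρ a w - w) := by
    have e : ρ g (ρ g w - w) - (ρ g w - w) = w₃ - w₂ - w₂ + w := by
      rw [map_sub, ← hw₂, ← hw₃]; abel
    rw [e] at htri
    rw [map_add, map_sub, map_sub] at htri
    rw [two_smul]
    have h5 : ρ a w₃ - ρ a w₂ - ρ a w₂ + ρ a w - (w₃ - w₂ - w₂ + w) = 0 := htri
    have h6 : (ρ a w₂ - w₂) + (ρ a w₂ - w₂) - ((ρ a w₃ - w₃) + (ρ a w - w)) =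
        -(ρ a w₃ - ρ a w₂ - ρ a w₂ + ρ a w - (w₃ - w₂ - w₂ + w)) := by abel
    rw [h5, neg_zero] at h6
    exact sub_eq_zero.mp h6
  have hleft : (2 : K) • (ρ a w₂ - w₂) ∈ jointEig ρ Z χ₂ :=
    Submodule.smul_mem _ _ (hainv χ₂ w₂ hw₂mem)
  have hright : (2 : K) • (ρ a w₂ - w₂) ∈ ⨆ (j) (_ : j ≠ χ₂), jointEig ρ Z j := by
    rw [hkey]
    apply Submodule.add_mem
    · exact Submodule.mem_iSup_of_mem χ₃ (Submodule.mem_iSup_of_mem h32 (hainv χ₃ w₃ hw₃mem))
    · exact Submodule.mem_iSup_of_mem χ₁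
        (Submodule.mem_iSup_of_mem (Ne.symm h21) (hainv χ₁ w hw))
  have hzero : (2 : K) • (ρ a w₂ - w₂) = 0 :=
    Submodule.disjoint_def.mp (hind χ₂) _ hleft hright
  have h2 : ρ a w₂ - w₂ = 0 := by
    rcases smul_eq_zero.mp hzero with h | h
    · exact absurd h two_ne_zero_K
    · exact h
  -- transport back by `ρ g⁻¹`
  have hga : g * a = a * g := hS.Ea g hg
  have h3 : ρ a w₂ = ρ g (ρ a w) := by
    rw [hw₂, ← Module.End.mul_apply, ← Module.End.mul_apply, ← map_mul, ← map_mul, hga]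
  rw [h3, hw₂, ← map_sub] at h2
  have h4 := congrArg (ρ g⁻¹) h2
  rw [rho_inv_apply, map_zero] at h4
  exact sub_eq_zero.mp h4

/-- the abelian case over any field of characteristic `3`. -/
theorem abelian_case [CharP K 3] [FiniteDimensional K V] [Finite H] {ρ : H →* End K V}
    (hinj : Function.Injective ρ) (T : Subgroup H) (hT2 : IsPGroup 2 T) (a : H)
    (ha3 : a * a * a = 1) (hab : ∀ t ∈ T, ∀ t' ∈ T, t * t' = t' * t)
    (haT : ∀ t ∈ T, a * t * a⁻¹ ∈ T) (hmove : ∃ t ∈ T, a * t * a⁻¹ ≠ t)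
    (hquad : (ρ a - 1) * (ρ a - 1) = 0) : False := by
  have hsum0 := sum_eq_zero_of_quad (ρ a) hquad
  have ha3' : a ^ 3 ^ 1 = 1 := by
    rw [pow_one, pow_succ, pow_two]
    exact ha3
  have hainv : a⁻¹ = a * a := by
    rw [inv_eq_iff_mul_eq_one, ← mul_assoc]
    exact ha3
  have hmain := Cfsg.Agent.Lib.Helper20.HHAbel.main_field ρ T a Nat.prime_three
    (m := 1) le_rfl ha3' ?_ ?_ ?_ ?_
  · exact hmain hsum0
  · intro z hz z' hz'
    show ρ z * ρ z' = ρ z' * ρ z
    rw [← map_mul, ← map_mul, hab z hz z' hz']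
  · obtain ⟨k, hk⟩ := IsPGroup.iff_card.mp hT2
    rw [hk]
    intro h
    have h3 := (CharP.cast_eq_zero_iff K 3 (2 ^ k)).mp h
    have h4 : (3 : ℕ) ∣ 2 := Nat.Prime.dvd_of_dvd_pow Nat.prime_three h3
    omega
  · have haN : a ∈ Subgroup.normalizer (T : Set H) := by
      rw [Subgroup.mem_normalizer_iff]
      intro h
      constructor
      · exact haT h
      · intro hh
        have h1 := haT _ (haT _ hh)
        have e : a * (a * (a * h * a⁻¹) * a⁻¹) * a⁻¹ = h := by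
          have h4 : a * a * a = 1 := ha3
          calc a * (a * (a * h * a⁻¹) * a⁻¹) * a⁻¹ = (a * a * a) * h * (a * a * a)⁻¹ := by group
            _ = h := by rw [h4]; group
        rwa [e] at h1
    have hle : Subgroup.zpowers a ≤ Subgroup.normalizer (T : Set H) :=
      (Subgroup.zpowers_le).mpr haN
    intro r hr z hz
    have h1 := Subgroup.inv_mem _ (hle hr)
    have h2 := (Subgroup.mem_normalizer_iff.mp h1 z).mp hz
    rwa [inv_inv] at h2
  · obtain ⟨t, ht, hne⟩ := hmove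
    refine ⟨a * t * a⁻¹, haT t ht, ?_⟩
    have e1 : (a ^ 3 ^ (1 - 1))⁻¹ * (a * t * a⁻¹) * a ^ 3 ^ (1 - 1) = t := by
      simp only [Nat.sub_self, pow_zero, pow_one]
      group
    rw [e1]
    intro heq
    exact hne (hinj heq).symm

end main

end Cfsg.Agent.Lib.Helper20.PLDer
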