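import Mathlib
import Cfsg.Agent.S3736
import Cfsg.Agent.Lib.Helper20.HallHigman
import Cfsg.Agent.Lib.Helper20.PLDerB

set_option autoImplicit false

/-!
`p`-length versus derived length: the minimal configuration for `p = 3` is impossible.
-/

namespace Cfsg.Agent.Lib.Helper20.PLDer

open Cfsg.Agent.Lib.Helper20 Cfsg.Agent.Lib.Lead Module TensorProduct

variable {H : Type*} [Group H]

/-- the minimal configuration -/
structure MinConf (T E : Subgroup H) (a : H) : Prop where
  T2 : IsPGroup 2 T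
  ET : E ≤ Subgroup.normalizer (T : Set H)
  aE : a ∈ ⁅E, E⁆
  Ea : ∀ g ∈ E, g * a = a * g
  a3 : a * a * a = 1
  nt : ⁅T, Subgroup.zpowers a⁆ ≠ ⊥
  min : ∀ U : Subgroup H, U < T → E ≤ Subgroup.normalizer (U : Set H) →
    ⁅U, Subgroup.zpowers a⁆ = ⊥

theorem zpowers_cases {a : H} (ha3 : a * a * a = 1) {r : H} (hr : r ∈ Subgroup.zpowers a) :
    r = 1 ∨ r = a ∨ r = a * a := by
  obtain ⟨k, rfl⟩ := Subgroup.mem_zpowers_iff.mp hr
  have h3 : a ^ (3 : ℤ) = 1 := by
    have : a ^ (3 : ℕ) = 1 := by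
      rw [pow_succ, pow_two]; exact ha3
    exact_mod_cast this
  have e : a ^ k = a ^ (k % 3) := by
    conv_lhs => rw [← Int.emod_add_mul_ediv k 3]
    rw [zpow_add, zpow_mul, h3, one_zpow, mul_one]
  rw [e]
  have h1 : 0 ≤ k % 3 := Int.emod_nonneg k (by norm_num)
  have h2 : k % 3 < 3 := Int.emod_lt_of_pos k (by norm_num)
  have h4 : k % 3 = 0 ∨ k % 3 = 1 ∨ k % 3 = 2 := by omega
  rcases h4 with h | h | h
  · left; rw [h, zpow_zero]
  · right; left; rw [h, zpow_one]
  · right; right
    rw [h]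
    have : a ^ (2 : ℤ) = a ^ (2 : ℕ) := by norm_cast
    rw [this, pow_two]

theorem mem_E_of_comm {E : Subgroup H} {a : H} (h : a ∈ ⁅E, E⁆) : a ∈ E := by
  have : ⁅E, E⁆ ≤ E := Subgroup.commutator_le_self E
  exact this h

variable [Finite H]

/-- either `T` is abelian or we get the special data. -/
theorem MinConf.data {T E : Subgroup H} {a : H} (hC : MinConf T E a) :
    (∀ t ∈ T, ∀ t' ∈ T, t * t' = t' * t) ∨
      ∃ Z : Subgroup H, SpecData T Z E a ∧
        (∀ U : Subgroup H, (∀ x ∈ T, ∀ y ∈ T, cm x y ∈ U) → Z ≤ U) ∧ (∃ z₀ ∈ Z, z₀ ≠ 1) := by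
  classical
  by_cases hab : ∀ t ∈ T, ∀ t' ∈ T, t * t' = t' * t
  · exact Or.inl hab
  right
  have haE : a ∈ E := mem_E_of_comm hC.aE
  have hA : Subgroup.zpowers a ≤ E := (Subgroup.zpowers_le).mpr haE
  have hcomm_zp : ∀ g ∈ E, ∀ r ∈ Subgroup.zpowers a, g * r * g⁻¹ = r := by
    intro g hg r hr
    obtain ⟨k, rfl⟩ := Subgroup.mem_zpowers_iff.mp hr
    have h1 : Commute g a := hC.Ea g hg
    have h2 : Commute g (a ^ k) := h1.zpow_right k
    rw [h2.eq]; group
  have hAn : E ≤ Subgroup.normalizer (Subgroup.zpowers a : Set H) := by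
    rw [Subgroup.le_normalizer_iff]
    intro g hg r hr
    rw [hcomm_zp g hg r hr]
    exact hr
  have ha3' : a ^ 3 = 1 := by
    rw [pow_succ, pow_two]; exact hC.a3
  have hAp : (Nat.card (Subgroup.zpowers a)).Coprime 2 := by
    rw [Nat.card_zpowers]
    have h1 : orderOf a ∣ 3 := orderOf_dvd_of_pow_eq_one ha3'
    have h2 : orderOf a = 1 ∨ orderOf a = 3 := (Nat.dvd_prime Nat.prime_three).mp h1
    rcases h2 with h | h <;> rw [h] <;> norm_num
  have hAP : Subgroup.zpowers a ≤ Subgroup.normalizer (T : Set H) := hA.trans hC.ET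
  obtain ⟨hPA, hdich, -, -⟩ := Cfsg.Agent.S3736.result E (Subgroup.zpowers a) T hC.T2 hC.ET hA hAn
    hAp hC.nt hC.min
  have hspec : Cfsg.IsSpecial 2 ↥T := by
    rcases hdich with h | h
    · exfalso
      apply hab
      intro t ht t' ht'
      have := h.1.is_comm.comm ⟨t, ht⟩ ⟨t', ht'⟩
      exact congrArg Subtype.val this
    · exact h
  obtain ⟨-, hfc, hcc⟩ := hspec
  set Z : Subgroup H := (Subgroup.center ↥T).map T.subtype with hZdef
  have hmemZ : ∀ z, z ∈ Z ↔ z ∈ T ∧ ∀ t ∈ T, t * z = z * t := by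
    intro z
    constructor
    · rintro ⟨z', hz', rfl⟩
      refine ⟨z'.2, fun t ht => ?_⟩
      have := Subgroup.mem_center_iff.mp hz' ⟨t, ht⟩
      exact congrArg Subtype.val this
    · rintro ⟨hz, hc⟩
      refine ⟨⟨z, hz⟩, Subgroup.mem_center_iff.mpr ?_, rfl⟩
      intro t
      apply Subtype.ext
      exact hc t t.2
  have hZT : Z ≤ T := Subgroup.map_subtype_le _
  have hΦ : (frattini ↥T).map T.subtype = Z := by rw [hZdef, hfc]
  have hcommT : ⁅T, T⁆ = Z := by
    rw [← Subgroup.map_subtype_commutator, hcc]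
  have hcommΦ : ⁅T, T⁆ ≤ (frattini ↥T).map T.subtype := by
    rw [hΦ, hcommT]
  have hCA : T ⊓ Subgroup.centralizer (Subgroup.zpowers a : Set H) ≤ Z := by
    have := hh_fixed_le (Subgroup.zpowers a) T ((frattini ↥T).map T.subtype) hC.T2 hAP hcommΦ hPA hAp
    rwa [hΦ] at this
  have hEZ : E ≤ Subgroup.normalizer (Z : Set H) :=
    le_normalizer_map_characteristic T E hC.ET (Subgroup.center ↥T)
  have hZne : Z ≠ T := by
    intro h
    apply hab
    intro t ht t' ht'
    have : t' ∈ Z := by rw [h]; exact ht'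
    exact ((hmemZ t').mp this).2 t ht
  have hZlt : Z < T := lt_of_le_of_ne hZT hZne
  have hZa : ⁅Z, Subgroup.zpowers a⁆ = ⊥ := hC.min Z hZlt hEZ
  have hcm : ∀ x ∈ T, ∀ y ∈ T, cm x y ∈ Z := by
    intro x hx y hy
    rw [← hcommT]
    have := Subgroup.commutator_mem_commutator hx hy
    rwa [commutatorElement_def] at this
  have hgen : ∀ U : Subgroup H, (∀ x ∈ T, ∀ y ∈ T, cm x y ∈ U) → Z ≤ U := by
    intro U hU
    rw [← hcommT, Subgroup.commutator_le]
    intro x hx y hy
    rw [commutatorElement_def]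
    exact hU x hx y hy
  refine ⟨Z, ?_, hgen, ?_⟩
  · refine ⟨hZT, ?_, ?_, ?_, ?_, ?_, hC.a3, ?_, ?_, hC.Ea, ?_, hZne, ?_⟩
    · intro z hz t ht
      exact (((hmemZ z).mp hz).2 t ht).symm
    · exact hcm
    · intro x hx
      have h1 := Cfsg.Agent.Lib.Helper1.pgroup_pow_mem_frattini hC.T2 (⟨x, hx⟩ : ↥T)
      rw [hfc] at h1
      have h2 : ((⟨x, hx⟩ : ↥T) ^ 2 : ↥T) = ⟨x * x, T.mul_mem hx hx⟩ := by
        apply Subtype.ext
        rw [Subgroup.coe_pow, pow_two]
      rw [h2] at h1
      exact ⟨_, h1, rfl⟩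
    · intro t ht
      exact (Subgroup.le_normalizer_iff.mp hC.ET) a haE t ht
    · intro z hz
      have h1 := Subgroup.commutator_eq_bot_iff_le_centralizer.mp hZa hz
      rw [Subgroup.mem_centralizer_iff] at h1
      have h2 := h1 a (Subgroup.mem_zpowers a)
      rw [h2]; group
    · intro g hg t ht
      exact (Subgroup.le_normalizer_iff.mp hC.ET) g hg t ht
    · intro g hg z hz
      exact (Subgroup.le_normalizer_iff.mp hEZ) g hg z hz
    · intro U hUT hUne hUE
      have hlt : U < T := lt_of_le_of_ne hUT hUne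
      have hEU : E ≤ Subgroup.normalizer (U : Set H) := by
        rw [Subgroup.le_normalizer_iff]
        exact hUE
      have h1 := hC.min U hlt hEU
      rw [Subgroup.commutator_eq_bot_iff_le_centralizer] at h1
      exact (le_inf hUT h1).trans hCA
    · intro U hU
      rw [← hPA, Subgroup.commutator_comm, Subgroup.commutator_le]
      intro r hr t ht
      rw [commutatorElement_def]
      have haT : ∀ t ∈ T, a * t * a⁻¹ ∈ T := fun t ht =>
        (Subgroup.le_normalizer_iff.mp hC.ET) a haE t ht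
      rcases zpowers_cases hC.a3 hr with rfl | rfl | rfl
      · have : (1 : H) * t * 1⁻¹ * t⁻¹ = 1 := by group
        rw [this]; exact U.one_mem
      · exact hU t ht
      · have h1 := hU _ (haT t ht)
        have h2 := hU t ht
        have e : a * a * t * (a * a)⁻¹ * t⁻¹ =
            (a * (a * t * a⁻¹) * a⁻¹ * (a * t * a⁻¹)⁻¹) * (a * t * a⁻¹ * t⁻¹) := by group
        rw [e]
        exact U.mul_mem h1 h2
  · by_contra hcon
    push Not at hcon
    apply hab
    intro t ht t' ht'
    have h1 := hcon _ (hcm t ht t' ht')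
    unfold cm at h1
    calc t * t' = (t * t' * t⁻¹ * t'⁻¹) * (t' * t) := by group
      _ = t' * t := by rw [h1, one_mul]

/-- elements of `Z` have order at most `2`. -/
theorem SpecData.zsq_of_gen {T Z E : Subgroup H} {a : H} (hS : SpecData T Z E a)
    (hgen : ∀ U : Subgroup H, (∀ x ∈ T, ∀ y ∈ T, cm x y ∈ U) → Z ≤ U) :
    ∀ z ∈ Z, z * z = 1 := by
  let U : Subgroup H :=
    { carrier := {z | z ∈ Z ∧ z * z = 1}
      one_mem' := ⟨Z.one_mem, by simp⟩
      mul_mem' := by
        rintro z z' ⟨hz, h1⟩ ⟨hz', h1'⟩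
        refine ⟨Z.mul_mem hz hz', ?_⟩
        have hc := hS.zcomm hz hz'
        calc z * z' * (z * z') = z * (z' * z) * z' := by group
          _ = z * (z * z') * z' := by rw [hc]
          _ = (z * z) * (z' * z') := by group
          _ = 1 := by rw [h1, h1', one_mul]
      inv_mem' := by
        rintro z ⟨hz, h1⟩
        refine ⟨Z.inv_mem hz, ?_⟩
        have : z⁻¹ * z⁻¹ = (z * z)⁻¹ := by group
        rw [this, h1, inv_one] }
  have hle : Z ≤ U := by
    apply hgen
    intro x hx y hy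
    refine ⟨hS.cm_mem hx hy, ?_⟩
    rw [← hS.cm_mul_left hx hx hy, hS.cm_central_left (hS.sq x hx) hy]
  intro z hz
  exact (hle hz).2

/-- the minimal configuration cannot occur in a faithful module in characteristic `3` on which
`a` is quadratic and `[V, E, E, a] = 0`. -/
theorem MinConf.false {k : Type*} [Field k] [CharP k 3] {V : Type*} [AddCommGroup V]
    [Module k V] [FiniteDimensional k V] (ρ₀ : H →* End k V) (hinj : Function.Injective ρ₀)
    {T E : Subgroup H} {a : H} (hC : MinConf T E a)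
    (hquad : (ρ₀ a - 1) * (ρ₀ a - 1) = 0)
    (htri : ∀ g ∈ E, ∀ g' ∈ E, (ρ₀ a - 1) * (ρ₀ g - 1) * (ρ₀ g' - 1) = 0) : False := by
  have haE : a ∈ E := mem_E_of_comm hC.aE
  have haT : ∀ t ∈ T, a * t * a⁻¹ ∈ T := fun t ht =>
    (Subgroup.le_normalizer_iff.mp hC.ET) a haE t ht
  rcases hC.data with hab | ⟨Z, hS, hgen, hznt⟩
  · -- abelian case
    apply abelian_case hinj T hC.T2 a hC.a3 hab haT _ hquad
    by_contra hcon
    push Not at hcon
    apply hC.nt
    rw [Subgroup.commutator_eq_bot_iff_le_centralizer]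
    intro t ht
    rw [Subgroup.mem_centralizer_iff]
    intro r hr
    have h1 := hcon t ht
    have h2 : a * t = t * a := by
      calc a * t = (a * t * a⁻¹) * a := by group
        _ = t * a := by rw [h1]
    rcases zpowers_cases hC.a3 hr with rfl | rfl | rfl
    · simp
    · exact h2
    · calc a * a * t = a * (a * t) := by group
        _ = a * (t * a) := by rw [h2]
        _ = (a * t) * a := by group
        _ = t * a * a := by rw [h2]
        _ = t * (a * a) := by group
  · -- special case: extend scalars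
    have hchar : CharP (AlgebraicClosure k) 3 :=
      charP_of_injective_algebraMap (algebraMap k (AlgebraicClosure k)).injective 3
    obtain ⟨bc, hbc⟩ : ∃ bc : End k V →ₐ[k] End (AlgebraicClosure k) (AlgebraicClosure k ⊗[k] V),
        bc = Module.End.baseChangeHom k (AlgebraicClosure k) V := ⟨_, rfl⟩
    have hbca : ∀ f : End k V, bc f = f.baseChange (AlgebraicClosure k) := by
      intro f
      rw [hbc]
      rfl
    obtain ⟨ρ, hρ⟩ : ∃ ρ : H →* End (AlgebraicClosure k) (AlgebraicClosure k ⊗[k] V),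
        ρ = (bc : End k V →* _).comp ρ₀ := ⟨_, rfl⟩
    have hρa : ∀ g : H, ρ g = bc (ρ₀ g) := by
      intro g
      rw [hρ]
      rfl
    have hbcinj : ∀ f : End k V, bc f = 0 → f = 0 := by
      intro f hf
      by_contra hne
      rw [hbca] at hf
      exact Cfsg.Agent.Lib.Helper20.HHAbel.baseChange_ne_zero _ _ hne hf
    have hL : LinData ρ T Z E a := by
      refine ⟨?_, hS.zsq_of_gen hgen, hznt, hgen, ?_, ?_, hC.aE⟩
      · intro g g' hgg
        apply hinj
        rw [hρa, hρa] at hgg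
        have h1 : bc (ρ₀ g - ρ₀ g') = 0 := by rw [map_sub, hgg, sub_self]
        exact sub_eq_zero.mp (hbcinj _ h1)
      · have e : ρ a - 1 = bc (ρ₀ a - 1) := by rw [map_sub, map_one, hρa]
        rw [e, ← map_mul, hquad, map_zero]
      · intro g hg g' hg'
        have e : ∀ h : H, ρ h - 1 = bc (ρ₀ h - 1) := by
          intro h
          rw [map_sub, map_one, hρa]
        rw [e a, e g, e g', ← map_mul, ← map_mul, htri g hg g' hg', map_zero]
    exact special_case hS hL

end Cfsg.Agent.Lib.Helper20.PLDer
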