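import Mathlib
import Cfsg.Agent.Lib.Helper1.Nilp
import Cfsg.Agent.Lib.Helper20.HHThmH
import Cfsg.Agent.Lib.Helper20.PLDerC

set_option autoImplicit false

/-!
`p`-length versus derived length: the linear statement for a faithful module of a `p`-solvable
group with trivial `O_p`.
-/

namespace Cfsg.Agent.Lib.Helper20.PLDer

open Cfsg.Agent.Lib.Helper20 Module

section partH

variable {Γ : Type*} [Group Γ] [Finite Γ] {p : ℕ} [Fact p.Prime]

/-- In a `p`-solvable group with `O_p = 1`, an element `y` of order `p` and a `p`-subgroup `E`: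
there is an `E`-invariant `q`-subgroup (`q ≠ p`) not centralised by `y`. -/
theorem exists_moved_inv (hsolv : Cfsg.IsPSolvable p Γ) (hO : Cfsg.pCore p Γ = ⊥)
    (E : Subgroup Γ) (hE : IsPGroup p E) (y : Γ) (hyp : y ^ p = 1) (hy : y ≠ 1) :
    ∃ q : ℕ, q.Prime ∧ q ≠ p ∧ ∃ Q : Subgroup Γ, IsPGroup q Q ∧
      E ≤ Subgroup.normalizer (Q : Set Γ) ∧ ∃ z ∈ Q, y * z * y⁻¹ ≠ z := by
  have hp : p.Prime := Fact.out
  set K := Cfsg.pPrimeCore p Γ with hK
  have hKn : K.Normal := Cfsg.pPrimeCore_normal p Γ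
  have hKp : (Nat.card K).Coprime p := Cfsg.Agent.Lib.Helper1.pPrimeCore_card_coprime p
  have hC : Subgroup.centralizer (K : Set Γ) ≤ K :=
    Cfsg.Agent.Lib.Helper5.h5_centralizer_pPrimeCore_le hsolv hO
  have hyK : y ∉ K := by
    intro hyK
    have h1 : orderOf y ∣ p := orderOf_dvd_of_pow_eq_one hyp
    have h2 : orderOf y ∣ Nat.card K := Subgroup.orderOf_dvd_natCard K hyK
    rcases (Nat.dvd_prime hp).mp h1 with h | h
    · exact hy (orderOf_eq_one_iff.mp h)
    · rw [h] at h2
      exact (Nat.Prime.coprime_iff_not_dvd hp).mp hKp.symm h2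
  by_contra hcon
  push Not at hcon
  apply hyK
  apply hC
  have hAK : E ≤ Subgroup.normalizer (K : Set Γ) := by
    rw [Subgroup.normalizer_eq_top]
    exact le_top
  obtain ⟨n, hn⟩ := hE.exists_card_eq
  have hcop : (Nat.card E).Coprime (Nat.card K) := by
    rw [hn]
    exact Nat.Coprime.pow_left n hKp.symm
  haveI hnil : Group.IsNilpotent E := hE.isNilpotent
  have hsolvA : Group.IsSolvable E := inferInstance
  have hKC : K ≤ Subgroup.centralizer ({y} : Set Γ) := by
    apply Cfsg.Agent.Lib.Helper1.sylow_le_imp_le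
    intro q hq
    by_cases hqp : q = p
    · subst hqp
      obtain ⟨P⟩ : Nonempty (Sylow q K) := inferInstance
      refine ⟨P, ?_⟩
      obtain ⟨n, hn⟩ := P.isPGroup'.exists_card_eq
      have h1 : q ^ n ∣ Nat.card K := by
        rw [← hn]
        exact Subgroup.card_subgroup_dvd_card _
      have h2 : n = 0 := by
        by_contra hn0
        have : q ∣ Nat.card K := dvd_trans (dvd_pow_self q hn0) h1
        exact (Nat.Prime.coprime_iff_not_dvd hp).mp hKp.symm this
      rw [h2, pow_zero] at hn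
      have h3 : (P : Subgroup K) = ⊥ := Subgroup.eq_bot_of_card_eq _ hn
      rw [h3, Subgroup.map_bot]
      exact bot_le
    · obtain ⟨Q, hQK, hQq, hQn, hQcard⟩ :=
        Cfsg.Agent.Lib.Helper5.exists_invariant_sylow_sub E K hAK hcop hsolvA q
      have hcard : Nat.card (Q.subgroupOf K) = q ^ (Nat.card K).factorization q := by
        rw [← hQcard]
        exact Nat.card_congr (Subgroup.subgroupOfEquivOfLe hQK).toEquiv
      refine ⟨Sylow.ofCard (Q.subgroupOf K) hcard, ?_⟩
      rw [Sylow.coe_ofCard, Subgroup.map_subgroupOf_eq_of_le hQK]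
      intro z hz
      have h3 := hcon q hq.out hqp Q hQq hQn z hz
      rw [Subgroup.mem_centralizer_iff]
      intro h hh
      rw [Set.mem_singleton_iff] at hh
      rw [hh]
      calc y * z = (y * z * y⁻¹) * y := by group
        _ = z * y := by rw [h3]
  rw [Subgroup.mem_centralizer_iff]
  intro k hk
  have h1 := Subgroup.mem_centralizer_iff.mp (hKC hk) y (Set.mem_singleton y)
  exact h1.symm

/-- a non-trivial derived subgroup of a `p`-group contains a central element of order `p`. -/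
theorem exists_central_order_p (E : Subgroup Γ) (hE : IsPGroup p E) (hne : ⁅E, E⁆ ≠ ⊥) :
    ∃ a ∈ ⁅E, E⁆, a ≠ 1 ∧ a ^ p = 1 ∧ ∀ g ∈ E, g * a = a * g := by
  have hp : p.Prime := Fact.out
  haveI hnil : Group.IsNilpotent E := hE.isNilpotent
  have hmap : (commutator ↥E).map E.subtype = ⁅E, E⁆ := Subgroup.map_subtype_commutator E
  have hne' : commutator ↥E ≠ ⊥ := by
    intro h
    apply hne
    rw [← hmap, h, Subgroup.map_bot]
  have h1 := Cfsg.Agent.Lib.Helper1.normal_inf_center_ne_bot (commutator ↥E) hne'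
  have hM : IsPGroup p ↥(commutator ↥E ⊓ Subgroup.center ↥E) := hE.to_subgroup _
  have hdvd : p ∣ Nat.card ↥(commutator ↥E ⊓ Subgroup.center ↥E) := by
    rcases hM.card_eq_or_dvd with h | h
    · exact absurd (Subgroup.eq_bot_of_card_eq _ h) h1
    · exact h
  obtain ⟨c, hc⟩ := exists_prime_orderOf_dvd_card' p hdvd
  have hc1 : (c : ↥E) ∈ commutator ↥E := (Subgroup.mem_inf.mp c.2).1
  have hc2 : (c : ↥E) ∈ Subgroup.center ↥E := (Subgroup.mem_inf.mp c.2).2
  refine ⟨((c : ↥E) : Γ), ?_, ?_, ?_, ?_⟩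
  · rw [← hmap]
    exact ⟨(c : ↥E), hc1, rfl⟩
  · intro h
    have h2 : c = 1 := by
      apply Subtype.ext
      apply Subtype.ext
      exact h
    rw [h2, orderOf_one] at hc
    exact hp.one_lt.ne hc
  · have h2 : c ^ p = 1 := by
      rw [← hc]
      exact pow_orderOf_eq_one c
    have h3 := congrArg (fun x : ↥(commutator ↥E ⊓ Subgroup.center ↥E) => (((x : ↥E)) : Γ)) h2
    simpa using h3
  · intro g hg
    have h2 := Subgroup.mem_center_iff.mp hc2 ⟨g, hg⟩
    exact congrArg Subtype.val h2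

end partH

section abstract

variable {H : Type*} [Group H] [Finite H] {p : ℕ} [Fact p.Prime]

/-- the abstract form of the key step. -/
theorem commutator_eq_bot_of_quad_tri (hp2 : p ≠ 2) {k : Type*} [Field k] [CharP k p]
    {V : Type*} [AddCommGroup V] [Module k V] [FiniteDimensional k V]
    (ρ : H →* End k V) (hinj : Function.Injective ρ)
    (hsolv : Cfsg.IsPSolvable p H) (hO : Cfsg.pCore p H = ⊥)
    (E : Subgroup H) (hE : IsPGroup p E)
    (hquad : ∀ a ∈ ⁅E, E⁆, (ρ a - 1) * (ρ a - 1) = 0)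
    (htri : ∀ a ∈ ⁅E, E⁆, ∀ g ∈ E, ∀ g' ∈ E, (ρ a - 1) * (ρ g - 1) * (ρ g' - 1) = 0) :
    ⁅E, E⁆ = ⊥ := by
  classical
  have hp : p.Prime := Fact.out
  by_contra hne
  obtain ⟨a, haE, ha1, hap, hacent⟩ := exists_central_order_p E hE hne
  obtain ⟨q, hq, hqp, Q, hQq, hEQ, z, hzQ, hz⟩ := exists_moved_inv hsolv hO E hE a hap ha1
  haveI : Fact q.Prime := ⟨hq⟩
  have haEE : a ∈ E := mem_E_of_comm haE
  have hC : HHThm.Concl p q 1 2 Q := by
    apply HHThm.main_field (Ne.symm hqp) ρ Q hQq a (hEQ haEE) 1 le_rfl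
    · rw [pow_one]; exact hap
    · refine ⟨z, hzQ, ?_⟩
      rw [Nat.sub_self, pow_zero, pow_one]
      intro h
      exact hz (hinj h)
    · rw [pow_two]; exact hquad a haE
  have hp3 : p = 3 ∧ q = 2 := by
    rcases hC with h | ⟨n₀, m, h1, h2, h3, h4, -, h6⟩
    · exfalso
      rw [pow_one] at h
      have := hp.two_le
      omega
    · have hn₀ : n₀ = 1 := le_antisymm h2 h1
      subst hn₀
      rw [Nat.sub_self, pow_zero, one_mul, pow_one] at h6
      rw [pow_one] at h4
      have h2le := hp.two_le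
      have hp3 : p = 3 := by omega
      refine ⟨hp3, ?_⟩
      subst hp3
      have h5 : q ∣ 2 := by
        have : q ∣ q ^ m := dvd_pow_self q (by omega)
        rw [← h4] at this
        exact this
      exact (Nat.prime_dvd_prime_iff_eq hq Nat.prime_two).mp h5
  obtain ⟨rfl, rfl⟩ := hp3
  -- choose a minimal subgroup
  let S : Set (Subgroup H) := {U | IsPGroup 2 U ∧ E ≤ Subgroup.normalizer (U : Set H) ∧
    ⁅U, Subgroup.zpowers a⁆ ≠ ⊥}
  have hQS : Q ∈ S := by
    refine ⟨hQq, hEQ, ?_⟩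
    intro h
    rw [Subgroup.commutator_eq_bot_iff_le_centralizer] at h
    have h1 := Subgroup.mem_centralizer_iff.mp (h hzQ) a (Subgroup.mem_zpowers a)
    apply hz
    rw [h1]
    group
  obtain ⟨T, hTS, hTmin⟩ := WellFounded.has_min (wellFounded_lt (α := Subgroup H)) S ⟨Q, hQS⟩
  have hMC : MinConf T E a := by
    refine ⟨hTS.1, hTS.2.1, haE, hacent, ?_, hTS.2.2, ?_⟩
    · have : a ^ 3 = 1 := hap
      rw [pow_succ, pow_two] at this
      exact this
    · intro U hUT hEU
      by_contra hne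
      exact hTmin U ⟨hTS.1.to_le hUT.le, hEU, hne⟩ hUT
  exact hMC.false ρ hinj (hquad a haE) (htri a haE)

end abstract

end Cfsg.Agent.Lib.Helper20.PLDer
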