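import Mathlib
import Cfsg.Agent.Lib.Helper24.SCH.Defs
import Cfsg.Agent.Lib.Helper5.PConstr
import Cfsg.Agent.Lib.Helper24.SCHB4
import Cfsg.Agent.Lib.Helper25.SCHC1
import Cfsg.Agent.Lib.Helper25.SCHC7
import Cfsg.Agent.Lib.Helper20.SCHC5
import Cfsg.Agent.Lib.Helper20.SCHC6
import Cfsg.Agent.Lib.Helper20.SCHC9
import Cfsg.Agent.Lib.Helper20.SCHC10
import Cfsg.Agent.Lib.Helper20.SCHC11

/-!
# Project SCH, row C13: `idx_le` (assembly of `kl1`).
-/

set_option autoImplicit false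

namespace Cfsg.Agent.Lib.Helper24.SCH

open scoped commutatorElement

universe u v

section C

variable {G : Type u} [Group G] [Finite G] {p : ℕ} [Fact p.Prime]

/-- `A = C_G(F)` is commutative when `A ≤ F`. -/
@[reducible] def schc13_commGroup (hC : sA p G ≤ Cfsg.pCore p G) : CommGroup ↥(sA p G) :=
  { (inferInstance : Group ↥(sA p G)) with
    mul_comm := by
      intro a b
      apply Subtype.ext
      have hb : (b : G) ∈ Subgroup.centralizer (Cfsg.pCore p G : Set G) := b.2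
      exact Subgroup.mem_centralizer_iff.mp hb (a : G) (hC a.2) }

/-- C13 [S-M] assembly: `kl1` with `ρ := (sGam p G).subtype`, C5–C12, `hC := h5_centralizer_pCore_le hsolv hO`. -/
theorem idx_le (hsolv : Cfsg.IsPSolvable p G) (hO : Cfsg.pPrimeCore p G = ⊥) (Q : Sylow p G)
    (hS : SchP p ↥(Q : Subgroup G)) : (Cfsg.pCore p G).relIndex (Q : Subgroup G) ≤ p := by
  have hC : sA p G ≤ Cfsg.pCore p G :=
    Cfsg.Agent.Lib.Helper5.h5_centralizer_pCore_le hsolv hO
  letI : CommGroup ↥(sA p G) := schc13_commGroup hC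
  have hA : IsPGroup p ↥(sA p G) :=
    (Cfsg.Agent.Lib.Helper1.pCore_isPGroup (G := G) p).to_le hC
  rw [← sE_card hC Q hS]
  exact kl1 (A := ↥(sA p G)) (Γ := ↥(sGam p G)) hA (sGam p G).subtype
    (Subgroup.subtype_injective _) (gam_psolv hsolv) (gam_core hC)
    (sE (p := p) (Q : Subgroup G)) (sE_elem hC Q hS)
    (sZ (p := p) (Q : Subgroup G)) (sD (p := p) (Q : Subgroup G)) (sD_le_sZ Q hS)
    (hyp_a hC Q) (hyp_b Q) (hyp_c hC Q hS)

end C

end Cfsg.Agent.Lib.Helper24.SCH
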