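import Mathlib
import Cfsg.Agent.Lib.Helper24.SCH.Defs
import Cfsg.Agent.Lib.Helper5.PConstr
import Cfsg.Agent.Lib.Helper21.PSeries
import Cfsg.Agent.S0634
import Cfsg.Agent.Lib.helper15.SCHD1
import Cfsg.Agent.Lib.Helper13.SCHD2

/-!
# Project SCH, row D3 (`sylow_le_ups_two`): core, with the statement of C18 (`core_free`) for the
quotient `G ⧸ ups p G 1` as a hypothesis.
-/

set_option autoImplicit false

namespace Cfsg.Agent.Lib.Helper24.SCH

open scoped commutatorElement
open Cfsg.Agent.Lib.Helper21 (ups)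

universe u v

section D

variable {G : Type u} [Group G] [Finite G] {p : ℕ} [Fact p.Prime]

theorem schd3_core (hsolv : Cfsg.IsPSolvable p G) (Q : Sylow p G)
    (hS : (∀ x y : ↥(Q : Subgroup G), x * y = y * x) ∨ SchP p ↥(Q : Subgroup G))
    (hcf : Cfsg.IsPSolvable p (G ⧸ ups p G 1) → Cfsg.pPrimeCore p (G ⧸ ups p G 1) = ⊥ →
      ∀ Qb : Sylow p (G ⧸ ups p G 1),
        ((∀ x y : ↥(Qb : Subgroup (G ⧸ ups p G 1)), x * y = y * x) ∨
          SchP p ↥(Qb : Subgroup (G ⧸ ups p G 1))) →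
        (Qb : Subgroup (G ⧸ ups p G 1)) = Cfsg.pCore p (G ⧸ ups p G 1)) :
    (Q : Subgroup G) ≤ ups p G 2 := by
  have hU1 : ups p G 1 = _ := Cfsg.Agent.S0634.ups_succ_even (G := G) p 0 (by decide)
  have hU2 : ups p G 2 = _ := Cfsg.Agent.S0634.ups_succ_odd (G := G) p 1 (by decide)
  have hO : Cfsg.pPrimeCore p (G ⧸ ups p G 1) = ⊥ :=
    Cfsg.Agent.S0634.pPrimeCore_quotient_comap_eq_bot p (ups p G 0) (ups p G 1) hU1
  set π := QuotientGroup.mk' (ups p G 1) with hπ
  have hπs : Function.Surjective π := QuotientGroup.mk'_surjective _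
  obtain ⟨e⟩ := sylow_quot_equiv (ups p G 1) Cfsg.Agent.Lib.Helper21.card_ups_one_coprime Q
  have hSb : (∀ x y : ↥((Q.mapSurjective (QuotientGroup.mk'_surjective (ups p G 1)) :
        Sylow p (G ⧸ ups p G 1)) : Subgroup (G ⧸ ups p G 1)), x * y = y * x) ∨
      SchP p ↥((Q.mapSurjective (QuotientGroup.mk'_surjective (ups p G 1)) :
        Sylow p (G ⧸ ups p G 1)) : Subgroup (G ⧸ ups p G 1)) := by
    rcases hS with h | h
    · left
      intro x y
      apply e.injective
      rw [map_mul, map_mul, h]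
    · right
      exact schP_equiv e.symm h
  have key := hcf
    (Cfsg.Agent.Lib.Helper5.h5_isPSolvable_of_surjective π hπs hsolv) hO
    (Q.mapSurjective (QuotientGroup.mk'_surjective (ups p G 1))) hSb
  intro x hx
  rw [hU2, Subgroup.mem_comap, ← key, Sylow.coe_mapSurjective]
  exact ⟨x, hx, rfl⟩

end D

end Cfsg.Agent.Lib.Helper24.SCH
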