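import Mathlib
import Cfsg.Agent.Lib.Helper24.SCH.Defs
import Cfsg.Agent.Lib.Helper20.HHThmH
import Cfsg.Agent.Lib.Helper20.HHAbelB

/-!
# Project SCH, row B5: `kl2` (a quadratic element of order `p` forces `p ≤ 3`; Hall–Higman Theorem B).
-/

set_option autoImplicit false

namespace Cfsg.Agent.Lib.Helper24.SCH

open scoped commutatorElement
open Module Cfsg.Agent.Lib.Helper11.FrobGrpCore

universe u v

section B

variable {A : Type u} [CommGroup A] [Finite A] {Γ : Type v} [Group Γ] [Finite Γ] {p : ℕ} [Fact p.Prime]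

/-- module form of `kl2`. -/
theorem schb5_aux [Module (ZMod p) (Additive A)] (ρ : Γ →* MulAut A) (hρ : Function.Injective ρ)
    (hsolv : Cfsg.IsPSolvable p Γ) (hO : Cfsg.pCore p Γ = ⊥) (x : Γ) (hxp : x ^ p = 1) (hx1 : x ≠ 1)
    (hquad : ∀ a : A, ρ x (ρ x a / a) = ρ x a / a) : p ≤ 3 := by
  have hp : p.Prime := Fact.out
  have hfin : Module.Finite (ZMod p) (Additive A) := Module.Finite.of_finite
  have hinj : Function.Injective (linRep p ρ) := by
    intro a b hab
    apply hρ
    apply MulEquiv.ext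
    intro v
    have h1 := congrArg (fun f => f (Additive.ofMul v)) hab
    simp only [linRep_apply] at h1
    exact congrArg Additive.toMul h1
  obtain ⟨q, hq, hqp, Q, hQ, hxQ, z, hz, hzne⟩ :=
    Cfsg.Agent.Lib.Helper20.HHThm.exists_moved hsolv hO x (m := 1) le_rfl
      (by rw [pow_one]; exact hxp) (by rw [Nat.sub_self, pow_zero, pow_one]; exact hx1)
  haveI : Fact q.Prime := ⟨hq⟩
  have h5 : (linRep p ρ x - 1) ^ 2 = 0 := by
    apply LinearMap.ext
    intro a
    rw [pow_two, Module.End.mul_apply, LinearMap.zero_apply]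
    have h1 : (linRep p ρ x - 1) a = Additive.ofMul (ρ x (Additive.toMul a) / Additive.toMul a) := by
      rw [LinearMap.sub_apply, Module.End.one_apply, linRep_apply]
      rfl
    rw [h1, LinearMap.sub_apply, Module.End.one_apply, linRep_apply, toMul_ofMul,
      hquad (Additive.toMul a)]
    exact sub_self _
  have hconcl := Cfsg.Agent.Lib.Helper20.HHThm.main_field (k := ZMod p) (fun h => hqp h.symm)
    (linRep p ρ) Q hQ x hxQ 1 le_rfl (by rw [pow_one]; exact hxp)
    ⟨z, hz, fun h => hzne (hinj h)⟩ 2 h5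
  rcases hconcl with h | ⟨n₀, m, h1, h2, h3, h4, _, h6⟩
  · rw [pow_one] at h
    omega
  · have hn₀ : n₀ = 1 := by omega
    rw [hn₀, Nat.sub_self, pow_zero, one_mul, pow_one] at h6
    omega

/-- B5 [M-L]. Quadratic action forces `p ≤ 3` (Hall–Higman Theorem B).  `V := Additive A` is a `ZMod p`-module
(`AddCommGroup.zmodModule`), `ρ₀ : Γ →* Module.End (ZMod p) V` from `ρ` (`AddMonoidHom.toZModLinearMap`), injective,
`(ρ₀ x - 1) ^ 2 = 0`; `Helper20.HHThm.exists_moved` (`m = 1`) gives a `q`-subgroup `R` normalised by `x` and `z ∈ R`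
moved by `x`; `Helper20.HHThm.main_field` (`n = 1`, `s = 2`) gives `Concl p q 1 2 R`: `p ≤ 2` or `p - 1 ≤ 2`. -/
theorem kl2 (hA : ∀ a : A, a ^ p = 1) (ρ : Γ →* MulAut A) (hρ : Function.Injective ρ)
    (hsolv : Cfsg.IsPSolvable p Γ) (hO : Cfsg.pCore p Γ = ⊥) (x : Γ) (hxp : x ^ p = 1) (hx1 : x ≠ 1)
    (hquad : ∀ a : A, ρ x (ρ x a / a) = ρ x a / a) : p ≤ 3 := by
  have hA' : ∀ a : Additive A, p • a = 0 := by
    intro a
    have := hA (Additive.toMul a)
    exact congrArg Additive.ofMul this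
  exact @schb5_aux A _ _ Γ _ _ p _ (AddCommGroup.zmodModule hA') ρ hρ hsolv hO x hxp hx1 hquad

end B

end Cfsg.Agent.Lib.Helper24.SCH
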