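import Mathlib
import Cfsg.Agent.Lib.Helper24.SCH.Defs
import Cfsg.Agent.Lib.Helper20.SCHD3core
import Cfsg.Agent.Lib.Helper20.SCHC6
import Cfsg.Agent.Lib.Helper20.SCHC13
import Cfsg.Agent.Lib.Helper25.SCHC15
import Cfsg.Agent.Lib.helper15.SCHC16
import Cfsg.Agent.Lib.Helper9.SCHC17core
import Cfsg.Agent.Lib.Helper9.SCHC18core

/-!
# Project SCH, row D3 (`sylow_le_ups_two`), verbatim vs `Helper24/SCH/Skel.lean.txt`.

The file does not declare the verbatim names `idx_ne` / `core_free` (rows C17 / C18 of helper9): it feeds helper9's landed cores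
`schc17_core` / `schc18_core` with the landed rows C6, C13, C15, C16 under the own name `schd3_core_free`.
-/

set_option autoImplicit false

namespace Cfsg.Agent.Lib.Helper24.SCH

open scoped commutatorElement
open Cfsg.Agent.Lib.Helper21 (ups)

universe u v

section D

variable {G : Type u} [Group G] [Finite G] {p : ℕ} [Fact p.Prime]

/-- the statement of C18 (`core_free`), from helper9's cores and the landed rows C6, C13, C15, C16 -/
theorem schd3_core_free (hsolv : Cfsg.IsPSolvable p G) (hO : Cfsg.pPrimeCore p G = ⊥) (Q : Sylow p G)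
    (hS : (∀ x y : ↥(Q : Subgroup G), x * y = y * x) ∨ SchP p ↥(Q : Subgroup G)) :
    (Q : Subgroup G) = Cfsg.pCore p G :=
  schc18_core hsolv hO Q hS (fun h => idx_le hsolv hO Q h)
    (fun h => schc17_core hsolv hO Q h (fun hC => gam_core hC)
      (fun hC hidx => card_sA hC Q h hidx) (fun hC hidx => pCore_abelian hC Q h hidx))

/-- D3 [M]. Pattern of `Helper20.HHAbel.pow_mem_ups_two`: pass to `G ⧸ ups p G 1` (core-free by
`S0634.pPrimeCore_quotient_comap_eq_bot`), `core_free` there for `Q.mapSurjective` (D1, D2), pull back. -/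
theorem sylow_le_ups_two (hsolv : Cfsg.IsPSolvable p G) (Q : Sylow p G)
    (hS : (∀ x y : ↥(Q : Subgroup G), x * y = y * x) ∨ SchP p ↥(Q : Subgroup G)) :
    (Q : Subgroup G) ≤ ups p G 2 :=
  schd3_core hsolv Q hS (fun h1 h2 Qb h3 => schd3_core_free h1 h2 Qb h3)

end D

end Cfsg.Agent.Lib.Helper24.SCH
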