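import Mathlib
import Cfsg.Agent.Lib.Helper19.SPD.Defs

/-!
# Project SPD (S5961), row K3: fixed-point counting.  `y ^ r = 1`, `W` invariant without nonzero fixed vectors:
`ord_r(q) ∣ dim W`.
-/

set_option autoImplicit false
set_option linter.unusedVariables false
set_option linter.unusedSectionVars false

namespace Cfsg.Agent.Lib.Helper19.SPD

open Polynomial

variable {F : Type*} [Field F] {d : ℕ}

/-- K3 -/
theorem k3_dvd [Fintype F] {q : ℕ} (hq : Fintype.card F = q) (r : ℕ) [Fact r.Prime]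
    (y : (Fin d ⊕ Fin d → F) →ₗ[F] (Fin d ⊕ Fin d → F)) (hy : y ^ r = 1)
    (W : Submodule F (Fin d ⊕ Fin d → F)) (hW : Inv y W) (hff : FF y W) :
    orderOf (q : ZMod r) ∣ Module.finrank F W := by
  classical
  have : Fintype ↥W := Fintype.ofFinite ↥W
  let f : Function.End ↥W := fun v => ⟨y v.1, hW v.1 v.2⟩
  have hpow : ∀ k : ℕ, ∀ v : ↥W, ((f ^ k) v : Fin d ⊕ Fin d → F) = (y ^ k) v.1 := by
    intro k
    induction k with
    | zero => intro v; rw [pow_zero, pow_zero]; rfl
    | succ k ih =>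
      intro v
      rw [pow_succ', pow_succ']
      show y ((f ^ k) v).1 = _
      rw [ih v]
      rfl
  have hf : f ^ r ^ 1 = 1 := by
    rw [pow_one]
    funext v
    apply Subtype.ext
    rw [hpow r v, hy]
    rfl
  have h1 := Equiv.Perm.card_fixedPoints_modEq (p := r) (n := 1) hf
  have h2 : Fintype.card (Function.fixedPoints f) = 1 := by
    rw [Fintype.card_eq_one_iff]
    refine ⟨⟨0, ?_⟩, ?_⟩
    · show f 0 = 0
      apply Subtype.ext
      show y (0 : ↥W).1 = (0 : ↥W).1
      rw [Submodule.coe_zero, map_zero]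
    · rintro ⟨v, hv⟩
      apply Subtype.ext
      apply Subtype.ext
      have hv' : f v = v := hv
      have h3 : y v.1 = v.1 := congrArg Subtype.val hv'
      show v.1 = 0
      exact hff v.1 v.2 h3
  have h3 : Fintype.card ↥W = q ^ Module.finrank F ↥W := by
    rw [← hq]
    exact Module.card_eq_pow_finrank (K := F) (V := ↥W)
  rw [h2, h3] at h1
  rw [orderOf_dvd_iff_pow_eq_one]
  have h4 : ((q ^ Module.finrank F ↥W : ℕ) : ZMod r) = ((1 : ℕ) : ZMod r) :=
    (ZMod.natCast_eq_natCast_iff _ _ _).mpr h1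
  rw [Nat.cast_pow, Nat.cast_one] at h4
  exact h4

end Cfsg.Agent.Lib.Helper19.SPD
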