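import Mathlib
import Cfsg.Agent.Lib.helper17.STM.Defs
import Cfsg.Agent.Lib.helper17.STM.Defs2
import Cfsg.Agent.Lib.helper7.StA

/-!
# Project STM (designer helper17), row H1 (VERBATIM from `helper17/STM/Skel1.lean.txt`): the rank one theory for `S.sts a`.
-/

set_option autoImplicit false
set_option linter.unusedSectionVars false

namespace Cfsg.Agent.Lib.helper17.STM

open Cfsg.Agent.Lib.helper15.St2 Cfsg.Agent.Lib.helper3.STC Cfsg.Agent.Lib.Lead.STD

universe v w

/-- the quadratic extension of a finite field is finite -/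
theorem stmh1_finite {F : Type*} [Field F] [Finite F] {A B : F} : Finite (Kq F A B) :=
  Finite.of_equiv _ (QuadraticAlgebra.equivProd _ _).symm

namespace SysM

variable {F : Type*} [Field F] {A B : F} [Fact (∀ r : F, r ^ 2 ≠ -B + A * r)] {ι : Type*} {G : Type*} [Group G] (S : SysM F A B ι G)

theorem stmh1_x (a : ι ⊕ ι) (t : Kq F A B) : (S.sts a).x t = S.xs a t := rfl

theorem stmh1_y (a : ι ⊕ ι) (t : Kq F A B) : (S.sts a).y t = S.xs (ng a) (-(star t)) := rfl

theorem stmh1_w (a : ι ⊕ ι) (t : Kq F A B) : (S.sts a).w t = S.ws a t := by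
  rw [St.w_def, stmh1_x, stmh1_y, star_neg, neg_neg, kq_star_inv]
  rfl

theorem stmh1_h (a : ι ⊕ ι) (t : Kq F A B) : (S.sts a).h t = S.hs a t := by
  unfold St.h hs
  rw [stmh1_w, stmh1_w]

theorem stmh1_ws_swap (a : ι ⊕ ι) (t : Kq F A B) (ht : t ≠ 0) : S.ws (ng a) t = S.ws a (star t)⁻¹ := by
  have hn : ng (ng a) = a := by cases a <;> rfl
  have hst : star t ≠ 0 := kq_star_ne_zero ht
  have h := (S.sts a).W_swap false (-(star t)) (neg_ne_zero.2 hst)
  have e1 : (S.sts a).W false (-(star t)) = S.ws (ng a) t := by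
    unfold St.W ws
    show S.xs (ng a) (-(star (-(star t)))) * S.xs a (-(-(star t))⁻¹) * S.xs (ng a) (-(star (-(star t)))) = _
    rw [hn, star_neg, star_star, neg_neg, inv_neg, neg_neg]
  have e2 : (S.sts a).W (!false) (-(-(star t))⁻¹) = S.ws a (star t)⁻¹ := by
    have : (-(-(star t))⁻¹ : Kq F A B) = (star t)⁻¹ := by rw [inv_neg, neg_neg]
    rw [this]
    exact stmh1_w S a (star t)⁻¹
  rw [← e1, h, e2]

variable [DecidableEq ι]

section H
variable [Finite F]

omit [DecidableEq ι] in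
/-- H1 [S]  model STB H1 (`Helper20.STBH1`): one-liners from the rank one theory of helper7 / helper15 for `S.sts a : St (Kq F A B) G` (`Finite (Kq F A B)`: `Finite.of_equiv _ (QuadraticAlgebra.equivProd _ _).symm`; B2 translates).
In `lus` the rank one identity is `x t * y u' = y (u'/(1+tu')) * h (1+tu') * x (t/(1+tu'))` at `u' = -(star u)` (`y s = xs (ng a) (-(star s))`). -/
theorem hs_mul (a : ι ⊕ ι) (t u : Kq F A B) (ht : t ≠ 0) (hu : u ≠ 0) : S.hs a t * S.hs a u = S.hs a (t * u) := by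
  have : Finite (Kq F A B) := stmh1_finite
  have h := Cfsg.Agent.Lib.helper7.St.h_mul' (S.sts a) t u ht hu
  rwa [stmh1_h, stmh1_h, stmh1_h] at h

omit [DecidableEq ι] in
theorem hs_inv (a : ι ⊕ ι) (t : Kq F A B) (ht : t ≠ 0) : (S.hs a t)⁻¹ = S.hs a t⁻¹ := by
  have : Finite (Kq F A B) := stmh1_finite
  have h := Cfsg.Agent.Lib.helper7.St.h_inv' (S.sts a) t ht
  rwa [stmh1_h, stmh1_h] at h

omit [DecidableEq ι] in
theorem ws_mul_ws (a : ι ⊕ ι) (c d : Kq F A B) (hc : c ≠ 0) (hd : d ≠ 0) : S.ws a c * S.ws a d = S.hs a (-(c * d⁻¹)) := by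
  have : Finite (Kq F A B) := stmh1_finite
  have h := Cfsg.Agent.Lib.helper7.St.w_mul_w'' (S.sts a) c d hc hd
  rwa [stmh1_w, stmh1_w, stmh1_h] at h

omit [DecidableEq ι] in
theorem ws_eq_ws_one_mul_hs (a : ι ⊕ ι) (u : Kq F A B) (hu : u ≠ 0) : S.ws a u = S.ws a 1 * S.hs a u⁻¹ := by
  have : Finite (Kq F A B) := stmh1_finite
  have h := Cfsg.Agent.Lib.helper7.St.w_eq_w_one_mul_h (S.sts a) u hu
  rwa [stmh1_w, stmh1_w, stmh1_h] at h

omit [DecidableEq ι] in
theorem lus (a : ι ⊕ ι) (t u : Kq F A B) (hd : 1 - t * star u ≠ 0) :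
    S.xs a t * S.xs (ng a) u = S.xs (ng a) (u / (1 - star t * u)) * S.hs a (1 - t * star u) * S.xs a (t / (1 - t * star u)) := by
  have e : 1 + t * (-(star u)) = 1 - t * star u := by ring
  have : Finite (Kq F A B) := stmh1_finite
  have h := Cfsg.Agent.Lib.helper7.St.lu (S.sts a) t (-(star u)) (by rw [e]; exact hd)
  rw [stmh1_x, stmh1_y, stmh1_y, stmh1_h, stmh1_x, e, star_neg, star_star, neg_neg] at h
  rw [h]
  congr 3
  rw [star_div₀, star_neg, star_star, star_sub, star_one, star_mul', star_star]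
  ring

omit [Finite F] [DecidableEq ι] in
theorem lus0 (a : ι ⊕ ι) (t : Kq F A B) : S.xs a t * S.xs (ng a) (star t)⁻¹ = S.ws a t * S.xs a (-t) := by
  have h := Cfsg.Agent.Lib.helper7.St.lu0 (S.sts a) t
  rwa [stmh1_x, stmh1_y, stmh1_w, stmh1_x, star_neg, neg_neg, kq_star_inv] at h

omit [DecidableEq ι] in
theorem hs_swap (a : ι ⊕ ι) (u : Kq F A B) (hu : u ≠ 0) : S.hs (ng a) u = S.hs a (star u)⁻¹ := by
  unfold hs
  rw [stmh1_ws_swap S a u hu, stmh1_ws_swap S a (-1) (by simp)]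
  have e : (star (-1 : Kq F A B))⁻¹ = -1 := by rw [star_neg, star_one, inv_neg, inv_one]
  rw [e]

end H

end SysM

end Cfsg.Agent.Lib.helper17.STM
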