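import Mathlib
import Cfsg.Agent.Lib.Lead.STB.Defs
import Cfsg.Agent.Lib.Lead.STB.Defs2
import Cfsg.Agent.Lib.Lead.STB.Defs3
import Cfsg.Agent.Lib.Lead.STB.Defs4
import Cfsg.Agent.Lib.Lead.STB.Sub

/-!
# Project STB (designer lead), row R0 (VERBATIM from `Lead/STB/Skel3.lean.txt`): the action of `TbL`, `TbS` on vectors.
-/

set_option autoImplicit false
set_option linter.unusedSectionVars false

namespace Cfsg.Agent.Lib.Lead.STB

open Matrix Cfsg.Agent.Lib.helper15.St2 Cfsg.Agent.Lib.helper3.STC Cfsg.Agent.Lib.Lead.STD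

universe v w

theorem stbr0_single_mulVec {n : Type*} [Fintype n] [DecidableEq n] {K : Type*} [Field K] (a b : n) (c : K) (v : n → K) :
    Matrix.single a b c *ᵥ v = Pi.single a (c * v b) := by
  ext m
  simp only [Matrix.mulVec, dotProduct, Matrix.single_apply, Pi.single_apply]
  by_cases hm : m = a
  · subst hm
    simp
  · have : ∀ x, ¬ (a = m ∧ b = x) := fun x h => hm h.1.symm
    simp [hm, this]

theorem stbr0_vecMul_single {n : Type*} [Fintype n] [DecidableEq n] {K : Type*} [Field K] (a b : n) (c : K) (v : n → K) :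
    v ᵥ* Matrix.single a b c = Pi.single b (c * v a) := by
  ext m
  simp only [Matrix.vecMul, dotProduct, Matrix.single_apply, Pi.single_apply]
  by_cases hm : m = b
  · subst hm
    simp [mul_comm]
  · have : ∀ x, ¬ (a = x ∧ b = m) := fun x h => hm h.2.symm
    simp [hm, this]

section R0
variable {l : Type*} [Fintype l] [DecidableEq l] {K : Type*} [Field K]

/-- R0 [S-M]  (MAT) the action of `TbL`, `TbS` on vectors (model STD R0 `Td_mulVec`; `Matrix.add_mulVec`, `Matrix.sub_mulVec`, `Matrix.single_mulVec`-type lemmas as in `Helper21.STCM.Vec`). -/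
theorem TbL_mulVec (a b : l ⊕ l) (t : K) (v : Ix l → K) :
    TbL a b t *ᵥ v = v + Pi.single (Sum.inr a) (t * v (Sum.inr b)) - Pi.single (Sum.inr (ng b)) (t * v (Sum.inr (ng a))) := by
  unfold TbL
  rw [Matrix.sub_mulVec, Matrix.add_mulVec, Matrix.one_mulVec, stbr0_single_mulVec, stbr0_single_mulVec]

theorem vecMul_TbL (a b : l ⊕ l) (t : K) (v : Ix l → K) :
    v ᵥ* TbL a b t = v + Pi.single (Sum.inr b) (t * v (Sum.inr a)) - Pi.single (Sum.inr (ng a)) (t * v (Sum.inr (ng b))) := by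
  unfold TbL
  rw [Matrix.vecMul_sub, Matrix.vecMul_add, Matrix.vecMul_one, stbr0_vecMul_single, stbr0_vecMul_single]

theorem TbS_mulVec (a : l ⊕ l) (t : K) (v : Ix l → K) :
    TbS a t *ᵥ v = v + Pi.single i0 (t * v (Sum.inr (ng a))) - Pi.single (Sum.inr a) (2 * t * v i0) - Pi.single (Sum.inr a) (t * t * v (Sum.inr (ng a))) := by
  unfold TbS
  rw [Matrix.sub_mulVec, Matrix.sub_mulVec, Matrix.add_mulVec, Matrix.one_mulVec, stbr0_single_mulVec, stbr0_single_mulVec,
    stbr0_single_mulVec]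

theorem vecMul_TbS (a : l ⊕ l) (t : K) (v : Ix l → K) :
    v ᵥ* TbS a t = v + Pi.single (Sum.inr (ng a)) (t * v i0) - Pi.single i0 (2 * t * v (Sum.inr a)) - Pi.single (Sum.inr (ng a)) (t * t * v (Sum.inr a)) := by
  unfold TbS
  rw [Matrix.vecMul_sub, Matrix.vecMul_sub, Matrix.vecMul_add, Matrix.vecMul_one, stbr0_vecMul_single, stbr0_vecMul_single,
    stbr0_vecMul_single]

end R0

end Cfsg.Agent.Lib.Lead.STB
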