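import Mathlib
import Cfsg.Agent.Lib.helper17.STM.Defs
import Cfsg.Agent.Lib.helper17.STM.Defs2
import Cfsg.Agent.Lib.helper17.STM.Defs3
import Cfsg.Agent.Lib.helper17.STM.Sub
import Cfsg.Agent.Lib.Helper20.STBR0

/-!
# Project STM (designer helper17), rows R0 + R0c (VERBATIM from `helper17/STM/Skel3.lean.txt`): the action of `TmL`, `TmS` on vectors.
-/

set_option autoImplicit false
set_option linter.unusedSectionVars false
set_option linter.unusedSimpArgs false

namespace Cfsg.Agent.Lib.helper17.STM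

open Matrix Cfsg.Agent.Lib.helper15.St2 Cfsg.Agent.Lib.helper3.STC Cfsg.Agent.Lib.Lead.STD

universe v w

section R0
variable {l : Type*} [Fintype l] [DecidableEq l] {F : Type*} [Field F] {A B : F}

/-- R0 [S-M]  (MAT) the action of `TmL`, `TmS` on vectors (model STB R0 `Helper20.STBR0`; `Matrix.add_mulVec`, `Matrix.sub_mulVec`, `stbr0_single_mulVec`-type lemmas: `Matrix.single a b c *ᵥ v = Pi.single a (c * v b)`). -/
theorem TmL_mulVec (a b : l ⊕ l) (t : F) (v : Im l → F) :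
    TmL a b t *ᵥ v = v + Pi.single (Sum.inl a) (t * v (Sum.inl b)) - Pi.single (Sum.inl (ng b)) (t * v (Sum.inl (ng a))) := by
  unfold TmL
  rw [Matrix.sub_mulVec, Matrix.add_mulVec, Matrix.one_mulVec, Cfsg.Agent.Lib.Lead.STB.stbr0_single_mulVec,
    Cfsg.Agent.Lib.Lead.STB.stbr0_single_mulVec]

theorem vecMul_TmL (a b : l ⊕ l) (t : F) (v : Im l → F) :
    v ᵥ* TmL a b t = v + Pi.single (Sum.inl b) (t * v (Sum.inl a)) - Pi.single (Sum.inl (ng a)) (t * v (Sum.inl (ng b))) := by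
  unfold TmL
  rw [Matrix.vecMul_sub, Matrix.vecMul_add, Matrix.vecMul_one, Cfsg.Agent.Lib.Lead.STB.stbr0_vecMul_single,
    Cfsg.Agent.Lib.Lead.STB.stbr0_vecMul_single]

theorem TmS_mulVec (a : l ⊕ l) (u : Kq F A B) (v : Im l → F) :
    TmS a u *ᵥ v = v + Pi.single iz1 (u.re * v (Sum.inl (ng a))) + Pi.single iz2 (u.im * v (Sum.inl (ng a)))
      - Pi.single (Sum.inl a) ((2 * u.re + A * u.im) * v iz1) - Pi.single (Sum.inl a) ((A * u.re + 2 * B * u.im) * v iz2)
      - Pi.single (Sum.inl a) (nm u * v (Sum.inl (ng a))) := by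
  unfold TmS
  simp only [Matrix.sub_mulVec, Matrix.add_mulVec, Matrix.one_mulVec, Cfsg.Agent.Lib.Lead.STB.stbr0_single_mulVec]

theorem vecMul_TmS (a : l ⊕ l) (u : Kq F A B) (v : Im l → F) :
    v ᵥ* TmS a u = v + Pi.single (Sum.inl (ng a)) (u.re * v iz1) + Pi.single (Sum.inl (ng a)) (u.im * v iz2)
      - Pi.single iz1 ((2 * u.re + A * u.im) * v (Sum.inl a)) - Pi.single iz2 ((A * u.re + 2 * B * u.im) * v (Sum.inl a))
      - Pi.single (Sum.inl (ng a)) (nm u * v (Sum.inl a)) := by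
  unfold TmS
  simp only [Matrix.vecMul_sub, Matrix.vecMul_add, Matrix.vecMul_one, Cfsg.Agent.Lib.Lead.STB.stbr0_vecMul_single]

/-- R0c [S-M]  (MAT) NEW: the special cases of R0 used below, in terms of `evm` and `ew` (from R0; `funext c`, cases on `c`; `pq_def`; `ew_iz1`, `ew_iz2`, `ew_inl`; `Pi.single_apply`). -/
theorem TmL_mulVec_ew (a b : l ⊕ l) (t : F) (z : Kq F A B) : TmL a b t *ᵥ ew z = ew z := by
  rw [TmL_mulVec, ew_inl, ew_inl]
  simp

theorem TmS_mulVec_ew (a : l ⊕ l) (u z : Kq F A B) : TmS a u *ᵥ ew z = ew z - pq u z • evm (Sum.inl a) := by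
  rw [TmS_mulVec, ew_inl, ew_iz1, ew_iz2]
  funext c
  simp only [mul_zero, Pi.single_zero, add_zero, sub_zero, Pi.sub_apply, Pi.smul_apply, evm, Pi.single_apply, smul_eq_mul, pq_def, Pi.zero_apply]
  by_cases hc : c = Sum.inl a
  · simp only [hc, if_true]
    ring
  · simp only [hc, if_false]
    ring

theorem TmS_mulVec_ng (a : l ⊕ l) (u : Kq F A B) : TmS a u *ᵥ evm (Sum.inl (ng a)) = evm (Sum.inl (ng a)) + ew u - nm u • evm (Sum.inl a) := by
  rw [TmS_mulVec]
  have h1 : (evm (Sum.inl (ng a)) : Im l → F) (Sum.inl (ng a)) = 1 := by simp [evm]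
  have h2 : (evm (Sum.inl (ng a)) : Im l → F) iz1 = 0 := by simp [evm]
  have h3 : (evm (Sum.inl (ng a)) : Im l → F) iz2 = 0 := by simp [evm]
  rw [h1, h2, h3]
  funext c
  rcases c with c | i
  · simp only [mul_one, mul_zero, Pi.single_zero, sub_zero, Pi.add_apply, Pi.sub_apply, Pi.smul_apply, ew_inl, evm,
      Pi.single_apply, smul_eq_mul]
    simp
  · fin_cases i
    · simp [ew, evm, Pi.single_apply]
    · simp [ew, evm, Pi.single_apply]

theorem TmS_mulVec_of_ne (a : l ⊕ l) (u : Kq F A B) {c : l ⊕ l} (hc : c ≠ ng a) : TmS a u *ᵥ evm (Sum.inl c) = evm (Sum.inl c) := by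
  rw [TmS_mulVec]
  have h1 : (evm (Sum.inl c) : Im l → F) (Sum.inl (ng a)) = 0 := by
    simp only [evm, Pi.single_apply]
    rw [if_neg]
    exact fun h => hc (Sum.inl_injective h).symm
  have h2 : (evm (Sum.inl c) : Im l → F) iz1 = 0 := by simp [evm]
  have h3 : (evm (Sum.inl c) : Im l → F) iz2 = 0 := by simp [evm]
  rw [h1, h2, h3]
  simp

end R0

end Cfsg.Agent.Lib.helper17.STM
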