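import Mathlib
import Cfsg.Agent.Lib.helper17.STM.Defs
import Cfsg.Agent.Lib.helper17.STM.Defs2
import Cfsg.Agent.Lib.helper17.STM.Defs3
import Cfsg.Agent.Lib.helper17.STM.Sub
import Cfsg.Agent.Lib.Helper24.STCI1
import Cfsg.Agent.Lib.Helper20.STMR0
import Cfsg.Agent.Lib.Helper20.STMR3

/-!
# Project STM (designer helper17), rows R5s + R5t + R8 (VERBATIM from `helper17/STM/Skel3.lean.txt`): the columns of the short Weyl and torus elements, the spin element is in the kernel.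
-/

set_option autoImplicit false
set_option linter.unusedSectionVars false
set_option linter.unusedSimpArgs false
set_option linter.unusedVariables false

namespace Cfsg.Agent.Lib.helper17.STM

open Matrix Cfsg.Agent.Lib.helper15.St2 Cfsg.Agent.Lib.helper3.STC Cfsg.Agent.Lib.Lead.STD

universe v w

theorem stmr5s_Em_ng {ι l : Type*} (e : ι ↪ l) (a : ι ⊕ ι) : Em e (ng a) = ng (Em e a) := by
  cases a <;> rfl

section MAT
variable {l : Type*} [Fintype l] [DecidableEq l] {F : Type*} [Field F] {A B : F} [Fact (∀ r : F, r ^ 2 ≠ -B + A * r)]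

/-- the reflection formula in the quadratic extension -/
theorem stmr5_refl (u z : Kq F A B) (hu : u ≠ 0) :
    z - (pq u z * (nm u)⁻¹) • u = -(u / star u) * star z := by
  have hs : star u ≠ 0 := kq_star_ne_zero hu
  have hn : algebraMap F (Kq F A B) (nm u) ≠ 0 := by
    rw [kq_algebraMap_nm]
    exact mul_ne_zero hu hs
  rw [kq_smul_def, map_mul, map_inv₀]
  unfold pq
  rw [kq_algebraMap_trq, kq_algebraMap_nm, star_mul', star_star]
  field_simp
  ring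

theorem stmr5_ws_a (a : l ⊕ l) (u : Kq F A B) (hu : u ≠ 0) :
    (TmS a u * TmS (ng a) (star u)⁻¹ * TmS a u) *ᵥ evm (Sum.inl a) = (-(nm u)⁻¹) • evm (Sum.inl (ng a)) := by
  have hn : nm u ≠ 0 := nm_ne_zero hu
  have hna : a ≠ ng a := ne_ng a
  rw [kq_star_inv_eq]
  have h2 := TmS_mulVec_ng (l := l) (ng a) ((nm u)⁻¹ • u)
  rw [ng_ng] at h2
  have h3 := TmS_mulVec_of_ne (l := l) a u hna
  have h4 := TmS_mulVec_of_ne (l := l) (ng a) ((nm u)⁻¹ • u) (ne_ng (ng a))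
  rw [← Matrix.mulVec_mulVec, ← Matrix.mulVec_mulVec]
  simp only [h2, h3, h4, Matrix.mulVec_sub, Matrix.mulVec_add, Matrix.mulVec_smul, TmS_mulVec_ew, TmS_mulVec_ng, ew_smul, nm_smul,
    pq_smul_right, pq_smul_left, pq_self]
  funext c
  simp only [Pi.add_apply, Pi.sub_apply, Pi.smul_apply, smul_eq_mul, Pi.neg_apply]
  field_simp
  ring

theorem stmr5_ws_na (a : l ⊕ l) (u : Kq F A B) (hu : u ≠ 0) :
    (TmS a u * TmS (ng a) (star u)⁻¹ * TmS a u) *ᵥ evm (Sum.inl (ng a)) = (-(nm u)) • evm (Sum.inl a) := by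
  have hn : nm u ≠ 0 := nm_ne_zero hu
  have hna : a ≠ ng a := ne_ng a
  rw [kq_star_inv_eq]
  have h2 := TmS_mulVec_ng (l := l) (ng a) ((nm u)⁻¹ • u)
  rw [ng_ng] at h2
  have h3 := TmS_mulVec_of_ne (l := l) a u hna
  have h4 := TmS_mulVec_of_ne (l := l) (ng a) ((nm u)⁻¹ • u) (ne_ng (ng a))
  rw [← Matrix.mulVec_mulVec, ← Matrix.mulVec_mulVec]
  simp only [h2, h3, h4, Matrix.mulVec_sub, Matrix.mulVec_add, Matrix.mulVec_smul, TmS_mulVec_ew, TmS_mulVec_ng, ew_smul, nm_smul,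
    pq_smul_right, pq_smul_left, pq_self]
  funext c
  simp only [Pi.add_apply, Pi.sub_apply, Pi.smul_apply, smul_eq_mul, Pi.neg_apply]
  field_simp
  ring

theorem stmr5_ew_sub (z z' : Kq F A B) : ew (l := l) (z - z') = ew z - ew z' := by
  rw [sub_eq_add_neg, ew_add, ew_neg, sub_eq_add_neg]

theorem stmr5_ws_ew (a : l ⊕ l) (u : Kq F A B) (hu : u ≠ 0) (z : Kq F A B) :
    (TmS a u * TmS (ng a) (star u)⁻¹ * TmS a u) *ᵥ ew z = ew (-(u / star u) * star z) := by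
  have hn : nm u ≠ 0 := nm_ne_zero hu
  have hna : a ≠ ng a := ne_ng a
  rw [← stmr5_refl u z hu, stmr5_ew_sub, ew_smul, kq_star_inv_eq]
  have h2 := TmS_mulVec_ng (l := l) (ng a) ((nm u)⁻¹ • u)
  rw [ng_ng] at h2
  have h3 := TmS_mulVec_of_ne (l := l) a u hna
  have h4 := TmS_mulVec_of_ne (l := l) (ng a) ((nm u)⁻¹ • u) (ne_ng (ng a))
  rw [← Matrix.mulVec_mulVec, ← Matrix.mulVec_mulVec]
  simp only [h2, h3, h4, Matrix.mulVec_sub, Matrix.mulVec_add, Matrix.mulVec_smul, TmS_mulVec_ew, TmS_mulVec_ng, ew_smul, nm_smul,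
    pq_smul_right, pq_smul_left, pq_self]
  funext c
  simp only [Pi.add_apply, Pi.sub_apply, Pi.smul_apply, smul_eq_mul, Pi.neg_apply]
  field_simp
  ring

theorem stmr5_ws_ne (a : l ⊕ l) (u : Kq F A B) {c : l ⊕ l} (h1 : c ≠ a) (h2 : c ≠ ng a) :
    (TmS a u * TmS (ng a) (star u)⁻¹ * TmS a u) *ᵥ evm (Sum.inl c) = evm (Sum.inl c) := by
  have h1' : c ≠ ng (ng a) := by rw [ng_ng]; exact h1
  rw [← Matrix.mulVec_mulVec, ← Matrix.mulVec_mulVec, TmS_mulVec_of_ne a u h2, TmS_mulVec_of_ne (ng a) _ h1', TmS_mulVec_of_ne a u h2]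

end MAT

namespace SysM

namespace Rep

variable {F : Type*} [Field F] {A B : F} [Fact (∀ r : F, r ^ 2 ≠ -B + A * r)] {ι : Type*} {G : Type*} [Group G] {S : SysM F A B ι G}
  {l : Type*} [Fintype l] [DecidableEq l] (R : S.Rep l)

theorem stmr5_M_ws (a : ι ⊕ ι) (u : Kq F A B) :
    R.M (S.ws a u) = TmS (Em R.e a) u * TmS (ng (Em R.e a)) (star u)⁻¹ * TmS (Em R.e a) u := by
  unfold SysM.ws
  rw [M_mul, M_mul, M_xs, M_xs, stmr5s_Em_ng]

/-- R5s [M]  ALL the columns of the short Weyl element: `R.M (ws a u) = TmS a' u * TmS (ng a') (star u)⁻¹ * TmS a' u` (`Em_ng`), R0c three times on each vector.  With `u' = (star u)⁻¹ = (nm u)⁻¹ • u` (`kq_star_inv_eq`):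
`e_a ↦ e_a ↦ e_a + ew u' - nm u' e_{-a} ↦ …`; on `ew z`: `ew z ↦ ew z - pq u z e_a ↦ ew z - pq u z e_a - (pq u' z - pq u z nm u') e_{-a} - pq u z ew u' ↦ …`; the identity needed in `Kq F A B` is the reflection formula
`z - (pq u z / nm u) • u = -(u / star u) * star z` (`kq_algebraMap_nm`, `kq_algebraMap_trq` at `u * star z`, `pq` is `trq (u * star z)`; `field_simp`), `nm u' = (nm u)⁻¹` (`nm_inv`, `nm_star`), `pq u' z = (nm u)⁻¹ * pq u z` (`pq_smul_left`). -/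
theorem M_ws_fst (a : ι ⊕ ι) (u : Kq F A B) (hu : u ≠ 0) : R.M (S.ws a u) *ᵥ evm (Ebm R.e a) = (-(nm u)⁻¹) • evm (Ebm R.e (ng a)) := by
  rw [stmr5_M_ws]
  show _ = (-(nm u)⁻¹) • evm (Sum.inl (Em R.e (ng a)))
  rw [stmr5s_Em_ng]
  exact stmr5_ws_a _ u hu

theorem M_ws_nfst (a : ι ⊕ ι) (u : Kq F A B) (hu : u ≠ 0) : R.M (S.ws a u) *ᵥ evm (Ebm R.e (ng a)) = (-(nm u)) • evm (Ebm R.e a) := by
  rw [stmr5_M_ws]
  show _ *ᵥ evm (Sum.inl (Em R.e (ng a))) = _
  rw [stmr5s_Em_ng]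
  exact stmr5_ws_na _ u hu

theorem M_ws_ew (a : ι ⊕ ι) (u : Kq F A B) (hu : u ≠ 0) (z : Kq F A B) : R.M (S.ws a u) *ᵥ ew z = ew (-(u / star u) * star z) := by
  rw [stmr5_M_ws]
  exact stmr5_ws_ew _ u hu z

theorem M_ws_of_ne (a : ι ⊕ ι) (u : Kq F A B) (hu : u ≠ 0) {c : l ⊕ l} (h1 : c ≠ Em R.e a) (h2 : c ≠ Em R.e (ng a)) :
    R.M (S.ws a u) *ᵥ evm (Sum.inl c) = evm (Sum.inl c) := by
  rw [stmr5_M_ws]
  rw [stmr5s_Em_ng] at h2
  exact stmr5_ws_ne _ u h1 h2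

/-- R5t [S-M]  the short torus elements: `hs a u = ws a u * ws a (-1)`, R5s twice (`nm (-1) = 1`; `star (-1) = -1`; `-(u / star u) * star (-(-1 / -1) * star z) = (u / star u) * z`). -/
theorem M_hs_fst (a : ι ⊕ ι) (u : Kq F A B) (hu : u ≠ 0) : R.M (S.hs a u) *ᵥ evm (Ebm R.e a) = nm u • evm (Ebm R.e a) := by
  unfold SysM.hs
  rw [M_mul, ← Matrix.mulVec_mulVec, M_ws_fst R a (-1) (neg_ne_zero.2 one_ne_zero), Matrix.mulVec_smul, M_ws_nfst R a u hu,
    smul_smul, nm_neg_one]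
  congr 1
  rw [inv_one]
  ring

theorem M_hs_nfst (a : ι ⊕ ι) (u : Kq F A B) (hu : u ≠ 0) : R.M (S.hs a u) *ᵥ evm (Ebm R.e (ng a)) = (nm u)⁻¹ • evm (Ebm R.e (ng a)) := by
  unfold SysM.hs
  rw [M_mul, ← Matrix.mulVec_mulVec, M_ws_nfst R a (-1) (neg_ne_zero.2 one_ne_zero), Matrix.mulVec_smul, M_ws_fst R a u hu,
    smul_smul, nm_neg_one]
  congr 1
  ring

theorem M_hs_ew (a : ι ⊕ ι) (u : Kq F A B) (hu : u ≠ 0) (z : Kq F A B) : R.M (S.hs a u) *ᵥ ew z = ew ((u / star u) * z) := by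
  unfold SysM.hs
  rw [M_mul, ← Matrix.mulVec_mulVec, M_ws_ew R a (-1) (neg_ne_zero.2 one_ne_zero), M_ws_ew R a u hu]
  congr 1
  rw [star_mul', star_star, star_neg, star_div₀, star_neg, star_one, star_neg, star_one]
  have : (-1 : Kq F A B) / -1 = 1 := by rw [div_self (neg_ne_zero.2 one_ne_zero)]
  rw [this]
  ring

theorem M_hs_of_ne (a : ι ⊕ ι) (u : Kq F A B) (hu : u ≠ 0) {c : l ⊕ l} (h1 : c ≠ Em R.e a) (h2 : c ≠ Em R.e (ng a)) :
    R.M (S.hs a u) *ᵥ evm (Sum.inl c) = evm (Sum.inl c) := by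
  unfold SysM.hs
  rw [M_mul, ← Matrix.mulVec_mulVec, M_ws_of_ne R a (-1) (neg_ne_zero.2 one_ne_zero) h1 h2, M_ws_of_ne R a u hu h1 h2]

/-- R8 [S-M]  the spin element is in the kernel: all the columns of `R.M (hs a (-1))` are the standard ones (R5t at `u = -1`: `nm (-1) = 1`, `-1 / star (-1) = 1`; the columns `iz1`, `iz2` are `ew 1`, `ew ⟨0, 1⟩`: `ew_one`, `ew_omega`);
a matrix fixing every `evm c` is `1` (`stbr2_eq_one_of_cols`-type lemma of `Helper9.STBR0b`), `phi_eq_one_of_M`. -/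
theorem phi_hs_neg_one (a : ι ⊕ ι) : R.φ (S.hs a (-1)) = 1 := by
  apply phi_eq_one_of_M
  have h1' : (-1 : Kq F A B) ≠ 0 := neg_ne_zero.2 one_ne_zero
  have hew : ∀ z : Kq F A B, R.M (S.hs a (-1)) *ᵥ ew z = ew z := by
    intro z
    rw [M_hs_ew R a (-1) h1', star_neg, star_one, div_self h1', one_mul]
  have hcol : ∀ c : Im l, R.M (S.hs a (-1)) *ᵥ evm c = evm c := by
    intro c
    rcases c with c | i
    · by_cases h1 : c = Em R.e a
      · subst h1
        have := M_hs_fst R a (-1) h1'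
        rw [nm_neg_one, one_smul] at this
        exact this
      by_cases h2 : c = Em R.e (ng a)
      · subst h2
        have := M_hs_nfst R a (-1) h1'
        rw [nm_neg_one, inv_one, one_smul] at this
        exact this
      exact M_hs_of_ne R a (-1) h1' h1 h2
    · fin_cases i
      · show R.M (S.hs a (-1)) *ᵥ evm iz1 = evm iz1
        rw [← ew_one (A := A) (B := B)]
        exact hew 1
      · show R.M (S.hs a (-1)) *ᵥ evm iz2 = evm iz2
        rw [← ew_omega (A := A) (B := B)]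
        exact hew _
  ext i j
  have := congrFun (hcol j) i
  unfold evm at this
  rw [Matrix.mulVec_single_one] at this
  rw [Matrix.one_apply]
  simp only [Matrix.col_apply, Pi.single_apply] at this
  exact this

end Rep

end SysM

end Cfsg.Agent.Lib.helper17.STM
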