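import Mathlib
import Cfsg.Agent.Lib.helper17.STM.Defs
import Cfsg.Agent.Lib.helper17.STM.Defs2
import Cfsg.Agent.Lib.Helper24.STCI1
import Cfsg.Agent.Lib.Helper16.STDW13
import Cfsg.Agent.Lib.Helper16.STDX2
import Cfsg.Agent.Lib.Helper16.STDH3core

/-!
# Project STM (designer helper17), row H2 (core): the torus elements are monomial, with the statements of W12 `isMon_w` and W13 `isMon_ws` as hypotheses
(own-name copies `stmh2_mul`, `stmh2_congr` of W10 `IsMon.mul`, `IsMon.congr`).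
-/

set_option autoImplicit false
set_option linter.unusedSectionVars false

namespace Cfsg.Agent.Lib.helper17.STM

open Cfsg.Agent.Lib.helper15.St2 Cfsg.Agent.Lib.helper3.STC Cfsg.Agent.Lib.Lead.STD

universe v w

namespace SysM

variable {F : Type*} [Field F] {A B : F} [Fact (∀ r : F, r ^ 2 ≠ -B + A * r)] {ι : Type*} {G : Type*} [Group G] (S : SysM F A B ι G)

variable [DecidableEq ι]

theorem stmh2_congr {g : G} {σ σ' : Equiv.Perm (ι ⊕ ι)} {d d' : ι ⊕ ι → F} {c0 c0' : Kq F A B} {ε ε' : Bool} (h : S.IsMon g σ d c0 ε)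
    (hσ : σ = σ') (hd : ∀ k, d k = d' k) (hc0 : c0 = c0') (hε : ε = ε') : S.IsMon g σ' d' c0' ε' := by
  have : d = d' := funext hd
  subst hσ this hc0 hε
  exact h

theorem stmh2_mul {g g' : G} {σ σ' : Equiv.Perm (ι ⊕ ι)} {d d' : ι ⊕ ι → F} {c0 c0' : Kq F A B} {ε ε' : Bool} (h : S.IsMon g σ d c0 ε)
    (h' : S.IsMon g' σ' d' c0' ε') : S.IsMon (g * g') (σ * σ') (fun k => d (σ' k) * d' k) (c0 * tw ε c0') (xor ε ε') := by
  obtain ⟨h1, h2, h3, h4, h5⟩ := h
  obtain ⟨h1', h2', h3', h4', h5'⟩ := h'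
  refine ⟨SysD.IsMon.mul S.toSysD h1 h1', ?_, ?_, ?_, ?_⟩
  · intro k
    simp only [Equiv.Perm.mul_apply]
    rw [h2', h2]
  · intro k
    show d (σ' k) * d' k * (d (σ' (ng k)) * d' (ng k)) = 1
    rw [h2']
    have e1 := h3 (σ' k)
    have e2 := h3' k
    calc d (σ' k) * d' k * (d (ng (σ' k)) * d' (ng k))
        = (d (σ' k) * d (ng (σ' k))) * (d' k * d' (ng k)) := by ring
      _ = 1 := by rw [e1, e2, one_mul]
  · rw [nm_mul, nm_tw, h4, h4', one_mul]
  · intro k t
    rw [← cj_cj, h5', h5]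
    simp only [Equiv.Perm.mul_apply]
    congr 1
    rw [tw_smul, tw_mul, tw_tw, mul_smul_comm, smul_smul, mul_assoc]

/-- the coefficient identity for the short torus element -/
theorem stmh2_coeff (a : ι ⊕ ι) (u : Kq F A B) (k : ι ⊕ ι) :
    dwb a u (swb a k) * dwb a (-1 : Kq F A B) k = dhb a u k := by
  have h1 : ng a ≠ a := ng_ne a
  by_cases hka : k = a
  · subst hka
    have e : swb k k = ng k := by simp [swb]
    rw [e]
    simp [dwb, dhb, h1]
  by_cases hka' : k = ng a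
  · subst hka'
    have e : swb a (ng a) = a := by simp [swb]
    rw [e]
    simp [dwb, dhb, h1]
  · have e : swb a k = k := by
      unfold swb
      exact Equiv.swap_apply_of_ne_of_ne hka hka'
    rw [e]
    simp [dwb, dhb, hka, hka']

theorem stmh2_swb_mul_self (a : ι ⊕ ι) : swb a * swb a = 1 := by
  unfold swb
  exact Equiv.swap_mul_self _ _

section H
variable [Finite F]

theorem stmh2_hs_core (a : ι ⊕ ι) (u : Kq F A B) (hu : u ≠ 0)
    (hW13 : ∀ v : Kq F A B, v ≠ 0 → S.IsMon (S.ws a v) (swb a) (dwb a v) (-(v / star v)) true) :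
    S.IsMon (S.hs a u) 1 (dhb a u) (u / star u) false := by
  have hm := stmh2_mul S (hW13 u hu) (hW13 (-1) (by simp))
  refine stmh2_congr S hm (stmh2_swb_mul_self a) (fun k => stmh2_coeff a u k) ?_ rfl
  rw [tw_true, star_neg, star_neg, star_one]
  simp

theorem stmh2_h_core {a b : ι ⊕ ι} (hab : a ≠ b) (hab' : a ≠ ng b) (u : F) (hu : u ≠ 0)
    (hW12 : ∀ v : F, v ≠ 0 → S.IsMon (S.w a b v) (sws a b) (dwd a b v) 1 false) :
    S.IsMon (S.h a b u) 1 (dhs a b u) 1 false := by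
  have hm := stmh2_mul S (hW12 u hu) (hW12 (-1) (by simp))
  refine stmh2_congr S hm (SysD.sws_mul_self hab hab') (fun k => SysD.stdh3_coeff hab hab' u k) ?_ rfl
  rw [tw_false, one_mul]

end H

end SysM

end Cfsg.Agent.Lib.helper17.STM
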