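import Mathlib
import Cfsg.Agent.Lib.Lead.STB.Defs
import Cfsg.Agent.Lib.Lead.STB.Defs2
import Cfsg.Agent.Lib.Lead.STB.Defs3
import Cfsg.Agent.Lib.Lead.STB.Defs4
import Cfsg.Agent.Lib.Lead.STB.Sub

/-!
# Project STB (designer lead), row R3 (VERBATIM from `Lead/STB/Skel3.lean.txt`): the matrix `R.M`.
-/

set_option autoImplicit false
set_option linter.unusedSectionVars false

namespace Cfsg.Agent.Lib.Lead.STB

open Matrix Cfsg.Agent.Lib.helper15.St2 Cfsg.Agent.Lib.helper3.STC Cfsg.Agent.Lib.Lead.STD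

universe v w

namespace SysB

namespace Rep

variable {K : Type*} [Field K] {ι : Type*} {G : Type*} [Group G] {S : SysB K ι G} {l : Type*} [Fintype l] [DecidableEq l] (R : S.Rep l)

/-- R3 [S]  the matrix `R.M` (model STD R3, `Helper13.STDR3`). -/
theorem M_one : R.M 1 = 1 := by
  unfold Rep.M
  rw [map_one]
  rfl

theorem M_mul (g g' : G) : R.M (g * g') = R.M g * R.M g' := by
  unfold Rep.M
  rw [map_mul]
  rfl

theorem M_x {a b : ι ⊕ ι} (hab : a ≠ b) (hab' : a ≠ ng b) (t : K) : R.M (S.x a b t) = TbL (Em R.e a) (Em R.e b) t :=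
  R.hφ a b hab hab' t

theorem M_xs (a : ι ⊕ ι) (t : K) : R.M (S.xs a t) = TbS (Em R.e a) t :=
  R.hφs a t

theorem phi_eq_one_of_M {g : G} (h : R.M g = 1) : R.φ g = 1 := by
  apply Units.ext
  exact h

theorem M_eq_one_of_phi {g : G} (h : R.φ g = 1) : R.M g = 1 := by
  unfold Rep.M
  rw [h]
  rfl

theorem stbr3_M_inv_mul (g : G) : R.M g⁻¹ * R.M g = 1 := by
  rw [← M_mul, inv_mul_cancel, M_one]

theorem stbr3_M_mul_inv (g : G) : R.M g * R.M g⁻¹ = 1 := by
  rw [← M_mul, mul_inv_cancel, M_one]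

theorem M_inv_mulVec {g : G} {v v' : Ix l → K} (h : R.M g *ᵥ v = v') : R.M g⁻¹ *ᵥ v' = v := by
  rw [← h, Matrix.mulVec_mulVec, stbr3_M_inv_mul, Matrix.one_mulVec]

end Rep

end SysB

end Cfsg.Agent.Lib.Lead.STB
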