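import Mathlib
import Cfsg.Agent.Lib.Lead.STB.Defs
import Cfsg.Agent.Lib.helper7.StA

/-!
# Project STB (designer lead), row H1 (VERBATIM from `Lead/STB/Skel1.lean.txt`): the rank one theory for `S.sts a`.
-/

set_option autoImplicit false
set_option linter.unusedSectionVars false

namespace Cfsg.Agent.Lib.Lead.STB

open Cfsg.Agent.Lib.helper15.St2 Cfsg.Agent.Lib.helper3.STC Cfsg.Agent.Lib.Lead.STD

universe v w

namespace SysB

variable {K : Type*} [Field K] {ι : Type*} {G : Type*} [Group G] (S : SysB K ι G)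

theorem stbh1_x (a : ι ⊕ ι) (t : K) : (S.sts a).x t = S.xs a t := rfl

theorem stbh1_y (a : ι ⊕ ι) (t : K) : (S.sts a).y t = S.xs (ng a) (-t) := rfl

theorem stbh1_w (a : ι ⊕ ι) (t : K) : (S.sts a).w t = S.ws a t := by
  rw [St.w_def, stbh1_x, stbh1_y, neg_neg]
  rfl

theorem stbh1_h (a : ι ⊕ ι) (t : K) : (S.sts a).h t = S.hs a t := by
  unfold St.h hs
  rw [stbh1_w, stbh1_w]

theorem stbh1_ws_swap (a : ι ⊕ ι) (t : K) (ht : t ≠ 0) : S.ws (ng a) t = S.ws a t⁻¹ := by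
  have hn : ng (ng a) = a := by cases a <;> rfl
  have h := (S.sts a).W_swap false (-t) (neg_ne_zero.2 ht)
  have e1 : (S.sts a).W false (-t) = S.ws (ng a) t := by
    unfold St.W ws
    show S.xs (ng a) (-(-t)) * S.xs a (-(-t)⁻¹) * S.xs (ng a) (-(-t)) = _
    rw [hn, neg_neg, inv_neg, neg_neg]
  have e2 : (S.sts a).W (!false) (-(-t)⁻¹) = S.ws a t⁻¹ := by
    have : (-(-t)⁻¹ : K) = t⁻¹ := by rw [inv_neg, neg_neg]
    rw [this]
    exact stbh1_w S a t⁻¹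
  rw [← e1, h, e2]

variable [DecidableEq ι]

section H
variable [Finite K]

omit [DecidableEq ι] in
theorem hs_mul (a : ι ⊕ ι) (t u : K) (ht : t ≠ 0) (hu : u ≠ 0) : S.hs a t * S.hs a u = S.hs a (t * u) := by
  have h := Cfsg.Agent.Lib.helper7.St.h_mul' (S.sts a) t u ht hu
  rwa [stbh1_h, stbh1_h, stbh1_h] at h

omit [DecidableEq ι] in
theorem hs_inv (a : ι ⊕ ι) (t : K) (ht : t ≠ 0) : (S.hs a t)⁻¹ = S.hs a t⁻¹ := by
  have h := Cfsg.Agent.Lib.helper7.St.h_inv' (S.sts a) t ht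
  rwa [stbh1_h, stbh1_h] at h

omit [DecidableEq ι] in
theorem ws_mul_ws (a : ι ⊕ ι) (c d : K) (hc : c ≠ 0) (hd : d ≠ 0) : S.ws a c * S.ws a d = S.hs a (-(c * d⁻¹)) := by
  have h := Cfsg.Agent.Lib.helper7.St.w_mul_w'' (S.sts a) c d hc hd
  rwa [stbh1_w, stbh1_w, stbh1_h] at h

omit [DecidableEq ι] in
theorem ws_eq_ws_one_mul_hs (a : ι ⊕ ι) (u : K) (hu : u ≠ 0) : S.ws a u = S.ws a 1 * S.hs a u⁻¹ := by
  have h := Cfsg.Agent.Lib.helper7.St.w_eq_w_one_mul_h (S.sts a) u hu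
  rwa [stbh1_w, stbh1_w, stbh1_h] at h

omit [DecidableEq ι] in
theorem lus (a : ι ⊕ ι) (t u : K) (hd : 1 - t * u ≠ 0) :
    S.xs a t * S.xs (ng a) u = S.xs (ng a) (u / (1 - t * u)) * S.hs a (1 - t * u) * S.xs a (t / (1 - t * u)) := by
  have e : 1 + t * (-u) = 1 - t * u := by ring
  have h := Cfsg.Agent.Lib.helper7.St.lu (S.sts a) t (-u) (by rw [e]; exact hd)
  rw [stbh1_x, stbh1_y, stbh1_y, stbh1_h, stbh1_x, e, neg_neg] at h
  rw [h]
  congr 3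
  ring

omit [Finite K] [DecidableEq ι] in
theorem lus0 (a : ι ⊕ ι) (t : K) : S.xs a t * S.xs (ng a) t⁻¹ = S.ws a t * S.xs a (-t) := by
  have h := Cfsg.Agent.Lib.helper7.St.lu0 (S.sts a) t
  rwa [stbh1_x, stbh1_y, stbh1_w, stbh1_x, neg_neg] at h

omit [DecidableEq ι] in
theorem hs_swap (a : ι ⊕ ι) (u : K) (hu : u ≠ 0) : S.hs (ng a) u = S.hs a u⁻¹ := by
  unfold hs
  rw [stbh1_ws_swap S a u hu, stbh1_ws_swap S a (-1) (by simp)]
  have e : ((-1 : K))⁻¹ = -1 := by rw [inv_neg, inv_one]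
  rw [e]

end H

end SysB

end Cfsg.Agent.Lib.Lead.STB
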