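import Mathlib
import Cfsg.Agent.Lib.Lead.STB.Defs
import Cfsg.Agent.Lib.Helper24.STCI1
import Cfsg.Agent.Lib.Helper16.STDW13
import Cfsg.Agent.Lib.Helper16.STDX2
import Cfsg.Agent.Lib.Helper16.STDH3core

/-!
# Project STB (designer lead), row H2 (core): the torus elements are monomial, with the statements of W12 `isMon_w` and W13 `isMon_ws` as hypotheses
(own-name copies `stbh2_mul`, `stbh2_congr` of W10 `IsMon.mul`, `IsMon.congr`).
-/

set_option autoImplicit false
set_option linter.unusedSectionVars false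

namespace Cfsg.Agent.Lib.Lead.STB

open Cfsg.Agent.Lib.helper15.St2 Cfsg.Agent.Lib.helper3.STC Cfsg.Agent.Lib.Lead.STD

universe v w

namespace SysB

variable {K : Type*} [Field K] {ι : Type*} {G : Type*} [Group G] (S : SysB K ι G)

variable [DecidableEq ι]

theorem stbh2_congr {g : G} {σ σ' : Equiv.Perm (ι ⊕ ι)} {d d' : ι ⊕ ι → K} {d0 d0' : K} (h : S.IsMon g σ d d0)
    (hσ : σ = σ') (hd : ∀ k, d k = d' k) (hd0 : d0 = d0') : S.IsMon g σ' d' d0' := by
  have : d = d' := funext hd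
  subst hσ this hd0
  exact h

theorem stbh2_mul {g g' : G} {σ σ' : Equiv.Perm (ι ⊕ ι)} {d d' : ι ⊕ ι → K} {d0 d0' : K} (h : S.IsMon g σ d d0)
    (h' : S.IsMon g' σ' d' d0') : S.IsMon (g * g') (σ * σ') (fun k => d (σ' k) * d' k) (d0 * d0') := by
  obtain ⟨h1, h2, h3, h4, h5⟩ := h
  obtain ⟨h1', h2', h3', h4', h5'⟩ := h'
  refine ⟨SysD.IsMon.mul S.toSysD h1 h1', ?_, ?_, ?_, ?_⟩
  · intro k
    simp only [Equiv.Perm.mul_apply]
    rw [h2', h2]
  · intro k
    show d (σ' k) * d' k * (d (σ' (ng k)) * d' (ng k)) = 1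
    rw [h2']
    have e1 := h3 (σ' k)
    have e2 := h3' k
    calc d (σ' k) * d' k * (d (ng (σ' k)) * d' (ng k))
        = (d (σ' k) * d (ng (σ' k))) * (d' k * d' (ng k)) := by ring
      _ = 1 := by rw [e1, e2, one_mul]
  · calc d0 * d0' * (d0 * d0') = (d0 * d0) * (d0' * d0') := by ring
      _ = 1 := by rw [h4, h4', one_mul]
  · intro k t
    rw [← cj_cj, h5', h5]
    simp only [Equiv.Perm.mul_apply]
    congr 1
    ring

/-- the coefficient identity for the short torus element -/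
theorem stbh2_coeff (a : ι ⊕ ι) (u : K) (k : ι ⊕ ι) :
    dwb a u (swb a k) * dwb a (-1) k = dhb a u k := by
  have h1 : ng a ≠ a := ng_ne a
  by_cases hka : k = a
  · subst hka
    have e : swb k k = ng k := by simp [swb]
    rw [e]
    simp [dwb, dhb, h1]
  by_cases hka' : k = ng a
  · subst hka'
    have e : swb a (ng a) = a := by simp [swb]
    rw [e]
    simp [dwb, dhb, h1]
  · have e : swb a k = k := by
      unfold swb
      exact Equiv.swap_apply_of_ne_of_ne hka hka'
    rw [e]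
    simp [dwb, dhb, hka, hka']

theorem stbh2_swb_mul_self (a : ι ⊕ ι) : swb a * swb a = 1 := by
  unfold swb
  exact Equiv.swap_mul_self _ _

section H
variable [Finite K]

theorem stbh2_hs_core (a : ι ⊕ ι) (u : K) (hu : u ≠ 0)
    (hW13 : ∀ v : K, v ≠ 0 → S.IsMon (S.ws a v) (swb a) (dwb a v) (-1)) :
    S.IsMon (S.hs a u) 1 (dhb a u) 1 := by
  have hm := stbh2_mul S (hW13 u hu) (hW13 (-1) (by simp))
  exact stbh2_congr S hm (stbh2_swb_mul_self a) (fun k => stbh2_coeff a u k) (by ring)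

theorem stbh2_h_core {a b : ι ⊕ ι} (hab : a ≠ b) (hab' : a ≠ ng b) (u : K) (hu : u ≠ 0)
    (hW12 : ∀ v : K, v ≠ 0 → S.IsMon (S.w a b v) (sws a b) (dwd a b v) 1) :
    S.IsMon (S.h a b u) 1 (dhs a b u) 1 := by
  have hm := stbh2_mul S (hW12 u hu) (hW12 (-1) (by simp))
  exact stbh2_congr S hm (SysD.sws_mul_self hab hab') (fun k => SysD.stdh3_coeff hab hab' u k) (by ring)

end H

end SysB

end Cfsg.Agent.Lib.Lead.STB
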