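import Mathlib
import Cfsg.Agent.Lib.Lead.STB.Defs
import Cfsg.Agent.Lib.Lead.STDB1
import Cfsg.Agent.Lib.Helper20.STBH1
import Cfsg.Agent.Lib.Helper20.STBH2core

/-!
# Project STB (designer lead), rows H3 + H4 (cores): the coroot relation, with the statements of W12 `isMon_w` and W13 `isMon_ws` as hypotheses.
-/

set_option autoImplicit false
set_option linter.unusedSectionVars false

namespace Cfsg.Agent.Lib.Lead.STB

open Cfsg.Agent.Lib.helper15.St2 Cfsg.Agent.Lib.helper3.STC Cfsg.Agent.Lib.Lead.STD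

universe v w

namespace SysB

variable {K : Type*} [Field K] {ι : Type*} {G : Type*} [Group G] (S : SysB K ι G)

variable [DecidableEq ι]

omit [DecidableEq ι] in
theorem stbh3_ws_neg (a : ι ⊕ ι) (t : K) : S.ws a (-t) = (S.ws a t)⁻¹ := by
  rw [← stbh1_w, ← stbh1_w]
  exact (S.sts a).w_neg t

omit [DecidableEq ι] in
/-- own-name copy of W11 `IsMon.cj_ws` -/
theorem stbh3_cj_ws {g : G} {σ : Equiv.Perm (ι ⊕ ι)} {d : ι ⊕ ι → K} {d0 : K} (hg : S.IsMon g σ d d0) (a : ι ⊕ ι)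
    (u : K) (hu : u ≠ 0) :
    cj g (S.ws a u) = S.ws (σ a) (d a * d0 * u) := by
  obtain ⟨-, h2, h3, h4, h5⟩ := hg
  unfold ws
  rw [cj_mul, cj_mul, h5, h5, h2]
  have e : d (ng a) * d0 * u⁻¹ = (d a * d0 * u)⁻¹ := by
    have e1 : (d a * d0 * u) * (d (ng a) * d0 * u⁻¹) = 1 := by
      calc (d a * d0 * u) * (d (ng a) * d0 * u⁻¹) = (d a * d (ng a)) * (d0 * d0) * (u * u⁻¹) := by ring
        _ = 1 := by rw [h3, h4, mul_inv_cancel₀ hu, one_mul, one_mul]
    exact eq_inv_of_mul_eq_one_right e1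
  rw [e]

section H
variable [Finite K]

theorem stbh3_core {a b : ι ⊕ ι} (hab : a ≠ b) (hab' : a ≠ ng b) (t : K) (ht : t ≠ 0)
    (hW12 : ∀ v : K, v ≠ 0 → S.IsMon (S.w a b v) (sws a b) (dwd a b v) 1)
    (hW13 : ∀ v : K, v ≠ 0 → S.IsMon (S.ws b v) (swb b) (dwb b v) (-1)) :
    S.h a (ng b) t = S.h a b t * S.hs b t := by
  have hnb : ng b ≠ b := ng_ne b
  have hanb : a ≠ ng (ng b) := by rw [ng_ng]; exact hab
  -- (1) `cj W H = h a (ng b) t`
  have hW := hW13 1 one_ne_zero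
  have h1 := SysD.IsMon.cj_h S.toSysD hW.1 hab t ht
  have e1 : swb b a = a := by
    unfold swb
    exact Equiv.swap_apply_of_ne_of_ne hab hab'
  have e2 : swb b b = ng b := by simp [swb]
  have e3 : dwb b (1 : K) a = 1 := by simp [dwb, hab, hab']
  have e4 : dwb b (1 : K) b = -1 := by simp [dwb]
  rw [e1, e2, e3, e4] at h1
  have e5 : (1 : K) * (-1)⁻¹ * t = -t := by rw [inv_neg, inv_one]; ring
  have e6 : -((1 : K) * (-1)⁻¹) = 1 := by rw [inv_neg, inv_one]; ring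
  rw [e5, e6, SysD.w_mul_w S.toSysD hab' hanb (-t) 1 (neg_ne_zero.2 ht) one_ne_zero] at h1
  have e7 : -(-t * (1 : K)⁻¹) = t := by rw [inv_one]; ring
  rw [e7] at h1
  -- (2) `cj W H = H * hs b t`
  have hHi : (S.h a b t)⁻¹ = S.h a b t⁻¹ := SysD.h_inv S.toSysD hab hab' t ht
  have hH := stbh2_h_core S hab hab' t⁻¹ (inv_ne_zero ht) hW12
  have h2 := stbh3_cj_ws S hH b 1 one_ne_zero
  have e8 : dhs a b t⁻¹ b = t := by
    have hba : b ≠ a := hab.symm
    simp [dhs, hba, hnb.symm]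
  rw [e8, Equiv.Perm.one_apply, mul_one, mul_one, ← hHi] at h2
  -- assemble
  have h3 : cj (S.ws b 1) (S.h a b t) = S.h a b t * cj (S.h a b t)⁻¹ (S.ws b 1) * (S.ws b 1)⁻¹ := by
    unfold cj; group
  show S.toSysD.h a (ng b) t = S.toSysD.h a b t * S.hs b t
  rw [← h1]
  show cj (S.ws b 1) (S.h a b t) = S.h a b t * S.hs b t
  rw [h3, h2, ← stbh3_ws_neg, mul_assoc]
  rfl

/-- H4 core: from the statement of H3 for the pair `(b, a)` -/
theorem stbh4_core {a b : ι ⊕ ι} (hab : a ≠ b) (hab' : a ≠ ng b) (t : K) (ht : t ≠ 0)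
    (hH3 : S.h b (ng a) t = S.h b a t * S.hs a t) :
    S.hs a t = S.h a b t * S.h a (ng b) t := by
  have hba' : b ≠ ng a := fun h => hab' (by rw [h, ng_ng])
  have hb2 : b ≠ ng (ng a) := by rw [ng_ng]; exact hab.symm
  have e1 : S.h b (ng a) t = S.h a (ng b) t := by
    have := SysD.h_sym S.toSysD hba' hb2 t ht
    rw [ng_ng] at this
    exact this
  have e2 : S.h b a t = (S.h a b t)⁻¹ := by
    show S.toSysD.h b a t = (S.toSysD.h a b t)⁻¹
    rw [SysD.h_swap S.toSysD hab hab' t ht, SysD.h_inv S.toSysD hab hab' t ht]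
  rw [e1, e2] at hH3
  rw [hH3]
  group

end H

end SysB

end Cfsg.Agent.Lib.Lead.STB
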