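import Mathlib
import Cfsg.Agent.Lib.Lead.STB.Defs
import Cfsg.Agent.Lib.Lead.STDB1
import Cfsg.Agent.Lib.Helper20.STBH1
import Cfsg.Agent.Lib.Helper20.STBH2core
import Cfsg.Agent.Lib.Helper20.STBH3core
import Cfsg.Agent.Lib.Helper1.STBW12
import Cfsg.Agent.Lib.helper6.STBW13

/-!
# Project STB (designer lead), rows H2 + H3 + H4 (VERBATIM from `Lead/STB/Skel1.lean.txt`): the torus elements are monomial, the coroot relation.
-/

set_option autoImplicit false
set_option linter.unusedSectionVars false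

namespace Cfsg.Agent.Lib.Lead.STB

open Cfsg.Agent.Lib.helper15.St2 Cfsg.Agent.Lib.helper3.STC Cfsg.Agent.Lib.Lead.STD

universe v w

namespace SysB

variable {K : Type*} [Field K] {ι : Type*} {G : Type*} [Group G] (S : SysB K ι G)

variable [DecidableEq ι]

section H
variable [Finite K]

/-- H2 [S-M]  the torus elements are monomial with trivial permutation and `d0 = 1` (model STD H3 `isMon_h`, `Helper16.STDH3`): `IsMon.mul` of W13 for `u` and `-1`, resp. W12, then `IsMon.congr`. -/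
theorem isMon_hs (a : ι ⊕ ι) (u : K) (hu : u ≠ 0) : S.IsMon (S.hs a u) 1 (dhb a u) 1 :=
  stbh2_hs_core S a u hu (fun v hv => S.isMon_ws a v hv)

theorem isMon_h {a b : ι ⊕ ι} (hab : a ≠ b) (hab' : a ≠ ng b) (u : K) (hu : u ≠ 0) : S.IsMon (S.h a b u) 1 (dhs a b u) 1 :=
  stbh2_h_core S hab hab' u hu (fun v hv => S.isMon_w hab hab' v hv)

/-- H3 [M]  **the coroot relation** `(e_a + e_b)^∨ = (e_a - e_b)^∨ + (e_b)^∨`.  With `W := ws b 1` and `H := h a b t`: `cj W H` by `IsMon.cj_h` for W13 (`swb b` maps `a ↦ a`, `b ↦ ng b`; `dwb b 1 a = 1`,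
`dwb b 1 b = -1`) is `w a (ng b) (-t) * w a (ng b) 1 = h a (ng b) t` (STD `w_mul_w`, `h_mul`); on the other hand `cj W H = H * (H⁻¹ * W * H) * W⁻¹` and `cj H⁻¹ W = ws b (…)` by `IsMon.cj_ws` for H2
(`dhs a b t b = t⁻¹`): `= H * ws b t * ws b (-1) = H * hs b t`. -/
theorem h_ng_eq {a b : ι ⊕ ι} (hab : a ≠ b) (hab' : a ≠ ng b) (t : K) (ht : t ≠ 0) : S.h a (ng b) t = S.h a b t * S.hs b t :=
  stbh3_core S hab hab' t ht (fun v hv => S.isMon_w hab hab' v hv) (fun v hv => S.isMon_ws b v hv)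

/-- H4 [S-M]  from H3 with STD `h_swap`, `h_sym`, `h_inv` (`Lead.STDB1`): `h b (ng a) t = h b a t * hs a t`, `h b (ng a) t = h a (ng b) t` (`h_sym`), `h b a t = (h a b t)⁻¹`. -/
theorem hs_eq_hh {a b : ι ⊕ ι} (hab : a ≠ b) (hab' : a ≠ ng b) (t : K) (ht : t ≠ 0) : S.hs a t = S.h a b t * S.h a (ng b) t :=
  stbh4_core S hab hab' t ht
    (S.h_ng_eq hab.symm (fun h => hab' (by rw [h, ng_ng])) t ht)

end H

end SysB

end Cfsg.Agent.Lib.Lead.STB
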