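import Mathlib
import Cfsg.Agent.Lib.Lead.STB.Defs
import Cfsg.Agent.Lib.Lead.STB.Defs2
import Cfsg.Agent.Lib.Lead.STB.Defs3
import Cfsg.Agent.Lib.Lead.STB.Defs4
import Cfsg.Agent.Lib.Lead.STB.Sub
import Cfsg.Agent.Lib.Helper20.STBR0
import Cfsg.Agent.Lib.Helper20.STBR3

/-!
# Project STB (designer lead), rows R5s + R5t + R8 (VERBATIM from `Lead/STB/Skel3.lean.txt`): the columns of the short Weyl and torus elements, the spin element is in the kernel.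
-/

set_option autoImplicit false
set_option linter.unusedSectionVars false
set_option linter.unusedSimpArgs false

namespace Cfsg.Agent.Lib.Lead.STB

open Matrix Cfsg.Agent.Lib.helper15.St2 Cfsg.Agent.Lib.helper3.STC Cfsg.Agent.Lib.Lead.STD

universe v w

theorem stbr5_Em_ng {ι l : Type*} (e : ι ↪ l) (a : ι ⊕ ι) : Em e (ng a) = ng (Em e a) := by
  cases a <;> rfl

theorem stbr5_ng_ng {l : Type*} (a : l ⊕ l) : ng (ng a) = a := by cases a <;> rfl

theorem stbr5_ng_ne {l : Type*} (a : l ⊕ l) : ng a ≠ a := by cases a <;> simp [ng]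

section MAT
variable {l : Type*} [Fintype l] [DecidableEq l] {K : Type*} [Field K]

theorem stbr5_TbS_i0 (a : l ⊕ l) (t : K) (v : Ix l → K) : (TbS a t *ᵥ v) i0 = v i0 + t * v (Sum.inr (ng a)) := by
  rw [TbS_mulVec]
  simp

theorem stbr5_TbS_a (a : l ⊕ l) (t : K) (v : Ix l → K) :
    (TbS a t *ᵥ v) (Sum.inr a) = v (Sum.inr a) - 2 * t * v i0 - t * t * v (Sum.inr (ng a)) := by
  rw [TbS_mulVec]
  simp

theorem stbr5_TbS_ne (a : l ⊕ l) (t : K) (v : Ix l → K) {c : Ix l} (h0 : c ≠ i0) (h1 : c ≠ Sum.inr a) :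
    (TbS a t *ᵥ v) c = v c := by
  rw [TbS_mulVec]
  simp [h0, h1]

theorem stbr5_TbS_n (a : l ⊕ l) (t : K) (v : Ix l → K) : (TbS a t *ᵥ v) (Sum.inr (ng a)) = v (Sum.inr (ng a)) :=
  stbr5_TbS_ne a t v Sum.inr_ne_inl (fun h => stbr5_ng_ne a (Sum.inr_injective h))

theorem stbr5_TbSn_i0 (a : l ⊕ l) (t : K) (v : Ix l → K) : (TbS (ng a) t *ᵥ v) i0 = v i0 + t * v (Sum.inr a) := by
  rw [stbr5_TbS_i0, stbr5_ng_ng]

theorem stbr5_TbSn_n (a : l ⊕ l) (t : K) (v : Ix l → K) :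
    (TbS (ng a) t *ᵥ v) (Sum.inr (ng a)) = v (Sum.inr (ng a)) - 2 * t * v i0 - t * t * v (Sum.inr a) := by
  rw [stbr5_TbS_a, stbr5_ng_ng]

theorem stbr5_TbSn_a (a : l ⊕ l) (t : K) (v : Ix l → K) : (TbS (ng a) t *ᵥ v) (Sum.inr a) = v (Sum.inr a) :=
  stbr5_TbS_ne (ng a) t v Sum.inr_ne_inl (fun h => stbr5_ng_ne a (Sum.inr_injective h).symm)

/-- the matrix of the short Weyl element on an arbitrary vector -/
theorem stbr5_ws_mulVec (a : l ⊕ l) (u : K) (hu : u ≠ 0) (v : Ix l → K) :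
    (TbS a u * TbS (ng a) u⁻¹ * TbS a u) *ᵥ v = fun c =>
      if c = i0 then -v i0 else if c = Sum.inr a then -(u ^ 2) * v (Sum.inr (ng a))
      else if c = Sum.inr (ng a) then -(u⁻¹ ^ 2) * v (Sum.inr a) else v c := by
  rw [← Matrix.mulVec_mulVec, ← Matrix.mulVec_mulVec]
  ext c
  by_cases hc0 : c = i0
  · subst hc0
    rw [if_pos rfl]
    simp only [stbr5_TbS_i0, stbr5_TbS_a, stbr5_TbS_n, stbr5_TbSn_a, stbr5_ng_ng]
    field_simp
    ring
  rw [if_neg hc0]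
  by_cases hca : c = Sum.inr a
  · subst hca
    rw [if_pos rfl]
    simp only [stbr5_TbS_i0, stbr5_TbS_a, stbr5_TbS_n, stbr5_TbSn_a, stbr5_ng_ng]
    field_simp
    ring
  rw [if_neg hca]
  by_cases hcn : c = Sum.inr (ng a)
  · subst hcn
    rw [if_pos rfl]
    simp only [stbr5_TbS_i0, stbr5_TbS_a, stbr5_TbS_n, stbr5_TbSn_a, stbr5_ng_ng]
    field_simp
    ring
  rw [if_neg hcn, stbr5_TbS_ne _ _ _ hc0 hca, stbr5_TbS_ne _ _ _ hc0 hcn, stbr5_TbS_ne _ _ _ hc0 hca]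

end MAT

namespace SysB

namespace Rep

variable {K : Type*} [Field K] {ι : Type*} {G : Type*} [Group G] {S : SysB K ι G} {l : Type*} [Fintype l] [DecidableEq l] (R : S.Rep l)

theorem stbr5_M_ws (a : ι ⊕ ι) (u : K) :
    R.M (S.ws a u) = TbS (Em R.e a) u * TbS (ng (Em R.e a)) u⁻¹ * TbS (Em R.e a) u := by
  unfold SysB.ws
  rw [M_mul, M_mul, M_xs, M_xs, stbr5_Em_ng]

/-- R5s [M]  ALL the columns of the short Weyl element: `R.M (ws a u) = TbS a' u * TbS (ng a') u⁻¹ * TbS a' u` (`Em_ng`), R0 three times on each basis vector. -/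
theorem M_ws_fst (a : ι ⊕ ι) (u : K) (hu : u ≠ 0) : R.M (S.ws a u) *ᵥ evb (Eb R.e a) = (-(u⁻¹ ^ 2)) • evb (Eb R.e (ng a)) := by
  have hna : (Sum.inr (ng (Em R.e a)) : Ix l) ≠ Sum.inr (Em R.e a) := fun h => stbr5_ng_ne _ (Sum.inr_injective h)
  rw [stbr5_M_ws, stbr5_ws_mulVec _ _ hu]
  ext c
  simp only [evb, Eb, stbr5_Em_ng, Pi.smul_apply, Pi.single_apply, smul_eq_mul]
  by_cases hc0 : c = i0
  · subst hc0
    simp
  by_cases hca : c = Sum.inr (Em R.e a)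
  · subst hca
    simp [hna, hna.symm]
  by_cases hcn : c = Sum.inr (ng (Em R.e a))
  · subst hcn
    simp [hna]
  simp [hc0, hca, hcn]

theorem M_ws_nfst (a : ι ⊕ ι) (u : K) (hu : u ≠ 0) : R.M (S.ws a u) *ᵥ evb (Eb R.e (ng a)) = (-(u ^ 2)) • evb (Eb R.e a) := by
  have hna : (Sum.inr (ng (Em R.e a)) : Ix l) ≠ Sum.inr (Em R.e a) := fun h => stbr5_ng_ne _ (Sum.inr_injective h)
  rw [stbr5_M_ws, stbr5_ws_mulVec _ _ hu]
  ext c
  simp only [evb, Eb, stbr5_Em_ng, Pi.smul_apply, Pi.single_apply, smul_eq_mul]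
  by_cases hc0 : c = i0
  · subst hc0
    simp
  by_cases hca : c = Sum.inr (Em R.e a)
  · subst hca
    simp [hna, hna.symm]
  by_cases hcn : c = Sum.inr (ng (Em R.e a))
  · subst hcn
    simp [hna, hna.symm]
  simp [hc0, hca, hcn]

theorem M_ws_zero (a : ι ⊕ ι) (u : K) (hu : u ≠ 0) : R.M (S.ws a u) *ᵥ evb i0 = -evb i0 := by
  have hna : (Sum.inr (ng (Em R.e a)) : Ix l) ≠ Sum.inr (Em R.e a) := fun h => stbr5_ng_ne _ (Sum.inr_injective h)
  rw [stbr5_M_ws, stbr5_ws_mulVec _ _ hu]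
  ext c
  simp only [evb, Pi.neg_apply, Pi.single_apply]
  by_cases hc0 : c = i0
  · subst hc0
    simp
  by_cases hca : c = Sum.inr (Em R.e a)
  · subst hca
    simp
  by_cases hcn : c = Sum.inr (ng (Em R.e a))
  · subst hcn
    simp
  simp [hc0, hca, hcn]

theorem M_ws_of_ne (a : ι ⊕ ι) (u : K) (hu : u ≠ 0) {c : Ix l} (h0 : c ≠ i0) (h1 : c ≠ Eb R.e a) (h2 : c ≠ Eb R.e (ng a)) :
    R.M (S.ws a u) *ᵥ evb c = evb c := by
  have h2' : c ≠ Sum.inr (ng (Em R.e a)) := by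
    rw [← stbr5_Em_ng]
    exact h2
  rw [stbr5_M_ws, stbr5_ws_mulVec _ _ hu]
  ext d
  simp only [evb, Pi.single_apply]
  by_cases hd0 : d = i0
  · subst hd0
    simp [h0.symm]
  by_cases hda : d = Sum.inr (Em R.e a)
  · subst hda
    simp [h2'.symm, Ne.symm h1]
  by_cases hdn : d = Sum.inr (ng (Em R.e a))
  · subst hdn
    simp [Ne.symm h1, h2'.symm]
  simp [hd0, hda, hdn]

/-- R5t [S-M]  the short torus elements: `hs a u = ws a u * ws a (-1)`, R5s twice (`(-1)⁻¹ ^ 2 = 1`). -/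
theorem M_hs_fst (a : ι ⊕ ι) (u : K) (hu : u ≠ 0) : R.M (S.hs a u) *ᵥ evb (Eb R.e a) = (u ^ 2) • evb (Eb R.e a) := by
  unfold SysB.hs
  rw [M_mul, ← Matrix.mulVec_mulVec, M_ws_fst R a (-1) (neg_ne_zero.2 one_ne_zero), Matrix.mulVec_smul, M_ws_nfst R a u hu,
    smul_smul]
  congr 1
  rw [inv_neg, inv_one]
  ring

theorem M_hs_nfst (a : ι ⊕ ι) (u : K) (hu : u ≠ 0) : R.M (S.hs a u) *ᵥ evb (Eb R.e (ng a)) = (u⁻¹ ^ 2) • evb (Eb R.e (ng a)) := by
  unfold SysB.hs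
  rw [M_mul, ← Matrix.mulVec_mulVec, M_ws_nfst R a (-1) (neg_ne_zero.2 one_ne_zero), Matrix.mulVec_smul, M_ws_fst R a u hu,
    smul_smul]
  congr 1
  ring

theorem M_hs_of_ne (a : ι ⊕ ι) (u : K) (hu : u ≠ 0) {c : Ix l} (h1 : c ≠ Eb R.e a) (h2 : c ≠ Eb R.e (ng a)) : R.M (S.hs a u) *ᵥ evb c = evb c := by
  unfold SysB.hs
  rw [M_mul, ← Matrix.mulVec_mulVec]
  by_cases h0 : c = i0
  · subst h0
    rw [M_ws_zero R a (-1) (neg_ne_zero.2 one_ne_zero), Matrix.mulVec_neg, M_ws_zero R a u hu, neg_neg]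
  · rw [M_ws_of_ne R a (-1) (neg_ne_zero.2 one_ne_zero) h0 h1 h2, M_ws_of_ne R a u hu h0 h1 h2]

/-- R8 [S-M]  the spin element is in the kernel: all the columns of `R.M (hs a (-1))` are the standard ones (R5t at `u = -1`: `(-1) ^ 2 = 1`); `Matrix.ext` via `Matrix.mulVec_single`-type lemma (as in `Helper20.STDR2`), `phi_eq_one_of_M`. -/
theorem phi_hs_neg_one (a : ι ⊕ ι) : R.φ (S.hs a (-1)) = 1 := by
  apply phi_eq_one_of_M
  have hcol : ∀ c : Ix l, R.M (S.hs a (-1)) *ᵥ evb c = evb c := by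
    intro c
    by_cases h1 : c = Eb R.e a
    · subst h1
      rw [M_hs_fst R a (-1) (neg_ne_zero.2 one_ne_zero)]
      have : ((-1 : K)) ^ 2 = 1 := by ring
      rw [this, one_smul]
    by_cases h2 : c = Eb R.e (ng a)
    · subst h2
      rw [M_hs_nfst R a (-1) (neg_ne_zero.2 one_ne_zero)]
      have : ((-1 : K))⁻¹ ^ 2 = 1 := by rw [inv_neg, inv_one]; ring
      rw [this, one_smul]
    exact M_hs_of_ne R a (-1) (neg_ne_zero.2 one_ne_zero) h1 h2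
  ext i j
  have := congrFun (hcol j) i
  unfold evb at this
  rw [Matrix.mulVec_single_one] at this
  rw [Matrix.one_apply]
  simp only [Matrix.col_apply, Pi.single_apply] at this
  exact this

end Rep


end SysB

end Cfsg.Agent.Lib.Lead.STB
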