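import Mathlib
import Cfsg.Agent.Lib.helper17.STM.Defs
import Cfsg.Agent.Lib.helper17.STM.Defs2
import Cfsg.Agent.Lib.helper4.STMX1
import Cfsg.Agent.Lib.Helper24.STCI1

/-!
# Project STM (designer helper17), part 2, rows N1 + N1b + N1c + N1d (VERBATIM from `helper17/STM/Skel2.lean.txt`): membership of the generators, inclusions, `Ag o = Yg (ng o)`, torus and Weyl elements.
Ports of `Helper22.STBN1` and `Helper9.STBN1c`.
-/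

set_option autoImplicit false
set_option linter.unusedSectionVars false

namespace Cfsg.Agent.Lib.helper17.STM

open Cfsg.Agent.Lib.helper15.St2 Cfsg.Agent.Lib.helper3.STC Cfsg.Agent.Lib.Lead.STD

universe v w

namespace SysM

variable {F : Type*} [Field F] {A B : F} [Fact (∀ r : F, r ^ 2 ≠ -B + A * r)] {ι : Type*} [DecidableEq ι] {G : Type*} [Group G] (S : SysM F A B ι G)

/-! ## Block N: normalisations and decompositions relative to a signed index `o` (model: STD N1–N7) -/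

section N
variable (o : ι ⊕ ι)

omit [DecidableEq ι] in
/-- N1 [S]  membership of the generators (`x_mem_XQ`, `x_mem_XQ'`, `xs_mem_XQ` of X1; model STD N1 `Helper26.STDN1`).  `ng (ng o) = o` by cases. -/
theorem x_mem_Yg (a : ι ⊕ ι) (t : F) : S.x a o t ∈ S.Yg o :=
  S.x_mem_XQ (Q := fun _ b => b = o) rfl t

omit [DecidableEq ι] in
theorem x_mem_Yg' (b : ι ⊕ ι) (t : F) : S.x (ng o) b t ∈ S.Yg o :=
  S.x_mem_XQ' (Q := fun _ b => b = o) (ng_ng o) t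

omit [DecidableEq ι] in
theorem xs_mem_Yg (t : Kq F A B) : S.xs (ng o) t ∈ S.Yg o :=
  S.xs_mem_XQ (Qs := fun a => a = ng o) rfl t

omit [DecidableEq ι] in
theorem x_mem_Ag (b : ι ⊕ ι) (t : F) : S.x o b t ∈ S.Ag o :=
  S.x_mem_XQ (Q := fun a _ => a = o) rfl t

omit [DecidableEq ι] in
theorem x_mem_Ag' (a : ι ⊕ ι) (t : F) : S.x a (ng o) t ∈ S.Ag o :=
  S.x_mem_XQ' (Q := fun a _ => a = o) (ng_ng o) t

omit [DecidableEq ι] in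
theorem xs_mem_Ag (t : Kq F A B) : S.xs o t ∈ S.Ag o :=
  S.xs_mem_XQ (Qs := fun a => a = o) rfl t

omit [DecidableEq ι] in
theorem x_mem_Pg {a b : ι ⊕ ι} (hb : b ≠ o) (ha : a ≠ ng o) (t : F) : S.x a b t ∈ S.Pg o :=
  S.x_mem_XQ (Q := fun a b => b ≠ o ∧ a ≠ ng o) ⟨hb, ha⟩ t

omit [DecidableEq ι] in
theorem xs_mem_Pg {a : ι ⊕ ι} (ha : a ≠ ng o) (t : Kq F A B) : S.xs a t ∈ S.Pg o :=
  S.xs_mem_XQ (Qs := fun a => a ≠ ng o) ha t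

omit [DecidableEq ι] in
theorem x_mem_Lg {a b : ι ⊕ ι} (ha : a ≠ o) (ha' : a ≠ ng o) (hb : b ≠ o) (hb' : b ≠ ng o) (t : F) : S.x a b t ∈ S.Lg o :=
  S.x_mem_XQ (Q := fun a b => (a ≠ o ∧ a ≠ ng o) ∧ (b ≠ o ∧ b ≠ ng o)) ⟨⟨ha, ha'⟩, ⟨hb, hb'⟩⟩ t

omit [DecidableEq ι] in
theorem xs_mem_Lg {a : ι ⊕ ι} (ha : a ≠ o) (ha' : a ≠ ng o) (t : Kq F A B) : S.xs a t ∈ S.Lg o :=
  S.xs_mem_XQ (Qs := fun a => a ≠ o ∧ a ≠ ng o) ⟨ha, ha'⟩ t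

omit [DecidableEq ι] in
/-- N1b [S]  inclusions (`XQ_mono`, `XQ_le`, `le_sup_left`; for `Ag_le_Pg`: `a = o ≠ ng o`, and `b ≠ o` as `a ≠ b`). -/
theorem Ag_le_Pg : S.Ag o ≤ S.Pg o := by
  apply S.XQ_mono
  · rintro a b hab - rfl
    exact ⟨fun h => hab h.symm, ne_ng a⟩
  · rintro a rfl
    exact ne_ng a

omit [DecidableEq ι] in
theorem Lg_le_Pg : S.Lg o ≤ S.Pg o := by
  apply S.XQ_mono
  · rintro a b - - ⟨⟨-, ha'⟩, ⟨hb, -⟩⟩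
    exact ⟨hb, ha'⟩
  · rintro a ⟨-, ha'⟩
    exact ha'

omit [DecidableEq ι] in
theorem Pg_le_Phat : S.Pg o ≤ S.Phat o := le_sup_left

omit [DecidableEq ι] in
theorem Ys_le_Yg : S.Ys o ≤ S.Yg o := by
  apply S.XQ_mono
  · rintro a b - - h
    exact h
  · rintro a h
    exact h.elim

omit [DecidableEq ι] in
theorem Yj_le_Yg (j : ι ⊕ ι) : S.Yj o j ≤ S.Yg o := by
  apply S.XQ_mono
  · rintro a b - - ⟨h, -⟩
    exact h
  · rintro a h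
    exact h

omit [DecidableEq ι] in
theorem Yjj_le_Yg (o' : ι ⊕ ι) : S.Yjj o o' ≤ S.Yg o := by
  apply S.XQ_mono
  · rintro a b - - ⟨h, -⟩
    exact h
  · rintro a h
    exact h

omit [DecidableEq ι] in
/-- (`x a o` with `a ∉ {o', ng o'}` and `o ∉ {o', ng o'}`; `xs (ng o)` with `ng o ∉ {o', ng o'}`) -/
theorem Yjj_le_Lg {o' : ι ⊕ ι} (ho' : o' ≠ o) (ho'' : o' ≠ ng o) : S.Yjj o o' ≤ S.Lg o' := by
  apply S.XQ_mono
  · rintro a b - - ⟨rfl, ha⟩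
    refine ⟨ha, fun h => ho' h.symm, fun h => ho'' ?_⟩
    rw [h, ng_ng]
  · rintro a rfl
    exact ⟨fun h => ho'' h.symm, fun h => ho' (ng_inj.1 h).symm⟩

omit [DecidableEq ι] in
/-- (`Yj j (ng o) = ⟨x c j (c ≠ ng o), xs (ng j)⟩`; `j ≠ o`, `ng j ≠ ng o`) -/
theorem Yj_le_Pg {j : ι ⊕ ι} (hj : j ≠ o) (hj' : j ≠ ng o) : S.Yj j (ng o) ≤ S.Pg o := by
  apply S.XQ_mono
  · rintro a b - - ⟨rfl, ha⟩
    exact ⟨hj, ha⟩
  · rintro a rfl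
    exact fun h => hj (ng_inj.1 h)


omit [DecidableEq ι] in
/-- N1c [S] -/
theorem Ag_eq_Yg_ng : S.Ag o = S.Yg (ng o) := by
  apply le_antisymm
  · apply S.XQ_le
    · intro a b t _ _ ha
      exact S.x_mem_XQ' (Q := fun _ b => b = ng o) (Qs := fun a => a = ng (ng o)) (by rw [ha]) t
    · intro a t ha
      exact S.xs_mem_XQ (Q := fun _ b => b = ng o) (Qs := fun a => a = ng (ng o)) (by rw [ha, ng_ng]) t
  · apply S.XQ_le
    · intro a b t _ _ hb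
      exact S.x_mem_XQ' (Q := fun a _ => a = o) (Qs := fun a => a = o) (by rw [hb, ng_ng]) t
    · intro a t ha
      exact S.xs_mem_XQ (Q := fun a _ => a = o) (Qs := fun a => a = o) (by rw [ha, ng_ng]) t

omit [DecidableEq ι] in
theorem Lg_ng : S.Lg (ng o) = S.Lg o := by
  apply le_antisymm
  · apply S.XQ_mono
    · intro a b _ _ h
      rw [ng_ng] at h
      exact ⟨⟨h.1.2, h.1.1⟩, ⟨h.2.2, h.2.1⟩⟩
    · intro a h
      rw [ng_ng] at h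
      exact ⟨h.2, h.1⟩
  · apply S.XQ_mono
    · intro a b _ _ h
      rw [ng_ng]
      exact ⟨⟨h.1.2, h.1.1⟩, ⟨h.2.2, h.2.1⟩⟩
    · intro a h
      rw [ng_ng]
      exact ⟨h.2, h.1⟩

omit [DecidableEq ι] in
/-- N1d [S] -/
theorem h_mem_Phat {b : ι ⊕ ι} (hb : b ≠ o) (hb' : b ≠ ng o) {t : F} (ht : t ≠ 0) : S.h o b t ∈ S.Phat o := by
  exact Subgroup.mem_sup_right (Subgroup.subset_closure (Or.inl ⟨b, t, hb, hb', ht, rfl⟩))

omit [DecidableEq ι] in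
theorem hs_mem_Phat {t : Kq F A B} (ht : t ≠ 0) : S.hs o t ∈ S.Phat o := by
  exact Subgroup.mem_sup_right (Subgroup.subset_closure (Or.inr ⟨t, ht, rfl⟩))

omit [DecidableEq ι] in
theorem w_mem_Lg {a b : ι ⊕ ι} (ha : a ≠ o) (ha' : a ≠ ng o) (hb : b ≠ o) (hb' : b ≠ ng o) (t : F) : S.w a b t ∈ S.Lg o := by
  have h1 : ∀ u : F, S.x a b u ∈ S.Lg o := fun u => S.x_mem_XQ ⟨⟨ha, ha'⟩, ⟨hb, hb'⟩⟩ u
  have h2 : ∀ u : F, S.x b a u ∈ S.Lg o := fun u => S.x_mem_XQ ⟨⟨hb, hb'⟩, ⟨ha, ha'⟩⟩ u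
  show S.x a b t * S.x b a (-t⁻¹) * S.x a b t ∈ S.Lg o
  exact Subgroup.mul_mem _ (Subgroup.mul_mem _ (h1 _) (h2 _)) (h1 _)

omit [DecidableEq ι] in
theorem h_mem_Lg {a b : ι ⊕ ι} (ha : a ≠ o) (ha' : a ≠ ng o) (hb : b ≠ o) (hb' : b ≠ ng o) (t : F) : S.h a b t ∈ S.Lg o := by
  show S.w a b t * S.w a b (-1) ∈ S.Lg o
  exact Subgroup.mul_mem _ (S.w_mem_Lg o ha ha' hb hb' _) (S.w_mem_Lg o ha ha' hb hb' _)

omit [DecidableEq ι] in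
theorem ws_mem_Lg {a : ι ⊕ ι} (ha : a ≠ o) (ha' : a ≠ ng o) (t : Kq F A B) : S.ws a t ∈ S.Lg o := by
  have hn : ng a ≠ o := fun h => ha' (by rw [← h, ng_ng])
  have hn' : ng a ≠ ng o := fun h => ha (ng_inj.1 h)
  have h1 : ∀ u : Kq F A B, S.xs a u ∈ S.Lg o := fun u => S.xs_mem_XQ ⟨ha, ha'⟩ u
  have h2 : ∀ u : Kq F A B, S.xs (ng a) u ∈ S.Lg o := fun u => S.xs_mem_XQ ⟨hn, hn'⟩ u
  show S.xs a t * S.xs (ng a) (star t)⁻¹ * S.xs a t ∈ S.Lg o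
  exact Subgroup.mul_mem _ (Subgroup.mul_mem _ (h1 _) (h2 _)) (h1 _)

omit [DecidableEq ι] in
theorem hs_mem_Lg {a : ι ⊕ ι} (ha : a ≠ o) (ha' : a ≠ ng o) (t : Kq F A B) : S.hs a t ∈ S.Lg o := by
  show S.ws a t * S.ws a (-1) ∈ S.Lg o
  exact Subgroup.mul_mem _ (S.ws_mem_Lg o ha ha' _) (S.ws_mem_Lg o ha ha' _)

end N

end SysM

end Cfsg.Agent.Lib.helper17.STM
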