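import Mathlib
import Cfsg.Agent.Lib.helper23.TD4V.Defs
import Cfsg.Agent.Lib.helper4.TD4VJ2
import Cfsg.Agent.Lib.helper8.ChevTwE6c

/-!
# Project TD4V (designer helper23), row E4a `nJ_form` (writer helper20)

`nJ = n₁₈ n₁₃ n₁₂`, `n_r = X r 1 * X (23 - r) (-1) * X r 1`, and the three `SL₂`'s of the roots `18 13 12` commute elementwise
(J2 `X_comm`, helper4).
-/

set_option autoImplicit false

namespace Cfsg.Agent.Lib.helper23.TD4V

open Cfsg.Lie Cfsg.Lie.ChevalleyDatum Matrix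
open Cfsg.Agent.Lib.helper8 Cfsg.Agent.Lib.helper8.TD4
open Cfsg.Agent.Lib.helper23.P4V

universe u v

/-- `x₁ x₂ x₃ (y₁ y₂ y₃) = (x₁ y₁) (x₂ y₂) (x₃ y₃)` when the `x`'s commute with the `y`'s -/
theorem td4ve4a_shuffle {G : Type*} [Group G] (x1 x2 x3 y1 y2 y3 : G)
    (h31 : Commute x3 y1) (h21 : Commute x2 y1) (h32 : Commute x3 y2) :
    x1 * x2 * x3 * (y1 * y2 * y3) = (x1 * y1) * (x2 * y2) * (x3 * y3) := by
  calc x1 * x2 * x3 * (y1 * y2 * y3) = x1 * x2 * (x3 * y1) * y2 * y3 := by group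
    _ = x1 * x2 * (y1 * x3) * y2 * y3 := by rw [h31.eq]
    _ = x1 * (x2 * y1) * (x3 * y2) * y3 := by group
    _ = x1 * (y1 * x2) * (y2 * x3) * y3 := by rw [h21.eq, h32.eq]
    _ = (x1 * y1) * (x2 * y2) * (x3 * y3) := by group

section E

variable {K : Type u} [Field K]

theorem td4ve4a_n (r : ℕ) (hr : r < 24) :
    (h8nU chevD4 hB r (1 : K) : GG K) = X r 1 * X (23 - r) (-1) * X r 1 := by
  rw [h8nU_eq, td4vj2_neg r hr, inv_one]
  rfl

theorem td4ve4a_nJ :
    (nJ : GG K) = (X 18 1 * X 5 (-1) * X 18 1) * (X 13 1 * X 10 (-1) * X 13 1) *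
      (X 12 1 * X 11 (-1) * X 12 1) := by
  unfold nJ
  rw [h8nWU_triple]
  have e0 : chevD4.simple 0 = 18 := by decide
  have e2 : chevD4.simple 2 = 13 := by decide
  have e3 : chevD4.simple 3 = 12 := by decide
  rw [e0, e2, e3, td4ve4a_n 18 (by norm_num), td4ve4a_n 13 (by norm_num), td4ve4a_n 12 (by norm_num)]

/-- E4a without the (unused) finiteness instance of the skeleton's section -/
theorem td4ve4a_nJ_form : (nJ : GG K) = XA 1 1 1 * XmA (-1) (-1) (-1) * XA 1 1 1 := by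
  rw [td4ve4a_nJ]
  unfold XA XmA
  have c (r s : ℕ) (hr : r < 24) (hs : s < 24) (h : chevD4.commTerms r s = []) (hne : r + s ≠ 23)
      (t u : K) : Commute (X r t) (X s u) := X_comm r s hr hs h hne t u
  have c18_13 : ∀ t u : K, Commute (X 18 t) (X 13 u) :=
    c 18 13 (by norm_num) (by norm_num) (by decide) (by norm_num)
  have c5_13 : ∀ t u : K, Commute (X 5 t) (X 13 u) :=
    c 5 13 (by norm_num) (by norm_num) (by decide) (by norm_num)
  have c18_10 : ∀ t u : K, Commute (X 18 t) (X 10 u) :=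
    c 18 10 (by norm_num) (by norm_num) (by decide) (by norm_num)
  have c18_12 : ∀ t u : K, Commute (X 18 t) (X 12 u) :=
    c 18 12 (by norm_num) (by norm_num) (by decide) (by norm_num)
  have c13_12 : ∀ t u : K, Commute (X 13 t) (X 12 u) :=
    c 13 12 (by norm_num) (by norm_num) (by decide) (by norm_num)
  have c5_12 : ∀ t u : K, Commute (X 5 t) (X 12 u) :=
    c 5 12 (by norm_num) (by norm_num) (by decide) (by norm_num)
  have c10_12 : ∀ t u : K, Commute (X 10 t) (X 12 u) :=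
    c 10 12 (by norm_num) (by norm_num) (by decide) (by norm_num)
  have c18_11 : ∀ t u : K, Commute (X 18 t) (X 11 u) :=
    c 18 11 (by norm_num) (by norm_num) (by decide) (by norm_num)
  have c13_11 : ∀ t u : K, Commute (X 13 t) (X 11 u) :=
    c 13 11 (by norm_num) (by norm_num) (by decide) (by norm_num)
  rw [td4ve4a_shuffle (X 18 1) (X 5 (-1)) (X 18 1) (X 13 1) (X 10 (-1)) (X 13 1)
    (c18_13 _ _) (c5_13 _ _) (c18_10 _ _)]
  rw [td4ve4a_shuffle (X 18 1 * X 13 1) (X 5 (-1) * X 10 (-1)) (X 18 1 * X 13 1) (X 12 1) (X 11 (-1))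
    (X 12 1) ((c18_12 _ _).mul_left (c13_12 _ _)) ((c5_12 _ _).mul_left (c10_12 _ _))
    ((c18_11 _ _).mul_left (c13_11 _ _))]

end E

section E

variable {F K : Type u} [Field F] [Field K] [Fintype F] [Fintype K] (j : F →+* K) (q : ℕ)

set_option linter.unusedSectionVars false in
/-- **E4a** [S-M] -/
theorem nJ_form : (nJ : GG K) = XA 1 1 1 * XmA (-1) (-1) (-1) * XA 1 1 1 :=
  td4ve4a_nJ_form

end E

end Cfsg.Agent.Lib.helper23.TD4V
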