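import Mathlib
import Cfsg.Agent.Lib.helper23.TD4V.Defs
import Cfsg.Agent.Lib.helper8.ChevTwD4O
import Cfsg.Agent.Lib.helper8.ChevFix4
import Cfsg.Agent.Lib.helper8.ChevBNAll2
import Cfsg.Agent.Lib.Helper9.TD4VQ1
import Cfsg.Agent.Lib.Helper27.TD4VU5
import Cfsg.Agent.Lib.Helper27.TD4VU6

/-!
# Project TD4V (designer helper23), row E2c `U1_form` (writer helper20)

`U = X₁₄ * QK` (closure induction; `X 14 c ∈ PK` normalises `QK`, S1048 part 1 through helper9's Q1).  For `u ∈ U ⊓ G`: `Fr` fixes `u`,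
`Fr (X 14 c) = X 14 (f c)`, `Fr` preserves `QK` (U5, helper27), `QK ⊓ LK = ⊥` (S1048 part 3): `f c = c` and the second factor is
`Fr`-fixed, hence in `G` (U6, helper27).
-/

set_option autoImplicit false

namespace Cfsg.Agent.Lib.helper23.TD4V

open Cfsg.Lie Cfsg.Lie.ChevalleyDatum Matrix
open Cfsg.Agent.Lib.helper8 Cfsg.Agent.Lib.helper8.TD4
open Cfsg.Agent.Lib.helper23.P4V

universe u v

theorem td4ve2c_pos14 : chevD4.IsPosRoot 14 := by decide

theorem td4ve2c_npos9 : ¬ chevD4.IsPosRoot 9 := by decide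

section E

variable {F K : Type u} [Field F] [Field K] [Fintype F] [Fintype K] (j : F →+* K) (q : ℕ)

omit [Fintype K] in
theorem td4ve2c_X14_mem_U (c : K) : (X 14 c : GG K) ∈ chevD4.posUnipotent K :=
  Subgroup.subset_closure ⟨14, c, td4ve2c_pos14, h8xU_val chevD4 hB 14 c⟩

omit [Fintype K] in
theorem td4ve2c_X14_mem_PK (c : K) : (X 14 c : GG K) ∈ PK K := by
  have h1 : chevD4.posUnipotent K ≤ chevD4.borelSubgroup K := le_sup_left
  have h2 : chevD4.borelSubgroup K ≤ chevD4.parabolicSubgroup K ({1} : Set ℕ) := le_sup_left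
  exact h2 (h1 (td4ve2c_X14_mem_U c))

omit [Fintype K] in
theorem td4ve2c_X14_mem_LK (c : K) : (X 14 c : GG K) ∈ LK K := by
  have h1 : Subgroup.closure {g : GG K | ∃ (r : ℕ) (t : K), chevD4.InRootSub ({1} : Set ℕ) r ∧
      (g : Matrix chevD4.Idx chevD4.Idx K) = chevD4.x K r t} ≤ chevD4.leviSubgroup K ({1} : Set ℕ) :=
    le_sup_right
  exact h1 (Subgroup.subset_closure
    ⟨14, c, td4vu5_inRootSub 14 (Or.inl rfl), h8xU_val chevD4 hB 14 c⟩)

omit [Fintype K] in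
theorem td4ve2c_X14_add (a b : K) : (X 14 (a + b) : GG K) = X 14 a * X 14 b :=
  (h8xU_add chevD4 hB 14 (by decide) a b).symm

omit [Fintype K] in
theorem td4ve2c_X14_inv (a : K) : ((X 14 a : GG K))⁻¹ = X 14 (-a) :=
  (h8xU_inv chevD4 hB 14 a)

omit [Fintype K] in
theorem td4ve2c_X14_zero : (X 14 (0 : K) : GG K) = 1 := h8xU_zero chevD4 hB 14

/-- `U = X₁₄ * QK` -/
theorem td4ve2c_dec (u : GG K) (hu : u ∈ chevD4.posUnipotent K) :
    ∃ c : K, ∃ u' ∈ QK K, u = X 14 c * u' := by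
  unfold ChevalleyDatum.posUnipotent at hu
  induction hu using Subgroup.closure_induction with
  | mem x hx =>
    obtain ⟨r, t, hpos, e⟩ := hx
    by_cases h14 : r = 14
    · subst h14
      exact ⟨t, 1, Subgroup.one_mem _, by rw [mul_one]; exact td4vu5_eq_X x 14 t e⟩
    · refine ⟨0, x, Subgroup.subset_closure ⟨r, t, hpos, ?_, e⟩, by rw [td4ve2c_X14_zero, one_mul]⟩
      intro hs
      rcases td4vu5_roots r hs with h | h
      · exact h14 h
      · subst h; exact td4ve2c_npos9 hpos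
  | one => exact ⟨0, 1, Subgroup.one_mem _, by rw [td4ve2c_X14_zero, one_mul]⟩
  | mul a b _ _ ha hb =>
    obtain ⟨c, u1, hu1, rfl⟩ := ha
    obtain ⟨d, u2, hu2, rfl⟩ := hb
    refine ⟨c + d, ((X 14 d)⁻¹ * u1 * X 14 d) * u2,
      Subgroup.mul_mem _ (td4vq1_norm_QK' _ (td4ve2c_X14_mem_PK d) u1 hu1) hu2, ?_⟩
    rw [td4ve2c_X14_add]
    group
  | inv a _ ha =>
    obtain ⟨c, u1, hu1, rfl⟩ := ha
    refine ⟨-c, X 14 c * u1⁻¹ * (X 14 c)⁻¹,
      norm_QK _ (td4ve2c_X14_mem_PK c) _ (Subgroup.inv_mem _ hu1), ?_⟩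
    rw [← td4ve2c_X14_inv]
    group

/-- **E2c** [M] -/
theorem U1_form (hq : IsPrimePow q) (hK : Fintype.card K = q ^ 3) (u : GG K)
    (hu : u ∈ chevD4.posUnipotent K ⊓ twistedD4 K q) :
    ∃ c : K, c ^ q = c ∧ ∃ u' ∈ Q K q, u = X 14 c * u' := by
  have hD : chevD4 ∈ [chevG2, chevB2, chevD4, chevF4, chevE6, chevE7, chevE8] := by simp
  have hC := h8commAll.{u} chevD4 hD
  have hA := h8reflAll chevD4 hD
  have hW := h8bn2_all chevD4 hD
  obtain ⟨f, hf, hf3, -⟩ := h8frob_exists hq 3 (by norm_num) hK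
  have hfff : ∀ t, f (f (f t)) = t := fun t => hf3 t
  have hfixu : Fr hA f u = u := h8twD4_fix hB hC hA q f hf hfff u hu.2
  obtain ⟨c, u', hu', rfl⟩ := td4ve2c_dec u hu.1
  have hFrX : Fr hA f (X 14 c) = X 14 (f c) := by
    rw [td4vu5_Fr_X hA f 14 (by decide) c]
    have h1 : h8sD4 14 = 14 := by decide
    have h2 : h8eD4 14 = 1 := by decide
    rw [h1, h2, Int.cast_one, one_mul]
  rw [map_mul, hFrX] at hfixu
  have hFu' : Fr hA f u' ∈ QK K := Fr_QK hA f u' hu'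
  -- `(X 14 c)⁻¹ * X 14 (f c) = u' * (Fr u')⁻¹`
  have h1 : (X 14 c)⁻¹ * X 14 (f c) = u' * (Fr hA f u')⁻¹ := by
    have : X 14 (f c) = X 14 c * u' * (Fr hA f u')⁻¹ := by
      rw [← hfixu]; group
    rw [this]; group
  have h2 : (X 14 c)⁻¹ * X 14 (f c) ∈ QK K ⊓ LK K := by
    refine ⟨?_, Subgroup.mul_mem _ (Subgroup.inv_mem _ (td4ve2c_X14_mem_LK c))
      (td4ve2c_X14_mem_LK (f c))⟩
    rw [h1]
    exact Subgroup.mul_mem _ hu' (Subgroup.inv_mem _ hFu')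
  rw [td4vq1_inf, Subgroup.mem_bot] at h2
  have hX : (X 14 (f c) : GG K) = X 14 c := (inv_mul_eq_one.mp h2).symm
  have hfc : f c = c := h8xU_inj_t chevD4 hB hA hW 14 (by decide) (f c) c hX
  have hfu' : Fr hA f u' = u' := by
    rw [h2] at h1
    exact (mul_inv_eq_one.mp h1.symm).symm
  refine ⟨c, by rw [← hf, hfc], u', ⟨hu', ?_⟩, rfl⟩
  exact QK_fix_mem q hq hK hA f hf u' hu' hfu'

end E

end Cfsg.Agent.Lib.helper23.TD4V
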