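import Cfsg.Agent.Lib.helper7.TO.Basic

/-!
# Project TO, piece ALGC: a matrix commuting with every symplectic transvection modulo scalars is scalar.
Also a small toolbox (prefix `toalgc_`) shared with ALGXA.
-/

set_option autoImplicit false

namespace Cfsg.Agent.Lib.helper7.TO

open Matrix Cfsg.Agent.Lib.helper7.TP Cfsg.Agent.Lib.Helper28.SympAbs
open scoped Kronecker

variable {a b : ℕ} {F : Type*} [Field F]

/-- a matrix for which every vector is an eigenvector is scalar. -/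
theorem toalgc_scalar_of_eigen {n : ℕ} (Z : Matrix (Fin n) (Fin n) F)
    (h : ∀ u : Fin n → F, ∃ l : F, Z *ᵥ u = l • u) : ∃ s : F, Z = s • (1 : Matrix (Fin n) (Fin n) F) := by
  rcases Nat.eq_zero_or_pos n with hn | hn
  · subst hn
    exact ⟨0, by ext i; exact i.elim0⟩
  let i₀ : Fin n := ⟨0, hn⟩
  obtain ⟨l₀, hl₀⟩ := h (Pi.single i₀ 1)
  refine ⟨l₀, ?_⟩
  have hcol : ∀ j : Fin n, Z *ᵥ (Pi.single j 1) = l₀ • (Pi.single j 1 : Fin n → F) := by
    intro j
    by_cases hj : j = i₀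
    · rw [hj]; exact hl₀
    obtain ⟨lj, hlj⟩ := h (Pi.single j 1)
    obtain ⟨m, hm⟩ := h (Pi.single i₀ 1 + Pi.single j 1)
    rw [Matrix.mulVec_add, hl₀, hlj] at hm
    have h1 := congrFun hm i₀
    have h2 := congrFun hm j
    simp only [Pi.add_apply, Pi.smul_apply, Pi.single_eq_same, smul_eq_mul, mul_one,
      Pi.single_eq_of_ne hj, Pi.single_eq_of_ne (Ne.symm hj), mul_zero, add_zero, zero_add] at h1 h2
    rw [hlj, h2, ← h1]
  ext i j
  have := congrFun (hcol j) i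
  rw [Matrix.mulVec_single_one] at this
  simp only [Matrix.col_apply, Pi.smul_apply, smul_eq_mul] at this
  rw [this, Matrix.smul_apply, Matrix.one_apply, Pi.single_apply, smul_eq_mul]

/-- a vector paired to `1` with a given non-zero vector. -/
theorem toalgc_partner {n : ℕ} {f : (Fin n → F) → (Fin n → F) → F}
    (hf : Cfsg.Geo.IsSymplecticForm f) {u : Fin n → F} (hu : u ≠ 0) : ∃ x : Fin n → F, f x u = 1 := by
  obtain ⟨x, hx⟩ := (hf.nondegenerate u hu).1
  refine ⟨(f x u)⁻¹ • x, ?_⟩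
  rw [hf.bilinear.smul_left, inv_mul_cancel₀ hx]

/-- the functional `y ↦ f y v` as a linear map. -/
def toalgc_lin {n : ℕ} {f : (Fin n → F) → (Fin n → F) → F} (hf : Cfsg.Geo.IsSymplecticForm f)
    (v : Fin n → F) : (Fin n → F) →ₗ[F] F where
  toFun y := f y v
  map_add' x y := hf.bilinear.add_left x y v
  map_smul' c x := by rw [hf.bilinear.smul_left, RingHom.id_apply, smul_eq_mul]

/-- a non-zero vector perpendicular to `k < n` given vectors. -/
theorem toalgc_perp_ex {n k : ℕ} {f : (Fin n → F) → (Fin n → F) → F}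
    (hf : Cfsg.Geo.IsSymplecticForm f) (hk : k < n) (v : Fin k → Fin n → F) :
    ∃ y : Fin n → F, y ≠ 0 ∧ ∀ i, f y (v i) = 0 := by
  let L : (Fin n → F) →ₗ[F] (Fin k → F) := LinearMap.pi fun i => toalgc_lin hf (v i)
  have hker : LinearMap.ker L ≠ ⊥ := by
    apply LinearMap.ker_ne_bot_of_finrank_lt
    rw [Module.finrank_fin_fun, Module.finrank_fin_fun]
    exact hk
  obtain ⟨y, hy, hy0⟩ := Submodule.exists_mem_ne_zero_of_ne_bot hker
  refine ⟨y, hy0, fun i => ?_⟩
  have := congrFun (LinearMap.mem_ker.mp hy) i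
  exact this

/-- `n ≥ 3`: a vector of `u^⊥` outside `F u`. -/
theorem toalgc_perp_out {n : ℕ} {f : (Fin n → F) → (Fin n → F) → F}
    (hf : Cfsg.Geo.IsSymplecticForm f) (hn : 3 ≤ n) {u : Fin n → F} (hu : u ≠ 0) :
    ∃ x : Fin n → F, f x u = 0 ∧ ∀ l : F, x ≠ l • u := by
  obtain ⟨u', hu'⟩ := toalgc_partner hf hu
  obtain ⟨y, hy0, hy⟩ := toalgc_perp_ex hf (k := 2) (by omega) ![u, u']
  have h1 : f y u = 0 := hy 0
  have h2 : f y u' = 0 := hy 1
  refine ⟨y, h1, fun l hl => ?_⟩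
  rw [hl, hf.bilinear.smul_left, hf.skew, hu', mul_neg, mul_one, neg_eq_zero] at h2
  rw [h2, zero_smul] at hl
  exact hy0 hl

/-- the conjugation formula. -/
theorem toalgc_key {n : ℕ} {f : (Fin n → F) → (Fin n → F) → F}
    (hf : Cfsg.Geo.IsSymplecticForm f) (Z : Matrix (Fin n) (Fin n) F) (u : Fin n → F) (c : F)
    (x : Fin n → F) :
    (Z - tvm f u c * Z * tvm f u (-c)) *ᵥ x =
      (c * f x u) • (Z *ᵥ u) - (c * f (Z *ᵥ x) u) • u + (c * c * f x u * f (Z *ᵥ u) u) • u := by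
  have e1 : tvm f u (-c) *ᵥ x = x + (-c * f x u) • u := tvm_mulVec hf u (-c) x
  have e2 : (tvm f u c * Z * tvm f u (-c)) *ᵥ x = tvm f u c *ᵥ (Z *ᵥ (tvm f u (-c) *ᵥ x)) := by
    simp only [Matrix.mulVec_mulVec, Matrix.mul_assoc]
  rw [Matrix.sub_mulVec, e2, e1, Matrix.mulVec_add, Matrix.mulVec_smul, tvm_mulVec hf,
    hf.bilinear.add_left, hf.bilinear.smul_left]
  module

/-- ALGC: a matrix that commutes with every transvection modulo scalars is scalar, unless
`n = 2 = |F|`. -/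
theorem alg_central [Fintype F] {n : ℕ} {f : (Fin n → F) → (Fin n → F) → F}
    (hf : Cfsg.Geo.IsSymplecticForm f) (hn : 2 ≤ n) (hex : ¬ (n = 2 ∧ Fintype.card F = 2))
    (Z : Matrix (Fin n) (Fin n) F)
    (h : ∀ (u : Fin n → F) (c : F), ∃ s : F,
      Z - tvm f u c * Z * tvm f u (-c) = s • (1 : Matrix (Fin n) (Fin n) F)) :
    ∃ s : F, Z = s • (1 : Matrix (Fin n) (Fin n) F) := by
  apply toalgc_scalar_of_eigen
  intro u
  by_cases hu : u = 0
  · exact ⟨0, by rw [hu, Matrix.mulVec_zero, smul_zero]⟩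
  -- the identity `I_c`
  have hI : ∀ c : F, ∀ x : Fin n → F,
      (c * f x u) • (Z *ᵥ u) - (c * f (Z *ᵥ x) u) • u + (c * c * f x u * f (Z *ᵥ u) u) • u =
        (-(c * f (Z *ᵥ u) u)) • x := by
    intro c x
    obtain ⟨s, hs⟩ := h u c
    have h1 : ∀ y : Fin n → F,
        (c * f y u) • (Z *ᵥ u) - (c * f (Z *ᵥ y) u) • u + (c * c * f y u * f (Z *ᵥ u) u) • u = s • y := by
      intro y
      rw [← toalgc_key hf, hs, Matrix.smul_mulVec, Matrix.one_mulVec]
    have h2 := h1 u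
    rw [hf.alternating, mul_zero, zero_smul, mul_zero, zero_mul, zero_smul, add_zero, zero_sub,
      ← neg_smul] at h2
    have h3 : -(c * f (Z *ᵥ u) u) = s := by
      by_contra hne
      have : (-(c * f (Z *ᵥ u) u) - s) • u = 0 := by rw [sub_smul, h2, sub_self]
      rcases smul_eq_zero.mp this with h4 | h4
      · exact hne (sub_eq_zero.mp h4)
      · exact hu h4
    rw [h3]
    exact h1 x
  obtain ⟨x₁, hx₁⟩ := toalgc_partner hf hu
  -- `d = 0`
  have hd : f (Z *ᵥ u) u = 0 := by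
    by_cases hn3 : 3 ≤ n
    · obtain ⟨x₀, hx₀, hx₀'⟩ := toalgc_perp_out hf hn3 hu
      have h1 := hI 1 x₀
      rw [hx₀, mul_zero, zero_smul, mul_zero, zero_mul, zero_smul, add_zero, zero_sub, one_mul,
        one_mul, neg_smul, neg_inj] at h1
      by_contra hd
      apply hx₀' ((f (Z *ᵥ u) u)⁻¹ * f (Z *ᵥ x₀) u)
      rw [mul_smul, h1, smul_smul, inv_mul_cancel₀ hd, one_smul]
    · have hn2 : n = 2 := by omega
      have hF : Fintype.card F ≠ 2 := fun hF => hex ⟨hn2, hF⟩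
      have hF3 : 2 < Fintype.card F := by
        have := Fintype.one_lt_card (α := F)
        omega
      obtain ⟨c₂, hc₂0, hc₂1⟩ : ∃ c : F, c ≠ 0 ∧ c ≠ 1 := by
        obtain ⟨p, q, r, hpq, hpr, hqr⟩ := Fintype.two_lt_card_iff.mp hF3
        by_cases hp : p ≠ 0 ∧ p ≠ 1
        · exact ⟨p, hp.1, hp.2⟩
        by_cases hq : q ≠ 0 ∧ q ≠ 1
        · exact ⟨q, hq.1, hq.2⟩
        refine ⟨r, ?_, ?_⟩
        · intro hr
          have hp' : p = 1 := by
            by_contra hp1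
            apply hp
            exact ⟨fun hp0 => hpr (hp0.trans hr.symm), hp1⟩
          have hq' : q = 1 := by
            by_contra hq1
            apply hq
            exact ⟨fun hq0 => hqr (hq0.trans hr.symm), hq1⟩
          exact hpq (hp'.trans hq'.symm)
        · intro hr
          have hp' : p = 0 := by
            by_contra hp0
            apply hp
            exact ⟨hp0, fun hp1 => hpr (hp1.trans hr.symm)⟩
          have hq' : q = 0 := by
            by_contra hq0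
            apply hq
            exact ⟨hq0, fun hq1 => hqr (hq1.trans hr.symm)⟩
          exact hpq (hp'.trans hq'.symm)
      have h1 := hI 1 x₁
      have h2 := hI c₂ x₁
      rw [hx₁] at h1 h2
      have h3 : (c₂ * (1 - c₂) * f (Z *ᵥ u) u) • u = 0 := by
        have e : (c₂ * (1 - c₂) * f (Z *ᵥ u) u) • u =
            c₂ • (((1 : F) * 1) • (Z *ᵥ u) - (1 * f (Z *ᵥ x₁) u) • u + (1 * 1 * 1 * f (Z *ᵥ u) u) • u) -
              ((c₂ * 1) • (Z *ᵥ u) - (c₂ * f (Z *ᵥ x₁) u) • u + (c₂ * c₂ * 1 * f (Z *ᵥ u) u) • u) -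
              (c₂ • ((-(1 * f (Z *ᵥ u) u)) • x₁) - (-(c₂ * f (Z *ᵥ u) u)) • x₁) := by
          module
        rw [e, h1, h2, sub_self]
      rcases smul_eq_zero.mp h3 with h4 | h4
      · rcases mul_eq_zero.mp h4 with h5 | h5
        · rcases mul_eq_zero.mp h5 with h6 | h6
          · exact absurd h6 hc₂0
          · exact absurd (sub_eq_zero.mp h6).symm hc₂1
        · exact h5
      · exact absurd h4 hu
  have h1 := hI 1 x₁
  rw [hx₁, hd] at h1
  refine ⟨f (Z *ᵥ x₁) u, ?_⟩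
  have e : Z *ᵥ u = ((1 * 1 : F) • (Z *ᵥ u) - (1 * f (Z *ᵥ x₁) u) • u + (1 * 1 * 1 * 0 : F) • u) +
      f (Z *ᵥ x₁) u • u := by
    module
  rw [e, h1]
  module

end Cfsg.Agent.Lib.helper7.TO
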