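import Cfsg.Agent.Lib.helper7.TO.Basic
import Cfsg.Agent.Lib.Helper20.TOALGC

/-!
# Project TO, piece ALGXA: the local algebra behind `NtsA`.
-/

set_option autoImplicit false

namespace Cfsg.Agent.Lib.helper7.TO

open Matrix Cfsg.Agent.Lib.helper7.TP Cfsg.Agent.Lib.Helper28.SympAbs
open scoped Kronecker

variable {a b : ℕ} {F : Type*} [Field F]

/-- if `w ∉ F z` then `f w ·` and `f z ·` are independent: some `w'` has `f w w' = 1`, `f z w' = 0`. -/
theorem toalgxa_indep_partner {n : ℕ} {f : (Fin n → F) → (Fin n → F) → F}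
    (hf : Cfsg.Geo.IsSymplecticForm f) (w z : Fin n → F) (h : ∀ l : F, w ≠ l • z) :
    ∃ w' : Fin n → F, f w w' = 1 ∧ f z w' = 0 := by
  by_contra hcon
  push Not at hcon
  have key : ∀ x, f z x = 0 → f w x = 0 := by
    intro x hx
    by_contra hwx
    apply hcon ((f w x)⁻¹ • x)
    · rw [hf.bilinear.smul_right, inv_mul_cancel₀ hwx]
    · rw [hf.bilinear.smul_right, hx, mul_zero]
  by_cases hz : z = 0
  · apply h 0
    rw [zero_smul]
    by_contra hw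
    obtain ⟨x, hx⟩ := (hf.nondegenerate w hw).2
    exact hx (key x (by rw [hz, f_zero_left hf]))
  · obtain ⟨t, ht⟩ := (hf.nondegenerate z hz).2
    have ht' : f z ((f z t)⁻¹ • t) = 1 := by rw [hf.bilinear.smul_right, inv_mul_cancel₀ ht]
    apply h (f w ((f z t)⁻¹ • t))
    by_contra hne
    have hne' : w - f w ((f z t)⁻¹ • t) • z ≠ 0 := sub_ne_zero.mpr hne
    obtain ⟨x, hx⟩ := (hf.nondegenerate _ hne').2
    apply hx
    rw [f_sub_left hf, hf.bilinear.smul_left]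
    have := key (x - f z x • ((f z t)⁻¹ • t))
      (by rw [f_sub_right hf, hf.bilinear.smul_right, ht', mul_one, sub_self])
    rw [f_sub_right hf, hf.bilinear.smul_right] at this
    linear_combination this

/-- hyperbolic completion of a totally isotropic pair (the statement of SYMP2). -/
theorem toalgxa_completion {n : ℕ} {f : (Fin n → F) → (Fin n → F) → F}
    (hf : Cfsg.Geo.IsSymplecticForm f) (w z : Fin n → F) (hw : w ≠ 0) (hz : ∀ l : F, z ≠ l • w)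
    (hwz : f w z = 0) :
    ∃ w' z' : Fin n → F, f w w' = 1 ∧ f z z' = 1 ∧ f w z' = 0 ∧ f z w' = 0 ∧ f w' z' = 0 := by
  have hw' : ∀ l : F, w ≠ l • z := by
    intro l hl
    have hl0 : l ≠ 0 := by
      rintro rfl
      rw [zero_smul] at hl
      exact hw hl
    apply hz l⁻¹
    rw [hl, smul_smul, inv_mul_cancel₀ hl0, one_smul]
  obtain ⟨w', h1, h2⟩ := toalgxa_indep_partner hf w z hw'
  obtain ⟨z'', h3, h4⟩ := toalgxa_indep_partner hf z w hz
  refine ⟨w', z'' + f w' z'' • w, h1, ?_, ?_, h2, ?_⟩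
  · rw [hf.bilinear.add_right, hf.bilinear.smul_right, h3, hf.skew z w, hwz, neg_zero, mul_zero,
      add_zero]
  · rw [hf.bilinear.add_right, hf.bilinear.smul_right, h4, hf.alternating, mul_zero, add_zero]
  · rw [hf.bilinear.add_right, hf.bilinear.smul_right, hf.skew w' w, h1]
    ring

/-- the element `ξ = τ_w(1) ζ τ_w(1)⁻¹ - ζ`. -/
theorem toalgxa_xi {n : ℕ} {f : (Fin n → F) → (Fin n → F) → F}
    (hf : Cfsg.Geo.IsSymplecticForm f) (ζ : Matrix (Fin n) (Fin n) F) (s : F)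
    (hs : ζ + adjm f ζ = s • (1 : Matrix (Fin n) (Fin n) F)) (w x : Fin n → F) :
    (tvm f w 1 * ζ * tvm f w (-1) - ζ) *ᵥ x =
      ((s - f (ζ *ᵥ w) w) * f x w) • w - f x (ζ *ᵥ w) • w - f x w • (ζ *ᵥ w) := by
  have hadj : f (ζ *ᵥ x) w = s * f x w - f x (ζ *ᵥ w) := by
    rw [adjm_spec hf]
    have h1 : adjm f ζ *ᵥ w = s • w - ζ *ᵥ w := by
      have h2 := congrArg (fun M : Matrix (Fin n) (Fin n) F => M *ᵥ w) hs
      simp only [Matrix.add_mulVec, Matrix.smul_mulVec, Matrix.one_mulVec] at h2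
      rw [← h2]
      abel
    rw [h1, f_sub_right hf, hf.bilinear.smul_right]
  have hk := toalgc_key hf ζ w 1 x
  have h3 : (tvm f w 1 * ζ * tvm f w (-1) - ζ) *ᵥ x =
      - ((ζ - tvm f w 1 * ζ * tvm f w (-1)) *ᵥ x) := by
    rw [← Matrix.neg_mulVec, neg_sub]
  rw [h3, hk, hadj]
  module

/-- the case `d = 0`. -/
theorem toalgxa_lemmaA {n : ℕ} {f : (Fin n → F) → (Fin n → F) → F}
    (hf : Cfsg.Geo.IsSymplecticForm f) (hn : 5 ≤ n) (X : Set (Matrix (Fin n) (Fin n) F))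
    (hsub : ∀ ζ ∈ X, ∀ ζ' ∈ X, ζ - ζ' ∈ X)
    (hconj : ∀ ζ ∈ X, ∀ (w : Fin n → F) (c : F), tvm f w c * ζ * tvm f w (-c) ∈ X)
    (h1 : ∀ ζ ∈ X, ∃ s : F, ζ + adjm f ζ = s • (1 : Matrix (Fin n) (Fin n) F))
    (h2 : ∀ ζ ∈ X, ∀ ζ' ∈ X, ∃ s : F,
      ζ * adjm f ζ' + ζ' * adjm f ζ = s • (1 : Matrix (Fin n) (Fin n) F))
    (ζ : Matrix (Fin n) (Fin n) F) (hζ : ζ ∈ X) (w : Fin n → F)
    (hw : ∀ l : F, ζ *ᵥ w ≠ l • w) (hd : f (ζ *ᵥ w) w = 0) : False := by
  obtain ⟨s, hs⟩ := h1 ζ hζ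
  have hw0 : w ≠ 0 := by
    intro h0
    apply hw 0
    rw [h0, Matrix.mulVec_zero, smul_zero]
  obtain ⟨z, hz⟩ : ∃ z, z = ζ *ᵥ w := ⟨_, rfl⟩
  rw [← hz] at hw hd
  obtain ⟨ξ, hξdef⟩ : ∃ ξ, ξ = tvm f w 1 * ζ * tvm f w (-1) - ζ := ⟨_, rfl⟩
  have hξX : ξ ∈ X := by
    rw [hξdef]
    exact hsub _ (hconj ζ hζ w 1) ζ hζ
  have hξ : ∀ x, ξ *ᵥ x = (s * f x w) • w - f x z • w - f x w • z := by
    intro x
    rw [hξdef, toalgxa_xi hf ζ s hs w x, ← hz, hd, sub_zero]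
  have hwz : f w z = 0 := by rw [hf.skew, hd, neg_zero]
  obtain ⟨w', z', a1, a2, a3, a4, a5⟩ := toalgxa_completion hf w z hw0 hw hwz
  have b1 : f w' w = -1 := by rw [hf.skew, a1]
  have b2 : f z' z = -1 := by rw [hf.skew, a2]
  have b3 : f z' w = 0 := by rw [hf.skew, a3, neg_zero]
  have b4 : f w' z = 0 := by rw [hf.skew, a4, neg_zero]
  have b5 : f z' w' = 0 := by rw [hf.skew, a5, neg_zero]
  have c1 : f w w = 0 := hf.alternating w
  have c2 : f z z = 0 := hf.alternating z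
  have c3 : f w' w' = 0 := hf.alternating w'
  have c4 : f z' z' = 0 := hf.alternating z'
  obtain ⟨y, hy0, hy⟩ := toalgc_perp_ex hf (k := 4) (by omega) ![w, z, w', z']
  have y1 : f y w = 0 := hy 0
  have y2 : f y z = 0 := hy 1
  have y3 : f y w' = 0 := hy 2
  have y4 : f y z' = 0 := hy 3
  obtain ⟨ξ', hξ'def⟩ : ∃ ξ', ξ' = tvm f w' 1 * (tvm f z' 1 * ξ * tvm f z' (-1)) * tvm f w' (-1) :=
    ⟨_, rfl⟩
  have hξ'X : ξ' ∈ X := by
    rw [hξ'def]
    exact hconj _ (hconj ξ hξX z' 1) w' 1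
  have hξ' : ∀ x, ξ' *ᵥ x =
      tvm f w' 1 *ᵥ (tvm f z' 1 *ᵥ (ξ *ᵥ (tvm f z' (-1) *ᵥ (tvm f w' (-1) *ᵥ x)))) := by
    intro x
    rw [hξ'def]
    simp only [Matrix.mulVec_mulVec, Matrix.mul_assoc]
  obtain ⟨s', hs'⟩ := h1 ξ' hξ'X
  obtain ⟨s'', hs''⟩ := h1 ξ hξX
  obtain ⟨t, ht⟩ := h2 ξ hξX ξ' hξ'X
  have hadj' : adjm f ξ' = s' • (1 : Matrix (Fin n) (Fin n) F) - ξ' := by
    rw [← hs']
    abel
  have hadj : adjm f ξ = s'' • (1 : Matrix (Fin n) (Fin n) F) - ξ := by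
    rw [← hs'']
    abel
  rw [hadj', hadj] at ht
  have hid : ∀ x, s' • (ξ *ᵥ x) - ξ *ᵥ (ξ' *ᵥ x) + (s'' • (ξ' *ᵥ x) - ξ' *ᵥ (ξ *ᵥ x)) = t • x := by
    intro x
    have h3 := congrArg (fun M : Matrix (Fin n) (Fin n) F => M *ᵥ x) ht
    simp only [Matrix.add_mulVec, ← Matrix.mulVec_mulVec, Matrix.sub_mulVec, Matrix.smul_mulVec,
      Matrix.one_mulVec, Matrix.mulVec_sub, Matrix.mulVec_smul] at h3
    exact h3
  -- values
  have v1 : ξ *ᵥ y = 0 := by
    rw [hξ, y1, y2]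
    simp
  have v2 : ξ' *ᵥ y = 0 := by
    rw [hξ']
    simp only [tvm_mulVec hf, y3, y4, mul_zero, zero_smul, add_zero, v1, f_zero_left hf]
  have v3 : ξ *ᵥ w' = z - s • w := by
    rw [hξ, b1, b4]
    module
  have v4 : ξ' *ᵥ w' = z + z' - s • w - s • w' := by
    rw [hξ']
    simp only [tvm_mulVec hf, c3, a5, mul_zero, zero_smul, add_zero, v3, f_sub_left hf,
      hf.bilinear.add_left, hf.bilinear.smul_left, a1, a2, a3, a4, b5, c1, c2, c4]
    module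
  have v5 : ξ *ᵥ (z + z' - s • w - s • w') = w - s • z + (s * s) • w := by
    rw [hξ]
    simp only [f_sub_left hf, hf.bilinear.add_left, hf.bilinear.smul_left, a1, a2, a3, a4, a5, b1,
      b2, b3, b4, b5, c1, c2, c3, c4, hd, hwz]
    module
  have v6 : ξ' *ᵥ (z - s • w) = -(w + w') + s • (z + z') - (s * s) • (w + w') := by
    rw [hξ']
    simp only [tvm_mulVec hf, hξ, f_sub_left hf, hf.bilinear.add_left, hf.bilinear.smul_left,
      f_neg_left hf, a1, a2, a3, a4, a5, b1, b2, b3, b4, b5, c1, c2, c3, c4, hd, hwz]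
    module
  -- `t = 0`
  have ht0 : t = 0 := by
    have h3 := hid y
    simp only [v1, v2, Matrix.mulVec_zero, smul_zero, sub_zero, add_zero] at h3
    rcases smul_eq_zero.mp h3.symm with h4 | h4
    · exact h4
    · exact absurd h4 hy0
  have h3 := hid w'
  rw [v3, v4, v5, v6, ht0, zero_smul] at h3
  have e1 := congrArg (fun v => f v w) h3
  have e2 := congrArg (fun v => f v z) h3
  simp only [f_sub_left hf, hf.bilinear.add_left, hf.bilinear.smul_left, f_neg_left hf,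
    f_zero_left hf, a1, a2, a3, a4, a5, b1, b2, b3, b4, b5, c1, c2, c3, c4, hd, hwz] at e1 e2
  have e3 : s'' = s := by linear_combination -e2
  rw [e3] at e1
  exact one_ne_zero (α := F) (by linear_combination -e1)

/-- ALGXA: the local algebra behind `NtsA` (`n ≥ 6`, any characteristic). -/
theorem alg_XA {n : ℕ} {f : (Fin n → F) → (Fin n → F) → F}
    (hf : Cfsg.Geo.IsSymplecticForm f) (hn : 6 ≤ n) (X : Set (Matrix (Fin n) (Fin n) F))
    (hsub : ∀ ζ ∈ X, ∀ ζ' ∈ X, ζ - ζ' ∈ X)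
    (hconj : ∀ ζ ∈ X, ∀ (w : Fin n → F) (c : F), tvm f w c * ζ * tvm f w (-c) ∈ X)
    (h1 : ∀ ζ ∈ X, ∃ s : F, ζ + adjm f ζ = s • (1 : Matrix (Fin n) (Fin n) F))
    (h2 : ∀ ζ ∈ X, ∀ ζ' ∈ X, ∃ s : F,
      ζ * adjm f ζ' + ζ' * adjm f ζ = s • (1 : Matrix (Fin n) (Fin n) F)) :
    ∀ ζ ∈ X, ∃ s : F, ζ = s • (1 : Matrix (Fin n) (Fin n) F) := by
  intro ζ hζ
  by_contra hns
  obtain ⟨w, hw⟩ : ∃ w : Fin n → F, ∀ l : F, ζ *ᵥ w ≠ l • w := by
    by_contra hall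
    push Not at hall
    exact hns (toalgc_scalar_of_eigen ζ hall)
  by_cases hd : f (ζ *ᵥ w) w = 0
  · exact toalgxa_lemmaA hf (by omega) X hsub hconj h1 h2 ζ hζ w hw hd
  · obtain ⟨s, hs⟩ := h1 ζ hζ
    obtain ⟨y, hy0, hy⟩ := toalgc_perp_ex hf (k := 2) (by omega) ![w, ζ *ᵥ w]
    have y1 : f y w = 0 := hy 0
    have y2 : f y (ζ *ᵥ w) = 0 := hy 1
    have hξX : tvm f w 1 * ζ * tvm f w (-1) - ζ ∈ X := hsub _ (hconj ζ hζ w 1) ζ hζ
    have hval : (tvm f w 1 * ζ * tvm f w (-1) - ζ) *ᵥ (w + y) = f (ζ *ᵥ w) w • w := by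
      rw [toalgxa_xi hf ζ s hs w (w + y), hf.bilinear.add_left, hf.bilinear.add_left, y1, y2,
        hf.alternating, hf.skew w (ζ *ᵥ w)]
      module
    apply toalgxa_lemmaA hf (by omega) X hsub hconj h1 h2 _ hξX (w + y)
    · intro l hl
      rw [hval] at hl
      -- `d • w = l • (w + y)`
      have hl0 : l = 0 := by
        by_contra hl0
        -- then `y ∈ F w`
        have hyw : y = (l⁻¹ * f (ζ *ᵥ w) w - 1) • w := by
          have e : y = l⁻¹ • (l • (w + y)) - w := by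
            rw [smul_smul, inv_mul_cancel₀ hl0, one_smul]
            abel
          rw [e, ← hl]
          module
        have h3 := y2
        rw [hyw, hf.bilinear.smul_left, hf.skew w (ζ *ᵥ w)] at h3
        rcases mul_eq_zero.mp h3 with h4 | h4
        · rw [h4, zero_smul] at hyw
          exact hy0 hyw
        · exact hd (neg_eq_zero.mp h4)
      rw [hl0, zero_smul] at hl
      rcases smul_eq_zero.mp hl with h4 | h4
      · exact hd h4
      · apply hw 0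
        rw [h4, Matrix.mulVec_zero, smul_zero]
    · rw [hval, hf.bilinear.smul_left, hf.bilinear.add_right, hf.alternating, hf.skew w y, y1]
      ring

end Cfsg.Agent.Lib.helper7.TO
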