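import Cfsg.Agent.Lib.Helper21.TS.Basic

/-!
# Project TS, piece NOT3: a vector space over a field with `2 ≠ 0` is not the union of three hyperplanes.
-/

set_option autoImplicit false
set_option linter.unusedSectionVars false
set_option linter.unusedVariables false

namespace Cfsg.Agent.Lib.Helper21.TS

open Matrix
open scoped Kronecker
open Cfsg.Agent.Lib.helper7.TP

variable {ι : Type*} [Fintype ι] [DecidableEq ι] {a b : ℕ} {F : Type*} [Field F]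
  {J1 : Matrix (Fin a) (Fin a) F} {J2 : Matrix (Fin b) (Fin b) F}
  {M : Subgroup (Matrix.GeneralLinearGroup (Fin a × Fin b) F)}

/-- a non-zero covector does not vanish identically. -/
theorem tsnot3_one (y : ι → F) (h : y ≠ 0) : ∃ x : ι → F, y ⬝ᵥ x ≠ 0 := by
  obtain ⟨i, hi⟩ := Function.ne_iff.mp h
  refine ⟨Pi.single i 1, ?_⟩
  rw [dotProduct_single, mul_one]
  exact hi

/-- two hyperplanes do not cover the space. -/
theorem tsnot3_two (y₁ y₂ : ι → F) (h₁ : y₁ ≠ 0) (h₂ : y₂ ≠ 0) :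
    ∃ x : ι → F, y₁ ⬝ᵥ x ≠ 0 ∧ y₂ ⬝ᵥ x ≠ 0 := by
  obtain ⟨x₁, hx₁⟩ := tsnot3_one y₁ h₁
  obtain ⟨x₂, hx₂⟩ := tsnot3_one y₂ h₂
  by_cases h21 : y₂ ⬝ᵥ x₁ = 0
  · by_cases h12 : y₁ ⬝ᵥ x₂ = 0
    · refine ⟨x₁ + x₂, ?_, ?_⟩
      · rw [dotProduct_add, h12, add_zero]
        exact hx₁
      · rw [dotProduct_add, h21, zero_add]
        exact hx₂
    · exact ⟨x₂, h12, hx₂⟩
  · exact ⟨x₁, hx₁, h21⟩

/-- NOT3 [S-M]. a vector space over a field with `2 ≠ 0` (so `|F| ≥ 3`) is not the union of three hyperplanes. -/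
theorem not3 (two : (2 : F) ≠ 0) (y₁ y₂ y₃ : ι → F) (h₁ : y₁ ≠ 0) (h₂ : y₂ ≠ 0) (h₃ : y₃ ≠ 0) :
    ∃ x : ι → F, y₁ ⬝ᵥ x ≠ 0 ∧ y₂ ⬝ᵥ x ≠ 0 ∧ y₃ ⬝ᵥ x ≠ 0 := by
  obtain ⟨x, hA, hB⟩ := tsnot3_two y₁ y₂ h₁ h₂
  by_cases h3 : y₃ ⬝ᵥ x = 0
  swap
  · exact ⟨x, hA, hB, h3⟩
  obtain ⟨y, hy⟩ := tsnot3_one y₃ h₃
  by_contra hcon
  push Not at hcon
  -- the three candidates `y`, `y + x`, `y - x`
  have c0 : y₁ ⬝ᵥ y = 0 ∨ y₂ ⬝ᵥ y = 0 := by
    by_contra hc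
    push Not at hc
    exact hy (hcon y hc.1 hc.2)
  have c1 : y₁ ⬝ᵥ y + y₁ ⬝ᵥ x = 0 ∨ y₂ ⬝ᵥ y + y₂ ⬝ᵥ x = 0 := by
    by_contra hc
    push Not at hc
    have := hcon (y + x) (by rw [dotProduct_add]; exact hc.1) (by rw [dotProduct_add]; exact hc.2)
    rw [dotProduct_add, h3, add_zero] at this
    exact hy this
  have c2 : y₁ ⬝ᵥ y - y₁ ⬝ᵥ x = 0 ∨ y₂ ⬝ᵥ y - y₂ ⬝ᵥ x = 0 := by
    by_contra hc
    push Not at hc
    have := hcon (y - x) (by rw [dotProduct_sub]; exact hc.1) (by rw [dotProduct_sub]; exact hc.2)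
    rw [dotProduct_sub, h3, sub_zero] at this
    exact hy this
  have key : ∀ p A : F, A ≠ 0 → (p = 0 → p + A = 0 → False) ∧ (p = 0 → p - A = 0 → False) ∧
      (p + A = 0 → p - A = 0 → False) := by
    intro p A hA
    refine ⟨fun e1 e2 => hA (by linear_combination e2 - e1), fun e1 e2 => hA (by linear_combination e1 - e2),
      fun e1 e2 => ?_⟩
    have h2A : (2 : F) * A = 0 := by linear_combination e1 - e2
    rcases mul_eq_zero.mp h2A with h | h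
    · exact two h
    · exact hA h
  obtain ⟨k1, k2, k3⟩ := key (y₁ ⬝ᵥ y) (y₁ ⬝ᵥ x) hA
  obtain ⟨l1, l2, l3⟩ := key (y₂ ⬝ᵥ y) (y₂ ⬝ᵥ x) hB
  rcases c0 with e0 | e0
  · rcases c1 with e1 | e1
    · exact k1 e0 e1
    · rcases c2 with e2 | e2
      · exact k2 e0 e2
      · exact l3 e1 e2
  · rcases c1 with e1 | e1
    · rcases c2 with e2 | e2
      · exact k3 e1 e2
      · exact l2 e0 e2
    · exact l1 e0 e1

end Cfsg.Agent.Lib.Helper21.TS
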