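import Cfsg.Agent.Lib.Helper21.TS.Basic
import Cfsg.Agent.Lib.Helper20.TSNOT3

/-!
# Project TS, second copy of PURE3 under the prefix `tspure3h20_` (the verbatim name `pure3` is helper22's).
-/

set_option autoImplicit false
set_option linter.unusedSectionVars false
set_option linter.unusedVariables false

namespace Cfsg.Agent.Lib.Helper21.TS

open Matrix
open scoped Kronecker
open Cfsg.Agent.Lib.helper7.TP

variable {ι : Type*} [Fintype ι] [DecidableEq ι] {a b : ℕ} {F : Type*} [Field F]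
  {J1 : Matrix (Fin a) (Fin a) F} {J2 : Matrix (Fin b) (Fin b) F}
  {M : Subgroup (Matrix.GeneralLinearGroup (Fin a × Fin b) F)}

/-- `(u ⊗ w) ⬝ᵥ y = (i ↦ (y (i, ·)) ⬝ᵥ w) ⬝ᵥ u`. -/
theorem tspure3h20_dot (u : Fin a → F) (w : Fin b → F) (y : Fin a × Fin b → F) :
    ten u w ⬝ᵥ y = (fun i => (fun j => y (i, j)) ⬝ᵥ w) ⬝ᵥ u := by
  simp only [dotProduct, ten, Fintype.sum_prod_type, Finset.sum_mul]
  apply Finset.sum_congr rfl
  intro i _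
  apply Finset.sum_congr rfl
  intro j _
  ring

/-- a non-zero vector of `V` has a non-zero row. -/
theorem tspure3h20_row {y : Fin a × Fin b → F} (hy : y ≠ 0) : ∃ i : Fin a, (fun j => y (i, j)) ≠ 0 := by
  obtain ⟨⟨i, j⟩, hij⟩ := Function.ne_iff.mp hy
  exact ⟨i, fun h => hij (congrFun h j)⟩

/-- the statement of PURE3. -/
theorem tspure3h20_main (C : Ctx J1 J2) (x₁ x₂ x₃ : Fin a × Fin b → F) (h₁ : x₁ ≠ 0) (h₂ : x₂ ≠ 0)
    (h₃ : x₃ ≠ 0) :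
    ∃ (u : Fin a → F) (w : Fin b → F), bf (JV J1 J2) (ten u w) x₁ ≠ 0 ∧ bf (JV J1 J2) (ten u w) x₂ ≠ 0 ∧
      bf (JV J1 J2) (ten u w) x₃ ≠ 0 := by
  have hdet : (JV J1 J2).det ≠ 0 := by
    rw [JV, Matrix.det_kronecker]
    exact mul_ne_zero (pow_ne_zero _ C.det1) (pow_ne_zero _ C.det2)
  have hy : ∀ x : Fin a × Fin b → F, x ≠ 0 → JV J1 J2 *ᵥ x ≠ 0 := fun x hx h0 =>
    hx (Matrix.eq_zero_of_mulVec_eq_zero hdet h0)
  obtain ⟨i₁, hi₁⟩ := tspure3h20_row (hy x₁ h₁)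
  obtain ⟨i₂, hi₂⟩ := tspure3h20_row (hy x₂ h₂)
  obtain ⟨i₃, hi₃⟩ := tspure3h20_row (hy x₃ h₃)
  obtain ⟨w, hw₁, hw₂, hw₃⟩ := not3 C.two _ _ _ hi₁ hi₂ hi₃
  have hY : ∀ (y : Fin a × Fin b → F) (i : Fin a), (fun j => y (i, j)) ⬝ᵥ w ≠ 0 →
      (fun i => (fun j => y (i, j)) ⬝ᵥ w) ≠ 0 := fun y i h h0 => h (congrFun h0 i)
  obtain ⟨u, hu₁, hu₂, hu₃⟩ := not3 C.two _ _ _ (hY _ i₁ hw₁) (hY _ i₂ hw₂) (hY _ i₃ hw₃)
  refine ⟨u, w, ?_, ?_, ?_⟩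
  · rw [bf, tspure3h20_dot]
    exact hu₁
  · rw [bf, tspure3h20_dot]
    exact hu₂
  · rw [bf, tspure3h20_dot]
    exact hu₃

end Cfsg.Agent.Lib.Helper21.TS
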