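import Cfsg.Agent.Lib.Helper21.TS.Basic

/-!
# Project TS, piece SPAN (core): all pure tensors in `TT` ⟹ all vectors in `TT`, with the statements of
`tt_zero`, `tt_add3`, `pure3` as hypotheses.
-/

set_option autoImplicit false
set_option linter.unusedSectionVars false
set_option linter.unusedVariables false

namespace Cfsg.Agent.Lib.Helper21.TS

open Matrix
open scoped Kronecker
open Cfsg.Agent.Lib.helper7.TP

variable {ι : Type*} [Fintype ι] [DecidableEq ι] {a b : ℕ} {F : Type*} [Field F]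
  {J1 : Matrix (Fin a) (Fin a) F} {J2 : Matrix (Fin b) (Fin b) F}
  {M : Subgroup (Matrix.GeneralLinearGroup (Fin a × Fin b) F)}

/-- every vector is the sum of the pure tensors `e_i ⊗ (row i)`. -/
theorem tsspan_eq_sum_ten (X : Fin a × Fin b → F) :
    X = ∑ i : Fin a, ten (Pi.single i (1 : F)) (fun j => X (i, j)) := by
  funext p
  obtain ⟨i, j⟩ := p
  rw [Finset.sum_apply]
  simp only [ten, Pi.single_apply]
  rw [Finset.sum_eq_single i]
  · simp
  · intro k _ hk
    simp [Ne.symm hk]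
  · intro h
    exact absurd (Finset.mem_univ i) h

/-- SPAN, with the statements of `tt_zero`, `tt_add3`, `pure3` as hypotheses. -/
theorem tt_all_core (hzero : TT J1 J2 M 0)
    (hadd3 : ∀ v₁ v₂ z : Fin a × Fin b → F, TT J1 J2 M v₁ → TT J1 J2 M v₂ → TT J1 J2 M z →
      bf (JV J1 J2) z v₁ ≠ 0 → bf (JV J1 J2) z v₂ ≠ 0 → bf (JV J1 J2) z (v₁ + v₂) ≠ 0 →
      TT J1 J2 M (v₁ + v₂))
    (hpure3 : ∀ x₁ x₂ x₃ : Fin a × Fin b → F, x₁ ≠ 0 → x₂ ≠ 0 → x₃ ≠ 0 →
      ∃ (u : Fin a → F) (w : Fin b → F), bf (JV J1 J2) (ten u w) x₁ ≠ 0 ∧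
        bf (JV J1 J2) (ten u w) x₂ ≠ 0 ∧ bf (JV J1 J2) (ten u w) x₃ ≠ 0)
    (hpure : ∀ (u : Fin a → F) (w : Fin b → F), TT J1 J2 M (ten u w)) :
    ∀ v : Fin a × Fin b → F, TT J1 J2 M v := by
  intro v
  have hsum : ∀ s : Finset (Fin a),
      TT J1 J2 M (∑ i ∈ s, ten (Pi.single i (1 : F)) (fun j => v (i, j))) := by
    intro s
    induction s using Finset.induction_on with
    | empty =>
      rw [Finset.sum_empty]
      exact hzero
    | insert i s hi ih =>
      rw [Finset.sum_insert hi]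
      have htT : TT J1 J2 M (ten (Pi.single i (1 : F)) (fun j => v (i, j))) := hpure _ _
      by_cases h1 : ten (Pi.single i (1 : F)) (fun j => v (i, j)) = 0
      · rw [h1, zero_add]
        exact ih
      by_cases h2 : (∑ i ∈ s, ten (Pi.single i (1 : F)) (fun j => v (i, j))) = 0
      · rw [h2, add_zero]
        exact htT
      by_cases h3 : ten (Pi.single i (1 : F)) (fun j => v (i, j)) +
          (∑ i ∈ s, ten (Pi.single i (1 : F)) (fun j => v (i, j))) = 0
      · rw [h3]
        exact hzero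
      obtain ⟨u, w, e1, e2, e3⟩ := hpure3 _ _ _ h1 h2 h3
      exact hadd3 _ _ (ten u w) htT ih (hpure u w) e1 e2 e3
  have h := hsum Finset.univ
  rwa [← tsspan_eq_sum_ten v] at h

end Cfsg.Agent.Lib.Helper21.TS
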