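import Cfsg.Agent.Lib.Helper21.TS.Basic
import Cfsg.Agent.Lib.Helper11.TSTVCL
import Cfsg.Agent.Lib.Helper20.TSPURE3h20
import Cfsg.Agent.Lib.Helper20.TSSPANcore

/-!
# Project TS, piece SPAN: all pure tensors in `TT` ⟹ all vectors in `TT`.
-/

set_option autoImplicit false
set_option linter.unusedSectionVars false
set_option linter.unusedVariables false

namespace Cfsg.Agent.Lib.Helper21.TS

open Matrix
open scoped Kronecker
open Cfsg.Agent.Lib.helper7.TP

variable {ι : Type*} [Fintype ι] [DecidableEq ι] {a b : ℕ} {F : Type*} [Field F]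
  {J1 : Matrix (Fin a) (Fin a) F} {J2 : Matrix (Fin b) (Fin b) F}
  {M : Subgroup (Matrix.GeneralLinearGroup (Fin a × Fin b) F)}

/-- SPAN [M]. all pure tensors in `TT` ⟹ all vectors in `TT`.
(`tt_all_core` + TVCL (`tt_zero`, `tt_add3`) + the second copy `tspure3h20_main` of PURE3.) -/
theorem tt_all (C : Ctx J1 J2) (hMS : M ≤ SpV J1 J2)
    (hpure : ∀ (u : Fin a → F) (w : Fin b → F), TT J1 J2 M (ten u w)) :
    ∀ v : Fin a × Fin b → F, TT J1 J2 M v :=
  tt_all_core tt_zero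
    (fun v₁ v₂ z h1 h2 hz hz1 hz2 hz12 => tt_add3 C hMS h1 h2 hz hz1 hz2 hz12)
    (fun x₁ x₂ x₃ h₁ h₂ h₃ => tspure3h20_main C x₁ x₂ x₃ h₁ h₂ h₃) hpure

end Cfsg.Agent.Lib.Helper21.TS
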