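import Cfsg.Agent.Lib.helper7.TP.Defs
import Cfsg.Agent.Lib.helper7.TP.MeetA

/-!
# Project TP (S5637, leader helper7), piece ALG (helper20, second writer) :
`lamA_add lamA_neg lamA_scalar lamA_mul lamA_conj` VERBATIM; extras `tpalg_*`.
-/

set_option autoImplicit false

namespace Cfsg.Agent.Lib.helper7.TP

open Matrix Module
open scoped Kronecker

variable {a b : ℕ} {F : Type*} [Field F]

/-- ALG1. -/
theorem lamA_add (M : Subgroup (Matrix.GeneralLinearGroup (Fin a × Fin b) F))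
    (ζ ζ' : Matrix (Fin a) (Fin a) F) (h : LamA M ζ) (h' : LamA M ζ') : LamA M (ζ + ζ') := by
  rw [LamA_iff] at h h' ⊢
  intro w ψ hψ
  have : EL (ζ + ζ') w ψ hψ = EL ζ w ψ hψ * EL ζ' w ψ hψ := by
    apply Units.ext
    rw [Units.val_mul, EL_coe, EL_coe, EL_coe, ELm_mul_ELm _ _ _ _ hψ]
  rw [this]
  exact M.mul_mem (h w ψ hψ) (h' w ψ hψ)

/-- ALG2. -/
theorem lamA_neg (M : Subgroup (Matrix.GeneralLinearGroup (Fin a × Fin b) F))
    (ζ : Matrix (Fin a) (Fin a) F) (h : LamA M ζ) : LamA M (-ζ) := by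
  rw [LamA_iff] at h ⊢
  intro w ψ hψ
  have : EL (-ζ) w ψ hψ = (EL ζ w ψ hψ)⁻¹ := by
    apply Units.ext
    rfl
  rw [this]
  exact M.inv_mem (h w ψ hψ)

/-- `ELm (c • 1) w ψ = ELm 1 (c • w) ψ`. -/
theorem tpalg_ELm_scalar (c : F) (w ψ : Fin b → F) :
    ELm (c • (1 : Matrix (Fin a) (Fin a) F)) w ψ = ELm (1 : Matrix (Fin a) (Fin a) F) (c • w) ψ := by
  rw [Matrix.ext_iff_mulVec]
  intro v
  rw [ELm_mulVec, ELm_mulVec, Matrix.smul_mulVec, Matrix.one_mulVec, ten_smul_left,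
    ten_smul_right]

/-- ALG3: `ELm (c • 1) w ψ = 1 ⊗ (1 + c w ψᵀ) ∈ T0`. -/
theorem lamA_scalar (M : Subgroup (Matrix.GeneralLinearGroup (Fin a × Fin b) F))
    (hTM : T0 a b F ≤ M) (c : F) : LamA M (c • (1 : Matrix (Fin a) (Fin a) F)) := by
  rw [LamA_iff]
  intro w ψ hψ
  have hψ' : ψ ⬝ᵥ (c • w) = 0 := by rw [dotProduct_smul, hψ, smul_zero]
  have : EL (c • (1 : Matrix (Fin a) (Fin a) F)) w ψ hψ =
      EL (1 : Matrix (Fin a) (Fin a) F) (c • w) ψ hψ' := by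
    apply Units.ext
    rw [EL_coe, EL_coe, tpalg_ELm_scalar]
  rw [this]
  exact hTM (tpmeet_EL_one_mem_T0 (c • w) ψ hψ')

/-- `ELm ζ w ψ = 1 + X`, products of the `X`'s. -/
theorem tpalg_XY (ζ ζ' : Matrix (Fin a) (Fin a) F) (w ψ w' ψ' : Fin b → F) :
    (ζ ⊗ₖ Matrix.vecMulVec w ψ) * (ζ' ⊗ₖ Matrix.vecMulVec w' ψ') =
      (ψ ⬝ᵥ w') • ((ζ * ζ') ⊗ₖ Matrix.vecMulVec w ψ') := by
  rw [← Matrix.mul_kronecker_mul, Matrix.vecMulVec_mul_vecMulVec, Matrix.vecMulVec_smul,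
    Matrix.kronecker_smul]

/-- the commutator identity -/
theorem tpalg_comm {R : Type*} [Ring R] (X Y : R) (h1 : X * X = 0) (h2 : Y * Y = 0)
    (h3 : Y * X = 0) : (1 + X) * (1 + Y) * (1 - X) * (1 - Y) = 1 + X * Y := by
  have : (1 + X) * (1 + Y) * (1 - X) * (1 - Y) =
      1 + X * Y - X * X - Y * X - X * (Y * X) - Y * Y - X * (Y * Y) + (X * X) * Y + (Y * X) * Y
        + X * (Y * X) * Y := by
    noncomm_ring
  rw [this, h1, h2, h3]
  simp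

/-- ALG5: conjugate by `α ⊗ 1 ∈ T0`. -/
theorem lamA_conj (M : Subgroup (Matrix.GeneralLinearGroup (Fin a × Fin b) F))
    (hTM : T0 a b F ≤ M) (α : Matrix (Fin a) (Fin a) F) (hα : α.det = 1)
    (ζ : Matrix (Fin a) (Fin a) F) (h : LamA M ζ) : LamA M (α * ζ * α⁻¹) := by
  rw [LamA_iff] at h ⊢
  intro w ψ hψ
  have hα0 : α.det ≠ 0 := by rw [hα]; exact one_ne_zero
  have hdet : (α ⊗ₖ (1 : Matrix (Fin b) (Fin b) F)).det = 1 := by
    rw [Matrix.det_kronecker, hα, Matrix.det_one, one_pow, one_pow, one_mul]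
  have hdet0 : (α ⊗ₖ (1 : Matrix (Fin b) (Fin b) F)).det ≠ 0 := by rw [hdet]; exact one_ne_zero
  set A : Matrix.GeneralLinearGroup (Fin a × Fin b) F :=
    Matrix.GeneralLinearGroup.mkOfDetNeZero _ hdet0 with hA
  have hAv : (A : Matrix (Fin a × Fin b) (Fin a × Fin b) F) = α ⊗ₖ (1 : Matrix (Fin b) (Fin b) F) := rfl
  have hAT : A ∈ T0 a b F := by
    refine Subgroup.mem_inf.mpr ⟨?_, ?_⟩
    · refine ⟨Matrix.GeneralLinearGroup.mkOfDetNeZero α hα0, 1, ?_⟩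
      rw [hAv]
      rfl
    · rw [Cfsg.Geo.specialLinear, MonoidHom.mem_ker]
      apply Units.ext
      rw [Matrix.GeneralLinearGroup.val_det_apply, hAv, hdet]
      rfl
  have hαi : α⁻¹ * α = 1 := Matrix.nonsing_inv_mul α (by rw [hα]; exact isUnit_one)
  have : EL (α * ζ * α⁻¹) w ψ hψ = A * EL ζ w ψ hψ * A⁻¹ := by
    rw [eq_mul_inv_iff_mul_eq]
    apply Units.ext
    rw [Units.val_mul, Units.val_mul, EL_coe, EL_coe, hAv, ELm, ELm, Matrix.add_mul, Matrix.mul_add,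
      Matrix.one_mul, Matrix.mul_one, ← Matrix.mul_kronecker_mul, ← Matrix.mul_kronecker_mul,
      Matrix.mul_one, Matrix.one_mul, Matrix.mul_assoc, Matrix.mul_assoc, hαi, Matrix.mul_one]
  rw [this]
  exact M.mul_mem (M.mul_mem (hTM hAT) (h w ψ hψ)) (M.inv_mem (hTM hAT))

/-- a linear functional on `F^b` is a dot product -/
theorem tpalg_dual_dot (f : (Fin b → F) →ₗ[F] F) :
    ∃ ψ : Fin b → F, ∀ v : Fin b → F, ψ ⬝ᵥ v = f v := by
  refine ⟨fun i => f (fun j => if i = j then 1 else 0), fun v => ?_⟩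
  rw [LinearMap.pi_apply_eq_sum_univ f v, dotProduct]
  apply Finset.sum_congr rfl
  intro i _
  rw [smul_eq_mul, mul_comm]

/-- for `b ≥ 3` and any `w, ψ'` : `w' ∈ ker ψ'` and `ψ` with `ψ·w = 0`, `ψ·w' = 1`. -/
theorem tpalg_flag (hb : 3 ≤ b) (w ψ' : Fin b → F) :
    ∃ w' ψ : Fin b → F, ψ' ⬝ᵥ w' = 0 ∧ ψ ⬝ᵥ w = 0 ∧ ψ ⬝ᵥ w' = 1 := by
  -- the kernel of `ψ'`
  set φ : (Fin b → F) →ₗ[F] F := dotProductBilin F F ψ' with hφ
  have hφa : ∀ v, φ v = ψ' ⬝ᵥ v := fun v => rfl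
  have hker : b - 1 ≤ finrank F (LinearMap.ker φ) := by
    have h1 := LinearMap.finrank_range_add_finrank_ker φ
    have h2 : finrank F (LinearMap.range φ) ≤ 1 := by
      have := Submodule.finrank_le (LinearMap.range φ)
      simpa using this
    have h3 : finrank F (Fin b → F) = b := by simp
    omega
  have hsp : finrank F (Submodule.span F {w}) ≤ 1 := by
    have := finrank_span_le_card (R := F) ({w} : Set (Fin b → F))
    simpa using this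
  obtain ⟨w', hw'k, hw's⟩ : ∃ w' ∈ LinearMap.ker φ, w' ∉ Submodule.span F {w} := by
    by_contra hcon
    push Not at hcon
    have hle : LinearMap.ker φ ≤ Submodule.span F {w} := hcon
    have := Submodule.finrank_mono hle
    omega
  obtain ⟨f, hf, hfm⟩ := Submodule.exists_dual_map_eq_bot_of_notMem hw's inferInstance
  obtain ⟨ψ0, hψ0⟩ := tpalg_dual_dot f
  have hfw : f w = 0 := by
    have : f w ∈ (Submodule.span F {w}).map f := Submodule.mem_map_of_mem (Submodule.mem_span_singleton_self w)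
    rw [hfm] at this
    exact (Submodule.mem_bot F).mp this
  refine ⟨w', (f w')⁻¹ • ψ0, ?_, ?_, ?_⟩
  · rw [← hφa]
    exact LinearMap.mem_ker.mp hw'k
  · rw [smul_dotProduct, hψ0, hfw, smul_zero]
  · rw [smul_dotProduct, hψ0, smul_eq_mul, inv_mul_cancel₀ hf]

theorem tpalg_ELm_neg (ζ : Matrix (Fin a) (Fin a) F) (w ψ : Fin b → F) :
    ELm (-ζ) w ψ = 1 - ζ ⊗ₖ Matrix.vecMulVec w ψ := by
  rw [ELm, sub_eq_add_neg]
  congr 1
  ext p q
  simp [Matrix.kroneckerMap_apply]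

/-- ALG4 -/
theorem lamA_mul (hb : 3 ≤ b) (M : Subgroup (Matrix.GeneralLinearGroup (Fin a × Fin b) F))
    (ζ ζ' : Matrix (Fin a) (Fin a) F) (h : LamA M ζ) (h' : LamA M ζ') : LamA M (ζ * ζ') := by
  rw [LamA_iff] at h h' ⊢
  intro w ψ' hψ'
  obtain ⟨w', ψ, h1, h2, h3⟩ := tpalg_flag hb w ψ'
  have hXX : (ζ ⊗ₖ Matrix.vecMulVec w ψ) * (ζ ⊗ₖ Matrix.vecMulVec w ψ) = 0 := by
    rw [tpalg_XY, h2, zero_smul]
  have hYY : (ζ' ⊗ₖ Matrix.vecMulVec w' ψ') * (ζ' ⊗ₖ Matrix.vecMulVec w' ψ') = 0 := by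
    rw [tpalg_XY, h1, zero_smul]
  have hYX : (ζ' ⊗ₖ Matrix.vecMulVec w' ψ') * (ζ ⊗ₖ Matrix.vecMulVec w ψ) = 0 := by
    rw [tpalg_XY, hψ', zero_smul]
  have hXY : (ζ ⊗ₖ Matrix.vecMulVec w ψ) * (ζ' ⊗ₖ Matrix.vecMulVec w' ψ') =
      (ζ * ζ') ⊗ₖ Matrix.vecMulVec w ψ' := by
    rw [tpalg_XY, h3, one_smul]
  have : EL (ζ * ζ') w ψ' hψ' =
      EL ζ w ψ h2 * EL ζ' w' ψ' h1 * (EL ζ w ψ h2)⁻¹ * (EL ζ' w' ψ' h1)⁻¹ := by
    apply Units.ext
    have e1 : (((EL ζ w ψ h2)⁻¹ : Matrix.GeneralLinearGroup (Fin a × Fin b) F) :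
        Matrix (Fin a × Fin b) (Fin a × Fin b) F) = ELm (-ζ) w ψ := rfl
    have e2 : (((EL ζ' w' ψ' h1)⁻¹ : Matrix.GeneralLinearGroup (Fin a × Fin b) F) :
        Matrix (Fin a × Fin b) (Fin a × Fin b) F) = ELm (-ζ') w' ψ' := rfl
    rw [Units.val_mul, Units.val_mul, Units.val_mul, e1, e2, EL_coe, EL_coe, EL_coe,
      tpalg_ELm_neg, tpalg_ELm_neg, ELm, ELm, ELm, tpalg_comm _ _ hXX hYY hYX, hXY]
  rw [this]
  exact M.mul_mem (M.mul_mem (M.mul_mem (h w ψ h2) (h' w' ψ' h1)) (M.inv_mem (h w ψ h2)))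
    (M.inv_mem (h' w' ψ' h1))

end Cfsg.Agent.Lib.helper7.TP
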