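import Mathlib
import Cfsg.Prelude.Def_GeometricClasses
import Cfsg.Agent.Lib.Helper27.ASC.Defs
import Cfsg.Agent.Lib.helper23.ASCO.Defs
import Cfsg.Agent.Lib.Lead.Reindex

/-!
# Project ASCO, piece SCHURF: an invariant bilinear Gram matrix of an absolutely irreducible set is
unique up to a scalar (verbatim vs `ASCO/Skel`)
-/

set_option autoImplicit false
set_option linter.unusedVariables false
set_option linter.unusedSectionVars false

namespace Cfsg.Agent.Lib.helper23.ASCO

open Cfsg Cfsg.Geo Cfsg.Agent.Lib.Helper27.ASC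
open scoped MatrixGroups Matrix

variable {n : ℕ} {F : Type*} [Field F] [Fintype F]

/-- `sᵀ A s = A` with `s`, `A` invertible gives `s A⁻¹ sᵀ = A⁻¹` -/
theorem ascoschurf_inv {n : ℕ} {F : Type*} [Field F] (s A : Matrix (Fin n) (Fin n) F)
    (hs : IsUnit s.det) (hA : IsUnit A.det) (h : s.transpose * A * s = A) :
    s * A⁻¹ * s.transpose = A⁻¹ := by
  have h1 : s.transpose * A = A * s⁻¹ := by
    have h0 : s.transpose * A * s * s⁻¹ = A * s⁻¹ := by rw [h]
    rw [Matrix.mul_assoc, Matrix.mul_nonsing_inv s hs, Matrix.mul_one] at h0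
    exact h0
  have h2 : (s * A⁻¹ * s.transpose) * A = 1 := by
    rw [Matrix.mul_assoc, h1, ← Matrix.mul_assoc, Matrix.mul_assoc s, Matrix.nonsing_inv_mul A hA,
      Matrix.mul_one, Matrix.mul_nonsing_inv s hs]
  exact (Matrix.inv_eq_left_inv h2).symm

/-- SCHURF : an invariant non-degenerate bilinear form of an absolutely irreducible set of invertible
matrices is unique up to a scalar. -/
theorem invariant_gram_unique {S : Set (Matrix (Fin n) (Fin n) F)} (hS : ActsAbsolutelyIrreducibly S)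
    (hu : ∀ s ∈ S, IsUnit s.det) (A A' : Matrix (Fin n) (Fin n) F) (hA : IsUnit A.det)
    (h : ∀ s ∈ S, s.transpose * A * s = A) (h' : ∀ s ∈ S, s.transpose * A' * s = A') :
    ∃ c : F, A' = c • A := by
  obtain ⟨c, hc⟩ := hS.2 (A⁻¹ * A') (by
    intro s hs
    have h1 := ascoschurf_inv s A (hu s hs) hA (h s hs)
    have h2 : s * (A⁻¹ * A') = s * A⁻¹ * (s.transpose * A' * s) := by
      rw [h' s hs, Matrix.mul_assoc]
    have h3 : s * A⁻¹ * (s.transpose * A' * s) = (s * A⁻¹ * s.transpose) * A' * s := by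
      simp only [Matrix.mul_assoc]
    rw [h2, h3, h1])
  refine ⟨c, ?_⟩
  have h4 : A' = A * (A⁻¹ * A') := by
    rw [← Matrix.mul_assoc, Matrix.mul_nonsing_inv A hA, Matrix.one_mul]
  rw [h4, hc, Matrix.mul_smul, Matrix.mul_one]

end Cfsg.Agent.Lib.helper23.ASCO
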