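import Mathlib
import Cfsg.Agent.Lib.Lead.BCG.Defs
import Cfsg.Agent.Lib.Helper24.S5972SPLIT
import Cfsg.Agent.Lib.helper23.ONECYCLADDER
import Cfsg.Agent.Lib.Helper24.ElC

set_option autoImplicit false

/-!
# Project BCG, row A16 (`o_cyc_dim`).
-/

namespace Cfsg.Agent.Lib.Lead.BCG

open Polynomial Module Matrix Cfsg.Agent.Lib.Helper13.S5955 Cfsg.Agent.Lib.helper15.S5972
  Cfsg.Agent.Lib.Helper18.ONE Cfsg.Agent.Lib.Lead.BCS

/-- complements: `cycS r y ≠ ⊥` when `y ≠ 1` and `fixS y`, `cycS r y` are complementary -/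
theorem bcga16_pos {F : Type*} [Field F] {V : Type*} [AddCommGroup V] [Module F V]
    [FiniteDimensional F V] {r : ℕ} {y : Module.End F V}
    (hcompl : IsCompl (fixS y) (cycS r y)) (hy : y ≠ 1) :
    0 < finrank F (cycS r y) ∧
      finrank F (fixS y) + finrank F (cycS r y) = finrank F V := by
  have hsum : finrank F (fixS y) + finrank F (cycS r y) = finrank F V :=
    Submodule.finrank_add_eq_of_isCompl hcompl
  have hne : cycS r y ≠ ⊥ := by
    intro hbot
    apply hy
    have htop : fixS y = ⊤ := by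
      have := hcompl.sup_eq_top
      rw [hbot, sup_bot_eq] at this
      exact this
    apply LinearMap.ext
    intro v
    rw [Module.End.one_apply]
    exact (bcs_mem_fixS y v).mp (by rw [htop]; exact Submodule.mem_top)
  refine ⟨?_, hsum⟩
  rw [Nat.pos_iff_ne_zero]
  intro h0
  exact hne (Submodule.finrank_eq_zero.mp h0)

/-- A16 [M] -/
theorem o_cyc_dim {F : Type*} [Field F] [Fintype F] {p : ℕ} [Fact p.Prime] [CharP F p]
    {V : Type*} [AddCommGroup V] [Module F V] [FiniteDimensional F V]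
    {r : ℕ} [Fact r.Prime] (hrp : r ≠ p) (hr2 : r ≠ 2) {B : LinearMap.BilinForm F V}
    {y : Module.End F V} (h : OCtx r B y) (hy : y ≠ 1) :
    0 < finrank F (cycS r y) ∧ cOf (Fintype.card F) r ∣ finrank F (cycS r y) ∧
      finrank F (fixS y) + finrank F (cycS r y) = finrank F V := by
  obtain ⟨-, hcompl, -, hnd⟩ := Cfsg.Agent.Lib.helper15.S5972.o_split (p := p) hrp h
  obtain ⟨hpos, hsum⟩ := bcga16_pos hcompl hy
  have hinv : SInv y (cycS r y) := by
    unfold cycS
    exact Cfsg.Agent.Lib.Helper24.el_inv_ker y (cyclotomic r F)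
  have hdvd : cOf (Fintype.card F) r ∣ finrank F (cycS r y) :=
    Cfsg.Agent.Lib.Helper18.ONE.o_cyc_nd_dvd (p := p) hrp hr2 h _ (cOf (Fintype.card F) r) rfl rfl
      (cycS r y) hinv le_rfl hnd
  exact ⟨hpos, hdvd, hsum⟩

end Cfsg.Agent.Lib.Lead.BCG
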