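import Mathlib

set_option autoImplicit false
set_option linter.unusedVariables false
set_option linter.unusedSectionVars false

/-!
# Descent of an `F`-bilinear form with `K`-self-adjoint scalars to a `K`-bilinear form (`f = Tr ∘ B`)

Toolbox for the extension-field rows with forms (C3S = S5664, C3O = S5680 / S5701) in the abstract C3L setting:
`V` a vector space over `K`, `K` a finite separable extension of `F` (automatic for finite fields).
-/

namespace Cfsg.Agent.Lib.Helper20.C3Desc

open Module

variable {F K V : Type*} [Field F] [Field K] [Algebra F K] [AddCommGroup V] [Module F V] [Module K V]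
  [IsScalarTower F K V]

/-- uniqueness in trace duality -/
theorem c3desc_tr_ext [FiniteDimensional F K] [Algebra.IsSeparable F K] {c c' : K}
    (h : ∀ k : K, Algebra.trace F K (k * c) = Algebra.trace F K (k * c')) : c = c' := by
  have hnd := traceForm_nondegenerate F K
  have h0 : c - c' = 0 := by
    apply hnd.1
    intro k
    rw [Algebra.traceForm_apply, mul_comm, mul_sub, map_sub, h k, sub_self]
  exact sub_eq_zero.mp h0

/-- the functional `k ↦ f (k • x) y` -/
def c3descPhi (f : V →ₗ[F] V →ₗ[F] F) (x y : V) : K →ₗ[F] F where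
  toFun k := f (k • x) y
  map_add' k k' := by rw [add_smul, map_add, LinearMap.add_apply]
  map_smul' c k := by rw [smul_assoc, map_smul, LinearMap.smul_apply, RingHom.id_apply]

/-- the `K`-valued form: the element representing `k ↦ f (k • x) y` in trace duality -/
noncomputable def c3descB (K : Type*) [Field K] [Algebra F K] [Module K V] [IsScalarTower F K V]
    [FiniteDimensional F K] [Algebra.IsSeparable F K]
    (f : V →ₗ[F] V →ₗ[F] F) (x y : V) : K :=
  ((Algebra.traceForm F K).toDual (traceForm_nondegenerate F K)).symm (c3descPhi f x y)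

/-- the defining property : `Tr (k * B x y) = f (k • x) y` -/
theorem c3desc_spec [FiniteDimensional F K] [Algebra.IsSeparable F K]
    (f : V →ₗ[F] V →ₗ[F] F) (x y : V) (k : K) :
    Algebra.trace F K (k * c3descB K f x y) = f (k • x) y := by
  have := LinearMap.BilinForm.apply_toDual_symm_apply (B := Algebra.traceForm F K)
    (hB := traceForm_nondegenerate F K) (c3descPhi f x y) k
  rw [Algebra.traceForm_apply] at this
  rw [mul_comm]
  exact this

/-- characterisation of `B x y` -/
theorem c3desc_eq_of [FiniteDimensional F K] [Algebra.IsSeparable F K]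
    (f : V →ₗ[F] V →ₗ[F] F) (x y : V) (c : K)
    (h : ∀ k : K, Algebra.trace F K (k * c) = f (k • x) y) : c3descB K f x y = c := by
  apply c3desc_tr_ext (F := F)
  intro k
  rw [c3desc_spec, h]

/-- DESCENT : an `F`-bilinear form for which the scalars of `K` are self-adjoint is the trace of a
`K`-bilinear form. -/
theorem c3desc_exists [FiniteDimensional F K] [Algebra.IsSeparable F K]
    (f : V →ₗ[F] V →ₗ[F] F) (hsa : ∀ (k : K) (x y : V), f (k • x) y = f x (k • y)) :
    ∃ B : V →ₗ[K] V →ₗ[K] K, (∀ x y, B x y = c3descB K f x y) ∧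
      (∀ x y, f x y = Algebra.trace F K (B x y)) ∧
      ∀ (k : K) (x y : V), f (k • x) y = Algebra.trace F K (k * B x y) := by
  refine ⟨LinearMap.mk₂ K (c3descB K f) ?_ ?_ ?_ ?_, fun x y => rfl, fun x y => ?_, fun k x y => ?_⟩
  · -- additive in `x`
    intro x x' y
    apply c3desc_eq_of
    intro k
    rw [mul_add, map_add, c3desc_spec, c3desc_spec, smul_add, map_add, LinearMap.add_apply]
  · -- `K`-homogeneous in `x`
    intro c x y
    apply c3desc_eq_of
    intro k
    rw [smul_eq_mul, ← mul_assoc, c3desc_spec, mul_smul]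
  · -- additive in `y`
    intro x y y'
    apply c3desc_eq_of
    intro k
    rw [mul_add, map_add, c3desc_spec, c3desc_spec, map_add]
  · -- `K`-homogeneous in `y`
    intro c x y
    apply c3desc_eq_of
    intro k
    rw [smul_eq_mul, ← mul_assoc, c3desc_spec, mul_smul, hsa k (c • x) y, hsa c x (k • y),
      hsa k x (c • y), smul_comm]
  · rw [LinearMap.mk₂_apply]
    have := c3desc_spec (K := K) f x y 1
    rw [one_mul, one_smul] at this
    exact this.symm
  · rw [LinearMap.mk₂_apply, c3desc_spec]

/-- uniqueness of the descended form -/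
theorem c3desc_unique [FiniteDimensional F K] [Algebra.IsSeparable F K]
    (f : V →ₗ[F] V →ₗ[F] F) (B : V →ₗ[K] V →ₗ[K] K)
    (hB : ∀ x y, f x y = Algebra.trace F K (B x y)) (x y : V) : B x y = c3descB K f x y := by
  symm
  apply c3desc_eq_of
  intro k
  rw [hB, map_smul, LinearMap.smul_apply, smul_eq_mul]

/-- `f` symmetric ⇒ `B` symmetric -/
theorem c3desc_symm [FiniteDimensional F K] [Algebra.IsSeparable F K]
    (f : V →ₗ[F] V →ₗ[F] F) (hsa : ∀ (k : K) (x y : V), f (k • x) y = f x (k • y))
    (hs : ∀ x y, f x y = f y x) (x y : V) : c3descB K f x y = c3descB K f y x := by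
  apply c3desc_eq_of
  intro k
  rw [c3desc_spec, hs (k • x) y, hsa k y x]

/-- `f` skew-symmetric ⇒ `B` skew-symmetric -/
theorem c3desc_skew [FiniteDimensional F K] [Algebra.IsSeparable F K]
    (f : V →ₗ[F] V →ₗ[F] F) (hsa : ∀ (k : K) (x y : V), f (k • x) y = f x (k • y))
    (hs : ∀ x y, f x y = - f y x) (x y : V) : c3descB K f x y = - c3descB K f y x := by
  apply c3desc_eq_of
  intro k
  rw [mul_neg, map_neg, c3desc_spec, hs (k • x) y, hsa k y x]

/-- the hypothesis `halt` of S5664 : `f (k x, x) = 0` for all `k` ⇒ `B` alternating -/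
theorem c3desc_alt [FiniteDimensional F K] [Algebra.IsSeparable F K]
    (f : V →ₗ[F] V →ₗ[F] F) (halt : ∀ (k : K) (x : V), f (k • x) x = 0) (x : V) :
    c3descB K f x x = 0 := by
  apply c3desc_eq_of
  intro k
  rw [mul_zero, map_zero, halt]

/-- `B x y = 0` iff `f (k x, y) = 0` for all `k` : the `K`-perp of `x` is the `F`-perp of the `K`-line `K x`. -/
theorem c3desc_perp [FiniteDimensional F K] [Algebra.IsSeparable F K]
    (f : V →ₗ[F] V →ₗ[F] F) (x y : V) :
    c3descB K f x y = 0 ↔ ∀ k : K, f (k • x) y = 0 := by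
  constructor
  · intro h k
    rw [← c3desc_spec, h, mul_zero, map_zero]
  · intro h
    apply c3desc_eq_of
    intro k
    rw [mul_zero, map_zero, h]

/-- non-degeneracy descends -/
theorem c3desc_nondeg [FiniteDimensional F K] [Algebra.IsSeparable F K]
    (f : V →ₗ[F] V →ₗ[F] F) (hnd : ∀ x : V, x ≠ 0 → ∃ y, f x y ≠ 0) (x : V) (hx : x ≠ 0) :
    ∃ y, c3descB K f x y ≠ 0 := by
  obtain ⟨y, hy⟩ := hnd x hx
  refine ⟨y, fun h => hy ?_⟩
  have := (c3desc_perp (K := K) f x y).mp h 1
  rwa [one_smul] at this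

/-- finite fields : the separability instance is automatic -/
theorem c3desc_exists_finite [Finite K] [FiniteDimensional F K]
    (f : V →ₗ[F] V →ₗ[F] F) (hsa : ∀ (k : K) (x y : V), f (k • x) y = f x (k • y)) :
    ∃ B : V →ₗ[K] V →ₗ[K] K,
      (∀ x y, f x y = Algebra.trace F K (B x y)) ∧
      (∀ (k : K) (x y : V), f (k • x) y = Algebra.trace F K (k * B x y)) ∧
      ((∀ x y, f x y = f y x) → ∀ x y, B x y = B y x) ∧
      ((∀ x y, f x y = - f y x) → ∀ x y, B x y = - B y x) ∧
      ((∀ (k : K) (x : V), f (k • x) x = 0) → ∀ x, B x x = 0) ∧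
      (∀ x y, B x y = 0 ↔ ∀ k : K, f (k • x) y = 0) ∧
      ((∀ x : V, x ≠ 0 → ∃ y, f x y ≠ 0) → ∀ x : V, x ≠ 0 → ∃ y, B x y ≠ 0) := by
  haveI : Finite F := Finite.of_injective (algebraMap F K) (algebraMap F K).injective
  haveI : Algebra.IsSeparable F K := inferInstance
  obtain ⟨B, hB, h1, h2⟩ := c3desc_exists (K := K) f hsa
  refine ⟨B, h1, h2, fun hs x y => ?_, fun hs x y => ?_, fun ha x => ?_, fun x y => ?_,
    fun hnd x hx => ?_⟩
  · rw [hB, hB, c3desc_symm f hsa hs]
  · rw [hB, hB, c3desc_skew f hsa hs]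
  · rw [hB, c3desc_alt f ha]
  · rw [hB, c3desc_perp]
  · obtain ⟨y, hy⟩ := c3desc_nondeg (K := K) f hnd x hx
    exact ⟨y, by rw [hB]; exact hy⟩

end Cfsg.Agent.Lib.Helper20.C3Desc
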