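import Mathlib
import Cfsg.Agent.Lib.Helper22.C3L.Defs
import Cfsg.Agent.Lib.helper8.C3S.Defs
import Cfsg.Agent.Lib.Helper1.C3LSTEPBa
import Cfsg.Agent.Lib.Helper1.C3LSTEPB

set_option autoImplicit false
set_option linter.unusedVariables false
set_option linter.unusedSectionVars false

/-!
# Project C3S, piece STEPBG (helper20): `stepB_gen`, copy of helper1's `stepB` with `hC : C1 F K V ≤ H`
replaced by the conclusion of BORB for `H`.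
-/

namespace Cfsg.Agent.Lib.helper8.C3S

open Module Cfsg.Agent.Lib.Helper22.C3L

variable {F K V : Type*} [Field F] [Field K] [Algebra F K] [AddCommGroup V] [Module F V] [Module K V]
  [IsScalarTower F K V]

/-- STEPBG. -/
theorem stepB_gen [Finite K] [FiniteDimensional K V] (hr : (finrank F K).Prime) (hm : 2 ≤ finrank K V)
    (hq : ¬ (Nat.card F = 2 ∧ finrank F K = 2)) (H : Subgroup (V ≃ₗ[F] V))
    (hborb : ∀ {v : V} {h : V ≃ₗ[F] V}, h ∈ H → ¬ (Kl F K v).map (h : V →ₗ[F] V) ≤ Kl F K v →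
      ∀ {x x' : V}, x ∈ Kl F K v → x ∉ (Kl F K v).map (h : V →ₗ[F] V) →
      x' ∈ Kl F K v → x' ∉ (Kl F K v).map (h : V →ₗ[F] V) →
      ∃ g ∈ H, g x = x' ∧ ∀ d ∈ Kl F K v, d ∈ (Kl F K v).map (h : V →ₗ[F] V) → g d = d)
    (hA : MovesOut K H) :
    ∃ g ∈ H, ∃ v : V, v ≠ 0 ∧ (∀ a : K, ∃ b : K, g (a • v) = b • v) ∧
      ∃ a : K, ∀ b : K, ∃ c : K, g (a • c • v) ≠ b • g (c • v) := by
  by_contra hcon
  push Not at hcon
  have hFfin : Finite F := Finite.of_injective (algebraMap F K) (algebraMap F K).injective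
  have hFV : FiniteDimensional F V := Module.Finite.trans K V
  have hVfin : Finite V := Module.finite_of_finite K
  have hGfin : Finite (V ≃ₗ[F] V) :=
    Finite.of_injective (fun e : V ≃ₗ[F] V => (e : V → V)) DFunLike.coe_injective
  have hr2 : 2 ≤ finrank F K := hr.two_le
  obtain ⟨v₀, hv₀⟩ : ∃ v : V, v ≠ 0 := (Module.finrank_pos_iff_exists_ne_zero (R := K)).1 (by omega)
  obtain ⟨a₀, ha₀⟩ : ∃ a : K, a ∉ (algebraMap F K).range := by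
    by_contra hc
    push Not at hc
    have h1 : (⊥ : Subalgebra F K) = ⊤ := by
      rw [eq_top_iff]
      intro x _
      rw [Algebra.mem_bot]
      exact hc x
    rw [Subalgebra.bot_eq_top_iff_finrank_eq_one] at h1
    omega
  obtain ⟨h₁, hh₁, hh₁v, hh₁a⟩ := hA v₀ hv₀ a₀ ha₀
  let δ : (V ≃ₗ[F] V) → ℕ := fun h =>
    finrank F ↥(Kl F K v₀ ⊓ (Kl F K v₀).map (h : V →ₗ[F] V))
  let S : Set (V ≃ₗ[F] V) := {h | h ∈ H ∧ ¬ (Kl F K v₀).map (h : V →ₗ[F] V) ≤ Kl F K v₀}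
  have hh₁S : h₁ ∈ S := by
    refine ⟨hh₁, fun hle => ?_⟩
    have h2 : h₁ (a₀ • v₀) ∈ Kl F K v₀ :=
      hle (Submodule.mem_map_of_mem (f := (h₁ : V →ₗ[F] V)) (smul_mem_Kl F K a₀ v₀))
    obtain ⟨b, hb⟩ := (mem_Kl F K).1 h2
    exact hh₁a b hb.symm
  obtain ⟨h, hS, hmax⟩ := Set.exists_max_image S δ (Set.toFinite S) ⟨h₁, hh₁S⟩
  have hδ1 : 0 < δ h₁ := by
    apply Module.finrank_pos_iff_exists_ne_zero.2
    refine ⟨⟨v₀, self_mem_Kl F K v₀, ⟨v₀, self_mem_Kl F K v₀, hh₁v⟩⟩, fun he => hv₀ ?_⟩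
    exact congrArg Subtype.val he
  have hδ : 0 < δ h := lt_of_lt_of_le hδ1 (hmax h₁ hh₁S)
  obtain ⟨⟨d₀, hd₀D⟩, hd₀ne⟩ := Module.finrank_pos_iff_exists_ne_zero.1 hδ
  have hd₀ : d₀ ≠ 0 := fun he => hd₀ne (Subtype.ext he)
  obtain ⟨c₀, hc₀⟩ := (mem_Kl F K).1 hd₀D.1
  have hc₀ne : c₀ ≠ 0 := by
    rintro rfl
    rw [zero_smul] at hc₀
    exact hd₀ hc₀.symm
  have hℓ : ∀ x : V, x ∈ Kl F K v₀ ↔ ∃ a : K, a • d₀ = x := by
    intro x
    rw [mem_Kl]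
    constructor
    · rintro ⟨a, rfl⟩
      exact ⟨a * c₀⁻¹, by rw [← hc₀, smul_smul, inv_mul_cancel_right₀ hc₀ne]⟩
    · rintro ⟨a, rfl⟩
      exact ⟨a * c₀, by rw [← hc₀, smul_smul]⟩
  have hfr : finrank F (Kl F K v₀) = finrank F K := c3lstepb_finrank_Kl hv₀
  have hnle : ¬ Kl F K v₀ ≤ (Kl F K v₀).map (h : V →ₗ[F] V) := by
    intro hle
    have heq := Submodule.eq_of_le_of_finrank_eq hle (LinearEquiv.finrank_map_eq h (Kl F K v₀)).symm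
    exact hS.2 (le_of_eq heq.symm)
  obtain ⟨x₁, hx₁, hx₁'⟩ := SetLike.not_le_iff_exists.1 hnle
  obtain ⟨a₁, ha₁⟩ := (hℓ x₁).1 hx₁
  have key : ∀ x' : V, x' ∈ Kl F K v₀ → x' ∉ (Kl F K v₀).map (h : V →ₗ[F] V) →
      ∃ b ∈ (minpoly F a₁).rootSet K, b • d₀ = x' := by
    intro x' hx' hx'2
    obtain ⟨g, hg, hgx, hgD⟩ := hborb hS.1 hS.2 hx₁ hx₁' hx' hx'2
    have hgd₀ : g d₀ = d₀ := hgD d₀ hd₀D.1 hd₀D.2
    have hgℓ : (Kl F K v₀).map (g : V →ₗ[F] V) ≤ Kl F K v₀ := by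
      by_contra hne
      have hgS : g ∈ S := ⟨hg, hne⟩
      have hle := hmax g hgS
      have hlt : Kl F K v₀ ⊓ (Kl F K v₀).map (h : V →ₗ[F] V) <
          Kl F K v₀ ⊓ (Kl F K v₀).map (g : V →ₗ[F] V) := by
        rw [SetLike.lt_iff_le_and_exists]
        refine ⟨?_, x', ⟨hx', ⟨x₁, hx₁, hgx⟩⟩, fun hmem => hx'2 hmem.2⟩
        intro d hd
        exact ⟨hd.1, ⟨d, hd.1, hgD d hd.1 hd.2⟩⟩
      have := Submodule.finrank_lt_finrank_of_lt hlt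
      exact absurd hle (not_le.2 this)
    have hgv : ∀ a : K, ∃ b : K, g (a • d₀) = b • d₀ := by
      intro a
      have h1 : a • d₀ ∈ Kl F K v₀ := (hℓ _).2 ⟨a, rfl⟩
      have h2 : g (a • d₀) ∈ Kl F K v₀ := hgℓ (Submodule.mem_map_of_mem (f := (g : V →ₗ[F] V)) h1)
      obtain ⟨b, hb⟩ := (hℓ _).1 h2
      exact ⟨b, hb.symm⟩
    obtain ⟨b, hb⟩ := hcon g hg d₀ hd₀ hgv a₁
    refine ⟨b, c3lstepb_root (g : V →ₗ[F] V) hd₀ hgd₀ hb, ?_⟩
    have h3 := hb 1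
    rw [one_smul] at h3
    rw [← hgx, ← ha₁]
    rw [hgd₀] at h3
    exact h3.symm
  have hsub : ((Kl F K v₀ : Submodule F V) : Set V) \
      ((Kl F K v₀ ⊓ (Kl F K v₀).map (h : V →ₗ[F] V) : Submodule F V) : Set V) ⊆
      (fun b : K => b • d₀) '' ((minpoly F a₁).rootSet K) := by
    rintro x' ⟨hx', hx'D⟩
    have hx'2 : x' ∉ (Kl F K v₀).map (h : V →ₗ[F] V) := fun hmem => hx'D ⟨hx', hmem⟩
    obtain ⟨b, hb, hbx⟩ := key x' hx' hx'2
    exact ⟨b, hb, hbx⟩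
  have hup : (((Kl F K v₀ : Submodule F V) : Set V) \
      ((Kl F K v₀ ⊓ (Kl F K v₀).map (h : V →ₗ[F] V) : Submodule F V) : Set V)).ncard ≤
      finrank F K := by
    calc _ ≤ ((fun b : K => b • d₀) '' ((minpoly F a₁).rootSet K)).ncard :=
          Set.ncard_le_ncard hsub (Set.toFinite _)
      _ ≤ ((minpoly F a₁).rootSet K).ncard := Set.ncard_image_le (Set.toFinite _)
      _ ≤ (minpoly F a₁).natDegree := Polynomial.ncard_rootSet_le _ K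
      _ ≤ finrank F K := minpoly.natDegree_le a₁
  have hDlt : Kl F K v₀ ⊓ (Kl F K v₀).map (h : V →ₗ[F] V) < Kl F K v₀ := by
    rw [SetLike.lt_iff_le_and_exists]
    exact ⟨inf_le_left, x₁, hx₁, fun hmem => hx₁' hmem.2⟩
  have hlow := c3lstepb_count (Kl F K v₀) _ hDlt
  rw [hfr] at hlow
  have hq2 : 2 ≤ Nat.card F := Finite.one_lt_card
  have hqr : ¬ (Nat.card F = 2 ∧ finrank F K = 2) := hq
  have := arith_qr hq2 hr2 hqr
  omega

end Cfsg.Agent.Lib.helper8.C3S
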