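import Mathlib
import Cfsg.Agent.Lib.Helper22.C3L.Defs
import Cfsg.Agent.Lib.Helper10.C3O.Defs
import Cfsg.Agent.Lib.helper3.C3OPERP

set_option autoImplicit false
set_option linter.unusedVariables false
set_option linter.unusedSectionVars false

namespace Cfsg.Agent.Lib.Helper10.C3O

open Module Cfsg.Agent.Lib.Helper22.C3L

variable {F K V : Type*} [Field F] [Field K] [Algebra F K] [AddCommGroup V] [Module F V] [Module K V]
  [IsScalarTower F K V]

theorem c3ostepa_finrank_Kl [FiniteDimensional F K] {v : V} (hv : v ≠ 0) :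
    finrank F (Kl F K v) = finrank F K := by
  have h1 : finrank F (Kl F K v) = finrank F (Submodule.span K ({v} : Set V)) :=
    LinearEquiv.finrank_eq
      ((Submodule.restrictScalarsEquiv F K V (Submodule.span K ({v} : Set V))).restrictScalars F)
  rw [h1, ← Module.finrank_mul_finrank F K (Submodule.span K ({v} : Set V)),
    finrank_span_singleton hv, mul_one]

theorem c3ostepa_Kl_fd [FiniteDimensional F K] (v : V) : FiniteDimensional F (Kl F K v) := by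
  have hle : Kl F K v ≤ LinearMap.range ((LinearMap.toSpanSingleton K V v).restrictScalars F) := by
    intro x hx
    obtain ⟨a, rfl⟩ := (mem_Kl F K).mp hx
    exact ⟨a, rfl⟩
  have : FiniteDimensional F (LinearMap.range ((LinearMap.toSpanSingleton K V v).restrictScalars F)) :=
    inferInstance
  exact Submodule.finiteDimensional_of_le hle

/-- STEPA, with the statements of ISO (on `⊤`), KSC and ORB as hypotheses -/
theorem stepA_o_core [Finite K] [FiniteDimensional K V] (h2 : (2 : F) ≠ 0) (B : V →ₗ[K] V →ₗ[K] K)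
    (hBs : ∀ x y, B x y = B y x) (hBn : ∀ x, x ≠ 0 → ∃ y, B x y ≠ 0) (hd : 4 ≤ finrank K V)
    (H : Subgroup (V ≃ₗ[F] V)) (hH : H ≤ Of F B) (hC : OmB F B ≤ H) (hN : NotNorm K H)
    (hKSC : ∀ T : V →ₗ[F] V, (∀ x : V, B x x = 0 → ∀ c : K, ∃ c' : K, T (c • x) = c' • x) →
      ∃ a : K, ∀ x : V, T x = a • x)
    (hORB : ∀ x x' : V, B x x ≠ 0 → x' ∉ Kl F K x → ∀ L : Submodule F V, x ∈ L → x' ∈ L →
      finrank F L ≤ finrank F K → ∃ g ∈ OmB F B, g x = x ∧ g x' ∉ L) :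
    ∃ (h : V ≃ₗ[F] V) (u₁ u₂ : V), Conf B H h u₁ u₂ ∧
      Kl F K u₁ ⊓ (Kl F K u₂).map (h : V →ₗ[F] V) ≠ ⊥ := by
  by_contra hcon
  have : Finite F := Finite.of_injective (algebraMap F K) (algebraMap F K).injective
  have : FiniteDimensional F K := Module.Finite.of_finite
  have : Algebra.IsSeparable F K := inferInstance
  -- (∗)
  have hstar : ∀ h ∈ H, ∀ u₁ u₂ : V, u₁ ≠ 0 → u₂ ≠ 0 → B u₁ u₁ = 0 → B u₂ u₂ = 0 →
      Kl F K u₁ ⊓ (Kl F K u₂).map (h : V →ₗ[F] V) ≠ ⊥ →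
      (Kl F K u₂).map (h : V →ₗ[F] V) ≤ Kl F K u₁ := by
    intro h hh u₁ u₂ hu₁ hu₂ h10 h20 hne
    by_contra hle
    exact hcon ⟨h, u₁, u₂, ⟨hh, hu₁, hu₂, h10, h20, hle⟩, hne⟩
  -- (∗) for a common non-zero vector
  have hstar' : ∀ h ∈ H, ∀ u₁ u₂ : V, u₁ ≠ 0 → u₂ ≠ 0 → B u₁ u₁ = 0 → B u₂ u₂ = 0 →
      ∀ z : V, z ≠ 0 → z ∈ Kl F K u₁ → z ∈ (Kl F K u₂).map (h : V →ₗ[F] V) →
      (Kl F K u₂).map (h : V →ₗ[F] V) ≤ Kl F K u₁ := by
    intro h hh u₁ u₂ hu₁ hu₂ h10 h20 z hz hz1 hz2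
    apply hstar h hh u₁ u₂ hu₁ hu₂ h10 h20
    intro hbot
    have : z ∈ Kl F K u₁ ⊓ (Kl F K u₂).map (h : V →ₗ[F] V) := ⟨hz1, hz2⟩
    rw [hbot, Submodule.mem_bot] at this
    exact hz this
  -- the trace is not zero
  obtain ⟨k₀, hk₀⟩ : ∃ k : K, Algebra.trace F K k ≠ 0 := by
    obtain ⟨k, hk⟩ := Algebra.trace_surjective F K 1
    exact ⟨k, by rw [hk]; exact one_ne_zero⟩
  -- Claim 1: every `h (K u₂)` lies in a singular `K`-line
  have hcl : ∀ h ∈ H, ∀ u₂ : V, u₂ ≠ 0 → B u₂ u₂ = 0 →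
      ∃ x : V, x ≠ 0 ∧ B x x = 0 ∧ (Kl F K u₂).map (h : V →ₗ[F] V) ≤ Kl F K x := by
    intro h hh u₂ hu₂ h20
    by_cases hex : ∃ x : V, x ≠ 0 ∧ B x x = 0 ∧ x ∈ (Kl F K u₂).map (h : V →ₗ[F] V)
    · obtain ⟨x, hx, hx0, hxm⟩ := hex
      exact ⟨x, hx, hx0, hstar' h hh x u₂ hx hu₂ hx0 h20 x hx (self_mem_Kl F K x) hxm⟩
    · exfalso
      push Not at hex
      set x : V := h u₂ with hxdef
      have hxne : x ≠ 0 := by
        rw [hxdef]
        intro h0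
        exact hu₂ (by simpa using h0)
      have hxmem : x ∈ (Kl F K u₂).map (h : V →ₗ[F] V) :=
        ⟨u₂, self_mem_Kl F K u₂, rfl⟩
      have hxx : B x x ≠ 0 := fun h0 => hex x hxne h0 hxmem
      -- `ℓ'` is totally singular
      have hts : ∀ y ∈ (Kl F K u₂).map (h : V →ₗ[F] V), ∀ y' ∈ (Kl F K u₂).map (h : V →ₗ[F] V),
          tf F B y y' = 0 := by
        rintro _ ⟨z, hz, rfl⟩ _ ⟨z', hz', rfl⟩
        obtain ⟨a, rfl⟩ := (mem_Kl F K).mp hz
        obtain ⟨a', rfl⟩ := (mem_Kl F K).mp hz'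
        show tf F B (h (a • u₂)) (h (a' • u₂)) = 0
        rw [hH hh, tf_def]
        simp [h20]
      -- a vector of `ℓ'` outside `K x`
      obtain ⟨x', hx'm, hx'n⟩ : ∃ x' ∈ (Kl F K u₂).map (h : V →ₗ[F] V), x' ∉ Kl F K x := by
        by_contra hall
        push Not at hall
        have hle : (Kl F K u₂).map (h : V →ₗ[F] V) ≤ Kl F K x := hall
        haveI := c3ostepa_Kl_fd (F := F) (K := K) x
        have hfr : finrank F ((Kl F K u₂).map (h : V →ₗ[F] V)) = finrank F (Kl F K x) := by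
          rw [LinearEquiv.finrank_map_eq h (Kl F K u₂), c3ostepa_finrank_Kl hu₂,
            c3ostepa_finrank_Kl hxne]
        have heq : (Kl F K u₂).map (h : V →ₗ[F] V) = Kl F K x :=
          Submodule.eq_of_le_of_finrank_eq hle hfr
        have h1 : tf F B ((k₀ * (B x x)⁻¹) • x) x = 0 :=
          hts _ (by rw [heq]; exact smul_mem_Kl F K _ x) _ hxmem
        rw [tf_def, map_smul, LinearMap.smul_apply, smul_eq_mul, mul_assoc,
          inv_mul_cancel₀ hxx, mul_one] at h1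
        exact hk₀ h1
      have hL : finrank F ((Kl F K u₂).map (h : V →ₗ[F] V)) ≤ finrank F K := by
        rw [LinearEquiv.finrank_map_eq h (Kl F K u₂), c3ostepa_finrank_Kl hu₂]
      obtain ⟨g, hg, hgx, hgx'⟩ := hORB x x' hxx hx'n _ hxmem hx'm hL
      have hgH : g ∈ H := hC hg
      have hh' : h⁻¹ * g * h ∈ H := H.mul_mem (H.mul_mem (H.inv_mem hh) hgH) hh
      have hfix : (h⁻¹ * g * h) u₂ = u₂ := by
        rw [LinearEquiv.mul_apply, LinearEquiv.mul_apply, ← hxdef, hgx, hxdef]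
        simp
      have hle := hstar' (h⁻¹ * g * h) hh' u₂ u₂ hu₂ hu₂ h20 h20 u₂ hu₂ (self_mem_Kl F K u₂)
        ⟨u₂, self_mem_Kl F K u₂, hfix⟩
      apply hgx'
      obtain ⟨z, hz, rfl⟩ := hx'm
      have hz' : (h⁻¹ * g * h) z ∈ Kl F K u₂ := hle ⟨z, hz, rfl⟩
      refine ⟨(h⁻¹ * g * h) z, hz', ?_⟩
      show h ((h⁻¹ * g * h) z) = g (h z)
      rw [LinearEquiv.mul_apply, LinearEquiv.mul_apply]
      simp
  -- the contradiction with `NotNorm`
  obtain ⟨h, hh, a, ha⟩ := hN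
  set T : V →ₗ[F] V := (h : V →ₗ[F] V) ∘ₗ kmul F K a ∘ₗ (h.symm : V →ₗ[F] V) with hT
  have hTp : ∀ x : V, B x x = 0 → ∀ c : K, ∃ c' : K, T (c • x) = c' • x := by
    intro x hx0 c
    by_cases hx : x = 0
    · exact ⟨0, by rw [hx]; simp⟩
    obtain ⟨x', hx', hx'0, hle⟩ := hcl h⁻¹ (H.inv_mem hh) x hx hx0
    have hle2 : (Kl F K x').map (h : V →ₗ[F] V) ≤ Kl F K x := by
      apply hstar' h hh x x' hx hx' hx0 hx'0 x hx (self_mem_Kl F K x)
      refine ⟨h⁻¹ x, hle ⟨x, self_mem_Kl F K x, rfl⟩, ?_⟩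
      rw [LinearEquiv.coe_coe]
      simp
    have h1 : h.symm (c • x) ∈ Kl F K x' := hle ⟨c • x, smul_mem_Kl F K c x, rfl⟩
    obtain ⟨b, hb⟩ := (mem_Kl F K).mp h1
    have h2' : T (c • x) ∈ Kl F K x := by
      apply hle2
      refine ⟨a • h.symm (c • x), ?_, rfl⟩
      rw [← hb, smul_smul]
      exact smul_mem_Kl F K _ x'
    obtain ⟨c', hc'⟩ := (mem_Kl F K).mp h2'
    exact ⟨c', hc'.symm⟩
  obtain ⟨b, hb⟩ := hKSC T hTp
  obtain ⟨x, hx⟩ := ha b
  apply hx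
  have := hb (h x)
  rw [hT] at this
  simpa using this

end Cfsg.Agent.Lib.Helper10.C3O
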