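import Mathlib
import Cfsg.Agent.Lib.Helper22.C3L.Defs
import Cfsg.Agent.Lib.Helper10.C3O.Defs
import Cfsg.Agent.Lib.Helper10.C3OKSG
import Cfsg.Agent.Lib.Helper20.C3OSTEPAcore

set_option autoImplicit false
set_option linter.unusedVariables false
set_option linter.unusedSectionVars false

namespace Cfsg.Agent.Lib.Helper10.C3O

open Module Cfsg.Agent.Lib.Helper22.C3L

variable {F K V : Type*} [Field F] [Field K] [Algebra F K] [AddCommGroup V] [Module F V] [Module K V]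
  [IsScalarTower F K V]

/-- the `F`-linear functional `z ↦ Tr (a * B w z)` -/
noncomputable def c3obbad_fun (B : V →ₗ[K] V →ₗ[K] K) (a : K) (w : V) : V →ₗ[F] F :=
  (Algebra.trace F K) ∘ₗ (LinearMap.mulLeft F a) ∘ₗ ((B w).restrictScalars F)

theorem c3obbad_fun_apply (B : V →ₗ[K] V →ₗ[K] K) (a : K) (w z : V) :
    c3obbad_fun (F := F) B a w z = Algebra.trace F K (a * B w z) := rfl

/-- the value of the `K`-Siegel map at a vector orthogonal to `y` -/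
theorem c3obbad_ksg_val (B : V →ₗ[K] V →ₗ[K] K) {u y x : V} (hxy : B x y = 0) :
    ksg B u y x = x + (B x u) • y - (B y y / 2 * B x u) • u := by
  unfold ksg
  rw [hxy, zero_smul, sub_zero]

/-- the `K`-Siegel map fixes `K u` pointwise -/
theorem c3obbad_ksg_fix (B : V →ₗ[K] V →ₗ[K] K) {u y : V} (hu0 : B u u = 0) (huy : B u y = 0) (k : K) :
    ksg B u y (k • u) = k • u := by
  unfold ksg
  simp [hu0, huy]

/-- a complement inside a subspace -/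
theorem c3obbad_compl [FiniteDimensional F V] {D L : Submodule F V} (hDL : D ≤ L) (hD : D ≠ ⊥) :
    ∃ C : Submodule F V, C ≤ L ∧ D ⊔ C = L ∧ finrank F C < finrank F L := by
  obtain ⟨C, hC⟩ := Submodule.exists_isCompl D
  refine ⟨C ⊓ L, inf_le_right, ?_, ?_⟩
  · rw [← sup_inf_assoc_of_le C hDL, hC.sup_eq_top, top_inf_eq]
  · have h1 := Submodule.finrank_sup_add_finrank_inf_eq D (C ⊓ L)
    have h2 : D ⊔ C ⊓ L = L := by
      rw [← sup_inf_assoc_of_le C hDL, hC.sup_eq_top, top_inf_eq]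
    have h3 : D ⊓ (C ⊓ L) = ⊥ := by
      rw [eq_bot_iff]
      calc D ⊓ (C ⊓ L) ≤ D ⊓ C := inf_le_inf_left D inf_le_left
        _ = ⊥ := hC.inf_eq_bot
    rw [h2, h3, finrank_bot, add_zero] at h1
    have h4 : 1 ≤ finrank F D := Submodule.one_le_finrank_iff.mpr hD
    omega

/-- BBAD, with the statement of CWQ (for `Fin m`-indexed systems on `K`-subspaces of `V`) as a hypothesis -/
theorem b_bad_core [Finite K] [FiniteDimensional K V] (h2 : (2 : F) ≠ 0) (B : V →ₗ[K] V →ₗ[K] K)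
    (hBs : ∀ x y, B x y = B y x) (hBn : ∀ x, x ≠ 0 → ∃ y, B x y ≠ 0) (hd : 4 ≤ finrank K V)
    (H : Subgroup (V ≃ₗ[F] V)) (hH : H ≤ Of F B) (hC : OmB F B ≤ H) {h : V ≃ₗ[F] V} {u₁ u₂ : V}
    (hc : Conf B H h u₁ u₂)
    (hmax : ∀ (h' : V ≃ₗ[F] V) (u₁' u₂' : V), Conf B H h' u₁' u₂' → dl F K h' u₁' u₂' ≤ dl F K h u₁ u₂)
    (hD : Kl F K u₁ ⊓ (Kl F K u₂).map (h : V →ₗ[F] V) ≠ ⊥)
    (hbad : ∀ a ∈ Kl F K u₁, (∀ x' ∈ (Kl F K u₂).map (h : V →ₗ[F] V), tf F B a x' = 0) →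
      a ∈ (Kl F K u₂).map (h : V →ₗ[F] V))
    (hCWQ : ∀ (Y : Submodule K V) (m : ℕ) (β : Fin m → ↥Y →ₗ[F] ↥Y →ₗ[F] F) (lam : Fin m → ↥Y →ₗ[F] F),
      2 * m < finrank F ↥Y → ∃ y : ↥Y, y ≠ 0 ∧ ∀ i, β i y y + lam i y = 0) :
    ∃ ρ : V ≃ₗ[F] V, Conf B H ρ u₁ u₁ ∧ dl F K ρ u₁ u₁ = dl F K h u₁ u₂ ∧
      Kl F K u₁ ⊓ (Kl F K u₁).map (ρ : V →ₗ[F] V) ≠ ⊥ ∧
      ∃ a ∈ Kl F K u₁, a ∉ (Kl F K u₁).map (ρ : V →ₗ[F] V) ∧
        ∀ x' ∈ (Kl F K u₁).map (ρ : V →ₗ[F] V), tf F B a x' = 0 := by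
  obtain ⟨hh, hu₁, hu₂, h10, h20, hnle⟩ := hc
  have hFfin : Finite F := Finite.of_injective (algebraMap F K) (algebraMap F K).injective
  have hFK : FiniteDimensional F K := Module.Finite.of_finite
  have hFV : FiniteDimensional F V := Module.Finite.trans K V
  have hfrℓ : finrank F (Kl F K u₁) = finrank F K := c3ostepa_finrank_Kl hu₁
  have hfrℓ' : finrank F ((Kl F K u₂).map (h : V →ₗ[F] V)) = finrank F K := by
    rw [LinearEquiv.finrank_map_eq h (Kl F K u₂), c3ostepa_finrank_Kl hu₂]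
  -- `x₀ ∈ ℓ ∖ ℓ'`
  obtain ⟨x₀, hx₀ℓ, hx₀n⟩ : ∃ x₀ ∈ Kl F K u₁, x₀ ∉ (Kl F K u₂).map (h : V →ₗ[F] V) := by
    by_contra hall
    push Not at hall
    have hle : Kl F K u₁ ≤ (Kl F K u₂).map (h : V →ₗ[F] V) := hall
    have heq : Kl F K u₁ = (Kl F K u₂).map (h : V →ₗ[F] V) :=
      Submodule.eq_of_le_of_finrank_eq hle (by rw [hfrℓ, hfrℓ'])
    exact hnle (le_of_eq heq.symm)
  -- `ℓ` is totally singular
  have htsℓ : ∀ z ∈ Kl F K u₁, ∀ z' ∈ Kl F K u₁, tf F B z z' = 0 := by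
    intro z hz z' hz'
    obtain ⟨a, rfl⟩ := (mem_Kl F K).mp hz
    obtain ⟨a', rfl⟩ := (mem_Kl F K).mp hz'
    rw [tf_def]
    simp [h10]
  have hhs : ∀ x y : V, tf F B (h.symm x) (h.symm y) = tf F B x y := by
    intro x y
    have := hH hh (h.symm x) (h.symm y)
    rw [LinearEquiv.apply_symm_apply, LinearEquiv.apply_symm_apply] at this
    exact this.symm
  set x₀' : V := h.symm x₀ with hx₀'
  have hhx₀' : h x₀' = x₀ := by rw [hx₀', LinearEquiv.apply_symm_apply]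
  set c : K := B x₀' u₂ with hcdef
  have hc0 : c ≠ 0 := by
    intro hc0
    apply hx₀n
    apply hbad x₀ hx₀ℓ
    rintro _ ⟨z, hz, rfl⟩
    obtain ⟨k, rfl⟩ := (mem_Kl F K).mp hz
    show tf F B x₀ (h (k • u₂)) = 0
    rw [← hhx₀', hH hh, tf_def, map_smul, smul_eq_mul, ← hcdef, hc0, mul_zero, map_zero]
  -- the `K`-subspace `Y`
  set φ : V →ₗ[K] K × K := (B.flip u₂).prod (B.flip x₀') with hφ
  have hYmem : ∀ y : V, y ∈ LinearMap.ker φ ↔ B y u₂ = 0 ∧ B y x₀' = 0 := by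
    intro y
    rw [LinearMap.mem_ker, hφ]
    simp [LinearMap.flip_apply]
  have hYfr : 2 * finrank F K ≤ finrank F ↥(LinearMap.ker φ) := by
    have h1 := LinearMap.finrank_range_add_finrank_ker φ
    have h3 : finrank K ↥(LinearMap.range φ) ≤ 2 := by
      have h4 := Submodule.finrank_le (LinearMap.range φ)
      have h5 : finrank K (K × K) = 2 := by simp
      omega
    have h6 : 2 ≤ finrank K ↥(LinearMap.ker φ) := by omega
    rw [← Module.finrank_mul_finrank F K ↥(LinearMap.ker φ), mul_comm]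
    exact Nat.mul_le_mul_left _ h6
  -- the subspaces `ℓ₀`, `D₀`
  set ℓ₀ : Submodule F V := (Kl F K u₁).map (h.symm : V →ₗ[F] V) with hℓ₀
  have hfrℓ₀ : finrank F ℓ₀ = finrank F K := by
    rw [hℓ₀, LinearEquiv.finrank_map_eq h.symm (Kl F K u₁), hfrℓ]
  have hx₀'ℓ₀ : x₀' ∈ ℓ₀ := ⟨x₀, hx₀ℓ, rfl⟩
  have htsℓ₀ : ∀ z ∈ ℓ₀, ∀ z' ∈ ℓ₀, tf F B z z' = 0 := by
    rintro _ ⟨z, hz, rfl⟩ _ ⟨z', hz', rfl⟩
    show tf F B (h.symm z) (h.symm z') = 0
    rw [hhs]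
    exact htsℓ z hz z' hz'
  have hD₀ne : ℓ₀ ⊓ Kl F K u₂ ≠ ⊥ := by
    obtain ⟨d, hd, hd0⟩ := Submodule.exists_mem_ne_zero_of_ne_bot hD
    obtain ⟨hd1, z, hz, hzd⟩ := hd
    intro hbot
    have hz1 : z ∈ ℓ₀ ⊓ Kl F K u₂ := by
      refine ⟨⟨d, hd1, ?_⟩, hz⟩
      rw [← hzd]
      show h.symm (h z) = z
      exact LinearEquiv.symm_apply_apply h z
    rw [hbot, Submodule.mem_bot] at hz1
    apply hd0
    rw [← hzd, hz1]
    exact map_zero _
  obtain ⟨C, hCℓ₀, hsup, hCfr⟩ := c3obbad_compl (inf_le_left : ℓ₀ ⊓ Kl F K u₂ ≤ ℓ₀) hD₀ne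
  -- the system of quadratic equations
  set m : ℕ := finrank F ↥C with hm
  let b : Basis (Fin m) F ↥C := Module.finBasis F ↥C
  let β : Fin m → ↥(LinearMap.ker φ) →ₗ[F] ↥(LinearMap.ker φ) →ₗ[F] F := fun i =>
    LinearMap.mk₂ F
      (fun y y' => - Algebra.trace F K (B (y : V) (y' : V) / 2 * c * B u₂ (b i : V)))
      (by
        intro y₁ y₂ y'
        simp only [Submodule.coe_add, map_add, LinearMap.add_apply, add_div, add_mul, neg_add])
      (by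
        intro a y y'
        simp only [Submodule.coe_smul_of_tower, LinearMap.map_smul_of_tower, LinearMap.smul_apply,
          smul_div_assoc, smul_mul_assoc, map_smul, smul_neg])
      (by
        intro y y₁ y₂
        simp only [Submodule.coe_add, map_add, add_div, add_mul, neg_add])
      (by
        intro a y y'
        simp only [Submodule.coe_smul_of_tower, LinearMap.map_smul_of_tower,
          smul_div_assoc, smul_mul_assoc, map_smul, smul_neg])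
  let lam : Fin m → ↥(LinearMap.ker φ) →ₗ[F] F := fun i =>
    { toFun := fun y => Algebra.trace F K (c * B (y : V) (b i : V))
      map_add' := by
        intro y₁ y₂
        simp only [Submodule.coe_add, map_add, LinearMap.add_apply, mul_add]
      map_smul' := by
        intro a y
        simp only [Submodule.coe_smul_of_tower, LinearMap.map_smul_of_tower, LinearMap.smul_apply,
          mul_smul_comm, map_smul, RingHom.id_apply] }
  have hlt : 2 * m < finrank F ↥(LinearMap.ker φ) := by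
    rw [hfrℓ₀] at hCfr
    omega
  obtain ⟨y, hy0, hyeq⟩ := hCWQ (LinearMap.ker φ) m β lam hlt
  obtain ⟨hyu₂, hyx₀'⟩ := (hYmem (y : V)).mp y.2
  have hyV0 : (y : V) ≠ 0 := fun h0 => hy0 (Subtype.ext h0)
  have hu₂y : B u₂ (y : V) = 0 := by rw [hBs]; exact hyu₂
  have hx₀'y : B x₀' (y : V) = 0 := by rw [hBs]; exact hyx₀'
  -- the functional
  set Ψ : V →ₗ[F] F := c3obbad_fun B c (y : V) - c3obbad_fun B (B (y : V) (y : V) / 2 * c) u₂ with hΨ
  have hΨapp : ∀ z : V, Ψ z = Algebra.trace F K (c * B (y : V) z) -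
      Algebra.trace F K (B (y : V) (y : V) / 2 * c * B u₂ z) := by
    intro z
    rw [hΨ, LinearMap.sub_apply, c3obbad_fun_apply, c3obbad_fun_apply]
  have hΨC : ∀ e ∈ C, Ψ e = 0 := by
    have h0 : Ψ ∘ₗ C.subtype = 0 := by
      apply b.ext
      intro i
      rw [LinearMap.comp_apply, Submodule.subtype_apply, LinearMap.zero_apply, hΨapp]
      have := hyeq i
      simp only [β, lam, LinearMap.mk₂_apply, LinearMap.coe_mk, AddHom.coe_mk] at this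
      rw [sub_eq_add_neg, add_comm]
      exact this
    intro e he
    have := LinearMap.congr_fun h0 ⟨e, he⟩
    simpa using this
  have hΨD : ∀ d ∈ ℓ₀ ⊓ Kl F K u₂, Ψ d = 0 := by
    rintro d ⟨_, hd2⟩
    obtain ⟨k, rfl⟩ := (mem_Kl F K).mp hd2
    rw [hΨapp]
    simp [hyu₂, h20]
  have hΨℓ₀ : ∀ z ∈ ℓ₀, Ψ z = 0 := by
    intro z hz
    rw [← hsup] at hz
    obtain ⟨d, hd, e, he, rfl⟩ := Submodule.mem_sup.mp hz
    rw [map_add, hΨD d hd, hΨC e he, add_zero]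
  -- the value of `ρ_y` at `x₀'`
  have hval : ksg B u₂ (y : V) x₀' = x₀' + c • (y : V) - (B (y : V) (y : V) / 2 * c) • u₂ :=
    c3obbad_ksg_val B hx₀'y
  have hperp : ∀ z ∈ ℓ₀, tf F B (ksg B u₂ (y : V) x₀') z = 0 := by
    intro z hz
    have h1 : tf F B (ksg B u₂ (y : V) x₀') z = tf F B x₀' z + Ψ z := by
      rw [hval, hΨapp, tf_def, tf_def]
      simp only [map_add, map_sub, map_smul, LinearMap.add_apply, LinearMap.sub_apply,
        LinearMap.smul_apply, smul_eq_mul]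
      ring
    rw [h1, htsℓ₀ x₀' hx₀'ℓ₀ z hz, hΨℓ₀ z hz, add_zero]
  -- the group elements
  obtain ⟨g, hg, hgx⟩ := ksg_mem h2 B hBs hBn h20 hu₂y
  have hgH : g ∈ H := hC hg
  set ρ' : V ≃ₗ[F] V := h * g * h⁻¹ with hρ'
  have hρ'H : ρ' ∈ H := H.mul_mem (H.mul_mem hh hgH) (H.inv_mem hh)
  have hρ'app : ∀ x : V, ρ' x = h (g (h.symm x)) := fun x => rfl
  have hρ'Of : ∀ x z : V, tf F B (ρ' x) (ρ' z) = tf F B x z := hH hρ'H
  -- `ρ'` fixes `ℓ'` pointwise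
  have hfixℓ' : ∀ d ∈ (Kl F K u₂).map (h : V →ₗ[F] V), ρ' d = d := by
    rintro _ ⟨z, hz, rfl⟩
    obtain ⟨k, rfl⟩ := (mem_Kl F K).mp hz
    show ρ' (h (k • u₂)) = h (k • u₂)
    rw [hρ'app, LinearEquiv.symm_apply_apply, hgx, c3obbad_ksg_fix B h20 hu₂y]
  have hρ'x₀ : ρ' x₀ = h (ksg B u₂ (y : V) x₀') := by
    rw [hρ'app, hgx]
  refine ⟨ρ'⁻¹, ?_⟩
  have hρapp : ∀ x : V, (ρ'⁻¹) x = ρ'.symm x := fun x => rfl
  have hmapmem : ∀ x : V, x ∈ (Kl F K u₁).map ((ρ'⁻¹ : V ≃ₗ[F] V) : V →ₗ[F] V) ↔ ρ' x ∈ Kl F K u₁ := by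
    intro x
    constructor
    · rintro ⟨z, hz, rfl⟩
      show ρ' ((ρ'⁻¹) z) ∈ Kl F K u₁
      rw [hρapp, LinearEquiv.apply_symm_apply]
      exact hz
    · intro hx
      refine ⟨ρ' x, hx, ?_⟩
      show (ρ'⁻¹) (ρ' x) = x
      rw [hρapp, LinearEquiv.symm_apply_apply]
  -- (a) `ρ ℓ ⊄ ℓ`
  have hnle' : ¬ (Kl F K u₁).map ((ρ'⁻¹ : V ≃ₗ[F] V) : V →ₗ[F] V) ≤ Kl F K u₁ := by
    intro hle
    have heq : (Kl F K u₁).map ((ρ'⁻¹ : V ≃ₗ[F] V) : V →ₗ[F] V) = Kl F K u₁ :=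
      Submodule.eq_of_le_of_finrank_eq hle (LinearEquiv.finrank_map_eq (ρ'⁻¹) (Kl F K u₁))
    have h1 : ρ' x₀ ∈ Kl F K u₁ := by
      rw [← hmapmem, heq]
      exact hx₀ℓ
    have h2' : ksg B u₂ (y : V) x₀' ∈ ℓ₀ := by
      refine ⟨ρ' x₀, h1, ?_⟩
      rw [hρ'x₀]
      show h.symm (h _) = _
      rw [LinearEquiv.symm_apply_apply]
    set w : V := c • (y : V) - (B (y : V) (y : V) / 2 * c) • u₂ with hw
    have hwℓ₀ : w ∈ ℓ₀ := by
      have : w = ksg B u₂ (y : V) x₀' - x₀' := by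
        rw [hval, hw]
        abel
      rw [this]
      exact ℓ₀.sub_mem h2' hx₀'ℓ₀
    have hwu₂ : B w u₂ = 0 := by
      rw [hw]
      simp [hyu₂, h20]
    have hhw : h w ∈ Kl F K u₁ := by
      obtain ⟨t, ht, htw⟩ := hwℓ₀
      rw [← htw]
      show h (h.symm t) ∈ _
      rw [LinearEquiv.apply_symm_apply]
      exact ht
    have hhw' : h w ∈ (Kl F K u₂).map (h : V →ₗ[F] V) := by
      apply hbad (h w) hhw
      rintro _ ⟨z, hz, rfl⟩
      obtain ⟨k, rfl⟩ := (mem_Kl F K).mp hz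
      show tf F B (h w) (h (k • u₂)) = 0
      rw [hH hh, tf_def, map_smul, hwu₂, smul_zero, map_zero]
    obtain ⟨z, hz, hzw⟩ := hhw'
    have hzw' : z = w := h.injective hzw
    obtain ⟨k, hk⟩ := (mem_Kl F K).mp hz
    have h3 : c • (y : V) = (k + B (y : V) (y : V) / 2 * c) • u₂ := by
      rw [add_smul, hk, hzw', hw]
      abel
    have h4 : (k + B (y : V) (y : V) / 2 * c) * c = 0 := by
      have : B (c • (y : V)) x₀' = B ((k + B (y : V) (y : V) / 2 * c) • u₂) x₀' := by rw [h3]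
      rw [map_smul, map_smul, LinearMap.smul_apply, LinearMap.smul_apply, hyx₀', smul_zero,
        hBs u₂ x₀', ← hcdef, smul_eq_mul] at this
      exact this.symm
    have h5 : k + B (y : V) (y : V) / 2 * c = 0 := by
      rcases mul_eq_zero.mp h4 with h | h
      · exact h
      · exact absurd h hc0
    rw [h5, zero_smul] at h3
    rcases smul_eq_zero.mp h3 with h | h
    · exact hc0 h
    · exact hyV0 h
  have hconf : Conf B H (ρ'⁻¹) u₁ u₁ := ⟨H.inv_mem hρ'H, hu₁, hu₁, h10, h10, hnle'⟩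
  -- (b) `D ⊆ ℓ ∩ ρ ℓ`
  have hDle : Kl F K u₁ ⊓ (Kl F K u₂).map (h : V →ₗ[F] V) ≤
      Kl F K u₁ ⊓ (Kl F K u₁).map ((ρ'⁻¹ : V ≃ₗ[F] V) : V →ₗ[F] V) := by
    rintro d ⟨hd1, hd2⟩
    refine ⟨hd1, (hmapmem d).mpr ?_⟩
    rw [hfixℓ' d hd2]
    exact hd1
  have hdl : dl F K (ρ'⁻¹) u₁ u₁ = dl F K h u₁ u₂ := by
    apply le_antisymm (hmax _ _ _ hconf)
    unfold dl
    exact Submodule.finrank_mono hDle
  have hDeq : Kl F K u₁ ⊓ (Kl F K u₂).map (h : V →ₗ[F] V) =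
      Kl F K u₁ ⊓ (Kl F K u₁).map ((ρ'⁻¹ : V ≃ₗ[F] V) : V →ₗ[F] V) := by
    apply Submodule.eq_of_le_of_finrank_eq hDle
    unfold dl at hdl
    exact hdl.symm
  refine ⟨hconf, hdl, ?_, x₀, hx₀ℓ, ?_, ?_⟩
  · rw [← hDeq]
    exact hD
  · intro hx
    have : x₀ ∈ Kl F K u₁ ⊓ (Kl F K u₂).map (h : V →ₗ[F] V) := by
      rw [hDeq]
      exact ⟨hx₀ℓ, hx⟩
    exact hx₀n this.2
  · intro x' hx'
    rw [hmapmem] at hx'
    rw [← hρ'Of, hρ'x₀]
    have h1 : ρ' x' = h (h.symm (ρ' x')) := by rw [LinearEquiv.apply_symm_apply]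
    rw [h1, hH hh]
    exact hperp _ ⟨ρ' x', hx', rfl⟩

end Cfsg.Agent.Lib.Helper10.C3O
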