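import Mathlib
import Cfsg.Agent.Lib.Helper22.C3L.Defs
import Cfsg.Agent.Lib.Helper10.C3O.Defs
import Cfsg.Agent.Lib.helper3.C3OCWQ
import Cfsg.Agent.Lib.Helper20.C3OBBADcore

set_option autoImplicit false
set_option linter.unusedVariables false
set_option linter.unusedSectionVars false

namespace Cfsg.Agent.Lib.Helper10.C3O

open Module Cfsg.Agent.Lib.Helper22.C3L

variable {F K V : Type*} [Field F] [Field K] [Algebra F K] [AddCommGroup V] [Module F V] [Module K V]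
  [IsScalarTower F K V]

/-- BBAD [L] a configuration with `δ` maximal, `D ≠ 0`, in which NO `a ∈ K u₁ ∖ D` is orthogonal to `ℓ' = h (K u₂)`:
there is another configuration `(ρ, u₁, u₁)` with the same `δ` which has such an `a`. -/
theorem b_bad [Finite K] [FiniteDimensional K V] (h2 : (2 : F) ≠ 0) (B : V →ₗ[K] V →ₗ[K] K)
    (hBs : ∀ x y, B x y = B y x) (hBn : ∀ x, x ≠ 0 → ∃ y, B x y ≠ 0) (hd : 4 ≤ finrank K V)
    (H : Subgroup (V ≃ₗ[F] V)) (hH : H ≤ Of F B) (hC : OmB F B ≤ H) {h : V ≃ₗ[F] V} {u₁ u₂ : V}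
    (hc : Conf B H h u₁ u₂)
    (hmax : ∀ (h' : V ≃ₗ[F] V) (u₁' u₂' : V), Conf B H h' u₁' u₂' → dl F K h' u₁' u₂' ≤ dl F K h u₁ u₂)
    (hD : Kl F K u₁ ⊓ (Kl F K u₂).map (h : V →ₗ[F] V) ≠ ⊥)
    (hbad : ∀ a ∈ Kl F K u₁, (∀ x' ∈ (Kl F K u₂).map (h : V →ₗ[F] V), tf F B a x' = 0) →
      a ∈ (Kl F K u₂).map (h : V →ₗ[F] V)) :
    ∃ ρ : V ≃ₗ[F] V, Conf B H ρ u₁ u₁ ∧ dl F K ρ u₁ u₁ = dl F K h u₁ u₂ ∧
      Kl F K u₁ ⊓ (Kl F K u₁).map (ρ : V →ₗ[F] V) ≠ ⊥ ∧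
      ∃ a ∈ Kl F K u₁, a ∉ (Kl F K u₁).map (ρ : V →ₗ[F] V) ∧
        ∀ x' ∈ (Kl F K u₁).map (ρ : V →ₗ[F] V), tf F B a x' = 0 := by
  have hFfin : Finite F := Finite.of_injective (algebraMap F K) (algebraMap F K).injective
  have hFK : FiniteDimensional F K := Module.Finite.of_finite
  exact b_bad_core h2 B hBs hBn hd H hH hC hc hmax hD hbad
    (fun Y m β lam hlt => by
      have : FiniteDimensional F ↥Y := Module.Finite.trans K ↥Y
      exact cw_quad β lam (by rw [Fintype.card_fin]; exact hlt))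

end Cfsg.Agent.Lib.Helper10.C3O
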