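import Mathlib
import Cfsg.Agent.Lib.Helper22.C3L.Defs
import Cfsg.Agent.Lib.Helper10.C3O.Defs
import Cfsg.Agent.Lib.helper3.C3OISO
import Cfsg.Agent.Lib.Helper21.C3OKSC
import Cfsg.Agent.Lib.Helper1.C3OORBcore
import Cfsg.Agent.Lib.Helper20.C3OSTEPAcore

set_option autoImplicit false
set_option linter.unusedVariables false
set_option linter.unusedSectionVars false

namespace Cfsg.Agent.Lib.Helper10.C3O

open Module Cfsg.Agent.Lib.Helper22.C3L

variable {F K V : Type*} [Field F] [Field K] [Algebra F K] [AddCommGroup V] [Module F V] [Module K V]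
  [IsScalarTower F K V]

/-- STEPA [M-L] if `H ≥ OmB` does not normalise `K`, two members of the `H`-orbit of the singular `K`-lines meet
non-trivially without being equal.  (`stepA_o_core` + ISO + KSC + ORB (helper1's core `c3oorbh1_core` = the statement of `orb_out`).) -/
theorem stepA_o [Finite K] [FiniteDimensional K V] (h2 : (2 : F) ≠ 0) (B : V →ₗ[K] V →ₗ[K] K)
    (hBs : ∀ x y, B x y = B y x) (hBn : ∀ x, x ≠ 0 → ∃ y, B x y ≠ 0) (hd : 4 ≤ finrank K V)
    (H : Subgroup (V ≃ₗ[F] V)) (hH : H ≤ Of F B) (hC : OmB F B ≤ H) (hN : NotNorm K H) :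
    ∃ (h : V ≃ₗ[F] V) (u₁ u₂ : V), Conf B H h u₁ u₂ ∧
      Kl F K u₁ ⊓ (Kl F K u₂).map (h : V →ₗ[F] V) ≠ ⊥ := by
  obtain ⟨u, -, hu, hu0⟩ := iso_ex B hBs (⊤ : Submodule K V) (by rw [finrank_top]; omega)
  exact stepA_o_core h2 B hBs hBn hd H hH hC hN
    (fun T hT => ksc_lemma h2 B hBs hBn (by omega) hu hu0 T hT)
    (fun x x' hx hx' L hxL hx'L hL => c3oorbh1_core h2 B hBs hBn hd hx hx' L hxL hx'L hL)

end Cfsg.Agent.Lib.Helper10.C3O
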