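import Mathlib
import Cfsg.Agent.Lib.Helper22.C3L.Defs

set_option autoImplicit false
set_option linter.unusedVariables false
set_option linter.unusedSectionVars false

/-!
# Project C3L (leader helper22) -> S5886 : row STRICT (helper20, second writer) : `strict_ex` VERBATIM.
-/

namespace Cfsg.Agent.Lib.Helper22.C3L

open Module

variable {F K V : Type*} [Field F] [Field K] [Algebra F K] [AddCommGroup V] [Module F V] [Module K V]
  [IsScalarTower F K V]

/-- `[K:F] ≥ 2` : some element of `K` is not in `F` -/
theorem c3lstrict_exists_not_mem [FiniteDimensional F K] (hr : 2 ≤ finrank F K) :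
    ∃ a : K, a ∉ (algebraMap F K).range := by
  by_contra hcon
  push Not at hcon
  have hle : (⊤ : Submodule F K) ≤ Submodule.span F {(1 : K)} := by
    intro x _
    obtain ⟨c, hc⟩ := hcon x
    rw [Submodule.mem_span_singleton]
    exact ⟨c, by rw [← hc, Algebra.algebraMap_eq_smul_one]⟩
  have h1 := Submodule.finrank_mono hle
  have h2 : finrank F (Submodule.span F {(1 : K)}) ≤ 1 := by
    have := finrank_span_le_card (R := F) ({(1 : K)} : Set K)
    simpa using this
  rw [finrank_top] at h1
  omega

/-- STRICT [M] some `F`-transvection is not `K`-semilinear. -/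
theorem strict_ex [FiniteDimensional F K] [FiniteDimensional K V] (hr : 2 ≤ finrank F K) (hm : 2 ≤ finrank K V) :
    ∃ (φ : Module.Dual F V) (v : V) (h : φ v = 0),
      ¬ ∃ σ : K → K, ∀ (a : K) (x : V), LinearEquiv.transvection h (a • x) = σ a • LinearEquiv.transvection h x := by
  obtain ⟨a, ha⟩ := c3lstrict_exists_not_mem (F := F) (K := K) hr
  -- `v0 ≠ 0`, `y ∉ K v0`
  obtain ⟨v0, hv0⟩ : ∃ v0 : V, v0 ≠ 0 := by
    have : 0 < finrank K V := by omega
    exact (finrank_pos_iff_exists_ne_zero).mp this
  have hsp : finrank K (Submodule.span K {v0}) ≤ 1 := by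
    have := finrank_span_le_card (R := K) ({v0} : Set V)
    simpa using this
  obtain ⟨y, hy⟩ : ∃ y : V, y ∉ Submodule.span K {v0} := by
    by_contra hcon
    push Not at hcon
    have htop : Submodule.span K {v0} = ⊤ := Submodule.eq_top_iff'.mpr hcon
    rw [htop, finrank_top] at hsp
    omega
  have hy0 : y ≠ 0 := by
    intro h
    apply hy
    rw [h]
    exact Submodule.zero_mem _
  obtain ⟨ψ, hψy, hψm⟩ := Submodule.exists_dual_map_eq_bot_of_notMem hy inferInstance
  have hψv : ∀ b : K, ψ (b • v0) = 0 := by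
    intro b
    have : ψ (b • v0) ∈ (Submodule.span K {v0}).map ψ :=
      Submodule.mem_map_of_mem (Submodule.smul_mem _ b (Submodule.mem_span_singleton_self v0))
    rw [hψm] at this
    exact (Submodule.mem_bot K).mp this
  -- `λ : K → F` with `λ (ψ y) = 0`, `λ (a ψ y) ≠ 0`
  have hau : a * ψ y ∉ Submodule.span F {ψ y} := by
    intro hmem
    obtain ⟨c, hc⟩ := Submodule.mem_span_singleton.mp hmem
    apply ha
    refine ⟨c, ?_⟩
    rw [Algebra.smul_def] at hc
    exact mul_right_cancel₀ hψy hc
  obtain ⟨l, hl1, hl2⟩ := Submodule.exists_dual_map_eq_bot_of_notMem hau inferInstance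
  have hlu : l (ψ y) = 0 := by
    have : l (ψ y) ∈ (Submodule.span F {ψ y}).map l :=
      Submodule.mem_map_of_mem (Submodule.mem_span_singleton_self (ψ y))
    rw [hl2] at this
    exact (Submodule.mem_bot F).mp this
  set φ : Module.Dual F V := l ∘ₗ (ψ.restrictScalars F) with hφ
  have hφa : ∀ x, φ x = l (ψ x) := fun x => rfl
  have h : φ y = 0 := by rw [hφa, hlu]
  refine ⟨φ, y, h, ?_⟩
  rintro ⟨σ, hσ⟩
  -- on `v0` : `σ a = a`
  have h1 := hσ a v0
  rw [LinearEquiv.transvection.apply, LinearEquiv.transvection.apply, hφa, hφa, hψv,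
    show ψ v0 = 0 by simpa using hψv 1, map_zero, zero_smul, add_zero, add_zero] at h1
  have hσa : σ a = a := by
    have : (a - σ a) • v0 = 0 := by rw [sub_smul, h1, sub_self]
    rcases smul_eq_zero.mp this with h' | h'
    · exact (sub_eq_zero.mp h').symm
    · exact absurd h' hv0
  -- on `y`
  have h2 := hσ a y
  rw [LinearEquiv.transvection.apply, LinearEquiv.transvection.apply, h, zero_smul, add_zero, hσa,
    hφa, map_smul, smul_eq_mul] at h2
  have h3 : l (a * ψ y) • y = 0 := by
    have := h2
    rwa [add_eq_left] at this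
  rcases smul_eq_zero.mp h3 with h' | h'
  · exact hl1 h'
  · exact hy0 h'

end Cfsg.Agent.Lib.Helper22.C3L
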