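import Mathlib
import Cfsg.Agent.Lib.Helper22.C3L.Defs
import Cfsg.Agent.Lib.Helper24.C3LGEN

set_option autoImplicit false
set_option linter.unusedVariables false
set_option linter.unusedSectionVars false

/-!
# Project C3L (leader helper22) -> S5886 : row LH (helper20) :
`lh_zero lh_add lh_neg lh_ne lh_conj` VERBATIM; extras `c3llh_*`.
-/

namespace Cfsg.Agent.Lib.Helper22.C3L

open Module

variable {F K V : Type*} [Field F] [Field K] [Algebra F K] [AddCommGroup V] [Module F V] [Module K V]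
  [IsScalarTower F K V]

/-- LADD [S-M] `LH K H v` is an additive subgroup. -/
theorem lh_zero (H : Subgroup (V ≃ₗ[F] V)) (v : V) : (0 : V →ₗ[F] V) ∈ LH K H v := by
  refine ⟨fun x => ?_, fun x _ => rfl, 1, H.one_mem, fun x => ?_⟩
  · rw [LinearMap.zero_apply]
    exact (Kl F K v).zero_mem
  · rw [LinearMap.zero_apply, add_zero]
    rfl

theorem lh_add (H : Subgroup (V ≃ₗ[F] V)) (v : V) {X Y : V →ₗ[F] V} (hX : X ∈ LH K H v) (hY : Y ∈ LH K H v) :
    X + Y ∈ LH K H v := by
  obtain ⟨hX1, hX2, gX, hgX, hgX'⟩ := hX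
  obtain ⟨hY1, hY2, gY, hgY, hgY'⟩ := hY
  refine ⟨fun x => ?_, fun x hx => ?_, gX * gY, H.mul_mem hgX hgY, fun x => ?_⟩
  · rw [LinearMap.add_apply]
    exact (Kl F K v).add_mem (hX1 x) (hY1 x)
  · rw [LinearMap.add_apply, hX2 x hx, hY2 x hx, add_zero]
  · rw [LinearEquiv.mul_apply, hgY', hgX', map_add, hX2 _ (hY1 x), LinearMap.add_apply]
    abel

theorem lh_neg (H : Subgroup (V ≃ₗ[F] V)) (v : V) {X : V →ₗ[F] V} (hX : X ∈ LH K H v) : -X ∈ LH K H v := by
  obtain ⟨hX1, hX2, gX, hgX, hgX'⟩ := hX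
  refine ⟨fun x => ?_, fun x hx => ?_, gX⁻¹, H.inv_mem hgX, fun x => ?_⟩
  · rw [LinearMap.neg_apply]
    exact (Kl F K v).neg_mem (hX1 x)
  · rw [LinearMap.neg_apply, hX2 x hx, neg_zero]
  · have h1 : gX (x + (-X) x) = x := by
      rw [hgX', LinearMap.neg_apply, map_add, map_neg, hX2 _ (hX1 x)]
      abel
    calc gX⁻¹ x = gX⁻¹ (gX (x + (-X) x)) := by rw [h1]
      _ = x + (-X) x := by
        rw [← LinearEquiv.mul_apply, inv_mul_cancel]
        rfl

/-- the `K`-line is finite-dimensional over `F` -/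
theorem c3llh_Kl_fd [FiniteDimensional F K] (v : V) : FiniteDimensional F (Kl F K v) := by
  have hle : Kl F K v ≤ LinearMap.range ((LinearMap.toSpanSingleton K V v).restrictScalars F) := by
    intro x hx
    obtain ⟨a, rfl⟩ := (mem_Kl F K).mp hx
    exact ⟨a, rfl⟩
  have : FiniteDimensional F (LinearMap.range ((LinearMap.toSpanSingleton K V v).restrictScalars F)) :=
    inferInstance
  exact Submodule.finiteDimensional_of_le hle

/-- an element of `GL_F(V)` mapping the `K`-line into itself maps it onto itself -/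
theorem c3llh_symm_mem [FiniteDimensional F K] {v : V} {g : V ≃ₗ[F] V}
    (hgv : ∀ a : K, ∃ b : K, g (a • v) = b • v) {x : V} (hx : x ∈ Kl F K v) :
    g.symm x ∈ Kl F K v := by
  haveI := c3llh_Kl_fd (F := F) (K := K) v
  have hle : (Kl F K v).map (g : V →ₗ[F] V) ≤ Kl F K v := by
    rintro _ ⟨y, hy, rfl⟩
    obtain ⟨a, rfl⟩ := (mem_Kl F K).mp hy
    obtain ⟨b, hb⟩ := hgv a
    rw [LinearEquiv.coe_coe, hb]
    exact smul_mem_Kl F K b v
  have hfr : finrank F ((Kl F K v).map (g : V →ₗ[F] V)) = finrank F (Kl F K v) :=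
    LinearEquiv.finrank_map_eq g (Kl F K v)
  have heq : (Kl F K v).map (g : V →ₗ[F] V) = Kl F K v :=
    Submodule.eq_of_le_of_finrank_eq hle hfr
  rw [← heq] at hx
  obtain ⟨y, hy, rfl⟩ := hx
  rw [LinearEquiv.coe_coe, LinearEquiv.symm_apply_apply]
  exact hy

/-- LNE [S-M] `LH` contains a non-zero element (a `K`-transvection; `dim_K V ≥ 2`, `v ≠ 0`). -/
theorem lh_ne [FiniteDimensional F K] [FiniteDimensional K V] (hm : 2 ≤ finrank K V) (H : Subgroup (V ≃ₗ[F] V))
    (hC : C1 F K V ≤ H) {v : V} (hv : v ≠ 0) : ∃ X ∈ LH K H v, X ≠ 0 := by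
  -- a vector outside `K v`
  have hsp : finrank K (Submodule.span K {v}) ≤ 1 := by
    have := finrank_span_le_card (R := K) ({v} : Set V)
    simpa using this
  obtain ⟨y, hy⟩ : ∃ y : V, y ∉ Submodule.span K {v} := by
    by_contra hcon
    push Not at hcon
    have htop : Submodule.span K {v} = ⊤ := Submodule.eq_top_iff'.mpr hcon
    rw [htop, finrank_top] at hsp
    omega
  obtain ⟨ψ, hψy, hψm⟩ := Submodule.exists_dual_map_eq_bot_of_notMem hy inferInstance
  have hψv : ∀ a : K, ψ (a • v) = 0 := by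
    intro a
    have : ψ (a • v) ∈ (Submodule.span K {v}).map ψ :=
      Submodule.mem_map_of_mem (Submodule.smul_mem _ a (Submodule.mem_span_singleton_self v))
    rw [hψm] at this
    exact (Submodule.mem_bot K).mp this
  have hψv0 : ψ v = 0 := by
    have := hψv 1
    rwa [one_smul] at this
  refine ⟨(LinearMap.transvection ψ v - LinearMap.id).restrictScalars F, ⟨fun x => ?_, fun x hx => ?_,
    (LinearEquiv.transvection hψv0).restrictScalars F, hC (ktv_mem hψv0), fun x => ?_⟩, ?_⟩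
  · rw [LinearMap.restrictScalars_apply, LinearMap.sub_apply, LinearMap.transvection.apply,
      LinearMap.id_apply, add_sub_cancel_left]
    exact smul_mem_Kl F K _ v
  · obtain ⟨a, rfl⟩ := (mem_Kl F K).mp hx
    rw [LinearMap.restrictScalars_apply, LinearMap.sub_apply, LinearMap.transvection.apply,
      LinearMap.id_apply, add_sub_cancel_left, hψv, zero_smul]
  · rw [LinearMap.restrictScalars_apply, LinearMap.sub_apply, LinearMap.transvection.apply,
      LinearMap.id_apply, add_sub_cancel_left]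
    rfl
  · intro h0
    have := LinearMap.congr_fun h0 y
    rw [LinearMap.restrictScalars_apply, LinearMap.sub_apply, LinearMap.transvection.apply,
      LinearMap.id_apply, add_sub_cancel_left, LinearMap.zero_apply] at this
    rcases smul_eq_zero.mp this with h | h
    · exact hψy h
    · exact hv h

/-- LCONJ [M] `g ∈ H` with `g (K v) ⊆ K v`: `X ↦ g X g⁻¹` preserves `LH K H v`. -/
theorem lh_conj [FiniteDimensional F K] [FiniteDimensional K V] (H : Subgroup (V ≃ₗ[F] V)) {v : V} {g : V ≃ₗ[F] V}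
    (hg : g ∈ H) (hgv : ∀ a : K, ∃ b : K, g (a • v) = b • v) {X : V →ₗ[F] V} (hX : X ∈ LH K H v) :
    (g : V →ₗ[F] V) ∘ₗ X ∘ₗ (g.symm : V →ₗ[F] V) ∈ LH K H v := by
  obtain ⟨hX1, hX2, gX, hgX, hgX'⟩ := hX
  refine ⟨fun x => ?_, fun x hx => ?_, g * gX * g⁻¹, H.mul_mem (H.mul_mem hg hgX) (H.inv_mem hg),
    fun x => ?_⟩
  · rw [LinearMap.comp_apply, LinearMap.comp_apply, LinearEquiv.coe_coe, LinearEquiv.coe_coe]
    obtain ⟨a, ha⟩ := (mem_Kl F K).mp (hX1 (g.symm x))
    obtain ⟨b, hb⟩ := hgv a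
    rw [← ha, hb]
    exact smul_mem_Kl F K b v
  · rw [LinearMap.comp_apply, LinearMap.comp_apply, LinearEquiv.coe_coe, LinearEquiv.coe_coe,
      hX2 _ (c3llh_symm_mem hgv hx), map_zero]
  · rw [LinearMap.comp_apply, LinearMap.comp_apply, LinearEquiv.coe_coe, LinearEquiv.coe_coe,
      LinearEquiv.mul_apply, LinearEquiv.mul_apply]
    have : g⁻¹ x = g.symm x := rfl
    rw [this, hgX', map_add, LinearEquiv.apply_symm_apply]

end Cfsg.Agent.Lib.Helper22.C3L
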