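import Mathlib
import Cfsg.Agent.Lib.Helper22.C3L.Defs
import Cfsg.Agent.Lib.Helper24.C3LGEN
import Cfsg.Agent.Lib.Helper20.C3LLH

set_option autoImplicit false
set_option linter.unusedVariables false
set_option linter.unusedSectionVars false

/-!
# Project C3L (leader helper22) -> S5886 : row LK (helper20), core : `lh_smul` with `n1` as a hypothesis.
-/

namespace Cfsg.Agent.Lib.Helper22.C3L

open Module

variable {F K V : Type*} [Field F] [Field K] [Algebra F K] [AddCommGroup V] [Module F V] [Module K V]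
  [IsScalarTower F K V]

/-- left multiplication by an element of norm one (conjugation by the dilation) -/
theorem c3llk_norm_one [FiniteDimensional F K] [FiniteDimensional K V] (H : Subgroup (V ≃ₗ[F] V))
    (hC : C1 F K V ≤ H) {v : V} (hv : v ≠ 0) {k : K} (hk : Algebra.norm F k = 1)
    {X : V →ₗ[F] V} (hX : X ∈ LH K H v) : kmul F K k ∘ₗ X ∈ LH K H v := by
  obtain ⟨hX1, hX2, gX, hgX, hgX'⟩ := hX
  obtain ⟨d, hdC, hd1, hd2⟩ := kdil_ex (F := F) hv hk
  have hdH : d ∈ H := hC hdC
  refine ⟨fun x => ?_, fun x hx => ?_, d * gX * d⁻¹, H.mul_mem (H.mul_mem hdH hgX) (H.inv_mem hdH),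
    fun x => ?_⟩
  · rw [LinearMap.comp_apply, kmul_apply]
    obtain ⟨a, ha⟩ := (mem_Kl F K).mp (hX1 x)
    rw [← ha, smul_smul]
    exact smul_mem_Kl F K _ v
  · rw [LinearMap.comp_apply, kmul_apply, hX2 x hx, smul_zero]
  · rw [LinearMap.comp_apply, kmul_apply, LinearEquiv.mul_apply, LinearEquiv.mul_apply]
    have hinv : d⁻¹ x = d.symm x := rfl
    rw [hinv, hgX', map_add, LinearEquiv.apply_symm_apply]
    congr 1
    -- `X (d⁻¹ x) = X x`
    obtain ⟨a, ha⟩ := hd2 (d.symm x)
    rw [LinearEquiv.apply_symm_apply] at ha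
    have hy : d.symm x = x - a • v := eq_sub_of_add_eq ha.symm
    have hXy : X (d.symm x) = X x := by
      rw [hy, map_sub, hX2 _ (smul_mem_Kl F K a v), sub_zero]
    rw [hXy]
    obtain ⟨c, hc⟩ := (mem_Kl F K).mp (hX1 x)
    rw [← hc, hd1, smul_smul]

/-- LK, with `n1` as a hypothesis -/
theorem c3llk_core [FiniteDimensional F K] [FiniteDimensional K V]
    (hn1 : AddSubgroup.closure {k : K | Algebra.norm F k = 1} = ⊤)
    (H : Subgroup (V ≃ₗ[F] V))
    (hC : C1 F K V ≤ H) {v : V} (hv : v ≠ 0) (k : K) {X : V →ₗ[F] V} (hX : X ∈ LH K H v) :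
    kmul F K k ∘ₗ X ∈ LH K H v := by
  have hk : k ∈ AddSubgroup.closure {k : K | Algebra.norm F k = 1} := by
    rw [hn1]
    exact AddSubgroup.mem_top k
  induction hk using AddSubgroup.closure_induction with
  | mem x hx => exact c3llk_norm_one H hC hv hx hX
  | zero =>
    have : kmul F K (0 : K) ∘ₗ X = 0 := by
      ext x
      rw [LinearMap.comp_apply, kmul_apply, zero_smul, LinearMap.zero_apply]
    rw [this]
    exact lh_zero H v
  | add x y _ _ hx hy =>
    have : kmul F K (x + y) ∘ₗ X = kmul F K x ∘ₗ X + kmul F K y ∘ₗ X := by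
      ext z
      rw [LinearMap.add_apply, LinearMap.comp_apply, LinearMap.comp_apply, LinearMap.comp_apply,
        kmul_apply, kmul_apply, kmul_apply, add_smul]
    rw [this]
    exact lh_add H v hx hy
  | neg x _ hx =>
    have : kmul F K (-x) ∘ₗ X = -(kmul F K x ∘ₗ X) := by
      ext z
      rw [LinearMap.neg_apply, LinearMap.comp_apply, LinearMap.comp_apply,
        kmul_apply, kmul_apply, neg_smul]
    rw [this]
    exact lh_neg H v hx

end Cfsg.Agent.Lib.Helper22.C3L
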