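import Mathlib
import Cfsg.Agent.Lib.Helper22.C3L.Defs
import Cfsg.Agent.Lib.Helper13.C3LN1
import Cfsg.Agent.Lib.Helper20.C3LLKcore

set_option autoImplicit false
set_option linter.unusedVariables false
set_option linter.unusedSectionVars false

/-!
# Project C3L (leader helper22) -> S5886 : row LK (helper20) : `lh_smul` VERBATIM
(from `c3llk_core` and helper13's `n1`).
-/

namespace Cfsg.Agent.Lib.Helper22.C3L

open Module

variable {F K V : Type*} [Field F] [Field K] [Algebra F K] [AddCommGroup V] [Module F V] [Module K V]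
  [IsScalarTower F K V]

/-- LK [M] `LH K H v` is stable under left multiplication by `K`. -/
theorem lh_smul [Finite K] [FiniteDimensional K V] (hr : 2 ≤ finrank F K) (H : Subgroup (V ≃ₗ[F] V))
    (hC : C1 F K V ≤ H) {v : V} (hv : v ≠ 0) (k : K) {X : V →ₗ[F] V} (hX : X ∈ LH K H v) :
    kmul F K k ∘ₗ X ∈ LH K H v := by
  have : FiniteDimensional F K := Module.Finite.of_finite
  exact c3llk_core (n1 hr) H hC hv k hX

end Cfsg.Agent.Lib.Helper22.C3L
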