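import Mathlib
import Cfsg.Agent.Lib.Helper10.C3Q.Defs
import Cfsg.Agent.Lib.Helper16.SpinAdjust2

set_option autoImplicit false
set_option linter.unusedVariables false
set_option linter.unusedSectionVars false

/-!
# C3Q row FRISO (`frame_iso`): two frames with the same data give an isometry `h` with `h A = A' h`.
-/

namespace Cfsg.Agent.Lib.Helper10.C3Q

open Matrix Module Cfsg.Agent.Lib.Helper13.OTS Cfsg.Agent.Lib.Helper16

universe u

variable {F : Type u} [Field F] {ι : Type} [Fintype ι] [DecidableEq ι]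

/-- the polar values on the vectors of a frame are determined by the data -/
theorem c3qfriso_polar (Q : QuadraticForm F (ι → F)) (δ : F) (A : Matrix ι ι F)
    (hA : Gen (⇑Q) δ A) {n : ℕ} (e : Fin n → (ι → F)) (he : IsFrame (⇑Q) A e)
    (p q : Fin n × Fin 2) :
    QuadraticMap.polar (⇑Q) (if p.2 = 0 then e p.1 else A *ᵥ e p.1)
        (if q.2 = 0 then e q.1 else A *ᵥ e q.1) =
      if p.1 = q.1 then
        (if p.2 = 0 then (if q.2 = 0 then QuadraticMap.polar (⇑Q) (e p.1) (e p.1)
            else QuadraticMap.polar (⇑Q) (e p.1) (A *ᵥ e p.1))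
          else (if q.2 = 0 then QuadraticMap.polar (⇑Q) (e p.1) (A *ᵥ e p.1)
            else δ * QuadraticMap.polar (⇑Q) (e p.1) (e p.1)))
      else 0 := by
  obtain ⟨i, s⟩ := p
  obtain ⟨j, t⟩ := q
  simp only
  by_cases hij : i = j
  · subst hij
    rw [if_pos rfl]
    by_cases hs : s = 0 <;> by_cases ht : t = 0
    · rw [if_pos hs, if_pos ht, if_pos hs, if_pos ht]
    · rw [if_pos hs, if_neg ht, if_pos hs, if_neg ht]
    · rw [if_neg hs, if_pos ht, if_neg hs, if_pos ht, QuadraticMap.polar_comm]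
    · rw [if_neg hs, if_neg ht, if_neg hs, if_neg ht, hA.sa, Matrix.mulVec_mulVec, hA.sq,
        Matrix.smul_mulVec, Matrix.one_mulVec, QuadraticMap.polar_smul_right, smul_eq_mul]
  · rw [if_neg hij]
    have h1 := he.orth i j hij
    have h2 := he.orth j i (Ne.symm hij)
    by_cases hs : s = 0 <;> by_cases ht : t = 0
    · rw [if_pos hs, if_pos ht]; exact h1.1
    · rw [if_pos hs, if_neg ht]; exact h1.2.1
    · rw [if_neg hs, if_pos ht, QuadraticMap.polar_comm]; exact h2.2.1
    · rw [if_neg hs, if_neg ht]; exact h1.2.2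

theorem frame_iso (h2 : (2 : F) ≠ 0) (Q : QuadraticForm F (ι → F)) (δ : F) (A A' : Matrix ι ι F)
    (hA : Gen (⇑Q) δ A) (hA' : Gen (⇑Q) δ A') {n : ℕ} (e e' : Fin n → (ι → F))
    (he : IsFrame (⇑Q) A e) (he' : IsFrame (⇑Q) A' e')
    (hd : ∀ j, QuadraticMap.polar (⇑Q) (e' j) (e' j) = QuadraticMap.polar (⇑Q) (e j) (e j) ∧
      QuadraticMap.polar (⇑Q) (e' j) (A' *ᵥ e' j) = QuadraticMap.polar (⇑Q) (e j) (A *ᵥ e j)) :
    ∃ h : GL ι F, h ∈ Cfsg.isometryGroup F (⇑Q) ∧
      (h : Matrix ι ι F) * A = A' * (h : Matrix ι ι F) := by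
  classical
  set b : Module.Basis (Fin n × Fin 2) F (ι → F) := Module.Basis.mk he.li he.span with hb
  set b' : Module.Basis (Fin n × Fin 2) F (ι → F) := Module.Basis.mk he'.li he'.span with hb'
  have hbp : ∀ p, b p = if p.2 = 0 then e p.1 else A *ᵥ e p.1 := fun p => by
    rw [hb, Module.Basis.mk_apply]
  have hbp' : ∀ p, b' p = if p.2 = 0 then e' p.1 else A' *ᵥ e' p.1 := fun p => by
    rw [hb', Module.Basis.mk_apply]
  set φ : (ι → F) ≃ₗ[F] (ι → F) := b.equiv b' (Equiv.refl _) with hφ
  have hφb : ∀ p, φ (b p) = b' p := fun p => by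
    rw [hφ, Module.Basis.equiv_apply, Equiv.refl_apply]
  -- the polar form is preserved
  have hpol : ∀ u v, QuadraticMap.polar (⇑Q) (φ u) (φ v) = QuadraticMap.polar (⇑Q) u v := by
    have hB : (QuadraticMap.polarBilin Q).compl₁₂ φ.toLinearMap φ.toLinearMap
        = QuadraticMap.polarBilin Q := by
      apply LinearMap.BilinForm.ext_basis b
      intro p q
      rw [LinearMap.compl₁₂_apply, LinearEquiv.coe_coe, hφb, hφb,
        QuadraticMap.polarBilin_apply_apply, QuadraticMap.polarBilin_apply_apply, hbp, hbp, hbp',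
        hbp', c3qfriso_polar Q δ A hA e he p q, c3qfriso_polar Q δ A' hA' e' he' p q,
        (hd p.1).1, (hd p.1).2]
    intro u v
    have := congrArg (fun B : LinearMap.BilinForm F (ι → F) => B u v) hB
    simpa [LinearMap.compl₁₂_apply] using this
  have hQ : ∀ v, Q (φ v) = Q v := by
    intro v
    have h1 := hpol v v
    rw [QuadraticMap.polar_self, QuadraticMap.polar_self, two_nsmul, two_nsmul, ← two_mul,
      ← two_mul] at h1
    exact mul_left_cancel₀ h2 h1
  -- `φ A = A' φ`
  have hcomm : ∀ u, φ (A *ᵥ u) = A' *ᵥ φ u := by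
    have hL : φ.toLinearMap ∘ₗ Matrix.toLin' A = Matrix.toLin' A' ∘ₗ φ.toLinearMap := by
      apply b.ext
      intro p
      obtain ⟨j, s⟩ := p
      simp only [LinearMap.comp_apply, LinearEquiv.coe_coe, Matrix.toLin'_apply]
      by_cases hs : s = 0
      · subst hs
        have e1 : b (j, 0) = e j := by rw [hbp]; simp
        have e2 : A *ᵥ e j = b (j, 1) := by rw [hbp]; simp
        have e1' : b' (j, 0) = e' j := by rw [hbp']; simp
        have e2' : A' *ᵥ e' j = b' (j, 1) := by rw [hbp']; simp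
        rw [hφb, e1, e2, hφb, e1', e2']
      · have hs1 : s = 1 := by
          fin_cases s
          · exact absurd rfl hs
          · rfl
        subst hs1
        have e1 : b (j, 1) = A *ᵥ e j := by rw [hbp]; simp
        have e0 : e j = b (j, 0) := by rw [hbp]; simp
        have e1' : b' (j, 1) = A' *ᵥ e' j := by rw [hbp']; simp
        have e0' : b' (j, 0) = e' j := by rw [hbp']; simp
        rw [hφb, e1, Matrix.mulVec_mulVec, hA.sq, Matrix.smul_mulVec, Matrix.one_mulVec, e1',
          Matrix.mulVec_mulVec, hA'.sq, Matrix.smul_mulVec, Matrix.one_mulVec, map_smul, e0, hφb,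
          e0']
    intro u
    have := congrArg (fun L : (ι → F) →ₗ[F] (ι → F) => L u) hL
    simpa using this
  -- matrices
  set M : Matrix ι ι F := LinearMap.toMatrix' φ.toLinearMap with hM
  set Mi : Matrix ι ι F := LinearMap.toMatrix' φ.symm.toLinearMap with hMi
  have hMMi : M * Mi = 1 := by
    rw [hM, hMi, ← LinearMap.toMatrix'_comp, LinearEquiv.comp_coe, LinearEquiv.symm_trans_self,
      LinearEquiv.refl_toLinearMap, LinearMap.toMatrix'_id]
  have hMiM : Mi * M = 1 := by
    rw [hM, hMi, ← LinearMap.toMatrix'_comp, LinearEquiv.comp_coe, LinearEquiv.self_trans_symm,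
      LinearEquiv.refl_toLinearMap, LinearMap.toMatrix'_id]
  have hMv : ∀ v, M *ᵥ v = φ v := by
    intro v
    rw [hM, ← Matrix.toLin'_apply, Matrix.toLin'_toMatrix']
    rfl
  refine ⟨⟨M, Mi, hMMi, hMiM⟩, ?_, ?_⟩
  · intro v _
    show Q (M *ᵥ v) = Q v
    rw [hMv, hQ]
  · show M * A = A' * M
    apply Matrix.toLin'.injective
    apply LinearMap.ext
    intro v
    rw [Matrix.toLin'_mul, Matrix.toLin'_mul, LinearMap.comp_apply, LinearMap.comp_apply,
      Matrix.toLin'_apply, Matrix.toLin'_apply, Matrix.toLin'_apply, Matrix.toLin'_apply, hMv,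
      hMv, hcomm]

end Cfsg.Agent.Lib.Helper10.C3Q
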