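import Mathlib
import Cfsg.Agent.Lib.Helper10.C3Q.Defs
import Cfsg.Agent.Lib.Helper16.SpinAdjust2
import Cfsg.Agent.Lib.Helper20.C3QFRISO

set_option autoImplicit false
set_option linter.unusedVariables false
set_option linter.unusedSectionVars false

/-!
# C3Q row CLS, core: all `Gen` are conjugate, with the statements of FRNORMAL / FRDET / FRADJUST as hypotheses.
-/

namespace Cfsg.Agent.Lib.Helper10.C3Q

open Matrix Module Cfsg.Agent.Lib.Helper13.OTS Cfsg.Agent.Lib.Helper16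

universe u

variable {F : Type u} [Field F] {ι : Type} [Fintype ι] [DecidableEq ι]

theorem c3qcls_core (h2 : (2 : F) ≠ 0) (Q : QuadraticForm F (ι → F)) (δ : F) (A A' : Matrix ι ι F)
    (hA : Gen (⇑Q) δ A) (hA' : Gen (⇑Q) δ A') (n : ℕ)
    (hN : ∀ A : Matrix ι ι F, Gen (⇑Q) δ A →
      ∃ e : Fin (n + 1) → (ι → F), IsFrame (⇑Q) A e ∧
        ∀ j, j ≠ Fin.last n → QuadraticMap.polar (⇑Q) (e j) (e j) = 2 ∧
          QuadraticMap.polar (⇑Q) (e j) (A *ᵥ e j) = 0)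
    (hD : ∀ A : Matrix ι ι F, Gen (⇑Q) δ A → ∀ e : Fin (n + 1) → (ι → F), IsFrame (⇑Q) A e →
      ∃ c : F, c ≠ 0 ∧
        ∏ j, (δ * QuadraticMap.polar (⇑Q) (e j) (e j) ^ 2 - QuadraticMap.polar (⇑Q) (e j) (A *ᵥ e j) ^ 2) =
          c ^ 2 * (Matrix.of fun k l : ι => QuadraticMap.polar (⇑Q) (Pi.single k 1) (Pi.single l 1)).det)
    (hAdj : ∀ A : Matrix ι ι F, Gen (⇑Q) δ A → ∀ e : Fin (n + 1) → (ι → F), IsFrame (⇑Q) A e →
      ∀ a b t : F, t ≠ 0 →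
      δ * a ^ 2 - b ^ 2 = t ^ 2 * (δ * QuadraticMap.polar (⇑Q) (e (Fin.last n)) (e (Fin.last n)) ^ 2 -
        QuadraticMap.polar (⇑Q) (e (Fin.last n)) (A *ᵥ e (Fin.last n)) ^ 2) →
      ∃ e' : Fin (n + 1) → (ι → F), IsFrame (⇑Q) A e' ∧ (∀ j, j ≠ Fin.last n → e' j = e j) ∧
        QuadraticMap.polar (⇑Q) (e' (Fin.last n)) (e' (Fin.last n)) = a ∧
        QuadraticMap.polar (⇑Q) (e' (Fin.last n)) (A *ᵥ e' (Fin.last n)) = b) :
    ∃ h : GL ι F, h ∈ Cfsg.isometryGroup F (⇑Q) ∧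
      (h : Matrix ι ι F) * A = A' * (h : Matrix ι ι F) := by
  obtain ⟨e, he, hen⟩ := hN A hA
  obtain ⟨e0, he0, he0n⟩ := hN A' hA'
  obtain ⟨c, hc, hprod⟩ := hD A hA e he
  obtain ⟨c', hc', hprod'⟩ := hD A' hA' e0 he0
  have hδ : δ ≠ 0 := by
    rintro rfl
    exact hA.ns ⟨0, by simp⟩
  have h4δ : (δ * 2 ^ 2 - 0 ^ 2 : F) ≠ 0 := by
    have : (δ * 2 ^ 2 - 0 ^ 2 : F) = δ * (2 * 2) := by ring
    rw [this]
    exact mul_ne_zero hδ (mul_ne_zero h2 h2)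
  -- the products
  have hP : ∀ (B : Matrix ι ι F) (f : Fin (n + 1) → (ι → F)),
      (∀ j, j ≠ Fin.last n → QuadraticMap.polar (⇑Q) (f j) (f j) = 2 ∧
          QuadraticMap.polar (⇑Q) (f j) (B *ᵥ f j) = 0) →
      ∏ j, (δ * QuadraticMap.polar (⇑Q) (f j) (f j) ^ 2 - QuadraticMap.polar (⇑Q) (f j) (B *ᵥ f j) ^ 2) =
        (δ * 2 ^ 2 - 0 ^ 2) ^ n *
          (δ * QuadraticMap.polar (⇑Q) (f (Fin.last n)) (f (Fin.last n)) ^ 2 -
            QuadraticMap.polar (⇑Q) (f (Fin.last n)) (B *ᵥ f (Fin.last n)) ^ 2) := by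
    intro B f hf
    rw [Fin.prod_univ_castSucc]
    congr 1
    rw [← Fin.prod_const]
    apply Finset.prod_congr rfl
    intro i _
    have hne : Fin.castSucc i ≠ Fin.last n := Fin.castSucc_ne_last i
    rw [(hf _ hne).1, (hf _ hne).2]
  rw [hP A e hen] at hprod
  rw [hP A' e0 he0n] at hprod'
  set a := QuadraticMap.polar (⇑Q) (e (Fin.last n)) (e (Fin.last n)) with ha
  set b := QuadraticMap.polar (⇑Q) (e (Fin.last n)) (A *ᵥ e (Fin.last n)) with hb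
  set D := (Matrix.of fun k l : ι => QuadraticMap.polar (⇑Q) (Pi.single k 1) (Pi.single l 1)).det with hDdef
  have hkey : δ * a ^ 2 - b ^ 2 = (c / c') ^ 2 *
      (δ * QuadraticMap.polar (⇑Q) (e0 (Fin.last n)) (e0 (Fin.last n)) ^ 2 -
        QuadraticMap.polar (⇑Q) (e0 (Fin.last n)) (A' *ᵥ e0 (Fin.last n)) ^ 2) := by
    have hpow : ((δ * 2 ^ 2 - 0 ^ 2 : F)) ^ n ≠ 0 := pow_ne_zero n h4δ
    apply mul_left_cancel₀ hpow
    have h1 : c ^ 2 * D = (c / c') ^ 2 * (c' ^ 2 * D) := by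
      rw [div_pow]
      field_simp
    rw [hprod, h1, ← hprod']
    ring
  obtain ⟨e', he', hsame, hea, heb⟩ := hAdj A' hA' e0 he0 a b (c / c') (div_ne_zero hc hc') hkey
  apply frame_iso h2 Q δ A A' hA hA' e e' he he'
  intro j
  by_cases hj : j = Fin.last n
  · subst hj
    exact ⟨hea, heb⟩
  · rw [hsame j hj, (hen j hj).1, (hen j hj).2, (he0n j hj).1, (he0n j hj).2]
    exact ⟨rfl, rfl⟩

end Cfsg.Agent.Lib.Helper10.C3Q
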