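import Mathlib
import Cfsg.Agent.Lib.Helper10.C3Q.Defs
import Cfsg.Agent.Lib.Helper16.SpinAdjust2
import Cfsg.Agent.Lib.Helper20.C3QCLScore
import Cfsg.Agent.Lib.helper6.C3QFRNORMAL
import Cfsg.Agent.Lib.Helper11.C3QFRDET
import Cfsg.Agent.Lib.Helper27.C3QFRADJUST

set_option autoImplicit false
set_option linter.unusedVariables false
set_option linter.unusedSectionVars false

/-!
# C3Q row CLS (`cls`), verbatim: all `Gen` are conjugate (wrapper of `c3qcls_core`).
-/

namespace Cfsg.Agent.Lib.Helper10.C3Q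

open Matrix Module Cfsg.Agent.Lib.Helper13.OTS Cfsg.Agent.Lib.Helper16

universe u

variable {F : Type u} [Field F] {ι : Type} [Fintype ι] [DecidableEq ι]

/-- CLS [M] -/
theorem cls [Fintype F] (h2 : (2 : F) ≠ 0) (Q : QuadraticForm F (ι → F))
    (hQ : (QuadraticMap.polarBilin Q).Nondegenerate) (δ : F) (A A' : Matrix ι ι F)
    (hA : Gen (⇑Q) δ A) (hA' : Gen (⇑Q) δ A') (n : ℕ) (hcard : Fintype.card ι = 2 * (n + 1)) :
    ∃ h : GL ι F, h ∈ Cfsg.isometryGroup F (⇑Q) ∧
      (h : Matrix ι ι F) * A = A' * (h : Matrix ι ι F) :=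
  c3qcls_core h2 Q δ A A' hA hA' n (fun A hA => frame_normal h2 Q hQ δ A hA n hcard)
    (fun A hA e he => frame_det Q δ A hA e he)
    (fun A hA e he a b t ht hab => frame_adjust h2 Q hQ δ A hA n e he a b t ht hab)

end Cfsg.Agent.Lib.Helper10.C3Q
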