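import Mathlib
import Cfsg.Agent.Lib.Helper13.OTS.Defs
import Cfsg.Agent.Lib.Helper16.PlusFam
import Cfsg.Agent.Lib.Helper16.OHelp

set_option autoImplicit false

/-!
# OTS row FORMEX (`q_form_ex`): non-degenerate forms of every even dimension and both types.
-/

namespace Cfsg.Agent.Lib.Helper13.OTS

open Module Cfsg.Agent.Lib.Helper16 Cfsg.Agent.Lib.Helper16.OSemi

/-- a finite field has a quadratic `t² + t + ζ` without roots -/
theorem otsformex_irred {F : Type*} [Field F] [Finite F] : ∃ ζ : F, ∀ t : F, t ^ 2 + t + ζ ≠ 0 := by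
  by_contra h
  push Not at h
  have hsurj : Function.Surjective (fun t : F => t ^ 2 + t) := by
    intro c
    obtain ⟨t, ht⟩ := h (-c)
    exact ⟨t, by
      show t ^ 2 + t = c
      linear_combination ht⟩
  have hinj := Finite.injective_iff_surjective.mpr hsurj
  have h1 : (fun t : F => t ^ 2 + t) 0 = (fun t : F => t ^ 2 + t) (-1) := by
    show (0 : F) ^ 2 + 0 = (-1) ^ 2 + -1
    ring
  have := hinj h1
  exact one_ne_zero (neg_eq_zero.mp this.symm)

/-- the binary form `z₁² + z₁ z₂ + ζ z₂²` is anisotropic when `t² + t + ζ` has no root -/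
theorem otsformex_aniso {F : Type*} [Field F] (ζ : F) (hζ : ∀ t : F, t ^ 2 + t + ζ ≠ 0)
    (z₁ z₂ : F) (h : z₁ ^ 2 + 1 * z₁ * z₂ + ζ * z₂ ^ 2 = 0) : z₁ = 0 ∧ z₂ = 0 := by
  have hz2 : z₂ = 0 := by
    by_contra hne
    apply hζ (z₁ / z₂)
    field_simp
    linear_combination h
  subst hz2
  refine ⟨?_, rfl⟩
  have : z₁ ^ 2 = 0 := by linear_combination h
  exact pow_eq_zero_iff (two_ne_zero) |>.mp this

theorem q_form_ex {F : Type*} [Field F] [Fintype F] (k₀ : ℕ) (s₀ : ℤ) (hs : s₀ = 1 ∨ s₀ = -1)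
    (h0 : k₀ = 0 → s₀ = 1) :
    ∃ (κ : Type) (_ : Fintype κ) (_ : DecidableEq κ) (Q₀ : QuadraticForm F (κ → F)),
      (QuadraticMap.polarBilin Q₀).Nondegenerate ∧ Fintype.card κ = 2 * k₀ ∧
      Cfsg.Agent.Lib.Helper16.OSemi.IsType (⇑Q₀) k₀ s₀ := by
  rcases hs with rfl | rfl
  · refine ⟨Fin k₀ ⊕ Fin k₀, inferInstance, inferInstance, qfPlus k₀ F, qfPlus_nondeg k₀ F, ?_, ?_⟩
    · simp [two_mul]
    · rw [qfPlus_coe]
      exact isType_plus k₀
  · have hk : 1 ≤ k₀ := by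
      rcases Nat.eq_zero_or_pos k₀ with h | h
      · have := h0 h
        omega
      · exact h
    obtain ⟨ζ, hζ⟩ := otsformex_irred (F := F)
    have hac := otsformex_aniso ζ hζ
    refine ⟨(Fin (k₀ - 1) ⊕ Fin (k₀ - 1)) ⊕ Fin 2, inferInstance, inferInstance,
      qfMinus (k₀ - 1) F 1 ζ, qfMinus_nondeg (k₀ - 1) 1 ζ hac, ?_, ?_⟩
    · simp only [Fintype.card_sum, Fintype.card_fin]
      omega
    · rw [qfMinus_coe]
      have := isType_minus (F := F) (k₀ - 1) 1 ζ hac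
      rwa [Nat.sub_add_cancel hk] at this

end Cfsg.Agent.Lib.Helper13.OTS
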