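import Mathlib

set_option autoImplicit false

namespace Cfsg.Agent.Lib.Helper20.PolySeq

open scoped commutatorElement

variable {K : Type*} [Group K]

/-- forward difference of a sequence -/
def D (g : ℕ → K) : ℕ → K := fun n => g (n + 1) * (g n)⁻¹

/-- shift of a sequence -/
def Sh (g : ℕ → K) : ℕ → K := fun n => g (n + 1)

/-- filtration: descending, with `[F i, F j] ≤ F (i+j)` -/
structure Filt (F : ℕ → Subgroup K) : Prop where
  anti : ∀ i, F (i + 1) ≤ F i
  comm : ∀ i j, ⁅F i, F j⁆ ≤ F (i + j)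

theorem Filt.le {F : ℕ → Subgroup K} (hF : Filt F) {i j : ℕ} (h : i ≤ j) : F j ≤ F i := by
  induction h with
  | refl => exact le_rfl
  | step _ ih => exact (hF.anti _).trans ih

/-- truncated polynomial sequences: the first `m` differences lie in the right filtration terms -/
def IsPoly (F : ℕ → Subgroup K) : ℕ → ℕ → (ℕ → K) → Prop
  | 0, d, g => ∀ n, g n ∈ F d
  | (m + 1), d, g => (∀ n, g n ∈ F d) ∧ IsPoly F m (d + 1) (D g)

variable {F : ℕ → Subgroup K}

theorem IsPoly.mem {m d : ℕ} {g : ℕ → K} (h : IsPoly F m d g) : ∀ n, g n ∈ F d := by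
  cases m with
  | zero => exact h
  | succ m => exact h.1

theorem IsPoly.mono_d (hF : Filt F) : ∀ {m d d' : ℕ} {g : ℕ → K}, d' ≤ d → IsPoly F m d g →
    IsPoly F m d' g := by
  intro m
  induction m with
  | zero =>
    intro d d' g hd h n
    exact hF.le hd (h n)
  | succ m ih =>
    intro d d' g hd h
    exact ⟨fun n => hF.le hd (h.1 n), ih (Nat.succ_le_succ hd) h.2⟩

theorem IsPoly.mono_m : ∀ {m d : ℕ} {g : ℕ → K}, IsPoly F (m + 1) d g → IsPoly F m d g := by
  intro m
  induction m with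
  | zero =>
    intro d g h
    exact h.1
  | succ m ih =>
    intro d g h
    exact ⟨h.1, ih h.2⟩

theorem D_Sh (g : ℕ → K) : D (Sh g) = Sh (D g) := rfl

theorem IsPoly.shift : ∀ {m d : ℕ} {g : ℕ → K}, IsPoly F m d g → IsPoly F m d (Sh g) := by
  intro m
  induction m with
  | zero =>
    intro d g h n
    exact h (n + 1)
  | succ m ih =>
    intro d g h
    refine ⟨fun n => h.1 (n + 1), ?_⟩
    rw [D_Sh]
    exact ih h.2

theorem D_one : D (fun _ : ℕ => (1 : K)) = fun _ => 1 := by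
  funext n
  simp [D]

theorem IsPoly.one : ∀ (m d : ℕ), IsPoly F m d (fun _ => (1 : K)) := by
  intro m
  induction m with
  | zero =>
    intro d n
    exact (F d).one_mem
  | succ m ih =>
    intro d
    refine ⟨fun n => (F d).one_mem, ?_⟩
    rw [D_one]
    exact ih (d + 1)

theorem D_const (x : K) : D (fun _ : ℕ => x) = fun _ => 1 := by
  funext n
  simp [D]

theorem IsPoly.const (m d : ℕ) {x : K} (hx : x ∈ F d) : IsPoly F m d (fun _ => x) := by
  cases m with
  | zero => exact fun _ => hx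
  | succ m =>
    refine ⟨fun _ => hx, ?_⟩
    rw [D_const]
    exact IsPoly.one m (d + 1)

/-- the three closure properties, at truncation level `m` -/
def Closed (F : ℕ → Subgroup K) (m : ℕ) : Prop :=
  (∀ (d e : ℕ) (g h : ℕ → K), IsPoly F m d g → IsPoly F m e h →
      IsPoly F m (d + e) (fun n => ⁅g n, h n⁆)) ∧
  (∀ (d : ℕ) (g h : ℕ → K), IsPoly F m d g → IsPoly F m d h → IsPoly F m d (fun n => g n * h n)) ∧
  (∀ (d : ℕ) (g : ℕ → K), IsPoly F m d g → IsPoly F m d (fun n => (g n)⁻¹))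

theorem D_mul (g h : ℕ → K) :
    D (fun n => g n * h n) = fun n => ⁅Sh g n, D h n⁆ * D h n * D g n := by
  funext n
  simp only [D, Sh, commutatorElement_def]
  group

theorem D_inv (g : ℕ → K) :
    D (fun n => (g n)⁻¹) = fun n => ⁅(Sh g n)⁻¹, (D g n)⁻¹⁆ * (D g n)⁻¹ := by
  funext n
  simp only [D, Sh, commutatorElement_def]
  group

theorem D_comm (g h : ℕ → K) :
    D (fun n => ⁅g n, h n⁆) = fun n =>
      ⁅D g n, ⁅g n, Sh h n⁆⁆ * (⁅⁅g n, Sh h n⁆, ⁅D g n, Sh h n⁆⁆ * ⁅D g n, Sh h n⁆) *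
        ⁅g n, D h n⁆ * ⁅D h n, ⁅g n, h n⁆⁆ := by
  funext n
  simp only [D, Sh, commutatorElement_def]
  group


theorem closed_zero (hF : Filt F) : Closed F 0 := by
  refine ⟨?_, ?_, ?_⟩
  · intro d e g h hg hh n
    exact hF.comm d e (Subgroup.commutator_mem_commutator (hg n) (hh n))
  · intro d g h hg hh n
    exact (F d).mul_mem (hg n) (hh n)
  · intro d g hg n
    exact (F d).inv_mem (hg n)

theorem closed_succ (hF : Filt F) (m : ℕ) (ih : Closed F m) : Closed F (m + 1) := by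
  obtain ⟨ihc, ihm, ihi⟩ := ih
  have hmul : ∀ (d : ℕ) (g h : ℕ → K), IsPoly F (m + 1) d g → IsPoly F (m + 1) d h →
      IsPoly F (m + 1) d (fun n => g n * h n) := by
    intro d g h hg hh
    refine ⟨fun n => (F d).mul_mem (hg.1 n) (hh.1 n), ?_⟩
    rw [D_mul]
    have h1 : IsPoly F m (d + 1) (fun n => ⁅Sh g n, D h n⁆) :=
      IsPoly.mono_d hF (by omega) (ihc d (d + 1) (Sh g) (D h) (IsPoly.mono_m hg).shift hh.2)
    exact ihm _ _ _ (ihm _ _ _ h1 hh.2) hg.2
  have hinv : ∀ (d : ℕ) (g : ℕ → K), IsPoly F (m + 1) d g →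
      IsPoly F (m + 1) d (fun n => (g n)⁻¹) := by
    intro d g hg
    refine ⟨fun n => (F d).inv_mem (hg.1 n), ?_⟩
    rw [D_inv]
    have h1 : IsPoly F m d (fun n => (Sh g n)⁻¹) := ihi d (Sh g) (IsPoly.mono_m hg).shift
    have h2 : IsPoly F m (d + 1) (fun n => (D g n)⁻¹) := ihi (d + 1) (D g) hg.2
    have h3 : IsPoly F m (d + 1) (fun n => ⁅(Sh g n)⁻¹, (D g n)⁻¹⁆) :=
      IsPoly.mono_d hF (by omega) (ihc d (d + 1) _ _ h1 h2)
    exact ihm _ _ _ h3 h2
  refine ⟨?_, hmul, hinv⟩
  intro d e g h hg hh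
  refine ⟨fun n => hF.comm d e (Subgroup.commutator_mem_commutator (hg.1 n) (hh.1 n)), ?_⟩
  rw [D_comm]
  have hg' : IsPoly F m d g := IsPoly.mono_m hg
  have hh' : IsPoly F m e h := IsPoly.mono_m hh
  have hSh : IsPoly F m e (Sh h) := hh'.shift
  have hu : IsPoly F m (d + e) (fun n => ⁅g n, Sh h n⁆) := ihc d e g (Sh h) hg' hSh
  have hv : IsPoly F m (d + e + 1) (fun n => ⁅D g n, Sh h n⁆) := by
    have := ihc (d + 1) e (D g) (Sh h) hg.2 hSh
    exact IsPoly.mono_d hF (by omega) this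
  have hT1 : IsPoly F m (d + e + 1) (fun n => ⁅D g n, ⁅g n, Sh h n⁆⁆) :=
    IsPoly.mono_d hF (by omega) (ihc (d + 1) (d + e) (D g) _ hg.2 hu)
  have hT2a : IsPoly F m (d + e + 1) (fun n => ⁅⁅g n, Sh h n⁆, ⁅D g n, Sh h n⁆⁆) :=
    IsPoly.mono_d hF (by omega) (ihc (d + e) (d + e + 1) _ _ hu hv)
  have hT2 : IsPoly F m (d + e + 1)
      (fun n => ⁅⁅g n, Sh h n⁆, ⁅D g n, Sh h n⁆⁆ * ⁅D g n, Sh h n⁆) := ihm _ _ _ hT2a hv
  have hT3 : IsPoly F m (d + e + 1) (fun n => ⁅g n, D h n⁆) := ihc d (e + 1) g (D h) hg' hh.2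
  have hgh : IsPoly F m (d + e) (fun n => ⁅g n, h n⁆) := ihc d e g h hg' hh'
  have hT4 : IsPoly F m (d + e + 1) (fun n => ⁅D h n, ⁅g n, h n⁆⁆) :=
    IsPoly.mono_d hF (by omega) (ihc (e + 1) (d + e) (D h) _ hh.2 hgh)
  exact ihm _ _ _ (ihm _ _ _ (ihm _ _ _ hT1 hT2) hT3) hT4

theorem closed (hF : Filt F) : ∀ m, Closed F m := by
  intro m
  induction m with
  | zero => exact closed_zero hF
  | succ m ih => exact closed_succ hF m ih

/-- full polynomial sequences of shift `d` -/
def Poly (F : ℕ → Subgroup K) (d : ℕ) (g : ℕ → K) : Prop := ∀ m, IsPoly F m d g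

theorem Poly.mul (hF : Filt F) {d : ℕ} {g h : ℕ → K} (hg : Poly F d g) (hh : Poly F d h) :
    Poly F d (fun n => g n * h n) := fun m => (closed hF m).2.1 d g h (hg m) (hh m)

theorem Poly.inv (hF : Filt F) {d : ℕ} {g : ℕ → K} (hg : Poly F d g) :
    Poly F d (fun n => (g n)⁻¹) := fun m => (closed hF m).2.2 d g (hg m)

theorem Poly.D {d : ℕ} {g : ℕ → K} (hg : Poly F d g) : Poly F (d + 1) (D g) :=
  fun m => (hg (m + 1)).2

theorem Poly.mem {d : ℕ} {g : ℕ → K} (hg : Poly F d g) (n : ℕ) : g n ∈ F d := (hg 0) n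

/-- the sequence `n ↦ x ^ (n choose j)` -/
def ePow (x : K) (j : ℕ) : ℕ → K := fun n => x ^ (n.choose j)

theorem D_ePow_zero (x : K) : D (ePow x 0) = fun _ => 1 := by
  funext n
  simp [D, ePow]

theorem D_ePow_succ (x : K) (j : ℕ) : D (ePow x (j + 1)) = ePow x j := by
  funext n
  simp only [D, ePow]
  rw [Nat.choose_succ_succ, pow_add, mul_inv_cancel_right]

theorem isPoly_ePow (hF : Filt F) : ∀ (m d j : ℕ) {x : K}, x ∈ F (d + j) →
    IsPoly F m d (ePow x j) := by
  intro m
  induction m with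
  | zero =>
    intro d j x hx n
    exact hF.le (Nat.le_add_right d j) ((F (d + j)).pow_mem hx _)
  | succ m ih =>
    intro d j x hx
    refine ⟨fun n => hF.le (Nat.le_add_right d j) ((F (d + j)).pow_mem hx _), ?_⟩
    cases j with
    | zero =>
      rw [D_ePow_zero]
      exact IsPoly.one m (d + 1)
    | succ j =>
      rw [D_ePow_succ]
      apply ih
      have : d + 1 + j = d + (j + 1) := by omega
      rw [this]; exact hx

theorem poly_ePow (hF : Filt F) (d j : ℕ) {x : K} (hx : x ∈ F (d + j)) : Poly F d (ePow x j) :=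
  fun m => isPoly_ePow hF m d j hx

/-- a polynomial sequence vanishing at `0, …, j-1` takes values `j` steps further down -/
theorem vanish : ∀ (j d : ℕ) (r : ℕ → K), Poly F d r → (∀ i < j, r i = 1) →
    ∀ n, r n ∈ F (d + j) := by
  intro j
  induction j with
  | zero =>
    intro d r hr _ n
    exact hr.mem n
  | succ j ih =>
    intro d r hr hv n
    have hD : ∀ n, D r n ∈ F (d + 1 + j) := by
      apply ih (d + 1) (D r) hr.D
      intro i hi
      simp only [D]
      rw [hv (i + 1) (by omega), hv i (by omega), inv_one, mul_one]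
    have e : d + (j + 1) = d + 1 + j := by omega
    rw [e]
    induction n with
    | zero =>
      rw [hv 0 (by omega)]
      exact (F _).one_mem
    | succ n ihn =>
      have : r (n + 1) = D r n * r n := by simp [D]
      rw [this]
      exact (F _).mul_mem (hD n) ihn


/-- peeling off Taylor coefficients: the value at `q` of a polynomial sequence vanishing at
`0, …, j-1` is a product of `q`-th powers of elements of `F j₀`, as soon as `q` divides the
binomial coefficients `q.choose i` for `j ≤ i ≤ c`, where `F (c+1) = ⊥`. -/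
theorem peel (hF : Filt F) (c q j₀ : ℕ) (hc : F (c + 1) = ⊥) (U : Subgroup K)
    (hU : ∀ x ∈ F j₀, x ^ q ∈ U) :
    ∀ (k j : ℕ), j₀ ≤ j → c + 1 ≤ j + k → (∀ i, j ≤ i → i ≤ c → q ∣ q.choose i) →
      ∀ r : ℕ → K, Poly F 0 r → (∀ i < j, r i = 1) → r q ∈ U := by
  intro k
  induction k with
  | zero =>
    intro j _ hjk _ r hr hv
    have h1 : r q ∈ F (0 + j) := vanish j 0 r hr hv q
    have h2 : F (0 + j) ≤ F (c + 1) := hF.le (by omega)
    have h3 := h2 h1
    rw [hc, Subgroup.mem_bot] at h3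
    rw [h3]; exact U.one_mem
  | succ k ih =>
    intro j hj hjk hdvd r hr hv
    by_cases hjc : c + 1 ≤ j
    · have h1 : r q ∈ F (0 + j) := vanish j 0 r hr hv q
      have h2 : F (0 + j) ≤ F (c + 1) := hF.le (by omega)
      have h3 := h2 h1
      rw [hc, Subgroup.mem_bot] at h3
      rw [h3]; exact U.one_mem
    · push Not at hjc
      have hx : r j ∈ F (0 + j) := vanish j 0 r hr hv j
      set x := r j with hxdef
      have hxj : x ∈ F j := by simpa using hx
      have hr' : Poly F 0 (fun n => (ePow x j n)⁻¹ * r n) :=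
        Poly.mul hF (Poly.inv hF (poly_ePow hF 0 j hx)) hr
      have hv' : ∀ i < j + 1, (fun n => (ePow x j n)⁻¹ * r n) i = 1 := by
        intro i hi
        simp only [ePow]
        rcases Nat.lt_succ_iff_lt_or_eq.1 hi with h | h
        · rw [Nat.choose_eq_zero_of_lt h, pow_zero, inv_one, one_mul, hv i h]
        · rw [h, Nat.choose_self, pow_one, hxdef, inv_mul_cancel]
      have hrec := ih (j + 1) (by omega) (by omega) (fun i hi hic => hdvd i (by omega) hic)
        _ hr' hv'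
      simp only [ePow] at hrec
      obtain ⟨t, ht⟩ := hdvd j le_rfl (by omega)
      have hpow : x ^ q.choose j ∈ U := by
        rw [ht, mul_comm, pow_mul]
        exact hU _ (hF.le hj ((F j).pow_mem hxj t))
      have : r q = x ^ q.choose j * ((x ^ q.choose j)⁻¹ * r q) := by group
      rw [this]
      exact U.mul_mem hpow hrec

/-- the sequence `n ↦ a ^ n` is polynomial (of shift `0`) as soon as `a ∈ F 1` -/
theorem poly_pow (F : ℕ → Subgroup K) (a : K) (ha : a ∈ F 1) (h0 : F 0 = ⊤) :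
    Poly F 0 (fun n => a ^ n) := by
  intro m
  cases m with
  | zero =>
    intro n
    rw [h0]; trivial
  | succ m =>
    refine ⟨fun n => by rw [h0]; trivial, ?_⟩
    have : D (fun n => a ^ n) = fun _ => a := by
      funext n
      simp only [D]
      rw [pow_succ']
      group
    rw [this]
    exact IsPoly.const m 1 ha

/-- Hall–Petrescu type statement: `(ab)^q = a^q b^q w` with `w` a product of `q`-th powers of
elements of `F 2`, if `q ∣ q.choose i` for `2 ≤ i ≤ c` and `F (c+1) = ⊥`. -/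
theorem hall_petrescu_pow (hF : Filt F) (h0 : F 0 = ⊤) (h1 : F 1 = ⊤) (c q : ℕ)
    (hc : F (c + 1) = ⊥) (hdvd : ∀ i, 2 ≤ i → i ≤ c → q ∣ q.choose i) (a b : K) :
    ∃ w ∈ Subgroup.closure {y : K | ∃ x ∈ F 2, y = x ^ q},
      (a * b) ^ q = a ^ q * b ^ q * w := by
  set U := Subgroup.closure {y : K | ∃ x ∈ F 2, y = x ^ q} with hUdef
  have ha : Poly F 0 (fun n => a ^ n) := poly_pow F a (by rw [h1]; trivial) h0
  have hb : Poly F 0 (fun n => b ^ n) := poly_pow F b (by rw [h1]; trivial) h0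
  have hab : Poly F 0 (fun n => (a * b) ^ n) := poly_pow F (a * b) (by rw [h1]; trivial) h0
  have hr : Poly F 0 (fun n => (a ^ n * b ^ n)⁻¹ * (a * b) ^ n) :=
    Poly.mul hF (Poly.inv hF (Poly.mul hF ha hb)) hab
  have hv : ∀ i < 2, (fun n => (a ^ n * b ^ n)⁻¹ * (a * b) ^ n) i = 1 := by
    intro i hi
    interval_cases i
    · simp
    · simp
  have key := peel hF c q 2 hc U (fun x hx => Subgroup.subset_closure ⟨x, hx, rfl⟩) (c + 1) 2
    le_rfl (by omega) hdvd _ hr hv
  refine ⟨_, key, ?_⟩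
  group

end Cfsg.Agent.Lib.Helper20.PolySeq
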