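import Mathlib
import Cfsg.Agent.S0736

set_option autoImplicit false

/-!
# Livingstone–Wagner, piece P10: `k`-homogeneous with `2k ≤ n` implies `(k-1)`-transitive,
from the exceptions lemma S0745 and S0736.
-/

namespace Cfsg.Agent.Lib.Helper20.LWP10

open MulAction

universe u

/-- the statement of S0745 as a proposition -/
def S0745Prop : Prop :=
  ∀ (α : Type u) [Fintype α] [DecidableEq α] (G : Subgroup (Equiv.Perm α)) (k : ℕ),
    3 ≤ k → k ≤ Fintype.card α → IsMultiplyPretransitive G α (k - 2) →
    ¬ IsMultiplyPretransitive G α (k - 1) →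
    IsPretransitive G (Set.powersetCard α (k - 1)) →
    IsPretransitive G (Set.powersetCard α k) →
    (k = Fintype.card α ∧ G = alternatingGroup α) ∨
      (Fintype.card α = 5 ∧ k = 4 ∧ Nat.card G = 20) ∨
      (Fintype.card α = 6 ∧ k = 5 ∧ Nat.card G = 120) ∨
      (Fintype.card α = 9 ∧ k = 5 ∧ (Nat.card G = 504 ∨ Nat.card G = 1512))

variable {α : Type u} [Fintype α] [DecidableEq α]

/-- downward closure of homogeneity below `n / 2` -/
theorem homog_down (G : Subgroup (Equiv.Perm α)) {k : ℕ} (hkn : 2 * k ≤ Fintype.card α)
    (hh : IsPretransitive G (Set.powersetCard α k)) :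
    ∀ j : ℕ, 1 ≤ j → j ≤ k → IsPretransitive G (Set.powersetCard α j) := by
  intro j hj1 hjk
  obtain ⟨d, rfl⟩ : ∃ d, k = j + d := ⟨k - j, by omega⟩
  clear hjk
  induction d generalizing j with
  | zero => exact hh
  | succ d ih =>
    have h1 : IsPretransitive G (Set.powersetCard α (j + 1)) :=
      ih (j + 1) (by omega) (by omega) (by
        have : j + 1 + d = j + (d + 1) := by omega
        rw [this]; exact hh)
    have h2 := Cfsg.Agent.S0736.result G (k := j + 1) (by omega) h1 (by
      intro q _ hqd
      have hq : q ≤ j + 1 := Nat.le_of_dvd (by omega) hqd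
      omega)
    simpa using h2

/-- transitivity on singletons is transitivity -/
theorem pretransitive_of_one (G : Subgroup (Equiv.Perm α))
    (h : IsPretransitive G (Set.powersetCard α 1)) : IsPretransitive G α := by
  refine ⟨fun a b => ?_⟩
  obtain ⟨g, hg⟩ := h.exists_smul_eq (Set.powersetCard.mulActionHom_singleton G α a)
    (Set.powersetCard.mulActionHom_singleton G α b)
  refine ⟨g, ?_⟩
  apply (Set.powersetCard.mulActionHom_singleton_bijective G α).1
  rw [map_smul]
  exact hg

theorem s0746_of (h745 : S0745Prop.{u}) (G : Subgroup (Equiv.Perm α)) {k : ℕ} (hk : 2 ≤ k)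
    (hkn : 2 * k ≤ Fintype.card α) (hh : IsPretransitive G (Set.powersetCard α k)) :
    IsMultiplyPretransitive G α (k - 1) := by
  have hhom := homog_down G hkn hh
  have key : ∀ j : ℕ, 1 ≤ j → j ≤ k - 1 → IsMultiplyPretransitive G α j := by
    intro j hj1
    induction j, hj1 using Nat.le_induction with
    | base =>
      intro _
      haveI := pretransitive_of_one G (hhom 1 le_rfl (by omega))
      exact is_one_pretransitive_iff.mpr inferInstance
    | succ j hj1 ih =>
      intro hjk
      have hj := ih (by omega)
      by_contra hnot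
      have := h745 α G (j + 2) (by omega) (by omega) (by simpa using hj) (by simpa using hnot)
        (by simpa using hhom (j + 1) (by omega) (by omega)) (hhom (j + 2) (by omega) (by omega))
      omega
  exact key (k - 1) (by omega) le_rfl

end Cfsg.Agent.Lib.Helper20.LWP10
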