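import Mathlib
import Cfsg.Prelude.Def_OddOrderLocal
import Cfsg.Agent.Lib.Helper18.PRL.Defs
import Cfsg.Agent.Lib.Helper1.BurnsideBasis

/-!
# Project PRL (S5239), piece GENK: `|H : Φ(H)| ≤ p²` implies `H` is 2-generated
-/

set_option autoImplicit false

namespace Cfsg.Agent.Lib.Helper18.PRL

open scoped commutatorElement

/-- PRL-GENK -/
theorem two_gen_of_frattini {p : ℕ} [Fact p.Prime] {P : Type*} [Group P] [Finite P]
    (hP : IsPGroup p P) (H : Subgroup P) (hH : (frattini ↥H).index ≤ p ^ 2) :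
    ∃ T : Finset P, T.card ≤ 2 ∧ Subgroup.closure (T : Set P) = H := by
  classical
  have hp : p.Prime := Fact.out
  have hHp : IsPGroup p ↥H := hP.to_subgroup H
  obtain ⟨m, hm⟩ := hHp.exists_card_eq
  have hdvd : (frattini ↥H).index ∣ p ^ m := hm ▸ Subgroup.index_dvd_card (frattini ↥H)
  obtain ⟨n, -, hn⟩ := (Nat.dvd_prime_pow hp).mp hdvd
  have hn2 : n ≤ 2 := by
    rw [hn] at hH
    exact (Nat.pow_le_pow_iff_right hp.one_lt).mp hH
  haveI : Fintype ↥H := Fintype.ofFinite _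
  obtain ⟨T, -, hTc, hT⟩ := Cfsg.Agent.Lib.Helper1.burnside_basis_upper (G := ↥H) p n hHp hn
    _ (Finset.univ : Finset ↥H) rfl (by
      rw [Finset.coe_univ, Subgroup.closure_univ])
  refine ⟨T.image H.subtype, ?_, ?_⟩
  · exact (Finset.card_image_le).trans (hTc ▸ hn2)
  · rw [Finset.coe_image, ← MonoidHom.map_closure, hT, ← MonoidHom.range_eq_map, Subgroup.range_subtype]

end Cfsg.Agent.Lib.Helper18.PRL
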