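import Mathlib
import Cfsg.Prelude.Def_OddOrderLocal
import Cfsg.Agent.Lib.Helper18.PRL.Defs
import Cfsg.Agent.Lib.Helper1.Frat
import Cfsg.Agent.Lib.Helper20.PRLGENK

/-!
# Project PRL (S5239), piece SR1: `|C_P(s)| ≤ p²`, `s ∈ H` implies `H` is 2-generated
-/

set_option autoImplicit false

namespace Cfsg.Agent.Lib.Helper18.PRL

open scoped commutatorElement

/-- In a finite group `K`, `|K : K'| ≤ |C_K(t)|` for every `t`. -/
theorem h20_index_commutator_le_card_centralizer {K : Type*} [Group K] [Finite K] (t : K) :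
    (commutator K).index ≤ Nat.card (Subgroup.centralizer ({t} : Set K)) := by
  classical
  set C : Subgroup K := Subgroup.centralizer ({t} : Set K) with hC
  have hmemC : ∀ x : K, x ∈ C ↔ t * x = x * t := by
    intro x
    rw [hC, Subgroup.mem_centralizer_iff]
    constructor
    · intro h; exact h t rfl
    · rintro h y rfl; exact h
  -- injection `K ⧸ C → K'`
  let g : K ⧸ C → ↥(commutator K) := fun q =>
    ⟨⁅q.out, t⁆, Subgroup.commutator_mem_commutator (Subgroup.mem_top _) (Subgroup.mem_top _)⟩
  have hg : Function.Injective g := by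
    intro q1 q2 h12
    have h : ⁅q1.out, t⁆ = ⁅q2.out, t⁆ := congrArg Subtype.val h12
    rw [← QuotientGroup.out_eq' q1, ← QuotientGroup.out_eq' q2, QuotientGroup.eq, hmemC]
    rw [commutatorElement_def, commutatorElement_def] at h
    have h' : q1.out * t * q1.out⁻¹ = q2.out * t * q2.out⁻¹ := mul_right_cancel h
    calc t * (q1.out⁻¹ * q2.out) = q1.out⁻¹ * (q1.out * t * q1.out⁻¹) * q2.out := by group
      _ = q1.out⁻¹ * (q2.out * t * q2.out⁻¹) * q2.out := by rw [h']
      _ = q1.out⁻¹ * q2.out * t := by group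
  have h1 : C.index ≤ Nat.card ↥(commutator K) := by
    rw [Subgroup.index]
    exact Nat.card_le_card_of_injective g hg
  have h2 : C.index * Nat.card C = (commutator K).index * Nat.card ↥(commutator K) := by
    rw [Subgroup.index_mul_card, Subgroup.index_mul_card]
  have hpos : 0 < Nat.card ↥(commutator K) := Nat.card_pos
  have h3 : (commutator K).index * Nat.card ↥(commutator K)
      ≤ Nat.card C * Nat.card ↥(commutator K) := by
    rw [← h2, mul_comm]
    exact Nat.mul_le_mul_left _ h1
  exact Nat.le_of_mul_le_mul_right h3 hpos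

/-- PRL-SR1 -/
theorem two_gen_of_card_centralizer {p : ℕ} [Fact p.Prime] {P : Type*} [Group P] [Finite P]
    (hP : IsPGroup p P) (s : P) (hs : Nat.card (Subgroup.centralizer ({s} : Set P)) ≤ p ^ 2)
    (H : Subgroup P) (hsH : s ∈ H) :
    ∃ T : Finset P, T.card ≤ 2 ∧ Subgroup.closure (T : Set P) = H := by
  classical
  apply two_gen_of_frattini hP H
  have hHp : IsPGroup p ↥H := hP.to_subgroup H
  have h1 : commutator ↥H ≤ frattini ↥H := Cfsg.Agent.Lib.Helper1.pgroup_commutator_le_frattini hHp
  have h2 : (frattini ↥H).index ≤ (commutator ↥H).index :=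
    Nat.le_of_dvd (Nat.pos_of_ne_zero Subgroup.index_ne_zero_of_finite) (Subgroup.index_dvd_of_le h1)
  have h3 := h20_index_commutator_le_card_centralizer (⟨s, hsH⟩ : ↥H)
  have h4 : Nat.card (Subgroup.centralizer ({(⟨s, hsH⟩ : ↥H)} : Set ↥H))
      ≤ Nat.card (Subgroup.centralizer ({s} : Set P)) := by
    apply Nat.card_le_card_of_injective
      (fun x : Subgroup.centralizer ({(⟨s, hsH⟩ : ↥H)} : Set ↥H) =>
        (⟨(x : ↥H), by
          have hx := x.2
          rw [Subgroup.mem_centralizer_iff] at hx ⊢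
          rintro y rfl
          exact congrArg Subtype.val (hx ⟨y, hsH⟩ rfl)⟩ : Subgroup.centralizer ({s} : Set P)))
    intro x y hxy
    apply Subtype.ext
    apply Subtype.ext
    exact congrArg (fun z : Subgroup.centralizer ({s} : Set P) => (z : P)) hxy
  exact h2.trans (h3.trans (h4.trans hs))

end Cfsg.Agent.Lib.Helper18.PRL
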