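import Mathlib
import Cfsg.Agent.Lib.Helper11.O5040SETUP
import Cfsg.Agent.Lib.Helper13.BTPB3
import Cfsg.Agent.Lib.helper8.BTXDEG
import Cfsg.Agent.Lib.helper8.BTYDEG
import Cfsg.Agent.Lib.helper23.BRDIV
import Cfsg.Agent.Lib.helper23.BRCLS
import Cfsg.Agent.Lib.Helper21.BTFAITH
import Cfsg.Agent.Lib.Helper22.O4320SUM2P
import Cfsg.Agent.Lib.Helper22.O4320MOD4
import Cfsg.Agent.Lib.Helper10.BRINVOL
import Cfsg.Agent.Lib.Helper25.CharBound
import Cfsg.Agent.Lib.helper2.CharNat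

/-!
# S0978 (order 5040), the block cases `|C_G(P)| = 70` and `|C_G(P)| = 14` (`P` a Sylow 7-subgroup): common tools.
`o5040cy_yval`: the value at an involution `y ∈ C_G(P)` of a non-principal irreducible character which is constant `= a`
on the 7-singular elements.
-/

set_option autoImplicit false
set_option linter.unusedVariables false
set_option linter.unusedSectionVars false
set_option linter.style.haveILetI false

namespace Cfsg.Agent.Lib.Helper20.O5040C

open Classical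
open scoped ComplexConjugate
open Cfsg.Agent.Lib.helper7.BR Cfsg.Agent.Lib.Helper25 Cfsg.Agent.Lib.Helper29
open Cfsg.Agent.Lib.Helper13.BT Cfsg.Agent.Lib.helper2 Cfsg.Agent.Lib.Helper10.O4320
open Cfsg.Agent.Lib.Helper11.O5040E

universe u

variable {G : Type u} [Group G] [Fintype G]

/-- an involution in `C_G(P)` when `|C_G(P)|` is even -/
theorem o5040cy_invol (P : Sylow 7 G) (hC : 2 ∣ Nat.card ↥(cen P)) :
    ∃ y : G, orderOf y = 2 ∧ y ∈ cen P := by
  haveI : Fact (Nat.Prime 2) := ⟨Nat.prime_two⟩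
  obtain ⟨y, hy⟩ := exists_prime_orderOf_dvd_card' (G := ↥(cen P)) 2 hC
  exact ⟨(y : G), by rw [Subgroup.orderOf_coe]; exact hy, y.2⟩

/-- the value at an involution `y ∈ C_G(P)` of a non-principal irreducible character constant on the 7-singular elements -/
theorem o5040cy_yval [IsSimpleGroup G] (hperf : commutator G = ⊤) (P : Sylow 7 G)
    (hP : Nat.card ↥(P : Subgroup G) = 7) (y : G) (hy : orderOf y = 2) (hyc : y ∈ cen P)
    (χ : Cfsg.IrrCharacter G) (hχ : χ ≠ trivIrr G) (a : ℤ)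
    (hval : ∀ g : G, 7 ∣ orderOf g → (χ : G → ℂ) g = (a : ℂ)) :
    ∃ (k : ℤ) (m : ℕ), (χ : G → ℂ) y = (k : ℂ) ∧ (leoDeg χ : ℤ) + k + 12 * a = 14 * (m : ℤ) ∧
      (4 : ℤ) ∣ (leoDeg χ : ℤ) - k ∧ k ≤ (leoDeg χ : ℤ) ∧ -(leoDeg χ : ℤ) ≤ k ∧ k ≠ (leoDeg χ : ℤ) := by
  have hchar := isCharacter_of_irr χ
  have hy2 : y ^ 2 = 1 := by rw [← hy]; exact pow_orderOf_eq_one y
  have hyy : y * y = 1 := by rw [← pow_two]; exact hy2
  have hd := leoDeg_spec χ
  obtain ⟨k, hk, -⟩ := char_involution_int (χ : G → ℂ) hchar y hy2 (leoDeg χ) hd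
  obtain ⟨m, hm⟩ := sum_two_p (p := 7) (by norm_num) P hP y hy hyc (χ : G → ℂ) hchar a hval
  have h4 := mod_four hperf (χ : G → ℂ) hchar y hyy (leoDeg χ : ℤ) k (by rw [hd]; simp) hk
  refine ⟨k, m, hk, ?_, h4, ?_, ?_, ?_⟩
  · rw [hd, hk] at hm
    have : (((leoDeg χ : ℤ) + k + 12 * a : ℤ) : ℂ) = ((14 * (m : ℤ) : ℤ) : ℂ) := by
      push_cast
      rw [← sub_eq_zero] at hm ⊢
      rw [← hm]
      ring
    exact_mod_cast this
  · have h1 := irr_norm_le χ y
    rw [hd, hk] at h1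
    rw [Complex.norm_intCast, Complex.norm_natCast] at h1
    have h2 : |k| ≤ (leoDeg χ : ℤ) := by
      have : ((|k| : ℤ) : ℝ) ≤ ((leoDeg χ : ℤ) : ℝ) := by push_cast; exact h1
      exact_mod_cast this
    exact (abs_le.mp h2).2
  · have h1 := irr_norm_le χ y
    rw [hd, hk] at h1
    rw [Complex.norm_intCast, Complex.norm_natCast] at h1
    have h2 : |k| ≤ (leoDeg χ : ℤ) := by
      have : ((|k| : ℤ) : ℝ) ≤ ((leoDeg χ : ℤ) : ℝ) := by push_cast; exact h1
      exact_mod_cast this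
    exact (abs_le.mp h2).1
  · intro hkd
    have h1 : (χ : G → ℂ) y = (χ : G → ℂ) 1 := by
      rw [hk, hd, hkd]; simp
    have := faithful_of_simple χ hχ y h1
    rw [this, orderOf_one] at hy
    omega

end Cfsg.Agent.Lib.Helper20.O5040C
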