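import Mathlib
import Cfsg.Agent.Lib.Helper20.O5040CY

/-!
# S0978 (order 5040): the case `n_7 = 36`, `|N_G(P) : C_G(P)| = 2`, `|C_G(P)| = 70` is impossible.
Principal 7-block (`pb_values3`, `e = 2`): `X = {1, χ}`, three exceptional characters of degree `z`;
degrees divide `|G : C_G(P)| = 72` (`BRDIV`): `(χ(1), z) = (8, 9)`, `χ = 1` on the 7-singular elements.
`y` the involution of `C_G(P)`: `χ(y) ∈ {-6, 8}` (`sum_two_p`), `8` is impossible (`χ` faithful), `-6` too (`mod_four`).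
-/

set_option autoImplicit false
set_option linter.unusedVariables false
set_option linter.unusedSectionVars false
set_option linter.style.haveILetI false

namespace Cfsg.Agent.Lib.Helper20.O5040C

open Classical
open scoped ComplexConjugate
open Cfsg.Agent.Lib.helper7.BR Cfsg.Agent.Lib.Helper25 Cfsg.Agent.Lib.Helper29
open Cfsg.Agent.Lib.Helper13.BT Cfsg.Agent.Lib.helper2 Cfsg.Agent.Lib.Helper10.O4320
open Cfsg.Agent.Lib.Helper11.O5040E

universe u

variable {G : Type u} [Group G] [Fintype G]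

/-- arithmetic of the principal block for `e = 2`, degrees dividing 72 -/
theorem o5040c70_arith (D z : ℕ) (a ε : ℤ) (ha : a = 1 ∨ a = -1) (hε : ε = 1 ∨ ε = -1) (hD2 : 2 ≤ D)
    (hz1 : 1 ≤ z) (hDdvd : D ∣ 72) (hzdvd : z ∣ 72) (hDc : (7 : ℤ) ∣ (D : ℤ) - a)
    (hzc : (7 : ℤ) ∣ (z : ℤ) - ε * 2) (hrel : 1 + a * (D : ℤ) = ε * (z : ℤ)) : D = 8 ∧ a = 1 := by
  have hD72 : D ≤ 72 := Nat.le_of_dvd (by norm_num) hDdvd
  have hz72 : z ≤ 72 := Nat.le_of_dvd (by norm_num) hzdvd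
  rcases ha with rfl | rfl <;> rcases hε with rfl | rfl
  · have hz : z = D + 1 := by omega
    subst hz
    interval_cases D <;> omega
  · exfalso; omega
  · exfalso; omega
  · have hz : z + 1 = D := by omega
    subst hz
    exfalso
    interval_cases z <;> omega

/-- C70: the configuration `n_7 = 36`, `|C_G(P)| = 70` does not occur in a simple group of order 5040. -/
theorem o5040c70_false [IsSimpleGroup G] (hG : Nat.card G = 5040) (P : Sylow 7 G)
    (hidx : (nrm P).index = 36) (hq : (cen P).relIndex (nrm P) = 2)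
    (hC : Nat.card ↥(cen P) = 70) : False := by
  obtain ⟨hperf, -, -, hSyl⟩ := o5040e_setup hG
  have hP := (hSyl P).1
  obtain ⟨X, Y, a, ε, hB⟩ := pb_values3 P hP 2 hq (by norm_num) (by norm_num)
  obtain ⟨hd1, ha1, hge, hcong, hdvd⟩ := X_degrees hperf hP hB
  obtain ⟨z, hz1, hzY, hzc, hrel⟩ := Y_degrees hP hB
  -- the index of `cen P`
  have hci : (cen P).index = 72 := by
    have h1 := Subgroup.card_mul_index (cen P)
    rw [hC, hG] at h1
    omega
  -- `X = {1, χ}`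
  have hX1 : (X.erase (trivIrr G)).card = 1 := by
    rw [Finset.card_erase_of_mem hB.triv_mem, hB.cardX]
  obtain ⟨χ, hχ⟩ := Finset.card_eq_one.mp hX1
  have hχmem : χ ∈ X.erase (trivIrr G) := by rw [hχ]; exact Finset.mem_singleton_self χ
  have hχX : χ ∈ X := Finset.mem_of_mem_erase hχmem
  have hχne : χ ≠ trivIrr G := Finset.ne_of_mem_erase hχmem
  have hsum : ∑ ξ ∈ X, a ξ * (leoDeg ξ : ℤ) = 1 + a χ * (leoDeg χ : ℤ) := by
    rw [← Finset.add_sum_erase X _ hB.triv_mem, hχ, Finset.sum_singleton, ha1, hd1]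
    norm_num
  rw [hsum] at hrel
  -- a non-trivial element of `P`
  obtain ⟨x₀, hx₀, hx₀1⟩ := btxdeg_exists P hP
  have hx7 : 7 ∣ orderOf x₀ := by rw [btxdeg_orderOf P hP x₀ hx₀ hx₀1]
  have hDdvd : leoDeg χ ∣ 72 := by
    rw [← hci]
    exact deg_dvd_of_pm_one P hP χ (a χ) (hB.a_pm χ hχX) x₀ hx₀ hx₀1 (hB.valX χ hχX x₀ hx7) _
      (leoDeg_spec χ)
  have hzdvd : z ∣ 72 := by
    rw [← hci]
    exact exc_deg_dvd P hP Y z (fun η hη => by rw [leoDeg_spec η, hzY η hη]) ε hB.eps_pm x₀ hx₀ hx₀1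
      (hB.sumY x₀ hx7)
  obtain ⟨hD8, haχ⟩ := o5040c70_arith (leoDeg χ) z (a χ) ε (hB.a_pm χ hχX) hB.eps_pm
    (hge χ hχX hχne) hz1 hDdvd hzdvd (hcong χ hχX) (by exact_mod_cast hzc) hrel
  -- the involution of `cen P`
  obtain ⟨y, hy, hyc⟩ := o5040cy_invol P (by rw [hC]; norm_num)
  obtain ⟨k, m, hk, hkm, h4, hle, hge', hne⟩ := o5040cy_yval hperf P hP y hy hyc χ hχne (a χ)
    (fun g hg => hB.valX χ hχX g hg)
  rw [hD8, haχ] at hkm
  rw [hD8] at h4 hle hge' hne
  push_cast at hkm h4 hle hge' hne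
  omega

end Cfsg.Agent.Lib.Helper20.O5040C
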