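import Mathlib
import Cfsg.Agent.Lib.helper8.OCT.Defs

/-!
# Project OCT, piece CELL: calculus of cells (verbatim vs `OCT/Skel`)
-/

set_option autoImplicit false

namespace Cfsg.Agent.Lib.helper8.OCT

variable {G : Type*} [Group G] {B U : Subgroup G} {Uj : ℕ → Subgroup G} {n : ℕ → G}

/-- CELL -/
theorem cell_mul_left {k : ℕ} {x b : G} (hb : b ∈ B) (hx : x ∈ cell B n k) : b * x ∈ cell B n k := by
  obtain ⟨c, hc, c', hc', rfl⟩ := hx
  exact ⟨b * c, B.mul_mem hb hc, c', hc', by group⟩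

/-- CELL -/
theorem cell_mul_right {k : ℕ} {x b : G} (hb : b ∈ B) (hx : x ∈ cell B n k) : x * b ∈ cell B n k := by
  obtain ⟨c, hc, c', hc', rfl⟩ := hx
  exact ⟨c, hc, c' * b, B.mul_mem hc' hb, by group⟩

/-- CELL -/
theorem cell_zero (S : OctSys B U Uj n) : cell B n 0 = (B : Set G) := by
  ext x
  constructor
  · rintro ⟨c, hc, c', hc', rfl⟩
    rw [S.n0, mul_one]
    exact B.mul_mem hc hc'
  · intro hx
    exact ⟨x, hx, 1, B.one_mem, by rw [S.n0, mul_one, mul_one]⟩

/-- CELL -/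
theorem cell_inv (S : OctSys B U Uj n) {k : ℕ} (hk : k < 16) {x : G} (hx : x ∈ cell B n k) :
    x⁻¹ ∈ cell B n (oInv k) := by
  obtain ⟨c, hc, c', hc', rfl⟩ := hx
  have h := S.inv k hk
  have e : (c * n k * c')⁻¹ = c'⁻¹ * ((n k)⁻¹ * c⁻¹) := by group
  rw [e]
  exact cell_mul_left (B.inv_mem hc') (cell_mul_right (B.inv_mem hc) h)

/-- CELL : generator cell times cell -/
theorem gen_mul (S : OctSys B U Uj n) {j k : ℕ} (hj : j < 2) (hk : k < 16) {y x : G}
    (hy : y ∈ cell B n (j + 1)) (hx : x ∈ cell B n k) :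
    y * x ∈ cell B n (oMt j k) ∪ cell B n k := by
  obtain ⟨c, hc, c', hc', rfl⟩ := hy
  obtain ⟨d, hd, d', hd', rfl⟩ := hx
  have e : c * n (j + 1) * c' * (d * n k * d') = c * ((n (j + 1) * (c' * d) * n k) * d') := by group
  rw [e]
  rcases S.mul j hj k hk (c' * d) (B.mul_mem hc' hd) with h | h
  · exact Or.inl (cell_mul_left hc (cell_mul_right hd' h))
  · exact Or.inr (cell_mul_left hc (cell_mul_right hd' h))

/-- CELL : generator cell times cell, the longer case -/
theorem gen_mulL (S : OctSys B U Uj n) {j k : ℕ} (hj : j < 2) (hk : k < 16)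
    (hl : oLen (oMt j k) = oLen k + 1) {y x : G}
    (hy : y ∈ cell B n (j + 1)) (hx : x ∈ cell B n k) : y * x ∈ cell B n (oMt j k) := by
  obtain ⟨c, hc, c', hc', rfl⟩ := hy
  obtain ⟨d, hd, d', hd', rfl⟩ := hx
  have e : c * n (j + 1) * c' * (d * n k * d') = c * ((n (j + 1) * (c' * d) * n k) * d') := by group
  rw [e]
  exact cell_mul_left hc (cell_mul_right hd' (S.mulL j hj k hk hl (c' * d) (B.mul_mem hc' hd)))

theorem octcell_oInv_lt {k : ℕ} (hk : k < 16) : oInv k < 16 := by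
  interval_cases k <;> decide

theorem octcell_oMt_lt {j k : ℕ} (hj : j < 2) (hk : k < 16) : oMt j k < 16 := by
  interval_cases j <;> interval_cases k <;> decide

theorem octcell_oInv_gen {j : ℕ} (hj : j < 2) : oInv (j + 1) = j + 1 := by
  interval_cases j <;> decide

/-- CELL : cell times generator cell, the longer case (`oInv (oMt j (oInv k))` is `k s_j`) -/
theorem mul_genL (S : OctSys B U Uj n) {j k : ℕ} (hj : j < 2) (hk : k < 16)
    (hl : oLen (oMt j (oInv k)) = oLen (oInv k) + 1) {y x : G}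
    (hx : x ∈ cell B n k) (hy : y ∈ cell B n (j + 1)) :
    x * y ∈ cell B n (oInv (oMt j (oInv k))) := by
  have hy' : y⁻¹ ∈ cell B n (j + 1) := by
    have h := cell_inv S (by omega : j + 1 < 16) hy
    rwa [octcell_oInv_gen hj] at h
  have hx' : x⁻¹ ∈ cell B n (oInv k) := cell_inv S hk hx
  have h1 : y⁻¹ * x⁻¹ ∈ cell B n (oMt j (oInv k)) :=
    gen_mulL S hj (octcell_oInv_lt hk) hl hy' hx'
  have h2 := cell_inv S (octcell_oMt_lt hj (octcell_oInv_lt hk)) h1
  have e : (y⁻¹ * x⁻¹)⁻¹ = x * y := by group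
  rwa [e] at h2

end Cfsg.Agent.Lib.helper8.OCT
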