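import Mathlib
import Cfsg.Agent.Lib.helper8.OCT.Defs

/-!
# Project OCT, piece FIX: the set of fixed chambers (verbatim vs `OCT/Skel`)
-/

set_option autoImplicit false

namespace Cfsg.Agent.Lib.helper8.OCT

variable {G : Type*} [Group G] {B U : Subgroup G} {Uj : ℕ → Subgroup G} {n : ℕ → G}

/-- conjugating an element of `U` by the inverse of an element of `B` -/
theorem octfix_conj_inv (S : OctSys B U Uj n) {b u : G} (hb : b ∈ B) (hu : u ∈ U) :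
    b⁻¹ * u * b ∈ U := by
  have h := S.Unorm b⁻¹ (B.inv_mem hb) u hu
  rwa [inv_inv] at h

/-- FIX -/
theorem fixX_mul_right (S : OctSys B U Uj n) {a g b : G} (hg : g ∈ fixX U a) (hb : b ∈ B) :
    g * b ∈ fixX U a := by
  have h := octfix_conj_inv S hb hg
  show (g * b)⁻¹ * a * (g * b) ∈ U
  have e : (g * b)⁻¹ * a * (g * b) = b⁻¹ * (g⁻¹ * a * g) * b := by group
  rw [e]
  exact h

/-- the element `u = b⁻¹ (g⁻¹ a g) b` lies in `U` and its conjugate by `n k` is `b' (h⁻¹ a h) b'⁻¹ ∈ U` -/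
theorem octfix_key (S : OctSys B U Uj n) {a g h b b' : G} (hg : g ∈ fixX U a) (hh : h ∈ fixX U a)
    (hb : b ∈ B) (hb' : b' ∈ B) {k : ℕ} (e : g⁻¹ * h = b * n k * b') :
    b⁻¹ * (g⁻¹ * a * g) * b ∈ U ∧
      (n k)⁻¹ * (b⁻¹ * (g⁻¹ * a * g) * b) * n k ∈ U := by
  refine ⟨octfix_conj_inv S hb hg, ?_⟩
  have h1 : b' * (h⁻¹ * a * h) * b'⁻¹ ∈ U := S.Unorm b' hb' _ hh
  have e2 : h = g * b * n k * b' := by
    have : g * (g⁻¹ * h) = g * (b * n k * b') := by rw [e]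
    rw [mul_inv_cancel_left] at this
    rw [this]; group
  have e3 : (n k)⁻¹ * (b⁻¹ * (g⁻¹ * a * g) * b) * n k = b' * (h⁻¹ * a * h) * b'⁻¹ := by
    rw [e2]; group
  rw [e3]
  exact h1

/-- FIX : no two fixed chambers are opposite -/
theorem fixX_no_opp (S : OctSys B U Uj n) {a g h : G} (ha : a ≠ 1) (hg : g ∈ fixX U a)
    (hh : h ∈ fixX U a) : g⁻¹ * h ∉ cell B n 15 := by
  rintro ⟨b, hb, b', hb', e⟩
  obtain ⟨hu, hu'⟩ := octfix_key S hg hh hb hb' e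
  have h1 := S.opp _ hu hu'
  apply ha
  have h2 : g⁻¹ * a * g = 1 := by
    have : b * (b⁻¹ * (g⁻¹ * a * g) * b) * b⁻¹ = b * 1 * b⁻¹ := by rw [h1]
    have e4 : b * (b⁻¹ * (g⁻¹ * a * g) * b) * b⁻¹ = g⁻¹ * a * g := by group
    rw [e4] at this
    rw [this]; group
  have : g * (g⁻¹ * a * g) * g⁻¹ = g * 1 * g⁻¹ := by rw [h2]
  have e5 : g * (g⁻¹ * a * g) * g⁻¹ = a := by group
  rw [e5] at this
  rw [this]; group

theorem octfix_tables {k : ℕ} (hk : k < 16) (hk1 : 1 ≤ k) :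
    oFl k < 2 ∧ oPar k < 16 ∧ oMt (oFl k) (oPar k) = k ∧ oLen k = oLen (oPar k) + 1 := by
  interval_cases k <;> decide

/-- FIX : convexity and fullness of the first panel on the way from `g` to `h` -/
theorem fixX_panel (S : OctSys B U Uj n) {a g h b b' : G} (hg : g ∈ fixX U a) (hh : h ∈ fixX U a)
    (hb : b ∈ B) (hb' : b' ∈ B) {k : ℕ} (hk : k < 16) (hk1 : 1 ≤ k) (e : g⁻¹ * h = b * n k * b')
    {y : G} (hy : y ∈ cell B n 0 ∪ cell B n (oFl k + 1)) : g * b * y ∈ fixX U a := by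
  obtain ⟨hj, hk', hm, hl⟩ := octfix_tables hk hk1
  obtain ⟨hu, hu'⟩ := octfix_key S hg hh hb hb' e
  have hstep := S.step k hk hk1
  have hl' : oLen (oMt (oFl k) (oPar k)) = oLen (oPar k) + 1 := by rw [hm]; exact hl
  rw [hstep] at hu'
  have huj := S.pc (oFl k) hj (oPar k) hk' hl' _ hu hu'
  have hfin := S.Ujn (oFl k) hj y hy _ huj
  show (g * b * y)⁻¹ * a * (g * b * y) ∈ U
  have e6 : (g * b * y)⁻¹ * a * (g * b * y) = y⁻¹ * (b⁻¹ * (g⁻¹ * a * g) * b) * y := by group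
  rw [e6]
  exact hfin

end Cfsg.Agent.Lib.helper8.OCT
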