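import Mathlib
import Cfsg.Agent.Lib.helper7.BD.D1Defs3

/-!
# Project BD, stage B, wave 5, pieces CARDN and POSF (and the definition `sylowN`)
-/

set_option autoImplicit false
set_option linter.unusedVariables false
set_option linter.unusedSectionVars false
set_option linter.style.haveILetI false

namespace Cfsg.Agent.Lib.helper7.BD

open Cfsg.Agent.Lib.helper7

universe u

section transport

variable {G : Type u} [Group G] [Fintype G] {p : ℕ} [Fact p.Prime]

/-- the Sylow subgroup `P` as a Sylow subgroup of its normalizer -/
noncomputable def sylowN (P : Sylow p G) :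
    Sylow p ↥(Subgroup.normalizer ((P : Subgroup G) : Set G)) :=
  P.subtype Subgroup.le_normalizer

theorem bd5cardn_coe (P : Sylow p G) :
    (sylowN P : Subgroup ↥(Subgroup.normalizer ((P : Subgroup G) : Set G))) =
      (P : Subgroup G).subgroupOf (Subgroup.normalizer ((P : Subgroup G) : Set G)) := rfl

/-- CARDN -/
theorem card_sylowN (P : Sylow p G) : Nat.card (sylowN P) = Nat.card P := by
  show Nat.card ((P : Subgroup G).subgroupOf (Subgroup.normalizer ((P : Subgroup G) : Set G))) =
    Nat.card (P : Subgroup G)
  exact Nat.card_congr (Subgroup.subgroupOfEquivOfLe Subgroup.le_normalizer).toEquiv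

/-- POSF -/
theorem relIndex_centralizer_normalizer_pos (P : Sylow p G) :
    0 < (Subgroup.centralizer ((P : Subgroup G) : Set G)).relIndex
      (Subgroup.normalizer ((P : Subgroup G) : Set G)) := by
  apply Nat.pos_of_ne_zero
  rw [Subgroup.relIndex]
  exact Subgroup.index_ne_zero_of_finite

end transport

end Cfsg.Agent.Lib.helper7.BD
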