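import Mathlib
import Cfsg.Agent.Lib.helper7.BD.D1Defs3
import Cfsg.Agent.Lib.Helper24.ExtFirstMain2
import Cfsg.Agent.Lib.Helper20.BD5CARDN

/-!
# Project BD, stage B, wave 5, piece TRANSPORT : the right-hand side of the formula is the same for
`G` and for `N_G(P)`
-/

set_option autoImplicit false
set_option linter.unusedVariables false
set_option linter.unusedSectionVars false
set_option linter.style.haveILetI false

namespace Cfsg.Agent.Lib.helper7.BD

open Cfsg.Agent.Lib.helper7

universe u

section transport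

variable {G : Type u} [Group G] [Fintype G] {p : ℕ} [Fact p.Prime]

theorem bd5tr_mem_sylowN (P : Sylow p G) (y : ↥(Subgroup.normalizer ((P : Subgroup G) : Set G))) :
    y ∈ (sylowN P : Subgroup ↥(Subgroup.normalizer ((P : Subgroup G) : Set G))) ↔
      (y : G) ∈ (P : Subgroup G) := Iff.rfl

/-- the centralizer of `P` inside `N_G(P)` -/
theorem bd5tr_centralizer (P : Sylow p G) :
    Subgroup.centralizer ((sylowN P : Subgroup ↥(Subgroup.normalizer ((P : Subgroup G) : Set G))) :
        Set ↥(Subgroup.normalizer ((P : Subgroup G) : Set G))) =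
      (Subgroup.centralizer ((P : Subgroup G) : Set G)).subgroupOf
        (Subgroup.normalizer ((P : Subgroup G) : Set G)) := by
  ext x
  rw [Subgroup.mem_centralizer_iff, Subgroup.mem_subgroupOf, Subgroup.mem_centralizer_iff]
  constructor
  · intro h y hy
    have h1 := h ⟨y, Subgroup.le_normalizer hy⟩ ((bd5tr_mem_sylowN P _).mpr hy)
    exact congrArg Subtype.val h1
  · intro h y hy
    apply Subtype.ext
    exact h (y : G) ((bd5tr_mem_sylowN P y).mp hy)

/-- the normalizer of `P` inside `N_G(P)` -/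
theorem bd5tr_normalizer (P : Sylow p G) :
    Subgroup.normalizer ((sylowN P : Subgroup ↥(Subgroup.normalizer ((P : Subgroup G) : Set G))) :
        Set ↥(Subgroup.normalizer ((P : Subgroup G) : Set G))) = ⊤ := by
  haveI : ((P : Subgroup G).subgroupOf (Subgroup.normalizer ((P : Subgroup G) : Set G))).Normal :=
    Subgroup.normal_in_normalizer
  exact Subgroup.normalizer_eq_top
    (H := (P : Subgroup G).subgroupOf (Subgroup.normalizer ((P : Subgroup G) : Set G)))

/-- the identification of the two centralizers -/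
noncomputable def bd5tr_equiv (P : Sylow p G) :
    ↥(Subgroup.centralizer ((sylowN P : Subgroup ↥(Subgroup.normalizer ((P : Subgroup G) : Set G))) :
        Set ↥(Subgroup.normalizer ((P : Subgroup G) : Set G)))) ≃*
      ↥(Subgroup.centralizer ((P : Subgroup G) : Set G)) :=
  (MulEquiv.subgroupCongr (bd5tr_centralizer P)).trans
    (Subgroup.subgroupOfEquivOfLe (Subgroup.centralizer_le_normalizer _))

theorem bd5tr_equiv_coe (P : Sylow p G)
    (x : ↥(Subgroup.centralizer ((sylowN P : Subgroup ↥(Subgroup.normalizer ((P : Subgroup G) : Set G))) :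
        Set ↥(Subgroup.normalizer ((P : Subgroup G) : Set G))))) :
    ((bd5tr_equiv P x : ↥(Subgroup.centralizer ((P : Subgroup G) : Set G))) : G) =
      ((x : ↥(Subgroup.normalizer ((P : Subgroup G) : Set G))) : G) := rfl

theorem bd5tr_equiv_symm_coe (P : Sylow p G)
    (c : ↥(Subgroup.centralizer ((P : Subgroup G) : Set G))) :
    ((((bd5tr_equiv P).symm c :
      ↥(Subgroup.centralizer ((sylowN P : Subgroup ↥(Subgroup.normalizer ((P : Subgroup G) : Set G))) :
        Set ↥(Subgroup.normalizer ((P : Subgroup G) : Set G))))) :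
        ↥(Subgroup.normalizer ((P : Subgroup G) : Set G))) : G) = (c : G) := by
  rw [← bd5tr_equiv_coe, MulEquiv.apply_symm_apply]

/-- the canonical characters correspond -/
theorem bd5tr_bijOn (P : Sylow p G) :
    Set.BijOn (fun θ => Cfsg.Agent.Lib.Helper24.ef_tr (bd5tr_equiv P) θ)
      (canonSet P) (canonSet (sylowN P)) := by
  refine ⟨?_, ?_, ?_⟩
  · intro θ hθ x hx
    show (θ : _ → ℂ) (bd5tr_equiv P x) = (θ : _ → ℂ) (bd5tr_equiv P 1)
    rw [map_one]
    apply hθ
    rw [bd5tr_equiv_coe]
    exact (bd5tr_mem_sylowN P _).mp hx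
  · intro θ _ θ' _ h
    apply Subtype.ext
    funext c
    have h1 := congrArg (fun ψ : Cfsg.IrrCharacter _ => (ψ : _ → ℂ) ((bd5tr_equiv P).symm c)) h
    simp only [Cfsg.Agent.Lib.Helper24.ef_tr_apply, MulEquiv.apply_symm_apply] at h1
    exact h1
  · intro θ' hθ'
    refine ⟨Cfsg.Agent.Lib.Helper24.ef_tr (bd5tr_equiv P).symm θ', ?_, ?_⟩
    · intro c hc
      show (θ' : _ → ℂ) ((bd5tr_equiv P).symm c) = (θ' : _ → ℂ) ((bd5tr_equiv P).symm 1)
      rw [map_one]
      apply hθ'
      rw [bd5tr_mem_sylowN, bd5tr_equiv_symm_coe]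
      exact hc
    · apply Subtype.ext
      funext x
      show (θ' : _ → ℂ) ((bd5tr_equiv P).symm (bd5tr_equiv P x)) = (θ' : _ → ℂ) x
      rw [MulEquiv.symm_apply_apply]

/-- the stabilizers correspond -/
theorem bd5tr_stabT (P : Sylow p G)
    (θ : Cfsg.IrrCharacter (Subgroup.centralizer ((P : Subgroup G) : Set G))) :
    stabT (sylowN P) (Cfsg.Agent.Lib.Helper24.ef_tr (bd5tr_equiv P) θ) =
      (stabT P θ).subgroupOf (Subgroup.normalizer ((P : Subgroup G) : Set G)) := by
  ext g
  rw [mem_stabT, Subgroup.mem_subgroupOf, mem_stabT]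
  constructor
  · rintro ⟨-, h⟩
    refine ⟨g.2, fun c c' hcc' => ?_⟩
    have h1 := h ((bd5tr_equiv P).symm c) ((bd5tr_equiv P).symm c') (by
      apply Subtype.ext
      rw [bd5tr_equiv_symm_coe, hcc']
      show (g : G) * (c : G) * (g : G)⁻¹ = (g : G) * _ * (g : G)⁻¹
      rw [bd5tr_equiv_symm_coe])
    simp only [Cfsg.Agent.Lib.Helper24.ef_tr_apply, MulEquiv.apply_symm_apply] at h1
    exact h1
  · rintro ⟨-, h⟩
    refine ⟨by rw [bd5tr_normalizer]; exact Subgroup.mem_top g, fun d d' hdd' => ?_⟩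
    show (θ : _ → ℂ) (bd5tr_equiv P d') = (θ : _ → ℂ) (bd5tr_equiv P d)
    apply h
    rw [bd5tr_equiv_coe, bd5tr_equiv_coe, hdd']
    rfl

theorem bd5tr_relIndex (P : Sylow p G)
    (θ : Cfsg.IrrCharacter (Subgroup.centralizer ((P : Subgroup G) : Set G))) :
    (Subgroup.centralizer ((sylowN P : Subgroup ↥(Subgroup.normalizer ((P : Subgroup G) : Set G))) :
        Set ↥(Subgroup.normalizer ((P : Subgroup G) : Set G)))).relIndex
      (stabT (sylowN P) (Cfsg.Agent.Lib.Helper24.ef_tr (bd5tr_equiv P) θ)) =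
    (Subgroup.centralizer ((P : Subgroup G) : Set G)).relIndex (stabT P θ) := by
  rw [bd5tr_stabT, bd5tr_centralizer]
  exact Subgroup.relIndex_subgroupOf (fun g hg => ((mem_stabT P θ g).mp hg).1)

/-- TRANSPORT : the right-hand side of the formula is the same for `G` and for `N_G(P)` -/
theorem formula_transport (P : Sylow p G) (hP : Nat.card P = p) :
    (Subgroup.centralizer ((sylowN P : Subgroup ↥(Subgroup.normalizer ((P : Subgroup G) : Set G))) :
        Set ↥(Subgroup.normalizer ((P : Subgroup G) : Set G)))).relIndex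
      (Subgroup.normalizer ((sylowN P : Subgroup ↥(Subgroup.normalizer ((P : Subgroup G) : Set G))) :
        Set ↥(Subgroup.normalizer ((P : Subgroup G) : Set G)))) =
      (Subgroup.centralizer ((P : Subgroup G) : Set G)).relIndex
        (Subgroup.normalizer ((P : Subgroup G) : Set G)) ∧
    ∑ᶠ θ ∈ canonSet (sylowN P),
      ((Subgroup.centralizer ((sylowN P : Subgroup ↥(Subgroup.normalizer ((P : Subgroup G) : Set G))) :
        Set ↥(Subgroup.normalizer ((P : Subgroup G) : Set G)))).relIndex (stabT (sylowN P) θ) ^ 2 +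
          (p - 1)) =
    ∑ᶠ θ ∈ canonSet P,
      ((Subgroup.centralizer ((P : Subgroup G) : Set G)).relIndex (stabT P θ) ^ 2 + (p - 1)) := by
  refine ⟨?_, ?_⟩
  · rw [bd5tr_normalizer, Subgroup.relIndex_top_right, bd5tr_centralizer]
    rfl
  · refine (finsum_mem_eq_of_bijOn _ (bd5tr_bijOn P) (fun θ _ => ?_)).symm
    show _ = (Subgroup.centralizer ((sylowN P : Subgroup ↥(Subgroup.normalizer ((P : Subgroup G) : Set G))) :
        Set ↥(Subgroup.normalizer ((P : Subgroup G) : Set G)))).relIndex
      (stabT (sylowN P) (Cfsg.Agent.Lib.Helper24.ef_tr (bd5tr_equiv P) θ)) ^ 2 + (p - 1)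
    rw [bd5tr_relIndex]

end transport

end Cfsg.Agent.Lib.helper7.BD
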