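import Mathlib
import Cfsg.Agent.Lib.Helper10.PGM.Defs
import Cfsg.Agent.Lib.Helper10.PGMNat0

/-!
# Project PGM (helper10, S2263), row AC2b (`ac_two_b`): two orbits, the one of larger multiplicity `m₁ ≥ 2` has size `l₁ ≥ 2`.
-/

set_option autoImplicit false

namespace Cfsg.Agent.Lib.Helper10.PGM

open Matrix Cfsg.Agent.Lib.helper15.UNat

/-- `q^(d-2) + q^(d-3) ≤ q^(d-1) - 1` -/
theorem pgmac2b_final (q d : ℕ) (hq2 : 2 ≤ q) (hd : 3 ≤ d) :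
    q ^ (d - 2) + q ^ (d - 3) ≤ q ^ (d - 1) - 1 := by
  obtain ⟨e, rfl⟩ : ∃ e, d = e + 3 := ⟨d - 3, by omega⟩
  have hA : 1 ≤ q ^ e := Nat.one_le_pow _ _ (by omega)
  have h1 : q ^ (e + 3 - 2) = q ^ e * q := by
    have : e + 3 - 2 = e + 1 := by omega
    rw [this, pow_succ]
  have h2 : q ^ (e + 3 - 1) = q ^ e * q * q := by
    have : e + 3 - 1 = e + 1 + 1 := by omega
    rw [this, pow_succ, pow_succ]
  have h3 : e + 3 - 3 = e := by omega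
  rw [h1, h2, h3]
  have h4 : q ^ e * q * 2 ≤ q ^ e * q * q := Nat.mul_le_mul_left _ hq2
  have h5 : q ^ e * 2 ≤ q ^ e * q := Nat.mul_le_mul_left _ hq2
  omega

/-- the lcm bound: `lcm (Qn q a) (Qn q b) ≤ q^(a-1) * (q^b + 1)` -/
theorem pgmac2b_lcm (q a b : ℕ) (hq : 2 ≤ q) (ha : 1 ≤ a) :
    Nat.lcm (Qn q a) (Qn q b) ≤ q ^ (a - 1) * (q ^ b + 1) := by
  have h1 := lcm_Qn_le q a b hq
  have h2 := t_mul q a (by omega)
  have h3 := t_le q a (by omega) ha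
  have h4 := Qn_le q b
  have h5 : Nat.lcm (Qn q a) (Qn q b) * (q + 1) ≤ (Qn q a / (q + 1) * Qn q b) * (q + 1) := by
    calc Nat.lcm (Qn q a) (Qn q b) * (q + 1) ≤ Qn q a * Qn q b := h1
      _ = (Qn q a / (q + 1) * (q + 1)) * Qn q b := by rw [h2]
      _ = (Qn q a / (q + 1) * Qn q b) * (q + 1) := by ring
  have h6 := Nat.le_of_mul_le_mul_right h5 (by omega : 0 < q + 1)
  exact le_trans h6 (Nat.mul_le_mul h3 h4)

/-- AC2b : two orbits, the one of larger multiplicity `m₁ ≥ 2` has size `l₁ ≥ 2` -/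
theorem ac_two_b (p f d : ℕ) (hp : p.Prime) (hf : 1 ≤ f) (hd : 3 ≤ d)
    (l₁ m₁ l₂ m₂ : ℕ) (h1 : 2 ≤ l₁) (h2 : 2 ≤ m₁) (h3 : 1 ≤ l₂) (h4 : 1 ≤ m₂) (hm : m₂ ≤ m₁)
    (hsum : l₁ * m₁ + l₂ * m₂ = d) :
    p ^ Nat.clog p m₁ * Nat.lcm (Qn (p ^ f) l₁) (Qn (p ^ f) l₂) ≤ Mx p f d := by
  have hp2 : 2 ≤ p := hp.two_le
  have hpq : p ≤ p ^ f := by
    calc p = p ^ 1 := (pow_one p).symm
      _ ≤ p ^ f := Nat.pow_le_pow_right (by omega) hf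
  have hq2 : 2 ≤ p ^ f := le_trans hp2 hpq
  have hMx := Mx_ge p f d hp2 hf hd
  obtain ⟨a, rfl⟩ : ∃ a, m₁ = a + 1 := ⟨m₁ - 1, by omega⟩
  obtain ⟨b, rfl⟩ : ∃ b, l₁ = b + 1 := ⟨l₁ - 1, by omega⟩
  have ha : 1 ≤ a := by omega
  have hb : 1 ≤ b := by omega
  -- exponents
  have hab : 1 ≤ a * b := Nat.mul_pos ha hb
  have hlm : (b + 1) * (a + 1) = a * b + a + b + 1 := by ring
  have hl2 : l₂ ≤ l₂ * m₂ := Nat.le_mul_of_pos_right _ (by omega)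
  have hE1 : a + b + l₂ ≤ d - 2 := by omega
  have hE2 : a + b ≤ d - 3 := by omega
  -- the bounds
  have hc : p ^ Nat.clog p (a + 1) ≤ (p ^ f) ^ a := by
    have h := pclog_le_pow p (a + 1) hp2 (by omega)
    rw [Nat.add_sub_cancel] at h
    exact le_trans h (Nat.pow_le_pow_left hpq a)
  have hl := pgmac2b_lcm (p ^ f) (b + 1) l₂ hq2 (by omega)
  rw [Nat.add_sub_cancel] at hl
  have hq1 : 1 ≤ p ^ f := by omega
  calc p ^ Nat.clog p (a + 1) * Nat.lcm (Qn (p ^ f) (b + 1)) (Qn (p ^ f) l₂)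
      ≤ (p ^ f) ^ a * ((p ^ f) ^ b * ((p ^ f) ^ l₂ + 1)) := Nat.mul_le_mul hc hl
    _ = (p ^ f) ^ (a + b + l₂) + (p ^ f) ^ (a + b) := by
        rw [pow_add, pow_add]; ring
    _ ≤ (p ^ f) ^ (d - 2) + (p ^ f) ^ (d - 3) :=
        Nat.add_le_add (Nat.pow_le_pow_right hq1 hE1) (Nat.pow_le_pow_right hq1 hE2)
    _ ≤ (p ^ f) ^ (d - 1) - 1 := pgmac2b_final (p ^ f) d hq2 hd
    _ ≤ Mx p f d := hMx

end Cfsg.Agent.Lib.Helper10.PGM
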