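import Mathlib
import Cfsg.Agent.Lib.Helper10.PGM.Defs
import Cfsg.Agent.Lib.Helper10.PGMNat0

/-!
# Project PGM (helper10, S2263), row AC2c (`ac_two_c`): two orbits, `(l₁, m₁) = (1, 2)`.
-/

set_option autoImplicit false

namespace Cfsg.Agent.Lib.Helper10.PGM

open Matrix Cfsg.Agent.Lib.helper15.UNat

/-- `p (q^L + 1) ≤ q^(d-1) - 1` for `L ≤ d - 3` -/
theorem pgmac2c_small (p q d L : ℕ) (hq2 : 2 ≤ q) (hpq : p ≤ q) (hL : L + 3 ≤ d) (hd : 4 ≤ d) :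
    p * (q ^ L + 1) ≤ q ^ (d - 1) - 1 := by
  obtain ⟨e, rfl⟩ : ∃ e, d = e + 3 := ⟨d - 3, by omega⟩
  have he : 1 ≤ e := by omega
  have hLe : L ≤ e := by omega
  have hA : q ≤ q ^ e := by
    calc q = q ^ 1 := (pow_one q).symm
      _ ≤ q ^ e := Nat.pow_le_pow_right (by omega) he
  have hLA : q ^ L ≤ q ^ e := Nat.pow_le_pow_right (by omega) hLe
  have h1 : p * (q ^ L + 1) ≤ q * (q ^ e + 1) := Nat.mul_le_mul hpq (by omega)
  have h2 : q ^ (e + 3 - 1) = q ^ e * q * q := by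
    have : e + 3 - 1 = e + 1 + 1 := by omega
    rw [this, pow_succ, pow_succ]
  rw [h2]
  have h3 : q ^ e * q * 2 ≤ q ^ e * q * q := Nat.mul_le_mul_left _ hq2
  have h4 : q * q ≤ q ^ e * q := Nat.mul_le_mul_right q hA
  have h5 : 2 * q ≤ q * q := Nat.mul_le_mul_right q hq2
  have h6 : q * (q ^ e + 1) = q ^ e * q + q := by ring
  omega

/-- the odd case with `f ≥ 2` -/
theorem pgmac2c_odd (p q d : ℕ) (hp2 : 2 ≤ p) (hpq : 2 * p ≤ q) (hd : 3 ≤ d) :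
    p * (q ^ (d - 2) + 1) ≤ q ^ (d - 1) - 1 := by
  obtain ⟨e, rfl⟩ : ∃ e, d = e + 3 := ⟨d - 3, by omega⟩
  have hq2 : 2 ≤ q := by omega
  have hB : q ≤ q ^ (e + 3 - 2) := by
    calc q = q ^ 1 := (pow_one q).symm
      _ ≤ q ^ (e + 3 - 2) := Nat.pow_le_pow_right (by omega) (by omega)
  have h2 : q ^ (e + 3 - 1) = q ^ (e + 3 - 2) * q := by
    have : e + 3 - 1 = (e + 3 - 2) + 1 := by omega
    rw [this, pow_succ]
  rw [h2]
  have h3 : q ^ (e + 3 - 2) * (2 * p) ≤ q ^ (e + 3 - 2) * q := Nat.mul_le_mul_left _ hpq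
  have h4 : q * p ≤ q ^ (e + 3 - 2) * p := Nat.mul_le_mul_right p hB
  have h5 : 2 * p ≤ q * p := Nat.mul_le_mul_right p hq2
  have h6 : p * (q ^ (e + 3 - 2) + 1) = q ^ (e + 3 - 2) * p + p := by ring
  have h7 : q ^ (e + 3 - 2) * (2 * p) = q ^ (e + 3 - 2) * p + q ^ (e + 3 - 2) * p := by ring
  omega

/-- the even case -/
theorem pgmac2c_even (p q d : ℕ) (hq2 : 2 ≤ q) (hpq : p ≤ q) (hd : 3 ≤ d) :
    p * (q ^ (d - 2) - 1) ≤ q ^ (d - 1) - 1 := by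
  have h2 : q ^ (d - 1) = q * q ^ (d - 2) := by
    have : d - 1 = (d - 2) + 1 := by omega
    rw [this, pow_succ, mul_comm]
  rw [h2]
  have h1 : p * (q ^ (d - 2) - 1) ≤ q * (q ^ (d - 2) - 1) := Nat.mul_le_mul_right _ hpq
  have h3 : q * (q ^ (d - 2) - 1) = q * q ^ (d - 2) - q := by
    rw [Nat.mul_sub, mul_one]
  omega

/-- AC2c : two orbits, `(l₁, m₁) = (1, 2)` (tight for `d` odd, `q = p`) -/
theorem ac_two_c (p f d : ℕ) (hp : p.Prime) (hf : 1 ≤ f) (hd : 3 ≤ d)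
    (l₂ m₂ : ℕ) (h3 : 1 ≤ l₂) (h4 : 1 ≤ m₂) (hm : m₂ ≤ 2)
    (hsum : 1 * 2 + l₂ * m₂ = d) :
    p ^ Nat.clog p 2 * Nat.lcm (Qn (p ^ f) 1) (Qn (p ^ f) l₂) ≤ Mx p f d := by
  have hp2 : 2 ≤ p := hp.two_le
  have hpq : p ≤ p ^ f := by
    calc p = p ^ 1 := (pow_one p).symm
      _ ≤ p ^ f := Nat.pow_le_pow_right (by omega) hf
  have hq2 : 2 ≤ p ^ f := le_trans hp2 hpq
  have hclog : p ^ Nat.clog p 2 = p := by
    rw [Nat.clog_eq_one le_rfl hp2, pow_one]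
  have hlcm : Nat.lcm (Qn (p ^ f) 1) (Qn (p ^ f) l₂) = Qn (p ^ f) l₂ := by
    have h1 : Qn (p ^ f) 1 = p ^ f + 1 := by
      unfold Qn
      rw [if_neg (by decide), pow_one]
    rw [h1]
    exact Nat.lcm_eq_right (succ_dvd_Qn (p ^ f) l₂ (by omega))
  rw [hclog, hlcm]
  have hMx := Mx_ge p f d hp2 hf hd
  have hm2 : m₂ = 1 ∨ m₂ = 2 := by omega
  rcases hm2 with rfl | rfl
  · -- `l₂ = d - 2`
    have hl : l₂ = d - 2 := by omega
    subst hl
    rcases Nat.even_or_odd d with hev | hodd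
    · have hev2 : Even (d - 2) := by
        obtain ⟨k, hk⟩ := hev
        exact ⟨k - 1, by omega⟩
      have hQ : Qn (p ^ f) (d - 2) = (p ^ f) ^ (d - 2) - 1 := by
        unfold Qn
        rw [if_pos hev2]
      rw [hQ]
      exact le_trans (pgmac2c_even p (p ^ f) d hq2 hpq hd) hMx
    · have hodd2 : ¬ Even (d - 2) := by
        rw [Nat.not_even_iff_odd]
        obtain ⟨k, hk⟩ := hodd
        exact ⟨k - 1, by omega⟩
      have hQ : Qn (p ^ f) (d - 2) = (p ^ f) ^ (d - 2) + 1 := by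
        unfold Qn
        rw [if_neg hodd2]
      rw [hQ]
      by_cases hf2 : 2 ≤ f
      · have h2p : 2 * p ≤ p ^ f := by
          calc 2 * p ≤ p * p := Nat.mul_le_mul_right p hp2
            _ = p ^ 2 := (sq p).symm
            _ ≤ p ^ f := Nat.pow_le_pow_right (by omega) hf2
        exact le_trans (pgmac2c_odd p (p ^ f) d hp2 h2p hd) hMx
      · have hf1 : f = 1 := by omega
        subst hf1
        unfold Mx
        rw [if_pos hodd, if_neg (by omega), pow_one, mul_comm]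
  · -- `l₂ ≤ d - 3`
    have hl : l₂ + 3 ≤ d := by omega
    have hd4 : 4 ≤ d := by omega
    have hQ := Qn_le (p ^ f) l₂
    calc p * Qn (p ^ f) l₂ ≤ p * ((p ^ f) ^ l₂ + 1) := Nat.mul_le_mul_left _ hQ
      _ ≤ (p ^ f) ^ (d - 1) - 1 := pgmac2c_small p (p ^ f) d l₂ hq2 hpq hl hd4
      _ ≤ Mx p f d := hMx

end Cfsg.Agent.Lib.Helper10.PGM
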