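import Mathlib
import Cfsg.Prelude.Def_Characters
import Cfsg.Agent.Lib.helper7.Induction

/-!
# Project PSB, piece IND: power invariance passes to the induced function (verbatim vs `PSB/Skel`)
-/

set_option autoImplicit false

namespace Cfsg.Agent.Lib.Helper10.PSB

open Cfsg.Agent.Lib.helper7

/-- if `y ^ k = 1` and `m` is prime to `k`, then `y` is a power of `y ^ m` -/
theorem psbind_mem_zpowers {L : Type*} [Group L] (y : L) (k m : ℕ) (hy : y ^ k = 1)
    (hm : m.Coprime k) : ∃ a : ℤ, (y ^ m) ^ a = y := by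
  have hc : IsCoprime (m : ℤ) (k : ℤ) := Nat.isCoprime_iff_coprime.mpr hm
  obtain ⟨a, b, hab⟩ := hc
  refine ⟨a, ?_⟩
  have h1 : y ^ (a * (m : ℤ) + b * (k : ℤ)) = y := by rw [hab, zpow_one]
  rw [zpow_add, mul_comm a, mul_comm b, zpow_mul, zpow_mul, zpow_natCast, zpow_natCast, hy,
    one_zpow, mul_one] at h1
  exact h1

/-- termwise statement -/
theorem psbind_term {L : Type*} [Group L] (T : Subgroup L) (φ : T → ℂ) (k : ℕ)
    (hφ : ∀ (x : T) (m : ℕ), (x : L) ^ k = 1 → m.Coprime k → φ (x ^ m) = φ x)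
    (y : L) (hy : y ^ k = 1) (m : ℕ) (hm : m.Coprime k) :
    Cfsg.extendByZero T φ (y ^ m) = Cfsg.extendByZero T φ y := by
  by_cases hyT : y ∈ T
  · rw [h7_extendByZero_mem T φ y hyT, h7_extendByZero_mem T φ (y ^ m) (T.pow_mem hyT m)]
    have := hφ ⟨y, hyT⟩ m hy hm
    rw [← this]
    rfl
  · have hymT : y ^ m ∉ T := by
      intro h
      obtain ⟨a, ha⟩ := psbind_mem_zpowers y k m hy hm
      apply hyT
      rw [← ha]
      exact T.zpow_mem h a
    rw [h7_extendByZero_not_mem T φ y hyT, h7_extendByZero_not_mem T φ (y ^ m) hymT]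

-- piece IND  (power-invariance passes to the induced function; termwise in the defining sum)
theorem ind_pow_inv {L : Type*} [Group L] [Fintype L] (T : Subgroup L) (φ : T → ℂ) (k : ℕ)
    (hφ : ∀ (x : T) (m : ℕ), (x : L) ^ k = 1 → m.Coprime k → φ (x ^ m) = φ x)
    (x : L) (hx : x ^ k = 1) (m : ℕ) (hm : m.Coprime k) :
    Cfsg.indFun T φ (x ^ m) = Cfsg.indFun T φ x := by
  unfold Cfsg.indFun
  congr 1
  apply Finset.sum_congr rfl
  intro g _
  have e : g⁻¹ * x ^ m * g = (g⁻¹ * x * g) ^ m := by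
    have : g⁻¹ * x * g = MulAut.conj g⁻¹ x := by simp [MulAut.conj_apply]
    have h2 : g⁻¹ * x ^ m * g = MulAut.conj g⁻¹ (x ^ m) := by simp [MulAut.conj_apply]
    rw [this, h2, map_pow]
  rw [e]
  apply psbind_term T φ k hφ _ _ m hm
  have h3 : (g⁻¹ * x * g) ^ k = g⁻¹ * x ^ k * g := by
    have : g⁻¹ * x * g = MulAut.conj g⁻¹ x := by simp [MulAut.conj_apply]
    have h2 : g⁻¹ * x ^ k * g = MulAut.conj g⁻¹ (x ^ k) := by simp [MulAut.conj_apply]
    rw [this, h2, map_pow]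
  rw [h3, hx]; group

end Cfsg.Agent.Lib.Helper10.PSB
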