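import Mathlib
import Cfsg.Prelude.Def_Characters
import Cfsg.Prelude.Def_Blocks
import Cfsg.Prelude.Def_Local
import Cfsg.Prelude.Def_CaseTheorems
import Cfsg.Agent.Lib.Helper11.IndNormal
import Cfsg.Agent.Lib.helper2.Ito
import Cfsg.Agent.Lib.helper7.CliffordSub
import Cfsg.Agent.Lib.Helper20.PSBIND

/-!
# Project PSB, piece IRR (core): `prat_irr` with the CAN statement `canon_stab` as a hypothesis

`ξ ∈ Irr(L)`, `θ` an irreducible constituent of `ξ|_H`, `T` its inertia group.  By the Clifford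
correspondence (S0854) `ξ = Ind_T^L ψ` with `ψ|_H = f • θ`.  CAN gives `φ ∈ Irr(T)` extending `θ`
with the power invariance; `Ψ := f • Ind_T^L φ` (restriction to `H` of an induced function from
`T ≥ H` only sees the restriction to `H`).
-/

set_option autoImplicit false

namespace Cfsg.Agent.Lib.Helper10.PSB

open Cfsg.Agent.Lib.Helper11

theorem psbirr_core {L : Type*} [Group L] [Finite L] (H : Subgroup L) [hN : H.Normal]
    (hcan : ∀ (θ : H → ℂ) (_ : Cfsg.IsIrrCharacter H θ)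
      (T : Subgroup L) (hHT : H ≤ T) (_ : ∀ t ∈ T, cj H θ t = θ),
      ∃ φ : T → ℂ, Cfsg.IsIrrCharacter T φ ∧ (∀ h : H, φ ⟨(h : L), hHT h.2⟩ = θ h) ∧
        ∀ (x : T) (m : ℕ), (x : L) ^ H.index = 1 → m.Coprime H.index → φ (x ^ m) = φ x)
    (ξ : L → ℂ) (hξ : Cfsg.IsIrrCharacter L ξ) :
    ∃ Ψ : L → ℂ, Cfsg.IsCharacter L Ψ ∧ (∀ h : H, Ψ h = ξ h) ∧
      ∀ (x : L) (m : ℕ), x ^ H.index = 1 → m.Coprime H.index → Ψ (x ^ m) = Ψ x := by
  classical
  haveI : Fintype L := Fintype.ofFinite L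
  haveI : Fintype H := Fintype.ofFinite H
  have hξc : Cfsg.IsCharacter L ξ := Cfsg.Agent.Lib.helper2.isCharacter_of_irr ⟨ξ, hξ⟩
  have hres := Cfsg.Agent.Lib.helper2.isCharacter_restrict hξc H
  have hξ1 : ξ 1 ≠ 0 := Cfsg.Agent.Lib.Helper25.irr_one_ne_zero ⟨ξ, hξ⟩
  obtain ⟨θ, m, hm, hθm⟩ :=
    Cfsg.Agent.Lib.helper2.isCharacter_exists_constituent hres (by simpa using hξ1)
  have hcon : Cfsg.classInner (fun n : H => ξ n) (θ : H → ℂ) ≠ 0 := by
    rw [hθm]; exact_mod_cast hm.ne'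
  set T := Cfsg.Agent.Lib.helper2.inertia H (θ : H → ℂ) with hT
  have hHT : H ≤ T := Cfsg.Agent.Lib.helper2.le_inertia H _
    (Cfsg.Agent.Lib.helper2.isCharacter_isClassFunction
      (Cfsg.Agent.Lib.helper2.isCharacter_of_irr θ))
  haveI : Fintype T := Fintype.ofFinite T
  have hTmem : ∀ g : L, g ∈ T ↔ ∀ n : H,
      (θ : H → ℂ) ⟨g * n * g⁻¹, hN.conj_mem (n : L) n.2 g⟩ = (θ : H → ℂ) n :=
    fun g => Cfsg.Agent.Lib.helper2.mem_inertia H _ g
  obtain ⟨ψ, hψ, hψind, hψin⟩ :=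
    Cfsg.Agent.S0854.result H (θ : H → ℂ) θ.2 T hTmem hHT ξ hξ hcon
  have hcon' : Cfsg.classInner (fun n : H => ψ ⟨(n : L), hHT n.2⟩) (θ : H → ℂ) ≠ 0 := by
    rw [hψin]; exact hcon
  obtain ⟨f, hf, _, hf2⟩ := Cfsg.Agent.Lib.helper7.h7_clifford_invariant_le H T hHT ψ hψ
    (θ : H → ℂ) θ.2 hcon' (fun t ht n => (hTmem t).mp ht n)
  obtain ⟨φ, hφ, hφH, hφpow⟩ := hcan (θ : H → ℂ) θ.2 T hHT (fun t ht => ht)
  refine ⟨(f : ℂ) • Cfsg.indFun T φ, ?_, ?_, ?_⟩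
  · exact Cfsg.Agent.Lib.helper2.isCharacter_natCast_smul
      (Cfsg.Agent.Lib.helper2.isCharacter_indFun T φ
        (Cfsg.Agent.Lib.helper7.h7_irr_isCharacter hφ)) f
  · intro h
    rw [← hψind]
    simp only [Pi.smul_apply, smul_eq_mul]
    unfold Cfsg.indFun
    rw [mul_left_comm, Finset.mul_sum]
    congr 1
    apply Finset.sum_congr rfl
    intro x _
    have hx : x⁻¹ * (h : L) * x ∈ H := by
      have := hN.conj_mem (h : L) h.2 x⁻¹
      simpa using this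
    rw [Cfsg.Agent.Lib.helper7.h7_extendByZero_mem T _ _ (hHT hx),
      Cfsg.Agent.Lib.helper7.h7_extendByZero_mem T _ _ (hHT hx)]
    have h1 := congrFun hf2 ⟨_, hx⟩
    simp only [Pi.smul_apply, smul_eq_mul] at h1
    rw [h1, hφH ⟨_, hx⟩]
  · intro x m hx hm
    simp only [Pi.smul_apply]
    rw [ind_pow_inv T φ H.index hφpow x hx m hm]

end Cfsg.Agent.Lib.Helper10.PSB
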