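import Mathlib
import Cfsg.Prelude.Def_Characters
import Cfsg.Prelude.Def_Blocks
import Cfsg.Prelude.Def_Local
import Cfsg.Prelude.Def_CaseTheorems
import Cfsg.Agent.Lib.Helper11.IndNormal
import Cfsg.Agent.Lib.Helper9.PSBCAN
import Cfsg.Agent.Lib.Helper20.PSBIRRcore

/-!
# Project PSB, piece IRR: `prat_irr` (verbatim vs `PSB/Skel`) = `psbirr_core` fed with CAN
-/

set_option autoImplicit false

namespace Cfsg.Agent.Lib.Helper10.PSB

open Cfsg.Agent.Lib.Helper11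

theorem prat_irr {L : Type*} [Group L] [Finite L] (H : Subgroup L) [H.Normal]
    (hcop : (Nat.card H).Coprime H.index) (ξ : L → ℂ) (hξ : Cfsg.IsIrrCharacter L ξ) :
    ∃ Ψ : L → ℂ, Cfsg.IsCharacter L Ψ ∧ (∀ h : H, Ψ h = ξ h) ∧
      ∀ (x : L) (m : ℕ), x ^ H.index = 1 → m.Coprime H.index → Ψ (x ^ m) = Ψ x :=
  psbirr_core H (fun θ hθ T hHT hT => canon_stab H hcop θ hθ T hHT hT) ξ hξ

end Cfsg.Agent.Lib.Helper10.PSB
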