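import Mathlib
import Cfsg.Agent.Lib.Helper18.BLK.Defs
import Cfsg.Agent.Lib.Helper20.BLKS0
import Cfsg.Agent.Lib.helper4.BLKS1

/-!
# Project BLK (S3888), piece AL3d: Case II of (α*), the groups F1 and F2
-/

set_option autoImplicit false

universe u

namespace Cfsg.Agent.Lib.Helper18.BLK

theorem Base.h20_z₀_pow {G : Type*} [Group G] {p : ℕ} {E : Subgroup G} {z₀ : G}
    (B : Base p E z₀) : z₀ ^ p = 1 := by
  have := pow_orderOf_eq_one z₀
  rwa [B.z₀o] at this

theorem Base.h20_z₀_ne_one {G : Type*} [Group G] {p : ℕ} [hp : Fact p.Prime] {E : Subgroup G}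
    {z₀ : G} (B : Base p E z₀) : z₀ ≠ 1 := by
  intro h
  have h1 : orderOf z₀ = 1 := by rw [h]; exact orderOf_one
  rw [B.z₀o] at h1
  exact hp.out.one_lt.ne' h1

theorem Base.h20_E_le_C {G : Type*} [Group G] {p : ℕ} {E : Subgroup G} {z₀ : G}
    (B : Base p E z₀) : E ≤ Subgroup.centralizer (E : Set G) := by
  intro e he
  rw [Subgroup.mem_centralizer_iff]
  intro a ha
  exact B.cE a ha e he

theorem h20_mem_zpowers_pow_of_coprime {G : Type*} [Group G] (g : G) (m b : ℕ) (hg : g ^ m = 1)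
    (hcop : Nat.Coprime b m) : g ∈ Subgroup.zpowers (g ^ b) := by
  have hb := Nat.gcd_eq_gcd_ab b m
  have h1 : g ^ ((Nat.gcd b m : ℕ) : ℤ) = (g ^ b) ^ (Nat.gcdA b m) * (g ^ m) ^ (Nat.gcdB b m) := by
    rw [hb, zpow_add, zpow_mul, zpow_mul, zpow_natCast, zpow_natCast]
  rw [hcop, Nat.cast_one, zpow_one, hg, one_zpow, mul_one] at h1
  have h2 : (g ^ b) ^ (Nat.gcdA b m) ∈ Subgroup.zpowers (g ^ b) :=
    (Subgroup.zpowers (g ^ b)).zpow_mem (Subgroup.mem_zpowers _) _
  rwa [← h1] at h2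

theorem h20_exists_t {p : ℕ} [Fact p.Prime] (a b : ℕ) (hb : ¬ p ∣ b) :
    ∃ t : ℕ, p ∣ a + b * t := by
  have hb0 : (b : ZMod p) ≠ 0 := by rwa [Ne, ZMod.natCast_eq_zero_iff]
  refine ⟨((-(a : ZMod p)) * (b : ZMod p)⁻¹).val, ?_⟩
  rw [← ZMod.natCast_eq_zero_iff]
  push_cast
  rw [ZMod.natCast_zmod_val]
  field_simp
  ring

/-- **AL3d**. Case II: the groups F1 and F2. -/
theorem Base.F_of_alpha_II {G : Type u} [Group G] [Finite G] {p : ℕ} [Fact p.Prime]
    {E : Subgroup G} {z₀ : G} (B : Base p E z₀) (n : ℕ) (hn : Nat.card G = p ^ n) (hn4 : 4 ≤ n)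
    (x : G) (hx : x ∉ Subgroup.centralizer (E : Set G)) (hxp : x ^ p = 1)
    (c y : G) (hc : c ∈ Subgroup.centralizer (E : Set G)) (hy : y ∈ E)
    (hyz : y ∉ Subgroup.zpowers z₀) (hcz : c ^ p ^ (n - 3) = z₀)
    (hab : ∀ a ∈ Subgroup.centralizer (E : Set G), ∀ b ∈ Subgroup.centralizer (E : Set G),
        a * b = b * a)
    (hgen : ∀ d ∈ Subgroup.centralizer (E : Set G), ∃ i j : ℕ, d = c ^ i * y ^ j)
    (hw : rc c x ∈ E) :
    (∃ y' z' : G, Subgroup.closure ({x, y', z'} : Set G) = ⊤ ∧ x ^ p = 1 ∧ y' ^ p = 1 ∧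
        z' ^ p ^ (n - 2) = 1 ∧ x * z' = z' * x ∧ y' * z' = z' * y' ∧
        x⁻¹ * y' * x = y' * z' ^ p ^ (n - 3)) ∨
    (∃ (σ : ℕ) (y' z' : G), ¬ p ∣ σ ∧ Subgroup.closure ({x, y', z'} : Set G) = ⊤ ∧
        F2Rel p (n - 3) σ x y' z') := by
  have hp : p.Prime := Fact.out
  have hz₀p := B.h20_z₀_pow
  have hyp : y ^ p = 1 := B.eE y hy
  have hcentral : ∀ g : G, g * z₀ = z₀ * g := fun g => Subgroup.mem_center_iff.mp B.z₀c g
  have hn2 : n - 2 = (n - 3) + 1 := by omega
  -- `rc y x = z₀ ^ b`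
  obtain ⟨b, hb⟩ := h20_mem_zpowers_nat (B.rc_mem_Z y hy x)
  have hb1 : rc y x ≠ 1 := B.rc_ne_one y hy hyz x hx
  have hpb : ¬ p ∣ b := by
    intro hd; apply hb1; rw [hb]; obtain ⟨k, rfl⟩ := hd; rw [pow_mul, hz₀p, one_pow]
  -- `w = z₀ ^ a' * y ^ s`
  obtain ⟨a', s, hws⟩ := B.E_eq y hy hyz (rc c x) hw
  have hy_comm_rc : Commute y (rc y x) :=
    Subgroup.mem_center_iff.mp (B.h20_Z_le_center (B.rc_mem_Z y hy x)) y
  have hrc_pow : ∀ j : ℕ, rc (y ^ j) x = z₀ ^ (b * j) := fun j => by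
    rw [rc_pow_left_of_commute y x hy_comm_rc j, hb, pow_mul]
  have hrc_z : ∀ i : ℕ, rc (z₀ ^ i) x = 1 := fun i => by
    rw [rc_eq_one_iff]
    exact ((show Commute z₀ x from (hcentral x).symm).pow_left i).eq
  -- generation
  have hgenG : ∀ H : Subgroup G, x ∈ H → c ∈ H → y ∈ H → H = ⊤ := by
    intro H hxH hcH hyH
    rw [eq_top_iff]
    intro g _
    obtain ⟨i, d, hd, rfl⟩ := B.exists_pow_mul x hx g
    obtain ⟨i', j', rfl⟩ := hgen d hd
    exact H.mul_mem (H.pow_mem hxH i) (H.mul_mem (H.pow_mem hcH i') (H.pow_mem hyH j'))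
  by_cases hps : p ∣ s
  · -- the group F1
    left
    have hys : y ^ s = 1 := by
      obtain ⟨k, rfl⟩ := hps
      rw [pow_mul, hyp, one_pow]
    rw [hys, mul_one] at hws
    obtain ⟨t, ht⟩ := h20_exists_t a' b hpb
    have hytE : y ^ t ∈ E := E.pow_mem hy t
    have hcyt : Commute c (y ^ t) := ((Subgroup.mem_centralizer_iff.mp hc) (y ^ t) hytE).symm
    have hrc' : rc (c * y ^ t) x = 1 := by
      rw [rc_mul_left_of_commute c (y ^ t) x (B.cE _ hytE _ hw), hws, hrc_pow t, ← pow_add]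
      obtain ⟨k, hk⟩ := ht
      rw [hk, pow_mul, hz₀p, one_pow]
    have hc'x : (c * y ^ t) * x = x * (c * y ^ t) := (rc_eq_one_iff _ _).mp hrc'
    have hc'C : c * y ^ t ∈ Subgroup.centralizer (E : Set G) :=
      Subgroup.mul_mem _ hc (B.h20_E_le_C hytE)
    have hc'pow : (c * y ^ t) ^ p ^ (n - 3) = z₀ := by
      rw [hcyt.mul_pow, hcz, ← pow_mul]
      have : y ^ (t * p ^ (n - 3)) = 1 := by
        have e : n - 3 = (n - 4) + 1 := by omega
        rw [e, pow_succ, ← mul_assoc, mul_comm, pow_mul, hyp, one_pow]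
      rw [this, mul_one]
    have hc'pp : (c * y ^ t) ^ p ^ (n - 2) = 1 := by
      rw [hn2, pow_succ, pow_mul, hc'pow, hz₀p]
    refine ⟨y, (c * y ^ t) ^ b, ?_, hxp, hyp, ?_, ?_, ?_, ?_⟩
    · apply hgenG
      · exact Subgroup.subset_closure (by simp)
      · have hc'H : c * y ^ t ∈ Subgroup.closure ({x, y, (c * y ^ t) ^ b} : Set G) := by
          have h1 := h20_mem_zpowers_pow_of_coprime (c * y ^ t) (p ^ (n - 2)) b hc'pp
            (Nat.Coprime.pow_right _ (hp.coprime_iff_not_dvd.mpr hpb).symm)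
          have h2 : Subgroup.zpowers ((c * y ^ t) ^ b) ≤
              Subgroup.closure ({x, y, (c * y ^ t) ^ b} : Set G) := by
            rw [Subgroup.zpowers_le]
            exact Subgroup.subset_closure (by simp)
          exact h2 h1
        have hyH : y ∈ Subgroup.closure ({x, y, (c * y ^ t) ^ b} : Set G) :=
          Subgroup.subset_closure (by simp)
        have h3 := Subgroup.mul_mem _ hc'H (Subgroup.inv_mem _ (Subgroup.pow_mem _ hyH t))
        rwa [mul_inv_cancel_right] at h3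
      · exact Subgroup.subset_closure (by simp)
    · rw [← pow_mul, mul_comm b, pow_mul, hc'pp, one_pow]
    · exact ((show Commute x (c * y ^ t) from hc'x.symm).pow_right b).eq
    · exact ((show Commute y (c * y ^ t) from
        (Subgroup.mem_centralizer_iff.mp hc'C) y hy).pow_right b).eq
    · rw [conj_eq, hb, ← pow_mul, mul_comm b, pow_mul, hc'pow]
  · -- the group F2
    right
    have hrcw : rc (rc c x) x = z₀ ^ (b * s) := by
      rw [hws, rc_mul_left_of_commute (z₀ ^ a') (y ^ s) x (by rw [hrc_z]; exact Commute.one_right _),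
        hrc_z, one_mul, hrc_pow]
    have hwc : rc c x * c = c * rc c x := (Subgroup.mem_centralizer_iff.mp hc) (rc c x) hw
    refine ⟨b * s, rc c x, c, ?_, ?_, hxp, B.eE _ hw, ?_, hwc, ?_, ?_⟩
    · intro hd
      rcases hp.dvd_mul.mp hd with h | h
      · exact hpb h
      · exact hps h
    · apply hgenG
      · exact Subgroup.subset_closure (by simp)
      · exact Subgroup.subset_closure (by simp)
      · have hcH : c ∈ Subgroup.closure ({x, rc c x, c} : Set G) :=
          Subgroup.subset_closure (by simp)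
        have hwH : rc c x ∈ Subgroup.closure ({x, rc c x, c} : Set G) :=
          Subgroup.subset_closure (by simp)
        have hz₀H : z₀ ∈ Subgroup.closure ({x, rc c x, c} : Set G) := by
          rw [← hcz]; exact Subgroup.pow_mem _ hcH _
        have hysH : y ^ s ∈ Subgroup.closure ({x, rc c x, c} : Set G) := by
          have : y ^ s = (z₀ ^ a')⁻¹ * rc c x := by rw [hws]; group
          rw [this]
          exact Subgroup.mul_mem _ (Subgroup.inv_mem _ (Subgroup.pow_mem _ hz₀H a')) hwH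
        have h1 := h20_mem_zpowers_pow_of_coprime y p s hyp
          (hp.coprime_iff_not_dvd.mpr hps).symm
        have h2 : Subgroup.zpowers (y ^ s) ≤ Subgroup.closure ({x, rc c x, c} : Set G) := by
          rw [Subgroup.zpowers_le]; exact hysH
        exact h2 h1
    · rw [pow_succ, pow_mul, hcz, hz₀p]
    · rw [conj_eq, hrcw, mul_comm (b * s), pow_mul c, hcz]
    · rw [conj_eq, hwc]

end Cfsg.Agent.Lib.Helper18.BLK
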