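import Mathlib
import Cfsg.Agent.Lib.Helper18.BLK.Defs
import Cfsg.Agent.Lib.Helper20.BLKS0
import Cfsg.Agent.Lib.Helper20.BLKAL3d
import Cfsg.Agent.Lib.Helper24.NormalRank

/-!
# Project BLK (S3888), piece B5d (core): the F2 group of order `p⁴` in case (β)
-/

set_option autoImplicit false

universe u

namespace Cfsg.Agent.Lib.Helper18.BLK

/-- **B5d**, core: the F2 group of order `p⁴`, with the facts S5 (`Base.DZ_mem`) and
S6 (`Base.rc_u1_mem_E`) as explicit hypotheses. -/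
theorem Base.h20_F2_of_beta_core {G : Type u} [Group G] [Finite G] {p : ℕ} [Fact p.Prime]
    {E : Subgroup G} {z₀ : G} (B : Base p E z₀) (u₁ : G)
    (hu : u₁ ∈ Subgroup.centralizer (E : Set G)) (hup : u₁ ^ p = z₀)
    (hS5 : ∀ c ∈ Subgroup.centralizer (E : Set G), c ^ p ∈ Subgroup.zpowers z₀ →
      ∃ j : ℕ, ∃ e ∈ E, c = u₁ ^ j * e)
    (hS6 : ∀ g : G, rc u₁ g ∈ E) (n : ℕ)
    (hn : Nat.card G = p ^ n) (x : G) (hx : x ∉ Subgroup.centralizer (E : Set G))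
    (hxp : x ^ p = 1) (hxu : rc u₁ x ∉ Subgroup.zpowers z₀)
    (hC : ∀ c ∈ Subgroup.centralizer (E : Set G), c ^ p ∈ Subgroup.zpowers z₀) :
    n = 4 ∧ ∃ (σ : ℕ) (y z : G), ¬ p ∣ σ ∧ Subgroup.closure ({x, y, z} : Set G) = ⊤ ∧
      F2Rel p 1 σ x y z := by
  have hp : p.Prime := Fact.out
  have hyE : rc u₁ x ∈ E := hS6 x
  have hcomm_uy : u₁ * rc u₁ x = rc u₁ x * u₁ :=
    ((Subgroup.mem_centralizer_iff.mp hu) _ hyE).symm
  have hζZ : rc (rc u₁ x) x ∈ Subgroup.zpowers z₀ := B.rc_mem_Z _ hyE x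
  have hζ1 : rc (rc u₁ x) x ≠ 1 := B.rc_ne_one _ hyE hxu x hx
  obtain ⟨σ, hσ⟩ := h20_mem_zpowers_nat hζZ
  have hpσ : ¬ p ∣ σ := by
    intro hd
    apply hζ1
    rw [hσ]
    obtain ⟨k, rfl⟩ := hd
    rw [pow_mul, B.h20_z₀_pow, one_pow]
  -- the order of `G`
  haveI := B.nE
  have hu₁E : u₁ ∉ E := by
    intro h
    have := B.eE u₁ h
    rw [hup] at this
    exact B.h20_z₀_ne_one this
  have hcardsup := Cfsg.Agent.Lib.Helper24.nr_card_sup (p := p) E u₁ hu₁E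
    (by rw [hup]; exact B.z₀E)
  have hCeq : Subgroup.centralizer (E : Set G) = E ⊔ Subgroup.zpowers u₁ := by
    apply le_antisymm
    · intro c hc
      obtain ⟨j, e, he, rfl⟩ := hS5 c hc (hC c hc)
      exact Subgroup.mul_mem _
        (Subgroup.mem_sup_right (Subgroup.pow_mem _ (Subgroup.mem_zpowers _) _))
        (Subgroup.mem_sup_left he)
    · apply sup_le B.h20_E_le_C
      rw [Subgroup.zpowers_le]; exact hu
  have hcardC : Nat.card (Subgroup.centralizer (E : Set G)) = p ^ 3 := by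
    rw [hCeq, hcardsup, B.cardE]; ring
  have hidx := B.index_C
  have hG4 : Nat.card G = p ^ 4 := by
    rw [← Subgroup.card_mul_index (Subgroup.centralizer (E : Set G)), hcardC, hidx]; ring
  have hn4 : n = 4 := Nat.pow_right_injective hp.two_le (by simp only; rw [← hn, hG4])
  refine ⟨hn4, σ, rc u₁ x, u₁, hpσ, ?_, ?_⟩
  · rw [eq_top_iff]
    intro g _
    have hxH : x ∈ Subgroup.closure ({x, rc u₁ x, u₁} : Set G) :=
      Subgroup.subset_closure (by simp)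
    have hyH : rc u₁ x ∈ Subgroup.closure ({x, rc u₁ x, u₁} : Set G) :=
      Subgroup.subset_closure (by simp)
    have hzH : u₁ ∈ Subgroup.closure ({x, rc u₁ x, u₁} : Set G) :=
      Subgroup.subset_closure (by simp)
    have hz₀H : z₀ ∈ Subgroup.closure ({x, rc u₁ x, u₁} : Set G) := by
      rw [← hup]; exact Subgroup.pow_mem _ hzH p
    have hEH : E ≤ Subgroup.closure ({x, rc u₁ x, u₁} : Set G) := by
      intro e he
      obtain ⟨i, j, rfl⟩ := B.E_eq (rc u₁ x) hyE hxu e he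
      exact Subgroup.mul_mem _ (Subgroup.pow_mem _ hz₀H i) (Subgroup.pow_mem _ hyH j)
    obtain ⟨i, c, hc, rfl⟩ := B.exists_pow_mul x hx g
    obtain ⟨j, e, he, rfl⟩ := hS5 c hc (hC c hc)
    exact Subgroup.mul_mem _ (Subgroup.pow_mem _ hxH i)
      (Subgroup.mul_mem _ (Subgroup.pow_mem _ hzH j) (hEH he))
  · refine ⟨hxp, B.eE _ hyE, ?_, hcomm_uy.symm, ?_, ?_⟩
    · rw [show p ^ (1 + 1) = p * p by ring, pow_mul, hup, B.h20_z₀_pow]
    · rw [conj_eq, hσ, ← hup, ← pow_mul, pow_one, mul_comm σ p]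
    · rw [conj_eq, hcomm_uy]

end Cfsg.Agent.Lib.Helper18.BLK
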