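import Mathlib
import Cfsg.Agent.Lib.Helper18.BLK.Defs
import Cfsg.Agent.Lib.Helper20.BLKB5dcore
import Cfsg.Agent.Lib.Helper18.BLKS567

/-!
# Project BLK (S3888), piece B5d: the F2 group of order `p⁴` in case (β)
-/

set_option autoImplicit false

universe u

namespace Cfsg.Agent.Lib.Helper18.BLK

/-- **B5d**. the F2 group of order `p⁴`. -/
theorem Base.F2_of_beta {G : Type u} [Group G] [Finite G] {p : ℕ} [Fact p.Prime]
    {E : Subgroup G} {z₀ : G} (B : Base p E z₀) (u₁ : G)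
    (hu : u₁ ∈ Subgroup.centralizer (E : Set G)) (hup : u₁ ^ p = z₀) (n : ℕ)
    (hn : Nat.card G = p ^ n) (x : G) (hx : x ∉ Subgroup.centralizer (E : Set G))
    (hxp : x ^ p = 1) (hxu : rc u₁ x ∉ Subgroup.zpowers z₀)
    (hC : ∀ c ∈ Subgroup.centralizer (E : Set G), c ^ p ∈ Subgroup.zpowers z₀) :
    n = 4 ∧ ∃ (σ : ℕ) (y z : G), ¬ p ∣ σ ∧ Subgroup.closure ({x, y, z} : Set G) = ⊤ ∧
      F2Rel p 1 σ x y z :=
  B.h20_F2_of_beta_core u₁ hu hup (fun c hc hcp => B.DZ_mem u₁ hu hup c hc hcp)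
    (fun g => B.rc_u1_mem_E u₁ hu hup g) n hn x hx hxp hxu hC

end Cfsg.Agent.Lib.Helper18.BLK
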