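import Mathlib
import Cfsg.Agent.Lib.Helper18.SDM.Defs

/-!
# Project SDM, row B0: flag basics (`xv_mem_Vfl`, `Vfl_mono`, `mem_Vfl_iff_sum`, `mem_Vfl_of_succ`, `isUpQ_iff`).
-/

set_option autoImplicit false
set_option linter.unusedSectionVars false
set_option linter.unusedVariables false

namespace Cfsg.Agent.Lib.Helper18.QBN

open Cfsg.Agent.Lib.helper14.UBN QuadraticMap

universe u v

variable {F : Type u} [Field F] {W : Type v} [AddCommGroup W] [Module F W] {n : ℕ}

/-- [ROW B0] -/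
theorem xv_mem_Vfl (i : Fin n) (j : ℕ) (h : rk i < j) : xv W i ∈ Vfl F n W j := by
  rw [mem_Vfl]
  refine ⟨rfl, fun i' hi' => ?_⟩
  rw [xv_fst, if_neg]
  intro e
  rw [e] at hi'
  omega

/-- [ROW B0] -/
theorem Vfl_mono {j j' : ℕ} (h : j ≤ j') : Vfl F n W j ≤ Vfl F n W j' := by
  intro v hv
  rw [mem_Vfl] at hv ⊢
  exact ⟨hv.1, fun i hi => hv.2 i (le_trans h hi)⟩

/-- the coordinates of the partial sum -/
theorem sdmb0_sum_fst (j : ℕ) (c : Fin n → F) (i' : Fin n) :
    (∑ i ∈ Finset.univ.filter (fun i : Fin n => rk i < j), c i • xv W i : QV F n W).1 i' =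
      if rk i' < j then c i' else 0 := by
  rw [Prod.fst_sum, Finset.sum_apply]
  by_cases h : rk i' < j
  · rw [if_pos h, Finset.sum_eq_single i']
    · rw [Prod.smul_fst, Pi.smul_apply, xv_fst, if_pos rfl, smul_eq_mul, mul_one]
    · intro b _ hb
      rw [Prod.smul_fst, Pi.smul_apply, xv_fst, if_neg (Ne.symm hb), smul_zero]
    · intro hn'
      exfalso
      apply hn'
      rw [Finset.mem_filter]
      exact ⟨Finset.mem_univ _, h⟩
  · rw [if_neg h]
    apply Finset.sum_eq_zero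
    intro b hb
    have hb' := (Finset.mem_filter.mp hb).2
    have hne : i' ≠ b := by
      intro e
      rw [e] at h
      exact h hb'
    rw [Prod.smul_fst, Pi.smul_apply, xv_fst, if_neg hne, smul_zero]

theorem sdmb0_sum_snd (j : ℕ) (c : Fin n → F) :
    (∑ i ∈ Finset.univ.filter (fun i : Fin n => rk i < j), c i • xv W i : QV F n W).2 = 0 := by
  rw [Prod.snd_sum]
  apply Finset.sum_eq_zero
  intro b _
  rw [Prod.smul_snd, xv_snd, smul_zero]

/-- [ROW B0] `V_j` is the span of the `x_i`, `rk i < j` -/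
theorem mem_Vfl_iff_sum (j : ℕ) (v : QV F n W) :
    v ∈ Vfl F n W j ↔ v = ∑ i ∈ Finset.univ.filter (fun i : Fin n => rk i < j), v.1 i • xv W i := by
  constructor
  · intro hv
    rw [mem_Vfl] at hv
    apply Prod.ext
    · funext i'
      rw [sdmb0_sum_fst]
      by_cases h : rk i' < j
      · rw [if_pos h]
      · rw [if_neg h]
        exact hv.2 i' (not_lt.mp h)
    · rw [sdmb0_sum_snd]
      exact hv.1
  · intro h
    have hs : (∑ i ∈ Finset.univ.filter (fun i : Fin n => rk i < j), v.1 i • xv W i : QV F n W) ∈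
        Vfl F n W j :=
      Submodule.sum_mem _ (fun i hi =>
        Submodule.smul_mem _ _ (xv_mem_Vfl i j (Finset.mem_filter.mp hi).2))
    rw [← h] at hs
    exact hs

/-- [ROW B0] `v ∈ V_{j+1}` with zero `j`-th coordinate lies in `V_j` -/
theorem mem_Vfl_of_succ {j : ℕ} {v : QV F n W} (hv : v ∈ Vfl F n W (j + 1))
    (h0 : ∀ i : Fin n, rk i = j → v.1 i = 0) : v ∈ Vfl F n W j := by
  rw [mem_Vfl] at hv ⊢
  refine ⟨hv.1, fun i hi => ?_⟩
  rcases Nat.eq_or_lt_of_le hi with h | h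
  · exact h0 i h.symm
  · exact hv.2 i h

/-- [ROW B0] the criterion for `IsUpQ` on the frame -/
theorem isUpQ_iff {Q₀ : QuadraticForm F W} (g : GQ n Q₀) :
    IsUpQ g ↔ ∀ i : Fin n, rk i < n / 2 → le g (xv W i) ∈ Vfl F n W (rk i + 1) := by
  constructor
  · intro h i hi
    exact h (rk i + 1) hi _ (xv_mem_Vfl i _ (Nat.lt_succ_self _))
  · intro h j hj v hv
    rw [(mem_Vfl_iff_sum j v).mp hv, map_sum]
    apply Submodule.sum_mem
    intro i hi
    have hij := (Finset.mem_filter.mp hi).2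
    rw [map_smul]
    apply Submodule.smul_mem
    exact Vfl_mono hij (h i (lt_of_lt_of_le hij hj))

end Cfsg.Agent.Lib.Helper18.QBN
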