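import Mathlib
import Cfsg.Agent.Lib.Helper18.SDM.Defs
import Cfsg.Agent.Lib.Helper20.SDMB0

/-!
# Project SDM, row B1: `up_inv`, `mem_BQ_iff`, `BQ_diag_ne_zero`.
-/

set_option autoImplicit false
set_option linter.unusedSectionVars false
set_option linter.unusedVariables false

namespace Cfsg.Agent.Lib.Helper18.QBN

open Cfsg.Agent.Lib.helper14.UBN QuadraticMap

universe u v

variable {F : Type u} [Field F] {W : Type v} [AddCommGroup W] [Module F W] {n : ℕ}

/-- `V_j` is finite-dimensional: `v ↦ v.1` is injective on it -/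
theorem sdmb1_finite (j : ℕ) : Module.Finite F ↥(Vfl F n W j) := by
  let f : ↥(Vfl F n W j) →ₗ[F] (Fin n → F) :=
    (LinearMap.fst F (Fin n → F) W).comp (Vfl F n W j).subtype
  have hf : Function.Injective f := by
    intro a b hab
    apply Subtype.ext
    apply Prod.ext
    · exact hab
    · rw [((mem_Vfl j _).mp a.2).1, ((mem_Vfl j _).mp b.2).1]
  exact Module.Finite.of_injective f hf

/-- [ROW B1] (finite dimension of `V_j`: an injective endomorphism of `V_j` is onto) -/
theorem up_inv {Q₀ : QuadraticForm F W} (g : GQ n Q₀) (h : IsUpQ g) : IsUpQ g⁻¹ := by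
  intro j hj v hv
  haveI := sdmb1_finite (F := F) (W := W) (n := n) j
  let f : ↥(Vfl F n W j) →ₗ[F] ↥(Vfl F n W j) :=
    ((le g : QV F n W ≃ₗ[F] QV F n W) : QV F n W →ₗ[F] QV F n W).restrict (h j hj)
  have hf : Function.Injective f := by
    intro a b hab
    apply Subtype.ext
    have h1 : le g (a : QV F n W) = le g (b : QV F n W) := congrArg Subtype.val hab
    exact (le g).injective h1
  have hs : Function.Surjective f := LinearMap.surjective_of_injective hf
  obtain ⟨u, hu⟩ := hs ⟨v, hv⟩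
  have h1 : le g (u : QV F n W) = v := congrArg Subtype.val hu
  rw [← h1, le_inv_apply']
  exact u.2

/-- [ROW B1] -/
theorem mem_BQ_iff {Q₀ : QuadraticForm F W} (g : GQ n Q₀) : g ∈ BQ n Q₀ ↔ IsUpQ g :=
  ⟨fun h => h.1, fun h => ⟨h, up_inv g h⟩⟩

/-- [ROW B1] the diagonal coefficient of `b ∈ B` -/
theorem BQ_diag_ne_zero {Q₀ : QuadraticForm F W} (b : GQ n Q₀) (hb : b ∈ BQ n Q₀) (i : Fin n)
    (hi : rk i < n / 2) : (le b (xv W i)).1 i ≠ 0 := by
  intro h0
  have h1 : le b (xv W i) ∈ Vfl F n W (rk i + 1) := (isUpQ_iff b).mp hb.1 i hi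
  have h2 : le b (xv W i) ∈ Vfl F n W (rk i) := by
    apply mem_Vfl_of_succ h1
    intro i' hi'
    rw [rk_injective hi']
    exact h0
  have h3 : le b⁻¹ (le b (xv W i)) ∈ Vfl F n W (rk i) := hb.2 (rk i) (le_of_lt hi) _ h2
  rw [le_inv_apply'] at h3
  have h4 := ((mem_Vfl (rk i) _).mp h3).2 i le_rfl
  rw [xv_fst, if_pos rfl] at h4
  exact one_ne_zero h4

end Cfsg.Agent.Lib.Helper18.QBN
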