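import Mathlib
import Cfsg.Agent.Lib.Helper18.SDM.Defs2
import Cfsg.Agent.Lib.Helper20.SDMB1
import Cfsg.Agent.Lib.Helper10.SDMB3

/-!
# Project SDM, row R3b (`root_rank_one_last`): the rank one relation `s u s⁻¹ = b s u'` at the last node.

`a = pa k`, `pc k = rv a`, `u = sgX a (0, w)`, `w ≠ 0`, `μ = (Q₀ w)⁻¹`, `u' = sgX a (0, -μ w)`, `b = s u s u'⁻¹ s`.
`b` fixes `x_i` (`rk i < n/2`, `i ≠ a`) and `b x_a = -μ x_a`.
-/

set_option autoImplicit false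
set_option linter.unusedSectionVars false
set_option linter.unusedVariables false

namespace Cfsg.Agent.Lib.Helper18.QBN

open Cfsg.Agent.Lib.helper14.UBN QuadraticMap

universe u v

variable {F : Type u} [Field F] {W : Type v} [AddCommGroup W] [Module F W] {n : ℕ}

theorem sdmr3b_wv_add (w₁ w₂ : W) : wv F n (w₁ + w₂) = wv F n w₁ + wv F n w₂ := by
  apply Prod.ext
  · funext i; simp
  · simp

theorem sdmr3b_wv_smul (c : F) (w : W) : wv F n (c • w) = c • wv F n w := by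
  apply Prod.ext
  · funext i; simp
  · simp

theorem sdmr3b_wv_neg (w : W) : wv F n (-w) = -wv F n w := by
  apply Prod.ext
  · funext i; simp
  · simp

theorem sdmr3b_wv_zero : wv F n (0 : W) = 0 := rfl

/-- the action of `sgX a (0, w)` -/
theorem sdmr3b_sgX_wv_apply (hn : Even n) (Q₀ : QuadraticForm F W) (a : Fin n) (w : W)
    (hy : (wv F n w).1 (rv a) = 0) (v : QV F n W) :
    le (sgX hn Q₀ a (wv F n w) hy) v =
      v + polar Q₀ v.2 w • xv W a - v.1 (rv a) • (wv F n w + Q₀ w • xv W a) := by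
  rw [sgX_apply, polar_wv hn, frQ_wv]

/-- `sgX a y * sgX a (-y) = 1` -/
theorem sdmr3b_sgX_mul_neg (hn : Even n) (Q₀ : QuadraticForm F W) (a : Fin n) (y : QV F n W)
    (hy : y.1 (rv a) = 0) (hy' : (-y).1 (rv a) = 0) :
    sgX hn Q₀ a y hy * sgX hn Q₀ a (-y) hy' = 1 := by
  apply GQ_ext
  intro v
  rw [le_mul, le_one]
  have hu : frQ n Q₀ (xv W a) = 0 := frQ_xv Q₀ hn a
  have h1 : polar (frQ n Q₀) (xv W a) y = 0 := by rw [polar_comm, polar_xv hn, hy]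
  have h2 : polar (frQ n Q₀) (xv W a) (-y) = 0 := by rw [polar_comm, polar_xv hn, hy']
  have h3 := siegL_comp (frQ n Q₀) hu h1 h2 v
  rw [add_neg_cancel, siegL_zero] at h3
  exact h3

/-- the three-term vectors `c₁ x_a + c₂ x_{rv a} + (0, w₀)` -/
def sdmr3b_T (a : Fin n) (c₁ c₂ : F) (w₀ : W) : QV F n W :=
  c₁ • xv W a + c₂ • xv W (rv a) + wv F n w₀

theorem sdmr3b_T_snd (a : Fin n) (c₁ c₂ : F) (w₀ : W) : (sdmr3b_T a c₁ c₂ w₀).2 = w₀ := by
  unfold sdmr3b_T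
  simp

theorem sdmr3b_T_fst_rv (a : Fin n) (ha : rv a ≠ a) (c₁ c₂ : F) (w₀ : W) :
    (sdmr3b_T a c₁ c₂ w₀).1 (rv a) = c₂ := by
  unfold sdmr3b_T
  simp [ha]

/-- the action of `sgX a (0, w)` on the three-term vectors -/
theorem sdmr3b_sgX_T (hn : Even n) (Q₀ : QuadraticForm F W) (a : Fin n) (w : W)
    (hy : (wv F n w).1 (rv a) = 0) (c₁ c₂ : F) (w₀ : W) :
    le (sgX hn Q₀ a (wv F n w) hy) (sdmr3b_T a c₁ c₂ w₀) =
      sdmr3b_T a (c₁ + polar Q₀ w₀ w - c₂ * Q₀ w) c₂ (w₀ - c₂ • w) := by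
  rw [sdmr3b_sgX_wv_apply, sdmr3b_T_snd, sdmr3b_T_fst_rv a (rv_ne_of_even hn a)]
  unfold sdmr3b_T
  rw [sub_eq_add_neg w₀, sdmr3b_wv_add, sdmr3b_wv_neg, sdmr3b_wv_smul]
  module

/-- the action of the last simple reflection on the three-term vectors -/
theorem sdmr3b_sQ_T (hn : Even n) (Q₀ : QuadraticForm F W) (k : Fin (n / 2))
    (hk : pc k = rv (pa k)) (c₁ c₂ : F) (w₀ : W) :
    le (sQ hn Q₀ k) (sdmr3b_T (pa k) c₁ c₂ w₀) = sdmr3b_T (pa k) c₂ c₁ w₀ := by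
  unfold sdmr3b_T sQ
  rw [map_add, map_add, map_smul, map_smul, permG_xv, permG_xv, permG_wv, tauS_pa, ← hk, tauS_pc,
    add_comm (c₁ • xv W (pc k))]

/-- [ROW R3b] the same for the last node (`u = sgX a (0, w)`, `u' = sgX a (0, -(Q₀ w)⁻¹ w)`) -/
theorem root_rank_one_last (hn : Even n) (Q₀ : QuadraticForm F W) (hQ₀ : ∀ w : W, Q₀ w = 0 → w = 0)
    (k : Fin (n / 2)) (hk : pc k = rv (pa k)) (u : GQ n Q₀) (hu : u ∈ Uk hn Q₀ k) (hu1 : u ≠ 1) :
    ∃ b ∈ BQ n Q₀, ∃ u' ∈ Uk hn Q₀ k, sQ hn Q₀ k * u * (sQ hn Q₀ k)⁻¹ = b * sQ hn Q₀ k * u' := by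
  obtain ⟨y, hy, rfl⟩ := hu
  obtain ⟨w, rfl⟩ := hy.2 hk
  have hrva : rv (pa k) ≠ pa k := rv_ne_of_even hn (pa k)
  -- `w ≠ 0`
  have hw : w ≠ 0 := by
    rintro rfl
    apply hu1
    apply GQ_ext
    intro v
    rw [sdmr3b_sgX_wv_apply, le_one]
    simp [sdmr3b_wv_zero]
  have hQw : Q₀ w ≠ 0 := fun h => hw (hQ₀ w h)
  set μ : F := (Q₀ w)⁻¹ with hμ
  have hμQ : μ * Q₀ w = 1 := inv_mul_cancel₀ hQw
  have hz : ∀ w' : W, (wv F n w').1 (rv (pa k)) = 0 := fun _ => rfl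
  have hz' : ∀ w' : W, (-wv F n w').1 (rv (pa k)) = 0 := fun _ => by simp
  have hY : ∀ w' : W, wv F n w' ∈ Yk F W k := fun w' =>
    ⟨fun h => absurd hk h, fun _ => ⟨w', rfl⟩⟩
  let s := sQ hn Q₀ k
  let u₀ : GQ n Q₀ := sgX hn Q₀ (pa k) (wv F n w) (hz w)
  let u' : GQ n Q₀ := sgX hn Q₀ (pa k) (wv F n (-(μ • w))) (hz _)
  let ui : GQ n Q₀ := sgX hn Q₀ (pa k) (-wv F n (-(μ • w))) (hz' _)
  have hss : s * s = 1 := sQ_mul_self hn Q₀ k
  have hsinv : s⁻¹ = s := sQ_inv hn Q₀ k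
  have hui : u' * ui = 1 := sdmr3b_sgX_mul_neg hn Q₀ (pa k) _ (hz _) (hz' _)
  have hui' : ui * u' = 1 := mul_eq_one_comm.mp hui
  -- `ui = sgX a (0, μ w)`
  have hui_eq : ui = sgX hn Q₀ (pa k) (wv F n (μ • w)) (hz _) := by
    apply GQ_ext
    intro v
    have h1 : -wv F n (-(μ • w)) = wv F n (μ • w) := by
      rw [sdmr3b_wv_neg, neg_neg]
    show le (sgX hn Q₀ (pa k) (-wv F n (-(μ • w))) (hz' _)) v = _
    rw [sgX_apply, sgX_apply, h1]
  let b : GQ n Q₀ := s * u₀ * s * ui * s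
  have hb_eq : s * u₀ * s⁻¹ = b * s * u' := by
    rw [hsinv]
    show s * u₀ * s = s * u₀ * s * ui * s * s * u'
    rw [mul_assoc (s * u₀ * s * ui) s s, hss, mul_one, mul_assoc (s * u₀ * s) ui u', hui', mul_one]
  have hb_apply : ∀ v, le b v = le s (le u₀ (le s (le ui (le s v)))) := fun v => rfl
  refine ⟨b, ?_, u', ⟨_, hY _, rfl⟩, hb_eq⟩
  rw [mem_BQ_iff, isUpQ_iff]
  intro i hi
  by_cases hia : i = pa k
  · -- `b x_a = -μ x_a`
    have hx : (xv W (pa k) : QV F n W) = sdmr3b_T (pa k) 1 0 0 := by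
      unfold sdmr3b_T
      rw [one_smul, zero_smul, add_zero, sdmr3b_wv_zero, add_zero]
    have hfin : le b (xv W (pa k)) = (-μ) • xv W (pa k) := by
      rw [hb_apply, hx, sdmr3b_sQ_T hn Q₀ k hk, hui_eq, sdmr3b_sgX_T, sdmr3b_sQ_T hn Q₀ k hk,
        sdmr3b_sgX_T, sdmr3b_sQ_T hn Q₀ k hk]
      have e1 : (0 : F) + polar Q₀ 0 (μ • w) - 1 * Q₀ (μ • w) = -μ := by
        rw [polar_zero_left, QuadraticMap.map_smul, smul_eq_mul, mul_assoc, hμQ]
        ring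
      have e2 : (0 : W) - (1 : F) • (μ • w) = -(μ • w) := by
        rw [one_smul, zero_sub]
      rw [e1, e2]
      have e3 : (1 : F) + polar Q₀ (-(μ • w)) w - -μ * Q₀ w = 0 := by
        rw [polar_neg_left, polar_smul_left, polar_self, smul_eq_mul, two_nsmul]
        linear_combination (-1 : F) * hμQ
      have e4 : -(μ • w) - -μ • w = 0 := by
        rw [neg_smul, sub_neg_eq_add, neg_add_cancel]
      rw [e3, e4]
      unfold sdmr3b_T
      rw [zero_smul, add_zero, sdmr3b_wv_zero, add_zero, one_smul, add_zero, add_zero]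
    rw [hia, hfin]
    exact Submodule.smul_mem _ _ (xv_mem_Vfl _ _ (Nat.lt_succ_self _))
  · -- `b` fixes `x_i`
    have hirv : i ≠ rv (pa k) := by
      intro e
      have h1 := rk_add_rv (pa k)
      have h2 : rk (pa k) = k.val := rk_pa k
      have h3 := k.2
      rw [e] at hi
      obtain ⟨m, hm⟩ := hn
      omega
    have hs_fix : le s (xv W i) = xv W i := by
      show le (permG hn Q₀ (tauS k) (RvC_tauS k)) (xv W i) = _
      rw [permG_xv, tauS_apply, tauF_of_ne hia (by rw [hk]; exact hirv) hirv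
        (by rw [hk, rv_rv]; exact hia)]
    have hsg_fix : ∀ (w' : W) (h : (wv F n w').1 (rv (pa k)) = 0),
        le (sgX hn Q₀ (pa k) (wv F n w') h) (xv W i) = xv W i := by
      intro w' h
      rw [sdmr3b_sgX_wv_apply, xv_snd, polar_zero_left, zero_smul, add_zero, xv_fst,
        if_neg (fun e => hirv e.symm), zero_smul, sub_zero]
    rw [hb_apply, hs_fix, hui_eq, hsg_fix, hs_fix, hsg_fix, hs_fix]
    exact xv_mem_Vfl _ _ (Nat.lt_succ_self _)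

end Cfsg.Agent.Lib.Helper18.QBN
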