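import Mathlib
import Cfsg.Agent.Lib.helper14.SGUDefs

set_option autoImplicit false
set_option linter.unusedVariables false
set_option linter.unusedSectionVars false

/-!
# Project SGU, row PHIALG: `Phi` (restriction of scalars `M_d(F[ω]) → M_{2d}(F)`) is an injective monoid hom
into the centraliser of `j0`.
-/

namespace Cfsg.Agent.Lib.helper14.SGU

open Polynomial Module Cfsg.Agent.Lib.Lead.SPU Cfsg.Agent.Lib.Helper19.SPD

variable {F : Type*} [Field F] {d : ℕ}

theorem sguphialg_re_sum (c0 : F) {ι : Type*} (s : Finset ι) (f : ι → QK c0) :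
    (∑ k ∈ s, f k).re = ∑ k ∈ s, (f k).re :=
  map_sum (QuadraticAlgebra.reₗ c0 0) f s

theorem sguphialg_im_sum (c0 : F) {ι : Type*} (s : Finset ι) (f : ι → QK c0) :
    (∑ k ∈ s, f k).im = ∑ k ∈ s, (f k).im :=
  map_sum (QuadraticAlgebra.imₗ c0 0) f s

theorem sguphialg_re_mul (c0 : F) (M N : Matrix (Fin d) (Fin d) (QK c0)) :
    (M * N).map QuadraticAlgebra.re =
      M.map QuadraticAlgebra.re * N.map QuadraticAlgebra.re +
        c0 • (M.map QuadraticAlgebra.im * N.map QuadraticAlgebra.im) := by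
  ext i k
  simp only [Matrix.map_apply, Matrix.mul_apply, Matrix.add_apply, Matrix.smul_apply, smul_eq_mul,
    sguphialg_re_sum, QuadraticAlgebra.re_mul, Finset.sum_add_distrib, Finset.mul_sum]
  congr 1
  apply Finset.sum_congr rfl
  intro l _
  ring

theorem sguphialg_im_mul (c0 : F) (M N : Matrix (Fin d) (Fin d) (QK c0)) :
    (M * N).map QuadraticAlgebra.im =
      M.map QuadraticAlgebra.re * N.map QuadraticAlgebra.im +
        M.map QuadraticAlgebra.im * N.map QuadraticAlgebra.re := by
  ext i k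
  simp only [Matrix.map_apply, Matrix.mul_apply, Matrix.add_apply,
    sguphialg_im_sum, QuadraticAlgebra.im_mul, Finset.sum_add_distrib, zero_mul, add_zero]

/-- PHIALG [M] (4 statements, one row) : `Phi` is an injective monoid hom into the centraliser of `j0`
(`Matrix.fromBlocks_multiply`, `QuadraticAlgebra.re_mul / im_mul` with `b = 0`: `re (z w) = re z re w + c0 im z im w`, `im (z w) = re z im w + im z re w`). -/
theorem phi_one (c0 : F) : Phi d c0 1 = 1 := by
  unfold Phi
  have h1 : (1 : Matrix (Fin d) (Fin d) (QK c0)).map QuadraticAlgebra.re = 1 :=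
    Matrix.map_one _ rfl rfl
  have h2 : (1 : Matrix (Fin d) (Fin d) (QK c0)).map QuadraticAlgebra.im = 0 := by
    ext i k
    rw [Matrix.map_apply, Matrix.one_apply]
    split_ifs <;> rfl
  rw [h1, h2, smul_zero, Matrix.fromBlocks_one]

theorem phi_mul (c0 : F) (M N : Matrix (Fin d) (Fin d) (QK c0)) : Phi d c0 (M * N) = Phi d c0 M * Phi d c0 N := by
  unfold Phi
  rw [Matrix.fromBlocks_multiply, sguphialg_re_mul, sguphialg_im_mul, Matrix.fromBlocks_inj]
  refine ⟨?_, ?_, ?_, ?_⟩
  · rw [Matrix.smul_mul]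
  · rw [Matrix.mul_smul, Matrix.smul_mul, smul_add]
  · rw [add_comm]
  · rw [Matrix.mul_smul, add_comm]

theorem phi_inj (c0 : F) : Function.Injective (Phi d c0) := by
  intro M N h
  unfold Phi at h
  rw [Matrix.fromBlocks_inj] at h
  obtain ⟨h1, -, h3, -⟩ := h
  ext i k
  · have := congrFun (congrFun h1 i) k
    simpa [Matrix.map_apply] using this
  · have := congrFun (congrFun h3 i) k
    simpa [Matrix.map_apply] using this

theorem phi_comm (c0 : F) (M : Matrix (Fin d) (Fin d) (QK c0)) : Phi d c0 M * j0 d c0 = j0 d c0 * Phi d c0 M := by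
  unfold Phi j0
  rw [Matrix.fromBlocks_multiply, Matrix.fromBlocks_multiply, Matrix.fromBlocks_inj]
  simp

end Cfsg.Agent.Lib.helper14.SGU
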