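import Mathlib
import Cfsg.Agent.Lib.helper14.SGUDefs
import Cfsg.Agent.Lib.helper6.SympBasis
import Cfsg.Agent.Lib.Helper20.SGUPHIALG

set_option autoImplicit false
set_option linter.unusedVariables false
set_option linter.unusedSectionVars false

/-!
# Project SGU, row PHISP: if `M` preserves the hermitian form then `Phi M` preserves the symplectic form.
-/

namespace Cfsg.Agent.Lib.helper14.SGU

open Polynomial Module Cfsg.Agent.Lib.Lead.SPU Cfsg.Agent.Lib.Helper19.SPD

variable {F : Type*} [Field F] {d : ℕ}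

/-- the inverse of `iota` -/
def sguphisp_kappa (c0 : F) (u : Fin d ⊕ Fin d → F) : Fin d → QK c0 :=
  fun k => ⟨u (Sum.inl k), u (Sum.inr k)⟩

theorem sguphisp_iota_kappa (c0 : F) (u : Fin d ⊕ Fin d → F) :
    iota d c0 (sguphisp_kappa c0 u) = u := by
  funext x
  cases x with
  | inl i => rfl
  | inr i => rfl

/-- `Phi M (ι a) = ι (M a)` -/
theorem sguphisp_phi_iota (c0 : F) (M : Matrix (Fin d) (Fin d) (QK c0)) (a : Fin d → QK c0) :
    (Phi d c0 M).mulVec (iota d c0 a) = iota d c0 (M.mulVec a) := by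
  funext x
  cases x with
  | inl i =>
    simp only [Matrix.mulVec, dotProduct, Fintype.sum_sum_type, Phi, Matrix.fromBlocks_apply₁₁,
      Matrix.fromBlocks_apply₁₂, iota, Sum.elim_inl, Sum.elim_inr, Matrix.map_apply,
      Matrix.smul_apply, smul_eq_mul, sguphialg_re_sum, QuadraticAlgebra.re_mul,
      Finset.sum_add_distrib]
  | inr i =>
    simp only [Matrix.mulVec, dotProduct, Fintype.sum_sum_type, Phi, Matrix.fromBlocks_apply₂₁,
      Matrix.fromBlocks_apply₂₂, iota, Sum.elim_inl, Sum.elim_inr, Matrix.map_apply,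
      sguphialg_im_sum, QuadraticAlgebra.im_mul, Finset.sum_add_distrib, zero_mul, add_zero]
    rw [add_comm]

/-- `f (ι a, ι b) = im (∑ a_i star (b_i))` -/
theorem sguphisp_symp_iota (c0 : F) [Fact (∀ r : F, r ^ 2 ≠ c0 + 0 * r)] {q : ℕ}
    (hfrob : ∀ z : QK c0, z ^ q = star z) (a b : Fin d → QK c0) :
    Cfsg.sympForm d F (iota d c0 a) (iota d c0 b) = (Cfsg.hermForm d (QK c0) q a b).im := by
  rw [Cfsg.Agent.Lib.helper6.SB.sympForm_eq_sum]
  unfold Cfsg.hermForm
  rw [sguphialg_im_sum]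
  apply Finset.sum_congr rfl
  intro i _
  rw [hfrob, QuadraticAlgebra.im_mul, QuadraticAlgebra.re_star, QuadraticAlgebra.im_star]
  simp only [iota, Sum.elim_inl, Sum.elim_inr]
  ring

/-- PHISP [M] : `Phi M (ι u) = ι (M u)`, `ι` is onto, and `f (ι u, ι w) = im (∑ u_i star (w_i))`
(`f (u, v) = ∑ (u (inr i) v (inl i) - u (inl i) v (inr i))`; check the sign on `d = 1`); with `z ^ q = star z` the hermitian form is `∑ u_i (w_i)^q`. -/
theorem phi_sp (c0 : F) [Fact (∀ r : F, r ^ 2 ≠ c0 + 0 * r)] {q : ℕ} (hfrob : ∀ z : QK c0, z ^ q = star z) (M : Matrix (Fin d) (Fin d) (QK c0))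
    (hM : ∀ u w, Cfsg.hermForm d (QK c0) q (M.mulVec u) (M.mulVec w) = Cfsg.hermForm d (QK c0) q u w) :
    ∀ u w, Cfsg.sympForm d F ((Phi d c0 M).mulVec u) ((Phi d c0 M).mulVec w) = Cfsg.sympForm d F u w := by
  intro u w
  have hu := sguphisp_iota_kappa c0 u
  have hw := sguphisp_iota_kappa c0 w
  rw [← hu, ← hw, sguphisp_phi_iota, sguphisp_phi_iota, sguphisp_symp_iota c0 hfrob,
    sguphisp_symp_iota c0 hfrob, hM]

end Cfsg.Agent.Lib.helper14.SGU
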