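import Mathlib
import Cfsg.Agent.Lib.helper14.SGUDefs

set_option autoImplicit false
set_option linter.unusedVariables false
set_option linter.unusedSectionVars false

/-!
# Project SGU, row NORM: the norm form `α² - c0 β²` represents everything over a finite field of odd order.
-/

namespace Cfsg.Agent.Lib.helper14.SGU

open Polynomial Module Cfsg.Agent.Lib.Lead.SPU Cfsg.Agent.Lib.Helper19.SPD

variable {F : Type*} [Field F] {d : ℕ}

/-- NORM [S-M] : the norm form `α² - c0 β²` represents everything over a finite field of odd order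
(`FiniteField.exists_root_sum_quadratic` with `f = X ^ 2 - C a`, `g = - C c0 * X ^ 2`; or count squares). -/
theorem norm_surj [Fintype F] (hodd : Odd (Fintype.card F)) (c0 a : F) (hc : c0 ≠ 0) :
    ∃ α β : F, α * α - c0 * (β * β) = a := by
  have hf : (X ^ 2 - C a : F[X]).degree = 2 := by
    rw [degree_X_pow_sub_C (by norm_num) a]; rfl
  have hg : (C (-c0) * X ^ 2 : F[X]).degree = 2 := by
    rw [degree_C_mul_X_pow 2 (neg_ne_zero.mpr hc)]; rfl
  obtain ⟨α, β, h⟩ := FiniteField.exists_root_sum_quadratic hf hg (Nat.odd_iff.mp hodd)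
  refine ⟨α, β, ?_⟩
  simp only [eval_sub, eval_pow, eval_X, eval_C, eval_mul] at h
  linear_combination h

end Cfsg.Agent.Lib.helper14.SGU
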