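import Mathlib
import Cfsg.Agent.Lib.helper14.SGUDefs
import Cfsg.Agent.Lib.helper6.Symp

set_option autoImplicit false
set_option linter.unusedVariables false
set_option linter.unusedSectionVars false

/-!
# Project SGU, row QNE: `Q v = f (v, j v)` is not identically zero on a `j`-invariant nondegenerate `U ≠ 0`.
-/

namespace Cfsg.Agent.Lib.helper14.SGU

open Polynomial Module Cfsg.Agent.Lib.Lead.SPU Cfsg.Agent.Lib.Helper19.SPD Cfsg.Agent.Lib.helper6

variable {F : Type*} [Field F] {d : ℕ}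

/-- `B (u, v) = f (u, j v)` is symmetric -/
theorem sguqne_symm {j : Matrix (Fin d ⊕ Fin d) (Fin d ⊕ Fin d) F} {c0 : F} (hJ : JS j c0)
    (u v : Fin d ⊕ Fin d → F) :
    Cfsg.sympForm d F u (j.mulVec v) = Cfsg.sympForm d F v (j.mulVec u) := by
  have h1 := hJ.adj u v
  rw [sympForm_swap d (j.mulVec u) v] at h1
  exact (neg_injective h1).symm

/-- QNE [S-M] : `Q v = f (v, j v)` is not identically zero on a `j`-invariant nondegenerate `U ≠ 0`.
(`B (u, v) = f (u, j v)` is symmetric: `f (u, j v) = - f (j u, v) = f (v, j u)`; if `Q = 0` on `U` then `2 B = 0` on `U` by polarisation,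
so `f (u, j v) = 0` for `u, v ∈ U`; `j U = U` (`j` invertible: `j (j v) = c0 v`), so `f (u, U) = 0`, `u = 0`.) -/
theorem qne {j : Matrix (Fin d ⊕ Fin d) (Fin d ⊕ Fin d) F} {c0 : F} (hJ : JS j c0)
    (U : Submodule F (Fin d ⊕ Fin d → F)) (hUj : ∀ u ∈ U, j.mulVec u ∈ U) (hnd : ND U) (hne : U ≠ ⊥) :
    ∃ v ∈ U, Cfsg.sympForm d F v (j.mulVec v) ≠ 0 := by
  by_contra hcon0
  have hcon : ∀ v ∈ U, Cfsg.sympForm d F v (j.mulVec v) = 0 := by
    intro v hv
    by_contra h
    exact hcon0 ⟨v, hv, h⟩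
  have hc0 : c0 ≠ 0 := by
    intro h0
    exact hJ.nsq 0 (by rw [h0, mul_zero])
  have hjj : ∀ w : Fin d ⊕ Fin d → F, j.mulVec (j.mulVec w) = c0 • w := by
    intro w
    rw [Matrix.mulVec_mulVec, hJ.sq, Matrix.smul_mulVec, Matrix.one_mulVec]
  -- polarisation
  have hB : ∀ u ∈ U, ∀ v ∈ U, Cfsg.sympForm d F u (j.mulVec v) = 0 := by
    intro u hu v hv
    have h1 := hcon (u + v) (U.add_mem hu hv)
    rw [Matrix.mulVec_add, sympForm_add_left, sympForm_add_right, sympForm_add_right,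
      hcon u hu, hcon v hv, sguqne_symm hJ v u, zero_add, add_zero] at h1
    have h2 : (2 : F) * Cfsg.sympForm d F u (j.mulVec v) = 0 := by rw [two_mul]; exact h1
    rcases mul_eq_zero.mp h2 with h' | h'
    · exact absurd h' hJ.two
    · exact h'
  obtain ⟨u, hu, hu0⟩ := (Submodule.ne_bot_iff U).mp hne
  apply hu0
  apply hnd u hu
  intro w hw
  have hw' : w = j.mulVec (c0⁻¹ • j.mulVec w) := by
    rw [Matrix.mulVec_smul, hjj, smul_smul, inv_mul_cancel₀ hc0, one_smul]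
  rw [hw']
  exact hB u hu _ (U.smul_mem _ (hUj w hw))

end Cfsg.Agent.Lib.helper14.SGU
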