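import Mathlib
import Cfsg.Prelude.Def_Blocks
import Cfsg.Agent.Lib.Helper10.SLB.Defs

/-!
# Project SLB, row A03 (helper20): the normaliser of `D` maps `fixW D` into itself.
-/

set_option autoImplicit false

namespace Cfsg.Agent.Lib.Helper10.SLB

universe u

section A

variable {F : Type u} [Field F]

theorem fixW_normalizer (n : ℕ) (D : Subgroup (Matrix.SpecialLinearGroup (Fin n) F))
    (g : Matrix.SpecialLinearGroup (Fin n) F) (hg : g ∈ Subgroup.normalizer (D : Set _))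
    (w : Fin n → F) (hw : w ∈ fixW D) : (g : Matrix (Fin n) (Fin n) F).mulVec w ∈ fixW D := by
  rw [mem_fixW] at hw ⊢
  intro d hd
  -- `g⁻¹ d g ∈ D`
  have h1 : g⁻¹ * d * g ∈ D := by
    have := (Subgroup.mem_normalizer_iff'.1 hg (g⁻¹ * d))
    -- `g * (g⁻¹ d) ∈ D ↔ (g⁻¹ d) * g ∈ D`
    have e : g * (g⁻¹ * d) = d := by group
    rw [e] at this
    exact this.2 hd
  have h2 := hw _ h1
  -- d (g w) = g ((g⁻¹ d g) w)
  have e : (d : Matrix (Fin n) (Fin n) F) * (g : Matrix (Fin n) (Fin n) F) =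
      (g : Matrix (Fin n) (Fin n) F) * ((g⁻¹ * d * g : Matrix.SpecialLinearGroup (Fin n) F) :
        Matrix (Fin n) (Fin n) F) := by
    rw [← Matrix.SpecialLinearGroup.coe_mul, ← Matrix.SpecialLinearGroup.coe_mul]
    congr 1
    rw [← mul_assoc, ← mul_assoc, mul_inv_cancel, one_mul]
  rw [Matrix.mulVec_mulVec, e, ← Matrix.mulVec_mulVec, h2]

end A

end Cfsg.Agent.Lib.Helper10.SLB
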