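import Mathlib
import Cfsg.Prelude.Def_Blocks
import Cfsg.Agent.Lib.Helper10.SLB.Defs

/-!
# Project SLB, row G01 (helper20): `Σ_g a_K(g) a_K'(g) = |S| ω(K, K')`.
-/

set_option autoImplicit false

namespace Cfsg.Agent.Lib.Helper10.SLB

universe u

/-- the map `(g, s, s') ↦ (s, (s g, s' g))`. -/
def slbg01_map {G : Type*} [Group G] (S : Subgroup G) (K K' : Set G) :
    (Σ g : G, {s : S // (s : G) * g ∈ K} × {s : S // (s : G) * g ∈ K'}) →
      S × {yz : G × G // yz.1 ∈ K ∧ yz.2 ∈ K' ∧ yz.2 * yz.1⁻¹ ∈ S} :=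
  fun t => (t.2.1.1, ⟨((t.2.1.1 : G) * t.1, (t.2.2.1 : G) * t.1), t.2.1.2, t.2.2.2, by
    have e : (t.2.2.1 : G) * t.1 * ((t.2.1.1 : G) * t.1)⁻¹ = (t.2.2.1 : G) * (t.2.1.1 : G)⁻¹ := by
      group
    show (t.2.2.1 : G) * t.1 * ((t.2.1.1 : G) * t.1)⁻¹ ∈ S
    rw [e]
    exact S.mul_mem t.2.2.1.2 (S.inv_mem t.2.1.1.2)⟩)

theorem slbg01_bij {G : Type*} [Group G] (S : Subgroup G) (K K' : Set G) :
    Function.Bijective (slbg01_map S K K') := by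
  constructor
  · rintro ⟨g, ⟨s, hs⟩, ⟨s', hs'⟩⟩ ⟨g2, ⟨t, ht⟩, ⟨t', ht'⟩⟩ h
    simp only [slbg01_map, Prod.mk.injEq, Subtype.mk.injEq] at h
    obtain ⟨h1, h2, h3⟩ := h
    subst h1
    have hg : g = g2 := mul_left_cancel h2
    subst hg
    have hs't' : s' = t' := Subtype.ext (mul_right_cancel h3)
    subst hs't'
    rfl
  · rintro ⟨s, ⟨⟨y, z⟩, hy, hz, hS⟩⟩
    refine ⟨⟨(s : G)⁻¹ * y, ⟨s, ?_⟩, ⟨⟨z * y⁻¹ * s, S.mul_mem hS s.2⟩, ?_⟩⟩, ?_⟩
    · show (s : G) * ((s : G)⁻¹ * y) ∈ K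
      rw [mul_inv_cancel_left]
      exact hy
    · show z * y⁻¹ * (s : G) * ((s : G)⁻¹ * y) ∈ K'
      have e : z * y⁻¹ * (s : G) * ((s : G)⁻¹ * y) = z := by group
      rw [e]
      exact hz
    · simp only [slbg01_map]
      refine Prod.ext rfl (Subtype.ext (Prod.ext ?_ ?_))
      · show (s : G) * ((s : G)⁻¹ * y) = y
        rw [mul_inv_cancel_left]
      · show z * y⁻¹ * (s : G) * ((s : G)⁻¹ * y) = z
        group

theorem cnt_sum {G : Type*} [Group G] [Fintype G] (S : Subgroup G) (K K' : Set G) :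
    ∑ g : G, cnt S K g * cnt S K' g = Nat.card S * omega S K K' := by
  have h1 : ∑ g : G, cnt S K g * cnt S K' g =
      Nat.card (Σ g : G, {s : S // (s : G) * g ∈ K} × {s : S // (s : G) * g ∈ K'}) := by
    rw [Nat.card_sigma]
    apply Finset.sum_congr rfl
    intro g _
    rw [Nat.card_prod]
    rfl
  rw [h1, Nat.card_congr (Equiv.ofBijective _ (slbg01_bij S K K')), Nat.card_prod]
  rfl

end Cfsg.Agent.Lib.Helper10.SLB
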