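import Mathlib
import Cfsg.Prelude.Def_Blocks
import Cfsg.Agent.Lib.Helper16.AP3
import Cfsg.Agent.Lib.Helper10.SLB.Defs

/-!
# Project SLB, row L11, core (helper20): at most one block of defect zero in `SL_n(F)`;
the statements of G08, G09 (specialised to `SL_n(F)`), L09, L10 are hypotheses.
-/

set_option autoImplicit false

open Polynomial

namespace Cfsg.Agent.Lib.Helper10.SLB

open Cfsg.Agent.Lib.Helper16.AP

universe u

section L

variable {F : Type u} [Field F]

theorem slbl11_core [Fintype F] (p : ℕ) [Fact p.Prime] [CharP F p] (n : ℕ) (hn : 1 ≤ n)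
    (M : Ideal Cfsg.AlgInt) (hM : Cfsg.IsPModular p M)
    (hG08 : ∀ S : Sylow p (Matrix.SpecialLinearGroup (Fin n) F),
      (∀ C C' : ConjClasses (Matrix.SpecialLinearGroup (Fin n) F), Good p C → Good p C' →
        ∀ g : Matrix.SpecialLinearGroup (Fin n) F,
          cnt (S : Subgroup (Matrix.SpecialLinearGroup (Fin n) F)) C.carrier g ≡
            cnt (S : Subgroup (Matrix.SpecialLinearGroup (Fin n) F)) C'.carrier g [MOD p]) →
      Nat.card {B : Set (Cfsg.IrrCharacter (Matrix.SpecialLinearGroup (Fin n) F)) //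
        Cfsg.IsPBlock M B ∧
          Cfsg.IsDefectGroup p M B (⊥ : Subgroup (Matrix.SpecialLinearGroup (Fin n) F))} ≤ 1)
    (hG09 : ∀ B : Set (Cfsg.IrrCharacter (Matrix.SpecialLinearGroup (Fin n) F)),
      Cfsg.IsPBlock M B →
        (Cfsg.blockDefect p B = 0 ↔
          Cfsg.IsDefectGroup p M B (⊥ : Subgroup (Matrix.SpecialLinearGroup (Fin n) F))))
    (hL09 : ∀ C C' : ConjClasses (Matrix.SpecialLinearGroup (Fin n) F), Good p C → Good p C' →
      ∀ g : Matrix.SpecialLinearGroup (Fin n) F,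
        cnt (UT n F) C.carrier g ≡ cnt (UT n F) C'.carrier g [MOD p])
    (hL10 : ∃ S : Sylow p (Matrix.SpecialLinearGroup (Fin n) F),
      (S : Subgroup (Matrix.SpecialLinearGroup (Fin n) F)) = UT n F) :
    Nat.card {B : Set (Cfsg.IrrCharacter (Matrix.SpecialLinearGroup (Fin n) F)) //
      Cfsg.IsPBlock M B ∧ Cfsg.blockDefect p B = 0} ≤ 1 := by
  obtain ⟨S, hS⟩ := hL10
  have h1 := hG08 S (by
    intro C C' hC hC' g
    rw [hS]
    exact hL09 C C' hC hC' g)
  have e : Nat.card {B : Set (Cfsg.IrrCharacter (Matrix.SpecialLinearGroup (Fin n) F)) //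
      Cfsg.IsPBlock M B ∧ Cfsg.blockDefect p B = 0} =
      Nat.card {B : Set (Cfsg.IrrCharacter (Matrix.SpecialLinearGroup (Fin n) F)) //
        Cfsg.IsPBlock M B ∧
          Cfsg.IsDefectGroup p M B (⊥ : Subgroup (Matrix.SpecialLinearGroup (Fin n) F))} :=
    Nat.card_congr (Equiv.subtypeEquivRight (fun B => and_congr_right (fun hB => hG09 B hB)))
  rw [e]
  exact h1

end L

end Cfsg.Agent.Lib.Helper10.SLB
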