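import Mathlib
import Cfsg.Agent.Lib.helper7.SPC.Defs

/-!
# Project SPC, row K1 (`ker_iso`): isomorphic triples have kernels of the same dimension.
-/

set_option autoImplicit false

namespace Cfsg.Agent.Lib.helper7.SPC

universe u

open Module

variable {F : Type u} [Field F]

/-- an equivalence intertwining `N` and `N'` intertwines their powers -/
theorem spck1_pow {V V' : Type u} [AddCommGroup V] [Module F V] [AddCommGroup V'] [Module F V']
    (e : V ≃ₗ[F] V') (N : V →ₗ[F] V) (N' : V' →ₗ[F] V') (h : ∀ x, e (N x) = N' (e x)) (i : ℕ)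
    (x : V) : e ((N ^ i) x) = (N' ^ i) (e x) := by
  induction i generalizing x with
  | zero => rfl
  | succ i ih =>
    rw [pow_succ, pow_succ, Module.End.mul_apply, Module.End.mul_apply, ih, h]

/-- conjugate endomorphisms have kernels of the same dimension -/
theorem spck1_conj {V V' : Type u} [AddCommGroup V] [Module F V] [AddCommGroup V'] [Module F V']
    (e : V ≃ₗ[F] V') (N : V →ₗ[F] V) (N' : V' →ₗ[F] V') (h : ∀ x, e (N x) = N' (e x)) (i : ℕ) :
    finrank F (LinearMap.ker (N ^ i)) = finrank F (LinearMap.ker (N' ^ i)) := by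
  have hmap : (LinearMap.ker (N ^ i)).map (e : V →ₗ[F] V') = LinearMap.ker (N' ^ i) := by
    ext y
    rw [Submodule.mem_map, LinearMap.mem_ker]
    constructor
    · rintro ⟨x, hx, rfl⟩
      rw [LinearMap.mem_ker] at hx
      show (N' ^ i) (e x) = 0
      rw [← spck1_pow e N N' h, hx, map_zero]
    · intro hy
      refine ⟨e.symm y, ?_, e.apply_symm_apply y⟩
      rw [LinearMap.mem_ker]
      apply e.injective
      rw [spck1_pow e N N' h, e.apply_symm_apply, hy, map_zero]
  rw [← hmap]
  exact (LinearEquiv.finrank_map_eq e _).symm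

/-- K1 [S]: `e` maps `ker (T.N ^ i)` onto `ker (T'.N ^ i)` (`e ∘ N^i = N'^i ∘ e` by induction; `LinearEquiv.finrank_eq` of the restricted equivalence, or `Submodule.map`/`LinearEquiv.submoduleMap`). -/
theorem ker_iso {T T' : Trip F} (h : TIso T T') (i : ℕ) :
    finrank F (LinearMap.ker (T.N ^ i)) = finrank F (LinearMap.ker (T'.N ^ i)) := by
  obtain ⟨e, _, hN⟩ := h
  exact spck1_conj e T.N T'.N hN i

end Cfsg.Agent.Lib.helper7.SPC
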