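import Mathlib
import Cfsg.Agent.Lib.helper7.SPC.Defs

/-!
# Project SPC, row K2 (`ker_sum`): the kernel dimensions are additive over orthogonal sums.
-/

set_option autoImplicit false

namespace Cfsg.Agent.Lib.helper7.SPC

universe u

open Module

variable {F : Type u} [Field F]

theorem spck2_prodMap_pow {V V' : Type u} [AddCommGroup V] [Module F V] [AddCommGroup V']
    [Module F V'] (f : V →ₗ[F] V) (g : V' →ₗ[F] V') (i : ℕ) :
    (LinearMap.prodMap f g) ^ i = LinearMap.prodMap (f ^ i) (g ^ i) := by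
  induction i with
  | zero => rfl
  | succ i ih => rw [pow_succ, pow_succ, pow_succ, ih, LinearMap.prodMap_mul]

/-- the product of two submodules as a product type -/
def spck2_prodEquiv {V V' : Type u} [AddCommGroup V] [Module F V] [AddCommGroup V'] [Module F V']
    (p : Submodule F V) (q : Submodule F V') : ↥(p.prod q) ≃ₗ[F] ↥p × ↥q where
  toFun x := (⟨x.1.1, x.2.1⟩, ⟨x.1.2, x.2.2⟩)
  invFun y := ⟨(y.1.1, y.2.1), ⟨y.1.2, y.2.2⟩⟩
  map_add' := fun _ _ => rfl
  map_smul' := fun _ _ => rfl
  left_inv := fun _ => rfl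
  right_inv := fun _ => rfl

/-- additivity of the kernel dimension for `prodMap` -/
theorem spck2_prod {V V' : Type u} [AddCommGroup V] [Module F V] [AddCommGroup V'] [Module F V']
    [FiniteDimensional F V] [FiniteDimensional F V']
    (f : V →ₗ[F] V) (g : V' →ₗ[F] V') (i : ℕ) :
    finrank F (LinearMap.ker ((LinearMap.prodMap f g) ^ i)) =
      finrank F (LinearMap.ker (f ^ i)) + finrank F (LinearMap.ker (g ^ i)) := by
  rw [spck2_prodMap_pow, LinearMap.ker_prodMap,
    LinearEquiv.finrank_eq (spck2_prodEquiv (LinearMap.ker (f ^ i)) (LinearMap.ker (g ^ i))),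
    Module.finrank_prod]

/-- K2 [S-M]: `(prodMap f g) ^ i = prodMap (f ^ i) (g ^ i)` (`LinearMap.prodMap_pow`/induction), `LinearMap.ker_prodMap`, `Submodule.finrank_prod`-type lemma (`LinearMap.ker (prodMap f g) = (ker f).prod (ker g)`). -/
theorem ker_sum (T T' : Trip F) (i : ℕ) :
    finrank F (LinearMap.ker ((TSum T T').N ^ i)) =
      finrank F (LinearMap.ker (T.N ^ i)) + finrank F (LinearMap.ker (T'.N ^ i)) :=
  spck2_prod T.N T'.N i

end Cfsg.Agent.Lib.helper7.SPC
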