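import Mathlib
import Cfsg.Agent.Lib.helper7.SPC.Defs
import Cfsg.Agent.Lib.Helper20.SPCK1
import Cfsg.Agent.Lib.Helper20.SPCK2

/-!
# Project SPC, row K3 (`ker_blkA`, `ker_blkH`): the kernels of the powers of the shift.

`(shiftM k F ^ a) i j = [i = j + a]`; the kernel of `shiftM ^ a` consists of the vectors `v` with `v b = 0` for `b + a < k`, and is equivalent to the
functions on `{b | k ≤ b + a}`, a set with `min a k` elements.
-/

set_option autoImplicit false

namespace Cfsg.Agent.Lib.helper7.SPC

universe u

open Module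

variable {F : Type u} [Field F]

theorem spck3_shift_apply (k : ℕ) (i j : Fin k) :
    shiftM k F i j = if i.val = j.val + 1 then 1 else 0 := rfl

/-- the powers of the shift matrix -/
theorem spck3_pow (k a : ℕ) (i j : Fin k) :
    (shiftM k F ^ a) i j = if i.val = j.val + a then 1 else 0 := by
  induction a generalizing i j with
  | zero =>
    rw [pow_zero, Matrix.one_apply]
    by_cases h : i = j
    · rw [if_pos h, if_pos (by rw [h, add_zero])]
    · rw [if_neg h, if_neg (fun e => h (Fin.ext (by rw [e, add_zero])))]
  | succ a ih =>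
    rw [pow_succ, Matrix.mul_apply]
    by_cases h : j.val + 1 < k
    · rw [Finset.sum_eq_single (⟨j.val + 1, h⟩ : Fin k)]
      · rw [ih, spck3_shift_apply, if_pos rfl, mul_one]
        by_cases h1 : i.val = j.val + (a + 1)
        · rw [if_pos h1, if_pos (by show i.val = j.val + 1 + a; omega)]
        · rw [if_neg h1, if_neg (by show ¬ i.val = j.val + 1 + a; omega)]
      · intro l _ hl
        rw [spck3_shift_apply, if_neg (fun e => hl (Fin.ext e)), mul_zero]
      · intro hh
        exact absurd (Finset.mem_univ _) hh
    · rw [if_neg (by have := i.2; omega)]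
      apply Finset.sum_eq_zero
      intro l _
      rw [spck3_shift_apply, if_neg (by have := l.2; omega), mul_zero]

/-- the action of the powers of the shift -/
theorem spck3_mulVec (k a : ℕ) (v : Fin k → F) (i : Fin k) :
    ((shiftM k F ^ a).mulVec v) i =
      if h : a ≤ i.val then v ⟨i.val - a, lt_of_le_of_lt (Nat.sub_le _ _) i.2⟩ else 0 := by
  show ∑ j, (shiftM k F ^ a) i j * v j = _
  by_cases h : a ≤ i.val
  · rw [dif_pos h, Finset.sum_eq_single (⟨i.val - a, lt_of_le_of_lt (Nat.sub_le _ _) i.2⟩ : Fin k)]
    · rw [spck3_pow, if_pos (by show i.val = i.val - a + a; omega), one_mul]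
    · intro l _ hl
      rw [spck3_pow, if_neg, zero_mul]
      intro e
      apply hl
      apply Fin.ext
      show l.val = i.val - a
      omega
    · intro hh
      exact absurd (Finset.mem_univ _) hh
  · rw [dif_neg h]
    apply Finset.sum_eq_zero
    intro l _
    rw [spck3_pow, if_neg (by omega), zero_mul]

/-- the kernel of a power of the shift -/
theorem spck3_ker (k a : ℕ) :
    LinearMap.ker ((Matrix.toLin' (shiftM k F)) ^ a) =
      ⨅ b ∈ {b : Fin k | b.val + a < k},
        LinearMap.ker (LinearMap.proj b : (Fin k → F) →ₗ[F] F) := by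
  ext v
  rw [LinearMap.mem_ker, ← Matrix.toLin'_pow, Matrix.toLin'_apply]
  simp only [Submodule.mem_iInf, LinearMap.mem_ker, LinearMap.proj_apply, Set.mem_ofPred_eq]
  constructor
  · intro h b hb
    have h1 := congrFun h ⟨b.val + a, hb⟩
    rw [spck3_mulVec, dif_pos (by show a ≤ b.val + a; omega)] at h1
    have e : (⟨(⟨b.val + a, hb⟩ : Fin k).val - a, lt_of_le_of_lt (Nat.sub_le _ _) hb⟩ : Fin k) = b := by
      apply Fin.ext
      show b.val + a - a = b.val
      omega
    rw [e] at h1
    exact h1
  · intro h'
    funext i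
    rw [spck3_mulVec]
    by_cases h1 : a ≤ i.val
    · rw [dif_pos h1]
      apply h'
      show i.val - a + a < k
      have := i.2
      omega
    · rw [dif_neg h1]
      rfl

/-- the complementary index set has `min a k` elements -/
def spck3_equiv (k a : ℕ) : Fin (min a k) ≃ {b : Fin k // k ≤ b.val + a} where
  toFun j := ⟨⟨k - min a k + j.val, by have := j.2; omega⟩, by
    show k ≤ k - min a k + j.val + a
    have := j.2
    omega⟩
  invFun b := ⟨b.1.val - (k - min a k), by
    have h1 := b.2
    have h2 := b.1.2
    omega⟩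
  left_inv j := by
    apply Fin.ext
    show k - min a k + j.val - (k - min a k) = j.val
    omega
  right_inv b := by
    apply Subtype.ext
    apply Fin.ext
    show k - min a k + (b.1.val - (k - min a k)) = b.1.val
    have h1 := b.2
    have h2 := b.1.2
    omega

theorem spck3_finrank (k a : ℕ) :
    finrank F (LinearMap.ker ((Matrix.toLin' (shiftM k F)) ^ a)) = min a k := by
  classical
  rw [spck3_ker]
  have hd : Disjoint {b : Fin k | k ≤ b.val + a} {b : Fin k | b.val + a < k} := by
    rw [Set.disjoint_left]
    intro b h1 h2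
    simp only [Set.mem_ofPred_eq] at h1 h2
    omega
  have hu : Set.univ ⊆ {b : Fin k | k ≤ b.val + a} ∪ {b : Fin k | b.val + a < k} := by
    intro b _
    simp only [Set.mem_union, Set.mem_ofPred_eq]
    omega
  rw [LinearEquiv.finrank_eq (LinearMap.iInfKerProjEquiv F (fun _ : Fin k => F) hd hu),
    Module.finrank_pi]
  exact (Fintype.card_eq.mpr ⟨(spck3_equiv k a).symm⟩).trans (Fintype.card_fin _)

/-- K3 [M]: `(shiftM k F ^ i) a b = if a = b + i then 1 else 0`; `ker` = the vectors supported on the last `min i k` coordinates; or `rank (shiftM ^ i) = k - i` and rank-nullity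
(`Cfsg.Agent.Lib.Helper16` JS3/JS6 have `Lm` = `shiftM` with `Lm_pow_eq_zero`, `rank_Nm_pow`). -/
theorem ker_blkA (k : ℕ) (c : F) (i : ℕ) :
    finrank F (LinearMap.ker ((blkA k c).N ^ i)) = min i k :=
  spck3_finrank k i

theorem ker_blkH (k : ℕ) (i : ℕ) :
    finrank F (LinearMap.ker ((blkH k F).N ^ i)) = min i k + min i k := by
  have h1 := spck1_conj (F := F) (LinearEquiv.sumArrowLequivProdArrow (Fin k) (Fin k) F F)
    (blkH k F).N (LinearMap.prodMap (Matrix.toLin' (shiftM k F)) (Matrix.toLin' (shiftM k F)))
    (by
      intro x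
      show LinearEquiv.sumArrowLequivProdArrow (Fin k) (Fin k) F F
        (Matrix.toLin' (Matrix.fromBlocks (shiftM k F) 0 0 (shiftM k F)) x) = _
      rw [Matrix.toLin'_apply, Matrix.fromBlocks_mulVec]
      apply Prod.ext
      · funext a
        simp [LinearEquiv.sumArrowLequivProdArrow, Matrix.toLin'_apply]
        rfl
      · funext a
        simp [LinearEquiv.sumArrowLequivProdArrow, Matrix.toLin'_apply]
        rfl) i
  refine Eq.trans h1 ?_
  rw [spck2_prod, spck3_finrank]

end Cfsg.Agent.Lib.helper7.SPC
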