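import Mathlib
import Cfsg.Prelude.Def_OddOrderLocal
import Cfsg.Agent.Lib.Helper10.FittingHall
import Cfsg.Agent.Lib.Helper10.TypeP
import Cfsg.Agent.Lib.Helper11.CNNormalSylow

set_option autoImplicit false

namespace Cfsg.Agent.Lib.Helper20.TypeF

section basics

variable {G : Type*} [Group G]

theorem mem_fittingHallOf_iff (M : Subgroup G) (g : G) :
    g ∈ Cfsg.fittingHallOf M ↔ ∃ h : g ∈ M, (⟨g, h⟩ : ↥M) ∈ Cfsg.fittingHall ↥M := by
  unfold Cfsg.fittingHallOf
  constructor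
  · rintro ⟨y, hy, rfl⟩
    exact ⟨y.2, hy⟩
  · rintro ⟨h, hy⟩
    exact ⟨⟨g, h⟩, hy, rfl⟩

theorem coe_mem_fittingHallOf (M : Subgroup G) (x : ↥M) :
    (x : G) ∈ Cfsg.fittingHallOf M ↔ x ∈ Cfsg.fittingHall ↥M := by
  rw [mem_fittingHallOf_iff]
  constructor
  · rintro ⟨_, h⟩
    exact h
  · intro h
    exact ⟨x.2, h⟩

theorem fittingHallOf_subgroupOf (M : Subgroup G) :
    (Cfsg.fittingHallOf M).subgroupOf M = Cfsg.fittingHall ↥M := by
  ext x
  rw [Subgroup.mem_subgroupOf]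
  exact coe_mem_fittingHallOf M x

theorem map_subgroupOf_of_le {A M : Subgroup G} (h : A ≤ M) :
    (A.subgroupOf M).map M.subtype = A := by
  rw [Subgroup.map_subgroupOf_eq_of_le h]

/-- The isomorphism class of `fittingHall` is transported by group isomorphisms. -/
theorem fittingHall_map_le {A B : Type*} [Group A] [Group B] (e : A ≃* B) :
    (Cfsg.fittingHall A).map e.toMonoidHom ≤ Cfsg.fittingHall B := by
  rw [Subgroup.map_le_iff_le_comap]
  unfold Cfsg.fittingHall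
  apply sSup_le
  rintro N ⟨hN1, hN2, hN3⟩
  rw [← Subgroup.map_le_iff_le_comap]
  apply le_sSup
  refine ⟨?_, ?_, ?_⟩
  · exact hN1.map e.toMonoidHom e.surjective
  · have e' : ↥N ≃* ↥(N.map e.toMonoidHom) := N.equivMapOfInjective e.toMonoidHom e.injective
    haveI := hN2
    exact Group.nilpotent_of_mulEquiv e'
  · have h1 : Nat.card ↥(N.map e.toMonoidHom) = Nat.card ↥N :=
      Subgroup.card_map_of_injective e.injective
    have h2 : (N.map e.toMonoidHom).index = N.index := by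
      exact Subgroup.index_map_equiv N e
    rw [h1, h2]
    exact hN3

theorem fittingHall_map_eq {A B : Type*} [Group A] [Group B] (e : A ≃* B) :
    (Cfsg.fittingHall A).map e.toMonoidHom = Cfsg.fittingHall B := by
  apply le_antisymm (fittingHall_map_le e)
  have h := fittingHall_map_le e.symm
  intro b hb
  have : e.symm b ∈ Cfsg.fittingHall A := h ⟨b, hb, rfl⟩
  exact ⟨e.symm b, this, by simp⟩

end basics

section transfer

variable {G : Type*} [Group G]

theorem exponent_subgroupOf {A M : Subgroup G} (h : A ≤ M) :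
    Monoid.exponent ↥(A.subgroupOf M) = Monoid.exponent ↥A :=
  Monoid.exponent_eq_of_mulEquiv (Subgroup.subgroupOfEquivOfLe h)

theorem isMulCommutative_subgroupOf (A M : Subgroup G) (hA : IsMulCommutative ↥A) :
    IsMulCommutative ↥(A.subgroupOf M) := by
  refine ⟨⟨fun x y => ?_⟩⟩
  have h := hA.is_comm.comm ⟨(x.1 : G), Subgroup.mem_subgroupOf.mp x.2⟩
    ⟨(y.1 : G), Subgroup.mem_subgroupOf.mp y.2⟩
  apply Subtype.ext
  apply Subtype.ext
  simpa using congrArg Subtype.val h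

/-- (T1) transfer: Frobenius-type data given by subgroups of `G` inside `M` gives `IsOfTypeF ↥M`. -/
theorem isOfTypeF_of_subgroups [Finite G] (M U U₁ U₀ : Subgroup G)
    (hsolv : Group.IsSolvable ↥M) (hodd : Odd (Nat.card ↥M))
    (hH1 : Cfsg.fittingHallOf M ≠ ⊥) (hHM : Cfsg.fittingHallOf M ≠ M)
    (hU1 : U ≠ ⊥) (hcompl : Cfsg.IsComplIn (Cfsg.fittingHallOf M) U M)
    (hU₁le : U₁ ≤ U) (hU₁n : U ≤ Subgroup.normalizer (U₁ : Set G)) (hU₁c : IsMulCommutative ↥U₁)
    (hU₁ : ∀ x ∈ Cfsg.fittingHallOf M, x ≠ 1 → U ⊓ Subgroup.centralizer ({x} : Set G) ≤ U₁)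
    (hU₀le : U₀ ≤ U) (hexp : Monoid.exponent ↥U₀ = Monoid.exponent ↥U)
    (hU₀ : ∀ u ∈ U₀, u ≠ 1 → ∀ x ∈ Cfsg.fittingHallOf M, u * x = x * u → x = 1) :
    Cfsg.IsOfTypeF ↥M := by
  obtain ⟨hHle, hUle, hdisj, hfac⟩ := hcompl
  refine ⟨hsolv, hodd, ?_, ?_, U.subgroupOf M, ?_, ?_, ⟨U₁.subgroupOf M, ?_, ?_, ?_, ?_⟩,
    ⟨U₀.subgroupOf M, ?_, ?_, ?_⟩⟩
  · intro h
    apply hH1
    unfold Cfsg.fittingHallOf
    rw [h, Subgroup.map_bot]
  · intro h
    apply hHM
    unfold Cfsg.fittingHallOf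
    rw [h, ← MonoidHom.range_eq_map, Subgroup.range_subtype]
  · intro h
    apply hU1
    rw [Subgroup.subgroupOf_eq_bot] at h
    rw [eq_bot_iff]
    intro u hu
    have := (Subgroup.disjoint_def.mp h) hu (hUle hu)
    rw [Subgroup.mem_bot]
    exact this
  · apply Subgroup.isComplement'_of_disjoint_and_mul_eq_univ
    · rw [Subgroup.disjoint_def]
      intro x hx1 hx2
      have h1 : (x : G) ∈ Cfsg.fittingHallOf M := (coe_mem_fittingHallOf M x).mpr hx1
      have h2 : (x : G) ∈ U := Subgroup.mem_subgroupOf.mp hx2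
      have h3 : (x : G) ∈ Cfsg.fittingHallOf M ⊓ U := ⟨h1, h2⟩
      rw [hdisj, Subgroup.mem_bot] at h3
      exact Subtype.ext h3
    · rw [Set.eq_univ_iff_forall]
      intro m
      obtain ⟨a, ha, b, hb, hm⟩ := hfac m.1 m.2
      rw [Set.mem_mul]
      refine ⟨⟨a, hHle ha⟩, ?_, ⟨b, hUle hb⟩, ?_, ?_⟩
      · exact (coe_mem_fittingHallOf M ⟨a, hHle ha⟩).mp ha
      · exact Subgroup.mem_subgroupOf.mpr hb
      · exact Subtype.ext hm.symm
  · intro x hx
    exact Subgroup.mem_subgroupOf.mpr (hU₁le (Subgroup.mem_subgroupOf.mp hx))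
  · intro u hu
    have hn := hU₁n (Subgroup.mem_subgroupOf.mp hu)
    rw [Subgroup.mem_normalizer_iff] at hn ⊢
    intro h
    have := hn (h : G)
    show h ∈ U₁.subgroupOf M ↔ u * h * u⁻¹ ∈ U₁.subgroupOf M
    rw [Subgroup.mem_subgroupOf, Subgroup.mem_subgroupOf]
    simpa using this
  · exact isMulCommutative_subgroupOf U₁ M hU₁c
  · intro x hx hx1 u hu
    obtain ⟨hu1, hu2⟩ := hu
    apply Subgroup.mem_subgroupOf.mpr
    apply hU₁ (x : G) ((coe_mem_fittingHallOf M x).mpr hx)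
    · intro h
      exact hx1 (Subtype.ext h)
    · refine ⟨Subgroup.mem_subgroupOf.mp hu1, ?_⟩
      show (u : G) ∈ Subgroup.centralizer ({(x : G)} : Set G)
      rw [Subgroup.mem_centralizer_iff]
      intro y hy
      rw [Set.mem_singleton_iff] at hy
      subst hy
      have h2 := (Subgroup.mem_centralizer_iff.mp hu2) x (Set.mem_singleton x)
      simpa using congrArg Subtype.val h2
  · intro x hx
    exact Subgroup.mem_subgroupOf.mpr (hU₀le (Subgroup.mem_subgroupOf.mp hx))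
  · rw [exponent_subgroupOf (hU₀le.trans hUle), exponent_subgroupOf hUle]
    exact hexp
  · intro u hu hu1 x hx hcomm
    have h1 := hU₀ (u : G) (Subgroup.mem_subgroupOf.mp hu) (fun h => hu1 (Subtype.ext h)) (x : G)
      ((coe_mem_fittingHallOf M x).mpr hx) (by simpa using congrArg Subtype.val hcomm)
    exact Subtype.ext h1

theorem isComplement'_of_isComplIn (M U : Subgroup G)
    (hcompl : Cfsg.IsComplIn (Cfsg.fittingHallOf M) U M) :
    Subgroup.IsComplement' (Cfsg.fittingHall ↥M) (U.subgroupOf M) := by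
  obtain ⟨hHle, hUle, hdisj, hfac⟩ := hcompl
  apply Subgroup.isComplement'_of_disjoint_and_mul_eq_univ
  · rw [Subgroup.disjoint_def]
    intro x hx1 hx2
    have h1 : (x : G) ∈ Cfsg.fittingHallOf M := (coe_mem_fittingHallOf M x).mpr hx1
    have h2 : (x : G) ∈ U := Subgroup.mem_subgroupOf.mp hx2
    have h3 : (x : G) ∈ Cfsg.fittingHallOf M ⊓ U := ⟨h1, h2⟩
    rw [hdisj, Subgroup.mem_bot] at h3
    exact Subtype.ext h3
  · rw [Set.eq_univ_iff_forall]
    intro m
    obtain ⟨a, ha, b, hb, hm⟩ := hfac m.1 m.2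
    rw [Set.mem_mul]
    refine ⟨⟨a, hHle ha⟩, ?_, ⟨b, hUle hb⟩, ?_, ?_⟩
    · exact (coe_mem_fittingHallOf M ⟨a, hHle ha⟩).mp ha
    · exact Subgroup.mem_subgroupOf.mpr hb
    · exact Subtype.ext hm.symm

/-- (T4) the exponent of `M / M_F` is the exponent of a complement. -/
theorem exponent_quotient_fittingHall (M U : Subgroup G)
    (hcompl : Cfsg.IsComplIn (Cfsg.fittingHallOf M) U M) :
    Monoid.exponent (↥M ⧸ Cfsg.fittingHall ↥M) = Monoid.exponent ↥U := by
  have hc := isComplement'_of_isComplIn M U hcompl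
  rw [Monoid.exponent_eq_of_mulEquiv (hc.symm.QuotientMulEquiv), exponent_subgroupOf hcompl.2.1]

theorem exponent_map_subtype (M : Subgroup G) (A : Subgroup ↥M) :
    Monoid.exponent ↥(A.map M.subtype) = Monoid.exponent ↥A :=
  (Monoid.exponent_eq_of_mulEquiv (A.equivMapOfInjective M.subtype M.subtype_injective)).symm

theorem mem_map_subtype_iff (M : Subgroup G) (A : Subgroup ↥M) (g : G) :
    g ∈ A.map M.subtype ↔ ∃ h : g ∈ M, (⟨g, h⟩ : ↥M) ∈ A := by
  constructor
  · rintro ⟨y, hy, rfl⟩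
    exact ⟨y.2, hy⟩
  · rintro ⟨h, hy⟩
    exact ⟨⟨g, h⟩, hy, rfl⟩

theorem coe_mem_map_subtype_iff (M : Subgroup G) (A : Subgroup ↥M) (x : ↥M) :
    (x : G) ∈ A.map M.subtype ↔ x ∈ A := by
  rw [mem_map_subtype_iff]
  constructor
  · rintro ⟨_, h⟩
    exact h
  · intro h
    exact ⟨x.2, h⟩

/-- (T2) converse transfer: unpack `IsOfTypeF ↥M` into subgroups of `G`. -/
theorem subgroups_of_isOfTypeF [Finite G] (M : Subgroup G)
    (h : Cfsg.IsOfTypeF ↥M) :
    Group.IsSolvable ↥M ∧ Odd (Nat.card ↥M) ∧ Cfsg.fittingHallOf M ≠ ⊥ ∧ Cfsg.fittingHallOf M ≠ M ∧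
    ∃ U U₁ U₀ : Subgroup G, U ≠ ⊥ ∧ Cfsg.IsComplIn (Cfsg.fittingHallOf M) U M ∧
      U₁ ≤ U ∧ U ≤ Subgroup.normalizer (U₁ : Set G) ∧ IsMulCommutative ↥U₁ ∧
      (∀ x ∈ Cfsg.fittingHallOf M, x ≠ 1 → U ⊓ Subgroup.centralizer ({x} : Set G) ≤ U₁) ∧
      U₀ ≤ U ∧ Monoid.exponent ↥U₀ = Monoid.exponent ↥U ∧
      ∀ u ∈ U₀, u ≠ 1 → ∀ x ∈ Cfsg.fittingHallOf M, u * x = x * u → x = 1 := by
  obtain ⟨hsolv, hodd, hF1, hF2, U', hU'1, hcompl, ⟨U₁', h1le, h1n, h1c, h1⟩,
    ⟨U₀', h0le, h0exp, h0⟩⟩ := h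
  refine ⟨hsolv, hodd, ?_, ?_, U'.map M.subtype, U₁'.map M.subtype, U₀'.map M.subtype, ?_, ?_, ?_,
    ?_, ?_, ?_, ?_, ?_, ?_⟩
  · intro h
    apply hF1
    unfold Cfsg.fittingHallOf at h
    exact (Subgroup.map_eq_bot_iff_of_injective _ M.subtype_injective).mp h
  · intro h
    apply hF2
    rw [eq_top_iff]
    intro x _
    apply (coe_mem_fittingHallOf M x).mp
    rw [h]
    exact x.2
  · intro h
    apply hU'1
    exact (Subgroup.map_eq_bot_iff_of_injective _ M.subtype_injective).mp h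
  · refine ⟨Cfsg.Agent.Lib.Helper10.fittingHallOf_le M, Subgroup.map_subtype_le _, ?_, ?_⟩
    · rw [eq_bot_iff]
      intro g hg
      obtain ⟨hg1, hg2⟩ := hg
      obtain ⟨hgM, hgF⟩ := (mem_fittingHallOf_iff M g).mp hg1
      obtain ⟨_, hgU⟩ := (mem_map_subtype_iff M U' g).mp hg2
      have := (Subgroup.disjoint_def.mp hcompl.disjoint) hgF hgU
      rw [Subgroup.mem_bot]
      exact congrArg Subtype.val this
    · intro m hm
      obtain ⟨⟨a, b⟩, hab⟩ := hcompl.2 ⟨m, hm⟩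
      refine ⟨(a : ↥M), (coe_mem_fittingHallOf M a).mpr a.2, (b : ↥M),
        (coe_mem_map_subtype_iff M U' b).mpr b.2, ?_⟩
      have := congrArg Subtype.val hab
      simpa using this.symm
  · exact Subgroup.map_mono h1le
  · intro g hg
    obtain ⟨hgM, hgU⟩ := (mem_map_subtype_iff M U' g).mp hg
    have hn := h1n hgU
    have hn' := h1n (U'.inv_mem hgU)
    rw [Subgroup.mem_normalizer_iff] at hn hn' ⊢
    intro k
    show k ∈ U₁'.map M.subtype ↔ g * k * g⁻¹ ∈ U₁'.map M.subtype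
    constructor
    · intro hk
      obtain ⟨hkM, hkU⟩ := (mem_map_subtype_iff M U₁' k).mp hk
      have := (hn ⟨k, hkM⟩).mp hkU
      exact (coe_mem_map_subtype_iff M U₁' _).mpr this
    · intro hk
      obtain ⟨hkM, hkU⟩ := (mem_map_subtype_iff M U₁' _).mp hk
      have := (hn' ⟨g * k * g⁻¹, hkM⟩).mp hkU
      have h2 := (coe_mem_map_subtype_iff M U₁' _).mpr this
      have e : ((⟨g, hgM⟩⁻¹ * ⟨g * k * g⁻¹, hkM⟩ * (⟨g, hgM⟩⁻¹)⁻¹ : ↥M) : G) = k := by
        simp only [Subgroup.coe_mul, Subgroup.coe_inv]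
        group
      rwa [e] at h2
  · refine ⟨⟨fun x y => ?_⟩⟩
    obtain ⟨x', hx', hxe⟩ := x.2
    obtain ⟨y', hy', hye⟩ := y.2
    have hc := h1c.is_comm.comm ⟨x', hx'⟩ ⟨y', hy'⟩
    have hc' : x' * y' = y' * x' := congrArg Subtype.val hc
    apply Subtype.ext
    show (x : G) * (y : G) = (y : G) * (x : G)
    rw [← hxe, ← hye]
    simpa using congrArg Subtype.val hc'
  · intro x hx hx1 g hg
    obtain ⟨hg1, hg2⟩ := hg
    obtain ⟨hxM, hxF⟩ := (mem_fittingHallOf_iff M x).mp hx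
    obtain ⟨hgM, hgU⟩ := (mem_map_subtype_iff M U' g).mp hg1
    apply (mem_map_subtype_iff M U₁' g).mpr
    refine ⟨hgM, ?_⟩
    apply h1 ⟨x, hxM⟩ hxF (fun h => hx1 (congrArg Subtype.val h))
    refine ⟨hgU, ?_⟩
    show (⟨g, hgM⟩ : ↥M) ∈ Subgroup.centralizer ({⟨x, hxM⟩} : Set ↥M)
    rw [Subgroup.mem_centralizer_iff]
    intro y hy
    rw [Set.mem_singleton_iff] at hy
    subst hy
    have h2 := (Subgroup.mem_centralizer_iff.mp hg2) x (Set.mem_singleton x)
    exact Subtype.ext h2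
  · exact Subgroup.map_mono h0le
  · rw [exponent_map_subtype, exponent_map_subtype]
    exact h0exp
  · intro u hu hu1 x hx hcomm
    obtain ⟨huM, huU⟩ := (mem_map_subtype_iff M U₀' u).mp hu
    obtain ⟨hxM, hxF⟩ := (mem_fittingHallOf_iff M x).mp hx
    have := h0 ⟨u, huM⟩ huU (fun h => hu1 (congrArg Subtype.val h)) ⟨x, hxM⟩ hxF
      (Subtype.ext hcomm)
    exact congrArg Subtype.val this

end transfer

section hall

variable {G : Type*} [Group G]

/-- Conjugation by an element normalizing `N`, as an automorphism of `↥N`. -/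
def conjEquivOfMemNormalizer (N : Subgroup G) (m : G)
    (hm : m ∈ Subgroup.normalizer (N : Set G)) : ↥N ≃* ↥N where
  toFun y := ⟨m * y * m⁻¹, ((Subgroup.mem_normalizer_iff.mp hm) (y : G)).mp y.2⟩
  invFun y := ⟨m⁻¹ * y * m, by
    have h := (Subgroup.mem_normalizer_iff.mp
      ((Subgroup.normalizer (N : Set G)).inv_mem hm)) (y : G)
    have h2 := h.mp y.2
    simpa using h2⟩
  left_inv y := by
    apply Subtype.ext
    simp only
    group
  right_inv y := by
    apply Subtype.ext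
    simp only
    group
  map_mul' x y := by
    apply Subtype.ext
    simp only [Subgroup.coe_mul]
    group

theorem conj_mem_fittingHallOf_of_mem_normalizer (N : Subgroup G) (m : G)
    (hm : m ∈ Subgroup.normalizer (N : Set G)) (k : G) (hk : k ∈ Cfsg.fittingHallOf N) :
    m * k * m⁻¹ ∈ Cfsg.fittingHallOf N := by
  obtain ⟨hkN, hkF⟩ := (mem_fittingHallOf_iff N k).mp hk
  have h1 := fittingHall_map_le (conjEquivOfMemNormalizer N m hm)
  have h2 : (conjEquivOfMemNormalizer N m hm) ⟨k, hkN⟩ ∈ Cfsg.fittingHall ↥N :=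
    h1 ⟨⟨k, hkN⟩, hkF, rfl⟩
  have h3 := (coe_mem_fittingHallOf N _).mpr h2
  exact h3

theorem isNilpotent_fittingHallOf [Finite G] (M : Subgroup G) :
    Group.IsNilpotent ↥(Cfsg.fittingHallOf M) := by
  haveI : Group.IsNilpotent ↥(Cfsg.fittingHall ↥M) :=
    Cfsg.Agent.Lib.Helper11.fittingHall_isNilpotent
  unfold Cfsg.fittingHallOf
  exact Group.nilpotent_of_mulEquiv
    ((Cfsg.fittingHall ↥M).equivMapOfInjective M.subtype M.subtype_injective)

/-- A subgroup `K ≤ M` of `G` that is normalized by `M`, nilpotent, and of order coprime to its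
index in `M` lies in `M_F`. -/
theorem le_fittingHallOf [Finite G] (M K : Subgroup G) (hKM : K ≤ M)
    (hn : M ≤ Subgroup.normalizer (K : Set G)) (hnil : Group.IsNilpotent ↥K)
    (hcop : (Nat.card ↥K).Coprime (K.relIndex M)) : K ≤ Cfsg.fittingHallOf M := by
  have h1 : K.subgroupOf M ≤ Cfsg.fittingHall ↥M := by
    apply Cfsg.Agent.Lib.Helper10.le_fittingHall
    · constructor
      intro k hk m
      have hm := Subgroup.mem_normalizer_iff.mp (hn m.2)
      have := (hm (k : G)).mp (Subgroup.mem_subgroupOf.mp hk)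
      apply Subgroup.mem_subgroupOf.mpr
      simpa using this
    · haveI := hnil
      exact Group.nilpotent_of_mulEquiv (Subgroup.subgroupOfEquivOfLe hKM).symm
    · have e1 : Nat.card ↥(K.subgroupOf M) = Nat.card ↥K :=
        Nat.card_congr (Subgroup.subgroupOfEquivOfLe hKM).toEquiv
      rw [e1]
      exact hcop
  intro k hk
  apply (mem_fittingHallOf_iff M k).mpr
  exact ⟨hKM hk, h1 (Subgroup.mem_subgroupOf.mpr hk)⟩

/-- (T3) `M_F` of a normal Hall subgroup `N` of `M` containing `M_F` is `M_F`. -/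
theorem fittingHallOf_eq_of_normal_hall [Finite G] (M N : Subgroup G)
    (hNM : N ≤ M) (hnorm : M ≤ Subgroup.normalizer (N : Set G))
    (hHall : (Nat.card ↥N).Coprime (N.relIndex M)) (hle : Cfsg.fittingHallOf M ≤ N) :
    Cfsg.fittingHallOf N = Cfsg.fittingHallOf M := by
  apply le_antisymm
  · have hKN : Cfsg.fittingHallOf N ≤ N := Cfsg.Agent.Lib.Helper10.fittingHallOf_le N
    apply le_fittingHallOf M (Cfsg.fittingHallOf N) (hKN.trans hNM)
    · intro m hm
      rw [Subgroup.mem_normalizer_iff]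
      intro k
      show k ∈ Cfsg.fittingHallOf N ↔ m * k * m⁻¹ ∈ Cfsg.fittingHallOf N
      constructor
      · intro hk
        exact conj_mem_fittingHallOf_of_mem_normalizer N m (hnorm hm) k hk
      · intro hk
        have := conj_mem_fittingHallOf_of_mem_normalizer N m⁻¹
          ((Subgroup.normalizer (N : Set G)).inv_mem (hnorm hm)) _ hk
        have e : m⁻¹ * (m * k * m⁻¹) * m⁻¹⁻¹ = k := by group
        rwa [e] at this
    · exact isNilpotent_fittingHallOf N
    · rw [← Subgroup.relIndex_mul_relIndex (Cfsg.fittingHallOf N) N M hKN hNM]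
      apply Nat.Coprime.mul_right
      · exact Cfsg.Agent.Lib.Helper10.fittingHallOf_coprime N
      · exact Nat.Coprime.coprime_dvd_left (Subgroup.card_dvd_of_le hKN) hHall
  · apply le_fittingHallOf N (Cfsg.fittingHallOf M) hle
    · exact hNM.trans (Cfsg.Agent.Lib.Helper10.le_normalizer_fittingHallOf M)
    · exact isNilpotent_fittingHallOf M
    · have h1 := Cfsg.Agent.Lib.Helper10.fittingHallOf_coprime M
      rw [← Subgroup.relIndex_mul_relIndex (Cfsg.fittingHallOf M) N M hle hNM] at h1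
      exact Nat.Coprime.coprime_dvd_right (Dvd.intro _ rfl) h1

end hall

end Cfsg.Agent.Lib.Helper20.TypeF
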