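import Mathlib
import Cfsg.Agent.Lib.helper3.T2E.Defs
import Cfsg.Agent.Lib.helper8.ChevTwE6H16
import Cfsg.Agent.Lib.helper8.ChevTwE6c
import Cfsg.Agent.Lib.helper8.ChevTwP1
import Cfsg.Agent.Lib.helper8.ChevTw7
import Cfsg.Agent.Lib.helper8.ChevSt27

/-!
# Project T2E (S2108), row D10 (helper20): `HT q r c = hh r c` resp. `hh r c * hh (σ r) (c ^ q)`.
-/

set_option autoImplicit false
set_option linter.unusedVariables false

namespace Cfsg.Agent.Lib.helper3.T2E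

open Cfsg.Lie Cfsg.Lie.ChevalleyDatum Matrix
open Cfsg.Agent.Lib.helper8 Cfsg.Agent.Lib.Helper10.TEM Cfsg.Agent.Lib.helper7.Ce
  Cfsg.Agent.Lib.helper15.St2

universe u

variable {K : Type u} [Field K] {q : ℕ} {f : K ≃+* K}

set_option synthInstance.maxSize 1024 in
/-- certificate: for a root `r` not fixed by `σ` the root groups of `± r` commute with those of `± σ r`; `η_{-r} = η_r` -/
theorem t2ed10h20_cert : ∀ r < 72, h8sE6 r ≠ r →
    h8eE6 (71 - r) = h8eE6 r ∧ h8sE6 (71 - r) ≠ 71 - r ∧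
    ∀ a ∈ [r, 71 - r], ∀ b ∈ [h8sE6 r, 71 - h8sE6 r],
      a < 72 ∧ b < 72 ∧ b ≠ a ∧ b ≠ 71 - a ∧ chevE6.commTerms a b = [] := by
  decide +kernel

theorem t2ed10h20_nroots : chevE6.nroots = 72 := by decide

/-- the root groups of `± r` commute with those of `± σ r` -/
theorem t2ed10h20_comm (r : ℕ) (hr : r < 72) (hσ : h8sE6 r ≠ r) :
    ∀ a ∈ [r, chevE6.negIdx.getD r 0], ∀ b ∈ [h8sE6 r, chevE6.negIdx.getD (h8sE6 r) 0], ∀ t u : K,
      Commute (h8xU chevE6 hB a t) (h8xU chevE6 hB b u) := by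
  have hneg : chevE6.negIdx.getD r 0 = 71 - r := (root_data r hr).2.1
  have hσr : h8sE6 r < 72 := (root_data r hr).2.2.1
  have hneg' : chevE6.negIdx.getD (h8sE6 r) 0 = 71 - h8sE6 r := (root_data _ hσr).2.1
  rw [hneg, hneg']
  intro a ha b hb t u
  obtain ⟨h1, h2, h3, h4, h5⟩ := (t2ed10h20_cert r hr hσ).2.2 a ha b hb
  have hnega : chevE6.negIdx.getD a 0 = 71 - a := (root_data a h1).2.1
  exact h8xU_commute (K := K) chevE6 hB hC a b (by rw [t2ed10h20_nroots]; exact h1)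
    (by rw [t2ed10h20_nroots]; exact h2) h3 (by rw [hnega]; exact h4) h5 t u

/-- `NT` at a fixed root -/
theorem t2ed10h20_NT_fix (r : ℕ) (hr : r < 72) (hσ : h8sE6 r = r) (t : K) :
    NT q r t = h8nU chevE6 hB r t := by
  have hneg : chevE6.negIdx.getD r 0 = 71 - r := (root_data r hr).2.1
  have hσ' : h8sE6 (71 - r) = 71 - r := by
    rw [(root_data r hr).2.2.2.2.1, hσ]
  unfold NT XT
  rw [if_pos hσ, if_pos hσ', h8nU_eq, hneg]
  rfl

/-- `NT` at a non-fixed root -/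
theorem t2ed10h20_NT_nf (hF : Frob q f) (r : ℕ) (hr : r < 72) (hσ : h8sE6 r ≠ r) (t : K) :
    NT q r t = h8nU chevE6 hB r t * h8nU chevE6 hB (h8sE6 r) (((h8eE6 r : ℤ) : K) * t ^ q) := by
  have hneg : chevE6.negIdx.getD r 0 = 71 - r := (root_data r hr).2.1
  have hσr : h8sE6 r < 72 := (root_data r hr).2.2.1
  have hneg' : chevE6.negIdx.getD (h8sE6 r) 0 = 71 - h8sE6 r := (root_data _ hσr).2.1
  have hσn : h8sE6 (71 - r) = 71 - h8sE6 r := (root_data r hr).2.2.2.2.1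
  obtain ⟨hη, hσ', -⟩ := t2ed10h20_cert r hr hσ
  have hcomm := t2ed10h20_comm (K := K) r hr hσ
  have c1 := hcomm r (by simp) (h8sE6 r) (by simp)
  have c2 := hcomm r (by simp) (chevE6.negIdx.getD (h8sE6 r) 0) (by simp)
  have c3 := hcomm (chevE6.negIdx.getD r 0) (by simp) (h8sE6 r) (by simp)
  have hpar : ((h8eE6 r : ℤ) : K) * (-t⁻¹) ^ q = -(((h8eE6 r : ℤ) : K) * t ^ q)⁻¹ := by
    have e : (-t⁻¹) ^ q = -(t ^ q)⁻¹ := by
      rw [neg_eq_neg_one_mul, mul_pow, hF.neg, inv_pow, neg_one_mul]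
    rw [e]
    rcases (root_data r hr).2.2.2.2.2.2.1 with h | h <;> rw [h] <;> simp [inv_neg]
  rw [h8nU_eq, h8nU_eq, h8rearr2 _ _ _ _ _ _ (c1 _ _).symm (c3 _ _).symm (c2 _ _).symm, hneg, hneg']
  unfold NT XT
  rw [if_neg hσ, if_neg hσ']
  unfold XS
  rw [hσn, hη, hpar]
  rfl

/-- `h_r(c) = n_r(c) n_r(-1)` -/
theorem t2ed10h20_hU (r : ℕ) (c : K) :
    h8hU chevE6 hB r c = h8nU chevE6 hB r c * h8nU chevE6 hB r (-1) := by
  unfold h8hU ChevalleyDatum.hWord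
  rw [h8wordU_append]
  rfl

theorem HT_eq_fix (hF : Frob q f) (r : ℕ) (hr : r < 72) (hσ : h8sE6 r = r) (c : K) (hc : c ≠ 0) :
    HT q r c = hh r c := by
  unfold HT hh
  rw [t2ed10h20_NT_fix r hr hσ, t2ed10h20_NT_fix r hr hσ, t2ed10h20_hU]

/-- `n_s(η c) n_s(-η) = h_s(c)` for `η = ± 1` -/
theorem t2ed10h20_nn (s : ℕ) (hs : s < 72) (η c : K) (hη : η = 1 ∨ η = -1) (hc : c ≠ 0) :
    h8nU chevE6 hB s (η * c) * h8nU chevE6 hB s (-η) = h8hU chevE6 hB s c := by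
  rcases hη with h | h
  · rw [h, one_mul, t2ed10h20_hU]
  · rw [h, neg_neg, neg_one_mul]
    have e1 : h8hU chevE6 hB s (-c) = h8nU chevE6 hB s (-c) * (h8nU chevE6 hB s 1)⁻¹ := h8hU_eq_nn chevE6 hB s (-c)
    have e2 : h8hU chevE6 hB s (-1 : K) = (h8nU chevE6 hB s (1 : K))⁻¹ * (h8nU chevE6 hB s 1)⁻¹ := by
      rw [h8hU_eq_nn, h8nU_neg]
    have e3 : h8hU chevE6 hB s c * h8hU chevE6 hB s (-1 : K) = h8hU chevE6 hB s (-c) := by
      rw [h8hU_mul chevE6 hB s (by rw [t2ed10h20_nroots]; exact hs) c (-1) hc (by simp), mul_neg_one]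
    rw [e1, e2] at e3
    calc h8nU chevE6 hB s (-c) * h8nU chevE6 hB s 1
        = (h8nU chevE6 hB s (-c) * (h8nU chevE6 hB s 1)⁻¹) * h8nU chevE6 hB s 1 * h8nU chevE6 hB s 1 := by group
      _ = h8hU chevE6 hB s c * ((h8nU chevE6 hB s (1 : K))⁻¹ * (h8nU chevE6 hB s 1)⁻¹) * h8nU chevE6 hB s 1 * h8nU chevE6 hB s 1 := by
          rw [← e3]
      _ = h8hU chevE6 hB s c := by group

theorem HT_eq_nf (hF : Frob q f) (r : ℕ) (hr : r < 72) (hσ : h8sE6 r ≠ r) (c : K) (hc : c ≠ 0) :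
    HT q r c = hh r c * hh (h8sE6 r) (c ^ q) := by
  have hσr : h8sE6 r < 72 := (root_data r hr).2.2.1
  have hηK : ((h8eE6 r : ℤ) : K) = 1 ∨ ((h8eE6 r : ℤ) : K) = -1 := by
    rcases (root_data r hr).2.2.2.2.2.2.1 with h | h <;> rw [h] <;> simp
  have hk := h8nU_commute (K := K) chevE6 hB r (h8sE6 r) (t2ed10h20_comm r hr hσ)
  unfold HT hh
  rw [t2ed10h20_NT_nf hF r hr hσ, t2ed10h20_NT_nf hF r hr hσ, hF.neg, mul_neg_one,
    ← t2ed10h20_nn (h8sE6 r) hσr _ (c ^ q) hηK (pow_ne_zero q hc), t2ed10h20_hU]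
  have k1 := (hk (-1) (((h8eE6 r : ℤ) : K) * c ^ q)).eq
  calc h8nU chevE6 hB r c * h8nU chevE6 hB (h8sE6 r) (((h8eE6 r : ℤ) : K) * c ^ q) *
        (h8nU chevE6 hB r (-1) * h8nU chevE6 hB (h8sE6 r) (-((h8eE6 r : ℤ) : K)))
      = h8nU chevE6 hB r c * (h8nU chevE6 hB (h8sE6 r) (((h8eE6 r : ℤ) : K) * c ^ q) * h8nU chevE6 hB r (-1)) *
          h8nU chevE6 hB (h8sE6 r) (-((h8eE6 r : ℤ) : K)) := by group
    _ = h8nU chevE6 hB r c * (h8nU chevE6 hB r (-1) * h8nU chevE6 hB (h8sE6 r) (((h8eE6 r : ℤ) : K) * c ^ q)) *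
          h8nU chevE6 hB (h8sE6 r) (-((h8eE6 r : ℤ) : K)) := by rw [k1]
    _ = _ := by group

end Cfsg.Agent.Lib.helper3.T2E
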