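import Mathlib
import Cfsg.Agent.Lib.helper3.T2E.Defs
import Cfsg.Agent.Lib.helper8.ChevTwE6H16
import Cfsg.Agent.Lib.helper8.ChevTwE6c
import Cfsg.Agent.Lib.helper15.TEMG3
import Cfsg.Agent.Lib.Helper20.T2ED10

/-!
# Project T2E (S2108), rows D10b D10c (helper20): `HT q r c ∈ T1 K q` and the characters of `HT q r c`.
-/

set_option autoImplicit false
set_option linter.unusedVariables false

namespace Cfsg.Agent.Lib.helper3.T2E

open Cfsg.Lie Cfsg.Lie.ChevalleyDatum Matrix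
open Cfsg.Agent.Lib.helper8 Cfsg.Agent.Lib.Helper10.TEM Cfsg.Agent.Lib.helper7.Ce
  Cfsg.Agent.Lib.helper15.St2

universe u

variable {K : Type u} [Field K] {q : ℕ} {f : K ≃+* K}

/-- own copy of row D1: the twisted root elements lie in `G¹` -/
theorem t2ed10bh20_XT_mem (hF : Frob q f) (r : ℕ) (hr : r < 72) (t : K) (ht : Adm q r t) :
    XT q r t ∈ twistedE6 K q := by
  unfold XT
  by_cases hσ : h8sE6 r = r
  · rw [if_pos hσ]
    exact X_mem_G1 hF r hr hσ t (ht hσ)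
  · rw [if_neg hσ]
    exact XS_mem_G1 hF r hr hσ t

/-- `NT q r t ∈ G¹` -/
theorem t2ed10bh20_NT_mem (hF : Frob q f) (r : ℕ) (hr : r < 72) (t : K) (ht : Adm q r t) :
    NT q r t ∈ twistedE6 K q := by
  have hr' : 71 - r < 72 := by omega
  have hσn : h8sE6 (71 - r) = 71 - h8sE6 r := (root_data r hr).2.2.2.2.1
  have hσr : h8sE6 r < 72 := (root_data r hr).2.2.1
  have hadm : Adm q (71 - r) (-t⁻¹) := by
    intro h
    have hσ : h8sE6 r = r := by omega
    rw [neg_eq_neg_one_mul, mul_pow, hF.neg, inv_pow, ht hσ]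
  unfold NT
  exact Subgroup.mul_mem _ (Subgroup.mul_mem _ (t2ed10bh20_XT_mem hF r hr t ht)
    (t2ed10bh20_XT_mem hF (71 - r) hr' _ hadm)) (t2ed10bh20_XT_mem hF r hr t ht)

theorem HT_mem (hF : Frob q f) (r : ℕ) (hr : r < 72) (c : K) (hc : c ≠ 0) (hc' : Adm q r c) :
    HT q r c ∈ T1 K q := by
  have hσr : h8sE6 r < 72 := (root_data r hr).2.2.1
  have hn : chevE6.nroots = 72 := t2ed10h20_nroots
  unfold T1
  refine ⟨?_, ?_⟩
  · by_cases hσ : h8sE6 r = r
    · rw [HT_eq_fix hF r hr hσ c hc]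
      exact h8hU_mem_H chevE6 hB r (by rw [hn]; exact hr) c hc
    · rw [HT_eq_nf hF r hr hσ c hc]
      exact Subgroup.mul_mem _ (h8hU_mem_H chevE6 hB r (by rw [hn]; exact hr) c hc)
        (h8hU_mem_H chevE6 hB (h8sE6 r) (by rw [hn]; exact hσr) (c ^ q) (pow_ne_zero q hc))
  · have h1 : Adm q r (-1 : K) := fun _ => hF.neg
    unfold HT
    exact Subgroup.mul_mem _ (t2ed10bh20_NT_mem hF r hr c hc') (t2ed10bh20_NT_mem hF r hr (-1) h1)

theorem HT_chi (hF : Frob q f) (r : ℕ) (hr : r < 72) (c : K) (hc : c ≠ 0) (s : ℕ) (hs : s < 72) :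
    h8chi chevE6 hB (HT q r c) s =
      if h8sE6 r = r then c ^ (h8K chevE6 r s)
      else c ^ (h8K chevE6 r s) * (c ^ q) ^ (h8K chevE6 (h8sE6 r) s) := by
  have hσr : h8sE6 r < 72 := (root_data r hr).2.2.1
  have hn : chevE6.nroots = 72 := t2ed10h20_nroots
  by_cases hσ : h8sE6 r = r
  · rw [if_pos hσ, HT_eq_fix hF r hr hσ c hc]
    exact h8chi_hU chevE6 hB hA hW r (by rw [hn]; exact hr) c hc s (by rw [hn]; exact hs)
  · rw [if_neg hσ, HT_eq_nf hF r hr hσ c hc]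
    unfold hh
    rw [h8chi_mul chevE6 hB hA hW _ _ (h8hU_mem_H chevE6 hB r (by rw [hn]; exact hr) c hc)
      (h8hU_mem_H chevE6 hB (h8sE6 r) (by rw [hn]; exact hσr) (c ^ q) (pow_ne_zero q hc)) s (by rw [hn]; exact hs),
      h8chi_hU chevE6 hB hA hW r (by rw [hn]; exact hr) c hc s (by rw [hn]; exact hs),
      h8chi_hU chevE6 hB hA hW (h8sE6 r) (by rw [hn]; exact hσr) (c ^ q) (pow_ne_zero q hc) s (by rw [hn]; exact hs)]

end Cfsg.Agent.Lib.helper3.T2E
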