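import Mathlib
import Cfsg.Agent.Lib.helper3.T2E.Defs3
import Cfsg.Agent.Lib.helper8.ChevTwE6H16
import Cfsg.Agent.Lib.Helper20.T2ED10b

/-!
# Project T2E (S2108), rows C2 C4 C3 (helper20): CORES.  The field facts of row S0 (`hk`: an element `≠ 0, 1` of `k`; `hn`: an element of norm `≠ 1`)
and the statements of C1 and D13e are hypotheses.
-/

set_option autoImplicit false
set_option linter.unusedVariables false

namespace Cfsg.Agent.Lib.helper3.T2E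

open Cfsg.Lie Cfsg.Lie.ChevalleyDatum Matrix
open Cfsg.Agent.Lib.helper8 Cfsg.Agent.Lib.Helper10.TEM Cfsg.Agent.Lib.helper7.Ce
  Cfsg.Agent.Lib.helper15.St2

universe u

variable {K : Type u} [Field K] {q : ℕ} {f : K ≃+* K} {Γ : Type u} [Group Γ]
  {π : Γ →* ↥(twistedE6 K q)}

set_option synthInstance.maxSize 1024 in
/-- certificate `(a, b, b')`: `b'` is fixed, `h_{b'}` is trivial on `a` and acts by `c^{±1}` on `b` -/
theorem t2ec2h20_certk : ∀ p ∈ [(42, 44, 46), (40, 44, 47), (39, 47, 44), (56, 57, 39), (42, 57, 53), (39, 43, 44),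
      (44, 43, 39), (39, 56, 44)],
    p.1 < 72 ∧ p.2.1 < 72 ∧ p.2.2 < 72 ∧ h8sE6 p.2.2 = p.2.2 ∧ h8K chevE6 p.2.2 p.1 = 0 ∧
      (h8K chevE6 p.2.2 p.2.1 = 1 ∨ h8K chevE6 p.2.2 p.2.1 = -1) := by
  decide +kernel

set_option synthInstance.maxSize 1024 in
/-- certificate `(a, b, b')`: `b'` is not fixed, `h_{b'} h_{σ b'}` is trivial on `a` and acts by the inverse of the norm on `b` -/
theorem t2ec2h20_certn : ∀ p ∈ [(46, 47, 37), (39, 44, 36)],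
    p.1 < 72 ∧ p.2.1 < 72 ∧ p.2.2 < 72 ∧ h8sE6 p.2.2 ≠ p.2.2 ∧ h8K chevE6 p.2.2 p.1 = 0 ∧
      h8K chevE6 (h8sE6 p.2.2) p.1 = 0 ∧ h8K chevE6 p.2.2 p.2.1 = -1 ∧ h8K chevE6 (h8sE6 p.2.2) p.2.1 = -1 := by
  decide +kernel

set_option synthInstance.maxSize 1024 in
/-- certificate: every root `r` has a fixed root `b` with `⟨r, b^∨⟩ = ± 1` -/
theorem t2ec4h20_cert : ∀ r < 72, ∃ b < 72, h8sE6 b = b ∧ (h8K chevE6 b r = 1 ∨ h8K chevE6 b r = -1) := by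
  decide +kernel

/-- a separating torus element `HT q b' c`, `b'` fixed, `c ∈ k`, `c ≠ 0, 1` -/
theorem t2ec2h20_sepk (hF : Frob q f) (a b b' : ℕ) (ha : a < 72) (hb : b < 72) (hb' : b' < 72)
    (hσ : h8sE6 b' = b') (h0 : h8K chevE6 b' a = 0)
    (h1 : h8K chevE6 b' b = 1 ∨ h8K chevE6 b' b = -1) (c : K) (hc0 : c ≠ 0) (hc1 : c ≠ 1)
    (hck : c ^ q = c) : ∃ h ∈ T1 K q, h8chi chevE6 hB h a = 1 ∧ h8chi chevE6 hB h b ≠ 1 := by
  refine ⟨HT q b' c, HT_mem hF b' hb' c hc0 (fun _ => hck), ?_, ?_⟩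
  · rw [HT_chi hF b' hb' c hc0 a ha, if_pos hσ, h0, zpow_zero]
  · rw [HT_chi hF b' hb' c hc0 b hb, if_pos hσ]
    rcases h1 with h | h
    · rw [h, zpow_one]
      exact hc1
    · rw [h, _root_.zpow_neg_one]
      intro hh
      exact hc1 (inv_eq_one.mp hh)

/-- a separating torus element `HT q b' c`, `b'` not fixed, `c` of norm `≠ 1` -/
theorem t2ec2h20_sepn (hF : Frob q f) (a b b' : ℕ) (ha : a < 72) (hb : b < 72) (hb' : b' < 72)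
    (hσ : h8sE6 b' ≠ b') (h0 : h8K chevE6 b' a = 0) (h0' : h8K chevE6 (h8sE6 b') a = 0)
    (h1 : h8K chevE6 b' b = -1) (h1' : h8K chevE6 (h8sE6 b') b = -1) (c : K) (hc0 : c ≠ 0)
    (hcn : c * c ^ q ≠ 1) : ∃ h ∈ T1 K q, h8chi chevE6 hB h a = 1 ∧ h8chi chevE6 hB h b ≠ 1 := by
  refine ⟨HT q b' c, HT_mem hF b' hb' c hc0 (fun h => absurd h hσ), ?_, ?_⟩
  · rw [HT_chi hF b' hb' c hc0 a ha, if_neg hσ, h0, h0', zpow_zero, zpow_zero, one_mul]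
  · rw [HT_chi hF b' hb' c hc0 b hb, if_neg hσ, h1, h1', _root_.zpow_neg_one, _root_.zpow_neg_one, ← mul_inv]
    intro hh
    exact hcn (inv_eq_one.mp hh)

/-- row C2 from the two field facts of S0 -/
theorem t2ec2h20_sep_pairs_core (hF : Frob q f) (hk : ∃ c : K, c ≠ 0 ∧ c ≠ 1 ∧ c ^ q = c)
    (hn : ∃ c : K, c ≠ 0 ∧ c * c ^ q ≠ 1) (a b : ℕ)
    (hab : (a, b) ∈ [(42, 44), (40, 44), (46, 47), (39, 47), (56, 57), (42, 57), (39, 43), (39, 44),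
      (44, 43), (39, 56)]) :
    ∃ h ∈ T1 K q, h8chi chevE6 hB h a = 1 ∧ h8chi chevE6 hB h b ≠ 1 := by
  obtain ⟨c, hc0, hc1, hck⟩ := hk
  obtain ⟨d, hd0, hdn⟩ := hn
  have K1 : ∀ b', (a, b, b') ∈ [(42, 44, 46), (40, 44, 47), (39, 47, 44), (56, 57, 39), (42, 57, 53), (39, 43, 44),
      (44, 43, 39), (39, 56, 44)] → ∃ h ∈ T1 K q, h8chi chevE6 hB h a = 1 ∧ h8chi chevE6 hB h b ≠ 1 := by
    intro b' hm
    obtain ⟨h1, h2, h3, h4, h5, h6⟩ := t2ec2h20_certk _ hm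
    exact t2ec2h20_sepk hF a b b' h1 h2 h3 h4 h5 h6 c hc0 hc1 hck
  have K2 : ∀ b', (a, b, b') ∈ [(46, 47, 37), (39, 44, 36)] →
      ∃ h ∈ T1 K q, h8chi chevE6 hB h a = 1 ∧ h8chi chevE6 hB h b ≠ 1 := by
    intro b' hm
    obtain ⟨h1, h2, h3, h4, h5, h6, h7, h8⟩ := t2ec2h20_certn _ hm
    exact t2ec2h20_sepn hF a b b' h1 h2 h3 h4 h5 h6 h7 h8 d hd0 hdn
  simp only [List.mem_cons, Prod.mk.injEq, List.mem_nil_iff, or_false] at hab
  rcases hab with ⟨rfl, rfl⟩ | ⟨rfl, rfl⟩ | ⟨rfl, rfl⟩ | ⟨rfl, rfl⟩ | ⟨rfl, rfl⟩ | ⟨rfl, rfl⟩ | ⟨rfl, rfl⟩ |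
    ⟨rfl, rfl⟩ | ⟨rfl, rfl⟩ | ⟨rfl, rfl⟩
  · exact K1 46 (by simp)
  · exact K1 47 (by simp)
  · exact K2 37 (by simp)
  · exact K1 44 (by simp)
  · exact K1 39 (by simp)
  · exact K1 53 (by simp)
  · exact K1 44 (by simp)
  · exact K2 36 (by simp)
  · exact K1 39 (by simp)
  · exact K1 44 (by simp)

/-- row C4 from one field fact of S0 -/
theorem t2ec4h20_chi_ne_one_core (hF : Frob q f) (hk : ∃ c : K, c ≠ 0 ∧ c ≠ 1 ∧ c ^ q = c)
    (r : ℕ) (hr : r < 72) : ∃ h ∈ T1 K q, h8chi chevE6 hB h r ≠ 1 := by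
  obtain ⟨c, hc0, hc1, hck⟩ := hk
  obtain ⟨b, hb, hσ, h1⟩ := t2ec4h20_cert r hr
  refine ⟨HT q b c, HT_mem hF b hb c hc0 (fun _ => hck), ?_⟩
  rw [HT_chi hF b hb c hc0 r hr, if_pos hσ]
  rcases h1 with h | h
  · rw [h, zpow_one]
    exact hc1
  · rw [h, _root_.zpow_neg_one]
    intro hh
    exact hc1 (inv_eq_one.mp hh)

theorem t2ec3h20_lt : ∀ p ∈ [(42, 44), (40, 44), (46, 47), (39, 47), (56, 57), (42, 57), (39, 43), (39, 44),
    (44, 43), (39, 56)], p.1 < 72 ∧ p.2 < 72 := by decide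

/-- row C3 from the statements of C1, C2 and D13e -/
theorem t2ec3h20_CLm_pairs_core (hF : Frob q f) (hπ : IsCE π)
    (hC1 : ∀ (a b : ℕ) (ha : a < 72) (hb : b < 72)
      (hcomm : ∀ t u : K, XT q a t * XT q b u = XT q b u * XT q a t) (h : GG K) (hh : h ∈ T1 K q)
      (h1 : h8chi chevE6 hB h a = 1) (h2 : h8chi chevE6 hB h b ≠ 1),
      ∀ t u, Adm q a t → Adm q b u → CLm π (XT q a t) (XT q b u))
    (hC2 : ∀ (a b : ℕ), (a, b) ∈ [(42, 44), (40, 44), (46, 47), (39, 47), (56, 57), (42, 57), (39, 43), (39, 44),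
      (44, 43), (39, 56)] → ∃ h ∈ T1 K q, h8chi chevE6 hB h a = 1 ∧ h8chi chevE6 hB h b ≠ 1)
    (hD13e : ∀ (a b : ℕ), (a, b) ∈ [(42, 44), (40, 44), (46, 47), (39, 47), (56, 57), (42, 57), (39, 43), (39, 44),
      (44, 43), (39, 56), (44, 42)] → ∀ t u : K, XT q a t * XT q b u = XT q b u * XT q a t)
    (a b : ℕ)
    (hab : (a, b) ∈ [(42, 44), (40, 44), (46, 47), (39, 47), (56, 57), (42, 57), (39, 43), (39, 44),
      (44, 43), (39, 56)]) :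
    ∀ t u, Adm q a t → Adm q b u → CLm π (XT q a t) (XT q b u) := by
  obtain ⟨h, hh, h1, h2⟩ := hC2 a b hab
  have hab' : (a, b) ∈ [(42, 44), (40, 44), (46, 47), (39, 47), (56, 57), (42, 57), (39, 43), (39, 44),
      (44, 43), (39, 56), (44, 42)] := by
    show (a, b) ∈ [(42, 44), (40, 44), (46, 47), (39, 47), (56, 57), (42, 57), (39, 43), (39, 44),
      (44, 43), (39, 56)] ++ [(44, 42)]
    exact List.mem_append_left _ hab
  have hlt : a < 72 ∧ b < 72 := t2ec3h20_lt (a, b) hab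
  exact hC1 a b hlt.1 hlt.2 (hD13e a b hab') h hh h1 h2

end Cfsg.Agent.Lib.helper3.T2E
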