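import Mathlib
import Cfsg.Agent.Lib.helper3.T2E.Defs3
import Cfsg.Agent.Lib.helper8.ChevTwE6H16
import Cfsg.Agent.Lib.helper8.ChevTwU6
import Cfsg.Agent.Lib.Helper20.T2EC2core

/-!
# Project T2E (S2108), rows C2 C4 (helper20): VERBATIM (with own proofs of the two field facts of row S0 that are needed).
-/

set_option autoImplicit false
set_option linter.unusedVariables false

namespace Cfsg.Agent.Lib.helper3.T2E

open Cfsg.Lie Cfsg.Lie.ChevalleyDatum Matrix
open Cfsg.Agent.Lib.helper8 Cfsg.Agent.Lib.Helper10.TEM Cfsg.Agent.Lib.helper7.Ce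
  Cfsg.Agent.Lib.helper15.St2

universe u

variable {K : Type u} [Field K] {q : ℕ} {f : K ≃+* K} {Γ : Type u} [Group Γ]
  {π : Γ →* ↥(twistedE6 K q)}

/-- a prime power `≠ 2` is at least `3` -/
theorem t2ec2h20_three_le (hq : IsPrimePow q) (h2 : q ≠ 2) : 3 ≤ q := by
  have h1 : 1 < q := hq.one_lt
  omega

/-- an element `≠ 0, 1` of the fixed field -/
theorem t2ec2h20_exists_k [Fintype K] (hq : IsPrimePow q) (hK : Fintype.card K = q ^ 2) (h2 : q ≠ 2)
    (hF : Frob q f) : ∃ c : K, c ≠ 0 ∧ c ≠ 1 ∧ c ^ q = c := by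
  classical
  have h3 := t2ec2h20_three_le hq h2
  have hcard := h8frob_fix_card (F := K) (q := q) (m := 2) hq.one_lt (by norm_num) hK f hF.pow
    (fun t => by simp only [Function.iterate_succ, Function.iterate_zero, Function.comp_apply, id_eq]; exact hF.inv t)
  have hfin : Fintype {c : K // f c = c} := Fintype.ofFinite _
  rw [Nat.card_eq_fintype_card] at hcard
  let z0 : {c : K // f c = c} := ⟨0, map_zero f⟩
  let z1 : {c : K // f c = c} := ⟨1, map_one f⟩
  have hlt : ({z0, z1} : Finset {c : K // f c = c}).card < (Finset.univ : Finset {c : K // f c = c}).card := by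
    rw [Finset.card_univ, hcard]
    have := Finset.card_le_two (a := z0) (b := z1)
    omega
  obtain ⟨x, -, hx⟩ := Finset.exists_mem_notMem_of_card_lt_card hlt
  rw [Finset.mem_insert, Finset.mem_singleton, not_or] at hx
  refine ⟨x.1, ?_, ?_, ?_⟩
  · intro h
    exact hx.1 (Subtype.ext h)
  · intro h
    exact hx.2 (Subtype.ext h)
  · rw [← hF.pow]
    exact x.2

/-- an element of norm `≠ 1` -/
theorem t2ec2h20_exists_norm [Fintype K] (hq : IsPrimePow q) (hK : Fintype.card K = q ^ 2) (h2 : q ≠ 2) :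
    ∃ c : K, c ≠ 0 ∧ c * c ^ q ≠ 1 := by
  classical
  have h3 := t2ec2h20_three_le hq h2
  by_contra hcon
  push Not at hcon
  have hsub : (Finset.univ.filter fun c : K => c ≠ 0) ⊆ (Polynomial.nthRoots (q + 1) (1 : K)).toFinset := by
    intro c hc
    rw [Finset.mem_filter] at hc
    rw [Multiset.mem_toFinset, Polynomial.mem_nthRoots (Nat.succ_pos q), pow_succ']
    exact hcon c hc.2
  have h1 := Finset.card_le_card hsub
  have h2' : (Polynomial.nthRoots (q + 1) (1 : K)).toFinset.card ≤ q + 1 :=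
    (Multiset.toFinset_card_le _).trans (Polynomial.card_nthRoots _ _)
  have h3' : (Finset.univ.filter fun c : K => c ≠ 0).card = q ^ 2 - 1 := by
    have := Finset.card_filter_add_card_filter_not (s := (Finset.univ : Finset K)) (fun c : K => c ≠ 0)
    have h0 : (Finset.univ.filter fun c : K => ¬ c ≠ 0).card = 1 := by
      have : (Finset.univ.filter fun c : K => ¬ c ≠ 0) = {0} := by
        ext c
        simp
      rw [this, Finset.card_singleton]
    rw [h0, Finset.card_univ, hK] at this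
    omega
  have : q ^ 2 - 1 ≤ q + 1 := by rw [← h3']; exact h1.trans h2'
  nlinarith [Nat.sub_add_cancel (Nat.one_le_pow 2 q (by omega))]

-- ROW C2 [M]
theorem sep_pairs [Fintype K] (hq : IsPrimePow q) (hK : Fintype.card K = q ^ 2) (h2 : q ≠ 2)
    (hF : Frob q f) (a b : ℕ)
    (hab : (a, b) ∈ [(42, 44), (40, 44), (46, 47), (39, 47), (56, 57), (42, 57), (39, 43), (39, 44),
      (44, 43), (39, 56)]) :
    ∃ h ∈ T1 K q, h8chi chevE6 hB h a = 1 ∧ h8chi chevE6 hB h b ≠ 1 :=
  t2ec2h20_sep_pairs_core hF (t2ec2h20_exists_k hq hK h2 hF) (t2ec2h20_exists_norm hq hK h2) a b hab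

-- ROW C4 [M]
theorem chi_ne_one [Fintype K] (hq : IsPrimePow q) (hK : Fintype.card K = q ^ 2) (h2 : q ≠ 2)
    (hF : Frob q f) (r : ℕ) (hr : r < 72) : ∃ h ∈ T1 K q, h8chi chevE6 hB h r ≠ 1 :=
  t2ec4h20_chi_ne_one_core hF (t2ec2h20_exists_k hq hK h2 hF) r hr

end Cfsg.Agent.Lib.helper3.T2E
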