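import Mathlib
import Cfsg.Agent.Lib.Lead.W2P.Defs

/-!
# Project W2P, piece COUNT: the counting identity
`∑_b N_b(g)² / n_b² = |Ω| · |G|⁻¹ ∑_h π(h⁻¹ g⁻¹ h g)`.
-/

set_option autoImplicit false
set_option linter.unusedVariables false
set_option linter.unusedSectionVars false
open scoped ComplexConjugate
open Classical

namespace Cfsg.Agent.Lib.Lead.W2P

open MulAction Cfsg.Agent.Lib.helper6.PermChar Cfsg.Agent.Lib.Helper25

universe u v

section E

variable {G : Type u} [Group G] [Fintype G] {Ω : Type v} [Fintype Ω] [DecidableEq Ω] [MulAction G Ω]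
  {p : ℕ} [Fact p.Prime] {P : Sylow p G}

/-- the number of group elements mapping `(a, b)` to `(x, y)` -/
theorem w2pcount_pair (a b x y : Ω) :
    (Finset.univ.filter (fun k : G => k • a = x ∧ k • b = y)).card =
      if orbRel G a b x y then (Finset.univ.filter (fun k : G => k • a = a ∧ k • b = b)).card
      else 0 := by
  split_ifs with h
  · obtain ⟨k₀, h1, h2⟩ := h
    refine Finset.card_nbij' (fun k => k₀⁻¹ * k) (fun k => k₀ * k) ?_ ?_ ?_ ?_
    · intro k hk
      simp only [Finset.coe_filter, Finset.mem_univ, true_and, Set.mem_setOf_eq] at hk ⊢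
      constructor
      · rw [mul_smul, hk.1, ← h1, inv_smul_smul]
      · rw [mul_smul, hk.2, ← h2, inv_smul_smul]
    · intro k hk
      simp only [Finset.coe_filter, Finset.mem_univ, true_and, Set.mem_setOf_eq] at hk ⊢
      constructor
      · rw [mul_smul, hk.1, h1]
      · rw [mul_smul, hk.2, h2]
    · intro k _
      simp
    · intro k _
      simp
  · rw [Finset.card_eq_zero, Finset.filter_eq_empty_iff]
    intro k _ hk
    exact h ⟨k, hk.1, hk.2⟩

/-- `K_b = N_b · c_b` -/
theorem w2pcount_K (a b : Ω) (g : G) :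
    (Finset.univ.filter (fun k : G => k • b = g • k • a)).card =
      (Finset.univ.filter (fun x : Ω => orbRel G a b x (g • x))).card *
        (Finset.univ.filter (fun k : G => k • a = a ∧ k • b = b)).card := by
  rw [Finset.card_eq_sum_card_fiberwise (f := fun k : G => k • a) (t := Finset.univ)
    (fun _ _ => Finset.mem_coe.mpr (Finset.mem_univ _))]
  have h1 : ∀ x : Ω, ((Finset.univ.filter (fun k : G => k • b = g • k • a)).filter
      (fun k => k • a = x)).card =
      if orbRel G a b x (g • x) then (Finset.univ.filter (fun k : G => k • a = a ∧ k • b = b)).card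
      else 0 := by
    intro x
    rw [← w2pcount_pair a b x (g • x)]
    congr 1
    ext k
    simp only [Finset.mem_filter, Finset.mem_univ, true_and]
    constructor
    · rintro ⟨h1, h2⟩
      exact ⟨h2, by rw [h1, h2]⟩
    · rintro ⟨h1, h2⟩
      exact ⟨by rw [h2, h1], h1⟩
  rw [Finset.sum_congr rfl (fun x _ => h1 x), Finset.sum_ite, Finset.sum_const_zero, add_zero,
    Finset.sum_const, smul_eq_mul]

/-- `|G_a| = n_b · c_b` -/
theorem w2pcount_stab [IsPretransitive G Ω] (a b : Ω) :
    (Finset.univ.filter (fun k : G => k • a = a)).card =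
      sdeg G a b * (Finset.univ.filter (fun k : G => k • a = a ∧ k • b = b)).card := by
  rw [Finset.card_eq_sum_card_fiberwise (f := fun k : G => k • b) (t := Finset.univ)
    (fun _ _ => Finset.mem_coe.mpr (Finset.mem_univ _))]
  have h1 : ∀ y : Ω, ((Finset.univ.filter (fun k : G => k • a = a)).filter
      (fun k => k • b = y)).card =
      if orbRel G a b a y then (Finset.univ.filter (fun k : G => k • a = a ∧ k • b = b)).card
      else 0 := by
    intro y
    rw [← w2pcount_pair a b a y]
    congr 1
    ext k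
    simp only [Finset.mem_filter, Finset.mem_univ, true_and]
  rw [Finset.sum_congr rfl (fun x _ => h1 x), Finset.sum_ite, Finset.sum_const_zero, add_zero,
    Finset.sum_const, smul_eq_mul, card_row a b a]
  rfl

/-- `∑_b K_b² = |G_a| · ∑_h #Fix(h⁻¹ g⁻¹ h g)` -/
theorem w2pcount_sq [IsPretransitive G Ω] (a : Ω) (g : G) :
    ∑ b : Ω, (Finset.univ.filter (fun k : G => k • b = g • k • a)).card ^ 2 =
      (Finset.univ.filter (fun k : G => k • a = a)).card *
        ∑ h : G, (Finset.univ.filter (fun ω : Ω => (h⁻¹ * g⁻¹ * h * g) • ω = ω)).card := by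
  have hn : 0 < Fintype.card Ω := by
    haveI : Nonempty Ω := ⟨a⟩
    exact Fintype.card_pos
  -- all fibres of `k ↦ k • a` have the same size
  have hfib : ∀ ω : Ω, (Finset.univ.filter (fun k : G => k • a = ω)).card =
      (Finset.univ.filter (fun k : G => k • a = a)).card := by
    intro ω
    apply Nat.eq_of_mul_eq_mul_right hn
    rw [card_fiber (G := G) a ω, card_fiber (G := G) a a]
  -- step 1 : expand the squares
  have h1 : ∀ b : Ω, (Finset.univ.filter (fun k : G => k • b = g • k • a)).card ^ 2 =
      ∑ k : G, ∑ k' : G, (if k • b = g • k • a then 1 else 0) *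
        (if k' • b = g • k' • a then 1 else 0) := by
    intro b
    rw [sq, Finset.card_filter, Finset.sum_mul_sum]
  rw [Finset.sum_congr rfl (fun b _ => h1 b), Finset.sum_comm]
  have h2 : ∀ k : G, ∑ b : Ω, ∑ k' : G, (if k • b = g • k • a then 1 else 0) *
        (if k' • b = g • k' • a then 1 else 0) =
      ∑ h : G, (if h • g • k • a = g • h • k • a then 1 else 0) := by
    intro k
    rw [Finset.sum_comm]
    rw [← Fintype.sum_equiv (Equiv.mulRight k) (fun h : G => if h • g • k • a = g • h • k • a then 1 else 0)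
      (fun k' : G => ∑ b : Ω, (if k • b = g • k • a then 1 else 0) *
        (if k' • b = g • k' • a then 1 else 0))]
    intro h
    rw [Finset.sum_eq_single (k⁻¹ • g • k • a)]
    · simp only [Equiv.coe_mulRight, smul_inv_smul, if_true, one_mul, mul_smul]
    · intro b _ hb
      have : ¬ k • b = g • k • a := by
        intro hh
        apply hb
        rw [← hh, inv_smul_smul]
      rw [if_neg this, zero_mul]
    · intro hh
      exact absurd (Finset.mem_univ _) hh
  rw [Finset.sum_congr rfl (fun k _ => h2 k), Finset.sum_comm, Finset.mul_sum]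
  refine Finset.sum_congr rfl fun h _ => ?_
  -- fibre the sum over `k` along `k ↦ k • a`
  have h3 : ∑ k : G, (if h • g • k • a = g • h • k • a then 1 else 0) =
      ∑ ω : Ω, ∑ k ∈ Finset.univ.filter (fun k : G => k • a = ω),
        (if h • g • ω = g • h • ω then 1 else 0) := by
    rw [← Finset.sum_fiberwise (s := Finset.univ) (g := fun k : G => k • a)]
    refine Finset.sum_congr rfl fun ω _ => ?_
    refine Finset.sum_congr rfl fun k hk => ?_
    rw [Finset.mem_filter] at hk
    rw [hk.2]
  rw [h3]
  have h4 : ∀ ω : Ω, ∑ k ∈ Finset.univ.filter (fun k : G => k • a = ω),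
      (if h • g • ω = g • h • ω then 1 else 0) =
      (Finset.univ.filter (fun k : G => k • a = a)).card *
        (if (h⁻¹ * g⁻¹ * h * g) • ω = ω then 1 else 0) := by
    intro ω
    rw [Finset.sum_const, smul_eq_mul, hfib ω]
    congr 1
    have : (h⁻¹ * g⁻¹ * h * g) • ω = ω ↔ h • g • ω = g • h • ω := by
      rw [mul_smul, mul_smul, mul_smul, inv_smul_eq_iff, inv_smul_eq_iff]
    simp only [this]
  rw [Finset.sum_congr rfl (fun ω _ => h4 ω), ← Finset.mul_sum]
  congr 1
  rw [Finset.card_filter]

/-- COUNT : the counting identity -/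
theorem count_identity [IsPretransitive G Ω] (a : Ω) (g : G) :
    ∑ b : Ω, ((Finset.univ.filter (fun x : Ω => orbRel G a b x (g • x))).card : ℂ) ^ 2 /
        ((sdeg G a b : ℂ)) ^ 2
      = (Fintype.card Ω : ℂ) *
        ((Fintype.card G : ℂ)⁻¹ * ∑ h : G, piChar G Ω (h⁻¹ * g⁻¹ * h * g)) := by
  set cA : ℕ := (Finset.univ.filter (fun k : G => k • a = a)).card with hcA
  have hG : cA * Fintype.card Ω = Fintype.card G := card_fiber (G := G) a a
  have hGpos : 0 < Fintype.card G := Fintype.card_pos
  have hcA0 : cA ≠ 0 := by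
    intro h0
    rw [h0, zero_mul] at hG
    omega
  have hn0 : Fintype.card Ω ≠ 0 := by
    intro h0
    rw [h0, mul_zero] at hG
    omega
  have hterm : ∀ b : Ω,
      ((Finset.univ.filter (fun x : Ω => orbRel G a b x (g • x))).card : ℂ) ^ 2 /
        ((sdeg G a b : ℂ)) ^ 2 =
      (((Finset.univ.filter (fun k : G => k • b = g • k • a)).card ^ 2 : ℕ) : ℂ) / (cA : ℂ) ^ 2 := by
    intro b
    have h1 := w2pcount_K a b g
    have h2 : cA = _ := w2pcount_stab (G := G) a b
    have hc0 : (Finset.univ.filter (fun k : G => k • a = a ∧ k • b = b)).card ≠ 0 := by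
      intro h0
      rw [h0, mul_zero] at h2
      exact hcA0 h2
    have hs0 : sdeg G a b ≠ 0 := by
      intro h0
      rw [h0, zero_mul] at h2
      exact hcA0 h2
    rw [h1, h2]
    push_cast
    have hc0' : ((Finset.univ.filter (fun k : G => k • a = a ∧ k • b = b)).card : ℂ) ≠ 0 := by
      exact_mod_cast hc0
    have hs0' : (sdeg G a b : ℂ) ≠ 0 := by exact_mod_cast hs0
    field_simp
  rw [Finset.sum_congr rfl (fun b _ => hterm b), ← Finset.sum_div, ← Nat.cast_sum,
    w2pcount_sq a g, ← hcA]
  have hpi : ∀ h : G, piChar G Ω (h⁻¹ * g⁻¹ * h * g) =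
      (((Finset.univ.filter (fun ω : Ω => (h⁻¹ * g⁻¹ * h * g) • ω = ω)).card : ℕ) : ℂ) := by
    intro h
    unfold piChar
    rw [← fx_eq_card_filter]
    rfl
  rw [Finset.sum_congr rfl (fun h _ => hpi h), ← hG]
  push_cast
  have h1 : (cA : ℂ) ≠ 0 := by exact_mod_cast hcA0
  have h2 : (Fintype.card Ω : ℂ) ≠ 0 := by exact_mod_cast hn0
  field_simp

end E

end Cfsg.Agent.Lib.Lead.W2P
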