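import Mathlib
import Cfsg.Agent.Lib.Lead.W2P.Defs
import Cfsg.Agent.Lib.Helper25.CharOrth

/-!
# Project W2P, piece COUNTCHAR: the commutator average of an irreducible character
-/

set_option autoImplicit false
set_option linter.unusedVariables false
set_option linter.unusedSectionVars false
open scoped ComplexConjugate
open Classical

namespace Cfsg.Agent.Lib.Lead.W2P

open MulAction Cfsg.Agent.Lib.helper6.PermChar Cfsg.Agent.Lib.Helper25

universe u v

section E

variable {G : Type u} [Group G] [Fintype G] {Ω : Type v} [Fintype Ω] [DecidableEq Ω] [MulAction G Ω]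
  {p : ℕ} [Fact p.Prime] {P : Sylow p G}

/-- COUNTCHAR : the commutator average of an irreducible character -/
theorem count_char (χ : Cfsg.IrrCharacter G) (g : G) :
    (Fintype.card G : ℂ)⁻¹ * ∑ h : G, (χ : G → ℂ) (h⁻¹ * g⁻¹ * h * g) =
      (χ : G → ℂ) g * conj ((χ : G → ℂ) g) / (χ : G → ℂ) 1 := by
  have h1 : ∑ h : G, (χ : G → ℂ) (h⁻¹ * g⁻¹ * h * g) =
      ∑ y : G, (χ : G → ℂ) (y * g⁻¹ * y⁻¹ * g) := by
    refine Fintype.sum_equiv (Equiv.inv G) _ _ fun h => ?_
    simp
  rw [h1, irr_sum_conj_mul χ g⁻¹ g, irr_inv χ g, Nat.card_eq_fintype_card]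
  have hG : (Fintype.card G : ℂ) ≠ 0 := by
    exact_mod_cast Fintype.card_ne_zero
  field_simp

end E

end Cfsg.Agent.Lib.Lead.W2P
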