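import Mathlib
import Cfsg.Agent.Lib.Lead.W2P.Defs

/-!
# Project W2P, piece COUNTP: the orbital counts of an element of `P ∖ 1`
-/

set_option autoImplicit false
set_option linter.unusedVariables false
set_option linter.unusedSectionVars false
open scoped ComplexConjugate
open Classical

namespace Cfsg.Agent.Lib.Lead.W2P

open MulAction Cfsg.Agent.Lib.helper6.PermChar Cfsg.Agent.Lib.Helper25

universe u v

section E

variable {G : Type u} [Group G] [Fintype G] {Ω : Type v} [Fintype Ω] [DecidableEq Ω] [MulAction G Ω]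
  {p : ℕ} [Fact p.Prime] {P : Sylow p G}

/-- the non-trivial elements of `P` are fixed point free -/
theorem w2pcountp_free (S : Setting G Ω p P) (y : G) (hy : y ∈ (P : Subgroup G)) (hy1 : y ≠ 1)
    (ω : Ω) : y • ω ≠ ω := by
  have hpp : p.Prime := Fact.out
  apply S.fpf y
  have h1 : orderOf (⟨y, hy⟩ : (P : Subgroup G)) ∣ p := by
    have := orderOf_dvd_natCard (⟨y, hy⟩ : (P : Subgroup G))
    rwa [S.cardP] at this
  have h2 : orderOf (⟨y, hy⟩ : (P : Subgroup G)) = orderOf y := Subgroup.orderOf_mk y hy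
  rw [h2] at h1
  rcases (Nat.dvd_prime hpp).mp h1 with h | h
  · exact absurd (orderOf_eq_one_iff.mp h) hy1
  · exact h

/-- `P` is commutative -/
theorem w2pcountp_comm (S : Setting G Ω p P) (x y : G) (hx : x ∈ (P : Subgroup G))
    (hy : y ∈ (P : Subgroup G)) : x * y = y * x := by
  have hpp : p.Prime := Fact.out
  haveI : IsCyclic (P : Subgroup G) := isCyclic_of_prime_card S.cardP
  haveI : IsMulCommutative (P : Subgroup G) := IsCyclic.isMulCommutative
  have h := mul_comm' (⟨x, hx⟩ : (P : Subgroup G)) ⟨y, hy⟩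
  exact congrArg Subtype.val h

/-- the `P`-orbits have length `p` -/
theorem w2pcountp_card_orbit (S : Setting G Ω p P) (ω : Ω) :
    (Finset.univ.filter (fun ω' : Ω => ω' ∈ orbit ↥(P : Subgroup G) ω)).card = p := by
  have hinj : Function.Injective (fun y : (P : Subgroup G) => y • ω) := by
    intro y y' hyy
    simp only at hyy
    by_contra hne
    have h1 : (y'⁻¹ * y : (P : Subgroup G)) • ω = ω := by
      rw [mul_smul, hyy, inv_smul_smul]
    have h2 : ((y'⁻¹ * y : (P : Subgroup G)) : G) ≠ 1 := by
      intro h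
      apply hne
      have : y'⁻¹ * y = 1 := Subtype.ext h
      rw [inv_mul_eq_one] at this
      exact this.symm
    exact w2pcountp_free S _ (y'⁻¹ * y).2 h2 ω h1
  have himg : Finset.univ.filter (fun ω' : Ω => ω' ∈ orbit ↥(P : Subgroup G) ω) =
      Finset.univ.image (fun y : (P : Subgroup G) => y • ω) := by
    ext ω'
    simp only [Finset.mem_filter, Finset.mem_univ, true_and, Finset.mem_image]
    rfl
  rw [himg, Finset.card_image_of_injective _ hinj, Finset.card_univ, ← Nat.card_eq_fintype_card,
    S.cardP]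

/-- two `P`-orbits cover `Ω` -/
theorem w2pcountp_cover (S : Setting G Ω p P) (a ω₂ : Ω) (hω₂ : ω₂ ∉ orbit ↥(P : Subgroup G) a)
    (ω : Ω) : ω ∈ orbit ↥(P : Subgroup G) a ∨ ω ∈ orbit ↥(P : Subgroup G) ω₂ := by
  set A := Finset.univ.filter (fun ω' : Ω => ω' ∈ orbit ↥(P : Subgroup G) a) with hA
  set B := Finset.univ.filter (fun ω' : Ω => ω' ∈ orbit ↥(P : Subgroup G) ω₂) with hB
  have hdis : Disjoint A B := by
    rw [Finset.disjoint_left]
    intro ω' h1 h2
    rw [hA, Finset.mem_filter] at h1
    rw [hB, Finset.mem_filter] at h2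
    apply hω₂
    have e1 := MulAction.orbit_eq_iff.mpr h1.2
    have e2 := MulAction.orbit_eq_iff.mpr h2.2
    exact (MulAction.orbit_eq_iff.mp (e2.symm.trans e1))
  have hcard : (A ∪ B).card = Fintype.card Ω := by
    rw [Finset.card_union_of_disjoint hdis, hA, hB, w2pcountp_card_orbit S a,
      w2pcountp_card_orbit S ω₂, S.card]
    ring
  have huniv : A ∪ B = Finset.univ := Finset.eq_univ_of_card _ hcard
  have := Finset.mem_univ ω
  rw [← huniv, Finset.mem_union, hA, hB, Finset.mem_filter, Finset.mem_filter] at this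
  rcases this with h | h
  · exact Or.inl h.2
  · exact Or.inr h.2

/-- the orbital of `(ω, x ω)` is constant on the `P`-orbits -/
theorem w2pcountp_const (S : Setting G Ω p P) (a b c : Ω) (x : G) (hx : x ∈ (P : Subgroup G))
    (ω : Ω) (hω : ω ∈ orbit ↥(P : Subgroup G) c) :
    orbRel G a b ω (x • ω) ↔ orbRel G a b c (x • c) := by
  obtain ⟨y, rfl⟩ := hω
  have h1 : x • (y • c) = (y : G) • (x • c) := by
    rw [Subgroup.smul_def, ← mul_smul, ← mul_smul, w2pcountp_comm S x y hx y.2]
  beta_reduce
  rw [h1, Subgroup.smul_def]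
  exact orbRel_smul a b c (x • c) (y : G)

/-- COUNTP : the orbital counts of an element of `P ∖ 1` -/
theorem count_P (S : Setting G Ω p P) (a ω₂ : Ω) (hω₂ : ω₂ ∉ orbit ↥(P : Subgroup G) a) (x : G)
    (hx : x ∈ (P : Subgroup G)) (hx1 : x ≠ 1) (b : Ω) :
    (Finset.univ.filter (fun ω : Ω => orbRel G a b ω (x • ω))).card =
      (if orbRel G a b a (x • a) then p else 0) + (if orbRel G a b ω₂ (x • ω₂) then p else 0) := by
  rw [← Finset.card_filter_add_card_filter_not (s := Finset.univ.filter
    (fun ω : Ω => orbRel G a b ω (x • ω))) (fun ω => ω ∈ orbit ↥(P : Subgroup G) a)]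
  congr 1
  · split_ifs with h
    · refine Eq.trans ?_ (w2pcountp_card_orbit S a)
      congr 1
      ext ω
      simp only [Finset.mem_filter, Finset.mem_univ, true_and]
      constructor
      · exact fun hh => hh.2
      · exact fun hh => ⟨(w2pcountp_const S a b a x hx ω hh).mpr h, hh⟩
    · rw [Finset.card_eq_zero, Finset.filter_eq_empty_iff]
      intro ω hω hh
      rw [Finset.mem_filter] at hω
      exact h ((w2pcountp_const S a b a x hx ω hh).mp hω.2)
  · have hiff : ∀ ω : Ω, ω ∉ orbit ↥(P : Subgroup G) a ↔ ω ∈ orbit ↥(P : Subgroup G) ω₂ := by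
      intro ω
      constructor
      · intro h
        exact (w2pcountp_cover S a ω₂ hω₂ ω).resolve_left h
      · intro h h'
        apply hω₂
        have e1 := MulAction.orbit_eq_iff.mpr h
        have e2 := MulAction.orbit_eq_iff.mpr h'
        exact MulAction.orbit_eq_iff.mp (e1.symm.trans e2)
    split_ifs with h
    · refine Eq.trans ?_ (w2pcountp_card_orbit S ω₂)
      congr 1
      ext ω
      simp only [Finset.mem_filter, Finset.mem_univ, true_and]
      constructor
      · exact fun hh => (hiff ω).mp hh.2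
      · exact fun hh => ⟨(w2pcountp_const S a b ω₂ x hx ω hh).mpr h, (hiff ω).mpr hh⟩
    · rw [Finset.card_eq_zero, Finset.filter_eq_empty_iff]
      intro ω hω hh
      rw [Finset.mem_filter] at hω
      exact h ((w2pcountp_const S a b ω₂ x hx ω ((hiff ω).mp hh)).mp hω.2)

end E

end Cfsg.Agent.Lib.Lead.W2P
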