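import Mathlib
import Cfsg.Agent.Lib.Lead.W2P.Defs
import Cfsg.Agent.Lib.Helper20.W2PCOUNT
import Cfsg.Agent.Lib.Helper20.W2PCOUNTCHAR
import Cfsg.Agent.Lib.Helper20.W2PCOUNTP

/-!
# Project W2P, piece CLUB: the relation (♣) between the subdegrees of the orbitals of
`(a, x a)` and `(ω₂, x ω₂)`.
-/

set_option autoImplicit false
set_option linter.unusedVariables false
set_option linter.unusedSectionVars false
open scoped ComplexConjugate
open Classical

namespace Cfsg.Agent.Lib.Lead.W2P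

open MulAction Cfsg.Agent.Lib.helper6.PermChar Cfsg.Agent.Lib.Helper25

universe u v

section E

variable {G : Type u} [Group G] [Fintype G] {Ω : Type v} [Fintype Ω] [DecidableEq Ω] [MulAction G Ω]
  {p : ℕ} [Fact p.Prime] {P : Sylow p G}

theorem w2pclub_symm (a b x y : Ω) : orbRel G a b x y ↔ orbRel G x y a b := by
  constructor
  · rintro ⟨h, h1, h2⟩
    exact ⟨h⁻¹, by rw [← h1, inv_smul_smul], by rw [← h2, inv_smul_smul]⟩
  · rintro ⟨h, h1, h2⟩
    exact ⟨h⁻¹, by rw [← h1, inv_smul_smul], by rw [← h2, inv_smul_smul]⟩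

theorem w2pclub_trans (a b x y u v : Ω) (h1 : orbRel G a b x y) (h2 : orbRel G x y u v) :
    orbRel G a b u v := by
  obtain ⟨h, e1, e2⟩ := h1
  obtain ⟨k, e3, e4⟩ := h2
  exact ⟨k * h, by rw [mul_smul, e1, e3], by rw [mul_smul, e2, e4]⟩

/-- the subdegree depends on the orbital only -/
theorem w2pclub_sdeg [IsPretransitive G Ω] (a b x y : Ω) (h : orbRel G a b x y) :
    sdeg G x y = sdeg G a b := by
  have h1 := card_row (G := G) a b x
  have h2 := card_row (G := G) x y x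
  unfold sdeg
  rw [← h1, ← h2]
  congr 1
  ext z
  simp only [Finset.mem_filter, Finset.mem_univ, true_and]
  constructor
  · intro hz
    exact w2pclub_trans a b x y x z h hz
  · intro hz
    exact w2pclub_trans x y a b x z ((w2pclub_symm a b x y).mp h) hz

/-- the number of `b` with `(a, b)` in the orbital of `(c, d)` is the subdegree -/
theorem w2pclub_card [IsPretransitive G Ω] (a c d : Ω) :
    (Finset.univ.filter (fun b : Ω => orbRel G a b c d)).card = sdeg G c d := by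
  have h1 := card_row (G := G) c d a
  unfold sdeg
  rw [← h1]
  congr 1
  ext z
  simp only [Finset.mem_filter, Finset.mem_univ, true_and]
  exact w2pclub_symm a z c d

theorem w2pclub_sdeg_ne_zero (a b : Ω) : sdeg G a b ≠ 0 := by
  unfold sdeg
  haveI : Nonempty (orbit (stabilizer G a) b) := ⟨⟨b, mem_orbit_self b⟩⟩
  exact Nat.card_pos.ne'

/-- the right hand side of the counting identity in the BAD case -/
theorem w2pclub_rhs (S : Setting G Ω p P) (hbad : Bad G Ω p (P : Subgroup G)) (x : G)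
    (hx : x ∈ (P : Subgroup G)) (hx1 : x ≠ 1) :
    (Fintype.card G : ℂ)⁻¹ * ∑ h : G, piChar G Ω (h⁻¹ * x⁻¹ * h * x) =
      (p : ℂ) / (fIdx (P : Subgroup G) : ℂ) := by
  obtain ⟨χp, J, hJ2, hχpJ, htJ, hχpt, hπ, hχp1, hχp0, hJ1, hJsum, hJnorm⟩ := hbad
  have hG : (Fintype.card G : ℂ) ≠ 0 := by exact_mod_cast Fintype.card_ne_zero
  have hf : (fIdx (P : Subgroup G) : ℂ) ≠ 0 := by
    obtain ⟨χ₀, hχ₀⟩ : J.Nonempty := by
      rw [← Finset.card_pos]; omega
    rw [← hJ1 χ₀ hχ₀]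
    exact irr_one_ne_zero χ₀
  have h1 : ∑ h : G, piChar G Ω (h⁻¹ * x⁻¹ * h * x) =
      (Fintype.card G : ℂ) + ∑ h : G, (χp : G → ℂ) (h⁻¹ * x⁻¹ * h * x) +
        ∑ χ ∈ J, ∑ h : G, (χ : G → ℂ) (h⁻¹ * x⁻¹ * h * x) := by
    rw [Finset.sum_congr rfl (fun h _ => hπ (h⁻¹ * x⁻¹ * h * x)), Finset.sum_add_distrib,
      Finset.sum_add_distrib, Finset.sum_const, Finset.card_univ, nsmul_eq_mul, mul_one,
      Finset.sum_comm]
  rw [h1, mul_add, mul_add, inv_mul_cancel₀ hG, count_char χp x, hχp0 x hx hx1, Finset.mul_sum,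
    Finset.sum_congr rfl (fun χ _ => count_char χ x)]
  have h2 : ∑ χ ∈ J, (χ : G → ℂ) x * conj ((χ : G → ℂ) x) / (χ : G → ℂ) 1 =
      ((p : ℂ) - (fIdx (P : Subgroup G) : ℂ)) / (fIdx (P : Subgroup G) : ℂ) := by
    rw [← hJnorm x hx hx1, Finset.sum_div]
    refine Finset.sum_congr rfl fun χ hχ => ?_
    rw [hJ1 χ hχ]
  rw [h2]
  field_simp
  ring

/-- CLUB : the relation between the subdegrees of the orbitals of `(a, x a)` and `(ω₂, x ω₂)` -/
theorem club (S : Setting G Ω p P) (hbad : Bad G Ω p (P : Subgroup G)) (a ω₂ : Ω)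
    (hω₂ : ω₂ ∉ orbit ↥(P : Subgroup G) a) (x : G) (hx : x ∈ (P : Subgroup G)) (hx1 : x ≠ 1) :
    (orbRel G a (x • a) ω₂ (x • ω₂) → sdeg G a (x • a) = 2 * fIdx (P : Subgroup G)) ∧
    (¬ orbRel G a (x • a) ω₂ (x • ω₂) →
      fIdx (P : Subgroup G) * (sdeg G a (x • a) + sdeg G ω₂ (x • ω₂)) =
        2 * (sdeg G a (x • a) * sdeg G ω₂ (x • ω₂))) := by
  have hpp : p.Prime := Fact.out
  haveI : IsPretransitive G Ω := S.prim.toIsPretransitive
  have hcount := count_identity (G := G) a x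
  rw [w2pclub_rhs S hbad x hx hx1, S.card] at hcount
  have hf : (fIdx (P : Subgroup G) : ℂ) ≠ 0 := by
    obtain ⟨χp, J, hJ2, hχpJ, htJ, hχpt, hπ, hχp1, hχp0, hJ1, hJsum, hJnorm⟩ := hbad
    obtain ⟨χ₀, hχ₀⟩ : J.Nonempty := by
      rw [← Finset.card_pos]; omega
    rw [← hJ1 χ₀ hχ₀]
    exact irr_one_ne_zero χ₀
  have hp0 : (p : ℂ) ≠ 0 := by exact_mod_cast hpp.ne_zero
  set n₁ := sdeg G a (x • a) with hn₁
  set n₂ := sdeg G ω₂ (x • ω₂) with hn₂
  have hn₁0 : (n₁ : ℂ) ≠ 0 := by exact_mod_cast w2pclub_sdeg_ne_zero a (x • a)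
  have hn₂0 : (n₂ : ℂ) ≠ 0 := by exact_mod_cast w2pclub_sdeg_ne_zero ω₂ (x • ω₂)
  have hc1 : (Finset.univ.filter (fun b : Ω => orbRel G a b a (x • a))).card = n₁ :=
    w2pclub_card a a (x • a)
  have hc2 : (Finset.univ.filter (fun b : Ω => orbRel G a b ω₂ (x • ω₂))).card = n₂ :=
    w2pclub_card a ω₂ (x • ω₂)
  have hs1 : ∀ b : Ω, orbRel G a b a (x • a) → sdeg G a b = n₁ := fun b hb =>
    (w2pclub_sdeg a b a (x • a) hb).symm
  have hs2 : ∀ b : Ω, orbRel G a b ω₂ (x • ω₂) → sdeg G a b = n₂ := fun b hb =>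
    (w2pclub_sdeg a b ω₂ (x • ω₂) hb).symm
  constructor
  · intro h12
    have hiff : ∀ b : Ω, orbRel G a b ω₂ (x • ω₂) ↔ orbRel G a b a (x • a) := by
      intro b
      constructor
      · intro hb
        exact w2pclub_trans a b ω₂ (x • ω₂) a (x • a) hb ((w2pclub_symm _ _ _ _).mp h12)
      · intro hb
        exact w2pclub_trans a b a (x • a) ω₂ (x • ω₂) hb h12
    have hterm : ∀ b : Ω,
        ((Finset.univ.filter (fun ω : Ω => orbRel G a b ω (x • ω))).card : ℂ) ^ 2 /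
          ((sdeg G a b : ℂ)) ^ 2 =
        if orbRel G a b a (x • a) then (2 * (p : ℂ)) ^ 2 / (n₁ : ℂ) ^ 2 else 0 := by
      intro b
      rw [count_P S a ω₂ hω₂ x hx hx1 b]
      by_cases hb : orbRel G a b a (x • a)
      · rw [if_pos hb, if_pos ((hiff b).mpr hb), if_pos hb, hs1 b hb]
        push_cast
        ring
      · rw [if_neg hb, if_neg (fun h => hb ((hiff b).mp h)), if_neg hb]
        simp
    rw [Finset.sum_congr rfl (fun b _ => hterm b), Finset.sum_ite, Finset.sum_const_zero,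
      add_zero, Finset.sum_const, hc1, nsmul_eq_mul] at hcount
    push_cast at hcount
    have hkey : (n₁ : ℂ) = 2 * (fIdx (P : Subgroup G) : ℂ) := by
      have h2p : (2 : ℂ) * (p : ℂ) ≠ 0 := by
        simp [hp0]
      have h3 : (2 * (p : ℂ)) * ((p : ℂ) / (fIdx (P : Subgroup G) : ℂ)) =
          (2 * (p : ℂ)) * (2 * (p : ℂ) / (n₁ : ℂ)) := by
        rw [← hcount]
        field_simp
      have h4 := mul_left_cancel₀ h2p h3
      rw [div_eq_div_iff hf hn₁0] at h4
      apply mul_left_cancel₀ hp0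
      linear_combination h4
    exact_mod_cast hkey
  · intro h12
    have hdis : ∀ b : Ω, orbRel G a b a (x • a) → ¬ orbRel G a b ω₂ (x • ω₂) := by
      intro b hb hb'
      exact h12 (w2pclub_trans a (x • a) a b ω₂ (x • ω₂) ((w2pclub_symm _ _ _ _).mp hb) hb')
    have hterm : ∀ b : Ω,
        ((Finset.univ.filter (fun ω : Ω => orbRel G a b ω (x • ω))).card : ℂ) ^ 2 /
          ((sdeg G a b : ℂ)) ^ 2 =
        (if orbRel G a b a (x • a) then (p : ℂ) ^ 2 / (n₁ : ℂ) ^ 2 else 0) +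
          (if orbRel G a b ω₂ (x • ω₂) then (p : ℂ) ^ 2 / (n₂ : ℂ) ^ 2 else 0) := by
      intro b
      rw [count_P S a ω₂ hω₂ x hx hx1 b]
      by_cases hb : orbRel G a b a (x • a)
      · rw [if_pos hb, if_neg (hdis b hb), if_pos hb, if_neg (hdis b hb), hs1 b hb]
        push_cast
        ring
      · by_cases hb' : orbRel G a b ω₂ (x • ω₂)
        · rw [if_neg hb, if_pos hb', if_neg hb, if_pos hb', hs2 b hb']
          push_cast
          ring
        · rw [if_neg hb, if_neg hb', if_neg hb, if_neg hb']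
          simp
    rw [Finset.sum_congr rfl (fun b _ => hterm b), Finset.sum_add_distrib, Finset.sum_ite,
      Finset.sum_const_zero, add_zero, Finset.sum_const, hc1, nsmul_eq_mul, Finset.sum_ite,
      Finset.sum_const_zero, add_zero, Finset.sum_const, hc2, nsmul_eq_mul] at hcount
    push_cast at hcount
    have hkey : (fIdx (P : Subgroup G) : ℂ) * ((n₁ : ℂ) + (n₂ : ℂ)) =
        2 * ((n₁ : ℂ) * (n₂ : ℂ)) := by
      have h3 : (p : ℂ) ^ 2 * (2 / (fIdx (P : Subgroup G) : ℂ)) =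
          (p : ℂ) ^ 2 * (1 / (n₁ : ℂ) + 1 / (n₂ : ℂ)) := by
        rw [show (p : ℂ) ^ 2 * (2 / (fIdx (P : Subgroup G) : ℂ)) =
          2 * (p : ℂ) * ((p : ℂ) / (fIdx (P : Subgroup G) : ℂ)) by ring, ← hcount]
        field_simp
      have h4 := mul_left_cancel₀ (pow_ne_zero 2 hp0) h3
      have h5 : 2 * ((n₁ : ℂ) * (n₂ : ℂ)) =
          (2 / (fIdx (P : Subgroup G) : ℂ)) *
            ((fIdx (P : Subgroup G) : ℂ) * ((n₁ : ℂ) * (n₂ : ℂ))) := by
        field_simp
      rw [h5, h4]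
      field_simp
      ring
    exact_mod_cast hkey

end E

end Cfsg.Agent.Lib.Lead.W2P
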