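import Mathlib
import Cfsg.Agent.Lib.Lead.BCG.Defs
import Cfsg.Agent.Lib.Lead.S5955T2
import Cfsg.Agent.Lib.Helper20.S5956O5
import Cfsg.Agent.Lib.Helper24.ElC
import Cfsg.Agent.Lib.Helper20.BCGA16

set_option autoImplicit false

/-!
# Project BCG, row A17 (`s_cyc_dim`): the symplectic twin of A16.
-/

namespace Cfsg.Agent.Lib.Lead.BCG

open Polynomial Module Matrix Cfsg.Agent.Lib.Helper13.S5955 Cfsg.Agent.Lib.helper15.S5972
  Cfsg.Agent.Lib.Helper18.ONE Cfsg.Agent.Lib.Lead.BCS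

/-- A17 [M] -/
theorem s_cyc_dim {F : Type*} [Field F] [Fintype F] {p : ℕ} [Fact p.Prime] [CharP F p]
    {V : Type*} [AddCommGroup V] [Module F V] [FiniteDimensional F V]
    {r : ℕ} [Fact r.Prime] (hrp : r ≠ p) {A : LinearMap.BilinForm F V}
    {y : Module.End F V} (h : SCtx r A y) (hy : y ≠ 1) :
    0 < finrank F (cycS r y) ∧ cOf (Fintype.card F) r ∣ finrank F (cycS r y) ∧
      finrank F (fixS y) + finrank F (cycS r y) = finrank F V := by
  obtain ⟨-, hcompl, -, hnd⟩ := Cfsg.Agent.Lib.Helper13.S5955.split (p := p) hrp h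
  obtain ⟨hpos, hsum⟩ := bcga16_pos hcompl hy
  have hinv : SInv y (cycS r y) := by
    unfold cycS
    exact Cfsg.Agent.Lib.Helper24.el_inv_ker y (cyclotomic r F)
  have hdvd : cOf (Fintype.card F) r ∣ finrank F (cycS r y) :=
    Cfsg.Agent.Lib.helper3.S5956.cyc_nd_dvd (p := p) hrp h _ (cOf (Fintype.card F) r) rfl rfl
      (cycS r y) hinv le_rfl hnd
  exact ⟨hpos, hdvd, hsum⟩

end Cfsg.Agent.Lib.Lead.BCG
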