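import Mathlib
import Cfsg.Agent.Lib.Lead.BCG.Defs

set_option autoImplicit false

/-!
# BCG row R1 (`cof_facts`): arithmetic of `cOf q s`.
-/

namespace Cfsg.Agent.Lib.Lead.BCG

/-- the order of `q` modulo a prime `s ∤ q` is positive -/
theorem bcgr1_ord_pos (q s : ℕ) (hs : s.Prime) (hsq : ¬ s ∣ q) :
    0 < orderOf ((q : ℕ) : ZMod s) := by
  haveI : Fact s.Prime := ⟨hs⟩
  have hne : ((q : ℕ) : ZMod s) ≠ 0 := by
    rw [Ne, ZMod.natCast_eq_zero_iff]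
    exact hsq
  have h1 : ((q : ℕ) : ZMod s) ^ (s - 1) = 1 := ZMod.pow_card_sub_one_eq_one hne
  apply orderOf_pos_iff.mpr
  rw [isOfFinOrder_iff_pow_eq_one]
  exact ⟨s - 1, Nat.sub_pos_of_lt hs.one_lt, h1⟩

/-- `s ∣ q ^ k - 1` when `(q : ZMod s) ^ k = 1` -/
theorem bcgr1_dvd_of_pow (q s k : ℕ) (hq : 1 ≤ q) (h : ((q : ℕ) : ZMod s) ^ k = 1) :
    s ∣ q ^ k - 1 := by
  rw [← ZMod.natCast_eq_zero_iff, Nat.cast_sub (Nat.one_le_pow _ _ hq), Nat.cast_pow, h,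
    Nat.cast_one, sub_self]

theorem cof_facts (q s : ℕ) (hs : s.Prime) (hs2 : s ≠ 2) (hsq : ¬ s ∣ q) :
    Even (cOf q s) ∧ 2 ≤ cOf q s ∧ s ∣ q ^ cOf q s - 1 := by
  have hi := bcgr1_ord_pos q s hs hsq
  have hq : 1 ≤ q := by
    rcases Nat.eq_zero_or_pos q with h | h
    · exact absurd (h ▸ dvd_zero s) hsq
    · exact h
  unfold cOf
  by_cases he : Even (orderOf ((q : ℕ) : ZMod s))
  · rw [if_pos he]
    refine ⟨he, ?_, bcgr1_dvd_of_pow q s _ hq (pow_orderOf_eq_one _)⟩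
    obtain ⟨k, hk⟩ := he
    omega
  · rw [if_neg he]
    refine ⟨⟨orderOf ((q : ℕ) : ZMod s), by ring⟩, by omega, bcgr1_dvd_of_pow q s _ hq ?_⟩
    rw [pow_mul', pow_orderOf_eq_one, one_pow]

end Cfsg.Agent.Lib.Lead.BCG
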