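import Mathlib
import Cfsg.Agent.Lib.Helper28.BP2.Defs

/-!
# Project BP2 (S5736, designer helper28), row T9a (`fx_isConj`), verbatim vs `Helper28/BP2/Skel.lean.txt`.
-/

set_option autoImplicit false

namespace Cfsg.Agent.Lib.Helper28.BP2

open Cfsg.Agent.Lib.helper14

universe u v w

section Toolbox

variable {G : Type u} [Group G]

/-- the fixed points of `c * f * c⁻¹` on any `G`-set are the `c`-translates of the fixed points of `f` -/
theorem bp2t9a_card_fixed {X : Type v} [MulAction G X] (f c : G) :
    Nat.card {ω : X // (c * f * c⁻¹) • ω = ω} = Nat.card {ω : X // f • ω = ω} := by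
  apply Nat.card_congr
  refine Equiv.subtypeEquiv (MulAction.toPerm c⁻¹) ?_
  intro ω
  simp only [MulAction.toPerm_apply]
  constructor
  · intro h
    have h1 : c⁻¹ • ((c * f * c⁻¹) • ω) = c⁻¹ • ω := by rw [h]
    rw [← mul_smul] at h1
    have h2 : c⁻¹ * (c * f * c⁻¹) = f * c⁻¹ := by group
    rw [h2, mul_smul] at h1
    exact h1
  · intro h
    rw [mul_smul, mul_smul, h, smul_inv_smul]

/-- **T9a**.  conjugate elements have the same number of fixed points. -/
theorem fx_isConj [Finite G] (H : Subgroup G) (f f' : G) (h : IsConj f f') : fx H f = fx H f' := by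
  obtain ⟨c, hc⟩ := isConj_iff.1 h
  unfold fx
  rw [← hc]
  exact (bp2t9a_card_fixed f c).symm

end Toolbox

end Cfsg.Agent.Lib.Helper28.BP2
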