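import Mathlib
import Cfsg.Agent.Lib.Helper28.BP2.Defs
import Cfsg.Agent.Lib.Helper20.BP2T9a

/-!
# Project BP2 (S5736, designer helper28), row T9 (`binS_mem_of_conj`): core, with the statements of T1 (`bin_iff_binS`, one direction)
and T8 (`fix_eq_of_bin` at `X = G ⧸ H`) as hypotheses.
-/

set_option autoImplicit false

namespace Cfsg.Agent.Lib.Helper28.BP2

open Cfsg.Agent.Lib.helper14

universe u v w

section Toolbox

variable {G : Type u} [Group G]

/-- T9 on the statements of T1 and T8 -/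
theorem bp2t9_core [Finite G] (H : Subgroup G) (hB : BinS H) (p : ℕ) [Fact p.Prime]
    (g h : G) (hgH : g ∈ H) (hc : Commute g h) (hg : orderOf g = p)
    (hmax : ∀ f : G, orderOf f = p → fx H f ≤ fx H g) (hh : IsConj h g)
    (hk : IsConj (g * h⁻¹) g)
    (hT1 : BinS H → Bin G (G ⧸ H))
    (hT8 : Bin G (G ⧸ H) →
      (∀ f : G, orderOf f = p →
        Nat.card {ω : G ⧸ H // f • ω = ω} ≤ Nat.card {ω : G ⧸ H // g • ω = ω}) →
      Nat.card {ω : G ⧸ H // h • ω = ω} = Nat.card {ω : G ⧸ H // g • ω = ω} →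
      Nat.card {ω : G ⧸ H // (g * h⁻¹) • ω = ω} = Nat.card {ω : G ⧸ H // g • ω = ω} →
      ∀ ω : G ⧸ H, h • ω = ω ↔ g • ω = ω) : h ∈ H := by
  have h1 := hT8 (hT1 hB) hmax (fx_isConj H h g hh) (fx_isConj H (g * h⁻¹) g hk)
  have h2 : g • ((1 : G) : G ⧸ H) = ((1 : G) : G ⧸ H) := by
    rw [MulAction.Quotient.smul_mk, QuotientGroup.eq]
    simpa using H.inv_mem hgH
  have h3 := (h1 _).2 h2
  rw [MulAction.Quotient.smul_mk, QuotientGroup.eq] at h3
  simpa using H.inv_mem h3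

end Toolbox

end Cfsg.Agent.Lib.Helper28.BP2
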