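import Mathlib
import Cfsg.Agent.Lib.helper3.BSZ.Defs
import Cfsg.Agent.Lib.Helper25.BSZB04

/-!
# Project BSZ, row B05 (`zs_prod`), verbatim vs `helper3/BSZ/Skel.lean.txt`.
-/

set_option autoImplicit false

namespace Cfsg.Agent.Lib.helper3.BSZ

open Cfsg Cfsg.Agent.Lib.helper3

variable {F : Type*} [Field F] [Fintype F] {m : ℕ}

/-- a conjugate of an element of `Zs` squares to one -/
theorem bszb05_sq (hF : Fintype.card F = 2 ^ (2 * m + 1)) {a s : Sz F m}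
    (hs : a⁻¹ * s * a ∈ Zs hF) : s * s = 1 := by
  obtain ⟨β, hβ⟩ := (mem_Zs hF).1 hs
  have h1 : (a⁻¹ * s * a) * (a⁻¹ * s * a) = 1 := by rw [hβ]; exact gT_zero_sq hF β
  have h2 : (a⁻¹ * s * a) * (a⁻¹ * s * a) = a⁻¹ * (s * s) * a := by group
  rw [h2] at h1
  have h3 : a * (a⁻¹ * (s * s) * a) * a⁻¹ = a * 1 * a⁻¹ := by rw [h1]
  have h4 : a * (a⁻¹ * (s * s) * a) * a⁻¹ = s * s := by group
  rw [h4] at h3
  simpa using h3

/-- B05 [M] (cites B04): if `s = 1` then `z = s'` and B04 (with `a'`); if `s' = 1` then `z⁻¹ = s`, B04.  Else `s`, `s'` are involutions (conjugates of `gT 0 β`, `gT_zero_sq`), `z = s' * s`, `z * z = 1` (`z ∈ Zs`),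
so `s' * s = s * s'` and `s'` commutes with `z = gT 0 b`.  If `b ≠ 0`: `s' ∈ centralizer {gT 0 b} ≤ Qs` (`centralizer_gT_le`), `s' = gT a₁ b₁` with `s' * s' = 1` gives `a₁ = 0` (`gT_sq_eq_one`), so `s' ∈ Zs` and B04 gives `s' = 1`. -/
theorem zs_prod (hF : Fintype.card F = 2 ^ (2 * m + 1)) (hm : 1 ≤ m) {a a' : Sz F m}
    (ha : a • oInf F m ≠ oInf F m) (ha' : a' • oInf F m ≠ oInf F m) {z s s' : Sz F m} (hz : z ∈ Zs hF)
    (hs : a⁻¹ * s * a ∈ Zs hF) (hs' : a'⁻¹ * s' * a' ∈ Zs hF) (h : z = s' * s⁻¹) : z = 1 := by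
  have hss : s * s = 1 := bszb05_sq hF hs
  have hss' : s' * s' = 1 := bszb05_sq hF hs'
  have hsinv : s⁻¹ = s := inv_eq_of_mul_eq_one_left hss
  rw [hsinv] at h
  -- the case `s' = 1`
  have key1 : s' = 1 → z = 1 := by
    intro h1
    rw [h1, one_mul] at h
    rw [← h] at hs
    exact zs_ti hF hm ha hz hs
  -- the case `s = 1`
  have key2 : s = 1 → z = 1 := by
    intro h1
    rw [h1, mul_one] at h
    rw [← h] at hs'
    exact zs_ti hF hm ha' hz hs'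
  obtain ⟨b, hb⟩ := (mem_Zs hF).1 hz
  by_cases hb0 : b = 0
  · rw [hb, hb0, gT_zero]
  -- `z * z = 1`
  have hzz : z * z = 1 := by rw [hb]; exact gT_zero_sq hF b
  -- `s' * s = s * s'`
  have hcomm : s' * s = s * s' := by
    have h1 : (s' * s) * (s' * s) = 1 := by rw [← h]; exact hzz
    calc s' * s = (s' * s) * ((s' * s) * (s' * s))⁻¹ := by rw [h1, inv_one, mul_one]
      _ = s⁻¹ * s'⁻¹ := by group
      _ = s * s' := by rw [hsinv, inv_eq_of_mul_eq_one_left hss']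
  -- `s'` commutes with `z`
  have hcz : s' ∈ Subgroup.centralizer ({gT hF 0 b} : Set (Sz F m)) := by
    rw [Subgroup.mem_centralizer_iff]
    intro g hg
    rw [Set.mem_singleton_iff] at hg
    rw [hg, ← hb, h]
    calc s' * s * s' = s' * (s * s') := by rw [mul_assoc]
      _ = s' * (s' * s) := by rw [hcomm]
  have hQ : s' ∈ Qs hF := centralizer_gT_le hF hm (a := 0) (b := b) (fun hc => hb0 hc.2) hcz
  obtain ⟨a₁, b₁, hab⟩ := (mem_Qs hF).1 hQ
  have ha₁ : a₁ = 0 := by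
    apply gT_sq_eq_one hF (b := b₁)
    rw [← hab]; exact hss'
  have hZ : s' ∈ Zs hF := (mem_Zs hF).2 ⟨b₁, by rw [hab, ha₁]⟩
  exact key1 (zs_ti hF hm ha' hZ hs')

end Cfsg.Agent.Lib.helper3.BSZ
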