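import Mathlib
import Cfsg.Agent.Lib.helper3.C6U.Defs

set_option autoImplicit false
set_option linter.unusedVariables false
set_option linter.unusedSectionVars false

/-!
# C6U rows A1 (`frob_p`) and A2 (`h90`): arithmetic in `F = F_{p²}`.
-/

namespace Cfsg.Agent.Lib.helper3.C6U

open Polynomial Matrix
open Cfsg.Agent.Lib.Helper10.C6P
open scoped MatrixGroups

variable {F : Type*} [Field F]

section fin

variable [Fintype F] {p : ℕ} [Fact p.Prime] [CharP F p]

/-- A1 [S] : `x ↦ x ^ p` is additive, multiplicative and an involution (`frobenius F p`, `FiniteField.pow_card`). -/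
theorem frob_p (hF : Fintype.card F = p ^ 2) :
    (∀ a b : F, (a + b) ^ p = a ^ p + b ^ p) ∧ (∀ a : F, (a ^ p) ^ p = a) := by
  refine ⟨fun a b => add_pow_char a b p, fun a => ?_⟩
  rw [← pow_mul, ← pow_two, ← hF]
  exact FiniteField.pow_card a

/-- A2 [S-M] : Hilbert 90: an element of norm one is `ν ^ (p - 1)`. -/
theorem h90 (hF : Fintype.card F = p ^ 2) (δ : F) (hδ : δ ^ (p + 1) = 1) :
    ∃ ν : F, ν ≠ 0 ∧ ν ^ p = δ * ν := by
  classical
  have hp : p.Prime := Fact.out
  have hp2 : 2 ≤ p := hp.two_le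
  obtain ⟨hadd, hinv⟩ := frob_p (F := F) (p := p) hF
  -- `ν a = a + δ^p a^p` satisfies `ν^p = δ ν`
  have hν : ∀ a : F, (a + δ ^ p * a ^ p) ^ p = δ * (a + δ ^ p * a ^ p) := by
    intro a
    rw [hadd, mul_pow, hinv, hinv, mul_add, ← mul_assoc, ← pow_succ', hδ, one_mul, add_comm]
  by_contra hne
  push Not at hne
  have hzero : ∀ a : F, a + δ ^ p * a ^ p = 0 := by
    intro a
    by_contra h0
    exact hne _ h0 (hν a)
  -- the polynomial `X + C (δ^p) X^p` vanishes on `F`
  set P : F[X] := X + C (δ ^ p) * X ^ p with hP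
  have hP0 : P ≠ 0 := by
    intro h
    have h1 : P.coeff 1 = 1 := by
      rw [hP, coeff_add, coeff_X_one, coeff_C_mul, coeff_X_pow, if_neg (by omega), mul_zero,
        add_zero]
    rw [h, coeff_zero] at h1
    exact zero_ne_one h1
  have hdeg : P.natDegree ≤ p := by
    rw [hP]
    refine (natDegree_add_le _ _).trans (max_le ?_ ?_)
    · rw [natDegree_X]; omega
    · exact natDegree_C_mul_X_pow_le _ _
  have hsub : (Finset.univ : Finset F).val ⊆ P.roots := by
    intro a _
    rw [mem_roots hP0, IsRoot.def, hP, eval_add, eval_X, eval_mul, eval_C, eval_pow, eval_X]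
    exact hzero a
  have hcard := card_le_degree_of_subset_roots hsub
  rw [Finset.card_univ, hF] at hcard
  have : p * 2 ≤ p * p := Nat.mul_le_mul_left p hp2
  rw [pow_two] at hcard
  omega

end fin

end Cfsg.Agent.Lib.helper3.C6U
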