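import Mathlib
import Cfsg.Agent.Lib.helper17.STM.Defs
import Cfsg.Agent.Lib.helper17.STM.Defs2
import Cfsg.Agent.Lib.helper17.STM.Defs3
import Cfsg.Agent.Lib.helper17.STM.Sub
import Cfsg.Agent.Lib.Helper20.STMH1
import Cfsg.Agent.Lib.Helper21.STMB2

/-!
# Project STM (designer helper17), row X3 (VERBATIM from `helper17/STM/Skel3.lean.txt`): functoriality of `XQ`; row X4: `hs_neg_one_sq` VERBATIM, and the cores of `hs_neg_one_eq_all`, `hs_neg_one_comm`
(with the statements of H6 `hs_neg_one_eq` and H2 `isMon_hs` as hypotheses).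
-/

set_option autoImplicit false
set_option linter.unusedSectionVars false

namespace Cfsg.Agent.Lib.helper17.STM

open Matrix Cfsg.Agent.Lib.helper15.St2 Cfsg.Agent.Lib.helper3.STC Cfsg.Agent.Lib.Lead.STD

universe v w

namespace SysM

section X3

variable {F : Type*} [Field F] {A B : F} [Fact (∀ r : F, r ^ 2 ≠ -B + A * r)] {ι : Type*} {G : Type*} [Group G] (S : SysM F A B ι G)

/-- X3 [S]  `Subgroup.map_closure` / `MonoidHom.map_closure`; the generating set maps onto the generating set (model STB X3 `Helper20.STBX3`). -/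
theorem XQ_map {H : Type*} [Group H] (f : G →* H) (Q : ι ⊕ ι → ι ⊕ ι → Prop) (Qs : ι ⊕ ι → Prop) : (S.map f).XQ Q Qs = (S.XQ Q Qs).map f := by
  unfold SysM.XQ
  rw [MonoidHom.map_closure]
  congr 1
  ext g
  constructor
  · rintro (⟨a, b, t, h1, h2, h3, rfl⟩ | ⟨a, t, h1, rfl⟩)
    · exact ⟨S.x a b t, Or.inl ⟨a, b, t, h1, h2, h3, rfl⟩, rfl⟩
    · exact ⟨S.xs a t, Or.inr ⟨a, t, h1, rfl⟩, rfl⟩
  · rintro ⟨y, (⟨a, b, t, h1, h2, h3, rfl⟩ | ⟨a, t, h1, rfl⟩), rfl⟩
    · exact Or.inl ⟨a, b, t, h1, h2, h3, rfl⟩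
    · exact Or.inr ⟨a, t, h1, rfl⟩

/-- X4, first statement (core): with the statement of H6 as a hypothesis -/
theorem stmx4_eq_all_core [Finite F] [DecidableEq ι]
    (hH6 : ∀ {a b : ι ⊕ ι}, a ≠ b → a ≠ ng b → S.hs a (-1) = S.hs b (-1)) (a b : ι ⊕ ι) : S.hs a (-1) = S.hs b (-1) := by
  by_cases h1 : a = b
  · rw [h1]
  by_cases h2 : a = ng b
  · rw [h2, S.hs_swap b (-1) (neg_ne_zero.2 one_ne_zero)]
    congr 1
    rw [star_neg, star_one, inv_neg, inv_one]
  exact hH6 h1 h2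

theorem hs_neg_one_sq [Finite F] (a : ι ⊕ ι) : S.hs a (-1) * S.hs a (-1) = 1 := by
  classical
  rw [S.hs_mul a (-1) (-1) (neg_ne_zero.2 one_ne_zero) (neg_ne_zero.2 one_ne_zero)]
  have : (-1 : Kq F A B) * (-1) = 1 := by ring
  rw [this]
  exact S.hs_one a

theorem stmx4_dhb_neg_one [DecidableEq ι] (a k : ι ⊕ ι) : dhb a (-1 : Kq F A B) k = 1 := by
  unfold dhb
  split_ifs <;> simp

/-- X4, third statement (core): with the statement of H2 `isMon_hs` at `u = -1` as a hypothesis -/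
theorem stmx4_comm_core [Finite F] [DecidableEq ι] (a : ι ⊕ ι)
    (hH2 : S.IsMon (S.hs a (-1)) 1 (dhb a (-1 : Kq F A B)) ((-1 : Kq F A B) / star (-1 : Kq F A B)) false)
    (hgen : S.XQ (fun _ _ => True) (fun _ => True) = ⊤) (g : G) : g * S.hs a (-1) = S.hs a (-1) * g := by
  obtain ⟨⟨-, hl⟩, -, -, -, hsx⟩ := hH2
  have hc0 : ((-1 : Kq F A B) / star (-1 : Kq F A B)) = 1 := by
    rw [star_neg, star_one, div_self (neg_ne_zero.2 one_ne_zero)]
  set z := S.hs a (-1) with hz
  have hg : g ∈ S.XQ (fun _ _ => True) (fun _ => True) := by rw [hgen]; trivial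
  unfold SysM.XQ at hg
  induction hg using Subgroup.closure_induction with
  | mem x hx =>
    rcases hx with ⟨k, l, t, hkl, -, -, rfl⟩ | ⟨k, t, -, rfl⟩
    · have h := hl k l hkl t
      rw [stmx4_dhb_neg_one, stmx4_dhb_neg_one] at h
      simp only [Equiv.Perm.coe_one, id_eq, inv_one, mul_one, one_mul] at h
      unfold cj at h
      rw [mul_inv_eq_iff_eq_mul] at h
      exact h.symm
    · have h := hsx k t
      rw [stmx4_dhb_neg_one, hc0, tw_false, one_mul, one_smul] at h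
      simp only [Equiv.Perm.coe_one, id_eq] at h
      unfold cj at h
      rw [mul_inv_eq_iff_eq_mul] at h
      exact h.symm
  | one => rw [one_mul, mul_one]
  | mul x y _ _ hx hy => rw [mul_assoc, hy, ← mul_assoc, hx, mul_assoc]
  | inv x _ hx =>
    exact (Commute.inv_left (show Commute x z from hx)).eq

end X3

end SysM

end Cfsg.Agent.Lib.helper17.STM
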