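import Mathlib
import Cfsg.Agent.Lib.helper17.STM.Defs
import Cfsg.Agent.Lib.helper17.STM.Defs2
import Cfsg.Agent.Lib.helper17.STM.Defs3
import Cfsg.Agent.Lib.helper17.STM.Sub
import Cfsg.Agent.Lib.Helper20.STMH2
import Cfsg.Agent.Lib.Helper20.STMX3
import Cfsg.Agent.Lib.Helper26.STMH6core

/-!
# Project STM (designer helper17), row X4 (VERBATIM from `helper17/STM/Skel3.lean.txt`): `hs_neg_one_eq_all`, `hs_neg_one_comm` (`hs_neg_one_sq` is in `Helper20.STMX3`).
-/

set_option autoImplicit false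
set_option linter.unusedSectionVars false

namespace Cfsg.Agent.Lib.helper17.STM

open Matrix Cfsg.Agent.Lib.helper15.St2 Cfsg.Agent.Lib.helper3.STC Cfsg.Agent.Lib.Lead.STD

universe v w

namespace SysM

section X3

variable {F : Type*} [Field F] {A B : F} [Fact (∀ r : F, r ^ 2 ≠ -B + A * r)] {ι : Type*} {G : Type*} [Group G] (S : SysM F A B ι G)

/-- X4 [S-M]  the spin element (model STB X4 `Helper20.STBX3`): does not depend on the index (`b = a`; `b = ng a`: H1 `hs_swap`, `(star (-1))⁻¹ = -1`; else H6), is an involution (H1 `hs_mul`, B3 `hs_one`) and is central (H2 `isMon_hs a (-1)`: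
`σ = 1`, `dhb a (-1) k = 1` as `nm (-1) = 1`, `c0 = -1 / star (-1) = 1`, `ε = false`, so it commutes with all the generators; closure induction on `hgen`). -/
theorem hs_neg_one_eq_all [Finite F] [DecidableEq ι] (a b : ι ⊕ ι) : S.hs a (-1) = S.hs b (-1) :=
  stmx4_eq_all_core S
    (fun hab hab' => S.stmh6_core (fun hab hab' t ht => S.hs_eq_hh hab hab' t ht) hab hab') a b

theorem hs_neg_one_comm [Finite F] [DecidableEq ι] (hgen : S.XQ (fun _ _ => True) (fun _ => True) = ⊤) (a : ι ⊕ ι) (g : G) : g * S.hs a (-1) = S.hs a (-1) * g :=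
  stmx4_comm_core S a (S.isMon_hs a (-1) (neg_ne_zero.2 one_ne_zero)) hgen g

end X3

end SysM

end Cfsg.Agent.Lib.helper17.STM
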