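import Mathlib
import Cfsg.Agent.Lib.helper3.SPM.Defs
import Cfsg.Agent.Lib.helper3.SPM.Defs2

/-!
# Project SPM (designer helper3), rows A1 (`sig2_o0 sig2_o1`) and A2 (`exists_perm3 exists_perm4 exists_o3`)
-/

set_option autoImplicit false

namespace Cfsg.Agent.Lib.helper3.SPM

open Cfsg.Agent.Lib.helper3.STC Cfsg.Agent.Lib.helper3.STC.Mat Cfsg.Agent.Lib.helper17.SLP

universe u v w v'

section A
variable {ι : Type w} [DecidableEq ι]

theorem sig2_o0 (p : Pts ι) {i j : ι} (hij : i ≠ j) : sig2 p i j p.o0 = i := by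
  unfold sig2
  rw [Equiv.Perm.mul_apply, Equiv.swap_apply_left]
  apply Equiv.swap_apply_of_ne_of_ne _ hij
  intro e
  have h2 : Equiv.swap p.o0 i p.o0 = Equiv.swap p.o0 i p.o1 := by
    rw [Equiv.swap_apply_left]; exact e
  exact p.h01 ((Equiv.swap p.o0 i).injective h2)

set_option linter.unusedVariables false in
theorem sig2_o1 (p : Pts ι) {i j : ι} (hij : i ≠ j) : sig2 p i j p.o1 = j := by
  unfold sig2
  rw [Equiv.Perm.mul_apply, Equiv.swap_apply_left]

/-- moving one more point: if `σ` is a permutation and `c = σ x`, `k` is not among the finitely many protected values, then `swap c k * σ` maps `x` to `k` and keeps the protected values -/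
theorem spma2_step (σ : Equiv.Perm ι) (x k : ι) :
    (Equiv.swap (σ x) k * σ) x = k ∧
      ∀ y, y ≠ x → σ y ≠ k → (Equiv.swap (σ x) k * σ) y = σ y := by
  constructor
  · rw [Equiv.Perm.mul_apply, Equiv.swap_apply_left]
  · intro y hy hk
    rw [Equiv.Perm.mul_apply]
    apply Equiv.swap_apply_of_ne_of_ne _ hk
    intro e
    exact hy (σ.injective e)

theorem exists_perm3 (p : Pts ι) {i j k : ι} (hij : i ≠ j) (hik : i ≠ k) (hjk : j ≠ k) :
    ∃ σ : Equiv.Perm ι, σ p.o0 = i ∧ σ p.o1 = j ∧ σ p.o2 = k := by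
  obtain ⟨h1, h2⟩ := spma2_step (sig2 p i j) p.o2 k
  refine ⟨Equiv.swap (sig2 p i j p.o2) k * sig2 p i j, ?_, ?_, h1⟩
  · rw [h2 p.o0 p.h02 (by rw [sig2_o0 p hij]; exact hik), sig2_o0 p hij]
  · rw [h2 p.o1 p.h12 (by rw [sig2_o1 p hij]; exact hjk), sig2_o1 p hij]

theorem exists_perm4 (p : Pts ι) {x : ι} (hx : x ∈ p.o3) {i j k l : ι} (hij : i ≠ j) (hik : i ≠ k) (hil : i ≠ l)
    (hjk : j ≠ k) (hjl : j ≠ l) (hkl : k ≠ l) :
    ∃ σ : Equiv.Perm ι, σ p.o0 = i ∧ σ p.o1 = j ∧ σ p.o2 = k ∧ σ x = l := by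
  obtain ⟨σ, h0, h1, h2⟩ := exists_perm3 p hij hik hjk
  obtain ⟨hx0, hx1, hx2⟩ := p.h3 x hx
  obtain ⟨e1, e2⟩ := spma2_step σ x l
  refine ⟨Equiv.swap (σ x) l * σ, ?_, ?_, ?_, e1⟩
  · rw [e2 p.o0 (Ne.symm hx0) (by rw [h0]; exact hil), h0]
  · rw [e2 p.o1 (Ne.symm hx1) (by rw [h1]; exact hjl), h1]
  · rw [e2 p.o2 (Ne.symm hx2) (by rw [h2]; exact hkl), h2]

set_option linter.unusedSectionVars false in
theorem exists_o3 (p : Pts ι) {i j k l : ι} (hij : i ≠ j) (hik : i ≠ k) (hil : i ≠ l)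
    (hjk : j ≠ k) (hjl : j ≠ l) (hkl : k ≠ l) : ∃ x, x ∈ p.o3 := by
  by_contra hne
  have hnone : p.o3 = none := by
    rw [Option.eq_none_iff_forall_not_mem]
    intro x hx
    exact hne ⟨x, hx⟩
  have hi := p.full hnone i
  have hj := p.full hnone j
  have hk := p.full hnone k
  have hl := p.full hnone l
  rcases hi with hi | hi | hi <;> rcases hj with hj | hj | hj <;> rcases hk with hk | hk | hk <;>
    rcases hl with hl | hl | hl <;> simp_all

end A

end Cfsg.Agent.Lib.helper3.SPM
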