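import Mathlib
import Cfsg.Agent.Lib.Helper20.GLE.Defs
import Cfsg.Agent.Lib.Helper20.SPMA1
import Cfsg.Agent.Lib.Helper29.SPMA3
import Cfsg.Agent.Lib.Helper29.SPMA4
import Cfsg.Agent.Lib.Helper24.STCI1

/-!
# GLE row I2 (helper20): additivity of the root elements
-/

set_option autoImplicit false
set_option linter.unusedSectionVars false

namespace Cfsg.Agent.Lib.Helper20.GLE

open Cfsg.Agent.Lib.helper3.STC (ng ab ab_eq_iff ab_ng ng_ng)
open Cfsg.Agent.Lib.helper3.SPM (Pts pe sgm sn sig2 ptsFin pe2 pe2_injective pe2_ng ab_pe2 exists_pe2 pe2_sn_fst pe2_sn_snd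
  sn_pe2_fst)
open Cfsg.Agent.Lib.Helper27.STU
open Cfsg.Agent.Lib.helper17.SLP (cm)

universe u v w x v' y

section main
variable {F : Type u} [Field F] [StarRing F] {L : Type x} [Group L] {ι : Type w} [Fintype ι] [DecidableEq ι] {G : Type v} [Group G]
  (S₂ : SysU F False (Fin 2) L) (swL : L) (ζ : F) (p : Pts ι) (ν : Equiv.Perm ι →* G) (lam : L →* G)

/-! ## I2 -/

theorem glei2_ab_sn (a : ι ⊕ ι) (k : Fin 2) : ab (sn a k) = k := by
  rcases a with i | i <;> rfl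

theorem glei2_sn_ne (a b : ι ⊕ ι) : sn a 0 ≠ sn b 1 ∧ sn a 0 ≠ ng (sn b 1) := by
  constructor
  · intro h
    have := congrArg ab h
    rw [glei2_ab_sn, glei2_ab_sn] at this
    exact absurd this (by decide)
  · intro h
    have := congrArg ab h
    rw [ab_ng, glei2_ab_sn, glei2_ab_sn] at this
    exact absurd this (by decide)

theorem xrs_add (a b : ι ⊕ ι) (t u : F) : xrs S₂ p ν lam a b t * xrs S₂ p ν lam a b u = xrs S₂ p ν lam a b (t + u) := by
  unfold xrs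
  rw [← map_mul, S₂.adds _ _ (glei2_sn_ne a b).1 (glei2_sn_ne a b).2]

theorem xrs_zero (a b : ι ⊕ ι) : xrs S₂ p ν lam a b (0 : F) = 1 := by
  have h := xrs_add S₂ p ν lam a b 0 0
  rw [add_zero] at h
  exact mul_left_cancel (h.trans (mul_one _).symm)

theorem xrs_neg (a b : ι ⊕ ι) (t : F) : xrs S₂ p ν lam a b (-t) = (xrs S₂ p ν lam a b t)⁻¹ := by
  have h := xrs_add S₂ p ν lam a b (-t) t
  rw [neg_add_cancel, xrs_zero] at h
  exact eq_inv_of_mul_eq_one_left h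

theorem xrl_mul (a : ι ⊕ ι) (ξ η : Lam F False) : xrl S₂ p ν lam a ξ * xrl S₂ p ν lam a η = xrl S₂ p ν lam a (ξ * η) := by
  unfold xrl
  rw [← map_mul, S₂.addl]

theorem xrl_one (a : ι ⊕ ι) : xrl S₂ p ν lam a (1 : Lam F False) = 1 := by
  have h := xrl_mul S₂ p ν lam a 1 1
  rw [mul_one] at h
  exact mul_left_cancel (h.trans (mul_one _).symm)

theorem xrl_inv (a : ι ⊕ ι) (ξ : Lam F False) : xrl S₂ p ν lam a ξ⁻¹ = (xrl S₂ p ν lam a ξ)⁻¹ := by
  have h := xrl_mul S₂ p ν lam a ξ⁻¹ ξ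
  rw [inv_mul_cancel, xrl_one] at h
  exact eq_inv_of_mul_eq_one_left h


end main

end Cfsg.Agent.Lib.Helper20.GLE
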