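import Mathlib
import Cfsg.Agent.Lib.Helper20.GLE.Defs
import Cfsg.Agent.Lib.Helper9.GLEE5
import Cfsg.Agent.Lib.Helper20.GLEI2
import Cfsg.Agent.Lib.Helper20.SPMA1
import Cfsg.Agent.Lib.Helper29.SPMA3
import Cfsg.Agent.Lib.Helper29.SPMA4
import Cfsg.Agent.Lib.Helper24.STCI1

/-!
# GLE rows I3 - I7 (helper20): relations inside one pair
-/

set_option autoImplicit false
set_option linter.unusedSectionVars false

namespace Cfsg.Agent.Lib.Helper20.GLE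

open Cfsg.Agent.Lib.helper3.STC (ng ab ab_eq_iff ab_ng ng_ng)
open Cfsg.Agent.Lib.helper3.SPM (Pts pe sgm sn sig2 ptsFin pe2 pe2_injective pe2_ng ab_pe2 exists_pe2 pe2_sn_fst pe2_sn_snd
  sn_pe2_fst)
open Cfsg.Agent.Lib.Helper27.STU
open Cfsg.Agent.Lib.helper17.SLP (cm)

universe u v w x v' y

section main
variable {F : Type u} [Field F] [StarRing F] {L : Type x} [Group L] {ι : Type w} [Fintype ι] [DecidableEq ι] {G : Type v} [Group G]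
  (S₂ : SysU F False (Fin 2) L) (swL : L) (ζ : F) (p : Pts ι) (ν : Equiv.Perm ι →* G) (lam : L →* G)

/-! ## a pair of signed indices with different absolute values lies in the pair `(ab a, ab b)` -/

theorem glei3_pair {a b : ι ⊕ ι} :
    pe2 (ab a) (ab b) (sn a 0) = a ∧ pe2 (ab a) (ab b) (sn b 1) = b :=
  ⟨pe2_sn_fst _ _ rfl, pe2_sn_snd _ _ rfl⟩

theorem glei3_ab_ne (a b : ι ⊕ ι) : ab (sn a 0) ≠ ab (sn b 1) := by
  rw [glei2_ab_sn, glei2_ab_sn]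
  decide

theorem glei3_ab_ne' (a b : ι ⊕ ι) : ab (sn b 1) ≠ ab (sn a 0) := by
  rw [glei2_ab_sn, glei2_ab_sn]
  decide

/-! ## I3 -/

theorem xrs_sym (H : Glue S₂ swL ζ p ν lam) (hU : UFacts S₂ swL ζ) {a b : ι ⊕ ι} (hab : ab a ≠ ab b) (t : F) :
    xrs S₂ p ν lam a b t = xrs S₂ p ν lam (ng b) (ng a) (-(star t)) := by
  have h1 := xrs_pair S₂ swL ζ p ν lam H hU hab (glei3_ab_ne a b) t
  rw [glei3_pair.1, glei3_pair.2] at h1
  have h2 := xrs_pair S₂ swL ζ p ν lam H hU hab (a' := ng (sn b 1)) (b' := ng (sn a 0))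
    (by rw [ab_ng, ab_ng]; exact glei3_ab_ne' a b) (-(star t))
  rw [pe2_ng, pe2_ng, glei3_pair.1, glei3_pair.2] at h2
  rw [← h1, ← h2, S₂.sym _ _ (glei2_sn_ne a b).1 (glei2_sn_ne a b).2]

/-! ## I4 -/

theorem xrs_ssl (H : Glue S₂ swL ζ p ν lam) (hU : UFacts S₂ swL ζ) {a b : ι ⊕ ι} (hab : ab a ≠ ab b) (t u : F) :
    xrs S₂ p ν lam a b t * xrs S₂ p ν lam b (ng a) u * (xrs S₂ p ν lam a b t)⁻¹ * (xrs S₂ p ν lam b (ng a) u)⁻¹ =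
      xrl S₂ p ν lam a (Lam.tr (t * u)) := by
  have h1 := xrs_pair S₂ swL ζ p ν lam H hU hab (glei3_ab_ne a b) t
  rw [glei3_pair.1, glei3_pair.2] at h1
  have h2 := xrs_pair S₂ swL ζ p ν lam H hU hab (a' := sn b 1) (b' := ng (sn a 0))
    (by rw [ab_ng]; exact glei3_ab_ne' a b) u
  rw [pe2_ng, glei3_pair.1, glei3_pair.2] at h2
  have h3 := xrl_pair S₂ swL ζ p ν lam H hU hab (sn a 0) (Lam.tr (t * u))
  rw [glei3_pair.1] at h3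
  rw [← h1, ← h2, ← h3, ← map_inv, ← map_inv, ← map_mul, ← map_mul, ← map_mul,
    S₂.ssl _ _ (glei2_sn_ne a b).1 (glei2_sn_ne a b).2]

theorem xr_ls (H : Glue S₂ swL ζ p ν lam) (hU : UFacts S₂ swL ζ) {a b : ι ⊕ ι} (hab : ab a ≠ ab b) (ξ : Lam F False) (u : F) :
    xrl S₂ p ν lam a ξ * xrs S₂ p ν lam (ng a) b u * (xrl S₂ p ν lam a ξ)⁻¹ * (xrs S₂ p ν lam (ng a) b u)⁻¹ =
      xrs S₂ p ν lam a b (ξ.c * u) * xrl S₂ p ν lam (ng b) (Lam.act (star u) (Lam.bar ξ)) := by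
  have h1 := xrl_pair S₂ swL ζ p ν lam H hU hab (sn a 0) ξ
  rw [glei3_pair.1] at h1
  have h2 := xrs_pair S₂ swL ζ p ν lam H hU hab (a' := ng (sn a 0)) (b' := sn b 1)
    (by rw [ab_ng]; exact glei3_ab_ne a b) u
  rw [pe2_ng, glei3_pair.1, glei3_pair.2] at h2
  have h3 := xrs_pair S₂ swL ζ p ν lam H hU hab (glei3_ab_ne a b) (ξ.c * u)
  rw [glei3_pair.1, glei3_pair.2] at h3
  have h4 := xrl_pair S₂ swL ζ p ν lam H hU hab (ng (sn b 1)) (Lam.act (star u) (Lam.bar ξ))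
  rw [pe2_ng, glei3_pair.2] at h4
  rw [← h1, ← h2, ← h3, ← h4, ← map_inv, ← map_inv, ← map_mul, ← map_mul, ← map_mul, ← map_mul,
    S₂.ls _ _ (glei2_sn_ne a b).1 (glei2_sn_ne a b).2]

theorem xrs_rel (H : Glue S₂ swL ζ p ν lam) (hU : UFacts S₂ swL ζ) {a b : ι ⊕ ι} (hab : ab a ≠ ab b) (t u : F) (ht : t ≠ 0) :
    Cfsg.Agent.Lib.helper15.St2.cj (xrs S₂ p ν lam a b t * xrs S₂ p ν lam b a (-t⁻¹) * xrs S₂ p ν lam a b t) (xrs S₂ p ν lam a b u) =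
      xrs S₂ p ν lam b a (-(t⁻¹ ^ 2 * u)) := by
  have h1 : ∀ s, lamP p ν lam (ab a) (ab b) (S₂.xs (sn a 0) (sn b 1) s) = xrs S₂ p ν lam a b s := by
    intro s
    have := xrs_pair S₂ swL ζ p ν lam H hU hab (glei3_ab_ne a b) s
    rwa [glei3_pair.1, glei3_pair.2] at this
  have h2 : ∀ s, lamP p ν lam (ab a) (ab b) (S₂.xs (sn b 1) (sn a 0) s) = xrs S₂ p ν lam b a s := by
    intro s
    have := xrs_pair S₂ swL ζ p ν lam H hU hab (glei3_ab_ne' a b) s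
    rwa [glei3_pair.1, glei3_pair.2] at this
  unfold Cfsg.Agent.Lib.helper15.St2.cj
  have h := S₂.rel _ _ (glei2_sn_ne a b).1 (glei2_sn_ne a b).2 t u ht
  unfold Cfsg.Agent.Lib.helper15.St2.cj at h
  rw [← h1, ← h1, ← h2, ← h2, ← map_mul, ← map_mul, ← map_inv, ← map_mul, ← map_mul, h]

/-! ## I5 -/

theorem glei5_ab_ne {i j : ι} {a' b' : Fin 2 ⊕ Fin 2} (h : ab (pe2 i j a') ≠ ab (pe2 i j b')) : ab a' ≠ ab b' := by
  intro h'
  apply h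
  rw [ab_pe2, ab_pe2, h']

theorem glei5_ne_of_ab {κ : Type*} {a b : κ ⊕ κ} (h : ab a ≠ ab b) : a ≠ b ∧ a ≠ ng b := by
  constructor
  · intro h'
    exact h (by rw [h'])
  · intro h'
    exact h (by rw [h', ab_ng])

theorem xrs_comm_pair (H : Glue S₂ swL ζ p ν lam) (hU : UFacts S₂ swL ζ) {i j : ι} (hij : i ≠ j) {a b c d : ι ⊕ ι}
    (ha : ab a = i ∨ ab a = j) (hb : ab b = i ∨ ab b = j) (hc : ab c = i ∨ ab c = j) (hd : ab d = i ∨ ab d = j)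
    (hab : ab a ≠ ab b) (hcd : ab c ≠ ab d) (hbc : b ≠ c) (had : a ≠ d) (hbd : b ≠ ng d) (hac : a ≠ ng c) (t u : F) :
    xrs S₂ p ν lam a b t * xrs S₂ p ν lam c d u = xrs S₂ p ν lam c d u * xrs S₂ p ν lam a b t := by
  obtain ⟨a', rfl⟩ := exists_pe2 i j ha
  obtain ⟨b', rfl⟩ := exists_pe2 i j hb
  obtain ⟨c', rfl⟩ := exists_pe2 i j hc
  obtain ⟨d', rfl⟩ := exists_pe2 i j hd
  have hab' := glei5_ab_ne hab
  have hcd' := glei5_ab_ne hcd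
  rw [← xrs_pair S₂ swL ζ p ν lam H hU hij hab', ← xrs_pair S₂ swL ζ p ν lam H hU hij hcd', ← map_mul, ← map_mul]
  congr 1
  apply S₂.comm_ss a' b' c' d' (glei5_ne_of_ab hab').1 (glei5_ne_of_ab hab').2 (glei5_ne_of_ab hcd').1 (glei5_ne_of_ab hcd').2
  · intro h
    exact hbc (by rw [h])
  · intro h
    exact had (by rw [h])
  · intro h
    exact hbd (by rw [h, pe2_ng])
  · intro h
    exact hac (by rw [h, pe2_ng])

theorem xr_comm_ls_pair (H : Glue S₂ swL ζ p ν lam) (hU : UFacts S₂ swL ζ) {i j : ι} (hij : i ≠ j) {a c d : ι ⊕ ι}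
    (ha : ab a = i ∨ ab a = j) (hc : ab c = i ∨ ab c = j) (hd : ab d = i ∨ ab d = j)
    (hcd : ab c ≠ ab d) (hca : c ≠ ng a) (hda : d ≠ a) (ξ : Lam F False) (u : F) :
    xrl S₂ p ν lam a ξ * xrs S₂ p ν lam c d u = xrs S₂ p ν lam c d u * xrl S₂ p ν lam a ξ := by
  obtain ⟨a', rfl⟩ := exists_pe2 i j ha
  obtain ⟨c', rfl⟩ := exists_pe2 i j hc
  obtain ⟨d', rfl⟩ := exists_pe2 i j hd
  have hcd' := glei5_ab_ne hcd
  rw [← xrl_pair S₂ swL ζ p ν lam H hU hij, ← xrs_pair S₂ swL ζ p ν lam H hU hij hcd', ← map_mul, ← map_mul]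
  congr 1
  apply S₂.comm_ls a' c' d' (glei5_ne_of_ab hcd').1 (glei5_ne_of_ab hcd').2
  · intro h
    exact hca (by rw [h, pe2_ng])
  · intro h
    exact hda (by rw [h])

/-! ## I6 -/

theorem wrl_pair (H : Glue S₂ swL ζ p ν lam) (hU : UFacts S₂ swL ζ) {i j : ι} (hij : i ≠ j) (a' : Fin 2 ⊕ Fin 2) (ξ : Lam F False) :
    lamP p ν lam i j (S₂.wl a' ξ) = wrl S₂ p ν lam (pe2 i j a') ξ := by
  unfold SysU.wl wrl
  rw [map_mul, map_mul, xrl_pair S₂ swL ζ p ν lam H hU hij, xrl_pair S₂ swL ζ p ν lam H hU hij,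
    xrl_pair S₂ swL ζ p ν lam H hU hij, pe2_ng]

theorem hrl_pair (H : Glue S₂ swL ζ p ν lam) (hU : UFacts S₂ swL ζ) {i j : ι} (hij : i ≠ j) (a' : Fin 2 ⊕ Fin 2) (ξ η : Lam F False) :
    lamP p ν lam i j (S₂.hl a' ξ η) = hrl S₂ p ν lam (pe2 i j a') ξ η := by
  unfold SysU.hl hrl
  rw [map_mul, map_inv, wrl_pair S₂ swL ζ p ν lam H hU hij, wrl_pair S₂ swL ζ p ν lam H hU hij]

/-! ## I7 -/

theorem glei7_ab_pi {π' : Equiv.Perm (Fin 2 ⊕ Fin 2)} {d' : Fin 2 ⊕ Fin 2 → F} {d0' : F} (hD : SysU.MonData π' d' d0')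
    {a' b' : Fin 2 ⊕ Fin 2} (hab' : ab a' ≠ ab b') : ab (π' a') ≠ ab (π' b') := by
  intro h
  rcases ab_eq_iff.1 h with h1 | h1
  · exact (glei5_ne_of_ab hab').1 (π'.injective h1)
  · rw [← hD.pi_ng] at h1
    exact (glei5_ne_of_ab hab').2 (π'.injective h1)

theorem pmon_pair_s (H : Glue S₂ swL ζ p ν lam) (hU : UFacts S₂ swL ζ) {i j : ι} (hij : i ≠ j) {g : L} {π' : Equiv.Perm (Fin 2 ⊕ Fin 2)}
    {d' : Fin 2 ⊕ Fin 2 → F} {d0' : F} (hg : S₂.IsMon g π' d' d0') {a' b' : Fin 2 ⊕ Fin 2} (hab' : ab a' ≠ ab b') (t : F) :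
    lamP p ν lam i j g * xrs S₂ p ν lam (pe2 i j a') (pe2 i j b') t * (lamP p ν lam i j g)⁻¹ =
      xrs S₂ p ν lam (pe2 i j (π' a')) (pe2 i j (π' b')) (d' a' * (d' b')⁻¹ * t) := by
  have h := hg.2.1 a' b' (glei5_ne_of_ab hab').1 (glei5_ne_of_ab hab').2 t
  unfold Cfsg.Agent.Lib.helper15.St2.cj at h
  rw [← xrs_pair S₂ swL ζ p ν lam H hU hij hab', ← xrs_pair S₂ swL ζ p ν lam H hU hij (glei7_ab_pi hg.1 hab'),
    ← map_inv, ← map_mul, ← map_mul, h]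

theorem pmon_pair_l (H : Glue S₂ swL ζ p ν lam) (hU : UFacts S₂ swL ζ) {i j : ι} (hij : i ≠ j) {g : L} {π' : Equiv.Perm (Fin 2 ⊕ Fin 2)}
    {d' : Fin 2 ⊕ Fin 2 → F} {d0' : F} (hg : S₂.IsMon g π' d' d0') (a' : Fin 2 ⊕ Fin 2) (ξ : Lam F False) :
    lamP p ν lam i j g * xrl S₂ p ν lam (pe2 i j a') ξ * (lamP p ν lam i j g)⁻¹ =
      xrl S₂ p ν lam (pe2 i j (π' a')) (Lam.act (d' a' * d0'⁻¹) ξ) := by
  have h := hg.2.2 a' ξ
  unfold Cfsg.Agent.Lib.helper15.St2.cj at h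
  rw [← xrl_pair S₂ swL ζ p ν lam H hU hij, ← xrl_pair S₂ swL ζ p ν lam H hU hij, ← map_inv, ← map_mul, ← map_mul, h]

end main

end Cfsg.Agent.Lib.Helper20.GLE
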