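import Mathlib
import Cfsg.Agent.Lib.Helper20.GLO.Defs

/-!
# Project GLO (designer helper20; block of PSU, S2291), rows Λ0 Λ1 (`exists_lam_c exists_lam_ratio act_act act_one act_surj`).  VERBATIM vs `Helper20/GLO/SkelA.lean.txt`.
-/

set_option autoImplicit false
set_option linter.unusedSectionVars false

namespace Cfsg.Agent.Lib.Helper20.GLO

open Cfsg.Agent.Lib.helper3.STC (ng ab)
open Cfsg.Agent.Lib.helper3.SPM (Pts pe sgm sn sig2 ptsFin pe2)
open Cfsg.Agent.Lib.Helper27.STU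
open Cfsg.Agent.Lib.helper17.SLP (cm)
open Cfsg.Agent.Lib.Helper20.GLE (lamC lamP)

universe u v w x v' y

section lam
variable {F : Type u} [Field F] [StarRing F]

theorem exists_lam_c (hF : Hyp F) (c : F) : ∃ ξ : Lam F True, ξ.c = c := by
  have hfix : star (-(c + star c)) = -(c + star c) := by
    rw [star_neg, star_add, star_star]
    ring
  obtain ⟨y, hy⟩ := hF.norm_surj (-(c + star c)) hfix
  exact ⟨⟨y, c, by rw [hy]; ring, fun h => absurd trivial h⟩, rfl⟩

theorem exists_lam_ratio (hF : Hyp F) {r : F} (hr0 : r ≠ 0) :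
    ∃ ξ η : Lam F True, ξ.c ≠ 0 ∧ η.c ≠ 0 ∧ ξ.c / η.c = r := by
  obtain ⟨ξ, hξ⟩ := exists_lam_c hF r
  obtain ⟨η, hη⟩ := exists_lam_c hF 1
  refine ⟨ξ, η, ?_, ?_, ?_⟩
  · rw [hξ]; exact hr0
  · rw [hη]; exact one_ne_zero
  · rw [hξ, hη, div_one]

theorem act_act (s t : F) (ξ : Lam F True) : Lam.act s (Lam.act t ξ) = Lam.act (s * t) ξ := by
  apply Lam.ext
  · simp only [Lam.act_v]
    ring
  · simp only [Lam.act_c, star_mul']
    ring

theorem act_one (ξ : Lam F True) : Lam.act (1 : F) ξ = ξ := by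
  apply Lam.ext
  · simp
  · simp

theorem act_surj {t : F} (ht : t ≠ 0) (ξ : Lam F True) : ∃ η : Lam F True, Lam.act t η = ξ := by
  refine ⟨Lam.act t⁻¹ ξ, ?_⟩
  rw [act_act, mul_inv_cancel₀ ht, act_one]

end lam

end Cfsg.Agent.Lib.Helper20.GLO
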