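import Mathlib
import Cfsg.Agent.Lib.Helper20.GLO.Defs
import Cfsg.Agent.Lib.Helper20.SPMA1
import Cfsg.Agent.Lib.Helper24.STCI1

/-!
# Project GLO (designer helper20), row T1 (`LB_conj lamP_mem_LB_snd lamP_mem_LB_fst`): port of `Helper24/GLET1.lean`.  VERBATIM vs `Helper20/GLO/SkelA.lean.txt`.
-/

set_option autoImplicit false
set_option linter.unusedSectionVars false

namespace Cfsg.Agent.Lib.Helper20.GLO

open Cfsg.Agent.Lib.helper3.STC (ng ab)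
open Cfsg.Agent.Lib.helper3.SPM (Pts pe sgm sn sig2 ptsFin pe2)
open Cfsg.Agent.Lib.Helper27.STU
open Cfsg.Agent.Lib.helper17.SLP (cm)
open Cfsg.Agent.Lib.Helper20.GLE (lamC lamP)

universe u v w x v' y

section main
variable {F : Type u} [Field F] [StarRing F] {L : Type x} [Group L] {ι : Type w} [Fintype ι] [DecidableEq ι] {G : Type v} [Group G]
  (S₂ : SysU F True (Fin 2) L) (swL : L) (p : Pts ι) (ν : Equiv.Perm ι →* G) (lam : L →* G)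

omit [Fintype ι] in
theorem glot1_lamC_apply (σ : Equiv.Perm ι) (g : L) : lamC ν lam σ g = ν σ * lam g * (ν σ)⁻¹ := rfl

omit [Fintype ι] in
theorem glot1_lamC_mul (σ τ : Equiv.Perm ι) (g : L) : lamC ν lam (σ * τ) g = ν σ * lamC ν lam τ g * (ν σ)⁻¹ := by
  rw [glot1_lamC_apply, glot1_lamC_apply, map_mul, mul_inv_rev]
  group

omit [Fintype ι] in
theorem glot1_lamC_congr1 (H : Glue S₂ swL p ν lam) {σ τ : Equiv.Perm ι} (h1 : σ p.o1 = τ p.o1) {g : L} (hg : g ∈ B1 S₂) :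
    lamC ν lam σ g = lamC ν lam τ g := by
  have e1 : (τ⁻¹ * σ) p.o1 = p.o1 := by
    rw [Equiv.Perm.mul_apply, h1]; exact τ.symm_apply_apply _
  have hfix := H.stab1 (τ⁻¹ * σ) e1 g hg
  have hσ : σ = τ * (τ⁻¹ * σ) := by group
  rw [glot1_lamC_apply, glot1_lamC_apply]
  conv_lhs => rw [hσ, map_mul]
  calc ν τ * ν (τ⁻¹ * σ) * lam g * (ν τ * ν (τ⁻¹ * σ))⁻¹
      = ν τ * (ν (τ⁻¹ * σ) * lam g * (ν (τ⁻¹ * σ))⁻¹) * (ν τ)⁻¹ := by group
    _ = ν τ * lam g * (ν τ)⁻¹ := by rw [hfix]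

omit [Fintype ι] in
theorem glot1_lamC_swap (H : Glue S₂ swL p ν lam) (σ : Equiv.Perm ι) (g : L) :
    lamC ν lam (σ * Equiv.swap p.o0 p.o1) g = lamC ν lam σ (swL * g * swL⁻¹) := by
  rw [glot1_lamC_apply, glot1_lamC_apply, map_mul, map_mul, map_mul, map_inv, H.sw, mul_inv_rev]
  group

omit [Fintype ι] in
theorem glot1_mem_LB (H : Glue S₂ swL p ν lam) {σ : Equiv.Perm ι} {k : ι} (hσ : σ p.o1 = k) {g : L} (hg : g ∈ B1 S₂) :
    lamC ν lam σ g ∈ LB S₂ p ν lam k := by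
  unfold LB
  refine Subgroup.mem_map.2 ⟨g, hg, ?_⟩
  refine glot1_lamC_congr1 S₂ swL p ν lam H ?_ hg
  rw [Equiv.swap_apply_left, hσ]

theorem LB_conj (H : Glue S₂ swL p ν lam) (σ : Equiv.Perm ι) (k : ι) {g : G} (hg : g ∈ LB S₂ p ν lam k) :
    ν σ * g * (ν σ)⁻¹ ∈ LB S₂ p ν lam (σ k) := by
  unfold LB at hg
  obtain ⟨b, hb, rfl⟩ := Subgroup.mem_map.1 hg
  rw [← glot1_lamC_mul]
  refine glot1_mem_LB S₂ swL p ν lam H ?_ hb
  rw [Equiv.Perm.mul_apply, Equiv.swap_apply_left]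

theorem lamP_mem_LB_snd (H : Glue S₂ swL p ν lam) {i j : ι} (hij : i ≠ j) {g : L} (hg : g ∈ B1 S₂) :
    lamP p ν lam i j g ∈ LB S₂ p ν lam j := by
  unfold lamP
  exact glot1_mem_LB S₂ swL p ν lam H (Cfsg.Agent.Lib.helper3.SPM.sig2_o1 p hij) hg

theorem lamP_mem_LB_fst (H : Glue S₂ swL p ν lam) {i j : ι} (hij : i ≠ j) {g : L} (hg : g ∈ B1 S₂) :
    lamP p ν lam i j (swL * g * swL⁻¹) ∈ LB S₂ p ν lam i := by
  unfold lamP
  rw [← glot1_lamC_swap S₂ swL p ν lam H]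
  refine glot1_mem_LB S₂ swL p ν lam H ?_ hg
  rw [Equiv.Perm.mul_apply, Equiv.swap_apply_right, Cfsg.Agent.Lib.helper3.SPM.sig2_o0 p hij]

end main

end Cfsg.Agent.Lib.Helper20.GLO
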