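import Mathlib
import Cfsg.Agent.Lib.Helper13.O5760.Defs
import Cfsg.Agent.Lib.helper23.BRCLS
import Cfsg.Agent.S1001

/-!
# Project O5760 (S0980), piece CEN: `C_G(P) = P` has order `5` (from S1001)
-/

set_option autoImplicit false
set_option linter.unusedVariables false
set_option linter.unusedSectionVars false
open scoped ComplexConjugate
open Classical

namespace Cfsg.Agent.Lib.Helper13.O5760

open Cfsg.Agent.Lib.helper7 Cfsg.Agent.Lib.helper7.BR Cfsg.Agent.Lib.helper2 Cfsg.Agent.Lib.Helper25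
  Cfsg.Agent.Lib.Helper29 Cfsg.Agent.Lib.helper15.BH Cfsg.Agent.Lib.helper15.PSL

universe u

variable {G : Type u} [Group G] [Fintype G]

/-- CEN [CEN] : `C_G(P) = P` (from S1001) -/
theorem cen_card [IsSimpleGroup G] (hG : Nat.card G = 5760) (P : Sylow 5 G)
    (hP : Nat.card ↥(P : Subgroup G) = 5) : Nat.card ↥(cen P) = 5 := by
  have hne : ∃ x : ↥(P : Subgroup G), x ≠ 1 := by
    by_contra hcon
    push Not at hcon
    have hsub : Subsingleton ↥(P : Subgroup G) := ⟨fun u v => by rw [hcon u, hcon v]⟩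
    have : Nat.card ↥(P : Subgroup G) ≤ 1 := Finite.card_le_one_iff_subsingleton.mpr hsub
    omega
  obtain ⟨⟨x, hxP⟩, hx1⟩ := hne
  have hx1' : x ≠ 1 := fun h => hx1 (Subtype.ext h)
  have hord : orderOf x = 5 := by
    have hdvd : orderOf (⟨x, hxP⟩ : ↥(P : Subgroup G)) ∣ 5 := by
      have h0 := orderOf_dvd_natCard (⟨x, hxP⟩ : ↥(P : Subgroup G))
      rwa [hP] at h0
    have hsub : orderOf (⟨x, hxP⟩ : ↥(P : Subgroup G)) = orderOf x := Subgroup.orderOf_mk x hxP
    rw [hsub] at hdvd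
    rcases (Nat.dvd_prime (by norm_num : Nat.Prime 5)).1 hdvd with h | h
    · exact absurd (orderOf_eq_one_iff.1 h) hx1'
    · exact h
  have h1 : Subgroup.centralizer ({x} : Set G) = Subgroup.zpowers x :=
    Cfsg.Agent.S1001.result 5 2 7 (by norm_num) (by rw [hG]; norm_num) x hord
  have h2 : Subgroup.centralizer ({x} : Set G) = cen P := centralizer_eq_cen P hP x hxP hx1'
  rw [← h2, h1, Nat.card_zpowers, hord]

end Cfsg.Agent.Lib.Helper13.O5760
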