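import Mathlib

/-!
# Project O9M, row PERP (`perp_ker`): for an isometry `A`, `ker (A + 1) ^ b` is orthogonal to `ker r(A)` when `r (-1) ≠ 0`.
-/

set_option autoImplicit false

namespace Cfsg.Agent.Lib.Helper11.O9M

open Polynomial Module

/-- `B (T x) (A y) = B x (T y)` for `T = A + 1` -/
theorem o9mperp_step {F : Type*} [Field F] {V : Type*} [AddCommGroup V] [Module F V]
    (B : LinearMap.BilinForm F V) (A : Module.End F V) (hA : ∀ x y, B (A x) (A y) = B x y)
    (x y : V) : B ((A + 1) x) (A y) = B x ((A + 1) y) := by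
  rw [LinearMap.add_apply, LinearMap.add_apply, Module.End.one_apply, Module.End.one_apply, map_add,
    LinearMap.add_apply, hA, map_add, add_comm]

theorem o9mperp_comm {F : Type*} [Field F] {V : Type*} [AddCommGroup V] [Module F V]
    (A : Module.End F V) (k : ℕ) (y : V) : ((A + 1) ^ k) (A y) = A (((A + 1) ^ k) y) := by
  have h : Commute ((A + 1) ^ k) A := by
    apply Commute.pow_left
    exact (Commute.refl A).add_left (Commute.one_left A)
  have := congrArg (fun f : Module.End F V => f y) h.eq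
  simpa [Module.End.mul_apply] using this

/-- `B ((T ^ k) x) ((A ^ k) y) = B x ((T ^ k) y)` -/
theorem o9mperp_pow {F : Type*} [Field F] {V : Type*} [AddCommGroup V] [Module F V]
    (B : LinearMap.BilinForm F V) (A : Module.End F V) (hA : ∀ x y, B (A x) (A y) = B x y)
    (k : ℕ) (x y : V) : B (((A + 1) ^ k) x) ((A ^ k) y) = B x (((A + 1) ^ k) y) := by
  induction k generalizing x y with
  | zero => rfl
  | succ k ih =>
    have e1 : ((A + 1) ^ (k + 1)) x = ((A + 1) ^ k) ((A + 1) x) := by
      rw [pow_succ, Module.End.mul_apply]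
    have e2 : (A ^ (k + 1)) y = (A ^ k) (A y) := by
      rw [pow_succ, Module.End.mul_apply]
    have e3 : ((A + 1) ^ (k + 1)) y = (A + 1) (((A + 1) ^ k) y) := by
      rw [pow_succ', Module.End.mul_apply]
    rw [e1, e2, e3, ih, o9mperp_comm, o9mperp_step B A hA]

theorem o9mperp_coprime {F : Type*} [Field F] (b : ℕ) (r : F[X]) (hr : r.eval (-1) ≠ 0) :
    IsCoprime ((X + 1 : F[X]) ^ b) r := by
  apply IsCoprime.pow_left
  have e : (X + 1 : F[X]) = X - C (-1) := by
    rw [map_neg, sub_neg_eq_add, map_one]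
  rw [e, (irreducible_X_sub_C (-1 : F)).coprime_iff_not_dvd, dvd_iff_isRoot]
  exact hr

/-- PERP [M]: `T = A + 1`.  `B (T x) (A y) = B (A x) (A y) + B x (A y) = B x y + B x (A y) = B x (T y)`; `A` and `T` commute, so by induction `B ((T^k) x) ((A^k) y) = B x ((T^k) y)`.
Hence `B w ((T^b) y) = B ((T^b) w) ((A^b) y) = 0`.  And `w' = (T^b) y` for some `y`: `IsCoprime ((X + 1)^b) r` (`hr`: `X + 1 = X - C (-1)`, `Polynomial.dvd_iff_isRoot`, irreducible of degree 1, `IsCoprime.pow_left`),
`u * (X+1)^b + v * r = 1`, apply `aeval A` to `w'`: `w' = (T^b) (aeval A u w')` (`aeval A ((X+1)^b) = T^b`, commutativity in `F[X]`). -/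
theorem perp_ker {F : Type*} [Field F] {V : Type*} [AddCommGroup V] [Module F V]
    (B : LinearMap.BilinForm F V) (A : Module.End F V) (hA : ∀ x y, B (A x) (A y) = B x y)
    (b : ℕ) (r : F[X]) (hr : r.eval (-1) ≠ 0) (w w' : V) (hw : ((A + 1) ^ b) w = 0)
    (hw' : aeval A r w' = 0) : B w w' = 0 := by
  obtain ⟨u, v, huv⟩ := o9mperp_coprime b r hr
  have hT : aeval A ((X + 1 : F[X]) ^ b) = (A + 1) ^ b := by
    rw [map_pow, map_add, aeval_X, map_one]
  have h1 : w' = ((A + 1) ^ b) (aeval A u w') := by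
    have h2 := congrArg (fun p : F[X] => aeval A p w') huv
    simp only [map_add, map_mul, map_one, LinearMap.add_apply, Module.End.mul_apply,
      Module.End.one_apply] at h2
    rw [hw', map_zero, add_zero, hT] at h2
    have h3 : Commute (aeval A u) ((A + 1) ^ b) := by
      rw [← hT]
      exact (Commute.all u ((X + 1 : F[X]) ^ b)).map (aeval A)
    have h4 := congrArg (fun f : Module.End F V => f w') h3.eq
    simp only [Module.End.mul_apply] at h4
    rw [← h4]
    exact h2.symm
  rw [h1, ← o9mperp_pow B A hA, hw, map_zero, LinearMap.zero_apply]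

end Cfsg.Agent.Lib.Helper11.O9M
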