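import Mathlib

/-!
# Project O9M, row SKEWNIL, core (`o9mskewnil_core`): a skew nilpotent endomorphism `S` of a nondegenerate symmetric space of even
dimension `d` (characteristic `≠ 2`) has `S ^ (d - 1) = 0`; the statement of NILRK (`finrank (range (S ^ (d - 1))) ≤ 1`) is a hypothesis.
-/

set_option autoImplicit false

namespace Cfsg.Agent.Lib.Helper11.O9M

open Polynomial Module

/-- `B ((S ^ k) x) y = (-1) ^ k * B x ((S ^ k) y)` -/
theorem o9mskewnil_pow {F : Type*} [Field F] {V : Type*} [AddCommGroup V] [Module F V]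
    (B : LinearMap.BilinForm F V) (S : Module.End F V) (hskew : ∀ x y, B (S x) y = - B x (S y))
    (k : ℕ) (x y : V) : B ((S ^ k) x) y = (-1) ^ k * B x ((S ^ k) y) := by
  induction k generalizing x y with
  | zero => rw [pow_zero, pow_zero, one_mul]; rfl
  | succ k ih =>
    have e1 : (S ^ (k + 1)) x = S ((S ^ k) x) := by rw [pow_succ', Module.End.mul_apply]
    have e2 : (S ^ (k + 1)) y = (S ^ k) (S y) := by rw [pow_succ, Module.End.mul_apply]
    rw [e1, e2, hskew, ih, pow_succ]
    ring

theorem o9mskewnil_core {F : Type*} [Field F] (h2 : (2 : F) ≠ 0) {V : Type*} [AddCommGroup V]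
    [Module F V] [FiniteDimensional F V]
    (B : LinearMap.BilinForm F V) (hsym : ∀ x y, B x y = B y x) (hnd : ∀ x, (∀ y, B x y = 0) → x = 0)
    (S : Module.End F V) (hskew : ∀ x y, B (S x) y = - B x (S y))
    (hNR : finrank F (LinearMap.range (S ^ (finrank F V - 1))) ≤ 1)
    (hd : Even (finrank F V)) : S ^ (finrank F V - 1) = 0 := by
  rcases Nat.eq_zero_or_pos (finrank F V) with h0 | hpos
  · -- the space is trivial
    have : Subsingleton V := Module.finrank_zero_iff.1 h0
    apply LinearMap.ext
    intro x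
    exact Subsingleton.elim _ _
  · set m := finrank F V - 1 with hm
    have hodd : Odd m := by
      obtain ⟨c, hc⟩ := hd
      refine ⟨c - 1, ?_⟩
      omega
    -- `β x y = B (P x) y` is antisymmetric
    have hanti : ∀ x y, B ((S ^ m) x) y = - B ((S ^ m) y) x := by
      intro x y
      rw [o9mskewnil_pow B S hskew, hodd.neg_one_pow, neg_one_mul, hsym x]
    have hself : ∀ x, B ((S ^ m) x) x = 0 := by
      intro x
      have h := hanti x x
      have h3 : (2 : F) * B ((S ^ m) x) x = 0 := by
        rw [two_mul]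
        nth_rewrite 1 [h]
        exact neg_add_cancel _
      exact (mul_eq_zero.1 h3).resolve_left h2
    -- the range of `P` is spanned by one vector `P e₀`
    obtain ⟨⟨v, hv⟩, hgen⟩ := finrank_le_one_iff.1 hNR
    obtain ⟨e₀, rfl⟩ := hv
    have hspan : ∀ x, ∃ c : F, (S ^ m) x = c • (S ^ m) e₀ := by
      intro x
      obtain ⟨c, hc⟩ := hgen ⟨(S ^ m) x, LinearMap.mem_range_self _ x⟩
      refine ⟨c, ?_⟩
      have := congrArg Subtype.val hc
      exact this.symm
    apply LinearMap.ext
    intro x
    rw [LinearMap.zero_apply]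
    apply hnd
    intro y
    obtain ⟨cx, hx⟩ := hspan x
    obtain ⟨cy, hy⟩ := hspan y
    rw [hx, map_smul, LinearMap.smul_apply, hanti, hy, map_smul, LinearMap.smul_apply, hself,
      smul_zero, neg_zero, smul_zero]

end Cfsg.Agent.Lib.Helper11.O9M
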