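import Mathlib
import Cfsg.Agent.Lib.Helper20.O9MSKEWNILcore
import Cfsg.Agent.Lib.Helper26.O9MNILRK

/-!
# O9M, row SKEWNIL

`skew_nil`: a nilpotent `B`-skew endomorphism of an even-dimensional nondegenerate symmetric bilinear space (`2 ≠ 0`) has `S ^ (d - 1) = 0`.
The work is in `o9mskewnil_core` (Helper20/O9MSKEWNILcore); the rank bound is helper26's `nil_rank`.
-/

namespace Cfsg.Agent.Lib.Helper11.O9M

open Polynomial Module

/-- SKEWNIL [M]: `d = finrank V` even.  `d = 0`: `V` trivial.  Else `d - 1` is odd: `β x y := B ((S^(d-1)) x) y = (-1)^(d-1) B x ((S^(d-1)) y) = - β y x` (induction on the exponent from `hskew`; `hsym`),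
so `β x x = 0` (`h2`).  If `S^(d-1) ≠ 0`: by NILRK the range of `S^(d-1)` is spanned by one vector `e = S^(d-1) e₀`, every `S^(d-1) x = c • e`; then
`β x y = c β e₀ y = - c β y e₀ = - c c' β e₀ e₀ = 0`; so `B (S^(d-1) x) y = 0` for all `y`, `S^(d-1) x = 0` by `hnd`. -/
theorem skew_nil {F : Type*} [Field F] (h2 : (2 : F) ≠ 0) {V : Type*} [AddCommGroup V] [Module F V] [FiniteDimensional F V]
    (B : LinearMap.BilinForm F V) (hsym : ∀ x y, B x y = B y x) (hnd : ∀ x, (∀ y, B x y = 0) → x = 0)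
    (S : Module.End F V) (hskew : ∀ x y, B (S x) y = - B x (S y)) (hnil : IsNilpotent S)
    (hd : Even (finrank F V)) : S ^ (finrank F V - 1) = 0 :=
  o9mskewnil_core h2 B hsym hnd S hskew (nil_rank S hnil) hd

end Cfsg.Agent.Lib.Helper11.O9M
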