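import Mathlib
import Cfsg.Agent.Lib.Helper19.S5954.Defs

/-!
# S5954 row USUPND (helper20): orthogonal sum of invariant non-degenerate subspaces (hermitian twin of Helper11/S5956USUPND)
-/

set_option autoImplicit false
set_option linter.unusedVariables false

namespace Cfsg.Agent.Lib.Helper19.S5954

open Polynomial Module Cfsg.Agent.Lib.Helper13.S5955 Cfsg.Agent.Lib.helper14.JTa Cfsg.Agent.Lib.Helper11.S5956U

variable {F : Type*} [Field F] {V : Type*} [AddCommGroup V] [Module F V]

/-- orthogonality is symmetric for a conjugate-symmetric form -/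
theorem s5954usupnd_orth_symm {σ : F →+* F} {B : V →ₛₗ[σ] V →ₗ[F] F}
    (hsymm : ∀ u v, σ (B u v) = B v u) (a b : V) (hab : B a b = 0) : B b a = 0 := by
  rw [← hsymm a b, hab, map_zero]

/-- USUPND [M] (twin of Helper11/S5956USUPND.lean). -/
theorem h_sup_nd [FiniteDimensional F V] {r : ℕ} {σ : F →+* F} {B : V →ₛₗ[σ] V →ₗ[F] F}
    {x : Module.End F V} (h : HCtx r σ B x) (U W : Submodule F V) (hU : SInv x U) (hW : SInv x W)
    (hUnd : HND B U) (hWnd : HND B W) (horth : HOrth B U W) :
    SInv x (U ⊔ W) ∧ HND B (U ⊔ W) ∧ finrank F ↥(U ⊔ W) = finrank F U + finrank F W := by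
  have horth' : ∀ w ∈ W, ∀ u ∈ U, B w u = 0 := by
    intro w hw u hu
    exact s5954usupnd_orth_symm h.symm u w (horth u hu w hw)
  refine ⟨?_, ?_, ?_⟩
  · intro v hv
    obtain ⟨a, ha, b, hb, rfl⟩ := Submodule.mem_sup.mp hv
    rw [map_add]
    exact Submodule.add_mem _ (Submodule.mem_sup_left (hU a ha)) (Submodule.mem_sup_right (hW b hb))
  · intro v hv hv0
    obtain ⟨a, ha, b, hb, rfl⟩ := Submodule.mem_sup.mp hv
    have ha0 : a = 0 := by
      apply hUnd a ha
      intro u hu
      have := hv0 u (Submodule.mem_sup_left hu)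
      rw [map_add, LinearMap.add_apply, horth' b hb u hu, add_zero] at this
      exact this
    have hb0 : b = 0 := by
      apply hWnd b hb
      intro w hw
      have := hv0 w (Submodule.mem_sup_right hw)
      rw [map_add, LinearMap.add_apply, horth a ha w hw, zero_add] at this
      exact this
    rw [ha0, hb0, add_zero]
  · have hdis : Disjoint U W := by
      rw [Submodule.disjoint_def]
      intro v hvU hvW
      apply hUnd v hvU
      intro u hu
      exact horth' v hvW u hu
    have := Submodule.finrank_sup_add_finrank_inf_eq U W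
    rw [hdis.eq_bot, finrank_bot, add_zero] at this
    exact this

end Cfsg.Agent.Lib.Helper19.S5954
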