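import Mathlib
import Cfsg.Agent.Lib.Helper11.S5956U.Defs

set_option autoImplicit false

/-!
# Project S5956U, row RDKADD: `rdk` is additive over an invariant decomposition `N = U ⊕ N'`.
-/

namespace Cfsg.Agent.Lib.Helper11.S5956U

open Polynomial Module Cfsg.Agent.Lib.Helper13.S5955 Cfsg.Agent.Lib.helper14.JTa

variable {F : Type*} [Field F] {V : Type*} [AddCommGroup V] [Module F V]

/-- an `x`-invariant subspace is invariant under `(x - 1) ^ j` -/
theorem s5956urdkadd_pow_mem (x : Module.End F V) (U : Submodule F V) (hU : SInv x U) (j : ℕ) :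
    ∀ v ∈ U, ((x - 1) ^ j) v ∈ U := by
  apply Module.End.pow_apply_mem_of_forall_mem j
  intro v hv
  rw [LinearMap.sub_apply, Module.End.one_apply]
  exact U.sub_mem (hU v hv) hv

/-- RDKADD [M]: `rdk` is additive over an invariant decomposition `N = U ⊕ N'` (in the form delivered by `peel_nd`). -/
theorem rdk_add [FiniteDimensional F V] (x : Module.End F V) (N U N' : Submodule F V)
    (hU : SInv x U) (hN' : SInv x N') (hUN : U ≤ N) (hN'N : N' ≤ N) (hdis : Disjoint U N')
    (hdim : finrank F N' + finrank F U = finrank F N) (j : ℕ) :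
    rdk x N j = rdk x U j + rdk x N' j := by
  unfold rdk
  set K : Submodule F V := LinearMap.ker ((x - 1) ^ j) with hK
  have hsup : U ⊔ N' = N := by
    apply Submodule.eq_of_le_of_finrank_eq (sup_le hUN hN'N)
    have h := Submodule.finrank_sup_add_finrank_inf_eq U N'
    rw [hdis.eq_bot, finrank_bot, add_zero] at h
    rw [h, ← hdim, add_comm]
  have hdis' : Disjoint (K ⊓ U) (K ⊓ N') := hdis.mono inf_le_right inf_le_right
  have hKN : K ⊓ N = (K ⊓ U) ⊔ (K ⊓ N') := by
    apply le_antisymm
    · intro v hv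
      obtain ⟨hvK, hvN⟩ := Submodule.mem_inf.mp hv
      rw [← hsup] at hvN
      obtain ⟨u, hu, n, hn, rfl⟩ := Submodule.mem_sup.mp hvN
      have h0 : ((x - 1) ^ j) u + ((x - 1) ^ j) n = 0 := by
        rw [← map_add]
        exact LinearMap.mem_ker.mp hvK
      have huU := s5956urdkadd_pow_mem x U hU j u hu
      have hnN := s5956urdkadd_pow_mem x N' hN' j n hn
      have hu0 : ((x - 1) ^ j) u = 0 := by
        have hmem : ((x - 1) ^ j) u ∈ N' := by
          rw [eq_neg_of_add_eq_zero_left h0]
          exact N'.neg_mem hnN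
        exact (Submodule.disjoint_def.mp hdis) _ huU hmem
      have hn0 : ((x - 1) ^ j) n = 0 := by
        rw [hu0, zero_add] at h0
        exact h0
      exact Submodule.add_mem _
        (Submodule.mem_sup_left (Submodule.mem_inf.mpr ⟨LinearMap.mem_ker.mpr hu0, hu⟩))
        (Submodule.mem_sup_right (Submodule.mem_inf.mpr ⟨LinearMap.mem_ker.mpr hn0, hn⟩))
    · exact sup_le (inf_le_inf_left K hUN) (inf_le_inf_left K hN'N)
  rw [hKN]
  have h := Submodule.finrank_sup_add_finrank_inf_eq (K ⊓ U) (K ⊓ N')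
  rw [hdis'.eq_bot, finrank_bot, add_zero] at h
  exact h

end Cfsg.Agent.Lib.Helper11.S5956U
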