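import Mathlib
import Cfsg.Agent.Lib.Helper11.S5956U.Defs

set_option autoImplicit false

/-!
# Project S5956U, row TYPELE: the type of an invariant direct summand is a sub-multiset of the type.
-/

namespace Cfsg.Agent.Lib.Helper11.S5956U

open Polynomial Module Cfsg.Agent.Lib.Helper13.S5955 Cfsg.Agent.Lib.helper14.JTa

variable {F : Type*} [Field F] {V : Type*} [AddCommGroup V] [Module F V]

/-- the increments of `tyf` -/
theorem s5956utypele_tyf_succ (μ : Multiset ℕ) (k : ℕ) :
    tyf μ (k + 1) = tyf μ k + (μ.filter (fun b => k < b)).card :=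
  Cfsg.Agent.Lib.helper14.JTc.sum_min_succ μ k

/-- pure arithmetic core: kernel-dimension sequences `a k = tyf ν k`, `a k + b k = tyf μ k` with
increments of `b` non-increasing give `ν ≤ μ`. -/
theorem s5956utypele_core (μ ν : Multiset ℕ) (hν0 : ∀ a ∈ ν, 0 < a) (e' : ℕ → ℕ)
    (hmono : ∀ k, e' (k + 1) ≤ e' k)
    (hinc : ∀ k, (μ.filter (fun b => k < b)).card = (ν.filter (fun b => k < b)).card + e' k) :
    ν ≤ μ := by
  rw [Multiset.le_iff_count]
  intro a
  rcases Nat.eq_zero_or_pos a with h0 | hpos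
  · subst h0
    have : (0 : ℕ) ∉ ν := fun h => lt_irrefl 0 (hν0 0 h)
    rw [Multiset.count_eq_zero_of_notMem this]
    exact Nat.zero_le _
  · obtain ⟨i, rfl⟩ : ∃ i, a = i + 1 := ⟨a - 1, by omega⟩
    have h1 := Cfsg.Agent.Lib.helper14.JTc.count_add_card μ i
    have h2 := Cfsg.Agent.Lib.helper14.JTc.count_add_card ν i
    have h3 := hinc i
    have h4 := hinc (i + 1)
    have h5 := hmono i
    omega

/-- TYPELE [M]: the type of an invariant direct summand is a sub-multiset of the type.
(helper14: `dk_add`, `dk_restrict`, `dk_succ`, `ek_succ_le`, `JTc.sum_min_succ`, `JTc.count_add_card`; `Multiset.le_iff_count`.) -/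
theorem type_le [FiniteDimensional F V] (x : Module.End F V) (W W' : Submodule F V)
    (hW : SInv x W) (hW' : SInv x W') (hc : IsCompl W W') (μ ν : Multiset ℕ)
    (hμ0 : ∀ a ∈ μ, 0 < a) (hν0 : ∀ a ∈ ν, 0 < a)
    (hμ : ∀ j, dk (x - 1) j = tyf μ j) (hν : ∀ j, rdk x W j = tyf ν j) : ν ≤ μ := by
  have hA : ∀ v ∈ W, (x - 1) v ∈ W := by
    intro v hv
    rw [LinearMap.sub_apply, Module.End.one_apply]
    exact W.sub_mem (hW v hv) hv
  have hB : ∀ v ∈ W', (x - 1) v ∈ W' := by
    intro v hv
    rw [LinearMap.sub_apply, Module.End.one_apply]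
    exact W'.sub_mem (hW' v hv) hv
  have hadd : ∀ k, dk (x - 1) k = dk ((x - 1).restrict hA) k + dk ((x - 1).restrict hB) k :=
    fun k => dk_add (x - 1) W W' hc hA hB k
  have ha : ∀ k, dk ((x - 1).restrict hA) k = tyf ν k := by
    intro k
    rw [dk_restrict, ← hν k]
    rfl
  refine s5956utypele_core μ ν hν0 (fun k => ek ((x - 1).restrict hB) k)
    (fun k => ek_succ_le _ k) ?_
  intro k
  have h1 := hadd k
  have h2 := hadd (k + 1)
  rw [hμ k, ha k] at h1
  rw [hμ (k + 1), ha (k + 1), dk_succ ((x - 1).restrict hB) k, s5956utypele_tyf_succ,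
    s5956utypele_tyf_succ] at h2
  show (μ.filter (fun b => k < b)).card = (ν.filter (fun b => k < b)).card + ek ((x - 1).restrict hB) k
  omega

end Cfsg.Agent.Lib.Helper11.S5956U
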