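import Mathlib
import Cfsg.Agent.Lib.Helper19.SO8.Defs
import Cfsg.Agent.Lib.helper6.Symp
import Cfsg.Agent.Lib.helper6.SympBasis
import Cfsg.Agent.Lib.Helper16.SpinG2
import Cfsg.Agent.Lib.Helper16.SpinA

set_option autoImplicit false

/-!
# Project SO8, row B (`o_embed`): `GO⁻_{2k+2}(F) ↪ Sp_{2k+2}(F)` in characteristic 2.

The polar form of `quadFormMinus k F a b` is, in characteristic `2`, the alternating form
`Σ (u_{x_i} v_{y_i} + u_{y_i} v_{x_i}) + a (u_{z₁} v_{z₂} + u_{z₂} v_{z₁})`; the linear equivalence `so8b_e` (reindexing and scaling the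
`z₂`-coordinate by `a`) carries it to `Cfsg.sympForm (k+1) F`, and conjugation by its matrix embeds the isometry group into the
symplectic group.
-/

namespace Cfsg.Agent.Lib.Helper19.SO8

open Matrix

/-- the reindexing `Fin (k+1) ⊕ Fin (k+1) ≃ (Fin k ⊕ Fin k) ⊕ Fin 2` -/
def so8b_tau (k : ℕ) : Fin (k + 1) ⊕ Fin (k + 1) ≃ (Fin k ⊕ Fin k) ⊕ Fin 2 where
  toFun := Sum.elim (Fin.lastCases (Sum.inr 0) (fun i => Sum.inl (Sum.inl i)))
    (Fin.lastCases (Sum.inr 1) (fun i => Sum.inl (Sum.inr i)))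
  invFun := Sum.elim (Sum.elim (fun i => Sum.inl i.castSucc) (fun i => Sum.inr i.castSucc))
    (fun j => if j = 0 then Sum.inl (Fin.last k) else Sum.inr (Fin.last k))
  left_inv := by
    rintro (j | j)
    · induction j using Fin.lastCases with
      | last => simp
      | cast i => simp
    · induction j using Fin.lastCases with
      | last => simp
      | cast i => simp
  right_inv := by
    rintro ((i | i) | j)
    · simp
    · simp
    · fin_cases j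
      · simp
      · simp

theorem so8b_tau_inl_cast (k : ℕ) (i : Fin k) :
    so8b_tau k (Sum.inl i.castSucc) = Sum.inl (Sum.inl i) := by
  simp [so8b_tau]

theorem so8b_tau_inr_cast (k : ℕ) (i : Fin k) :
    so8b_tau k (Sum.inr i.castSucc) = Sum.inl (Sum.inr i) := by
  simp [so8b_tau]

theorem so8b_tau_inl_last (k : ℕ) : so8b_tau k (Sum.inl (Fin.last k)) = Sum.inr 0 := by
  simp [so8b_tau]

theorem so8b_tau_inr_last (k : ℕ) : so8b_tau k (Sum.inr (Fin.last k)) = Sum.inr 1 := by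
  simp [so8b_tau]

/-- the scaling factors: `a` at `z₂`, `1` elsewhere -/
def so8b_dd {F : Type*} [Field F] (k : ℕ) (a : F) (c : (Fin k ⊕ Fin k) ⊕ Fin 2) : F :=
  if c = Sum.inr 1 then a else 1

theorem so8b_dd_ne {F : Type*} [Field F] (k : ℕ) (a : F) (ha : a ≠ 0)
    (c : (Fin k ⊕ Fin k) ⊕ Fin 2) : so8b_dd k a c ≠ 0 := by
  unfold so8b_dd
  split_ifs
  · exact ha
  · exact one_ne_zero

/-- the linear equivalence `u ↦ (r ↦ dd (τ r) * u (τ r))` -/
noncomputable def so8b_e {F : Type*} [Field F] (k : ℕ) (a : F) (ha : a ≠ 0) :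
    ((Fin k ⊕ Fin k) ⊕ Fin 2 → F) ≃ₗ[F] (Fin (k + 1) ⊕ Fin (k + 1) → F) :=
  (LinearEquiv.piCongrRight
    (fun c => LinearEquiv.smulOfNeZero F F (so8b_dd k a c) (so8b_dd_ne k a ha c))).trans
    (LinearEquiv.funCongrLeft F F (so8b_tau k))

theorem so8b_e_apply {F : Type*} [Field F] (k : ℕ) (a : F) (ha : a ≠ 0)
    (u : (Fin k ⊕ Fin k) ⊕ Fin 2 → F) (r : Fin (k + 1) ⊕ Fin (k + 1)) :
    so8b_e k a ha u r = so8b_dd k a (so8b_tau k r) * u (so8b_tau k r) := rfl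

/-- the key identity: `so8b_e` carries the polar form to the standard symplectic form -/
theorem so8b_form {F : Type*} [Field F] [CharP F 2] (k : ℕ) (a b : F) (ha : a ≠ 0)
    (u v : (Fin k ⊕ Fin k) ⊕ Fin 2 → F) :
    Cfsg.sympForm (k + 1) F (so8b_e k a ha u) (so8b_e k a ha v) =
      QuadraticMap.polar (Cfsg.quadFormMinus k F a b) u v := by
  have h2 : (2 : F) = 0 := CharTwo.two_eq_zero
  rw [Cfsg.Agent.Lib.helper6.SB.sympForm_eq_sum, Cfsg.Agent.Lib.Helper16.polar_minus',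
    Fin.sum_univ_castSucc]
  simp only [so8b_e_apply, so8b_tau_inl_cast, so8b_tau_inr_cast, so8b_tau_inl_last,
    so8b_tau_inr_last, so8b_dd]
  simp only [reduceCtorEq, if_false, if_true, one_mul, h2, zero_mul, zero_add, add_zero,
    CharTwo.sub_eq_add]
  congr 1
  · apply Finset.sum_congr rfl
    intro i _
    ring
  · have : ((Sum.inr 0 : (Fin k ⊕ Fin k) ⊕ Fin 2) = Sum.inr 1) = False := by
      simp
    simp only [this, if_false, one_mul]
    ring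

/-- isometries preserve the polar form -/
theorem so8b_polar_pres {F : Type*} [Field F] (k : ℕ) (a b : F)
    (g : GL ((Fin k ⊕ Fin k) ⊕ Fin 2) F)
    (hg : g ∈ Cfsg.isometryGroup F (Cfsg.quadFormMinus k F a b))
    (u v : (Fin k ⊕ Fin k) ⊕ Fin 2 → F) :
    QuadraticMap.polar (Cfsg.quadFormMinus k F a b)
        ((g : Matrix ((Fin k ⊕ Fin k) ⊕ Fin 2) ((Fin k ⊕ Fin k) ⊕ Fin 2) F) *ᵥ u)
        ((g : Matrix ((Fin k ⊕ Fin k) ⊕ Fin 2) ((Fin k ⊕ Fin k) ⊕ Fin 2) F) *ᵥ v) =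
      QuadraticMap.polar (Cfsg.quadFormMinus k F a b) u v := by
  have h := (Cfsg.Agent.Lib.Helper16.mem_iso_iff (Cfsg.quadFormMinus k F a b) g).mp hg
  unfold QuadraticMap.polar
  rw [← Matrix.mulVec_add, h, h, h]

theorem o_embed {F : Type*} [Field F] [CharP F 2] (k : ℕ) (a b : F) (ha : a ≠ 0) :
    ∃ φ : ↥(Cfsg.isometryGroup F (Cfsg.quadFormMinus k F a b)) →* Matrix.symplecticGroup (Fin (k + 1)) F,
      Function.Injective φ := by
  classical
  let e := so8b_e (F := F) k a ha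
  let P : Matrix (Fin (k + 1) ⊕ Fin (k + 1)) ((Fin k ⊕ Fin k) ⊕ Fin 2) F :=
    LinearMap.toMatrix' (e : ((Fin k ⊕ Fin k) ⊕ Fin 2 → F) →ₗ[F] (Fin (k + 1) ⊕ Fin (k + 1) → F))
  let P' : Matrix ((Fin k ⊕ Fin k) ⊕ Fin 2) (Fin (k + 1) ⊕ Fin (k + 1)) F :=
    LinearMap.toMatrix'
      (e.symm : (Fin (k + 1) ⊕ Fin (k + 1) → F) →ₗ[F] ((Fin k ⊕ Fin k) ⊕ Fin 2 → F))
  have hPP' : P * P' = 1 := by
    show LinearMap.toMatrix' _ * LinearMap.toMatrix' _ = 1
    rw [← LinearMap.toMatrix'_comp, LinearEquiv.comp_coe, LinearEquiv.symm_trans_self,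
      LinearEquiv.refl_toLinearMap, LinearMap.toMatrix'_id]
  have hP'P : P' * P = 1 := by
    show LinearMap.toMatrix' _ * LinearMap.toMatrix' _ = 1
    rw [← LinearMap.toMatrix'_comp, LinearEquiv.comp_coe, LinearEquiv.self_trans_symm,
      LinearEquiv.refl_toLinearMap, LinearMap.toMatrix'_id]
  have hPv : ∀ u, P *ᵥ u = e u := fun u => LinearMap.toMatrix'_mulVec _ u
  have hP'v : ∀ U, P' *ᵥ U = e.symm U := fun U => LinearMap.toMatrix'_mulVec _ U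
  have hmem : ∀ g : ↥(Cfsg.isometryGroup F (Cfsg.quadFormMinus k F a b)),
      P * ((g : GL ((Fin k ⊕ Fin k) ⊕ Fin 2) F) :
        Matrix ((Fin k ⊕ Fin k) ⊕ Fin 2) ((Fin k ⊕ Fin k) ⊕ Fin 2) F) * P' ∈
        Matrix.symplecticGroup (Fin (k + 1)) F := by
    intro g
    rw [Cfsg.Agent.Lib.helper6.mem_symplecticGroup_iff_sympForm]
    intro U V
    rw [← Matrix.mulVec_mulVec, ← Matrix.mulVec_mulVec, ← Matrix.mulVec_mulVec,
      ← Matrix.mulVec_mulVec, hP'v, hP'v, hPv, hPv, so8b_form k a b ha,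
      so8b_polar_pres k a b g g.2, ← so8b_form k a b ha]
    show Cfsg.sympForm (k + 1) F (e (e.symm U)) (e (e.symm V)) = _
    rw [LinearEquiv.apply_symm_apply, LinearEquiv.apply_symm_apply]
  have hmul : ∀ G H : Matrix ((Fin k ⊕ Fin k) ⊕ Fin 2) ((Fin k ⊕ Fin k) ⊕ Fin 2) F,
      P * (G * H) * P' = (P * G * P') * (P * H * P') := by
    intro G H
    have h1 : (P * G * P') * (P * H * P') = P * G * (P' * P) * H * P' := by
      simp only [Matrix.mul_assoc]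
    rw [h1, hP'P, Matrix.mul_one]
    simp only [Matrix.mul_assoc]
  refine ⟨{ toFun := fun g => ⟨_, hmem g⟩, map_one' := ?_, map_mul' := ?_ }, ?_⟩
  · apply Subtype.ext
    show P * ((1 : GL ((Fin k ⊕ Fin k) ⊕ Fin 2) F) :
      Matrix ((Fin k ⊕ Fin k) ⊕ Fin 2) ((Fin k ⊕ Fin k) ⊕ Fin 2) F) * P' = 1
    rw [Units.val_one, Matrix.mul_one, hPP']
  · intro g h
    apply Subtype.ext
    show P * (((g * h : ↥(Cfsg.isometryGroup F (Cfsg.quadFormMinus k F a b))) :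
        GL ((Fin k ⊕ Fin k) ⊕ Fin 2) F) :
        Matrix ((Fin k ⊕ Fin k) ⊕ Fin 2) ((Fin k ⊕ Fin k) ⊕ Fin 2) F) * P' =
      (P * ((g : GL ((Fin k ⊕ Fin k) ⊕ Fin 2) F) :
        Matrix ((Fin k ⊕ Fin k) ⊕ Fin 2) ((Fin k ⊕ Fin k) ⊕ Fin 2) F) * P') *
      (P * ((h : GL ((Fin k ⊕ Fin k) ⊕ Fin 2) F) :
        Matrix ((Fin k ⊕ Fin k) ⊕ Fin 2) ((Fin k ⊕ Fin k) ⊕ Fin 2) F) * P')
    rw [Subgroup.coe_mul, Units.val_mul]
    exact hmul _ _
  · intro g h hgh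
    have h1 : P * ((g : GL ((Fin k ⊕ Fin k) ⊕ Fin 2) F) :
        Matrix ((Fin k ⊕ Fin k) ⊕ Fin 2) ((Fin k ⊕ Fin k) ⊕ Fin 2) F) * P' =
        P * ((h : GL ((Fin k ⊕ Fin k) ⊕ Fin 2) F) :
        Matrix ((Fin k ⊕ Fin k) ⊕ Fin 2) ((Fin k ⊕ Fin k) ⊕ Fin 2) F) * P' :=
      congrArg Subtype.val hgh
    have h2 : ∀ M : Matrix ((Fin k ⊕ Fin k) ⊕ Fin 2) ((Fin k ⊕ Fin k) ⊕ Fin 2) F,
        P' * (P * M * P') * P = M := by
      intro M
      calc P' * (P * M * P') * P = (P' * P) * M * (P' * P) := by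
            simp only [Matrix.mul_assoc]
        _ = M := by rw [hP'P, Matrix.one_mul, Matrix.mul_one]
    have h3 : ((g : GL ((Fin k ⊕ Fin k) ⊕ Fin 2) F) :
        Matrix ((Fin k ⊕ Fin k) ⊕ Fin 2) ((Fin k ⊕ Fin k) ⊕ Fin 2) F) =
        ((h : GL ((Fin k ⊕ Fin k) ⊕ Fin 2) F) :
        Matrix ((Fin k ⊕ Fin k) ⊕ Fin 2) ((Fin k ⊕ Fin k) ⊕ Fin 2) F) := by
      rw [← h2 (g : GL ((Fin k ⊕ Fin k) ⊕ Fin 2) F), h1, h2]
    exact Subtype.ext (Units.ext h3)

end Cfsg.Agent.Lib.Helper19.SO8
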