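import Mathlib
import Cfsg.Agent.Lib.Helper19.SO8.Defs
import Cfsg.Agent.Lib.Helper24.SO8C6

set_option autoImplicit false

/-!
# Project SO8, row PEEL1 (`peel_one`), second copy by helper20 (`peel_one_h20`).
-/

namespace Cfsg.Agent.Lib.Helper19.SO8

open Polynomial Cfsg.Agent.Lib.Helper13.OTS

/-- `reverse` commutes with powers over a domain -/
theorem so8peel1h20_reverse_pow {F : Type*} [Field F] (f : F[X]) (j : ℕ) :
    (f ^ j).reverse = f.reverse ^ j := by
  induction j with
  | zero => rw [pow_zero, pow_zero, ← C_1, reverse_C]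
  | succ j ih => rw [pow_succ, pow_succ, reverse_mul_of_domain, ih]

/-- `X + 1` is self-reciprocal -/
theorem so8peel1h20_reverse_X_add_one {F : Type*} [Field F] :
    (X + 1 : F[X]).reverse = X + 1 := by
  have h : (X + 1 : F[X]) = X + C 1 := by rw [map_one]
  have hXr : (X : F[X]).reverse = 1 := by
    have h1 := reverse_mul_X (1 : F[X])
    rw [one_mul] at h1
    rw [h1, ← C_1, reverse_C]
  rw [h, reverse_add_C, hXr, natDegree_X, pow_one, C_1, one_mul, add_comm]

theorem peel_one_h20 {F : Type*} [Field F] [CharP F 2] (χ : F[X]) (hχ : χ ≠ 0) (hr : χ.reverse = χ)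
    (hev : Even χ.natDegree) :
    ∃ (k : ℕ) (g : F[X]), χ = (X + 1) ^ (2 * k) * g ∧ g.eval 1 ≠ 0 ∧ g.reverse = g := by
  obtain ⟨g, hg, hndvd⟩ := exists_eq_pow_rootMultiplicity_mul_and_not_dvd χ hχ (1 : F)
  set j := rootMultiplicity (1 : F) χ with hj
  have hX : (X - C (1 : F) : F[X]) = X + 1 := by
    rw [map_one, CharTwo.sub_eq_add]
  rw [hX] at hg hndvd
  have hg1 : g.eval 1 ≠ 0 := by
    intro h0
    apply hndvd
    rw [← hX]
    exact dvd_iff_isRoot.mpr h0
  have hpow0 : ((X + 1 : F[X]) ^ j) ≠ 0 := pow_ne_zero _ (by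
    rw [← hX]; exact X_sub_C_ne_zero 1)
  have hgr : g.reverse = g := by
    have h1 : χ.reverse = (X + 1) ^ j * g.reverse := by
      rw [hg, reverse_mul_of_domain, so8peel1h20_reverse_pow, so8peel1h20_reverse_X_add_one]
    rw [hr] at h1
    have h2 : (X + 1 : F[X]) ^ j * g = (X + 1) ^ j * g.reverse := by rw [← hg]; exact h1
    exact (mul_left_cancel₀ hpow0 h2).symm
  have hg0 : g ≠ 0 := by
    intro h0
    apply hg1
    rw [h0, eval_zero]
  have hgev : Even g.natDegree := selfrec_even g hgr hg1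
  have hdeg : χ.natDegree = j + g.natDegree := by
    rw [hg, natDegree_mul hpow0 hg0, natDegree_pow]
    have : (X + 1 : F[X]).natDegree = 1 := by
      rw [← hX]; exact natDegree_X_sub_C 1
    rw [this, mul_one]
  have hjev : Even j := by
    rw [hdeg] at hev
    exact (Nat.even_add.mp hev).mpr hgev
  obtain ⟨k, hk⟩ := hjev
  refine ⟨k, g, ?_, hg1, hgr⟩
  rw [two_mul, ← hk]
  exact hg

end Cfsg.Agent.Lib.Helper19.SO8
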