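import Mathlib
import Cfsg.Agent.Lib.Helper19.SO8.Defs
import Cfsg.Agent.Lib.Helper20.SO8PEEL1h20

set_option autoImplicit false

/-!
# Project SO8, row PEEL1 (`peel_one`): the verbatim name (wrapper of `peel_one_h20`).
-/

namespace Cfsg.Agent.Lib.Helper19.SO8

open Polynomial Cfsg.Agent.Lib.Helper13.OTS

theorem peel_one {F : Type*} [Field F] [CharP F 2] (χ : F[X]) (hχ : χ ≠ 0) (hr : χ.reverse = χ)
    (hev : Even χ.natDegree) :
    ∃ (k : ℕ) (g : F[X]), χ = (X + 1) ^ (2 * k) * g ∧ g.eval 1 ≠ 0 ∧ g.reverse = g :=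
  peel_one_h20 χ hχ hr hev

end Cfsg.Agent.Lib.Helper19.SO8
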