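import Mathlib
import Cfsg.Prelude.Def_Characters
import Cfsg.Agent.Lib.helper7.BD.D1Defs
import Cfsg.Agent.Lib.helper7.PM2.Defs
import Cfsg.Agent.Lib.helper7.PM2.FrontDefs
import Cfsg.Agent.Lib.Helper13.BD3CJ

/-!
# Project PM2 (S4705), piece FR3 (helper20): an element inverting `P`, and the values of `ζ` on the `p`-singular
elements of `C_G(P)`.
-/

set_option autoImplicit false
set_option linter.unusedVariables false
set_option linter.unusedSectionVars false

namespace Cfsg.Agent.Lib.helper7.PM2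

open Cfsg.Agent.Lib.helper7.BD
open scoped ComplexConjugate

universe u

section grp

variable {G : Type u} [Group G]

/-- `N_G(P) ≤ N_G(C_G(P))` -/
theorem pm2fr3_nrm_le (P : Subgroup G) {n : G} (hn : n ∈ Subgroup.normalizer ((P : Subgroup G) : Set G)) :
    n ∈ Subgroup.normalizer ((Subgroup.centralizer ((P : Subgroup G) : Set G) : Subgroup G) : Set G) := by
  have key : ∀ m : G, m ∈ Subgroup.normalizer ((P : Subgroup G) : Set G) →
      ∀ c : G, c ∈ Subgroup.centralizer ((P : Subgroup G) : Set G) →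
        m * c * m⁻¹ ∈ Subgroup.centralizer ((P : Subgroup G) : Set G) := by
    intro m hm c hc
    rw [Subgroup.mem_centralizer_iff] at hc ⊢
    intro y hy
    have hy' : m⁻¹ * y * m ∈ (P : Subgroup G) := by
      have := (Subgroup.mem_normalizer_iff''.mp hm y).mp hy
      exact this
    have h1 := hc (m⁻¹ * y * m) hy'
    calc y * (m * c * m⁻¹) = m * ((m⁻¹ * y * m) * c) * m⁻¹ := by group
      _ = m * (c * (m⁻¹ * y * m)) * m⁻¹ := by rw [h1]
      _ = m * c * m⁻¹ * y := by group
  rw [Subgroup.mem_normalizer_iff]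
  intro c
  constructor
  · intro hc
    exact key n hn c hc
  · intro hc
    have hn' : n⁻¹ ∈ Subgroup.normalizer ((P : Subgroup G) : Set G) := Subgroup.inv_mem _ hn
    have := key n⁻¹ hn' _ hc
    have e : n⁻¹ * (n * c * n⁻¹) * n⁻¹⁻¹ = c := by group
    rwa [e] at this

/-- an element of `N_G(P) ∖ C_G(P)` whose square centralizes `P` inverts `P` when `|P| = p` -/
theorem pm2fr3_invert [Finite G] {p : ℕ} [Fact p.Prime] (P : Subgroup G) (hP : Nat.card P = p) (τ : G)
    (hτN : τ ∈ Subgroup.normalizer ((P : Subgroup G) : Set G))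
    (hτC : τ ∉ Subgroup.centralizer ((P : Subgroup G) : Set G))
    (hτ2 : τ * τ ∈ Subgroup.centralizer ((P : Subgroup G) : Set G)) :
    ∀ y ∈ (P : Subgroup G), τ * y * τ⁻¹ = y⁻¹ := by
  have hp : p.Prime := Fact.out
  have hcyc : IsCyclic ↥P := isCyclic_of_prime_card hP
  obtain ⟨g, hg⟩ := IsCyclic.exists_generator (α := ↥P)
  have hord : orderOf (g : G) = p := by
    rw [Subgroup.orderOf_coe, orderOf_eq_card_of_forall_mem_zpowers hg, hP]
  -- every element of `P` is a power of `g`
  have hpow : ∀ y ∈ (P : Subgroup G), ∃ k : ℤ, (g : G) ^ k = y := by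
    intro y hy
    obtain ⟨k, hk⟩ := Subgroup.mem_zpowers_iff.mp (hg ⟨y, hy⟩)
    refine ⟨k, ?_⟩
    have := congrArg (Subtype.val : ↥P → G) hk
    simpa using this
  -- `τ g τ⁻¹ = g ^ j`
  have hconj : τ * (g : G) * τ⁻¹ ∈ (P : Subgroup G) :=
    (Subgroup.mem_normalizer_iff.mp hτN (g : G)).mp g.2
  obtain ⟨j0, hj0⟩ := hpow _ hconj
  -- make the exponent a natural number
  obtain ⟨j, hj⟩ : ∃ j : ℕ, (g : G) ^ j = τ * (g : G) * τ⁻¹ := by
    refine ⟨(j0 % (p : ℤ)).toNat, ?_⟩
    have hp0 : (0 : ℤ) < p := by exact_mod_cast hp.pos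
    have h1 : ((j0 % (p : ℤ)).toNat : ℤ) = j0 % (p : ℤ) :=
      Int.toNat_of_nonneg (Int.emod_nonneg _ hp0.ne')
    rw [← zpow_natCast, h1, ← hj0, ← hord, zpow_mod_orderOf]
  -- `g ^ (j * j) = g`
  have hsq : (g : G) ^ (j * j) = (g : G) ^ 1 := by
    have h1 : (τ * τ) * (g : G) * (τ * τ)⁻¹ = (g : G) := by
      have := (Subgroup.mem_centralizer_iff.mp hτ2) (g : G) g.2
      calc (τ * τ) * (g : G) * (τ * τ)⁻¹ = ((g : G) * (τ * τ)) * (τ * τ)⁻¹ := by rw [this]
        _ = (g : G) := by group
    have h2 : (τ * τ) * (g : G) * (τ * τ)⁻¹ = τ * (τ * (g : G) * τ⁻¹) * τ⁻¹ := by group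
    rw [h2, ← hj] at h1
    have h3 : τ * (g : G) ^ j * τ⁻¹ = (τ * (g : G) * τ⁻¹) ^ j := by
      rw [conj_pow]
    rw [h3, ← hj, ← pow_mul] at h1
    rw [pow_one]
    exact h1
  have hmod : j * j ≡ 1 [MOD p] := by
    rw [← hord]
    exact pow_eq_pow_iff_modEq.mp hsq
  have hz : ((j : ZMod p) - 1) * ((j : ZMod p) + 1) = 0 := by
    have h1 : ((j * j : ℕ) : ZMod p) = ((1 : ℕ) : ZMod p) := (ZMod.natCast_eq_natCast_iff _ _ _).mpr hmod
    push_cast at h1
    linear_combination h1
  have hginv : τ * (g : G) * τ⁻¹ = (g : G)⁻¹ := by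
    rcases mul_eq_zero.mp hz with h | h
    · -- `j ≡ 1`: `τ` centralizes `P`
      exfalso
      apply hτC
      have hj1 : (j : ZMod p) = ((1 : ℕ) : ZMod p) := by
        rw [Nat.cast_one]
        linear_combination h
      have hj1' : j ≡ 1 [MOD p] := (ZMod.natCast_eq_natCast_iff _ _ _).mp hj1
      have hg1 : (g : G) ^ j = (g : G) ^ 1 := by
        rw [pow_eq_pow_iff_modEq, hord]
        exact hj1'
      rw [pow_one, hj] at hg1
      have hcomm : τ * (g : G) = (g : G) * τ := by
        calc τ * (g : G) = (τ * (g : G) * τ⁻¹) * τ := by group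
          _ = (g : G) * τ := by rw [hg1]
      rw [Subgroup.mem_centralizer_iff]
      intro y hy
      obtain ⟨k, hk⟩ := hpow y hy
      rw [← hk]
      have : Commute τ ((g : G) ^ k) := (Commute.zpow_right hcomm k)
      exact this.eq.symm
    · -- `j ≡ -1`
      have hj1 : ((j + 1 : ℕ) : ZMod p) = 0 := by
        push_cast
        exact h
      have hdvd : p ∣ j + 1 := (ZMod.natCast_eq_zero_iff _ _).mp hj1
      have hg1 : (g : G) ^ (j + 1) = 1 := by
        rw [← hord] at hdvd
        exact orderOf_dvd_iff_pow_eq_one.mp hdvd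
      rw [pow_succ, hj] at hg1
      exact eq_inv_of_mul_eq_one_left hg1
  intro y hy
  obtain ⟨k, hk⟩ := hpow y hy
  rw [← hk]
  have h1 : τ * (g : G) ^ k * τ⁻¹ = (τ * (g : G) * τ⁻¹) ^ k := by
    rw [conj_zpow]
  rw [h1, hginv, inv_zpow]

end grp

section front

variable {G : Type u} [Group G] [Fintype G] {p : ℕ} [Fact p.Prime] {P : Sylow p G}
  [Fintype ↥(Subgroup.centralizer ((P : Subgroup G) : Set G))]
  [Fintype ↥(Subgroup.normalizer ((P : Subgroup G) : Set G))]
  {ζ : G → ℂ} {ε : ℤ} {a : ℕ} {Λ : ↥(Subgroup.centralizer ((P : Subgroup G) : Set G)) →* ℂˣ}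
  {θ ξ : Cfsg.IrrCharacter ↥(Subgroup.centralizer ((P : Subgroup G) : Set G))}

/-- FR3 : an element inverting `P`, and the values on the `p`-singular elements of `C_G(P)` -/
theorem front_tau (D : FrontData p P ζ ε a Λ θ ξ) (hP : Nat.card P = p) (hp : 5 < p) (hε : ε = -1)
    (hθ1 : (θ : ↥(Subgroup.centralizer ((P : Subgroup G) : Set G)) → ℂ) 1 = 1)
    (hf : (Subgroup.centralizer ((P : Subgroup G) : Set G)).relIndex
        (Subgroup.normalizer ((P : Subgroup G) : Set G)) = 2) :
    ∃ τ : G, τ ∈ Subgroup.normalizer ((P : Subgroup G) : Set G) ∧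
      (∀ y ∈ (P : Subgroup G), τ * y * τ⁻¹ = y⁻¹) ∧
      ∀ c : ↥(Subgroup.centralizer ((P : Subgroup G) : Set G)), p ∣ orderOf c →
        ζ (c : G) = -((ξ : ↥(Subgroup.centralizer ((P : Subgroup G) : Set G)) → ℂ) c +
          (cjIrr (Subgroup.centralizer ((P : Subgroup G) : Set G)) τ ξ :
            ↥(Subgroup.centralizer ((P : Subgroup G) : Set G)) → ℂ) c) := by
  classical
  have hCN : Subgroup.centralizer ((P : Subgroup G) : Set G) ≤
      Subgroup.normalizer ((P : Subgroup G) : Set G) := Subgroup.centralizer_le_normalizer _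
  -- `τ`
  have hnot : ¬ Subgroup.normalizer ((P : Subgroup G) : Set G) ≤
      Subgroup.centralizer ((P : Subgroup G) : Set G) := by
    intro h
    have := Subgroup.relIndex_eq_one.mpr h
    omega
  obtain ⟨τ, hτN, hτC⟩ := SetLike.not_le_iff_exists.mp hnot
  -- index two
  have hidx : ((Subgroup.centralizer ((P : Subgroup G) : Set G)).subgroupOf
      (Subgroup.normalizer ((P : Subgroup G) : Set G))).index = 2 := hf
  have hmul : ∀ x y : ↥(Subgroup.normalizer ((P : Subgroup G) : Set G)),
      ((x : G) * (y : G) ∈ Subgroup.centralizer ((P : Subgroup G) : Set G) ↔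
        ((x : G) ∈ Subgroup.centralizer ((P : Subgroup G) : Set G) ↔
          (y : G) ∈ Subgroup.centralizer ((P : Subgroup G) : Set G))) := by
    intro x y
    have := Subgroup.mul_mem_iff_of_index_two hidx (a := x) (b := y)
    simpa only [Subgroup.mem_subgroupOf, Subgroup.coe_mul] using this
  have hτ2 : τ * τ ∈ Subgroup.centralizer ((P : Subgroup G) : Set G) :=
    (hmul ⟨τ, hτN⟩ ⟨τ, hτN⟩).mpr Iff.rfl
  refine ⟨τ, hτN, pm2fr3_invert (P : Subgroup G) hP τ hτN hτC hτ2, ?_⟩
  intro c hc
  have hv := D.hval c hc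
  -- each term of the sum
  have hterm : ∀ n : ↥(Subgroup.normalizer ((P : Subgroup G) : Set G)),
      (cjIrr (Subgroup.centralizer ((P : Subgroup G) : Set G)) (n : G) ξ :
          ↥(Subgroup.centralizer ((P : Subgroup G) : Set G)) → ℂ) c =
        if n ∈ (Subgroup.centralizer ((P : Subgroup G) : Set G)).subgroupOf
            (Subgroup.normalizer ((P : Subgroup G) : Set G))
        then (ξ : ↥(Subgroup.centralizer ((P : Subgroup G) : Set G)) → ℂ) c
        else (cjIrr (Subgroup.centralizer ((P : Subgroup G) : Set G)) τ ξ :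
          ↥(Subgroup.centralizer ((P : Subgroup G) : Set G)) → ℂ) c := by
    intro n
    by_cases hn : (n : G) ∈ Subgroup.centralizer ((P : Subgroup G) : Set G)
    · rw [if_pos (Subgroup.mem_subgroupOf.mpr hn), cjIrr_of_mem_self _ hn ξ]
    · rw [if_neg (fun h => hn (Subgroup.mem_subgroupOf.mp h))]
      have hτC' : τ⁻¹ ∉ Subgroup.centralizer ((P : Subgroup G) : Set G) := by
        intro h
        exact hτC (by simpa using Subgroup.inv_mem _ h)
      have h1 : τ⁻¹ * (n : G) ∈ Subgroup.centralizer ((P : Subgroup G) : Set G) :=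
        (hmul ⟨τ⁻¹, Subgroup.inv_mem _ hτN⟩ n).mpr
          ⟨fun h => absurd h hτC', fun h => absurd h hn⟩
      have h2 : (n : G) = τ * (τ⁻¹ * (n : G)) := by group
      rw [h2, cjIrr_mul _ (pm2fr3_nrm_le _ hτN) (Subgroup.le_normalizer h1) ξ,
        cjIrr_of_mem_self _ h1 ξ]
  -- the two halves
  have hcardC : Nat.card ↥((Subgroup.centralizer ((P : Subgroup G) : Set G)).subgroupOf
      (Subgroup.normalizer ((P : Subgroup G) : Set G))) =
      Nat.card ↥(Subgroup.centralizer ((P : Subgroup G) : Set G)) :=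
    Nat.card_congr (Subgroup.subgroupOfEquivOfLe hCN).toEquiv
  have hcardN : Nat.card ↥(Subgroup.normalizer ((P : Subgroup G) : Set G)) =
      Nat.card ↥(Subgroup.centralizer ((P : Subgroup G) : Set G)) * 2 := by
    have := Subgroup.card_mul_index ((Subgroup.centralizer ((P : Subgroup G) : Set G)).subgroupOf
      (Subgroup.normalizer ((P : Subgroup G) : Set G)))
    rw [hidx, hcardC] at this
    exact this.symm
  have hf1 : (Finset.univ.filter (fun n : ↥(Subgroup.normalizer ((P : Subgroup G) : Set G)) =>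
      n ∈ (Subgroup.centralizer ((P : Subgroup G) : Set G)).subgroupOf
        (Subgroup.normalizer ((P : Subgroup G) : Set G)))).card =
      Nat.card ↥(Subgroup.centralizer ((P : Subgroup G) : Set G)) := by
    rw [← hcardC, Nat.card_eq_fintype_card, Fintype.card_subtype]
  have hf2 : (Finset.univ.filter (fun n : ↥(Subgroup.normalizer ((P : Subgroup G) : Set G)) =>
      ¬ n ∈ (Subgroup.centralizer ((P : Subgroup G) : Set G)).subgroupOf
        (Subgroup.normalizer ((P : Subgroup G) : Set G)))).card =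
      Nat.card ↥(Subgroup.centralizer ((P : Subgroup G) : Set G)) := by
    have h1 := Finset.card_filter_add_card_filter_not (s := (Finset.univ :
      Finset ↥(Subgroup.normalizer ((P : Subgroup G) : Set G))))
      (fun n : ↥(Subgroup.normalizer ((P : Subgroup G) : Set G)) =>
      n ∈ (Subgroup.centralizer ((P : Subgroup G) : Set G)).subgroupOf
        (Subgroup.normalizer ((P : Subgroup G) : Set G)))
    rw [hf1, Finset.card_univ, ← Nat.card_eq_fintype_card, hcardN] at h1
    omega
  have hsum : ∑ n : ↥(Subgroup.normalizer ((P : Subgroup G) : Set G)),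
      (cjIrr (Subgroup.centralizer ((P : Subgroup G) : Set G)) (n : G) ξ :
          ↥(Subgroup.centralizer ((P : Subgroup G) : Set G)) → ℂ) c =
      (Nat.card ↥(Subgroup.centralizer ((P : Subgroup G) : Set G)) : ℂ) *
        ((ξ : ↥(Subgroup.centralizer ((P : Subgroup G) : Set G)) → ℂ) c +
          (cjIrr (Subgroup.centralizer ((P : Subgroup G) : Set G)) τ ξ :
            ↥(Subgroup.centralizer ((P : Subgroup G) : Set G)) → ℂ) c) := by
    simp_rw [hterm]
    rw [Finset.sum_ite, Finset.sum_const, Finset.sum_const, hf1, hf2, nsmul_eq_mul, nsmul_eq_mul]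
    ring
  rw [hsum, hε] at hv
  have hc0 : (Nat.card ↥(Subgroup.centralizer ((P : Subgroup G) : Set G)) : ℂ) ≠ 0 := by
    have : 0 < Nat.card ↥(Subgroup.centralizer ((P : Subgroup G) : Set G)) := Nat.card_pos
    exact_mod_cast this.ne'
  have h3 : (Nat.card ↥(Subgroup.centralizer ((P : Subgroup G) : Set G)) : ℂ) * ζ (c : G) =
      (Nat.card ↥(Subgroup.centralizer ((P : Subgroup G) : Set G)) : ℂ) *
        (-((ξ : ↥(Subgroup.centralizer ((P : Subgroup G) : Set G)) → ℂ) c +
          (cjIrr (Subgroup.centralizer ((P : Subgroup G) : Set G)) τ ξ :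
            ↥(Subgroup.centralizer ((P : Subgroup G) : Set G)) → ℂ) c)) := by
    rw [hv]
    push_cast
    ring
  exact mul_left_cancel₀ hc0 h3

end front

end Cfsg.Agent.Lib.helper7.PM2
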