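import Mathlib
import Cfsg.Prelude.Def_Characters
import Cfsg.Agent.Lib.helper7.BD.D1Defs
import Cfsg.Agent.Lib.helper7.PM2.Defs
import Cfsg.Agent.Lib.helper7.PM2.FrontDefs
import Cfsg.Agent.Lib.helper7.CharTools
import Cfsg.Agent.Lib.Helper25.CharLinear
import Cfsg.Agent.Lib.Helper13.BD3CJ
import Cfsg.Agent.Lib.Helper20.PM2FR3

/-!
# Project PM2 (S4705), piece FR4, core (helper20): the `p`-regular elements of `C_G(P)` are central in `G`.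

`pm2fr4_core` is `front_central` with the statements of PROJP (for the group `C_G(P)`) and BAS2G (for `ζ`)
as hypotheses.
-/

set_option autoImplicit false
set_option linter.unusedVariables false
set_option linter.unusedSectionVars false

namespace Cfsg.Agent.Lib.helper7.PM2

open Cfsg.Agent.Lib.helper7.BD
open scoped ComplexConjugate

universe u

section roots

/-- the sum of the powers of a `p`-th root of unity `≠ 1` -/
theorem pm2fr4_geom (p : ℕ) (z : ℂ) (hz : z ^ p = 1) (hz1 : z ≠ 1) :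
    ∑ m ∈ Finset.range p, z ^ m = 0 := by
  rw [geom_sum_eq hz1, hz, sub_self, zero_div]

/-- the sum of the powers of `1` -/
theorem pm2fr4_geom_one (p : ℕ) : ∑ m ∈ Finset.range p, (1 : ℂ) ^ m = (p : ℂ) := by
  simp

end roots

section grp

variable {G : Type u} [Group G]

/-- a subgroup of prime order is abelian: `P ≤ C_G(P)` -/
theorem pm2fr4_le_cen [Finite G] {p : ℕ} [Fact p.Prime] (P : Subgroup G) (hP : Nat.card P = p) :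
    P ≤ Subgroup.centralizer ((P : Subgroup G) : Set G) := by
  have hcyc : IsCyclic ↥P := isCyclic_of_prime_card hP
  obtain ⟨g, hg⟩ := IsCyclic.exists_generator (α := ↥P)
  intro a ha
  rw [Subgroup.mem_centralizer_iff]
  intro b hb
  obtain ⟨i, hi⟩ := Subgroup.mem_zpowers_iff.mp (hg ⟨a, ha⟩)
  obtain ⟨j, hj⟩ := Subgroup.mem_zpowers_iff.mp (hg ⟨b, hb⟩)
  have h1 : (⟨b, hb⟩ : ↥P) * ⟨a, ha⟩ = ⟨a, ha⟩ * ⟨b, hb⟩ := by
    rw [← hi, ← hj, ← zpow_add, ← zpow_add, add_comm]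
  exact congrArg (Subtype.val : ↥P → G) h1

end grp

section front

variable {G : Type u} [Group G] [Fintype G] {p : ℕ} [Fact p.Prime] {P : Sylow p G}
  [Fintype ↥(Subgroup.centralizer ((P : Subgroup G) : Set G))]
  [Fintype ↥(Subgroup.normalizer ((P : Subgroup G) : Set G))]
  {ζ : G → ℂ} {ε : ℤ} {a : ℕ} {Λ : ↥(Subgroup.centralizer ((P : Subgroup G) : Set G)) →* ℂˣ}
  {θ ξ : Cfsg.IrrCharacter ↥(Subgroup.centralizer ((P : Subgroup G) : Set G))}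

local notation "𝐂" => Subgroup.centralizer ((P : Subgroup G) : Set G)

/-- the values of `ζ` on `y ^ m k`, `y ∈ P`, `k ∈ C_G(P)` `p`-regular, `p ∤ m` -/
theorem pm2fr4_val (D : FrontData p P ζ ε a Λ θ ξ) (hP : Nat.card P = p)
    (hθ1 : (θ : ↥𝐂 → ℂ) 1 = 1)
    (τ : G) (hτN : τ ∈ Subgroup.normalizer ((P : Subgroup G) : Set G))
    (hτinv : ∀ y ∈ (P : Subgroup G), τ * y * τ⁻¹ = y⁻¹)
    (hτval : ∀ c : ↥𝐂, p ∣ orderOf c →
      ζ (c : G) = -((ξ : ↥𝐂 → ℂ) c + (cjIrr 𝐂 τ ξ : ↥𝐂 → ℂ) c))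
    (y : ↥𝐂) (hy : (y : G) ∈ (P : Subgroup G)) (hy1 : y ≠ 1)
    (k k' : ↥𝐂) (hk : ¬ p ∣ orderOf k) (hk' : (k' : G) = τ⁻¹ * (k : G) * τ)
    (m : ℕ) (hm : ¬ p ∣ m) :
    ζ ((y ^ m * k : ↥𝐂) : G) =
      -((((Λ y : ℂˣ) : ℂ) ^ a) ^ m * (θ : ↥𝐂 → ℂ) k +
        ((((Λ y : ℂˣ) : ℂ) ^ a)⁻¹) ^ m * (θ : ↥𝐂 → ℂ) k') := by
  have hpp : p.Prime := Fact.out
  -- `y` has order `p`
  have hyord : orderOf y = p := by
    have h1 : orderOf (y : G) ∣ p := by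
      have h2 : orderOf (⟨(y : G), hy⟩ : ↥(P : Subgroup G)) ∣ Nat.card ↥(P : Subgroup G) :=
        orderOf_dvd_natCard _
      rw [show Nat.card ↥(P : Subgroup G) = p from hP] at h2
      rwa [← Subgroup.orderOf_coe] at h2
    rw [Subgroup.orderOf_coe] at h1
    rcases (Nat.dvd_prime hpp).mp h1 with h | h
    · exact absurd (orderOf_eq_one_iff.mp h) hy1
    · exact h
  -- `y` is central in `C`
  have hycomm : ∀ c : ↥𝐂, Commute y c := by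
    intro c
    have := (Subgroup.mem_centralizer_iff.mp c.2) (y : G) hy
    exact Subtype.ext this
  -- `y ^ m k` is `p`-singular
  have hsing : p ∣ orderOf (y ^ m * k) := by
    have hcop : Nat.Coprime (orderOf (y ^ m)) (orderOf k) := by
      have h1 : orderOf (y ^ m) = p := by
        rw [orderOf_pow, hyord]
        have : Nat.gcd p m = 1 := (Nat.Prime.coprime_iff_not_dvd hpp).mpr hm
        rw [this, Nat.div_one]
      rw [h1]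
      exact (Nat.Prime.coprime_iff_not_dvd hpp).mpr hk
    have h2 := ((hycomm k).pow_left m).orderOf_mul_eq_mul_orderOf_of_coprime hcop
    rw [h2]
    have h1 : orderOf (y ^ m) = p := by
      rw [orderOf_pow, hyord]
      have : Nat.gcd p m = 1 := (Nat.Prime.coprime_iff_not_dvd hpp).mpr hm
      rw [this, Nat.div_one]
    rw [h1]
    exact Dvd.intro _ rfl
  rw [hτval _ hsing]
  -- `θ` is multiplicative and trivial on `P`
  have hθmul : ∀ c c' : ↥𝐂, (θ : ↥𝐂 → ℂ) (c * c') = (θ : ↥𝐂 → ℂ) c * (θ : ↥𝐂 → ℂ) c' :=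
    Cfsg.Agent.Lib.Helper25.irr_linear_mul θ hθ1
  have hθy : ∀ j : ℕ, (θ : ↥𝐂 → ℂ) (y ^ j) = 1 := by
    intro j
    rw [D.hθP (y ^ j) (by
      have : ((y ^ j : ↥𝐂) : G) = (y : G) ^ j := rfl
      rw [this]
      exact Subgroup.pow_mem _ hy j), hθ1]
  have hθyinv : ∀ j : ℕ, (θ : ↥𝐂 → ℂ) (y⁻¹ ^ j) = 1 := by
    intro j
    rw [D.hθP (y⁻¹ ^ j) (by
      have : ((y⁻¹ ^ j : ↥𝐂) : G) = ((y : G)⁻¹) ^ j := rfl
      rw [this]
      exact Subgroup.pow_mem _ (Subgroup.inv_mem _ hy) j), hθ1]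
  -- `Λ` on `p`-regular elements
  have hΛk : Λ k = 1 := D.hΛ1 k hk
  have hk'ord : orderOf k' = orderOf k := by
    rw [← Subgroup.orderOf_coe, ← Subgroup.orderOf_coe, hk']
    have : τ⁻¹ * (k : G) * τ = MulAut.conj τ⁻¹ (k : G) := by
      rw [MulAut.conj_apply, inv_inv]
    rw [this, MulEquiv.orderOf_eq]
  have hΛk' : Λ k' = 1 := D.hΛ1 k' (by rw [hk'ord]; exact hk)
  -- the first term
  have h1 : (ξ : ↥𝐂 → ℂ) (y ^ m * k) = (((Λ y : ℂˣ) : ℂ) ^ a) ^ m * (θ : ↥𝐂 → ℂ) k := by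
    rw [D.hξ, map_mul, map_pow, hΛk, mul_one, hθmul, hθy, one_mul, Units.val_pow_eq_pow_val,
      ← pow_mul, ← pow_mul, mul_comm m a]
  -- the second term
  have hτN' : τ ∈ Subgroup.normalizer ((𝐂 : Subgroup G) : Set G) := pm2fr3_nrm_le _ hτN
  have h2 : (cjIrr 𝐂 τ ξ : ↥𝐂 → ℂ) (y ^ m * k) =
      ((((Λ y : ℂˣ) : ℂ) ^ a)⁻¹) ^ m * (θ : ↥𝐂 → ℂ) k' := by
    have hcj : ((y ^ m * k : ↥𝐂) : G) = τ * ((y⁻¹ ^ m * k' : ↥𝐂) : G) * τ⁻¹ := by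
      have e1 : ((y ^ m * k : ↥𝐂) : G) = (y : G) ^ m * (k : G) := rfl
      have e2 : ((y⁻¹ ^ m * k' : ↥𝐂) : G) = ((y : G)⁻¹) ^ m * (k' : G) := rfl
      rw [e1, e2, hk']
      have e3 : τ * ((y : G)⁻¹ ^ m * (τ⁻¹ * (k : G) * τ)) * τ⁻¹ =
          (τ * (y : G)⁻¹ * τ⁻¹) ^ m * (k : G) := by
        rw [conj_pow]
        group
      rw [e3, hτinv _ (Subgroup.inv_mem _ hy), inv_inv]
    rw [cjIrr_conj 𝐂 hτN' ξ (y⁻¹ ^ m * k') (y ^ m * k) hcj, D.hξ, map_mul, map_pow, map_inv, hΛk',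
      mul_one, hθmul, hθyinv, one_mul, Units.val_pow_eq_pow_val, Units.val_inv_eq_inv_val,
      ← pow_mul, inv_pow, inv_pow, ← pow_mul, mul_comm m a]
  rw [h1, h2]

/-- the twisted sums of the values of `ζ` along `y ^ m k` -/
theorem pm2fr4_sum (D : FrontData p P ζ ε a Λ θ ξ) (hP : Nat.card P = p)
    (hθ1 : (θ : ↥𝐂 → ℂ) 1 = 1)
    (τ : G) (hτN : τ ∈ Subgroup.normalizer ((P : Subgroup G) : Set G))
    (hτinv : ∀ y ∈ (P : Subgroup G), τ * y * τ⁻¹ = y⁻¹)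
    (hτval : ∀ c : ↥𝐂, p ∣ orderOf c →
      ζ (c : G) = -((ξ : ↥𝐂 → ℂ) c + (cjIrr 𝐂 τ ξ : ↥𝐂 → ℂ) c))
    (y : ↥𝐂) (hy : (y : G) ∈ (P : Subgroup G)) (hy1 : y ≠ 1)
    (k k' : ↥𝐂) (hk : ¬ p ∣ orderOf k) (hk' : (k' : G) = τ⁻¹ * (k : G) * τ) (ν : ℂ) :
    ∑ m ∈ Finset.range p, ν⁻¹ ^ m * ζ ((y ^ m * k : ↥𝐂) : G) =
      (ζ (k : G) + (θ : ↥𝐂 → ℂ) k + (θ : ↥𝐂 → ℂ) k') -
        (θ : ↥𝐂 → ℂ) k * ∑ m ∈ Finset.range p, (ν⁻¹ * ((Λ y : ℂˣ) : ℂ) ^ a) ^ m -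
        (θ : ↥𝐂 → ℂ) k' * ∑ m ∈ Finset.range p, (ν⁻¹ * (((Λ y : ℂˣ) : ℂ) ^ a)⁻¹) ^ m := by
  classical
  have hpp : p.Prime := Fact.out
  have hterm : ∀ m ∈ Finset.range p, ν⁻¹ ^ m * ζ ((y ^ m * k : ↥𝐂) : G) =
      (if m = 0 then (ζ (k : G) + (θ : ↥𝐂 → ℂ) k + (θ : ↥𝐂 → ℂ) k') else 0) -
        (θ : ↥𝐂 → ℂ) k * (ν⁻¹ * ((Λ y : ℂˣ) : ℂ) ^ a) ^ m -
        (θ : ↥𝐂 → ℂ) k' * (ν⁻¹ * (((Λ y : ℂˣ) : ℂ) ^ a)⁻¹) ^ m := by
    intro m hm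
    by_cases hm0 : m = 0
    · subst hm0
      rw [if_pos rfl, pow_zero, pow_zero, pow_zero, pow_zero, one_mul, one_mul]
      ring
    · rw [if_neg hm0]
      have hmp : ¬ p ∣ m := by
        intro h
        have := Nat.le_of_dvd (Nat.pos_of_ne_zero hm0) h
        have := Finset.mem_range.mp hm
        omega
      rw [pm2fr4_val D hP hθ1 τ hτN hτinv hτval y hy hy1 k k' hk hk' m hmp, mul_pow, mul_pow]
      ring
  rw [Finset.sum_congr rfl hterm, Finset.sum_sub_distrib, Finset.sum_sub_distrib,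
    ← Finset.mul_sum, ← Finset.mul_sum, Finset.sum_ite_eq' (Finset.range p) 0,
    if_pos (Finset.mem_range.mpr hpp.pos)]

/-- FR4, core: with the statements of PROJP (for the group `C_G(P)`) and BAS2G (for `ζ`) as hypotheses -/
theorem pm2fr4_core (D : FrontData p P ζ ε a Λ θ ξ) (hP : Nat.card P = p) (hp : 5 < p) (hε : ε = -1)
    (hθ1 : (θ : ↥𝐂 → ℂ) 1 = 1)
    (hf : (Subgroup.centralizer ((P : Subgroup G) : Set G)).relIndex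
        (Subgroup.normalizer ((P : Subgroup G) : Set G)) = 2)
    (hdeg : ζ 1 = (p : ℂ) - 2)
    (hproj : ∀ y : ↥𝐂, y ∈ Subgroup.center ↥𝐂 → y ^ p = 1 → ∀ ν : ℂ, ν ^ p = 1 →
      Cfsg.IsCharacter ↥𝐂 (fun g : ↥𝐂 =>
        (p : ℂ)⁻¹ * ∑ m ∈ Finset.range p, ν⁻¹ ^ m * ζ ((y ^ m * g : ↥𝐂) : G)))
    (hcen : ∀ g : G, ‖ζ g‖ = ‖ζ 1‖ → g ∈ Subgroup.center G)
    (k : ↥𝐂) (hk : ¬ p ∣ orderOf k) :
    (k : G) ∈ Subgroup.center G ∧ ζ (k : G) = ((p : ℂ) - 2) * (θ : ↥𝐂 → ℂ) k := by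
  classical
  have hpp : p.Prime := Fact.out
  have hp0 : (p : ℂ) ≠ 0 := by exact_mod_cast hpp.pos.ne'
  obtain ⟨τ, hτN, hτinv, hτval⟩ := front_tau D hP hp hε hθ1 hf
  -- a generator of `P`
  have hnt : Nontrivial ↥(P : Subgroup G) := by
    rw [← Finite.one_lt_card_iff_nontrivial, show Nat.card ↥(P : Subgroup G) = p from hP]
    exact hpp.one_lt
  obtain ⟨y0, hy0⟩ := exists_ne (1 : ↥(P : Subgroup G))
  have hPC := pm2fr4_le_cen (P : Subgroup G) hP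
  let y : ↥𝐂 := ⟨(y0 : G), hPC y0.2⟩
  have hy : (y : G) ∈ (P : Subgroup G) := y0.2
  have hy1 : y ≠ 1 := by
    intro h
    apply hy0
    apply Subtype.ext
    exact congrArg (Subtype.val : ↥𝐂 → G) h
  -- `y` is central in `C` and `y ^ p = 1`
  have hycen : y ∈ Subgroup.center ↥𝐂 := by
    rw [Subgroup.mem_center_iff]
    intro c
    have := (Subgroup.mem_centralizer_iff.mp c.2) (y : G) hy
    exact (Subtype.ext this).symm
  have hyp : y ^ p = 1 := by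
    have h1 : y0 ^ p = 1 := by
      have := pow_card_eq_one' (G := ↥(P : Subgroup G)) (x := y0)
      rwa [show Nat.card ↥(P : Subgroup G) = p from hP] at this
    apply Subtype.ext
    have h2 := congrArg (Subtype.val : ↥(P : Subgroup G) → G) h1
    exact h2
  -- `μ`
  set μ : ℂ := ((Λ y : ℂˣ) : ℂ) ^ a with hμ
  have hΛp : (Λ y) ^ p = 1 := D.hΛ3 y
  have hΛ1 : Λ y ≠ 1 := D.hΛ2 y hy hy1
  have hΛord : orderOf (Λ y) = p := by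
    have h1 : orderOf (Λ y) ∣ p := orderOf_dvd_of_pow_eq_one hΛp
    rcases (Nat.dvd_prime hpp).mp h1 with h | h
    · exact absurd (orderOf_eq_one_iff.mp h) hΛ1
    · exact h
  have hμp : μ ^ p = 1 := by
    rw [hμ, ← pow_mul, mul_comm, pow_mul, ← Units.val_pow_eq_pow_val, hΛp, Units.val_one, one_pow]
  have hne : ∀ j : ℕ, ¬ p ∣ j → ((Λ y : ℂˣ) : ℂ) ^ j ≠ 1 := by
    intro j hj h
    apply hj
    rw [← hΛord]
    apply orderOf_dvd_of_pow_eq_one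
    apply Units.ext
    rw [Units.val_pow_eq_pow_val, h, Units.val_one]
  have ha : ¬ p ∣ a := by
    intro h
    have := Nat.le_of_dvd D.ha0 h
    have := D.hap
    omega
  have h2a : ¬ p ∣ 2 * a := by
    intro h
    rcases (Nat.Prime.dvd_mul hpp).mp h with h' | h'
    · have := Nat.le_of_dvd (by norm_num) h'
      omega
    · exact ha h'
  have hμ1 : μ ≠ 1 := hne a ha
  have hμ2 : μ * μ ≠ 1 := by
    rw [hμ, ← pow_add, ← two_mul]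
    exact hne (2 * a) h2a
  have hμ0 : μ ≠ 0 := by
    intro h
    rw [h, zero_pow hpp.pos.ne'] at hμp
    exact zero_ne_one hμp
  -- the conjugate of a `p`-regular element
  have hτN' : τ ∈ Subgroup.normalizer ((𝐂 : Subgroup G) : Set G) := pm2fr3_nrm_le _ hτN
  have hconj : ∀ c : ↥𝐂, τ⁻¹ * (c : G) * τ ∈ 𝐂 := fun c =>
    (Subgroup.mem_normalizer_iff''.mp hτN' (c : G)).mp c.2
  -- the two sums
  have hS1 : ∀ k k' : ↥𝐂, ¬ p ∣ orderOf k → (k' : G) = τ⁻¹ * (k : G) * τ →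
      ∑ m ∈ Finset.range p, μ⁻¹ ^ m * ζ ((y ^ m * k : ↥𝐂) : G) =
        (ζ (k : G) + (θ : ↥𝐂 → ℂ) k + (θ : ↥𝐂 → ℂ) k') - (θ : ↥𝐂 → ℂ) k * (p : ℂ) := by
    intro k k' hk hk'
    rw [pm2fr4_sum D hP hθ1 τ hτN hτinv hτval y hy hy1 k k' hk hk' μ, ← hμ]
    have e1 : μ⁻¹ * μ = 1 := inv_mul_cancel₀ hμ0
    have e2 : ∑ m ∈ Finset.range p, (μ⁻¹ * μ⁻¹) ^ m = 0 := by
      apply pm2fr4_geom
      · rw [← mul_inv, inv_pow, mul_pow, hμp, one_mul, inv_one]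
      · intro h
        apply hμ2
        rw [← mul_inv, inv_eq_one] at h
        exact h
    rw [e1, pm2fr4_geom_one, e2, mul_zero, sub_zero]
  have hS2 : ∀ k k' : ↥𝐂, ¬ p ∣ orderOf k → (k' : G) = τ⁻¹ * (k : G) * τ →
      ∑ m ∈ Finset.range p, μ⁻¹⁻¹ ^ m * ζ ((y ^ m * k : ↥𝐂) : G) =
        (ζ (k : G) + (θ : ↥𝐂 → ℂ) k + (θ : ↥𝐂 → ℂ) k') - (θ : ↥𝐂 → ℂ) k' * (p : ℂ) := by
    intro k k' hk hk'
    rw [pm2fr4_sum D hP hθ1 τ hτN hτinv hτval y hy hy1 k k' hk hk' μ⁻¹, ← hμ]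
    have e1 : μ⁻¹⁻¹ * μ⁻¹ = 1 := inv_mul_cancel₀ (inv_ne_zero hμ0)
    have e2 : ∑ m ∈ Finset.range p, (μ⁻¹⁻¹ * μ) ^ m = 0 := by
      apply pm2fr4_geom
      · rw [inv_inv, mul_pow, hμp, one_mul]
      · rw [inv_inv]
        exact hμ2
    rw [e1, pm2fr4_geom_one, e2, mul_zero, sub_zero]
  -- the two characters vanish
  have h1ord : ¬ p ∣ orderOf (1 : ↥𝐂) := by
    rw [orderOf_one]
    intro h
    have := Nat.le_of_dvd one_pos h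
    omega
  have h1conj : ((1 : ↥𝐂) : G) = τ⁻¹ * ((1 : ↥𝐂) : G) * τ := by
    rw [Subgroup.coe_one]
    group
  have hζ1 : ζ ((1 : ↥𝐂) : G) = (p : ℂ) - 2 := by
    rw [Subgroup.coe_one, hdeg]
  have hΨ1 := hproj y hycen hyp μ hμp
  have hΨ2 := hproj y hycen hyp μ⁻¹ (by rw [inv_pow, hμp, inv_one])
  have hz1 := Cfsg.Agent.Lib.helper7.h7_isCharacter_eq_zero hΨ1 (by
    show (p : ℂ)⁻¹ * ∑ m ∈ Finset.range p, μ⁻¹ ^ m * ζ ((y ^ m * (1 : ↥𝐂) : ↥𝐂) : G) = 0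
    rw [hS1 1 1 h1ord h1conj, hζ1, hθ1]
    ring)
  have hz2 := Cfsg.Agent.Lib.helper7.h7_isCharacter_eq_zero hΨ2 (by
    show (p : ℂ)⁻¹ * ∑ m ∈ Finset.range p, μ⁻¹⁻¹ ^ m * ζ ((y ^ m * (1 : ↥𝐂) : ↥𝐂) : G) = 0
    rw [hS2 1 1 h1ord h1conj, hζ1, hθ1]
    ring)
  -- evaluate at `k`
  let k' : ↥𝐂 := ⟨τ⁻¹ * (k : G) * τ, hconj k⟩
  have hk' : (k' : G) = τ⁻¹ * (k : G) * τ := rfl
  have e1 : (p : ℂ)⁻¹ * ∑ m ∈ Finset.range p, μ⁻¹ ^ m * ζ ((y ^ m * k : ↥𝐂) : G) = 0 :=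
    congrFun hz1 k
  have e2 : (p : ℂ)⁻¹ * ∑ m ∈ Finset.range p, μ⁻¹⁻¹ ^ m * ζ ((y ^ m * k : ↥𝐂) : G) = 0 :=
    congrFun hz2 k
  rw [hS1 k k' hk hk'] at e1
  rw [hS2 k k' hk hk'] at e2
  have e1' : (ζ (k : G) + (θ : ↥𝐂 → ℂ) k + (θ : ↥𝐂 → ℂ) k') - (θ : ↥𝐂 → ℂ) k * (p : ℂ) = 0 := by
    rcases mul_eq_zero.mp e1 with h | h
    · exact absurd h (inv_ne_zero hp0)
    · exact h
  have e2' : (ζ (k : G) + (θ : ↥𝐂 → ℂ) k + (θ : ↥𝐂 → ℂ) k') - (θ : ↥𝐂 → ℂ) k' * (p : ℂ) = 0 := by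
    rcases mul_eq_zero.mp e2 with h | h
    · exact absurd h (inv_ne_zero hp0)
    · exact h
  have hθeq : (θ : ↥𝐂 → ℂ) k' = (θ : ↥𝐂 → ℂ) k := by
    have : ((θ : ↥𝐂 → ℂ) k' - (θ : ↥𝐂 → ℂ) k) * (p : ℂ) = 0 := by
      linear_combination e1' - e2'
    rcases mul_eq_zero.mp this with h | h
    · exact sub_eq_zero.mp h
    · exact absurd h hp0
  have hval : ζ (k : G) = ((p : ℂ) - 2) * (θ : ↥𝐂 → ℂ) k := by
    rw [hθeq] at e1'
    linear_combination e1'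
  refine ⟨?_, hval⟩
  apply hcen
  rw [hval, hdeg, norm_mul]
  have hn : ‖(θ : ↥𝐂 → ℂ) k‖ = 1 := by
    have h1 := Cfsg.Agent.Lib.Helper25.irr_linear_mul_conj θ hθ1 k
    rw [Complex.mul_conj'] at h1
    have h2 : ‖(θ : ↥𝐂 → ℂ) k‖ ^ 2 = 1 := by exact_mod_cast h1
    have h3 : 0 ≤ ‖(θ : ↥𝐂 → ℂ) k‖ := norm_nonneg _
    nlinarith
  rw [hn, mul_one]

end front

end Cfsg.Agent.Lib.helper7.PM2
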