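import Mathlib
import Cfsg.Prelude.Def_Characters
import Cfsg.Agent.Lib.helper7.PM2.Defs
import Cfsg.Agent.Lib.helper2.CharNat

/-!
# Project PM2, backup of PROJP (helper20): the `μ`-eigenpart of a character w.r.t. a central `y`, `y ^ p = 1`.
-/

set_option autoImplicit false
set_option linter.unusedVariables false
set_option linter.unusedSectionVars false

namespace Cfsg.Agent.Lib.helper7.PM2

open scoped ComplexConjugate

universe u

section generic

variable {G : Type u} [Group G]

/-- an idempotent matrix commuting with a matrix representation cuts out a character -/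
theorem pm2fr4b_idem {n : ℕ} (M : G → Matrix (Fin n) (Fin n) ℂ) (hM1 : M 1 = 1)
    (hMmul : ∀ g h : G, M (g * h) = M g * M h) (P : Matrix (Fin n) (Fin n) ℂ) (hPP : P * P = P)
    (hPK : ∀ g : G, P * M g = M g * P) :
    Cfsg.IsCharacter G (fun g => Matrix.trace (M g * P)) := by
  classical
  let E : Submodule ℂ (Fin n → ℂ) := LinearMap.range (Matrix.toLin' P)
  have hinv : ∀ g : G, ∀ x ∈ E, Matrix.toLin' (M g) x ∈ E := by
    rintro g _ ⟨y, rfl⟩
    refine ⟨Matrix.toLin' (M g) y, ?_⟩
    rw [← LinearMap.comp_apply, ← Matrix.toLin'_mul, hPK, Matrix.toLin'_mul, LinearMap.comp_apply]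
  let ρE : Representation ℂ G E :=
    { toFun := fun g => (Matrix.toLin' (M g)).restrict (hinv g)
      map_one' := by
        apply LinearMap.ext
        intro x
        apply Subtype.ext
        rw [LinearMap.coe_restrict_apply, hM1, Matrix.toLin'_one]
        rfl
      map_mul' := by
        intro g h
        apply LinearMap.ext
        intro x
        apply Subtype.ext
        rw [LinearMap.coe_restrict_apply, hMmul, Matrix.toLin'_mul]
        rfl }
  have hchE := Cfsg.Agent.Lib.helper2.isCharacter_of_rep ρE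
  have hfun : (fun g => Matrix.trace (M g * P)) = ρE.character := by
    funext g
    show Matrix.trace (M g * P) = LinearMap.trace ℂ E (ρE g)
    let π : (Fin n → ℂ) →ₗ[ℂ] E := (Matrix.toLin' P).rangeRestrict
    let ι : E →ₗ[ℂ] (Fin n → ℂ) := E.subtype
    have hπι : π ∘ₗ ι = LinearMap.id := by
      apply LinearMap.ext
      rintro ⟨_, ⟨y, rfl⟩⟩
      apply Subtype.ext
      show Matrix.toLin' P (Matrix.toLin' P y) = Matrix.toLin' P y
      rw [← LinearMap.comp_apply, ← Matrix.toLin'_mul, hPP]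
    have h1 : ρE g = (ρE g ∘ₗ π) ∘ₗ ι := by
      rw [LinearMap.comp_assoc, hπι, LinearMap.comp_id]
    have h2 : ι ∘ₗ (ρE g ∘ₗ π) = Matrix.toLin' (M g * P) := by
      apply LinearMap.ext
      intro y
      rw [Matrix.toLin'_mul]
      rfl
    rw [h1, LinearMap.trace_comp_comm', h2, Matrix.trace_toLin'_eq]
  rw [hfun]
  exact hchE

/-- backup of PROJP -/
theorem pm2fr4b_projp {χ : G → ℂ} (hχ : Cfsg.IsCharacter G χ) (y : G) (hy : y ∈ Subgroup.center G)
    (p : ℕ) (hp : 0 < p) (hyp : y ^ p = 1) (μ : ℂ) (hμ : μ ^ p = 1) :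
    Cfsg.IsCharacter G (fun g => (p : ℂ)⁻¹ * ∑ m ∈ Finset.range p, μ⁻¹ ^ m * χ (y ^ m * g)) := by
  classical
  obtain ⟨n, ρ, rfl⟩ := hχ
  set M : G → Matrix (Fin n) (Fin n) ℂ := fun g => LinearMap.toMatrix' (ρ g) with hM
  have hM1 : M 1 = 1 := by
    simp only [hM, map_one]
    exact LinearMap.toMatrix'_one
  have hMmul : ∀ g h : G, M (g * h) = M g * M h := by
    intro g h
    simp only [hM, map_mul]
    exact LinearMap.toMatrix'_mul _ _
  have hMpow : ∀ (g : G) (m : ℕ), M (g ^ m) = M g ^ m := by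
    intro g m
    induction m with
    | zero => rw [pow_zero, pow_zero, hM1]
    | succ k ih => rw [pow_succ, pow_succ, hMmul, ih]
  have hchar : ∀ g : G, ρ.character g = Matrix.trace (M g) := by
    intro g
    simp only [Representation.character, hM]
    rw [LinearMap.trace_eq_matrix_trace ℂ (Pi.basisFun ℂ (Fin n)), LinearMap.toMatrix_eq_toMatrix']
  have hp0 : (p : ℂ) ≠ 0 := by exact_mod_cast hp.ne'
  set T : Matrix (Fin n) (Fin n) ℂ := μ⁻¹ • M y with hT
  have hTK : ∀ g : G, T * M g = M g * T := by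
    intro g
    rw [hT, Matrix.smul_mul, Matrix.mul_smul, ← hMmul, ← hMmul, (Subgroup.mem_center_iff.mp hy g)]
  have hTp : T ^ p = 1 := by
    rw [hT, smul_pow, ← hMpow, hyp, hM1, inv_pow, hμ, inv_one, one_smul]
  set Q : Matrix (Fin n) (Fin n) ℂ := ∑ m ∈ Finset.range p, T ^ m with hQ
  have hTQ : T * Q = Q := by
    have h1 : (T - 1) * Q = T ^ p - 1 := mul_geom_sum T p
    rw [hTp, sub_self, sub_mul, one_mul, sub_eq_zero] at h1
    exact h1
  have hTmQ : ∀ m : ℕ, T ^ m * Q = Q := by
    intro m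
    induction m with
    | zero => rw [pow_zero, one_mul]
    | succ k ih => rw [pow_succ, mul_assoc, hTQ, ih]
  have hQQ : Q * Q = (p : ℂ) • Q := by
    conv_lhs => rw [hQ, Finset.sum_mul]
    rw [← hQ]
    rw [Finset.sum_congr rfl (fun m _ => hTmQ m), Finset.sum_const, Finset.card_range,
      ← Nat.cast_smul_eq_nsmul ℂ]
  set P : Matrix (Fin n) (Fin n) ℂ := (p : ℂ)⁻¹ • Q with hP
  have hPP : P * P = P := by
    rw [hP, Matrix.smul_mul, Matrix.mul_smul, hQQ, smul_smul, smul_smul, mul_assoc,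
      inv_mul_cancel₀ hp0, mul_one]
  have hQK : ∀ g : G, Q * M g = M g * Q := by
    intro g
    rw [hQ, Finset.sum_mul, Finset.mul_sum]
    refine Finset.sum_congr rfl fun m _ => ?_
    have hcm : Commute T (M g) := hTK g
    exact (hcm.pow_left m).eq
  have hPK : ∀ g : G, P * M g = M g * P := by
    intro g
    rw [hP, Matrix.smul_mul, Matrix.mul_smul, hQK]
  have hmain := pm2fr4b_idem M hM1 hMmul P hPP hPK
  have hfun : (fun g => (p : ℂ)⁻¹ * ∑ m ∈ Finset.range p, μ⁻¹ ^ m * ρ.character (y ^ m * g)) =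
      (fun g => Matrix.trace (M g * P)) := by
    funext g
    rw [hP, Matrix.mul_smul, Matrix.trace_smul, smul_eq_mul, hQ, Matrix.mul_sum, Matrix.trace_sum]
    congr 1
    refine Finset.sum_congr rfl fun m _ => ?_
    rw [hT, smul_pow, Matrix.mul_smul, Matrix.trace_smul, smul_eq_mul, hchar, ← hMpow, ← hMmul]
    have hc : g * y ^ m = y ^ m * g :=
      (Subgroup.mem_center_iff.mp (Subgroup.pow_mem _ hy m) g)
    rw [hc]
  rw [hfun]
  exact hmain

end generic

end Cfsg.Agent.Lib.helper7.PM2
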