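import Mathlib
import Cfsg.Prelude.Def_Characters
import Cfsg.Agent.Lib.helper7.BD.D1Defs
import Cfsg.Agent.Lib.helper7.PM2.Defs
import Cfsg.Agent.Lib.helper7.PM2.FrontDefs
import Cfsg.Agent.Lib.helper7.CharTools
import Cfsg.Agent.Lib.helper2.CharNat
import Cfsg.Agent.Lib.Helper20.PM2FR4core
import Cfsg.Agent.Lib.Helper19.PM2BAS
import Cfsg.Agent.Lib.Helper20.PM2PROJPb

/-!
# Project PM2 (S4705), piece FR4 (helper20): the `p`-regular elements of `C_G(P)` are central in `G`
(wrapper of `pm2fr4_core` with `pm2fr4b_projp` = the statement of PROJP, and `pm2bas_central_gen` = the statement of BAS2G).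
-/

set_option autoImplicit false
set_option linter.unusedVariables false
set_option linter.unusedSectionVars false

namespace Cfsg.Agent.Lib.helper7.PM2

open Cfsg.Agent.Lib.helper7.BD
open scoped ComplexConjugate

universe u

section front

variable {G : Type u} [Group G] [Fintype G] {p : ℕ} [Fact p.Prime] {P : Sylow p G}
  [Fintype ↥(Subgroup.centralizer ((P : Subgroup G) : Set G))]
  [Fintype ↥(Subgroup.normalizer ((P : Subgroup G) : Set G))]
  {ζ : G → ℂ} {ε : ℤ} {a : ℕ} {Λ : ↥(Subgroup.centralizer ((P : Subgroup G) : Set G)) →* ℂˣ}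
  {θ ξ : Cfsg.IrrCharacter ↥(Subgroup.centralizer ((P : Subgroup G) : Set G))}

/-- FR4 : the `p`-regular elements of `C_G(P)` are central in `G` -/
theorem front_central (D : FrontData p P ζ ε a Λ θ ξ) (hP : Nat.card P = p) (hp : 5 < p) (hε : ε = -1)
    (hθ1 : (θ : ↥(Subgroup.centralizer ((P : Subgroup G) : Set G)) → ℂ) 1 = 1)
    (hf : (Subgroup.centralizer ((P : Subgroup G) : Set G)).relIndex
        (Subgroup.normalizer ((P : Subgroup G) : Set G)) = 2)
    (hζ : Cfsg.IsIrrCharacter G ζ) (hfaith : ∀ g : G, ζ g = ζ 1 → g = 1) (hdeg : ζ 1 = (p : ℂ) - 2)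
    (k : ↥(Subgroup.centralizer ((P : Subgroup G) : Set G))) (hk : ¬ p ∣ orderOf k) :
    (k : G) ∈ Subgroup.center G ∧
      ζ (k : G) = ((p : ℂ) - 2) * (θ : ↥(Subgroup.centralizer ((P : Subgroup G) : Set G)) → ℂ) k := by
  have hpp : p.Prime := Fact.out
  refine pm2fr4_core D hP hp hε hθ1 hf hdeg ?_ ?_ k hk
  · intro y hy hyp ν hν
    exact pm2fr4b_projp
      (Cfsg.Agent.Lib.helper2.isCharacter_restrict (Cfsg.Agent.Lib.helper7.h7_irr_isCharacter hζ)
        (Subgroup.centralizer ((P : Subgroup G) : Set G))) y hy p hpp.pos hyp ν hν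
  · intro g hg
    exact pm2bas_central_gen hζ hfaith g hg

end front

end Cfsg.Agent.Lib.helper7.PM2
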