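import Cfsg.Agent.Lib.helper15.SLM.Defs

set_option autoImplicit false
set_option linter.unusedSectionVars false
set_option linter.unusedVariables false

/-! Project SLM, piece B5 : `comm_expr_GL`. -/

namespace Cfsg.Agent.Lib.helper15.SLM

open Matrix

section B

variable {F : Type*} [Field F] [Fintype F] [DecidableEq F]
  {κ : Type*} [Fintype κ] [DecidableEq κ]

/-- two matrices agreeing on all vectors are equal -/
theorem h20_mat_ext (A B : Matrix κ κ F) (h : ∀ x : κ → F, A *ᵥ x = B *ᵥ x) : A = B := by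
  apply Matrix.toLin'.injective
  apply LinearMap.ext
  intro x
  simpa [Matrix.toLin'_apply] using h x

/-- determinant of a general rank one perturbation of the identity -/
theorem h20_tvMat_det_gen (a α : κ → F) : (tvMat a α).det = 1 + α ⬝ᵥ a := by
  have h1 : tvMat a α = 1 + replicateCol Unit a * replicateRow Unit α := by
    ext i j
    simp [tvMat_apply, Matrix.mul_apply, Matrix.one_apply]
  rw [h1, Matrix.det_one_add_replicateCol_mul_replicateRow]

/-- a nonzero covector takes the value one somewhere -/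
theorem h20_exists_dot_eq_one (η : κ → F) (hη : η ≠ 0) : ∃ z : κ → F, η ⬝ᵥ z = 1 := by
  have : ∃ i, η i ≠ 0 := by
    by_contra hcon
    push_neg at hcon
    exact hη (funext hcon)
  obtain ⟨i, hi⟩ := this
  refine ⟨Pi.single i (η i)⁻¹, ?_⟩
  rw [dotProduct_single]
  exact mul_inv_cancel₀ hi

/-- B5 (EGL) : with a free torus, `q > 2` -/
theorem comm_expr_GL (hq : 2 < Fintype.card F) (y η w : κ → F) (hy : y ≠ 0) (hη : η ≠ 0)
    (h0 : η ⬝ᵥ y = 0) (hw0 : η ⬝ᵥ w = 0) :
    ∃ B₁ B₂ : Matrix κ κ F, B₁.det ≠ 0 ∧ B₂.det ≠ 0 ∧ B₁ *ᵥ w = w ∧ B₂ *ᵥ w = w ∧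
      tvMat y η * B₂ * B₁ = B₁ * B₂ := by
  obtain ⟨z, hz⟩ := h20_exists_dot_eq_one η hη
  -- a scalar different from 0 and 1
  obtain ⟨β, hβ0, hβ1⟩ : ∃ β : F, β ≠ 0 ∧ β ≠ 1 := by
    obtain ⟨a, b, c, hab, hac, hbc⟩ := Fintype.two_lt_card_iff.mp hq
    by_cases ha0 : a = 0
    · by_cases hb1 : b = 1
      · refine ⟨c, ?_, ?_⟩
        · rintro rfl; exact hac ha0
        · rintro rfl; exact hbc hb1
      · refine ⟨b, ?_, hb1⟩
        rintro rfl; exact hab ha0
    · by_cases ha1 : a = 1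
      · by_cases hb0 : b = 0
        · refine ⟨c, ?_, ?_⟩
          · rintro rfl; exact hbc hb0
          · rintro rfl; exact hac ha1
        · refine ⟨b, hb0, ?_⟩
          rintro rfl; exact hab ha1
      · exact ⟨a, ha0, ha1⟩
  have h1β : (1 : F) - β ≠ 0 := by
    intro h; apply hβ1; rw [sub_eq_zero] at h; exact h.symm
  obtain ⟨lam, hlamβ⟩ : ∃ lam : F, (1 + lam) * β = lam :=
    ⟨β / (1 - β), by field_simp; ring⟩
  refine ⟨tvMat ((β - 1) • z) η, tvMat y (lam • η), ?_, ?_, ?_, ?_, ?_⟩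
  · rw [h20_tvMat_det_gen, dotProduct_smul, hz]
    simpa using hβ0
  · rw [h20_tvMat_det_gen, smul_dotProduct, h0]
    simp
  · rw [tvMat_mulVec, hw0, zero_smul, add_zero]
  · rw [tvMat_mulVec, smul_dotProduct, hw0, smul_zero, zero_smul, add_zero]
  · apply h20_mat_ext
    intro x
    simp only [← Matrix.mulVec_mulVec, tvMat_mulVec]
    simp only [dotProduct_add, dotProduct_smul, smul_dotProduct, smul_eq_mul, hz, h0, mul_zero,
      add_zero, mul_one]
    ext i
    simp only [Pi.add_apply, Pi.smul_apply, smul_eq_mul]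
    linear_combination (η ⬝ᵥ x * y i) * hlamβ

end B

end Cfsg.Agent.Lib.helper15.SLM
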