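import Cfsg.Agent.Lib.helper15.SLM.Defs
import Cfsg.Agent.Lib.Helper20.SLMB5

set_option autoImplicit false
set_option linter.unusedSectionVars false
set_option linter.unusedVariables false

/-! Project SLM, piece B2 : `comm_expr_three`. -/

namespace Cfsg.Agent.Lib.helper15.SLM

open Matrix

section B

variable {F : Type*} [Field F] [Fintype F] [DecidableEq F]
  {κ : Type*} [Fintype κ] [DecidableEq κ]

/-- a covector killing `w` and taking the value one at `y`, when `y` is not a multiple of `w` -/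
theorem h20_exists_sep (y w : κ → F) (hyw : ∀ c : F, y ≠ c • w) :
    ∃ υ : κ → F, υ ⬝ᵥ y = 1 ∧ υ ⬝ᵥ w = 0 := by
  have hnot : y ∉ Submodule.span F ({w} : Set (κ → F)) := by
    intro h
    obtain ⟨c, hc⟩ := Submodule.mem_span_singleton.mp h
    exact hyw c hc.symm
  obtain ⟨f, hfy, hfp⟩ := Submodule.exists_le_ker_of_notMem hnot
  have hfw : f w = 0 := by
    have : w ∈ LinearMap.ker f := hfp (Submodule.mem_span_singleton_self w)
    exact this
  -- the covector of `f`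
  have hrep : ∀ v : κ → F, f v = (fun i => f (fun j => if i = j then 1 else 0)) ⬝ᵥ v := by
    intro v
    rw [LinearMap.pi_apply_eq_sum_univ]
    simp only [dotProduct, smul_eq_mul]
    refine Finset.sum_congr rfl fun i _ => ?_
    rw [mul_comm]
  refine ⟨(f y)⁻¹ • (fun i => f (fun j => if i = j then 1 else 0)), ?_, ?_⟩
  · rw [smul_dotProduct, ← hrep, smul_eq_mul, inv_mul_cancel₀ hfy]
  · rw [smul_dotProduct, ← hrep, hfw, smul_zero]

/-- B2 (E0b) : three dimensions, `w` not proportional to `y`, more than 3 field elements -/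
theorem comm_expr_three (hκ : Fintype.card κ = 3) (hq : 3 < Fintype.card F)
    (y η w : κ → F) (hy : y ≠ 0) (hη : η ≠ 0) (hw : w ≠ 0)
    (h0 : η ⬝ᵥ y = 0) (hw0 : η ⬝ᵥ w = 0) (hyw : ¬ ∃ a : F, w = a • y) :
    ∃ B₁ B₂ : Matrix κ κ F, B₁.det ≠ 0 ∧ B₂.det ≠ 0 ∧
      B₁ *ᵥ w = (B₁.det)⁻¹ • w ∧ B₂ *ᵥ w = (B₂.det)⁻¹ • w ∧
      tvMat y η * B₂ * B₁ = B₁ * B₂ := by
  obtain ⟨z, hz⟩ := h20_exists_dot_eq_one η hη
  have hyw' : ∀ c : F, y ≠ c • w := by
    intro c hc
    by_cases hc0 : c = 0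
    · apply hy; rw [hc, hc0, zero_smul]
    · apply hyw
      refine ⟨c⁻¹, ?_⟩
      rw [hc, smul_smul, inv_mul_cancel₀ hc0, one_smul]
  obtain ⟨υ, hυy, hυw⟩ := h20_exists_sep y w hyw'
  -- a scalar `b` with `b ≠ 0`, `b ^ 2 ≠ 1`
  obtain ⟨b, hb0, hb1⟩ : ∃ b : F, b ≠ 0 ∧ b ^ 2 ≠ 1 := by
    have hcard : ({0, 1, -1} : Finset F).card < (Finset.univ : Finset F).card := by
      calc ({0, 1, -1} : Finset F).card ≤ 3 := Finset.card_le_three
        _ < Fintype.card F := hq
        _ = (Finset.univ : Finset F).card := Finset.card_univ.symm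
    obtain ⟨b, -, hb⟩ := Finset.exists_mem_notMem_of_card_lt_card hcard
    simp only [Finset.mem_insert, Finset.mem_singleton, not_or] at hb
    refine ⟨b, hb.1, ?_⟩
    intro h
    have : (b - 1) * (b + 1) = 0 := by linear_combination h
    rcases mul_eq_zero.mp this with h1 | h1
    · exact hb.2.1 (sub_eq_zero.mp h1)
    · exact hb.2.2 (eq_neg_of_add_eq_zero_left h1)
  have hb21 : b ^ 2 - 1 ≠ 0 := fun h => hb1 (sub_eq_zero.mp h)
  obtain ⟨lam, hlam⟩ : ∃ lam : F, 1 + lam = lam * b ^ 2 :=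
    ⟨(b ^ 2 - 1)⁻¹, by field_simp; ring⟩
  obtain ⟨bi, hbi⟩ : ∃ bi : F, b * bi = 1 := ⟨b⁻¹, mul_inv_cancel₀ hb0⟩
  have hdet1 : (tvMat ((b - 1) • y) υ * tvMat ((bi - 1) • z) η).det = 1 := by
    rw [Matrix.det_mul, h20_tvMat_det_gen, h20_tvMat_det_gen, dotProduct_smul, dotProduct_smul,
      hυy, hz]
    simp only [smul_eq_mul, mul_one]
    linear_combination hbi
  have hdet2 : (tvMat y (lam • η)).det = 1 := by
    rw [h20_tvMat_det_gen, smul_dotProduct, h0]
    simp
  refine ⟨tvMat ((b - 1) • y) υ * tvMat ((bi - 1) • z) η, tvMat y (lam • η), ?_, ?_, ?_, ?_, ?_⟩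
  · rw [hdet1]; exact one_ne_zero
  · rw [hdet2]; exact one_ne_zero
  · rw [hdet1, inv_one, one_smul, ← Matrix.mulVec_mulVec]
    simp only [tvMat_mulVec, hw0, hυw, zero_smul, add_zero]
  · rw [hdet2, inv_one, one_smul, tvMat_mulVec, smul_dotProduct, hw0, smul_zero, zero_smul,
      add_zero]
  · apply h20_mat_ext
    intro x
    simp only [← Matrix.mulVec_mulVec, tvMat_mulVec]
    simp only [dotProduct_add, dotProduct_smul, smul_dotProduct, smul_eq_mul, hz, h0, hυy, mul_zero,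
      add_zero, mul_one]
    ext i
    simp only [Pi.add_apply, Pi.smul_apply, smul_eq_mul]
    linear_combination (η ⬝ᵥ x * y i) * (bi * hlam + lam * b * hbi)

end B

end Cfsg.Agent.Lib.helper15.SLM
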