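import Mathlib
import Cfsg.Prelude.Def_Classical
import Cfsg.Prelude.Def_KGroupFacts
import Cfsg.Agent.Lib.Lead.SPM2.Defs
import Cfsg.Agent.Lib.Helper24.STCI1
import Cfsg.Agent.Lib.Helper20.STMR0
import Cfsg.Agent.Lib.Helper20.STMX4

/-!
# Project SPM2 (designer lead), rows T0 + T0c + T4a + T1 + T2 + T3 + T4 (VERBATIM from `Lead/SPM2/Skel.lean.txt`): functoriality, the square of the short Weyl matrix, the spin element `zel`.
-/

set_option autoImplicit false
set_option linter.unusedSectionVars false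
set_option linter.unusedSimpArgs false

namespace Cfsg.Agent.Lib.Lead.SPM2

open Cfsg.Agent.Lib.helper15.St2 Cfsg.Agent.Lib.helper3.STC Cfsg.Agent.Lib.Lead.STD Cfsg.Agent.Lib.helper17.STM
  Cfsg.Agent.Lib.Lead.SPN Cfsg.Agent.Lib.Helper16
open Cfsg.Agent.Lib.Helper12.OMN (omatM oglM omatM_mul omatM_one omatM_injective oglM_coe oglM_injective)

open Matrix

universe u v w

section T

/-- T0 [S]  `MonoidHom.map_closure`; the generating set maps onto the generating set (model: SPB T0 `XQ_mapB`, SPN T0 `SysD.XQ_map`, `Helper5/SPNT0.lean`). -/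
theorem XQ_mapM {F : Type*} [Field F] {A B : F} [Fact (∀ r : F, r ^ 2 ≠ -B + A * r)] {ι : Type*} {G : Type*} [Group G] {H : Type*} [Group H]
    (S : SysM F A B ι G) (f : G →* H) (Q : ι ⊕ ι → ι ⊕ ι → Prop) (Qs : ι ⊕ ι → Prop) : (S.map f).XQ Q Qs = (S.XQ Q Qs).map f :=
  SysM.XQ_map S f Q Qs

/-- T0c [S]  a homomorphism matching the short root elements matches the short torus elements (`unfold SysM.hs SysM.ws`, `map_mul`; model: SPB T0c `map_hsB`). -/
theorem map_hsM {F : Type*} [Field F] {A B : F} [Fact (∀ r : F, r ^ 2 ≠ -B + A * r)] {ι : Type*} {G : Type*} [Group G] {H : Type*} [Group H]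
    (S : SysM F A B ι G) (T : SysM F A B ι H) (f : G →* H) (hf : ∀ a t, f (S.xs a t) = T.xs a t) (a : ι ⊕ ι) (t : Kq F A B) :
    f (S.hs a t) = T.hs a t := by
  unfold SysM.hs SysM.ws
  simp only [map_mul, hf]

section MAT
variable {ι : Type*} [Fintype ι] [DecidableEq ι] {F : Type*} [Field F] {A B : F}

theorem spm2t4a_ew_sub (z z' : Kq F A B) : ew (l := ι) (z - z') = ew z - ew z' := by
  rw [sub_eq_add_neg, ew_add, ew_neg, sub_eq_add_neg]

/-- `z - trq z • 1 = -(star z)` -/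
theorem spm2t4a_refl (z : Kq F A B) : z - trq z • (1 : Kq F A B) = -(star z) := by
  have h := kq_algebraMap_trq z
  rw [Algebra.algebraMap_eq_smul_one] at h
  rw [h]
  ring

theorem spm2t4a_pq_one (z : Kq F A B) : pq (1 : Kq F A B) z = trq z := by
  unfold pq
  rw [one_mul, trq_star]

theorem spm2t4a_a (a : ι ⊕ ι) :
    (TmS a (-1 : Kq F A B) * TmS (ng a) (-1 : Kq F A B) * TmS a (-1 : Kq F A B)) *ᵥ evm (Sum.inl a) = -evm (Sum.inl (ng a)) := by
  have hna : a ≠ ng a := ne_ng a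
  have h2 := TmS_mulVec_ng (l := ι) (ng a) (-1 : Kq F A B)
  rw [ng_ng] at h2
  have h3 := TmS_mulVec_of_ne (l := ι) a (-1 : Kq F A B) hna
  have h4 := TmS_mulVec_of_ne (l := ι) (ng a) (-1 : Kq F A B) (ne_ng (ng a))
  rw [← Matrix.mulVec_mulVec, ← Matrix.mulVec_mulVec]
  simp only [h2, h3, h4, Matrix.mulVec_sub, Matrix.mulVec_add, Matrix.mulVec_smul, Matrix.mulVec_neg, TmS_mulVec_ew, TmS_mulVec_ng, ew_neg,
    nm_neg, nm_one, pq_neg_left, pq_neg_right, pq_self, spm2t4a_pq_one, trq_one]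
  funext c
  simp only [Pi.add_apply, Pi.sub_apply, Pi.smul_apply, smul_eq_mul, Pi.neg_apply]
  ring

theorem spm2t4a_na (a : ι ⊕ ι) :
    (TmS a (-1 : Kq F A B) * TmS (ng a) (-1 : Kq F A B) * TmS a (-1 : Kq F A B)) *ᵥ evm (Sum.inl (ng a)) = -evm (Sum.inl a) := by
  have hna : a ≠ ng a := ne_ng a
  have h2 := TmS_mulVec_ng (l := ι) (ng a) (-1 : Kq F A B)
  rw [ng_ng] at h2
  have h3 := TmS_mulVec_of_ne (l := ι) a (-1 : Kq F A B) hna
  have h4 := TmS_mulVec_of_ne (l := ι) (ng a) (-1 : Kq F A B) (ne_ng (ng a))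
  rw [← Matrix.mulVec_mulVec, ← Matrix.mulVec_mulVec]
  simp only [h2, h3, h4, Matrix.mulVec_sub, Matrix.mulVec_add, Matrix.mulVec_smul, Matrix.mulVec_neg, TmS_mulVec_ew, TmS_mulVec_ng, ew_neg,
    nm_neg, nm_one, pq_neg_left, pq_neg_right, pq_self, spm2t4a_pq_one, trq_one]
  funext c
  simp only [Pi.add_apply, Pi.sub_apply, Pi.smul_apply, smul_eq_mul, Pi.neg_apply]
  ring

theorem spm2t4a_ew (a : ι ⊕ ι) (z : Kq F A B) :
    (TmS a (-1 : Kq F A B) * TmS (ng a) (-1 : Kq F A B) * TmS a (-1 : Kq F A B)) *ᵥ ew z = ew (-(star z)) := by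
  have hna : a ≠ ng a := ne_ng a
  rw [← spm2t4a_refl z, spm2t4a_ew_sub, ew_smul]
  have h2 := TmS_mulVec_ng (l := ι) (ng a) (-1 : Kq F A B)
  rw [ng_ng] at h2
  have h3 := TmS_mulVec_of_ne (l := ι) a (-1 : Kq F A B) hna
  have h4 := TmS_mulVec_of_ne (l := ι) (ng a) (-1 : Kq F A B) (ne_ng (ng a))
  rw [← Matrix.mulVec_mulVec, ← Matrix.mulVec_mulVec]
  simp only [h2, h3, h4, Matrix.mulVec_sub, Matrix.mulVec_add, Matrix.mulVec_smul, Matrix.mulVec_neg, TmS_mulVec_ew, TmS_mulVec_ng, ew_neg,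
    nm_neg, nm_one, pq_neg_left, pq_neg_right, pq_self, spm2t4a_pq_one, trq_one]
  funext c
  simp only [Pi.add_apply, Pi.sub_apply, Pi.smul_apply, smul_eq_mul, Pi.neg_apply]
  ring

theorem spm2t4a_ne (a : ι ⊕ ι) {c : ι ⊕ ι} (h1 : c ≠ a) (h2 : c ≠ ng a) :
    (TmS a (-1 : Kq F A B) * TmS (ng a) (-1 : Kq F A B) * TmS a (-1 : Kq F A B)) *ᵥ evm (Sum.inl c) = evm (Sum.inl c) := by
  have h1' : c ≠ ng (ng a) := by rw [ng_ng]; exact h1
  rw [← Matrix.mulVec_mulVec, ← Matrix.mulVec_mulVec, TmS_mulVec_of_ne a _ h2, TmS_mulVec_of_ne (ng a) _ h1', TmS_mulVec_of_ne a _ h2]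

end MAT

/-- T4a [M]  a matrix identity: the square of the short Weyl matrix at `-1` is `1` (it is monomial: `e_a ↦ -e_{-a}`, `e_{-a} ↦ -e_a`, `z ↦ -(star z)` on the anisotropic plane).  E.g. by the action on vectors
(`TmS a u *ᵥ v = v + v_{-a} • ew u - B(v, u) • e_a - (nm u * v_{-a}) • e_a`: OMN block M / V, or the `R0` rows of STM part 3; a matrix is determined by `M *ᵥ Pi.single k 1`), or expand `TmS` into `Matrix.single`s.
Model: SPB T4a `TbS_ws_sq`. -/
theorem TmS_ws_sq {ι : Type*} [Fintype ι] [DecidableEq ι] {F : Type*} [Field F] (A B : F) (a : ι ⊕ ι) :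
    (TmS a (-1 : Kq F A B) * TmS (ng a) (-1 : Kq F A B) * TmS a (-1 : Kq F A B)) * (TmS a (-1 : Kq F A B) * TmS (ng a) (-1 : Kq F A B) * TmS a (-1 : Kq F A B)) =
      (1 : Matrix (Im ι) (Im ι) F) := by
  set W : Matrix (Im ι) (Im ι) F := TmS a (-1 : Kq F A B) * TmS (ng a) (-1 : Kq F A B) * TmS a (-1 : Kq F A B) with hW
  have hew : ∀ z : Kq F A B, (W * W) *ᵥ ew z = ew z := by
    intro z
    rw [← Matrix.mulVec_mulVec, hW, spm2t4a_ew, spm2t4a_ew, star_neg, star_star, neg_neg]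
  have hcol : ∀ c : Im ι, (W * W) *ᵥ evm c = evm c := by
    intro c
    rcases c with c | i
    · by_cases h1 : c = a
      · subst h1
        rw [← Matrix.mulVec_mulVec, hW, spm2t4a_a, Matrix.mulVec_neg, spm2t4a_na, neg_neg]
      by_cases h2 : c = ng a
      · subst h2
        rw [← Matrix.mulVec_mulVec, hW, spm2t4a_na, Matrix.mulVec_neg, spm2t4a_a, neg_neg]
      rw [← Matrix.mulVec_mulVec, hW, spm2t4a_ne a h1 h2, spm2t4a_ne a h1 h2]
    · fin_cases i
      · show (W * W) *ᵥ evm iz1 = evm iz1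
        rw [← ew_one (A := A) (B := B)]
        exact hew 1
      · show (W * W) *ᵥ evm iz2 = evm iz2
        rw [← ew_omega (A := A) (B := B)]
        exact hew _
  ext i j
  have := congrFun (hcol j) i
  unfold evm at this
  rw [Matrix.mulVec_single_one] at this
  rw [Matrix.one_apply]
  simp only [Matrix.col_apply, Pi.single_apply] at this
  exact this

namespace CovM

variable {m : ℕ} {F : Type u} [Field F] [Fintype F] {A B : F} [Fact (∀ r : F, r ^ 2 ≠ -B + A * r)] {G : Type v} [Group G] (C : CovM m F A B G)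

/-- T1 [S-M]  the spin element does not depend on the index: STM H6 `hs_neg_one_eq` (for `a ≠ ±(inl i0)`), STM H1 `hs_swap` at `u = -1` (`(star (-1))⁻¹ = -1`) for `a = inr i0`.  Model SPB T1. -/
theorem zel_eq (a : Fin m ⊕ Fin m) : C.S.hs a (-1) = C.zel :=
  C.S.hs_neg_one_eq_all a (Sum.inl C.i0)

/-- T2 [S-M]  STM H2 `isMon_hs (inl i0) (-1)`: `σ = 1`, `dhb a (-1) k = 1` for all `k` (`nm (-1) = 1`), `c0 = (-1) / star (-1) = 1`, `ε = false`, so `cj zel` fixes every `x k l t` (for `k = l`, `k = ng l` the element is `1`: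
`S.diag`, `S.opp`) and every `xs k t`; `Subgroup.closure_induction` with `C.gen` (model: SPB T2 `Helper26/SPBT2.lean`, SPN T2 `helper23/SPNT2.lean`). -/
theorem zel_central (g : G) : g * C.zel = C.zel * g :=
  C.S.hs_neg_one_comm C.gen (Sum.inl C.i0) g

/-- T3 [S]  STM H1 `hs_mul`, B3 `hs_one`: `hs a (-1) * hs a (-1) = hs a 1 = 1`. -/
theorem zel_sq : C.zel * C.zel = 1 :=
  C.S.hs_neg_one_sq (Sum.inl C.i0)

/-- T4 [S-M]  `zel = ws a (-1) * ws a (-1)` (`rfl`), `ws a (-1) = xs a (-1) * xs (ng a) (star (-1))⁻¹ * xs a (-1)` with `(star (-1))⁻¹ = -1`, `omatM_mul`, `C.hπs`, T4a, `omatM_injective` (`Helper12.OMN.Defs`).  Model SPB T4. -/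
theorem pi_zel : C.π C.zel = 1 := by
  apply omatM_injective
  have e : (star (-1 : Kq F A B))⁻¹ = -1 := by rw [star_neg, star_one, inv_neg, inv_one]
  have hw : omatM (C.π (C.S.ws (Sum.inl C.i0) (-1))) =
      TmS (Sum.inl C.i0) (-1 : Kq F A B) * TmS (ng (Sum.inl C.i0)) (-1 : Kq F A B) * TmS (Sum.inl C.i0) (-1 : Kq F A B) := by
    unfold SysM.ws
    rw [map_mul, map_mul, omatM_mul, omatM_mul, C.hπs, C.hπs, e]
  show omatM (C.π (C.S.ws (Sum.inl C.i0) (-1) * C.S.ws (Sum.inl C.i0) (-1))) = omatM 1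
  rw [map_mul, omatM_mul, hw, TmS_ws_sq, omatM_one]

end CovM

end T

end Cfsg.Agent.Lib.Lead.SPM2
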