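import Mathlib
import Cfsg.Agent.Lib.helper17.T3.Defs
import Cfsg.Agent.Lib.Helper19.T3A.Defs
import Cfsg.Agent.Lib.Helper19.T3A.Comb
import Cfsg.Agent.Lib.helper23.CEUE1

/-!
# Project T3A, rows B2 B3 B10 (helper20): CORES, with the statements of the cited rows (B1 U2; D7 D9; B8 B9) as hypotheses.
-/

set_option autoImplicit false
set_option linter.unusedSectionVars false

namespace Cfsg.Agent.Lib.helper17.T3

open Matrix Cfsg.Agent.Lib.helper15.St2 Cfsg.Agent.Lib.helper7.Ce Cfsg.Agent.Lib.helper7.CEU Cfsg.Agent.Lib.Helper19.T3A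

variable {F K : Type*} [Field F] [Field K] [Algebra F K]

namespace SysT

variable {C : Cub F K} {Γ : Type*} [Group Γ] (Q : SysT C Γ)

/-- row B2 from the statements of B1 and U2 -/
theorem t3ab2h20_Bor_decomp_core (s : Bool)
    (hB1 : ∀ g : Γ, g ∈ Q.Bor ↔ ∃ h ∈ Q.Tor, ∃ u ∈ Q.U, g = h * u)
    (hU2 : ∀ u ∈ Q.U, ∃ v ∈ Q.Us s, ∃ x ∈ Q.Xs s, u = v * x)
    {g : Γ} (hg : g ∈ Q.Bor) : ∃ h ∈ Q.Tor, ∃ v ∈ Q.Us s, ∃ x ∈ Q.Xs s, g = h * v * x := by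
  obtain ⟨h, hh, u, hu, rfl⟩ := (hB1 g).1 hg
  obtain ⟨v, hv, x, hx, rfl⟩ := hU2 u hu
  exact ⟨h, hh, v, hv, x, hx, by rw [mul_assoc]⟩

/-- row B3 (first half) from the statements of D7 and D9 -/
theorem t3ab3h20_nS_Us_core (s : Bool)
    (hD7 : Q.IsMon (Q.nS s) (sref s))
    (hD9 : ∀ {g : Γ} {w : W}, Q.IsMon g w → ∀ {Ps Pl Ps' Pl' : ZMod 6 → Prop},
      (∀ k, Ps k → Ps' (actS w k)) → (∀ k, Pl k → Pl' (actL w k)) → ∀ x ∈ Q.UU Ps Pl, cj g x ∈ Q.UU Ps' Pl') :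
    ∀ v ∈ Q.Us s, cj (Q.nS s) v ∈ Q.Us s := by
  intro v hv
  exact hD9 hD7 (fun k hk => (sref_us s k).1 hk) (fun k hk => (sref_us s k).2 hk) v hv

/-- row B3 (second half) from the statements of D7 and D9 -/
theorem t3ab3h20_nS_Xs_core (s : Bool)
    (hD7 : Q.IsMon (Q.nS s) (sref s))
    (hD9 : ∀ {g : Γ} {w : W}, Q.IsMon g w → ∀ {Ps Pl Ps' Pl' : ZMod 6 → Prop},
      (∀ k, Ps k → Ps' (actS w k)) → (∀ k, Pl k → Pl' (actL w k)) → ∀ x ∈ Q.UU Ps Pl, cj g x ∈ Q.UU Ps' Pl') :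
    ∀ x ∈ Q.Xs s, cj (Q.nS s) x ∈ Q.Ys s := by
  intro x hx
  refine hD9 hD7 (Ps := fun j => s = true ∧ j = 0) (Pl := fun j => s = false ∧ j = 2)
    (Ps' := fun j => s = true ∧ j = 3) (Pl' := fun j => s = false ∧ j = 5) ?_ ?_ x hx
  · rintro k ⟨hs, rfl⟩
    subst hs
    exact ⟨rfl, sref_simple.1⟩
  · rintro k ⟨hs, rfl⟩
    subst hs
    exact ⟨rfl, sref_simple.2⟩

/-- row B10 from the statements of B8 and B9 -/
theorem t3ab10h20_InM_nw_mul_core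
    (hB8 : ∀ (s : Bool) {g : Γ}, Q.InM g → Q.InM (Q.nS s * g))
    (hB9 : ∀ (s : Bool) {g : Γ}, Q.InM g → Q.InM ((Q.nS s)⁻¹ * g))
    (w : List Bool) {g : Γ} (hg : Q.InM g) : Q.InM (Q.nw w * g) ∧ Q.InM ((Q.nw w)⁻¹ * g) := by
  induction w generalizing g with
  | nil =>
    have e : Q.nw [] = 1 := by simp [SysT.nw]
    rw [e]
    simpa using hg
  | cons s w ih =>
    have e : Q.nw (s :: w) = Q.nS s * Q.nw w := by simp [SysT.nw]
    rw [e]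
    constructor
    · rw [mul_assoc]
      exact hB8 s (ih hg).1
    · rw [_root_.mul_inv_rev, mul_assoc]
      exact (ih (hB9 s hg)).2

end SysT

end Cfsg.Agent.Lib.helper17.T3
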