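import Mathlib
import Cfsg.Agent.Lib.helper17.T3.Defs
import Cfsg.Agent.Lib.Helper19.T3A.Defs
import Cfsg.Agent.Lib.Helper19.T3A.Comb
import Cfsg.Agent.Lib.helper23.CEUE1
import Cfsg.Agent.Lib.helper23.T3AB1
import Cfsg.Agent.Lib.Helper1.T3AU2
import Cfsg.Agent.Lib.Helper26.T3AD6
import Cfsg.Agent.Lib.helper14.T3AD8
import Cfsg.Agent.Lib.Helper20.T3AB2core

/-!
# Project T3A, rows B2 B3 (helper20): VERBATIM, from the cores of `T3AB2core` and the landed rows B1 (helper23), U2 (helper1), D7 (helper26), D9 (helper14).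
-/

set_option autoImplicit false
set_option linter.unusedSectionVars false

namespace Cfsg.Agent.Lib.helper17.T3

open Matrix Cfsg.Agent.Lib.helper15.St2 Cfsg.Agent.Lib.helper7.Ce Cfsg.Agent.Lib.helper7.CEU Cfsg.Agent.Lib.Helper19.T3A

variable {F K : Type*} [Field F] [Field K] [Algebra F K]

namespace SysT

variable {C : Cub F K} {Γ : Type*} [Group Γ] (Q : SysT C Γ)

-- ROW B2  [S]  B1 and U2.
theorem Bor_decomp (s : Bool) {g : Γ} (hg : g ∈ Q.Bor) : ∃ h ∈ Q.Tor, ∃ v ∈ Q.Us s, ∃ x ∈ Q.Xs s, g = h * v * x :=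
  Q.t3ab2h20_Bor_decomp_core s (fun g => Q.mem_Bor_iff g) (Q.U_eq_Us_mul_Xs s) hg

-- ROW B3  [S]  D7 D9 with `sref_us` resp. `sref_simple`.
theorem nS_Us (s : Bool) : ∀ v ∈ Q.Us s, cj (Q.nS s) v ∈ Q.Us s :=
  Q.t3ab3h20_nS_Us_core s (Q.isMon_nS s) (fun h _ _ _ _ hs hl => IsMon.cj_mem_UU Q h hs hl)

theorem nS_Xs (s : Bool) : ∀ x ∈ Q.Xs s, cj (Q.nS s) x ∈ Q.Ys s :=
  Q.t3ab3h20_nS_Xs_core s (Q.isMon_nS s) (fun h _ _ _ _ hs hl => IsMon.cj_mem_UU Q h hs hl)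

end SysT

end Cfsg.Agent.Lib.helper17.T3
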