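import Mathlib
import Cfsg.Agent.Lib.helper17.T3.Defs
import Cfsg.Agent.Lib.Helper19.T3A.Defs
import Cfsg.Agent.Lib.Helper19.T3A.Comb
import Cfsg.Agent.Lib.helper23.CEUE1
import Cfsg.Agent.Lib.Helper20.T3AB2core
import Cfsg.Agent.Lib.Helper19.T3AB8
import Cfsg.Agent.Lib.helper14.T3AB9

/-!
# Project T3A, row B10 (helper20): `InM_nw_mul` VERBATIM, from the core of `T3AB2core` and the landed rows B8, B9.
-/

set_option autoImplicit false
set_option linter.unusedSectionVars false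

namespace Cfsg.Agent.Lib.helper17.T3

open Matrix Cfsg.Agent.Lib.helper15.St2 Cfsg.Agent.Lib.helper7.Ce Cfsg.Agent.Lib.helper7.CEU Cfsg.Agent.Lib.Helper19.T3A

variable {F K : Type*} [Field F] [Field K] [Algebra F K]

namespace SysT

variable {C : Cub F K} {Γ : Type*} [Group Γ] (Q : SysT C Γ)

-- ROW B10  [S-M]  induction on the word with B8 B9.
theorem InM_nw_mul [Finite K] (w : List Bool) {g : Γ} (hg : Q.InM g) : Q.InM (Q.nw w * g) ∧ Q.InM ((Q.nw w)⁻¹ * g) :=
  Q.t3ab10h20_InM_nw_mul_core (fun s _ hg => Q.InM_nS_mul s hg) (fun s _ hg => Q.InM_nS_inv_mul s hg) w hg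

end SysT

end Cfsg.Agent.Lib.helper17.T3
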