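import Cfsg.Agent.Lib.helper7.TP.Defs

/-!
# Project TP (S5637, leader helper7), piece PROPER (helper20) : `T0_lt_SL` VERBATIM.
The elementary transvection `1 + E_{(0,0),(1,1)}` is in `SL` and is not a Kronecker product.
-/

set_option autoImplicit false

namespace Cfsg.Agent.Lib.helper7.TP

open Matrix
open scoped Kronecker

variable {a b : ℕ} {F : Type*} [Field F]

/-- PROPER. -/
theorem T0_lt_SL (ha : 2 ≤ a) (hb : 2 ≤ b) :
    T0 a b F < Cfsg.Geo.specialLinear (Fin a × Fin b) F := by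
  refine lt_of_le_of_ne inf_le_right ?_
  intro heq
  set i0 : Fin a := ⟨0, by omega⟩ with hi0
  set i1 : Fin a := ⟨1, by omega⟩ with hi1
  set j0 : Fin b := ⟨0, by omega⟩ with hj0
  set j1 : Fin b := ⟨1, by omega⟩ with hj1
  have hi01 : i0 ≠ i1 := by
    intro h
    have := congrArg Fin.val h
    simp [hi0, hi1] at this
  have hj01 : j0 ≠ j1 := by
    intro h
    have := congrArg Fin.val h
    simp [hj0, hj1] at this
  have hpq : ((i0, j0) : Fin a × Fin b) ≠ (i1, j1) := by
    intro h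
    exact hi01 (congrArg Prod.fst h)
  have hdet : (Matrix.transvection ((i0, j0) : Fin a × Fin b) (i1, j1) (1 : F)).det = 1 :=
    Matrix.det_transvection_of_ne _ _ hpq 1
  have hdet0 : (Matrix.transvection ((i0, j0) : Fin a × Fin b) (i1, j1) (1 : F)).det ≠ 0 := by
    rw [hdet]
    exact one_ne_zero
  set g : Matrix.GeneralLinearGroup (Fin a × Fin b) F :=
    Matrix.GeneralLinearGroup.mkOfDetNeZero _ hdet0 with hg
  have hgv : (g : Matrix (Fin a × Fin b) (Fin a × Fin b) F) =
      Matrix.transvection ((i0, j0) : Fin a × Fin b) (i1, j1) (1 : F) := rfl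
  have hgS : g ∈ Cfsg.Geo.specialLinear (Fin a × Fin b) F := by
    rw [Cfsg.Geo.specialLinear, MonoidHom.mem_ker]
    apply Units.ext
    rw [Matrix.GeneralLinearGroup.val_det_apply, hgv, hdet]
    rfl
  have hgT : g ∈ T0 a b F := by
    rw [heq]
    exact hgS
  obtain ⟨α, β, hαβ⟩ := hgT.1
  rw [hgv] at hαβ
  have e1 := congrFun (congrFun hαβ (i0, j0)) (i0, j0)
  have e2 := congrFun (congrFun hαβ (i0, j0)) (i1, j1)
  have e3 := congrFun (congrFun hαβ (i0, j0)) (i0, j1)
  simp only [Matrix.transvection, Matrix.add_apply, Matrix.one_apply, Matrix.single_apply,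
    Matrix.kroneckerMap_apply, Prod.mk.injEq, hi01, hj01, hi01.symm, hj01.symm, and_true, true_and,
    and_self, if_true, if_false, and_false, false_and] at e1 e2 e3
  -- e1 : 1 + 0 = α i0 i0 * β j0 j0 ; e2 : 0 + 1 = α i0 i1 * β j0 j1 ; e3 : 0 + 0 = α i0 i0 * β j0 j1
  have h1 : (α : Matrix (Fin a) (Fin a) F) i0 i0 ≠ 0 := by
    intro h
    rw [h, zero_mul] at e1
    simp at e1
  have h2 : (β : Matrix (Fin b) (Fin b) F) j0 j1 ≠ 0 := by
    intro h
    rw [h, mul_zero] at e2
    simp at e2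
  have h3 : (α : Matrix (Fin a) (Fin a) F) i0 i0 * (β : Matrix (Fin b) (Fin b) F) j0 j1 = 0 := by
    rw [← e3]
    simp
  rcases mul_eq_zero.mp h3 with h | h
  · exact h1 h
  · exact h2 h

end Cfsg.Agent.Lib.helper7.TP
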