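import Mathlib
import Cfsg.Agent.Lib.Helper11.UNS.Defs

/-!
# Project UNS, row W5 (helper20), core: existence of the block reversal, with the statements of W1
(`BP_tauS`) and W2 (`rev_of_simple`) as hypotheses.
-/

set_option autoImplicit false

namespace Cfsg.Agent.Lib.Helper11.UNS

open Cfsg.Agent.Lib.helper14.SpBN

variable {m : ℕ}

theorem unsw5_core (J : Finset ℕ)
    (hW1 : ∀ k : Fin m, k.val ∈ J → BP J (tauS k))
    (hW2 : ∀ π : Equiv.Perm (Fin m ⊕ Fin m), SwC π → BP J π →
      (∀ k : Fin m, k.val ∈ J → rk (π (pc k)) < rk (π (pa k))) → IsRev J π) :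
    ∃ π : Equiv.Perm (Fin m ⊕ Fin m), IsRev J π := by
  classical
  let S : Finset (Equiv.Perm (Fin m ⊕ Fin m)) :=
    Finset.univ.filter fun π => SwC π ∧ BP J π
  have hS : S.Nonempty := ⟨1, by
    rw [Finset.mem_filter]
    exact ⟨Finset.mem_univ _, SwC_one, BP_one J⟩⟩
  obtain ⟨π, hπS, hmin⟩ := Finset.exists_min_image S gphi hS
  rw [Finset.mem_filter] at hπS
  obtain ⟨-, hsw, hbp⟩ := hπS
  have hdesc : ∀ k : Fin m, k.val ∈ J → rk (π.symm (pc k)) < rk (π.symm (pa k)) := by
    intro k hk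
    by_contra hc
    rw [not_lt] at hc
    have hne : rk (π.symm (pa k)) ≠ rk (π.symm (pc k)) := by
      intro e
      exact pa_ne_pc k (π.symm.injective (rk_injective e))
    have hlt : rk (π.symm (pa k)) < rk (π.symm (pc k)) := lt_of_le_of_ne hc hne
    set π' : Equiv.Perm (Fin m ⊕ Fin m) := tauS k * π with hπ'
    have hsw' : SwC π' := SwC_mul (SwC_tauS k) hsw
    have hbp' : BP J π' := BP_mul J (hW1 k hk) hbp
    have e1 : π'.symm (pc k) = π.symm (pa k) := by
      show π.symm ((tauS k).symm (pc k)) = _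
      rw [tauS_symm, tauS_pc]
    have e2 : π'.symm (pa k) = π.symm (pc k) := by
      show π.symm ((tauS k).symm (pa k)) = _
      rw [tauS_symm, tauS_pa]
    have hneg : rk (π'.symm (pc k)) < rk (π'.symm (pa k)) := by rw [e1, e2]; exact hlt
    have h1 := gphi_lt k π' hsw' hneg
    have e3 : tauS k * π' = π := by
      rw [hπ', ← mul_assoc, tauS_mul_self, one_mul]
    rw [e3] at h1
    have h2 := hmin π' (by
      rw [Finset.mem_filter]
      exact ⟨Finset.mem_univ _, hsw', hbp'⟩)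
    omega
  refine ⟨π⁻¹, hW2 π⁻¹ (SwC_inv hsw) (BP_inv J hbp) ?_⟩
  intro k hk
  exact hdesc k hk

end Cfsg.Agent.Lib.Helper11.UNS
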