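import Mathlib
import Cfsg.Agent.Lib.Helper11.UNS.Defs

/-!
# Project UNS, row W4 (helper20): the `J`-version of `perm_eq_one_of_simple`.
Self-contained (own copies `unsw4_*` of the small facts K1 K2 K6 W3 it needs).
-/

set_option autoImplicit false

namespace Cfsg.Agent.Lib.Helper11.UNS

open Cfsg.Agent.Lib.helper14.SpBN

variable {m : ℕ}

theorem unsw4_blk_succ (J : Finset ℕ) (r : ℕ) :
    blk m J (r + 1) = blk m J r + if sidx m r ∈ J then 0 else 1 := by
  unfold blk
  rw [Finset.range_add_one, Finset.filter_insert]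
  by_cases h1 : sidx m r ∈ J
  · rw [if_neg (not_not.mpr h1), if_pos h1, add_zero]
  · rw [if_pos h1, if_neg h1, Finset.card_insert_of_notMem]
    intro h
    rw [Finset.mem_filter, Finset.mem_range] at h
    exact lt_irrefl _ h.1

theorem unsw4_blk_mono (J : Finset ℕ) {r s : ℕ} (h : r ≤ s) : blk m J r ≤ blk m J s := by
  unfold blk
  apply Finset.card_le_card
  apply Finset.filter_subset_filter
  exact Finset.range_mono h

theorem unsw4_bfJ_pc (J : Finset ℕ) (k : Fin m) :
    bfJ J (pc k) = bfJ J (pa k) + if k.val ∈ J then 0 else 1 := by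
  unfold bfJ
  rw [rk_pa, rk_pc, unsw4_blk_succ]
  have : sidx m k.val = k.val := by
    unfold sidx
    rw [if_pos k.2]
  rw [this]

theorem unsw4_rev_cross (J : Finset ℕ) {π : Equiv.Perm (Fin m ⊕ Fin m)} (h : BP J π)
    {x y : Fin m ⊕ Fin m} (hxy : bfJ J x < bfJ J y) : rk (π x) < rk (π y) := by
  by_contra hc
  rw [not_lt] at hc
  have h1 : bfJ J (π y) ≤ bfJ J (π x) := unsw4_blk_mono J hc
  rw [h x, h y] at h1
  omega

/-- W4 [S-M] -/
theorem perm_one_of_simple_J (J : Finset ℕ) (π : Equiv.Perm (Fin m ⊕ Fin m)) (h1 : SwC π)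
    (h2 : BP J π) (h3 : ∀ k : Fin m, k.val ∈ J → rk (π (pa k)) < rk (π (pc k))) : π = 1 := by
  apply perm_eq_one_of_simple π h1
  intro k
  by_cases hk : k.val ∈ J
  · exact h3 k hk
  · apply unsw4_rev_cross J h2
    rw [unsw4_bfJ_pc, if_neg hk]
    omega

end Cfsg.Agent.Lib.Helper11.UNS
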