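import Mathlib
import Cfsg.Prelude.Def_GeometricClasses
import Cfsg.Agent.Lib.Helper27.ASC.Defs
import Cfsg.Agent.Lib.Helper19.ASG.Defs
import Cfsg.Agent.Lib.Helper19.ASU.Defs
import Cfsg.Agent.Lib.Helper26.ASUC.Defs
import Cfsg.Agent.Lib.Helper19.ASUADJ
import Cfsg.Agent.Lib.Helper18.ASUD2THSTD

set_option autoImplicit false
set_option linter.unusedVariables false
set_option linter.unusedSectionVars false

/-!
# Project ASU, block C, piece C-HSTD : invertible hermitian matrices of one size are equivalent (verbatim)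
(`uc_herm_std` = helper18's `herm_std` applied to `Aᵀ`, transposed)
-/

namespace Cfsg.Agent.Lib.Helper19.ASU

open Cfsg Cfsg.Geo Cfsg.Agent.Lib.Helper27.ASC Cfsg.Agent.Lib.Helper19.ASG
open scoped MatrixGroups Matrix Kronecker

variable {n : ℕ} {F : Type*} [Field F]

/-- the entrywise `q`-th power is the entrywise Frobenius -/
theorem asuchstd_map [Fintype F] (q : ℕ) (hF : Fintype.card F = q ^ 2) {k : ℕ} (X : Matrix (Fin k) (Fin k) F) :
    X.map (fun a : F => a ^ q) = X.map (ufrob hF) := by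
  ext i j
  simp [ufrob_apply]

/-- C-HSTD (medium) : an invertible hermitian matrix is `Sᵀ · S^(q)`-equivalent to `1`: an orthonormal basis
(`Cfsg.Agent.S0755.result` : orthonormal basis of a non-degenerate σ-hermitian form over a finite field, used in
`Cfsg.Agent.Lib.helper6.HF.exists_orthonormal`; or `Helper28.UNd.orth_basis` + the norm `c ^ (q + 1) = a` for `a ^ q = a`,
`Helper10.U3FRSTD` `u3frstd_norm`); `S` = the matrix whose columns are the basis vectors. -/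
theorem uc_herm_std [Fintype F] (q : ℕ) (hF : Fintype.card F = q ^ 2) {k : ℕ} (A : Matrix (Fin k) (Fin k) F)
    (hA : A.det ≠ 0) (hAh : uadj q A = A) :
    ∃ S : GL (Fin k) F, (S : Matrix (Fin k) (Fin k) F)ᵀ * A *
      (S : Matrix (Fin k) (Fin k) F).map (fun a : F => a ^ q) = 1 := by
  have hA' : IsUnit (Aᵀ).det := by
    rw [Matrix.det_transpose]
    exact isUnit_iff_ne_zero.mpr hA
  have hh : ((Aᵀ).map (ufrob hF))ᵀ = Aᵀ := by
    rw [← uadj_eq hF, hAh]
  obtain ⟨S, hS⟩ := herm_std q hF Aᵀ hA' hh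
  refine ⟨S, ?_⟩
  have h1 := congrArg Matrix.transpose hS
  rw [Matrix.transpose_mul, Matrix.transpose_mul, Matrix.transpose_transpose, Matrix.transpose_transpose,
    Matrix.transpose_one, ← mul_assoc] at h1
  rw [asuchstd_map q hF]
  exact h1

/-- C-HSTD (easy from `uc_herm_std` twice: `S = S₁ S₂⁻¹`; the entrywise `q`-th power is multiplicative on matrices). -/
theorem uc_herm_equiv [Fintype F] (q : ℕ) (hF : Fintype.card F = q ^ 2) {k : ℕ} (A A' : Matrix (Fin k) (Fin k) F)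
    (hA : A.det ≠ 0) (hAh : uadj q A = A) (hA' : A'.det ≠ 0) (hA'h : uadj q A' = A') :
    ∃ S : GL (Fin k) F, (S : Matrix (Fin k) (Fin k) F)ᵀ * A *
      (S : Matrix (Fin k) (Fin k) F).map (fun a : F => a ^ q) = A' := by
  obtain ⟨S₁, h1⟩ := uc_herm_std q hF A hA hAh
  obtain ⟨S₂, h2⟩ := uc_herm_std q hF A' hA' hA'h
  rw [asuchstd_map q hF] at h1 h2
  refine ⟨S₁ * S₂⁻¹, ?_⟩
  rw [asuchstd_map q hF, Units.val_mul, Matrix.transpose_mul, Matrix.map_mul]
  have e1 : ((S₂⁻¹ : GL (Fin k) F) : Matrix (Fin k) (Fin k) F)ᵀ * (S₂ : Matrix (Fin k) (Fin k) F)ᵀ = 1 := by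
    rw [← Matrix.transpose_mul, ← Units.val_mul, mul_inv_cancel, Units.val_one, Matrix.transpose_one]
  have e2 : (S₂ : Matrix (Fin k) (Fin k) F).map (ufrob hF) *
      ((S₂⁻¹ : GL (Fin k) F) : Matrix (Fin k) (Fin k) F).map (ufrob hF) = 1 := by
    rw [← Matrix.map_mul, ← Units.val_mul, mul_inv_cancel, Units.val_one,
      Matrix.map_one _ (map_zero _) (map_one _)]
  calc ((S₂⁻¹ : GL (Fin k) F) : Matrix (Fin k) (Fin k) F)ᵀ * (S₁ : Matrix (Fin k) (Fin k) F)ᵀ * A *
        ((S₁ : Matrix (Fin k) (Fin k) F).map (ufrob hF) *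
          ((S₂⁻¹ : GL (Fin k) F) : Matrix (Fin k) (Fin k) F).map (ufrob hF))
      = ((S₂⁻¹ : GL (Fin k) F) : Matrix (Fin k) (Fin k) F)ᵀ *
          ((S₁ : Matrix (Fin k) (Fin k) F)ᵀ * A * (S₁ : Matrix (Fin k) (Fin k) F).map (ufrob hF)) *
          ((S₂⁻¹ : GL (Fin k) F) : Matrix (Fin k) (Fin k) F).map (ufrob hF) := by
        simp only [mul_assoc]
    _ = ((S₂⁻¹ : GL (Fin k) F) : Matrix (Fin k) (Fin k) F)ᵀ *
          ((S₂ : Matrix (Fin k) (Fin k) F)ᵀ * A' * (S₂ : Matrix (Fin k) (Fin k) F).map (ufrob hF)) *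
          ((S₂⁻¹ : GL (Fin k) F) : Matrix (Fin k) (Fin k) F).map (ufrob hF) := by rw [h1, h2]
    _ = (((S₂⁻¹ : GL (Fin k) F) : Matrix (Fin k) (Fin k) F)ᵀ * (S₂ : Matrix (Fin k) (Fin k) F)ᵀ) * A' *
          ((S₂ : Matrix (Fin k) (Fin k) F).map (ufrob hF) *
            ((S₂⁻¹ : GL (Fin k) F) : Matrix (Fin k) (Fin k) F).map (ufrob hF)) := by
        simp only [mul_assoc]
    _ = A' := by rw [e1, e2, one_mul, mul_one]

end Cfsg.Agent.Lib.Helper19.ASU
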