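import Mathlib
import Cfsg.Agent.Lib.Helper24.MNP.Defs
import Cfsg.Agent.Lib.Helper24.MNPM1

/-!
# Project MNP, row M9 (helper20): a proper subgroup of `G0` containing the generator of the
complement is abelian, hence nilpotent.
-/

set_option autoImplicit false

namespace Cfsg.Agent.Lib.Helper24.MNP

open scoped commutatorElement
open Cfsg.Agent.Lib.Helper24.SCH (SchAct)

universe u

section M

open SemidirectProduct

variable {T : Type u} [Group T] [Finite T] {p q r : ℕ} [Fact p.Prime] {α₀ : MulAut T}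

/-- every element of `H` is `z * c₀ ^ k` with `z` central -/
theorem mnpm9_form (hT : SchAct p q T α₀) (hn : α₀ ^ (q ^ r) = 1) (H : Subgroup (G0 (q ^ r) α₀ hn))
    (hc : inr (Multiplicative.ofAdd (1 : ZMod (q ^ r))) ∈ H) (hH : H ≠ ⊤) (h : G0 (q ^ r) α₀ hn)
    (hh : h ∈ H) :
    ∃ (z : G0 (q ^ r) α₀ hn) (k : ℕ), z ∈ Subgroup.center (G0 (q ^ r) α₀ hn) ∧
      h = z * (inr (Multiplicative.ofAdd (1 : ZMod (q ^ r)))) ^ k := by
  -- the subgroup `S = H.comap inl`
  let S : Subgroup T := H.comap (inl : T →* G0 (q ^ r) α₀ hn)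
  have hinv : ∀ s ∈ S, α₀ s ∈ S := by
    intro s hs
    show inl (α₀ s) ∈ H
    rw [← conj_inl hn s]
    exact H.mul_mem (H.mul_mem hc hs) (H.inv_mem hc)
  have hne : S ≠ ⊤ := by
    intro htop
    apply hH
    rw [Subgroup.eq_top_iff']
    intro g
    obtain ⟨t, k, rfl⟩ := elt_form hT hn g
    have ht : t ∈ S := by
      rw [htop]
      exact Subgroup.mem_top t
    exact H.mul_mem ht (H.pow_mem hc k)
  have hfix := hT.min S hinv hne
  obtain ⟨t, k, rfl⟩ := elt_form hT hn h
  have ht : t ∈ S := by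
    show inl t ∈ H
    have e : (inl t : G0 (q ^ r) α₀ hn) =
        (inl t * (inr (Multiplicative.ofAdd (1 : ZMod (q ^ r)))) ^ k) *
          ((inr (Multiplicative.ofAdd (1 : ZMod (q ^ r)))) ^ k)⁻¹ := by
      rw [mul_inv_cancel_right]
    rw [e]
    exact H.mul_mem hh (H.inv_mem (H.pow_mem hc k))
  exact ⟨inl t, k, central_inl hT hn t (hfix t ht), rfl⟩

theorem nilp_of_gen_mem (hT : SchAct p q T α₀) (hn : α₀ ^ (q ^ r) = 1) (H : Subgroup (G0 (q ^ r) α₀ hn))
    (hc : inr (Multiplicative.ofAdd (1 : ZMod (q ^ r))) ∈ H) (hH : H ≠ ⊤) : Group.IsNilpotent H := by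
  have hcomm : ∀ a b : ↥H, a * b = b * a := by
    rintro ⟨a, ha⟩ ⟨b, hb⟩
    apply Subtype.ext
    show a * b = b * a
    obtain ⟨z, k, hz, rfl⟩ := mnpm9_form hT hn H hc hH a ha
    obtain ⟨z', k', hz', rfl⟩ := mnpm9_form hT hn H hc hH b hb
    have hzc := Subgroup.mem_center_iff.1 hz
    have hzc' := Subgroup.mem_center_iff.1 hz'
    set x := (inr (Multiplicative.ofAdd (1 : ZMod (q ^ r))) : G0 (q ^ r) α₀ hn) ^ k with hx
    set y := (inr (Multiplicative.ofAdd (1 : ZMod (q ^ r))) : G0 (q ^ r) α₀ hn) ^ k' with hy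
    have hxy : x * y = y * x := by
      rw [hx, hy, ← pow_add, ← pow_add, add_comm]
    calc z * x * (z' * y) = z * (x * z') * y := by group
      _ = z * (z' * x) * y := by rw [hzc' x]
      _ = (z * z') * (x * y) := by group
      _ = (z' * z) * (y * x) := by rw [hzc' z, hxy]
      _ = z' * (z * y) * x := by group
      _ = z' * (y * z) * x := by rw [hzc y]
      _ = z' * y * (z * x) := by group
  letI : CommGroup ↥H := { (inferInstance : Group ↥H) with mul_comm := hcomm }
  exact CommGroup.isNilpotent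

end M

end Cfsg.Agent.Lib.Helper24.MNP
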