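import Mathlib
import Cfsg.Prelude.Def_Classical
import Cfsg.Agent.Lib.helper23.P4V.Defs

/-!
# Project P4V, row OM2 (helper20): the symplectic group preserves `om`.
-/

set_option autoImplicit false

namespace Cfsg.Agent.Lib.helper23.P4V

open Matrix

universe u

section Field

variable {F : Type u} [Field F]

/-- `om u v = -(u ⬝ᵥ J *ᵥ v)`. -/
theorem p4vom2_om_eq (u v : V F) : om u v = -(u ⬝ᵥ (Matrix.J (Fin 2) F) *ᵥ v) := by
  unfold om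
  simp only [dotProduct, Matrix.mulVec, Matrix.J, Fintype.sum_sum_type, Fin.sum_univ_two,
    Matrix.fromBlocks_apply₁₁, Matrix.fromBlocks_apply₁₂, Matrix.fromBlocks_apply₂₁,
    Matrix.fromBlocks_apply₂₂, Matrix.zero_apply, Matrix.neg_apply, Matrix.one_apply_eq,
    Matrix.one_apply_ne, ne_eq, Fin.isValue, zero_ne_one, one_ne_zero, not_false_eq_true]
  ring

theorem om_mulVec (g : M4 F) (hg : g ∈ Matrix.symplecticGroup (Fin 2) F) (u v : V F) :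
    om (g *ᵥ u) (g *ᵥ v) = om u v := by
  rw [p4vom2_om_eq, p4vom2_om_eq]
  congr 1
  have h := (SymplecticGroup.mem_iff').1 hg
  calc (g *ᵥ u) ⬝ᵥ (Matrix.J (Fin 2) F) *ᵥ (g *ᵥ v)
      = (u ᵥ* gᵀ) ⬝ᵥ (Matrix.J (Fin 2) F) *ᵥ (g *ᵥ v) := by rw [Matrix.vecMul_transpose]
    _ = u ⬝ᵥ gᵀ *ᵥ ((Matrix.J (Fin 2) F) *ᵥ (g *ᵥ v)) :=
        (Matrix.dotProduct_mulVec u gᵀ ((Matrix.J (Fin 2) F) *ᵥ (g *ᵥ v))).symm
    _ = u ⬝ᵥ (gᵀ * Matrix.J (Fin 2) F * g) *ᵥ v := by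
        rw [Matrix.mulVec_mulVec, Matrix.mulVec_mulVec, Matrix.mul_assoc]
    _ = u ⬝ᵥ (Matrix.J (Fin 2) F) *ᵥ v := by rw [h]

end Field

end Cfsg.Agent.Lib.helper23.P4V
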