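import Mathlib
import Cfsg.Agent.Lib.helper7.SAP.Defs
import Cfsg.Agent.Lib.Helper29.SAPBASE1

/-!
# Project SAP (designer helper7), rows GL5 `glue_theta_act` and GL6 `glue_tau_old`, cores (writer helper20)

`sapgl5_core`: the statement of GL5 with the statements of GL3 (`glue_nu_act`) and GL4 (`glue_beta'_act`) for the given `H` as hypotheses.
`sapgl6_core`: the statement of GL6 with the statements of GL3 and GL5 as hypotheses.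

`θ = ν⁻¹ τ` commutes with `β' = a^l β a^-l` (`hglue`), `θ z θ⁻¹ = ν⁻¹ z ν = z^±` (`hτz`, GL3 at `x = 0`), and `β'` maps `z_x` to
`z_{φ x}⁻¹`, `φ x = l + r (x - l)` (GL4); the orbit of `0` under `φ` is `{l - r^n l}`, i.e. every `x ≠ l`.
-/

namespace Cfsg.Agent.Lib.helper7.SAP

open Equiv

universe u

/-- the sign is `±1` -/
theorem sapgl5_sgn_mul (l : ℕ) : sgn l * sgn l = 1 := by
  unfold sgn
  split_ifs <;> norm_num

section glue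
variable {p k l : ℕ} {G : Type u} [Group G]

/-- `(g ^ s) ^ s = g` for the sign `s = sgn l` -/
theorem sapgl5_zpow_zpow (g : G) (l : ℕ) : (g ^ sgn l) ^ sgn l = g := by
  rw [← zpow_mul, sapgl5_sgn_mul, zpow_one]

/-- `nuI` fixes `0` when `1 ≤ l` -/
theorem sapgl5_nuI_zero [NeZero p] (hl : 1 ≤ l) : nuI p l (0 : ZMod p) = 0 := by
  unfold nuI
  rw [ZMod.val_zero, if_neg (by omega), if_neg (by omega)]

/-- every `x ≠ l` is `l - r ^ n * l` for some `n` -/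
theorem sapgl5_orbit [Fact p.Prime] (r : (ZMod p)ˣ) (hr : ∀ u : (ZMod p)ˣ, u ∈ Subgroup.zpowers r)
    (hl : 1 ≤ l) (hlp : l + 1 ≤ p) (x : ZMod p) (hx : x ≠ (l : ZMod p)) :
    ∃ n : ℕ, x = (l : ZMod p) - (r : ZMod p) ^ n * (l : ZMod p) := by
  have hl0 : (l : ZMod p) ≠ 0 := by
    intro h
    rw [ZMod.natCast_eq_zero_iff] at h
    have := Nat.le_of_dvd (by omega) h
    omega
  have hne : ((l : ZMod p) - x) * (l : ZMod p)⁻¹ ≠ 0 :=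
    mul_ne_zero (sub_ne_zero.mpr (Ne.symm hx)) (inv_ne_zero hl0)
  have hu := hr (Units.mk0 _ hne)
  rw [← mem_powers_iff_mem_zpowers] at hu
  obtain ⟨n, hn⟩ := hu
  refine ⟨n, ?_⟩
  have h1 : ((r ^ n : (ZMod p)ˣ) : ZMod p) = ((l : ZMod p) - x) * (l : ZMod p)⁻¹ := by
    have hn' : r ^ n = Units.mk0 _ hne := hn
    rw [hn']
    rfl
  rw [Units.val_pow_eq_pow_val] at h1
  rw [h1, mul_assoc, inv_mul_cancel₀ hl0, mul_one]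
  ring

theorem sapgl5_core [Fact p.Prime] (H : GlueHyp p k l G)
    (hGL3 : ∀ x : ZMod p, H.ν * zo H.a H.z x * H.ν⁻¹ = (zo H.a H.z (nuI p l x)) ^ (sgn l))
    (hGL4 : ∀ x : ZMod p,
      (H.a ^ l * H.β * (H.a ^ l)⁻¹) * zo H.a H.z x * (H.a ^ l * H.β * (H.a ^ l)⁻¹)⁻¹ =
        (zo H.a H.z ((l : ZMod p) + (H.r : ZMod p) * (x - (l : ZMod p))))⁻¹)
    (x : ZMod p) (hx : x ≠ (l : ZMod p)) :
    (H.ν⁻¹ * H.τ) * zo H.a H.z x * (H.ν⁻¹ * H.τ)⁻¹ = (zo H.a H.z x) ^ (sgn l) := by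
  have hl : 1 ≤ l := by have := H.hkl; omega
  -- step 1: the point `0`
  have h0 : (H.ν⁻¹ * H.τ) * zo H.a H.z (0 : ZMod p) * (H.ν⁻¹ * H.τ)⁻¹ =
      (zo H.a H.z (0 : ZMod p)) ^ (sgn l) := by
    have hν := hGL3 0
    rw [sapgl5_nuI_zero hl, zo_zero] at hν
    rw [zo_zero]
    have hτ : H.τ * H.z * H.τ⁻¹ = H.z := by rw [H.hτz]; group
    have h2 : H.z = H.ν * H.z ^ sgn l * H.ν⁻¹ := by
      have h' : (H.ν * H.z * H.ν⁻¹) ^ sgn l = (H.z ^ sgn l) ^ sgn l := by rw [hν]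
      rw [conj_zpow, sapgl5_zpow_zpow] at h'
      exact h'.symm
    calc (H.ν⁻¹ * H.τ) * H.z * (H.ν⁻¹ * H.τ)⁻¹ = H.ν⁻¹ * (H.τ * H.z * H.τ⁻¹) * H.ν := by group
      _ = H.ν⁻¹ * H.z * H.ν := by rw [hτ]
      _ = H.ν⁻¹ * (H.ν * H.z ^ sgn l * H.ν⁻¹) * H.ν := by rw [← h2]
      _ = H.z ^ sgn l := by group
  -- step 2: the set of good points is stable under `φ`
  have hstep : ∀ y : ZMod p,
      (H.ν⁻¹ * H.τ) * zo H.a H.z y * (H.ν⁻¹ * H.τ)⁻¹ = (zo H.a H.z y) ^ (sgn l) →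
      (H.ν⁻¹ * H.τ) * zo H.a H.z ((l : ZMod p) + (H.r : ZMod p) * (y - (l : ZMod p))) *
          (H.ν⁻¹ * H.τ)⁻¹ =
        (zo H.a H.z ((l : ZMod p) + (H.r : ZMod p) * (y - (l : ZMod p)))) ^ (sgn l) := by
    intro y hy
    have hφ : zo H.a H.z ((l : ZMod p) + (H.r : ZMod p) * (y - (l : ZMod p))) =
        (H.a ^ l * H.β * (H.a ^ l)⁻¹) * (zo H.a H.z y)⁻¹ * (H.a ^ l * H.β * (H.a ^ l)⁻¹)⁻¹ := by
      have := congrArg (fun g => g⁻¹) (hGL4 y)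
      simp only [inv_inv] at this
      rw [← this]
      group
    have hinv : (H.ν⁻¹ * H.τ) * (zo H.a H.z y)⁻¹ * (H.ν⁻¹ * H.τ)⁻¹ = ((zo H.a H.z y)⁻¹) ^ (sgn l) := by
      have h' : ((H.ν⁻¹ * H.τ) * zo H.a H.z y * (H.ν⁻¹ * H.τ)⁻¹)⁻¹ =
          ((zo H.a H.z y) ^ sgn l)⁻¹ := by rw [hy]
      rw [← inv_zpow] at h'
      rw [← h']
      group
    have hcomm := H.hglue
    rw [hφ, conj_zpow, ← hinv]
    -- `θ (β' w β'⁻¹) θ⁻¹ = β' (θ w θ⁻¹) β'⁻¹` as `θ β' = β' θ`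
    have e1 : (H.ν⁻¹ * H.τ) * ((H.a ^ l * H.β * (H.a ^ l)⁻¹) * (zo H.a H.z y)⁻¹ *
        (H.a ^ l * H.β * (H.a ^ l)⁻¹)⁻¹) * (H.ν⁻¹ * H.τ)⁻¹ =
        ((H.ν⁻¹ * H.τ) * (H.a ^ l * H.β * (H.a ^ l)⁻¹)) * (zo H.a H.z y)⁻¹ *
          ((H.ν⁻¹ * H.τ) * (H.a ^ l * H.β * (H.a ^ l)⁻¹))⁻¹ := by group
    rw [e1, hcomm]
    group
  -- step 3: the orbit
  have hiter : ∀ n : ℕ,
      (H.ν⁻¹ * H.τ) * zo H.a H.z ((l : ZMod p) - (H.r : ZMod p) ^ n * (l : ZMod p)) *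
          (H.ν⁻¹ * H.τ)⁻¹ =
        (zo H.a H.z ((l : ZMod p) - (H.r : ZMod p) ^ n * (l : ZMod p))) ^ (sgn l) := by
    intro n
    induction n with
    | zero =>
      have e : (l : ZMod p) - (H.r : ZMod p) ^ 0 * (l : ZMod p) = 0 := by ring
      rw [e]
      exact h0
    | succ n ih =>
      have e : (l : ZMod p) - (H.r : ZMod p) ^ (n + 1) * (l : ZMod p) =
          (l : ZMod p) + (H.r : ZMod p) *
            (((l : ZMod p) - (H.r : ZMod p) ^ n * (l : ZMod p)) - (l : ZMod p)) := by ring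
      rw [e]
      exact hstep _ ih
  obtain ⟨n, rfl⟩ := sapgl5_orbit H.r H.hr hl H.hlp x hx
  exact hiter n

theorem sapgl6_core [Fact p.Prime] (H : GlueHyp p k l G)
    (hGL3 : ∀ x : ZMod p, H.ν * zo H.a H.z x * H.ν⁻¹ = (zo H.a H.z (nuI p l x)) ^ (sgn l))
    (hGL5 : ∀ x : ZMod p, x ≠ (l : ZMod p) →
      (H.ν⁻¹ * H.τ) * zo H.a H.z x * (H.ν⁻¹ * H.τ)⁻¹ = (zo H.a H.z x) ^ (sgn l))
    (x : ZMod p) (hx : x ≠ (l : ZMod p)) :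
    H.τ * zo H.a H.z x * H.τ⁻¹ = zo H.a H.z (nuI p l x) := by
  calc H.τ * zo H.a H.z x * H.τ⁻¹
      = H.ν * ((H.ν⁻¹ * H.τ) * zo H.a H.z x * (H.ν⁻¹ * H.τ)⁻¹) * H.ν⁻¹ := by group
    _ = H.ν * (zo H.a H.z x) ^ (sgn l) * H.ν⁻¹ := by rw [hGL5 x hx]
    _ = (H.ν * zo H.a H.z x * H.ν⁻¹) ^ (sgn l) := by rw [conj_zpow]
    _ = ((zo H.a H.z (nuI p l x)) ^ (sgn l)) ^ (sgn l) := by rw [hGL3]
    _ = zo H.a H.z (nuI p l x) := sapgl5_zpow_zpow _ l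

end glue

end Cfsg.Agent.Lib.helper7.SAP
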