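import Mathlib
import Cfsg.Agent.Lib.helper17.SLP.Defs

/-!
# Project SLP, row C1 (helper20), core: `card_le_of_struct` with the conclusion of K2 (`k_all`) and the
statement of BN1 (`bn_card`, specialised to the data) as hypotheses.
-/

set_option autoImplicit false

namespace Cfsg.Agent.Lib.helper17.SLP

theorem slpc1_core {G : Type*} [Group G] {F : Type*} [Field F] [Fintype F] (ζ : Fˣ)
    (u h w : G) (N : ℕ)
    (hgen : Subgroup.closure {u, h, w} = ⊤) (x : F → G)
    (hconj : ∀ t, h * x t * h⁻¹ = x ((ζ : F) ^ 2 * t)) (hx1 : x 1 = u)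
    (hBN : (∀ t, ∃ t', h * x t * h⁻¹ = x t') → (∀ t, ∃ t', h⁻¹ * x t * h = x t') →
      Subgroup.closure ({h, w} ∪ Set.range x) = ⊤ →
      Finite G ∧ Nat.card G ≤ Fintype.card F * N * (Fintype.card F + 1)) :
    Finite G ∧ Nat.card G ≤ Fintype.card F * N * (Fintype.card F + 1) := by
  have hz : ((ζ : F) ^ 2) ≠ 0 := pow_ne_zero 2 (Units.ne_zero ζ)
  apply hBN
  · intro t
    exact ⟨_, hconj t⟩
  · intro t
    refine ⟨((ζ : F) ^ 2)⁻¹ * t, ?_⟩
    have h1 := hconj (((ζ : F) ^ 2)⁻¹ * t)
    rw [← mul_assoc, mul_inv_cancel₀ hz, one_mul] at h1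
    rw [← h1]
    group
  · rw [eq_top_iff, ← hgen, Subgroup.closure_le]
    intro g hg
    rcases hg with rfl | rfl | rfl
    · apply Subgroup.subset_closure
      right
      exact ⟨1, hx1⟩
    · apply Subgroup.subset_closure
      left
      exact Set.mem_insert _ _
    · apply Subgroup.subset_closure
      left
      exact Set.mem_insert_of_mem _ rfl

end Cfsg.Agent.Lib.helper17.SLP
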