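import Mathlib
import Cfsg.Agent.Lib.helper17.SLP.Defs
import Cfsg.Agent.Lib.helper17.SLPBN1
import Cfsg.Agent.Lib.Helper27.SLPK2
import Cfsg.Agent.Lib.Helper20.SLPC1core

/-!
# Project SLP, row C1 (helper20), verbatim: the order bound from the structure relations.
-/

set_option autoImplicit false

namespace Cfsg.Agent.Lib.helper17.SLP

/-- C1 [S-M]. -/
theorem card_le_of_struct {G : Type*} [Group G] {F : Type*} [Field F] [Fintype F] (ζ : Fˣ)
    (hζ : ∀ y : Fˣ, y ∈ Subgroup.zpowers ζ) (u h w : G) (N : ℕ) (hN0 : 0 < N)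
    (hgen : Subgroup.closure {u, h, w} = ⊤) (x : F → G) (hadd : ∀ s t, x (s + t) = x s * x t)
    (hconj : ∀ t, h * x t * h⁻¹ = x ((ζ : F) ^ 2 * t)) (hx1 : x 1 = u)
    (hN : h ^ N = 1) (hwh : w * h * w⁻¹ = h⁻¹) (hw2 : w ^ 2 ∈ Subgroup.zpowers h)
    (hK1 : relK1 u w = 1) (hK2 : relK2 (x (ζ : F)) h w = 1) :
    Finite G ∧ Nat.card G ≤ Fintype.card F * N * (Fintype.card F + 1) :=
  slpc1_core ζ u h w N hgen x hconj hx1 (fun a b c =>
    bn_card x h w N hN0 hadd a b hN hwh hw2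
      (k_all ζ hζ x h w hadd hconj hwh (hx1 ▸ hK1) hK2) c)

end Cfsg.Agent.Lib.helper17.SLP
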