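import Mathlib
import Cfsg.Agent.Lib.helper17.SLP.Defs

/-!
# Project SLP, row N2 (helper20): one braid relation of odd length gives the dihedral relations.
-/

set_option autoImplicit false

namespace Cfsg.Agent.Lib.helper17.SLP

/-- N2 [M] -/
theorem n_dihedral {G : Type*} [Group G] (h w : G) (m : ℕ) (hw2 : w ^ 2 = 1)
    (hbr : braid (2 * m + 1) (h * w) w = 1) : w * h * w⁻¹ = h⁻¹ ∧ h ^ (2 * m + 1) = 1 := by
  have hww : w * w = 1 := by rw [← pow_two, hw2]
  have hwinv : w⁻¹ = w := inv_eq_of_mul_eq_one_right hww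
  -- the braid relation
  have e0 : alt (2 * m + 1) (h * w) w = alt (2 * m + 1) w (h * w) := by
    unfold braid at hbr
    exact mul_inv_eq_one.mp hbr
  rw [alt_odd, alt_odd] at e0
  have hkw : h * w * w = h := by rw [mul_assoc, hww, mul_one]
  rw [hkw] at e0
  -- `c = w h w⁻¹`
  set c : G := w * h * w⁻¹ with hc
  have hwk : w * (h * w) = c := by rw [hc, hwinv, mul_assoc]
  rw [hwk] at e0
  -- e0 : h ^ m * (h * w) = c ^ m * w
  have e1 : h ^ (m + 1) = c ^ m := by
    have : h ^ m * (h * w) * w⁻¹ = c ^ m * w * w⁻¹ := by rw [e0]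
    rw [mul_assoc, mul_assoc, mul_inv_cancel, mul_one, mul_assoc, mul_inv_cancel, mul_one] at this
    rw [pow_succ]
    exact this
  have hwc : w * c * w⁻¹ = h := by
    rw [hc, hwinv]
    calc w * (w * h * w) * w = (w * w) * h * (w * w) := by group
      _ = h := by rw [hww, one_mul, mul_one]
  have e2 : c ^ (m + 1) = h ^ m := by
    have : w * h ^ (m + 1) * w⁻¹ = w * c ^ m * w⁻¹ := by rw [e1]
    rw [← conj_pow, ← conj_pow, hwc] at this
    exact this
  have e3 : c = h⁻¹ := by
    have h1 : c = c ^ (m + 1) * (c ^ m)⁻¹ := by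
      rw [pow_succ']
      group
    rw [h1, e2, ← e1, pow_succ]
    group
  refine ⟨e3, ?_⟩
  have e4 : h ^ (m + 1) = (h ^ m)⁻¹ := by rw [e1, e3, inv_pow]
  have : 2 * m + 1 = m + (m + 1) := by ring
  rw [this, pow_add, e4, mul_inv_cancel]

end Cfsg.Agent.Lib.helper17.SLP
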