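import Mathlib
import Cfsg.Agent.Lib.helper17.SLP.Defs

/-!
# Project SLP, row F1 (helper20): `F_p[ζ²] = F` for a generator `ζ` of `Fˣ`.
-/

set_option autoImplicit false

namespace Cfsg.Agent.Lib.helper17.SLP

open Polynomial

theorem slpf1_fiber_le {F : Type*} [Field F] [Fintype F] [DecidableEq F] (a : F) :
    ((Finset.univ.erase (0 : F)).filter fun x => x ^ 2 = a).card ≤ 2 := by
  by_cases hne : ((Finset.univ.erase (0 : F)).filter fun x => x ^ 2 = a).Nonempty
  · obtain ⟨x0, hx0⟩ := hne
    rw [Finset.mem_filter] at hx0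
    have hsub : ((Finset.univ.erase (0 : F)).filter fun x => x ^ 2 = a) ⊆ {x0, -x0} := by
      intro x hx
      rw [Finset.mem_filter] at hx
      have h1 : x ^ 2 = x0 ^ 2 := by rw [hx.2, hx0.2]
      have h2 : (x - x0) * (x + x0) = 0 := by ring_nf; rw [h1]; ring
      rcases mul_eq_zero.mp h2 with h3 | h3
      · rw [Finset.mem_insert]
        left
        exact sub_eq_zero.mp h3
      · rw [Finset.mem_insert, Finset.mem_singleton]
        right
        exact eq_neg_of_add_eq_zero_left h3
    exact le_trans (Finset.card_le_card hsub) Finset.card_le_two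
  · rw [Finset.not_nonempty_iff_eq_empty] at hne
    rw [hne]
    simp

/-- F1 [M] -/
theorem aeval_sq_surjective {F : Type*} [Field F] [Fintype F] (p : ℕ) [Fact p.Prime] [Algebra (ZMod p) F]
    (ζ : Fˣ) (hζ : ∀ y : Fˣ, y ∈ Subgroup.zpowers ζ) :
    Function.Surjective (fun f : (ZMod p)[X] => aeval ((ζ : F) ^ 2) f) := by
  classical
  set lam : F := (ζ : F) ^ 2 with hlam
  let S : Subalgebra (ZMod p) F := (aeval lam : (ZMod p)[X] →ₐ[ZMod p] F).range
  suffices h : ∀ y : F, y ∈ S by
    intro y
    obtain ⟨f, hf⟩ := h y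
    exact ⟨f, hf⟩
  -- squares lie in `S`
  have hlamS : lam ∈ S := ⟨X, by simp⟩
  have hsq : ∀ y : F, y ≠ 0 → y ^ 2 ∈ S := by
    intro y hy
    have hmem := hζ (Units.mk0 y hy)
    rw [← mem_powers_iff_mem_zpowers] at hmem
    obtain ⟨k, hk⟩ := hmem
    have h1 : y = (ζ : F) ^ k := by
      have := congrArg (fun z : Fˣ => (z : F)) hk
      simp only [Units.val_pow_eq_pow_val, Units.val_mk0] at this
      exact this.symm
    have h2 : y ^ 2 = lam ^ k := by rw [h1, hlam, ← pow_mul, ← pow_mul, mul_comm]
    rw [h2]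
    exact Subalgebra.pow_mem S hlamS k
  -- counting
  let A : AddSubgroup F := S.toSubmodule.toAddSubgroup
  have hA : ∀ y : F, y ∈ A ↔ y ∈ S := fun y => Iff.rfl
  have hdvd : Nat.card ↥A ∣ Nat.card F := AddSubgroup.card_addSubgroup_dvd_card A
  set sS : Finset F := Finset.univ.filter (fun y : F => y ∈ S) with hsS
  have hcardA : Nat.card ↥A = sS.card := by
    rw [Nat.card_eq_fintype_card, Fintype.card_subtype]
    rfl
  have hq : Nat.card F = Fintype.card F := Nat.card_eq_fintype_card
  -- the nonzero squares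
  set nz : Finset F := Finset.univ.erase (0 : F) with hnz
  have hnzcard : nz.card = Fintype.card F - 1 := by
    rw [hnz, Finset.card_erase_of_mem (Finset.mem_univ _), Finset.card_univ]
  have himg : nz.image (fun x => x ^ 2) ⊆ sS.erase 0 := by
    intro z hz
    rw [Finset.mem_image] at hz
    obtain ⟨x, hx, rfl⟩ := hz
    rw [hnz, Finset.mem_erase] at hx
    rw [Finset.mem_erase, hsS, Finset.mem_filter]
    exact ⟨pow_ne_zero 2 hx.1, Finset.mem_univ _, hsq x hx.1⟩
  have h0S : (0 : F) ∈ sS := by
    rw [hsS, Finset.mem_filter]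
    exact ⟨Finset.mem_univ _, Subalgebra.zero_mem S⟩
  have hle1 : nz.card ≤ 2 * (nz.image (fun x => x ^ 2)).card := by
    apply Finset.card_le_mul_card_image
    intro a _
    exact slpf1_fiber_le a
  have hle2 : (nz.image (fun x => x ^ 2)).card ≤ sS.card - 1 := by
    have := Finset.card_le_card himg
    rwa [Finset.card_erase_of_mem h0S] at this
  have hpos : 0 < sS.card := Finset.card_pos.mpr ⟨0, h0S⟩
  have hFpos : 0 < Fintype.card F := Fintype.card_pos
  have hlt : Fintype.card F < 2 * sS.card := by omega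
  -- divisibility forces equality
  obtain ⟨k, hk⟩ := hdvd
  rw [hq, hcardA] at hk
  have hk1 : k = 1 := by
    rcases k with _ | _ | k
    · omega
    · rfl
    · exfalso
      have : 2 * sS.card ≤ sS.card * (k + 1 + 1) := by nlinarith
      omega
  rw [hk1, mul_one] at hk
  have huniv : sS = Finset.univ := by
    apply Finset.eq_univ_of_card
    rw [← hk]
  intro y
  have : y ∈ sS := by rw [huniv]; exact Finset.mem_univ y
  rw [hsS, Finset.mem_filter] at this
  exact this.2

end Cfsg.Agent.Lib.helper17.SLP
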