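import Mathlib
import Cfsg.Agent.Lib.helper17.SLP.Defs

/-!
# Project SLP, row F4 (helper20): `ζ ^ ((q - 1) / 2) = -1` for a generator `ζ` of `Fˣ`, `q` odd.
-/

set_option autoImplicit false

namespace Cfsg.Agent.Lib.helper17.SLP

/-- F4 [S] -/
theorem zeta_pow_half {F : Type*} [Field F] [Fintype F] (h2 : (2 : F) ≠ 0) (ζ : Fˣ)
    (hζ : ∀ y : Fˣ, y ∈ Subgroup.zpowers ζ) : (ζ : F) ^ ((Fintype.card F - 1) / 2) = -1 := by
  classical
  have hord : orderOf ζ = Fintype.card F - 1 := by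
    rw [orderOf_eq_card_of_forall_mem_zpowers hζ, Nat.card_eq_fintype_card, Fintype.card_units]
  have hodd : Fintype.card F % 2 = 1 := by
    apply FiniteField.odd_card_of_char_ne_two
    intro hc
    apply h2
    have : CharP F 2 := by
      rw [← hc]
      exact ringChar.charP F
    exact CharP.cast_eq_zero F 2 ▸ (by norm_num : ((2 : ℕ) : F) = 2).symm
  have hq1 : 1 < Fintype.card F := Fintype.one_lt_card
  set n := (Fintype.card F - 1) / 2 with hn
  have h2n : Fintype.card F - 1 = 2 * n := by omega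
  have hnpos : 0 < n := by omega
  have hy2 : ((ζ : F) ^ n) ^ 2 = 1 := by
    rw [← pow_mul, mul_comm, ← h2n]
    exact FiniteField.pow_card_sub_one_eq_one _ (Units.ne_zero ζ)
  have hy1 : (ζ : F) ^ n ≠ 1 := by
    intro h1
    have h3 : ζ ^ n = 1 := by
      apply Units.ext
      rw [Units.val_pow_eq_pow_val, h1, Units.val_one]
    have h4 := orderOf_dvd_of_pow_eq_one h3
    rw [hord, h2n] at h4
    have := Nat.le_of_dvd hnpos h4
    omega
  have h5 : ((ζ : F) ^ n - 1) * ((ζ : F) ^ n + 1) = 0 := by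
    have : ((ζ : F) ^ n - 1) * ((ζ : F) ^ n + 1) = ((ζ : F) ^ n) ^ 2 - 1 := by ring
    rw [this, hy2, sub_self]
  rcases mul_eq_zero.mp h5 with h6 | h6
  · exact absurd (sub_eq_zero.mp h6) hy1
  · exact eq_neg_of_add_eq_zero_left h6

end Cfsg.Agent.Lib.helper17.SLP
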