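import Mathlib
import Cfsg.Agent.Lib.Helper24.SU3M.Defs
import Cfsg.Agent.Lib.helper7.CeA
import Cfsg.Agent.Lib.Helper16.SU3MT2
import Cfsg.Agent.Lib.Helper26.SU3MG6

/-!
# Project SU3M, row T5 (core): `Ng_hS` with the statements of G4 `central_lift` and T3 `tor_comm_sq` as hypotheses.
-/

set_option autoImplicit false
set_option linter.unusedSectionVars false
set_option linter.unusedVariables false

namespace Cfsg.Agent.Lib.Helper24.SU3M

open Cfsg.Agent.Lib.Helper19.U3P Cfsg.Agent.Lib.Helper25.SU3P Cfsg.Agent.Lib.helper14.SU3J Cfsg.Agent.Lib.helper7.Ce Matrix Polynomial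

universe u

section T

variable {F : Type u} [Field F] [Fintype F] {q : ℕ} {Γ : Type*} [Group Γ] {π : Γ →* ↥(Cfsg.SU 3 F q)}

/-- the central elements of square one -/
def su3mt5_C2 (Γ : Type*) [Group Γ] : Subgroup Γ where
  carrier := {x | x ∈ Subgroup.center Γ ∧ x ^ 2 = 1}
  one_mem' := ⟨Subgroup.one_mem _, one_pow _⟩
  mul_mem' := by
    rintro x y ⟨hx, hx2⟩ ⟨hy, hy2⟩
    refine ⟨Subgroup.mul_mem _ hx hy, ?_⟩
    have hc : Commute x y := ((Subgroup.mem_center_iff.1 hy x) : x * y = y * x)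
    rw [hc.mul_pow, hx2, hy2, one_mul]
  inv_mem' := by
    rintro x ⟨hx, hx2⟩
    exact ⟨Subgroup.inv_mem _ hx, by rw [inv_pow, hx2, inv_one]⟩

theorem su3mt5_core {dg : (↥(rootsOfUnity (q + 1) F) × ↥(rootsOfUnity (q + 1) F)) →* ↥(Cfsg.SU 3 F q)} {w s : ↥(Cfsg.SU 3 F q)} (hT : Tor q dg w s)
    (h : IsCE π)
    (hG4 : ∀ {x : Γ}, π x ∈ Subgroup.center ↥(Cfsg.SU 3 F q) → x ∈ Subgroup.center Γ)
    (hT3 : ∀ x ∈ dg.range.comap π, ∀ y ∈ dg.range.comap π, cm x y ∈ Subgroup.center Γ ∧ cm x y ^ 2 = 1)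
    (r : ℕ) (hr : Odd r) :
    ∀ u ∈ ⁅(Ng dg w).comap π, (Ng dg w).comap π⁆, π u = 1 → u ^ r = 1 → u = 1 := by
  obtain ⟨w', hw'⟩ := h.surj w
  set N : Subgroup Γ := dg.range.comap π with hN
  -- conjugation by `w'` preserves `N`
  have hw1 : ∀ n ∈ N, w' * n * w'⁻¹ ∈ N := by
    intro n hn
    obtain ⟨⟨a, b⟩, hab⟩ := hn
    show π (w' * n * w'⁻¹) ∈ dg.range
    rw [map_mul, map_mul, map_inv, hw', ← hab, (tor_conj hT a b).2.1]
    exact ⟨_, rfl⟩
  have hw2 : ∀ n ∈ N, w'⁻¹ * n * w' ∈ N := by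
    intro n hn
    obtain ⟨⟨a, b⟩, hab⟩ := hn
    show π (w'⁻¹ * n * w') ∈ dg.range
    rw [map_mul, map_mul, map_inv, hw', ← hab, (tor_conj hT a b).2.2]
    exact ⟨_, rfl⟩
  have hC : ∀ a ∈ N, ∀ b ∈ N, cm a b ∈ Subgroup.center Γ := fun a ha b hb => (hT3 a ha b hb).1
  -- the preimage of `Ng` is inside `N ⊔ zpowers w'`
  have hE : (Ng dg w).comap π ≤ N ⊔ Subgroup.zpowers w' := by
    unfold Ng
    rw [← Subgroup.comap_sup_eq _ _ _ h.surj]
    apply sup_le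
    · exact le_sup_left
    · intro g hg
      obtain ⟨k, hk⟩ := Subgroup.mem_zpowers_iff.1 hg
      have h1 : g * (w' ^ k)⁻¹ ∈ N := by
        show π (g * (w' ^ k)⁻¹) ∈ dg.range
        rw [map_mul, map_inv, map_zpow, hw', hk, mul_inv_cancel]
        exact Subgroup.one_mem _
      have h2 : g = g * (w' ^ k)⁻¹ * w' ^ k := by group
      rw [h2]
      exact Subgroup.mul_mem _ (Subgroup.mem_sup_left h1) (Subgroup.mem_sup_right (Subgroup.zpow_mem_zpowers w' k))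
  -- `⁅N, N⁆` maps to `1` and has exponent `2`
  have hNN1 : ⁅N, N⁆ ≤ π.ker := by
    rw [Subgroup.commutator_le]
    intro a ha b hb
    obtain ⟨x, hx⟩ := ha
    obtain ⟨y, hy⟩ := hb
    rw [MonoidHom.mem_ker, commutatorElement_def, map_mul, map_mul, map_mul, map_inv, map_inv, ← hx, ← hy]
    have h1 : dg x * dg y = dg y * dg x := by rw [← map_mul, ← map_mul, mul_comm]
    rw [h1, mul_inv_cancel_right, mul_inv_cancel]
  have hNN2 : ⁅N, N⁆ ≤ su3mt5_C2 Γ := by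
    rw [Subgroup.commutator_le]
    intro a ha b hb
    exact hT3 a ha b hb
  intro u hu hu1 hur
  obtain ⟨n, hn, c, hc, huc⟩ := comm_form N w' hw1 hw2 hC u (Subgroup.commutator_mono hE hE hu)
  have hc1 : π c = 1 := MonoidHom.mem_ker.1 (hNN1 hc)
  -- `cm w (π n) = 1`
  have h3 : π (cm w' n) = 1 := by
    have : π u = π (cm w' n) * π c := by rw [huc, map_mul]
    rw [hu1, hc1, mul_one] at this
    exact this.symm
  rw [map_cm, hw', cm_eq_one_iff] at h3
  have h4 : π n ∈ Subgroup.center ↥(Cfsg.SU 3 F q) := tor_cent_w hT (π n) hn h3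
  have h5 : n ∈ Subgroup.center Γ := hG4 h4
  have h6 : cm w' n = 1 := by
    rw [cm_eq_one_iff]
    exact (Subgroup.mem_center_iff.1 h5 w')
  rw [h6, one_mul] at huc
  have h7 : u ^ 2 = 1 := by
    rw [huc]; exact (hNN2 hc).2
  obtain ⟨k, hk⟩ := hr
  rw [hk, pow_succ, pow_mul, h7, one_pow, one_mul] at hur
  exact hur

end T

end Cfsg.Agent.Lib.Helper24.SU3M
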