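import Mathlib
import Cfsg.Agent.Lib.Helper24.SU3M.Defs
import Cfsg.Agent.Lib.Helper20.SU3MT5core
import Cfsg.Agent.Lib.helper2.SU3MG4
import Cfsg.Agent.Lib.Helper21.SU3MT3

/-!
# Project SU3M, row T5 (VERBATIM from `Helper24/SU3M/Skel.lean.txt`): `Ng_hS`.
-/

set_option autoImplicit false
set_option linter.unusedSectionVars false
set_option linter.unusedVariables false

namespace Cfsg.Agent.Lib.Helper24.SU3M

open Cfsg.Agent.Lib.Helper19.U3P Cfsg.Agent.Lib.Helper25.SU3P Cfsg.Agent.Lib.helper14.SU3J Cfsg.Agent.Lib.helper7.Ce Matrix Polynomial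

universe u

section T

variable {F : Type u} [Field F] [Fintype F] {q : ℕ} {Γ : Type*} [Group Γ] {π : Γ →* ↥(Cfsg.SU 3 F q)}

/-- T5 [M]  `N := dg.range.comap π`, `w'` a lift of `w`: `(Ng dg w).comap π = N ⊔ zpowers w'` (`Ng = dg.range ⊔ zpowers w`, kernel inside `N`).  `comm_form` (`tor_conj` for `hw hw'`, `tor_comm_sq` for `hC`): `u = cm w' n * c`.  `π u = 1`, `π c = 1`:
`cm w (π n) = 1`, so `π n` is central (`tor_cent_w`), `n` is central (`central_lift`), `cm w' n = 1`, `u = c ∈ ⁅N, N⁆`, which has exponent `2` (`tor_comm_sq`: generated by central elements of square `1`); `u ^ r = 1` with `r` odd: `u = 1`. -/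
theorem Ng_hS {dg : (↥(rootsOfUnity (q + 1) F) × ↥(rootsOfUnity (q + 1) F)) →* ↥(Cfsg.SU 3 F q)} {w s : ↥(Cfsg.SU 3 F q)} (hT : Tor q dg w s)
    (h : IsCE π) (hΓ : commutator Γ = ⊤) (r : ℕ) (hr : Odd r) :
    ∀ u ∈ ⁅(Ng dg w).comap π, (Ng dg w).comap π⁆, π u = 1 → u ^ r = 1 → u = 1 :=
  su3mt5_core hT h (fun hx => central_lift h hΓ hx) (tor_comm_sq hT h) r hr

end T

end Cfsg.Agent.Lib.Helper24.SU3M
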