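import Mathlib
import Cfsg.Agent.Lib.Helper24.SU3M.Defs
import Cfsg.Agent.Lib.helper15.UTorus

/-!
# Project SU3M, block NT (rows NT1 - NT9): the arithmetic, VERBATIM from `Helper24/SU3M/Skel.lean.txt`
(except NT7 `nt_two`, which is false for `q = 1` as stated: extra hypothesis `1 < q`).
-/

set_option autoImplicit false
set_option linter.unusedVariables false

namespace Cfsg.Agent.Lib.Helper24.SU3M

/-- NT1 -/
theorem nt_al_q (q : ℕ) (hq : 3 ≤ q) : ¬ (q ^ 2 - 1) ∣ (q - 2) * (q - 1) := by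
  obtain ⟨k, rfl⟩ : ∃ k, q = k + 3 := ⟨q - 3, by omega⟩
  intro h
  have h1 : k + 3 - 2 = k + 1 := by omega
  have h2 : k + 3 - 1 = k + 2 := by omega
  rw [h1, h2] at h
  have h3 : (k + 3) ^ 2 - 1 = k ^ 2 + 6 * k + 8 := by
    have : (k + 3) ^ 2 = k ^ 2 + 6 * k + 8 + 1 := by ring
    omega
  rw [h3] at h
  have h4 := Nat.le_of_dvd (by positivity) h
  nlinarith

/-- the common reduction of NT2, NT3: `Q ∣ (q - 2) * b` gives `Q ∣ 3 * b` -/
theorem su3mnt_red (q b : ℕ) (hq : 3 ≤ q) (h : (q ^ 2 - 1) ∣ (q - 2) * b) : (q ^ 2 - 1) ∣ 3 * b := by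
  obtain ⟨a, rfl⟩ : ∃ a, q = a + 2 := ⟨q - 2, by omega⟩
  have h1 : a + 2 - 2 = a := by omega
  rw [h1] at h
  have h3 : (a + 2) ^ 2 - 1 = a * (a + 4) + 3 := by
    have : (a + 2) ^ 2 = a * (a + 4) + 3 + 1 := by ring
    omega
  rw [h3] at h ⊢
  have h4 : (a * (a + 4) + 3) ∣ (a + 4) * (a * b) := Dvd.dvd.mul_left h _
  have h5 : (a * (a + 4) + 3) ∣ (a + 4) * (a * b) + 3 * b := ⟨b, by ring⟩
  exact (Nat.dvd_add_right h4).1 h5

theorem su3mnt_pow_le (p f s : ℕ) (hs' : s < 2 * f) : p ^ s * p ≤ (p ^ f) ^ 2 := by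
  rcases Nat.eq_zero_or_pos p with h0 | hp
  · subst h0
    simp
  · rw [← pow_succ, ← pow_mul]
    exact Nat.pow_le_pow_right hp (by omega)

/-- NT2 -/
theorem nt_al_frob (p f s : ℕ) (hp : p.Prime) (hq : 3 ≤ p ^ f) (hs : 0 < s) (hs' : s < 2 * f) :
    ¬ ((p ^ f) ^ 2 - 1) ∣ (p ^ f - 2) * (p ^ s - 1) := by
  intro h
  have h3 := su3mnt_red _ _ hq h
  have hle := su3mnt_pow_le p f s hs'
  have hP : 2 ≤ p ^ s := by
    calc 2 ≤ p := hp.two_le
      _ = p ^ 1 := (pow_one p).symm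
      _ ≤ p ^ s := Nat.pow_le_pow_right hp.pos hs
  have hq2 : 9 ≤ (p ^ f) ^ 2 := by nlinarith
  rcases Nat.lt_or_ge p 3 with hp3 | hp3
  · -- p = 2
    have hp2 : p = 2 := le_antisymm (by omega) hp.two_le
    subst hp2
    have hf : 2 ≤ f := by
      by_contra hf
      have : f = 0 ∨ f = 1 := by omega
      rcases this with rfl | rfl <;> norm_num at hq
    obtain ⟨c, hc⟩ := h3
    have hc1 : c = 1 := by
      have : 0 < c := by
        rcases Nat.eq_zero_or_pos c with h0 | h0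
        · subst h0; omega
        · exact h0
      have : c < 2 := by
        by_contra hc2
        have : 2 ≤ c := by omega
        have : ((2 ^ f) ^ 2 - 1) * 2 ≤ ((2 ^ f) ^ 2 - 1) * c := Nat.mul_le_mul_left _ this
        omega
      omega
    subst hc1
    rw [mul_one] at hc
    -- 3 (2^s - 1) = (2^f)^2 - 1
    obtain ⟨f', rfl⟩ : ∃ f', f = f' + 2 := ⟨f - 2, by omega⟩
    have e1 : ((2 : ℕ) ^ (f' + 2)) ^ 2 = 16 * (2 ^ f') ^ 2 := by ring
    rcases Nat.lt_or_ge s 2 with hs2 | hs2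
    · have : s = 1 := by omega
      subst this
      rw [e1] at hc
      have : 0 < (2 ^ f') ^ 2 := by positivity
      omega
    · obtain ⟨s', rfl⟩ : ∃ s', s = s' + 2 := ⟨s - 2, by omega⟩
      have e2 : (2 : ℕ) ^ (s' + 2) = 4 * 2 ^ s' := by ring
      rw [e1, e2] at hc
      have : 0 < (2 : ℕ) ^ s' := by positivity
      omega
  · have h5 : p ^ s * 3 ≤ (p ^ f) ^ 2 := le_trans (Nat.mul_le_mul_left _ hp3) hle
    have h6 := Nat.le_of_dvd (by omega) h3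
    omega

/-- NT3 -/
theorem nt_al_inv (p f k : ℕ) (hp : p.Prime) (hq : 3 ≤ p ^ f) (hk : k < 2 * f) :
    ¬ ((p ^ f) ^ 2 - 1) ∣ (p ^ f - 2) * (p ^ k + 1) := by
  intro h
  have h3 := su3mnt_red _ _ hq h
  have hle := su3mnt_pow_le p f k hk
  have hP : 1 ≤ p ^ k := Nat.one_le_pow _ _ hp.pos
  have hf1 : 1 ≤ f := by
    by_contra hf
    have : f = 0 := by omega
    subst this
    norm_num at hq
  have hpq : p ≤ p ^ f := by
    calc p = p ^ 1 := (pow_one p).symm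
      _ ≤ p ^ f := Nat.pow_le_pow_right hp.pos hf1
  have hq2 : 9 ≤ (p ^ f) ^ 2 := by nlinarith
  rcases Nat.lt_or_ge p 5 with hp5 | hp5
  · have hp23 : p = 2 ∨ p = 3 := by
      have h2 := hp.two_le
      interval_cases p
      · left; rfl
      · right; rfl
      · exact absurd hp (by decide)
    rcases hp23 with rfl | rfl
    · -- p = 2
      have hf : 2 ≤ f := by
        by_contra hf
        have : f = 1 := by omega
        subst this
        norm_num at hq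
      obtain ⟨f', rfl⟩ : ∃ f', f = f' + 2 := ⟨f - 2, by omega⟩
      have e1 : ((2 : ℕ) ^ (f' + 2)) ^ 2 = 16 * (2 ^ f') ^ 2 := by ring
      have hpos : 0 < (2 ^ f') ^ 2 := by positivity
      obtain ⟨c, hc⟩ := h3
      have hc1 : c = 1 := by
        have : 0 < c := by
          rcases Nat.eq_zero_or_pos c with h0 | h0
          · subst h0; omega
          · exact h0
        have : c < 2 := by
          by_contra hc2
          have : 2 ≤ c := by omega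
          have : ((2 ^ (f' + 2)) ^ 2 - 1) * 2 ≤ ((2 ^ (f' + 2)) ^ 2 - 1) * c := Nat.mul_le_mul_left _ this
          rw [e1] at this hle hc
          omega
        omega
      subst hc1
      rw [mul_one] at hc
      -- 3 (2^k + 1) = (2^f)^2 - 1
      rcases Nat.lt_or_ge k 3 with hk3 | hk3
      · interval_cases k
        · rw [e1] at hc; omega
        · rw [e1] at hc; omega
        · -- k = 2: 15 = 16 m - 1, m = 1, f' = 0, q = 4
          rw [e1] at hc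
          have hm : (2 ^ f') ^ 2 = 1 := by omega
          have hf0 : f' = 0 := by
            by_contra hne
            have : 2 ≤ 2 ^ f' := by
              calc 2 = 2 ^ 1 := rfl
                _ ≤ 2 ^ f' := Nat.pow_le_pow_right (by norm_num) (by omega)
            nlinarith
          subst hf0
          norm_num at h
      · obtain ⟨k', rfl⟩ : ∃ k', k = k' + 3 := ⟨k - 3, by omega⟩
        have e2 : (2 : ℕ) ^ (k' + 3) = 8 * 2 ^ k' := by ring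
        rw [e1, e2] at hc
        omega
    · -- p = 3
      have h3n : ¬ 3 ∣ ((3 ^ f) ^ 2 - 1) := by
        obtain ⟨f', rfl⟩ : ∃ f', f = f' + 1 := ⟨f - 1, by omega⟩
        have e1 : ((3 : ℕ) ^ (f' + 1)) ^ 2 = 9 * (3 ^ f') ^ 2 := by ring
        have hpos : 0 < (3 ^ f') ^ 2 := by positivity
        rw [e1]
        omega
      have hcop : Nat.Coprime ((3 ^ f) ^ 2 - 1) 3 :=
        (Nat.Coprime.symm ((Nat.Prime.coprime_iff_not_dvd Nat.prime_three).2 h3n))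
      have h4 : ((3 ^ f) ^ 2 - 1) ∣ (3 ^ k + 1) := hcop.dvd_of_dvd_mul_left h3
      have h6 := Nat.le_of_dvd (by omega) h4
      omega
  · have h5 : p ^ k * 5 ≤ (p ^ f) ^ 2 := le_trans (Nat.mul_le_mul_left _ hp5) hle
    have hq25 : 25 ≤ (p ^ f) ^ 2 := by nlinarith
    have h6 := Nat.le_of_dvd (by omega) h3
    omega

/-- NT4 -/
theorem nt_minus (q r : ℕ) (hr : r.Prime) (hr2 : r ≠ 2) (hq : 2 ≤ q) (h : r ∣ q - 1) : ¬ r ∣ q ^ 3 * (q ^ 3 + 1) := by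
  obtain ⟨t, rfl⟩ : ∃ t, q = t + 1 := ⟨q - 1, by omega⟩
  have h1 : t + 1 - 1 = t := by omega
  rw [h1] at h
  intro hd
  rcases (Nat.Prime.dvd_mul hr).1 hd with h2 | h2
  · have h3 := hr.dvd_of_dvd_pow h2
    have h4 : r ∣ 1 := (Nat.dvd_add_right h).1 h3
    exact hr.one_lt.ne' (Nat.dvd_one.1 h4)
  · have e : (t + 1) ^ 3 + 1 = t * (t ^ 2 + 3 * t + 3) + 2 := by ring
    rw [e] at h2
    have h4 : r ∣ 2 := (Nat.dvd_add_right (Dvd.dvd.mul_right h _)).1 h2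
    exact hr2 ((Nat.prime_dvd_prime_iff_eq hr Nat.prime_two).1 h4)

/-- NT5 -/
theorem nt_plus (q r m : ℕ) (hr : r.Prime) (hr2 : r ≠ 2) (hq : 2 ≤ q) (h : r ∣ q + 1)
    (hm : m * (3 * (q + 1) ^ 2) = q ^ 3 * ((q ^ 2 - 1) * (q ^ 3 + 1))) : ¬ r ∣ m := by
  obtain ⟨t, rfl⟩ : ∃ t, q = t + 1 := ⟨q - 1, by omega⟩
  have e1 : (t + 1) ^ 2 - 1 = t * (t + 2) := by
    have : (t + 1) ^ 2 = t * (t + 2) + 1 := by ring
    omega
  have e2 : (t + 1) ^ 3 + 1 = (t + 2) * (t ^ 2 + t + 1) := by ring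
  rw [e1, e2] at hm
  have e3 : t + 1 + 1 = t + 2 := by ring
  rw [e3] at hm h
  have hm2 : 3 * m = (t + 1) ^ 3 * (t * (t ^ 2 + t + 1)) := by
    have hpos : 0 < (t + 2) ^ 2 := by positivity
    apply Nat.eq_of_mul_eq_mul_right hpos
    linear_combination hm
  intro hd
  have hd3 : r ∣ (t + 1) ^ 3 * (t * (t ^ 2 + t + 1)) := by
    rw [← hm2]; exact Dvd.dvd.mul_left hd _
  have hnot1 : ¬ r ∣ t + 1 := by
    intro h3
    have h4 : r ∣ 1 := (Nat.dvd_add_right h3).1 (by simpa using h)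
    exact hr.one_lt.ne' (Nat.dvd_one.1 h4)
  have hnot2 : ¬ r ∣ t := by
    intro h3
    have h4 : r ∣ 2 := (Nat.dvd_add_right h3).1 h
    exact hr2 ((Nat.prime_dvd_prime_iff_eq hr Nat.prime_two).1 h4)
  rcases (Nat.Prime.dvd_mul hr).1 hd3 with h2 | h2
  · exact hnot1 (hr.dvd_of_dvd_pow h2)
  rcases (Nat.Prime.dvd_mul hr).1 h2 with h2 | h2
  · exact hnot2 h2
  -- r ∣ t^2 + t + 1, so r ∣ 3
  have e4 : t ^ 2 + t + 1 + (t + 2) = (t + 2) * t + 3 := by ring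
  have h5 : r ∣ (t + 2) * t + 3 := by
    rw [← e4]; exact dvd_add h2 h
  have h6 : r ∣ 3 := (Nat.dvd_add_right (Dvd.dvd.mul_right h _)).1 h5
  have hr3 : r = 3 := (Nat.prime_dvd_prime_iff_eq hr Nat.prime_three).1 h6
  subst hr3
  obtain ⟨j, hj⟩ := h
  obtain ⟨j', rfl⟩ : ∃ j', j = j' + 1 := ⟨j - 1, by omega⟩
  have ht : t = 3 * j' + 1 := by omega
  subst ht
  have e5 : (3 * j' + 1) ^ 2 + (3 * j' + 1) + 1 = 3 * (3 * j' ^ 2 + 3 * j' + 1) := by ring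
  rw [e5] at hm2
  have hm3 : m = (3 * j' + 1 + 1) ^ 3 * ((3 * j' + 1) * (3 * j' ^ 2 + 3 * j' + 1)) := by
    apply Nat.eq_of_mul_eq_mul_left (by norm_num : 0 < 3)
    rw [hm2]; ring
  rw [hm3] at hd
  rcases (Nat.Prime.dvd_mul Nat.prime_three).1 hd with h2 | h2
  · have := Nat.prime_three.dvd_of_dvd_pow h2
    omega
  rcases (Nat.Prime.dvd_mul Nat.prime_three).1 h2 with h2 | h2
  · omega
  · omega

/-- NT7 (with `1 < q`: the statement is false for `q = 1`) -/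
theorem nt_two (q m : ℕ) (hq : Odd q) (hq1 : 1 < q)
    (hm : m * (q * (q ^ 2 - 1) * (q + 1)) = q ^ 3 * ((q ^ 2 - 1) * (q ^ 3 + 1))) : ¬ 2 ∣ m := by
  obtain ⟨t, rfl⟩ : ∃ t, q = t + 1 := ⟨q - 1, by omega⟩
  have e1 : (t + 1) ^ 2 - 1 = t * (t + 2) := by
    have : (t + 1) ^ 2 = t * (t + 2) + 1 := by ring
    omega
  have e2 : (t + 1) ^ 3 + 1 = (t + 2) * (t ^ 2 + t + 1) := by ring
  rw [e1, e2] at hm
  have e3 : t + 1 + 1 = t + 2 := by ring
  rw [e3] at hm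
  have ht : 0 < t := by omega
  have hm2 : m = (t + 1) ^ 2 * (t ^ 2 + t + 1) := by
    have hpos : 0 < (t + 1) * (t * (t + 2)) * (t + 2) := by positivity
    apply Nat.eq_of_mul_eq_mul_right hpos
    rw [hm]; ring
  rw [hm2]
  intro hd
  have hodd : ¬ 2 ∣ t + 1 := by
    rcases hq with ⟨j, hj⟩; omega
  rcases (Nat.Prime.dvd_mul Nat.prime_two).1 hd with h2 | h2
  · exact hodd (Nat.prime_two.dvd_of_dvd_pow h2)
  · have e4 : t ^ 2 + t + 1 = t * (t + 1) + 1 := by ring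
    rw [e4] at h2
    have : 2 ∣ t * (t + 1) := (Nat.even_mul_succ_self t).two_dvd
    have h4 : 2 ∣ 1 := (Nat.dvd_add_right this).1 h2
    omega

/-- NT8 -/
theorem nt_p (p f m n : ℕ) (hp : p.Prime) (hf : 1 ≤ f) (hn : (p ^ f) ^ 3 ∣ n)
    (hm : m * n = (p ^ f) ^ 3 * (((p ^ f) ^ 2 - 1) * ((p ^ f) ^ 3 + 1))) : ¬ p ∣ m := by
  have hpq : p ∣ p ^ f := dvd_pow_self p (by omega)
  have hqpos : 0 < p ^ f := Nat.pos_of_ne_zero (pow_ne_zero _ hp.ne_zero)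
  obtain ⟨n', rfl⟩ := hn
  have hm2 : m * n' = ((p ^ f) ^ 2 - 1) * ((p ^ f) ^ 3 + 1) := by
    have hpos : 0 < (p ^ f) ^ 3 := by positivity
    apply Nat.eq_of_mul_eq_mul_left hpos
    rw [← hm]; ring
  intro hd
  have hd2 : p ∣ ((p ^ f) ^ 2 - 1) * ((p ^ f) ^ 3 + 1) := by
    rw [← hm2]; exact Dvd.dvd.mul_right hd _
  rcases (Nat.Prime.dvd_mul hp).1 hd2 with h2 | h2
  · have h3 : p ∣ (p ^ f) ^ 2 := Dvd.dvd.trans hpq (dvd_pow_self _ (by norm_num))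
    have h1le : 1 ≤ (p ^ f) ^ 2 := Nat.one_le_pow _ _ hqpos
    have h4 : p ∣ ((p ^ f) ^ 2 - 1) + 1 := by
      rw [Nat.sub_add_cancel h1le]; exact h3
    have h5 : p ∣ 1 := (Nat.dvd_add_right h2).1 h4
    exact hp.one_lt.ne' (Nat.dvd_one.1 h5)
  · have h3 : p ∣ (p ^ f) ^ 3 := Dvd.dvd.trans hpq (dvd_pow_self _ (by norm_num))
    have h5 : p ∣ 1 := (Nat.dvd_add_right h3).1 h2
    exact hp.one_lt.ne' (Nat.dvd_one.1 h5)

/-- NT9 -/
theorem nt_cases (p f r : ℕ) (hp : p.Prime) (hf : 1 ≤ f) (hr : r.Prime)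
    (h : r ∣ (p ^ f) ^ 3 * (((p ^ f) ^ 2 - 1) * ((p ^ f) ^ 3 + 1))) :
    r = p ∨ r ∣ p ^ f - 1 ∨ r ∣ p ^ f + 1 ∨ r ∣ (p ^ f) ^ 2 + 1 - p ^ f := by
  have hqpos : 0 < p ^ f := Nat.pos_of_ne_zero (pow_ne_zero _ hp.ne_zero)
  generalize hQ : p ^ f = q at *
  rcases (Nat.Prime.dvd_mul hr).1 h with h2 | h2
  · left
    have h3 := hr.dvd_of_dvd_pow h2
    rw [← hQ] at h3
    exact (Nat.prime_dvd_prime_iff_eq hr hp).1 (hr.dvd_of_dvd_pow h3)
  rcases (Nat.Prime.dvd_mul hr).1 h2 with h2 | h2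
  · obtain ⟨t, rfl⟩ : ∃ t, q = t + 1 := ⟨q - 1, by omega⟩
    have e1 : (t + 1) ^ 2 - 1 = (t + 1 - 1) * (t + 1 + 1) := by
      have h0 : (t + 1) ^ 2 = t * (t + 1 + 1) + 1 := by ring
      have h1 : t + 1 - 1 = t := by omega
      rw [h1, h0]
      omega
    rw [e1] at h2
    rcases (Nat.Prime.dvd_mul hr).1 h2 with h3 | h3
    · right; left; exact h3
    · right; right; left; exact h3
  · obtain ⟨t, rfl⟩ : ∃ t, q = t + 1 := ⟨q - 1, by omega⟩
    have e1 : (t + 1) ^ 3 + 1 = (t + 1 + 1) * ((t + 1) ^ 2 + 1 - (t + 1)) := by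
      have : (t + 1) ^ 2 + 1 - (t + 1) = t ^ 2 + t + 1 := by
        have : (t + 1) ^ 2 + 1 = t ^ 2 + t + 1 + (t + 1) := by ring
        omega
      rw [this]; ring
    rw [e1] at h2
    rcases (Nat.Prime.dvd_mul hr).1 h2 with h3 | h3
    · right; right; left; exact h3
    · right; right; right; exact h3

/-- `Dn q 3 * gcd 3 (q + 1) = q² + 1 - q` -/
theorem su3mnt_Dn (q : ℕ) :
    Cfsg.Agent.Lib.helper15.UNat.Dn q 3 * Nat.gcd 3 (q + 1) = q ^ 2 + 1 - q := by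
  have hN : q ^ 2 + 1 - q = q * q + 1 - q := by rw [sq]
  have hle : q ≤ q * q + 1 := by nlinarith
  have hg : Nat.gcd 3 (q + 1) ∣ q ^ 2 + 1 - q := by
    have hg3 : Nat.gcd 3 (q + 1) ∣ 3 := Nat.gcd_dvd_left _ _
    have hgq : Nat.gcd 3 (q + 1) ∣ q + 1 := Nat.gcd_dvd_right _ _
    -- q^2 + 1 - q + (q + 1) * 2 = (q + 1) * q + 3
    have e : q ^ 2 + 1 - q + (q + 1) * 2 = (q + 1) * q + 3 := by
      rw [hN]
      have : q * q + 1 - q + q = q * q + 1 := Nat.sub_add_cancel hle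
      nlinarith
    have h5 : Nat.gcd 3 (q + 1) ∣ q ^ 2 + 1 - q + (q + 1) * 2 := by
      rw [e]; exact dvd_add (Dvd.dvd.mul_right hgq _) hg3
    exact (Nat.dvd_add_left (Dvd.dvd.mul_right hgq _)).1 h5
  obtain ⟨c, hc⟩ := hg
  have hgpos : 0 < Nat.gcd 3 (q + 1) := Nat.gcd_pos_of_pos_left _ (by norm_num)
  have hQ : Cfsg.Agent.Lib.helper15.UNat.Qn q 3 = (q + 1) * (q ^ 2 + 1 - q) := by
    unfold Cfsg.Agent.Lib.helper15.UNat.Qn
    rw [if_neg (by decide)]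
    rw [hN]
    have : q * q + 1 - q + q = q * q + 1 := Nat.sub_add_cancel hle
    nlinarith
  unfold Cfsg.Agent.Lib.helper15.UNat.Dn
  rw [hQ, hc]
  have : (q + 1) * (Nat.gcd 3 (q + 1) * c) = c * ((q + 1) * Nat.gcd 3 (q + 1)) := by ring
  rw [this, Nat.mul_div_cancel _ (by positivity)]
  ring

/-- NT6 -/
theorem nt_singer (q r m n : ℕ) (hr : r.Prime) (hq : 2 ≤ q) (h : r ∣ q ^ 2 + 1 - q) (h1 : ¬ r ∣ q + 1)
    (hn : Cfsg.Agent.Lib.helper15.UNat.Dn q 3 ∣ n) (hm : m * n = q ^ 3 * ((q ^ 2 - 1) * (q ^ 3 + 1))) : ¬ r ∣ m := by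
  have hD := su3mnt_Dn q
  obtain ⟨t, rfl⟩ : ∃ t, q = t + 1 := ⟨q - 1, by omega⟩
  have eN : (t + 1) ^ 2 + 1 - (t + 1) = t ^ 2 + t + 1 := by
    have : (t + 1) ^ 2 + 1 = t ^ 2 + t + 1 + (t + 1) := by ring
    omega
  rw [eN] at h hD
  have e1 : (t + 1) ^ 2 - 1 = t * (t + 2) := by
    have : (t + 1) ^ 2 = t * (t + 2) + 1 := by ring
    omega
  have e2 : (t + 1) ^ 3 + 1 = (t + 2) * (t ^ 2 + t + 1) := by ring
  rw [e1, e2] at hm
  have e3 : t + 1 + 1 = t + 2 := by ring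
  rw [e3] at h1 hD
  obtain ⟨n', rfl⟩ := hn
  set D := Cfsg.Agent.Lib.helper15.UNat.Dn (t + 1) 3 with hDdef
  set g := Nat.gcd 3 (t + 2) with hgdef
  have hDpos : 0 < D := by
    rcases Nat.eq_zero_or_pos D with h0 | h0
    · rw [h0, zero_mul] at hD
      have : 0 < t ^ 2 + t + 1 := by positivity
      omega
    · exact h0
  have hm2 : m * n' = (t + 1) ^ 3 * (t * (t + 2) * ((t + 2) * g)) := by
    apply Nat.eq_of_mul_eq_mul_left hDpos
    calc D * (m * n') = m * (D * n') := by ring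
      _ = (t + 1) ^ 3 * (t * (t + 2) * ((t + 2) * (t ^ 2 + t + 1))) := hm
      _ = (t + 1) ^ 3 * (t * (t + 2) * ((t + 2) * (D * g))) := by rw [hD]
      _ = D * ((t + 1) ^ 3 * (t * (t + 2) * ((t + 2) * g))) := by ring
  intro hd
  have hd2 : r ∣ (t + 1) ^ 3 * (t * (t + 2) * ((t + 2) * g)) := by
    rw [← hm2]; exact Dvd.dvd.mul_right hd _
  have hr1 : ¬ r ∣ 1 := fun h5 => hr.one_lt.ne' (Nat.dvd_one.1 h5)
  rcases (Nat.Prime.dvd_mul hr).1 hd2 with h2 | h2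
  · have h3 := hr.dvd_of_dvd_pow h2
    -- t^2 + t + 1 = (t + 1) * t + 1
    have e4 : t ^ 2 + t + 1 = (t + 1) * t + 1 := by ring
    rw [e4] at h
    exact hr1 ((Nat.dvd_add_right (Dvd.dvd.mul_right h3 _)).1 h)
  rcases (Nat.Prime.dvd_mul hr).1 h2 with h2 | h2
  · rcases (Nat.Prime.dvd_mul hr).1 h2 with h3 | h3
    · have e4 : t ^ 2 + t + 1 = t * (t + 1) + 1 := by ring
      rw [e4] at h
      exact hr1 ((Nat.dvd_add_right (Dvd.dvd.mul_right h3 _)).1 h)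
    · exact h1 h3
  · rcases (Nat.Prime.dvd_mul hr).1 h2 with h3 | h3
    · exact h1 h3
    · exact h1 (Dvd.dvd.trans h3 (Nat.gcd_dvd_right _ _))

end Cfsg.Agent.Lib.Helper24.SU3M
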