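import Mathlib
import Cfsg.Agent.Lib.Helper24.SU3M.Defs
import Cfsg.Agent.Lib.helper7.U3PF7
import Cfsg.Agent.Lib.Helper25.SU3P.Basic
import Cfsg.Agent.Lib.Helper25.SU3P.Main
import Cfsg.Agent.Lib.helper15.UTorus
import Cfsg.Agent.Lib.Helper20.SU3MNT1

/-!
# Project SU3M, rows M1 M2 S1 S2 (VERBATIM from `Helper24/SU3M/Skel.lean.txt`): the cyclic subgroups.
-/

set_option autoImplicit false
set_option linter.unusedSectionVars false
set_option linter.unusedVariables false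

namespace Cfsg.Agent.Lib.Helper24.SU3M

open Cfsg.Agent.Lib.Helper19.U3P Cfsg.Agent.Lib.Helper25.SU3P Cfsg.Agent.Lib.helper14.SU3J Matrix Polynomial

universe u

section MS

variable {F : Type u} [Field F] [Fintype F] {K : Type u} [Field K] [Fintype K] {q : ℕ}

theorem su3mm1_dd_mul (σ : F →+* F) (a b : F) : dd σ a * dd σ b = dd σ (a * b) := by
  ext i j
  fin_cases i <;> fin_cases j <;>
    simp [dd, Matrix.mul_apply, Fin.sum_univ_three, mul_div_mul_comm, mul_comm]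

theorem su3mm1_dd_one (σ : F →+* F) : dd σ (1 : F) = 1 := by
  ext i j
  fin_cases i <;> fin_cases j <;> simp [dd]

theorem su3mm1_dd_pow (σ : F →+* F) (a : F) (k : ℕ) : (dd σ a) ^ k = dd σ (a ^ k) := by
  induction k with
  | zero => rw [pow_zero, pow_zero, su3mm1_dd_one]
  | succ k ih => rw [pow_succ, ih, su3mm1_dd_mul, pow_succ]

theorem su3mm1_dd_eq_one (σ : F →+* F) (a : F) (h : dd σ a = 1) : a = 1 := by
  have := congrFun (congrFun h 0) 0
  simpa [dd] using this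

theorem su3mm1_two_le (hF : Fintype.card F = q ^ 2) : 2 ≤ q := by
  have h1 : 1 < Fintype.card F := Fintype.one_lt_card
  rw [hF] at h1
  by_contra h
  have : q = 0 ∨ q = 1 := by omega
  rcases this with rfl | rfl <;> norm_num at h1

/-- M1 -/
theorem orderOf_hz (D : Par F K q) (hF : Fintype.card F = q ^ 2) {hz : ↥(Cfsg.SU 3 F q)} (hhz : D.c.cj hz = dd D.σ (D.ζ : F)) :
    orderOf hz = q ^ 2 - 1 := by
  have key : ∀ k : ℕ, hz ^ k = 1 ↔ (D.ζ : Fˣ) ^ k = 1 := by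
    intro k
    constructor
    · intro h
      have h1 : D.c.cj (hz ^ k) = 1 := by rw [h, D.c.cj_one]
      rw [D.c.cj_pow, hhz, su3mm1_dd_pow] at h1
      have h2 := su3mm1_dd_eq_one _ _ h1
      apply Units.ext
      rw [Units.val_pow_eq_pow_val, h2, Units.val_one]
    · intro h
      apply D.c.cj_eq_one
      rw [D.c.cj_pow, hhz, su3mm1_dd_pow, ← Units.val_pow_eq_pow_val, h, Units.val_one, su3mm1_dd_one]
  rw [← u3pf7_order_zeta D hF]
  apply Nat.dvd_antisymm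
  · exact orderOf_dvd_of_pow_eq_one ((key _).2 (pow_orderOf_eq_one _))
  · exact orderOf_dvd_of_pow_eq_one ((key _).1 (pow_orderOf_eq_one _))

/-- M2 -/
theorem minus_index (D : Par F K q) (hF : Fintype.card F = q ^ 2) {hz : ↥(Cfsg.SU 3 F q)} (hhz : D.c.cj hz = dd D.σ (D.ζ : F))
    (r : ℕ) (hr : r.Prime) (hr2 : r ≠ 2) (h : r ∣ q - 1) : ¬ r ∣ (Subgroup.zpowers hz).index := by
  have hq2 := su3mm1_two_le hF
  have h1 := Subgroup.index_mul_card (Subgroup.zpowers hz)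
  rw [Nat.card_zpowers, orderOf_hz D hF hhz, card_SU3 hF] at h1
  have hpos : 0 < q ^ 2 - 1 := by
    have : 4 ≤ q ^ 2 := by nlinarith
    omega
  have h2 : (Subgroup.zpowers hz).index = q ^ 3 * (q ^ 3 + 1) := by
    apply Nat.eq_of_mul_eq_mul_right hpos
    rw [h1]; ring
  rw [h2]
  exact nt_minus q r hr hr2 hq2 h

/-- S1 -/
theorem exists_singer (hF : Fintype.card F = q ^ 2) :
    ∃ g : ↥(Cfsg.SU 3 F q), Cfsg.Agent.Lib.helper15.UNat.Dn q 3 ∣ orderOf g := by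
  obtain ⟨n, hp, hcard⟩ := FiniteField.card F (ringChar F)
  have : Fact (ringChar F).Prime := ⟨hp⟩
  rw [hF] at hcard
  have hdvd : q ∣ (ringChar F) ^ (n : ℕ) := by
    rw [← hcard]; exact dvd_pow_self q (by norm_num)
  obtain ⟨a, -, ha⟩ := (Nat.dvd_prime_pow hp).1 hdvd
  obtain ⟨g₀, hg₀⟩ := Cfsg.Agent.Lib.helper15.UTorus.exists_torus_u (K := F) (n := 3) (q := q) (ringChar F) a ha hF (by norm_num)
  obtain ⟨g, rfl⟩ := QuotientGroup.mk_surjective g₀
  refine ⟨g, ?_⟩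
  rw [← hg₀]
  exact orderOf_map_dvd (QuotientGroup.mk' (Subgroup.center ↥(Cfsg.SU 3 F q))) g

/-- S2 -/
theorem singer_index (hF : Fintype.card F = q ^ 2) (g : ↥(Cfsg.SU 3 F q)) (hg : Cfsg.Agent.Lib.helper15.UNat.Dn q 3 ∣ orderOf g)
    (r : ℕ) (hr : r.Prime) (h : r ∣ q ^ 2 + 1 - q) (h1 : ¬ r ∣ q + 1) : ¬ r ∣ (Subgroup.zpowers g).index := by
  have hq2 := su3mm1_two_le hF
  have h2 := Subgroup.index_mul_card (Subgroup.zpowers g)
  rw [Nat.card_zpowers, card_SU3 hF] at h2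
  exact nt_singer q r _ _ hr hq2 h h1 hg h2

end MS

end Cfsg.Agent.Lib.Helper24.SU3M
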