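import Mathlib
import Cfsg.Agent.Lib.Helper24.SU3M.Defs
import Cfsg.Agent.Lib.helper7.U3PF7
import Cfsg.Agent.Lib.Helper18.U3PF6
import Cfsg.Agent.Lib.Helper20.SU3MNT1

/-!
# Project SU3M, rows FL3 FL4 FL5 (VERBATIM from `Helper24/SU3M/Skel.lean.txt`): the facts on `al`, `bl` for `q ≥ 3`.
-/

set_option autoImplicit false
set_option linter.unusedSectionVars false
set_option linter.unusedVariables false

namespace Cfsg.Agent.Lib.Helper24.SU3M

open Cfsg.Agent.Lib.Helper19.U3P Cfsg.Agent.Lib.Helper25.SU3P Cfsg.Agent.Lib.helper14.SU3J Matrix Polynomial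

universe u

section FL

variable {F : Type u} [Field F]

variable [Fintype F] {K : Type u} [Field K] [Fintype K] {q : ℕ}

/-- `al ^ e = 1` forces `q² - 1 ∣ (q - 2) * e` -/
theorem su3mfl3_al_pow (D : Par F K q) (hF : Fintype.card F = q ^ 2) (hq : 3 ≤ q) (e : ℕ)
    (h : D.al ^ e = 1) : (q ^ 2 - 1) ∣ (q - 2) * e := by
  rw [u3pf7_al_eq, ← Units.val_pow_eq_pow_val, Units.val_eq_one, u3pf7_alU, ← zpow_natCast, ← _root_.zpow_mul] at h
  have h1 := (orderOf_dvd_iff_zpow_eq_one).2 h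
  rw [u3pf7_order_zeta D hF] at h1
  have e1 : ((2 : ℤ) - (q : ℤ)) * (e : ℤ) = -(((q - 2) * e : ℕ) : ℤ) := by
    have : ((q - 2 : ℕ) : ℤ) = (q : ℤ) - 2 := by omega
    push_cast [this]; ring
  rw [e1, dvd_neg] at h1
  exact Int.natCast_dvd_natCast.1 h1

/-- `bl ^ e = 1` forces `q² - 1 ∣ (q + 1) * e` -/
theorem su3mfl3_bl_pow (D : Par F K q) (hF : Fintype.card F = q ^ 2) (e : ℕ)
    (h : D.bl ^ e = 1) : (q ^ 2 - 1) ∣ (q + 1) * e := by
  rw [u3pf7_bl_eq, ← Units.val_pow_eq_pow_val, Units.val_eq_one, ← pow_mul] at h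
  have h1 := orderOf_dvd_of_pow_eq_one h
  rwa [u3pf7_order_zeta D hF] at h1

/-- FL3 -/
theorem al_facts (D : Par F K q) (hF : Fintype.card F = q ^ 2) (hq : 3 ≤ q) :
    D.al ≠ 0 ∧ D.al ≠ 1 ∧ D.al ^ (q - 1) ≠ 1 ∧ D.bl ≠ 0 ∧ D.bl ≠ 1 ∧ D.bl ^ (q - 1) = 1 ∧ D.σ D.bl = D.bl := by
  have hal0 : D.al ≠ 0 := by rw [u3pf7_al_eq]; exact Units.ne_zero _
  have hbl0 : D.bl ≠ 0 := by rw [u3pf7_bl_eq]; exact Units.ne_zero _
  have halq : D.al ^ (q - 1) ≠ 1 := fun h => nt_al_q q hq (su3mfl3_al_pow D hF hq _ h)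
  have hmul : (q + 1) * (q - 1) = q ^ 2 - 1 := by
    obtain ⟨r, rfl⟩ : ∃ r, q = r + 1 := ⟨q - 1, by omega⟩
    simp only [Nat.add_sub_cancel]
    have : (r + 1) ^ 2 = (r + 1 + 1) * r + 1 := by ring
    omega
  have hblq : D.bl ^ (q - 1) = 1 := by
    rw [u3pf7_bl_eq, ← Units.val_pow_eq_pow_val, ← pow_mul, hmul, u3pf7_zeta_pow D hF, Units.val_one]
  refine ⟨hal0, ?_, halq, hbl0, ?_, hblq, ?_⟩
  · intro h
    exact halq (by rw [h, one_pow])
  · intro h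
    have h1 := su3mfl3_bl_pow D hF 1 (by rw [h, one_pow])
    rw [mul_one, ← hmul] at h1
    have h2 := Nat.le_of_dvd (by omega) h1
    have : (q + 1) * 2 ≤ (q + 1) * (q - 1) := Nat.mul_le_mul_left _ (by omega)
    omega
  · rw [D.hσ]
    have h1 : D.bl ^ q = D.bl ^ (q - 1) * D.bl := by
      rw [← pow_succ]; congr 1; omega
    rw [h1, hblq, one_mul]

/-- `q = p ^ f`, `finrank = 2 f` -/
theorem su3mfl3_q (p : ℕ) [Fact p.Prime] [Algebra (ZMod p) F] (hF : Fintype.card F = q ^ 2) :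
    ∃ f : ℕ, q = p ^ f ∧ Module.finrank (ZMod p) F = 2 * f := by
  have hp : p.Prime := Fact.out
  have hcard : Fintype.card F = p ^ Module.finrank (ZMod p) F := by
    rw [Module.card_eq_pow_finrank (K := ZMod p) (V := F), ZMod.card]
  rw [hF] at hcard
  have hdvd : q ∣ p ^ Module.finrank (ZMod p) F := by
    rw [← hcard]; exact dvd_pow_self q (by norm_num)
  obtain ⟨f, -, hf⟩ := (Nat.dvd_prime_pow hp).1 hdvd
  refine ⟨f, hf, ?_⟩
  rw [hf, ← pow_mul] at hcard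
  have := Nat.pow_right_injective hp.two_le hcard
  omega

/-- FL4 -/
theorem al_aeval_surj (p : ℕ) [Fact p.Prime] [Algebra (ZMod p) F] (D : Par F K q) (hF : Fintype.card F = q ^ 2) (hq : 3 ≤ q) :
    Function.Surjective (fun f : (ZMod p)[X] => aeval D.al f) := by
  have hp : p.Prime := Fact.out
  obtain ⟨f, hqf, hfin⟩ := su3mfl3_q (F := F) (q := q) p hF
  apply aeval_surj_of_pow_ne
  intro s hs hs' h
  rw [hfin] at hs'
  have hal0 : D.al ≠ 0 := (al_facts D hF hq).1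
  have hps : 1 ≤ p ^ s := Nat.one_le_pow _ _ hp.pos
  have h1 : D.al ^ (p ^ s - 1) = 1 := by
    have h2 : D.al ^ (p ^ s - 1) * D.al = D.al := by
      rw [← pow_succ, Nat.sub_add_cancel hps, h]
    exact mul_right_cancel₀ hal0 (by rw [h2, one_mul])
  have h3 := su3mfl3_al_pow D hF hq _ h1
  subst hqf
  exact nt_al_frob p f s hp hq hs hs' h3

/-- FL5 -/
theorem al_pow_ne (p : ℕ) [Fact p.Prime] [Algebra (ZMod p) F] (D : Par F K q) (hF : Fintype.card F = q ^ 2) (hq : 3 ≤ q) :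
    ∀ k : ℕ, k < Module.finrank (ZMod p) F → D.al ^ (p ^ k + 1) ≠ 1 := by
  have hp : p.Prime := Fact.out
  obtain ⟨f, hqf, hfin⟩ := su3mfl3_q (F := F) (q := q) p hF
  intro k hk h
  rw [hfin] at hk
  have h3 := su3mfl3_al_pow D hF hq _ h
  subst hqf
  exact nt_al_inv p f k hp hq hk h3

end FL

end Cfsg.Agent.Lib.Helper24.SU3M
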