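import Mathlib
import Cfsg.Agent.Lib.Helper13.O459.Defs
import Cfsg.Agent.Lib.Helper25.CharLinear

/-!
# Project O459, piece NUM: pure arithmetic.
-/

set_option autoImplicit false
set_option linter.unusedVariables false
set_option linter.unusedSectionVars false

namespace Cfsg.Agent.Lib.Helper13.O459

open Classical
open Cfsg.Agent.Lib.helper7.BR Cfsg.Agent.Lib.Helper25

universe u

variable {G : Type u} [Group G] [Fintype G]

/-- the arithmetic with the cofactor `c = q w`. -/
theorem o459num_aux (c n : ℕ) (hn : 1 ≤ n) (h : 24192 = c * (1 + n * 19)) :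
    (n = 5 ∧ c = 252) ∨ (n = 53 ∧ c = 24) := by
  rcases le_or_gt c 155 with hc | hc
  · interval_cases c <;> omega
  · have hd : 1 + n * 19 ≤ 155 := by
      by_contra hcon
      push Not at hcon
      have h1 : 156 * 156 ≤ c * (1 + n * 19) := Nat.mul_le_mul hc hcon
      omega
    have hn8 : n ≤ 8 := by omega
    interval_cases n <;> omega

/-- NUM [S]: pure arithmetic.  `459648 = 19 q w (1 + 19 n)`, `q ∣ 18`, `n ≥ 1`: `1 + 19 n ∣ 24192 = 2^7 3^3 7` forces `1 + 19 n ∈ {96, 1008}`. -/
theorem num (q w n : ℕ) (hq : q ∣ 18) (hn : 1 ≤ n) (h : 459648 = 19 * q * w * (1 + n * 19)) :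
    (n = 5 ∧ q * w = 252) ∨ (n = 53 ∧ q * w = 24) := by
  apply o459num_aux (q * w) n hn
  have h1 : 19 * 24192 = 19 * (q * w * (1 + n * 19)) := by
    rw [← mul_assoc, ← mul_assoc, ← h]
  exact Nat.eq_of_mul_eq_mul_left (by norm_num) h1

end Cfsg.Agent.Lib.Helper13.O459
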