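import Mathlib
import Cfsg.Agent.Lib.Helper13.OTS.Defs

set_option autoImplicit false
set_option linter.unusedVariables false

/-!
# OTS row ARITHN (`q_arith_nec`): the arithmetic of the necessity direction.
-/

namespace Cfsg.Agent.Lib.Helper13.OTS

theorem otsarithn_mod (a k i : ℕ) (h : a < i) : (a + k * i) % i = a := by
  rw [Nat.add_mul_mod_self_right, Nat.mod_eq_of_lt h]

theorem otsarithn_div (a k i : ℕ) (h : a < i) : (a + k * i) / i = k := by
  have hi : 0 < i := by omega
  rw [Nat.add_mul_div_right _ _ hi, Nat.div_eq_of_lt h, zero_add]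

/-- no `HJi` witness: `d = ρ' + u * i` (`i = h + h`), `j + 1 ≤ ρ'` -/
theorem otsarithn_nohj (i h u ρ' d j : ℕ) (ε : ℤ) (hi2 : i = h + h) (hh : 1 ≤ h)
    (hd : d = ρ' + u * i) (hρ : ρ' < i) (hj : j + 1 ≤ ρ')
    (h1 : ε = 1 → ρ' - 1 - j ≠ h) (h2 : ε = -1 → ρ' - j ≠ h ∧ j + 1 ≠ ρ')
    (hjc : (ε = 1 ∧ (i ∣ d - j ∨ (Even i ∧ (d - 1 - j) % i = i / 2))) ∨
      (ε = -1 ∧ ((Even i ∧ (d - j) % i = i / 2) ∨ i ∣ d - 1 - j))) : False := by
  have e1 : (d - j) % i = ρ' - j := by
    have : d - j = (ρ' - j) + u * i := by omega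
    rw [this]; exact otsarithn_mod _ _ _ (by omega)
  have e2 : (d - 1 - j) % i = ρ' - 1 - j := by
    have : d - 1 - j = (ρ' - 1 - j) + u * i := by omega
    rw [this]; exact otsarithn_mod _ _ _ (by omega)
  have e3 : i / 2 = h := by omega
  rcases hjc with ⟨he, hd1 | ⟨_, hd2⟩⟩ | ⟨he, ⟨_, hd1⟩ | hd2⟩
  · rw [Nat.dvd_iff_mod_eq_zero, e1] at hd1; omega
  · rw [e2, e3] at hd2; exact h1 he hd2
  · rw [e1, e3] at hd1; exact (h2 he).1 hd1
  · rw [Nat.dvd_iff_mod_eq_zero, e2] at hd2; have := (h2 he).2; omega

set_option maxHeartbeats 1000000 in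
/-- the even case -/
theorem otsarithn_even (i d m t : ℕ) (ε : ℤ) (hi : 1 ≤ i) (hev : Even i)
    (hε : ε = 1 ∨ ε = -1) (hm1 : 1 ≤ m) (hm : m + 1 ≤ d) (hj : HJi i d m ε)
    (hmax : ∃ w1 s : ℕ, m = w1 + s * i ∧ 2 * (s * i) ≤ 2 * d - FMin i i d ε ∧
      (2 * w1 : ℤ) + (1 - ε * SCy i (2 * d - FMin i i d ε)) ≤ FMin i i d ε)
    (hdist : (2 * m : ℤ) + (1 - ε * SCy i (i * min t ((2 * d - FMin i i d ε) / i))) ≤
        2 * d - i * min t ((2 * d - FMin i i d ε) / i)) :
    TSC i i d m t ε := by
  obtain ⟨w1, s, hm_eq, hs_le, hw1⟩ := hmax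
  obtain ⟨j, hjm, hjc⟩ := hj
  obtain ⟨h, hh⟩ := hev
  have hev : Even i := ⟨h, hh⟩
  have hnodd : ¬ Odd i := Nat.not_odd_iff_even.mpr hev
  have hh1 : 1 ≤ h := by omega
  obtain ⟨R, hRdef⟩ : ∃ R, R = (2 * d) % i := ⟨_, rfl⟩
  obtain ⟨Qn, hQdef⟩ : ∃ Qn, Qn = (2 * d) / i := ⟨_, rfl⟩
  have hR : R < i := by rw [hRdef]; exact Nat.mod_lt _ (by omega)
  have hdiv : i * Qn + R = 2 * d := by rw [hRdef, hQdef]; exact Nat.div_add_mod _ _
  have hS : ∀ g, SCy i g = if Even (g / i) then 1 else -1 := by
    intro g; unfold SCy; simp only [hnodd, false_or]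
  have hSb : ∀ b, SCy i (i * b) = if Even b then 1 else -1 := by
    intro b; rw [hS, Nat.mul_div_cancel_left _ (by omega : 0 < i)]
  have hF : FMin i i d ε = if R = 0 ∧ ¬ (ε = 1 ↔ Even Qn) then i else R := by
    unfold FMin; rw [← hRdef, ← hQdef]; simp only [hnodd, false_or]
  have hsi : s = 0 ∨ i ≤ s * i := by
    rcases Nat.eq_zero_or_pos s with h0 | h0
    · exact Or.inl h0
    · exact Or.inr (Nat.le_mul_of_pos_left i h0)
  obtain ⟨ρ, hρ⟩ : ∃ ρ, R = 2 * ρ := by
    have : i * Qn = 2 * (h * Qn) := by rw [hh]; ring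
    exact ⟨R / 2, by omega⟩
  have hdpar : (∀ u, Qn = 2 * u → d = ρ + u * i) ∧ (∀ u, Qn = 2 * u + 1 → d = (h + ρ) + u * i) := by
    constructor
    · intro u hu
      have : i * Qn = 2 * (u * i) := by rw [hu]; ring
      omega
    · intro u hu
      have : i * Qn = 2 * (u * i) + i := by rw [hu]; ring
      omega
  have hmZ : (m : ℤ) = w1 + s * i := by exact_mod_cast hm_eq
  have hRZ : (R : ℤ) < i := by exact_mod_cast hR
  rw [hF] at hw1 hs_le hdist
  by_cases hE1 : R = 0 ∧ ¬ (ε = 1 ↔ Even Qn)
  · -- E1
    obtain ⟨hR0, hnty⟩ := hE1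
    rw [if_pos ⟨hR0, hnty⟩] at hw1 hs_le hdist
    have hQ1 : 1 ≤ Qn := by
      rcases Nat.eq_zero_or_pos Qn with h0 | h0
      · rw [h0, Nat.mul_zero] at hdiv; omega
      · exact h0
    obtain ⟨q', rfl⟩ : ∃ q', Qn = q' + 1 := ⟨Qn - 1, by omega⟩
    have h2di : 2 * d - i = 0 + q' * i := by
      have : i * (q' + 1) = q' * i + i := by ring
      omega
    have hdivq : (2 * d - i) / i = q' := by rw [h2di]; exact otsarithn_div _ _ _ (by omega)
    have hty' : (ε = 1 ↔ Odd (q' + 1)) := by
      rw [← Nat.not_even_iff_odd]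
      constructor
      · intro he hq; exact hnty ⟨fun _ => hq, fun _ => he⟩
      · intro hq
        by_contra he
        exact hnty ⟨fun h => absurd h he, fun h => absurd h hq⟩
    have hprod : ε * SCy i (2 * d - i) = 1 := by
      rw [hS, hdivq]
      rcases hε with rfl | rfl
      · have : ¬ Even (q' + 1) := Nat.not_even_iff_odd.mpr (hty'.mp rfl)
        rw [Nat.even_add_one, not_not] at this
        rw [if_pos this]; norm_num
      · have : Even (q' + 1) := by
          by_contra hq
          have := hty'.mpr (Nat.not_even_iff_odd.mp hq)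
          omega
        rw [Nat.even_add_one] at this
        rw [if_neg this]; norm_num
    rw [hprod] at hw1
    have hw1' : 2 * w1 ≤ i := by
      have : (2 * w1 : ℤ) ≤ i := by linarith
      exact_mod_cast this
    have hw1i : w1 < i := by omega
    have hmod : m % i = w1 := by rw [hm_eq]; exact otsarithn_mod _ _ _ hw1i
    have hmdiv : m / i = s := by rw [hm_eq]; exact otsarithn_div _ _ _ hw1i
    have hs2 : 2 * s ≤ q' := by
      rw [h2di] at hs_le
      have : (2 * s) * i ≤ q' * i := by
        have : (2 * s) * i = 2 * (s * i) := by ring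
        omega
      exact Nat.le_of_mul_le_mul_right this (by omega)
    have hs1 : i ≤ m := by
      by_contra hlt
      have hs0 : s = 0 := by
        rcases hsi with h0 | h0
        · exact h0
        · omega
      subst hs0
      rcases Nat.even_or_odd' (q' + 1) with ⟨u, hu | hu⟩
      · have hem : ε = -1 := by
          rcases hε with he | he
          · exfalso
            have := hty'.mp he
            rw [hu] at this
            exact (Nat.not_odd_iff_even.mpr (even_two_mul u)) this
          · exact he
        have hd := hdpar.1 u hu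
        have hu1 : 1 ≤ u := by omega
        obtain ⟨u', rfl⟩ : ∃ u', u = u' + 1 := ⟨u - 1, by omega⟩
        have hd' : d = i + u' * i := by
          have : (u' + 1) * i = u' * i + i := by ring
          omega
        rcases hjc with ⟨he, _⟩ | ⟨_, ⟨_, hd1⟩ | hd2⟩
        · omega
        · rcases Nat.eq_zero_or_pos j with hj0 | hj0
          · subst hj0
            have : d - 0 = 0 + (u' + 1) * i := by omega
            rw [this, otsarithn_mod _ _ _ (by omega)] at hd1
            omega
          · have : d - j = (i - j) + u' * i := by omega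
            rw [this, otsarithn_mod _ _ _ (by omega)] at hd1
            omega
        · have : d - 1 - j = (i - 1 - j) + u' * i := by omega
          rw [Nat.dvd_iff_mod_eq_zero, this, otsarithn_mod _ _ _ (by omega)] at hd2
          omega
      · have he1 : ε = 1 := hty'.mpr ⟨u, by omega⟩
        have hd := hdpar.2 u hu
        exact otsarithn_nohj i h u (h + ρ) d j ε hh hh1 hd (by omega) (by omega)
          (fun _ => by omega) (fun he => by omega) hjc
    rw [hdivq, hSb] at hdist
    have hlt : t + 2 * s < q' + 1 := by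
      by_contra hge
      push Not at hge
      have hs1' : i ≤ s * i := by
        rcases hsi with h0 | h0
        · subst h0; omega
        · exact h0
      have hs1Z : (i : ℤ) ≤ s * i := by exact_mod_cast hs1'
      have h2d : (2 * d : ℤ) = i * (q' + 1) := by
        have : i * (q' + 1) = 2 * d := by omega
        exact_mod_cast this.symm
      have hδ : (0:ℤ) ≤ 1 - ε * (if Even (min t q') then 1 else -1) := by
        rcases hε with rfl | rfl <;> split_ifs <;> norm_num
      rcases le_or_gt q' t with htq | htq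
      · rw [min_eq_right htq] at hdist hδ
        nlinarith
      · rw [min_eq_left htq.le] at hdist hδ
        rcases Nat.lt_or_ge (q' + 1) (t + 2 * s) with hgt | hle
        · have : (i:ℤ) * (q' + 2) ≤ i * (t + 2 * s) := by
            have := Nat.mul_le_mul_left i (show q' + 2 ≤ t + 2 * s by omega)
            exact_mod_cast this
          nlinarith
        · have heq : q' + 1 = t + 2 * s := by omega
          have hpar : (ε = 1 ↔ Odd t) := by
            rw [hty', heq, Nat.odd_add]
            simp
          have hδ2 : ε * (if Even t then 1 else -1) = -1 := by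
            rcases hε with rfl | rfl
            · have : ¬ Even t := Nat.not_even_iff_odd.mpr (hpar.mp rfl)
              rw [if_neg this]; norm_num
            · have : Even t := by
                by_contra hq
                have := hpar.mpr (Nat.not_even_iff_odd.mp hq)
                omega
              rw [if_pos this]; norm_num
          rw [hδ2] at hdist
          have : (i:ℤ) * (q' + 1) = i * (t + 2 * s) := by
            rw [show ((q':ℤ) + 1) = t + 2 * s by exact_mod_cast heq]
          nlinarith
    refine ⟨hs1, Or.inr ⟨hev, ?_, Or.inl ⟨?_, ?_, ?_, ?_⟩⟩⟩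
    · rw [hmdiv, ← hQdef]; omega
    · rw [hmod]; exact hw1'
    · rw [← hRdef]; exact hR0
    · rw [← hQdef]; exact hty'
    · rw [hmdiv, ← hQdef]; exact hlt
  · -- E2
    rw [if_neg hE1] at hw1 hs_le hdist
    have h2dR : 2 * d - R = 0 + Qn * i := by
      have : i * Qn = Qn * i := by ring
      omega
    have hdivq : (2 * d - R) / i = Qn := by rw [h2dR]; exact otsarithn_div _ _ _ (by omega)
    rw [hdivq, hSb] at hdist
    rw [hS, hdivq] at hw1
    have hs2 : 2 * s ≤ Qn := by
      rw [h2dR] at hs_le
      have : (2 * s) * i ≤ Qn * i := by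
        have : (2 * s) * i = 2 * (s * i) := by ring
        omega
      exact Nat.le_of_mul_le_mul_right this (by omega)
    have hle : i ≤ s * i → t + 2 * s ≤ Qn := by
      intro hs1
      by_contra hgt
      push Not at hgt
      have h2d : (2 * d : ℤ) = i * Qn + R := by exact_mod_cast hdiv.symm
      have hδ : (0:ℤ) ≤ 1 - ε * (if Even (min t Qn) then 1 else -1) := by
        rcases hε with rfl | rfl <;> split_ifs <;> norm_num
      have hs1Z : (i : ℤ) ≤ s * i := by exact_mod_cast hs1
      rcases le_or_gt Qn t with htq | htq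
      · rw [min_eq_right htq] at hdist hδ
        nlinarith
      · rw [min_eq_left htq.le] at hdist hδ
        have : (i:ℤ) * (Qn + 1) ≤ i * (t + 2 * s) := by
          have := Nat.mul_le_mul_left i (show Qn + 1 ≤ t + 2 * s by omega)
          exact_mod_cast this
        nlinarith
    by_cases hty : (ε = 1 ↔ Even Qn)
    · have hprod : ε * (if Even Qn then 1 else -1) = 1 := by
        rcases hε with rfl | rfl
        · rw [if_pos (hty.mp rfl)]; norm_num
        · have : ¬ Even Qn := fun hq => by
            have := hty.mpr hq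
            omega
          rw [if_neg this]; norm_num
      rw [hprod] at hw1
      have hw1' : 2 * w1 ≤ R := by
        have : (2 * w1 : ℤ) ≤ R := by linarith
        exact_mod_cast this
      have hw1i : w1 < i := by omega
      have hmod : m % i = w1 := by rw [hm_eq]; exact otsarithn_mod _ _ _ hw1i
      have hmdiv : m / i = s := by rw [hm_eq]; exact otsarithn_div _ _ _ hw1i
      have hs1 : i ≤ m := by
        by_contra hlt
        have hs0 : s = 0 := by
          rcases hsi with h0 | h0
          · exact h0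
          · omega
        subst hs0
        rcases Nat.even_or_odd' Qn with ⟨u, hu | hu⟩
        · have he1 : ε = 1 := hty.mpr ⟨u, by omega⟩
          exact otsarithn_nohj i h u ρ d j ε hh hh1 (hdpar.1 u hu) (by omega) (by omega)
            (fun _ => by omega) (fun he => by omega) hjc
        · have hem : ε = -1 := by
            rcases hε with he | he
            · exfalso
              have := hty.mp he
              rw [hu] at this
              exact Nat.not_even_two_mul_add_one u this
            · exact he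
          exact otsarithn_nohj i h u (h + ρ) d j ε hh hh1 (hdpar.2 u hu) (by omega) (by omega)
            (fun he => by omega) (fun _ => ⟨by omega, by omega⟩) hjc
      have hs1' : i ≤ s * i := by
        rcases hsi with h0 | h0
        · subst h0; omega
        · exact h0
      refine ⟨hs1, Or.inr ⟨hev, ?_, Or.inr (Or.inl ⟨?_, ?_⟩)⟩⟩
      · rw [hmdiv, ← hQdef]; exact hle hs1'
      · rw [hmod, ← hRdef]; exact hw1'
      · rw [← hQdef]; exact hty
    · have hR0 : R ≠ 0 := fun h0 => hE1 ⟨h0, hty⟩
      have hty' : (ε = 1 ↔ Odd Qn) := by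
        rw [← Nat.not_even_iff_odd]
        constructor
        · intro he hq; exact hty ⟨fun _ => hq, fun _ => he⟩
        · intro hq
          by_contra he
          exact hty ⟨fun h => absurd h he, fun h => absurd h hq⟩
      have hprod : ε * (if Even Qn then 1 else -1) = -1 := by
        rcases hε with rfl | rfl
        · have : ¬ Even Qn := Nat.not_even_iff_odd.mpr (hty'.mp rfl)
          rw [if_neg this]; norm_num
        · have : Even Qn := by
            by_contra hq
            have := hty'.mpr (Nat.not_even_iff_odd.mp hq)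
            omega
          rw [if_pos this]; norm_num
      rw [hprod] at hw1
      have hw1' : 2 * w1 + 2 ≤ R := by
        have : (2 * w1 : ℤ) + 2 ≤ R := by linarith
        exact_mod_cast this
      have hw1i : w1 < i := by omega
      have hmod : m % i = w1 := by rw [hm_eq]; exact otsarithn_mod _ _ _ hw1i
      have hmdiv : m / i = s := by rw [hm_eq]; exact otsarithn_div _ _ _ hw1i
      have hs1 : i ≤ m := by
        by_contra hlt
        have hs0 : s = 0 := by
          rcases hsi with h0 | h0
          · exact h0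
          · omega
        subst hs0
        rcases Nat.even_or_odd' Qn with ⟨u, hu | hu⟩
        · have hem : ε = -1 := by
            rcases hε with he | he
            · exfalso
              have := hty'.mp he
              rw [hu] at this
              exact (Nat.not_odd_iff_even.mpr (even_two_mul u)) this
            · exact he
          exact otsarithn_nohj i h u ρ d j ε hh hh1 (hdpar.1 u hu) (by omega) (by omega)
            (fun he => by omega) (fun _ => ⟨by omega, by omega⟩) hjc
        · have he1 : ε = 1 := hty'.mpr ⟨u, by omega⟩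
          exact otsarithn_nohj i h u (h + ρ) d j ε hh hh1 (hdpar.2 u hu) (by omega) (by omega)
            (fun _ => by omega) (fun he => by omega) hjc
      have hs1' : i ≤ s * i := by
        rcases hsi with h0 | h0
        · subst h0; omega
        · exact h0
      refine ⟨hs1, Or.inr ⟨hev, ?_, Or.inr (Or.inr ⟨?_, ?_⟩)⟩⟩
      · rw [hmdiv, ← hQdef]; exact hle hs1'
      · rw [hmod, ← hRdef]; omega
      · rw [← hQdef]; exact hty'

/-- the odd case -/
theorem otsarithn_odd (i d m t : ℕ) (ε : ℤ) (hi : 1 ≤ i) (hodd : Odd i)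
    (hε : ε = 1 ∨ ε = -1) (hm1 : 1 ≤ m) (hm : m + 1 ≤ d) (hj : HJi i d m ε)
    (hmax : ∃ w1 s : ℕ, m = w1 + s * i ∧ 2 * (s * i) ≤ 2 * d - FMin i (2 * i) d ε ∧
      (2 * w1 : ℤ) + (1 - ε * SCy i (2 * d - FMin i (2 * i) d ε)) ≤ FMin i (2 * i) d ε) :
    TSC i (2 * i) d m t ε := by
  obtain ⟨w1, s, hm_eq, hs_le, hw1⟩ := hmax
  obtain ⟨j, hjm, hjc⟩ := hj
  have hne : ¬ Even i := Nat.not_even_iff_odd.mpr hodd
  have hS : ∀ g, SCy i g = 1 := by
    intro g
    unfold SCy
    rw [if_pos (Or.inl hodd)]
  rw [hS] at hw1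
  obtain ⟨R, hRdef⟩ : ∃ R, R = (2 * d) % (2 * i) := ⟨_, rfl⟩
  have hR : R < 2 * i := by rw [hRdef]; exact Nat.mod_lt _ (by omega)
  -- key: if `d - a = i * k` with `2 * a < 2 * i` and `a ≤ d` then `R = 2 * a`
  have key : ∀ a k : ℕ, a ≤ d → d - a = i * k → 2 * a < 2 * i → R = 2 * a := by
    intro a k had hk ha
    have h1 : 2 * d = 2 * a + k * (2 * i) := by
      have : k * (2 * i) = 2 * (i * k) := by ring
      omega
    rw [hRdef, h1]
    exact otsarithn_mod _ _ _ ha
  have hsi : s = 0 ∨ i ≤ s * i := by
    rcases Nat.eq_zero_or_pos s with h | h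
    · exact Or.inl h
    · exact Or.inr (Nat.le_mul_of_pos_left i h)
  rcases hε with rfl | rfl
  · -- ε = 1
    have hf : FMin i (2 * i) d 1 = R := by
      unfold FMin
      rw [if_neg, hRdef]
      rintro ⟨_, h⟩
      exact h ⟨fun _ => Or.inl hodd, fun _ => rfl⟩
    rw [hf] at hw1 hs_le
    have hw1' : 2 * w1 ≤ R := by
      have : (2 * w1 : ℤ) ≤ R := by linarith
      exact_mod_cast this
    have hw1i : w1 < i := by omega
    have hmod : m % i = w1 := by rw [hm_eq]; exact otsarithn_mod _ _ _ hw1i
    refine ⟨?_, Or.inl ⟨hodd, Or.inl ⟨rfl, ?_⟩⟩⟩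
    · by_contra hlt
      have hs0 : s = 0 := by
        rcases hsi with h | h
        · exact h
        · omega
      subst hs0
      rcases hjc with ⟨_, h | ⟨h, _⟩⟩ | ⟨h, _⟩
      · obtain ⟨k, hk⟩ := h
        have := key j k (by omega) hk (by omega)
        omega
      · exact hne h
      · omega
    · rw [hmod, ← hRdef]; exact hw1'
  · -- ε = -1
    have hf : FMin i (2 * i) d (-1) = if R = 0 then 2 * i else R := by
      unfold FMin
      rw [← hRdef]
      by_cases hR0 : R = 0
      · rw [if_pos hR0, if_pos]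
        refine ⟨hR0, ?_⟩
        intro h
        have := h.mpr (Or.inl hodd)
        omega
      · rw [if_neg hR0, if_neg]
        rintro ⟨h, _⟩
        exact hR0 h
    rw [hf] at hw1 hs_le
    by_cases hR0 : R = 0
    · rw [if_pos hR0] at hw1 hs_le
      have hw1' : 2 * w1 + 2 ≤ 2 * i := by
        have : (2 * w1 : ℤ) + 2 ≤ ((2 * i : ℕ) : ℤ) := by linarith
        exact_mod_cast this
      refine ⟨?_, Or.inl ⟨hodd, Or.inr ⟨rfl, Or.inl (by rw [← hRdef]; exact hR0)⟩⟩⟩
      by_contra hlt
      have hs0 : s = 0 := by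
        rcases hsi with h | h
        · exact h
        · omega
      subst hs0
      rcases hjc with ⟨h, _⟩ | ⟨_, ⟨h, _⟩ | h⟩
      · omega
      · exact hne h
      · obtain ⟨k, hk⟩ := h
        have := key (j + 1) k (by omega) (by omega) (by omega)
        omega
    · rw [if_neg hR0] at hw1 hs_le
      have hw1' : 2 * w1 + 2 ≤ R := by
        have : (2 * w1 : ℤ) + 2 ≤ R := by linarith
        exact_mod_cast this
      have hw1i : w1 < i := by omega
      have hmod : m % i = w1 := by rw [hm_eq]; exact otsarithn_mod _ _ _ hw1i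
      refine ⟨?_, Or.inl ⟨hodd, Or.inr ⟨rfl, Or.inr ?_⟩⟩⟩
      · by_contra hlt
        have hs0 : s = 0 := by
          rcases hsi with h | h
          · exact h
          · omega
        subst hs0
        rcases hjc with ⟨h, _⟩ | ⟨_, ⟨h, _⟩ | h⟩
        · omega
        · exact hne h
        · obtain ⟨k, hk⟩ := h
          have := key (j + 1) k (by omega) (by omega) (by omega)
          omega
      · rw [hmod, ← hRdef]; omega

/-- ARITHN [M]: the arithmetic of the necessity direction. -/
theorem q_arith_nec (i c d m t : ℕ) (ε : ℤ) (hi : 1 ≤ i) (hc : c = if Even i then i else 2 * i)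
    (hε : ε = 1 ∨ ε = -1) (hm1 : 1 ≤ m) (hm : m + 1 ≤ d) (hj : HJi i d m ε)
    (hmax : ∃ w1 s : ℕ, m = w1 + s * i ∧ 2 * (s * i) ≤ 2 * d - FMin i c d ε ∧
      (2 * w1 : ℤ) + (1 - ε * SCy i (2 * d - FMin i c d ε)) ≤ FMin i c d ε)
    (hdist : Even i →
      (2 * m : ℤ) + (1 - ε * SCy i (i * min t ((2 * d - FMin i c d ε) / i))) ≤
        2 * d - i * min t ((2 * d - FMin i c d ε) / i)) :
    TSC i c d m t ε := by
  rcases Nat.even_or_odd i with hev | hodd
  · rw [if_pos hev] at hc
    subst c
    exact otsarithn_even i d m t ε hi hev hε hm1 hm hj hmax (hdist hev)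
  · rw [if_neg (Nat.not_even_iff_odd.mpr hodd)] at hc
    subst c
    exact otsarithn_odd i d m t ε hi hodd hε hm1 hm hj hmax

end Cfsg.Agent.Lib.Helper13.OTS
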