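import Mathlib
import Cfsg.Prelude.Def_Classical
import Cfsg.Agent.Lib.helper23.P4V.Defs

/-!
# Project P4V, row FR3, spare copy (helper20): expansion of a vector in a symplectic frame.
`p4vfr3_h20_core` has the statement of FR1 for this frame as a hypothesis.
-/

set_option autoImplicit false

namespace Cfsg.Agent.Lib.helper23.P4V

open Matrix

universe u

section Field

variable {F : Type u} [Field F]

/-- all four rows of `(-J) * hᵀ * J` applied to a vector (no frame hypothesis). -/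
theorem p4vfr3_h20_rows (e₁ e₂ f₁ f₂ w : V F) :
    (((-Matrix.J (Fin 2) F) * (frameMat e₁ e₂ f₁ f₂)ᵀ * Matrix.J (Fin 2) F) *ᵥ w) (Sum.inl 0) =
        om w f₁ ∧
    (((-Matrix.J (Fin 2) F) * (frameMat e₁ e₂ f₁ f₂)ᵀ * Matrix.J (Fin 2) F) *ᵥ w) (Sum.inl 1) =
        om w f₂ ∧
    (((-Matrix.J (Fin 2) F) * (frameMat e₁ e₂ f₁ f₂)ᵀ * Matrix.J (Fin 2) F) *ᵥ w) (Sum.inr 0) =
        -om w e₁ ∧
    (((-Matrix.J (Fin 2) F) * (frameMat e₁ e₂ f₁ f₂)ᵀ * Matrix.J (Fin 2) F) *ᵥ w) (Sum.inr 1) =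
        -om w e₂ := by
  refine ⟨?_, ?_, ?_, ?_⟩
  · simp [Matrix.mulVec, dotProduct, Matrix.mul_apply, Matrix.J, frameMat, om,
      Fintype.sum_sum_type, Fin.sum_univ_two, Matrix.fromBlocks, Matrix.one_apply]
    ring
  · simp [Matrix.mulVec, dotProduct, Matrix.mul_apply, Matrix.J, frameMat, om,
      Fintype.sum_sum_type, Fin.sum_univ_two, Matrix.fromBlocks, Matrix.one_apply]
    ring
  · simp [Matrix.mulVec, dotProduct, Matrix.mul_apply, Matrix.J, frameMat, om,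
      Fintype.sum_sum_type, Fin.sum_univ_two, Matrix.fromBlocks, Matrix.one_apply]
    ring
  · simp [Matrix.mulVec, dotProduct, Matrix.mul_apply, Matrix.J, frameMat, om,
      Fintype.sum_sum_type, Fin.sum_univ_two, Matrix.fromBlocks, Matrix.one_apply]
    ring

/-- `frameMat *ᵥ c` is the combination of the frame vectors with coefficients `c`. -/
theorem p4vfr3_h20_mulVec (e₁ e₂ f₁ f₂ c : V F) :
    frameMat e₁ e₂ f₁ f₂ *ᵥ c =
      c (Sum.inl 0) • e₁ + c (Sum.inl 1) • e₂ + c (Sum.inr 0) • f₁ + c (Sum.inr 1) • f₂ := by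
  funext k
  simp [Matrix.mulVec, dotProduct, frameMat, Fintype.sum_sum_type, Fin.sum_univ_two]
  ring

theorem p4vfr3_h20_core (e₁ e₂ f₁ f₂ : V F)
    (hFR1 : frameMat e₁ e₂ f₁ f₂ ∈ Matrix.symplecticGroup (Fin 2) F) (u : V F) :
    u = om u f₁ • e₁ + om u f₂ • e₂ - om u e₁ • f₁ - om u e₂ • f₂ := by
  set h : M4 F := frameMat e₁ e₂ f₁ f₂ with hh
  let c : Sp4 F := ⟨h, hFR1⟩
  have hinv : h * ((-Matrix.J (Fin 2) F) * hᵀ * Matrix.J (Fin 2) F) = 1 := by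
    have h1 : ((c * c⁻¹ : Sp4 F) : M4 F) = 1 := by
      rw [mul_inv_cancel]
      rfl
    have h2 : ((c * c⁻¹ : Sp4 F) : M4 F) = (c : M4 F) * ((c⁻¹ : Sp4 F) : M4 F) := rfl
    rw [h2, SymplecticGroup.coe_inv] at h1
    exact h1
  obtain ⟨r0, r1, r2, r3⟩ := p4vfr3_h20_rows e₁ e₂ f₁ f₂ u
  have hu : u = h *ᵥ (((-Matrix.J (Fin 2) F) * hᵀ * Matrix.J (Fin 2) F) *ᵥ u) := by
    rw [Matrix.mulVec_mulVec, hinv, Matrix.one_mulVec]
  conv_lhs => rw [hu]
  rw [hh, p4vfr3_h20_mulVec, r0, r1, r2, r3]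
  simp only [neg_smul]
  abel

end Field

end Cfsg.Agent.Lib.helper23.P4V
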