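import Mathlib
import Cfsg.Prelude.Def_Classical
import Cfsg.Agent.Lib.helper23.P4V.Defs
import Cfsg.Agent.Lib.Helper25.P4VFR1h25
import Cfsg.Agent.Lib.Helper20.P4VFR3h20

/-!
# Project P4V, row FR3, spare copy with the exact statement (helper20).
-/

set_option autoImplicit false

namespace Cfsg.Agent.Lib.helper23.P4V

open Matrix

universe u

section Field

variable {F : Type u} [Field F]

theorem p4vfr3_h20_frame_expand (e₁ e₂ f₁ f₂ : V F) (h : IsFrame e₁ e₂ f₁ f₂) (u : V F) :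
    u = om u f₁ • e₁ + om u f₂ • e₂ - om u e₁ • f₁ - om u e₂ • f₂ :=
  p4vfr3_h20_core e₁ e₂ f₁ f₂ (p4vfr1_h25_frameMat_mem e₁ e₂ f₁ f₂ h) u

end Field

end Cfsg.Agent.Lib.helper23.P4V
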