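import Mathlib
import Cfsg.Agent.Lib.Helper19.U3P.Defs
import Cfsg.Agent.Lib.Helper26.U3PP1
import Cfsg.Agent.Lib.Helper18.U3PP5
import Cfsg.Agent.Lib.Helper19.U3PBv
import Cfsg.Agent.Lib.Helper18.U3PM3
import Cfsg.Agent.Lib.Helper10.U3PO12
import Cfsg.Agent.Lib.Helper19.U3PX7
import Cfsg.Agent.Lib.Helper9.U3PF14
import Cfsg.Agent.Lib.Helper25.SU3P.Main

/-!
Project U3P (S2289, designer helper19): row FIN2 (`hcard_eight`), core by helper20: the statement of
B11 (`card_B_eight`, at the fields `K`, `F` and groups `G : Type`) is a hypothesis; everything else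
(P1 P5 P7 P8 B3 M3 O13 X7 F14, `card_SU3`) is cited from main.
-/

set_option autoImplicit false

namespace Cfsg.Agent.Lib.Helper19.U3P

open Cfsg.Agent.Lib.helper17.SLP Cfsg.Agent.Lib.helper14.SU3J Cfsg.Agent.Lib.Helper25.SU3P
open Polynomial Matrix

universe u v

section FIN

variable {F : Type u} [Field F] [Fintype F] {K : Type u} [Field K] [Fintype K] {q : ℕ}
  {D : Par F K q} {a b c : ↥(Cfsg.SU 3 F q)} {ρ : SL2 K →* ↥(Cfsg.SU 3 F q)}

omit [Fintype F] [Fintype K] in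
theorem u3pfin2_al_ne_zero (D : Par F K q) : D.al ≠ 0 := by
  unfold Par.al
  have h1 : (D.ζ : F) ≠ 0 := D.ζ.ne_zero
  have h2 : D.σ (D.ζ : F) ≠ 0 := (map_ne_zero D.σ).2 h1
  exact div_ne_zero (pow_ne_zero 2 h1) h2

/-- FIN2 core: `hB11` is the statement of B11 `card_B_eight`. -/
theorem u3pfin2_core (hG : Gens D a b c ρ) (hF : Fintype.card F = q ^ 2) (hK : Fintype.card K = q)
    (hq : q = 8) [Algebra (ZMod 2) F]
    (hsurj : Function.Surjective (fun f : (ZMod 2)[X] => aeval D.al f))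
    (US : Subgroup ↥(Cfsg.SU 3 F q)) (CB : ConstsB8 K) (CO : ConstsO K)
    (hCB1 : CB.mα = minpoly (ZMod 2) D.al)
    (hMod : Model q ρ a b c US CO) (hγ : D.γ0 ≠ 0)
    (Lsl : List (FreeGroup (Fin 3))) (az : FreeGroup (Fin 3))
    (haz : ev (xM (1 : K)) (hM D.bK) wM az = xM (D.bK : K))
    (hLhom : ∀ (G : Type) [Group G] (u h w : G), (∀ r ∈ Lsl, ev u h w r = 1) →
      ∃ φ : SL2 K →* G, φ (xM 1) = u ∧ φ (hM D.bK) = h ∧ φ wM = w)
    (WB : WordsB8) (WO : WordsO) (hWB : OkB8 D.bK CB WB) (hWO : OkO D.bK CO WO)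
    (hB11 : ∀ {G : Type} [Group G] (_ : Fintype.card K = 8) (_ : Fintype.card F = 64) (bK : Kˣ)
      (_ : ∀ y : Kˣ, y ∈ Subgroup.zpowers bK)
      (_ : ∀ t : K, ∃ e₀ e₁ e₂ : ℕ, t = e₀ + e₁ * (bK : K) + e₂ * (bK : K) ^ 2)
      (φ : SL2 K →* G) (u h w : G) (_ : RelM 8 bK φ u h w)
      (C : ConstsB8 K) (_ : RelB8 φ u h C) (al : F) (_ : al ≠ 0)
      (_ : C.mα = minpoly (ZMod 2) al)
      (_ : Function.Surjective (fun f : (ZMod 2)[X] => aeval al f)),
      Finite ↥(Subgroup.closure ({u, h} : Set G)) ∧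
        Nat.card ↥(Subgroup.closure ({u, h} : Set G)) ≤ 8 ^ 3 * (8 ^ 2 - 1)) :
    ∀ (G : Type) [Group G] (u h w : G) (π : G →* ↥(Cfsg.SU 3 F q)), π u = a → π h = b → π w = c →
      Subgroup.closure {u, h, w} = ⊤ → (∀ r ∈ relsAll8 q Lsl az CB WB CO WO, ev u h w r = 1) →
      Finite G ∧ Nat.card G ≤ Nat.card ↥(Cfsg.SU 3 F q) := by
  subst hq
  intro G _ u h w π hu hh hw hgen hrel
  have hF64 : Fintype.card F = 64 := by rw [hF]; norm_num
  -- split the relators
  have hrelL : ∀ r ∈ Lsl, ev u h w (subL 8 r) = 1 := fun r hr =>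
    hrel _ (by
      simp only [relsAll8, List.mem_append, List.mem_map]
      exact Or.inl (Or.inl (Or.inl ⟨r, hr, rfl⟩)))
  have hrelM : ∀ r ∈ relsM 8 az, ev u h w r = 1 := fun r hr =>
    hrel _ (by
      simp only [relsAll8, List.mem_append]
      exact Or.inl (Or.inl (Or.inr hr)))
  have hrelB : ∀ r ∈ relsB8 8 CB WB, ev u h w r = 1 := fun r hr =>
    hrel _ (by
      simp only [relsAll8, List.mem_append]
      exact Or.inl (Or.inr hr))
  have hrelO : ∀ r ∈ relsO 8 CO WO, ev u h w r = 1 := fun r hr =>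
    hrel _ (by
      simp only [relsAll8, List.mem_append]
      exact Or.inr hr)
  -- the homomorphism `φ`
  obtain ⟨φ, hx, hh', hw'⟩ := hLhom G (z0 8 u h) (h ^ (8 + 1)) w (fun r hr => by
    rw [← ev_subL]; exact hrelL r hr)
  have RM : RelM 8 D.bK φ u h w := (relM_iff 8 D.bK az haz φ u h w hx hh' hw').1 hrelM
  have RB : RelB8 φ u h CB := (relB8_iff 8 D.bK CB WB hWB φ u h w hx hh' hw').1 hrelB
  have RO : RelO φ u h w CO := (relO_iff 8 D.bK CO WO hWO φ u h w hx hh' hw').1 hrelO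
  have hspan := K8_span hK D.bK D.hbKgen
  obtain ⟨finB, cardB⟩ := hB11 hK hF64 D.bK D.hbKgen hspan φ u h w RM CB RB D.al
    (u3pfin2_al_ne_zero D) hCB1 hsurj
  have ZB := Z_le_B 8 (by norm_num) hK D.bK D.hbKgen φ u h w RM
  obtain ⟨finM, cardM⟩ := card_M 8 (by norm_num) hK D.bK D.hbKgen φ u h w RM
  have X : Ctx 8 D.bK ρ a b c US CO π φ u h w :=
    { hq := by norm_num
      hK := hK
      hbK := D.hbKgen
      mod := hMod
      relS := relM_S hG hF hK (by norm_num) hγ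
      hu := hu
      hh := hh
      hw := hw
      hgen := hgen
      relM := RM
      relO := RO
      finB := finB
      cardB := cardB
      ZB := ZB
      finM := finM
      cardM := cardM }
  obtain ⟨hfin, hcard⟩ := cells_main X
  refine ⟨hfin, hcard.trans ?_⟩
  rw [card_SU3 hF]
  exact le_of_eq (by ring)

end FIN

end Cfsg.Agent.Lib.Helper19.U3P
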