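import Mathlib
import Cfsg.Agent.Lib.Helper19.U3P.Defs
import Cfsg.Agent.Lib.Helper25.SU3P.Basic
import Cfsg.Agent.S0279

/-!
Project U3P (S2289, designer helper19): row X23 (`center_S`), verbatim, by helper20.
-/

set_option autoImplicit false

namespace Cfsg.Agent.Lib.Helper19.U3P

open Cfsg.Agent.Lib.helper17.SLP Cfsg.Agent.Lib.helper14.SU3J Cfsg.Agent.Lib.Helper25.SU3P
open Polynomial Matrix

universe u v

section X

variable {F : Type u} [Field F] [Fintype F] {K : Type u} [Field K] [Fintype K] {q : ℕ}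

omit [Fintype F] in
theorem u3px23_dd_mul (σ : F →+* F) (l l' : F) : dd σ l * dd σ l' = dd σ (l * l') := by
  ext i j
  fin_cases i <;> fin_cases j <;>
    simp [dd, Matrix.mul_apply, Fin.sum_univ_three, map_mul, div_mul_div_comm, mul_comm]

omit [Fintype F] in
theorem u3px23_dd_one (σ : F →+* F) : dd σ (1 : F) = 1 := by
  ext i j
  fin_cases i <;> fin_cases j <;> simp [dd]

omit [Fintype F] in
theorem u3px23_dd_pow (σ : F →+* F) (l : F) (k : ℕ) : dd σ l ^ k = dd σ (l ^ k) := by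
  induction k with
  | zero => rw [pow_zero, pow_zero, u3px23_dd_one]
  | succ k ih => rw [pow_succ, pow_succ, ih, u3px23_dd_mul]

omit [Fintype F] in
/-- `dd σ ω` is the scalar matrix `ω • 1` when `σ ω = ω⁻¹` and `ω ^ 3 = 1` -/
theorem u3px23_dd_scalar (σ : F →+* F) (ω : F) (h1 : σ ω = ω⁻¹) (h3 : ω ^ 3 = 1) :
    dd σ ω = ω • (1 : Matrix (Fin 3) (Fin 3) F) := by
  have hω : ω ≠ 0 := by
    rintro rfl
    simp at h3
  have e1 : ω⁻¹ / ω = ω := by
    rw [div_eq_iff hω]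
    apply inv_eq_of_mul_eq_one_left
    rw [← h3]; ring
  ext i j
  fin_cases i <;> fin_cases j <;> simp [dd, h1, e1]

variable {D : Par F K q} {a b c : ↥(Cfsg.SU 3 F q)} {ρ : SL2 K →* ↥(Cfsg.SU 3 F q)}

set_option linter.unusedSectionVars false in
/-- X23 [M]  `n := (q²-1)/g`, `g := gcd 3 (q+1)`.  `D.c.cj (b^n) = dd σ (ζ^n)` and `ω := ζ^n` satisfies `σ ω / ω = ω^(q-1) = ω` and `1/σ ω = ω` (`ω^g = 1`, `g ∣ q - 2`, `g ∣ q + 1`): `b^n` has the scalar matrix `ω • 1`, hence is central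
(`cj_inj`, `cj_mul`).  `orderOf (b^n) = g` (`orderOf ζ = q² - 1`) `= Nat.card (center)` (`Cfsg.Agent.S0279.result hF 3 le_rfl`): `zpowers (b^n) ≤ center` with equal cardinalities. -/
theorem center_S (hG : Gens D a b c ρ) (hF : Fintype.card F = q ^ 2) (hq : 2 ≤ q) :
    b ^ ((q ^ 2 - 1) / Nat.gcd 3 (q + 1)) ∈ Subgroup.center ↥(Cfsg.SU 3 F q) ∧
      Subgroup.center ↥(Cfsg.SU 3 F q) ≤ Subgroup.zpowers (b ^ ((q ^ 2 - 1) / Nat.gcd 3 (q + 1))) := by
  classical
  set g : ℕ := Nat.gcd 3 (q + 1) with hg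
  set n : ℕ := (q ^ 2 - 1) / g with hn
  have hg3 : g ∣ 3 := Nat.gcd_dvd_left 3 (q + 1)
  have hgq : g ∣ q + 1 := Nat.gcd_dvd_right 3 (q + 1)
  have hgpos : 0 < g := Nat.gcd_pos_of_pos_left _ (by norm_num)
  have hN : q ^ 2 - 1 = (q + 1) * (q - 1) := by
    have : q ^ 2 = (q + 1) * (q - 1) + 1 := by
      obtain ⟨t, rfl⟩ : ∃ t, q = t + 2 := ⟨q - 2, by omega⟩
      simp only [show t + 2 - 1 = t + 1 by omega]
      ring
    omega
  have hgN : g ∣ q ^ 2 - 1 := by rw [hN]; exact Dvd.dvd.mul_right hgq _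
  have hng : n * g = q ^ 2 - 1 := Nat.div_mul_cancel hgN
  have hNpos : 0 < q ^ 2 - 1 := by
    have : 4 ≤ q ^ 2 := by nlinarith
    omega
  have hnpos : 0 < n := by
    rcases Nat.eq_zero_or_pos n with h | h
    · rw [h, zero_mul] at hng; omega
    · exact h
  -- the generator ζ has order q² - 1
  have hordζ : orderOf D.ζ = q ^ 2 - 1 := by
    rw [orderOf_eq_card_of_forall_mem_zpowers D.hζ, Nat.card_eq_fintype_card, Fintype.card_units, hF]
  set ωu : Fˣ := D.ζ ^ n with hωu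
  set ω : F := (D.ζ : F) ^ n with hω
  have hωcoe : ((ωu : Fˣ) : F) = ω := by rw [hωu, hω, Units.val_pow_eq_pow_val]
  have hordω : orderOf ωu = g := by
    rw [hωu, orderOf_pow, hordζ]
    have h1 : Nat.gcd (q ^ 2 - 1) n = n := Nat.gcd_eq_right ⟨g, hng.symm⟩
    rw [h1, ← hng]
    exact Nat.mul_div_cancel_left g hnpos
  have hωg : ω ^ g = 1 := by
    have : ωu ^ g = 1 := by rw [← hordω]; exact pow_orderOf_eq_one ωu
    have h2 := congrArg (fun x : Fˣ => (x : F)) this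
    simpa [hωcoe] using h2
  have hω3 : ω ^ 3 = 1 := by
    obtain ⟨t, ht⟩ := hg3
    rw [ht, pow_mul, hωg, one_pow]
  have hωq1 : ω ^ (q + 1) = 1 := by
    obtain ⟨t, ht⟩ := hgq
    rw [ht, pow_mul, hωg, one_pow]
  have hω0 : ω ≠ 0 := by
    intro h
    rw [h] at hω3
    simp at hω3
  have hσω : D.σ ω = ω⁻¹ := by
    rw [D.hσ]
    apply eq_inv_of_mul_eq_one_left
    rw [← pow_succ]
    exact hωq1
  -- the coordinates of b ^ n
  have hcj : D.c.cj (b ^ n) = ω • (1 : Matrix (Fin 3) (Fin 3) F) := by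
    rw [Coords.cj_pow, hG.hb, u3px23_dd_pow]
    exact u3px23_dd_scalar D.σ ω hσω hω3
  have hcen : b ^ n ∈ Subgroup.center ↥(Cfsg.SU 3 F q) := by
    rw [Subgroup.mem_center_iff]
    intro X
    apply D.c.cj_inj
    rw [Coords.cj_mul, Coords.cj_mul, hcj]
    simp
  refine ⟨hcen, ?_⟩
  -- order of b ^ n
  have hpow : ∀ k : ℕ, (b ^ n) ^ k = 1 ↔ ωu ^ k = 1 := by
    intro k
    constructor
    · intro h
      have h1 : D.c.cj ((b ^ n) ^ k) = 1 := by rw [h, Coords.cj_one]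
      rw [Coords.cj_pow, hcj, _root_.smul_pow, one_pow] at h1
      have h2 := congrFun (congrFun h1 0) 0
      simp at h2
      apply Units.ext
      rw [Units.val_pow_eq_pow_val, hωcoe]
      simpa using h2
    · intro h
      apply D.c.cj_inj
      rw [Coords.cj_pow, hcj, _root_.smul_pow, one_pow, Coords.cj_one]
      have h2 : ω ^ k = 1 := by
        have := congrArg (fun x : Fˣ => (x : F)) h
        simpa [hωcoe] using this
      rw [h2, one_smul]
  have hord : orderOf (b ^ n) = g := by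
    rw [← hordω]
    exact orderOf_eq_orderOf_iff.2 hpow
  have hle : Subgroup.zpowers (b ^ n) ≤ Subgroup.center ↥(Cfsg.SU 3 F q) := by
    rw [Subgroup.zpowers_le]; exact hcen
  have hcardc : Nat.card (Subgroup.center ↥(Cfsg.SU 3 F q)) = g :=
    Cfsg.Agent.S0279.result hF 3 le_rfl
  have hcardz : Nat.card (Subgroup.zpowers (b ^ n)) = g := by
    rw [Nat.card_zpowers, hord]
  have := Subgroup.eq_of_le_of_card_ge hle (by rw [hcardc, hcardz])
  rw [this]

end X

end Cfsg.Agent.Lib.Helper19.U3P
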