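import Mathlib
import Cfsg.Agent.Lib.helper17.SLP.Defs

/-!
# Project SLP, row N1 (helper20): `w² = hⁿ`, `w` inverts `h` ⟹ `h^(2n) = 1`.
-/

set_option autoImplicit false

namespace Cfsg.Agent.Lib.helper17.SLP

/-- N1 [S]  `w` commutes with `w ^ 2 = h ^ n` and inverts `h`: `h ^ n = h ^ (-n)`. -/
theorem n_sl {G : Type*} [Group G] (h w : G) (n : ℕ) (hwh : w * h * w⁻¹ = h⁻¹) (hw2 : w ^ 2 = h ^ n) :
    h ^ (2 * n) = 1 := by
  have h1 : w * h ^ n * w⁻¹ = (h ^ n)⁻¹ := by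
    rw [← conj_pow, hwh, inv_pow]
  have h2 : w * h ^ n * w⁻¹ = h ^ n := by
    rw [← hw2]
    group
  have h3 : h ^ n = (h ^ n)⁻¹ := h2.symm.trans h1
  have h4 : h ^ n * h ^ n = 1 := by
    nth_rewrite 1 [h3]
    exact inv_mul_cancel _
  rw [two_mul, pow_add, h4]

end Cfsg.Agent.Lib.helper17.SLP
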