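import Mathlib
import Cfsg.Prelude.Def_LieTypeChar
import Cfsg.Agent.Lib.helper14.SQD.Defs
import Cfsg.Agent.Lib.helper14.SQD.DefsU

/-!
# Project SQD (designer helper14), row UE8 `lowE_mem_range`, core (writer helper20)

`sqdue8_core`: the statement of UE8 with the statements of UF2 (`frobE_frobE`, as `∀ x, τ (τ x) = x`) and UE4 (`mem_range_psiE`, at the given
`a`) as hypotheses.
-/

set_option autoImplicit false

namespace Cfsg.Agent.Lib.helper14.SQD

open Cfsg Cfsg.Lie Matrix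

universe u v

section UE
variable {F : Type} [Field F] [Fintype F] [CharP F 2] (e : ℕ) {k : ℕ}

omit [Fintype F] in
theorem sqdue8_low_form (T : Matrix (Fin k) (Fin k) F) (hT : T ∈ hermAdd k (frobE F e)) :
    (Matrix.fromBlocks 1 0 T 1 : Matrix (Fin k ⊕ Fin k) (Fin k ⊕ Fin k) F)ᵀ *
      (Matrix.fromBlocks 0 1 1 0 : Matrix (Fin k ⊕ Fin k) (Fin k ⊕ Fin k) F) *
      (Matrix.fromBlocks 1 0 T 1 : Matrix (Fin k ⊕ Fin k) (Fin k ⊕ Fin k) F).map (frobE F e) =
      (Matrix.fromBlocks 0 1 1 0 : Matrix (Fin k ⊕ Fin k) (Fin k ⊕ Fin k) F) := by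
  have hT' : (T.map (frobE F e))ᵀ = T := hT
  have hT2 : T.map (frobE F e) = Tᵀ := by
    rw [← hT', Matrix.transpose_transpose, hT']
  rw [Matrix.fromBlocks_transpose, Matrix.fromBlocks_map, Matrix.fromBlocks_multiply,
    Matrix.fromBlocks_multiply, hT2]
  have h1 : ((1 : Matrix (Fin k) (Fin k) F)).map (frobE F e) = 1 :=
    Matrix.map_one _ (map_zero _) (map_one _)
  have h0 : ((0 : Matrix (Fin k) (Fin k) F)).map (frobE F e) = 0 :=
    Matrix.map_zero _ (map_zero _)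
  rw [h1, h0]
  simp only [Matrix.transpose_one, Matrix.transpose_zero, Matrix.mul_zero, Matrix.zero_mul,
    Matrix.mul_one, Matrix.one_mul, add_zero, zero_add]
  congr 1
  ext i j
  rw [Matrix.add_apply, Matrix.zero_apply]
  exact CharTwo.add_self_eq_zero _

omit [Fintype F] [CharP F 2] in
theorem sqdue8_lev_form (τ : F →+* F) (hττ : ∀ x : F, τ (τ x) = x) (g g' : Matrix (Fin k) (Fin k) F)
    (h : g' * g = 1) :
    (Matrix.fromBlocks g 0 0 (tadj τ g') : Matrix (Fin k ⊕ Fin k) (Fin k ⊕ Fin k) F)ᵀ *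
      (Matrix.fromBlocks 0 1 1 0 : Matrix (Fin k ⊕ Fin k) (Fin k ⊕ Fin k) F) *
      (Matrix.fromBlocks g 0 0 (tadj τ g') : Matrix (Fin k ⊕ Fin k) (Fin k ⊕ Fin k) F).map τ =
      (Matrix.fromBlocks 0 1 1 0 : Matrix (Fin k ⊕ Fin k) (Fin k ⊕ Fin k) F) := by
  have h0 : ((0 : Matrix (Fin k) (Fin k) F)).map τ = 0 := Matrix.map_zero _ (map_zero _)
  have h2 : (tadj τ g').map τ = g'ᵀ := by
    unfold tadj
    ext i j
    simp [hττ]
  have h3 : (tadj τ g')ᵀ = g'.map τ := by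
    unfold tadj
    rw [Matrix.transpose_transpose]
  rw [Matrix.fromBlocks_transpose, Matrix.fromBlocks_map, Matrix.fromBlocks_multiply,
    Matrix.fromBlocks_multiply, h0, h2, h3]
  simp only [Matrix.transpose_zero, Matrix.mul_zero, Matrix.zero_mul,
    Matrix.mul_one, add_zero, zero_add]
  have h4 : gᵀ * g'ᵀ = 1 := by rw [← Matrix.transpose_mul, h, Matrix.transpose_one]
  have h5 : g'.map τ * g.map τ = 1 := by
    rw [← Matrix.map_mul, h, Matrix.map_one _ (map_zero _) (map_one _)]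
  rw [h4, h5]

omit [Fintype F] in
theorem sqdue8_core (hττ : ∀ x : F, frobE F e (frobE F e x) = x) (a : F)
    (hUE4 : ∀ w : GL (Fin k ⊕ Fin k) F, w ∈ (psiE (k := k) (F := F) (2 ^ e) a).range ↔
      (w : Matrix (Fin k ⊕ Fin k) (Fin k ⊕ Fin k) F).det = 1 ∧
      (w : Matrix (Fin k ⊕ Fin k) (Fin k ⊕ Fin k) F)ᵀ * Matrix.fromBlocks 0 1 1 0 *
        (w : Matrix (Fin k ⊕ Fin k) (Fin k ⊕ Fin k) F).map (frobE F e) = Matrix.fromBlocks 0 1 1 0) :
    (∀ T ∈ hermAdd k (frobE F e), ∀ w : GL (Fin k ⊕ Fin k) F,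
      (w : Matrix (Fin k ⊕ Fin k) (Fin k ⊕ Fin k) F) = Matrix.fromBlocks 1 0 T 1 →
        w ∈ (psiE (k := k) (F := F) (2 ^ e) a).range) ∧
    ∀ g : GL (Fin k) F, (g : Matrix (Fin k) (Fin k) F).det = 1 →
      levHom (frobE F e) g ∈ (psiE (k := k) (F := F) (2 ^ e) a).range := by
  constructor
  · intro T hT w hw
    rw [hUE4, hw]
    refine ⟨?_, sqdue8_low_form e T hT⟩
    rw [Matrix.det_fromBlocks_zero₁₂, Matrix.det_one, one_mul]
  · intro g hg
    rw [hUE4, levHom_coe]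
    have hgg : ((g⁻¹ : GL (Fin k) F) : Matrix (Fin k) (Fin k) F) * (g : Matrix (Fin k) (Fin k) F) = 1 := by
      rw [← Units.val_mul, inv_mul_cancel, Units.val_one]
    refine ⟨?_, sqdue8_lev_form (frobE F e) hττ _ _ hgg⟩
    rw [Matrix.det_fromBlocks_zero₂₁, hg, one_mul]
    have hdet' : ((g⁻¹ : GL (Fin k) F) : Matrix (Fin k) (Fin k) F).det = 1 := by
      have := congrArg Matrix.det hgg
      rw [Matrix.det_mul, hg, mul_one, Matrix.det_one] at this
      exact this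
    unfold tadj
    rw [Matrix.det_transpose]
    have : (((g⁻¹ : GL (Fin k) F) : Matrix (Fin k) (Fin k) F).map (frobE F e)).det =
        frobE F e (((g⁻¹ : GL (Fin k) F) : Matrix (Fin k) (Fin k) F).det) :=
      (RingHom.map_det (frobE F e) _).symm
    rw [this, hdet', map_one]

end UE

end Cfsg.Agent.Lib.helper14.SQD
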