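import Mathlib
import Cfsg.Agent.Lib.Helper19.SU5.Defs
import Cfsg.Agent.Lib.helper15.SU5I4

/-!
# Project SU5 (designer helper19), row T10 (VERBATIM from `Helper19/SU5/Skel1.lean.txt`): `y_b`, `y_{-b}`, `y_d` are multiplicative.
-/

set_option autoImplicit false
set_option linter.unusedSectionVars false

namespace Cfsg.Agent.Lib.Helper19.SU5

open Cfsg.Agent.Lib.helper17.SLP Cfsg.Agent.Lib.helper3.SP4 Cfsg.Agent.Lib.Helper22.SU4
open Cfsg.Agent.Lib.Helper27.STU (Lam XpM XmM XpS XmS SUm XpU XmU)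

universe u v

section T

variable {F : Type u} {K : Type u} [Field F] [Field K] [StarRing F] [Fintype F] [Fintype K] {D : Tw F K}
  {G : Type v} [Group G]

/-- a multiplicative map between groups preserves `1` and inverses -/
theorem su5t10_mulmap {A B : Type*} [Group A] [Group B] (f : A → B) (h : ∀ x y, f (x * y) = f x * f y) :
    f 1 = 1 ∧ ∀ x, f x⁻¹ = (f x)⁻¹ := by
  have h1 : f 1 = 1 := by
    have := h 1 1
    rw [mul_one] at this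
    exact (mul_eq_left.mp this.symm)
  refine ⟨h1, fun x => ?_⟩
  have := h x⁻¹ x
  rw [inv_mul_cancel, h1] at this
  exact eq_inv_of_mul_eq_one_left this.symm

theorem yb_mulU (φa : Matrix.SpecialLinearGroup (Fin 2) F →* G) (φb : ↥(SUm F True) →* G) :
    (∀ ξ η, yb φb (ξ * η) = yb φb ξ * yb φb η) ∧ yb φb 1 = 1 ∧ (∀ ξ, yb φb ξ⁻¹ = (yb φb ξ)⁻¹) ∧
      (∀ ξ η, ybm φb (ξ * η) = ybm φb ξ * ybm φb η) ∧ ybm φb 1 = 1 ∧ (∀ ξ, ybm φb ξ⁻¹ = (ybm φb ξ)⁻¹) ∧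
      (∀ ξ η, ydU φa φb (ξ * η) = ydU φa φb ξ * ydU φa φb η) ∧ ydU φa φb 1 = 1 ∧
      (∀ ξ, ydU φa φb ξ⁻¹ = (ydU φa φb ξ)⁻¹) := by
  have hb : ∀ ξ η : Lam F True, yb φb (ξ * η) = yb φb ξ * yb φb η := by
    intro ξ η
    unfold yb
    rw [← Cfsg.Agent.Lib.helper3.SU5.XpU_mul, map_mul]
  have hbm : ∀ ξ η : Lam F True, ybm φb (ξ * η) = ybm φb ξ * ybm φb η := by
    intro ξ η
    unfold ybm
    rw [← Cfsg.Agent.Lib.helper3.SU5.XmU_mul, map_mul]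
  have hd : ∀ ξ η : Lam F True, ydU φa φb (ξ * η) = ydU φa φb ξ * ydU φa φb η := by
    intro ξ η
    unfold ydU
    rw [hb]
    group
  obtain ⟨h1, h2⟩ := su5t10_mulmap (yb φb) hb
  obtain ⟨h3, h4⟩ := su5t10_mulmap (ybm φb) hbm
  obtain ⟨h5, h6⟩ := su5t10_mulmap (ydU φa φb) hd
  exact ⟨hb, h1, h2, hbm, h3, h4, hd, h5, h6⟩

end T

end Cfsg.Agent.Lib.Helper19.SU5
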