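import Mathlib
import Cfsg.Agent.Lib.Helper19.SU5.Defs
import Cfsg.Agent.Lib.Helper28.SP4R3
import Cfsg.Agent.Lib.helper8.STULA1
import Cfsg.Agent.Lib.Helper20.SU5T10

/-!
# Project SU5 (designer helper19), row T6 (core): the torus `h_a(s)` on `y_b`, with the cited statements (T1, F1, F3, F7) as hypotheses.
-/

set_option autoImplicit false
set_option linter.unusedSectionVars false

namespace Cfsg.Agent.Lib.Helper19.SU5

open Cfsg.Agent.Lib.helper17.SLP Cfsg.Agent.Lib.helper3.SP4 Cfsg.Agent.Lib.Helper22.SU4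
open Cfsg.Agent.Lib.Helper27.STU (Lam XpM XmM XpS XmS SUm XpU XmU)

universe u v

section T

variable {F : Type u} {K : Type u} [Field F] [Field K] [StarRing F] [Fintype F] [Fintype K] {D : Tw F K}
  {G : Type v} [Group G]

theorem su5t6_core (P : RO D) (φa : Matrix.SpecialLinearGroup (Fin 2) F →* G) (φb : ↥(SUm F True) →* G)
    (H : HypU P φa φb)
    (hT1 : ∀ s r : Fˣ, Commute (rh φa s) (hbF P φb r))
    (hF1 : ∀ k : Kˣ, star ((D.ιu k : Fˣ) : F) = ((D.ιu k : Fˣ) : F))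
    (hF3 : ∀ H : Subgroup (Lam F True),
      (∀ k : Kˣ, Lam.act ((D.ιu k : Fˣ) : F) P.ξ₁ ∈ H ∧ Lam.act ((D.ιu k : Fˣ) : F) P.ξ₂ ∈ H) → H = ⊤)
    (hF7 : ∀ (r : Fˣ) (ξ : Lam F True),
      P.HU r * XpU ξ * (P.HU r)⁻¹ = XpU (Lam.act ((r : F) ^ 2 / star (r : F)) ξ)) :
    ∀ (s : Fˣ) (ξ : Lam F True), rh φa s * yb φb ξ * (rh φa s)⁻¹ = yb φb (Lam.act ((s⁻¹ : Fˣ) : F) ξ) := by
  obtain ⟨hbm, hb1, hbi, -⟩ := yb_mulU φa φb
  obtain ⟨-, -, -, hhm, hh1, hhinv, -, -, -, -⟩ := r_basic φa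
  set g : G := rh φa P.ζ with hg
  set z : F := ((P.ζ⁻¹ : Fˣ) : F) with hz
  -- the subgroup `Ξ`
  let Ξ : Subgroup (Lam F True) :=
    { carrier := {ξ | g * yb φb ξ * g⁻¹ = yb φb (Lam.act z ξ)}
      one_mem' := by
        show g * yb φb 1 * g⁻¹ = yb φb (Lam.act z 1)
        rw [Lam.act_one', hb1, mul_one, mul_inv_cancel]
      mul_mem' := by
        intro ξ η hξ hη
        show g * yb φb (ξ * η) * g⁻¹ = yb φb (Lam.act z (ξ * η))
        have hξ' : g * yb φb ξ * g⁻¹ = yb φb (Lam.act z ξ) := hξ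
        have hη' : g * yb φb η * g⁻¹ = yb φb (Lam.act z η) := hη
        rw [Lam.act_mul, hbm, hbm, ← hξ', ← hη']
        group
      inv_mem' := by
        intro ξ hξ
        show g * yb φb ξ⁻¹ * g⁻¹ = yb φb (Lam.act z ξ⁻¹)
        have hξ' : g * yb φb ξ * g⁻¹ = yb φb (Lam.act z ξ) := hξ
        rw [Lam.act_inv, hbi, hbi, ← hξ']
        group }
  have hb : ∀ (r : Fˣ) (ξ : Lam F True),
      hbF P φb r * yb φb ξ * (hbF P φb r)⁻¹ = yb φb (Lam.act ((r : F) ^ 2 / star (r : F)) ξ) := by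
    intro r ξ
    unfold hbF yb
    rw [← map_inv, ← map_mul, ← map_mul, hF7]
  have hstab : ∀ (k : Kˣ) (ξ : Lam F True), ξ ∈ Ξ → Lam.act ((D.ιu k : Fˣ) : F) ξ ∈ Ξ := by
    intro k ξ hξ
    have hξ' : g * yb φb ξ * g⁻¹ = yb φb (Lam.act z ξ) := hξ
    show g * yb φb (Lam.act ((D.ιu k : Fˣ) : F) ξ) * g⁻¹ = yb φb (Lam.act z (Lam.act ((D.ιu k : Fˣ) : F) ξ))
    set h : G := hbF P φb (D.ιu k) with hh
    have hk0 : ((D.ιu k : Fˣ) : F) ≠ 0 := (D.ιu k).ne_zero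
    have hact : ∀ η : Lam F True, h * yb φb η * h⁻¹ = yb φb (Lam.act ((D.ιu k : Fˣ) : F) η) := by
      intro η
      rw [hh, hb]
      congr 2
      rw [hF1 k]
      field_simp
    have hcomm : g * h = h * g := (hT1 P.ζ (D.ιu k)).eq
    rw [← hact ξ]
    calc g * (h * yb φb ξ * h⁻¹) * g⁻¹ = (g * h) * yb φb ξ * (g * h)⁻¹ := by group
      _ = (h * g) * yb φb ξ * (h * g)⁻¹ := by rw [hcomm]
      _ = h * (g * yb φb ξ * g⁻¹) * h⁻¹ := by group
      _ = yb φb (Lam.act z (Lam.act ((D.ιu k : Fˣ) : F) ξ)) := by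
        rw [hξ', hact, Lam.act_act, Lam.act_act, mul_comm]
  have h1 : P.ξ₁ ∈ Ξ := H.U3
  have h2 : P.ξ₂ ∈ Ξ := H.U3b
  have htop : Ξ = ⊤ := hF3 Ξ (fun k => ⟨hstab k _ h1, hstab k _ h2⟩)
  have hζ : ∀ ξ : Lam F True, rh φa P.ζ * yb φb ξ * (rh φa P.ζ)⁻¹ = yb φb (Lam.act ((P.ζ⁻¹ : Fˣ) : F) ξ) := by
    intro ξ
    have : ξ ∈ Ξ := by rw [htop]; exact Subgroup.mem_top _
    exact this
  -- the subgroup of the units acting in the right way
  let A : Subgroup Fˣ :=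
    { carrier := {s | ∀ ξ : Lam F True, rh φa s * yb φb ξ * (rh φa s)⁻¹ = yb φb (Lam.act ((s⁻¹ : Fˣ) : F) ξ)}
      one_mem' := by
        intro ξ
        show rh φa 1 * yb φb ξ * (rh φa 1)⁻¹ = yb φb (Lam.act (((1 : Fˣ)⁻¹ : Fˣ) : F) ξ)
        rw [hh1]
        simp only [inv_one, Units.val_one, Lam.act_one, one_mul, mul_one]
      mul_mem' := by
        intro s t hs ht ξ
        have e : rh φa (s * t) * yb φb ξ * (rh φa (s * t))⁻¹ =
            rh φa s * (rh φa t * yb φb ξ * (rh φa t)⁻¹) * (rh φa s)⁻¹ := by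
          rw [hhm]; group
        rw [e, ht ξ, hs, Lam.act_act, mul_inv, Units.val_mul]
      inv_mem' := by
        intro s hs ξ
        have h3 := hs (Lam.act (s : F) ξ)
        rw [Lam.act_act, ← Units.val_mul, inv_mul_cancel, Units.val_one, Lam.act_one] at h3
        rw [inv_inv, hhinv, inv_inv, ← h3]
        group }
  have hA : P.ζ ∈ A := hζ
  intro s ξ
  have hs : s ∈ A := by
    obtain ⟨j, rfl⟩ := Subgroup.mem_zpowers_iff.1 (P.hζ s)
    exact A.zpow_mem hA j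
  exact hs ξ

end T

end Cfsg.Agent.Lib.Helper19.SU5
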