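import Mathlib
import Cfsg.Agent.Lib.Helper19.SU5.Defs
import Cfsg.Agent.Lib.Helper28.SP4R3
import Cfsg.Agent.Lib.helper8.STULA1

/-!
# Project SU5 (designer helper19), row T7 (core): the torus on `y_d`, with the statement of F7 `hu_conjU` (first part) as a hypothesis.
-/

set_option autoImplicit false
set_option linter.unusedSectionVars false

namespace Cfsg.Agent.Lib.Helper19.SU5

open Cfsg.Agent.Lib.helper17.SLP Cfsg.Agent.Lib.helper3.SP4 Cfsg.Agent.Lib.Helper22.SU4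
open Cfsg.Agent.Lib.Helper27.STU (Lam XpM XmM XpS XmS SUm XpU XmU)

universe u v

section T

variable {F : Type u} {K : Type u} [Field F] [Field K] [StarRing F] [Fintype F] [Fintype K] {D : Tw F K}
  {G : Type v} [Group G]

theorem su5t7_core (P : RO D) (φa : Matrix.SpecialLinearGroup (Fin 2) F →* G) (φb : ↥(SUm F True) →* G)
    (hF7 : ∀ (r : Fˣ) (ξ : Lam F True),
      P.HU r * XpU ξ * (P.HU r)⁻¹ = XpU (Lam.act ((r : F) ^ 2 / star (r : F)) ξ))
    (hwa : ∀ r : Fˣ, rn φa * hbF P φb r * (rn φa)⁻¹ = rh φa r * hbF P φb r)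
    (hyb : ∀ (s : Fˣ) (ξ : Lam F True), rh φa s * yb φb ξ * (rh φa s)⁻¹ = yb φb (Lam.act ((s⁻¹ : Fˣ) : F) ξ)) :
    (∀ (s : Fˣ) (ξ : Lam F True), rh φa s * ydU φa φb ξ * (rh φa s)⁻¹ = ydU φa φb (Lam.act (s : F) ξ)) ∧
      ∀ (r : Fˣ) (ξ : Lam F True),
        hbF P φb r * ydU φa φb ξ * (hbF P φb r)⁻¹ = ydU φa φb (Lam.act ((r : F) / star (r : F)) ξ) := by
  obtain ⟨-, -, -, -, -, hinv, -, -, hwh, -⟩ := r_basic φa
  constructor
  · intro s ξ
    have h1 : rn φa * rh φa s * (rn φa)⁻¹ = (rh φa s)⁻¹ := hwh s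
    have h2 := hyb s⁻¹ ξ
    rw [inv_inv, hinv] at h2
    unfold ydU
    rw [← h2]
    have e : rh φa s = (rn φa)⁻¹ * (rh φa s)⁻¹ * rn φa := by
      rw [← h1]; group
    calc rh φa s * ((rn φa)⁻¹ * yb φb ξ * rn φa) * (rh φa s)⁻¹
        = ((rn φa)⁻¹ * (rh φa s)⁻¹ * rn φa) * ((rn φa)⁻¹ * yb φb ξ * rn φa) *
            ((rn φa)⁻¹ * (rh φa s)⁻¹ * rn φa)⁻¹ := by rw [← e]
      _ = (rn φa)⁻¹ * ((rh φa s)⁻¹ * yb φb ξ * (rh φa s)⁻¹⁻¹) * rn φa := by group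
  · intro r ξ
    have h1 := hwa r
    have hb : hbF P φb r * yb φb ξ * (hbF P φb r)⁻¹ = yb φb (Lam.act ((r : F) ^ 2 / star (r : F)) ξ) := by
      unfold hbF yb
      rw [← map_inv, ← map_mul, ← map_mul, hF7]
    have h3 : (rh φa r * hbF P φb r) * yb φb ξ * (rh φa r * hbF P φb r)⁻¹ =
        yb φb (Lam.act ((r : F) / star (r : F)) ξ) := by
      calc (rh φa r * hbF P φb r) * yb φb ξ * (rh φa r * hbF P φb r)⁻¹
          = rh φa r * (hbF P φb r * yb φb ξ * (hbF P φb r)⁻¹) * (rh φa r)⁻¹ := by group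
        _ = yb φb (Lam.act ((r⁻¹ : Fˣ) : F) (Lam.act ((r : F) ^ 2 / star (r : F)) ξ)) := by rw [hb, hyb]
        _ = yb φb (Lam.act ((r : F) / star (r : F)) ξ) := by
          rw [Lam.act_act]
          congr 2
          have hr : (r : F) ≠ 0 := r.ne_zero
          rw [Units.val_inv_eq_inv_val]
          field_simp
    unfold ydU
    rw [← h3, ← h1]
    group

end T

end Cfsg.Agent.Lib.Helper19.SU5
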