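import Mathlib
import Cfsg.Agent.Lib.Helper19.SU5.Defs
import Cfsg.Agent.Lib.Helper20.SU5T6core
import Cfsg.Agent.Lib.Helper20.SU5T7core
import Cfsg.Agent.Lib.helper8.SU5T1
import Cfsg.Agent.Lib.Helper9.SU5UF1
import Cfsg.Agent.Lib.Helper29.SU5F3
import Cfsg.Agent.Lib.helper15.SU5F7

/-!
# Project SU5 (designer helper19), rows T6 + T7 (VERBATIM from `Helper19/SU5/Skel1.lean.txt`): the torus `h_a(s)` on `y_b`, and the torus on `y_d`.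
-/

set_option autoImplicit false
set_option linter.unusedSectionVars false

namespace Cfsg.Agent.Lib.Helper19.SU5

open Cfsg.Agent.Lib.helper17.SLP Cfsg.Agent.Lib.helper3.SP4 Cfsg.Agent.Lib.Helper22.SU4
open Cfsg.Agent.Lib.Helper27.STU (Lam XpM XmM XpS XmS SUm XpU XmU)

universe u v

section T

variable {F : Type u} {K : Type u} [Field F] [Field K] [StarRing F] [Fintype F] [Fintype K] {D : Tw F K}
  {G : Type v} [Group G]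

/-- T6 [M]  deps T0 T1 F3 F6 F7 + `R4.ba`.  `g := h_a(ζ)`, `Ξ := {ξ | g y_b(ξ) g⁻¹ = y_b(act ζ⁻¹ ξ)}` is a subgroup of `Lam` (F6, STU `Lam.act_mul`), `ξ₁ ξ₂ ∈ Ξ` (`H.U3 H.U3b`).  `Ξ` is stable under `act (ι k)`, `k : Kˣ`:
`h := h_b(ιu k)` commutes with `g` (T1) and `h y_b(ξ) h⁻¹ = y_b(act ((ι k)²/star (ι k)) ξ) = y_b(act (ι k) ξ)` (F7, F1), `Lam.act_act`, `mul_comm`.  F3: `Ξ = ⊤`.  General `s = ζ^j`: induction on `j` (`zpow`; for `g⁻¹` invert the identity,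
`Lam.act_act`, `ζ⁻¹ ζ = 1`, `Lam.act_one`). -/
theorem tor_ybU (hFK : Fintype.card F = Fintype.card K ^ 2) (P : RO D)
    (φa : Matrix.SpecialLinearGroup (Fin 2) F →* G) (φb : ↥(SUm F True) →* G) (H : HypU P φa φb) :
    ∀ (s : Fˣ) (ξ : Lam F True), rh φa s * yb φb ξ * (rh φa s)⁻¹ = yb φb (Lam.act ((s⁻¹ : Fˣ) : F) ξ) :=
  su5t6_core P φa φb H (tor_commU P φa φb H) (ro_basicU P).2.2.2.2.2.2.2
    (fun H' h => lam_gen_KU hFK P H' h) (fun r ξ => (hu_conjU P r ξ).1)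

/-- T7 [S-M]  deps T3 T6 F7 + `r_basic`.  `τ y_d(ξ) τ⁻¹ = w_a⁻¹ ((w_a τ w_a⁻¹) y_b(ξ) (w_a τ w_a⁻¹)⁻¹) w_a`.  `τ = h_a(s)`: `w_a h_a(s) w_a⁻¹ = h_a(s)⁻¹ = h_a(s⁻¹)` acts on `y_b` through `act s` (T6).
`τ = h_b(r)`: `w_a h_b(r) w_a⁻¹ = h_a(r) h_b(r)` acts through `act r⁻¹ ∘ act (r²/star r) = act (r/star r)` (T6, F7 through `φb`, `Lam.act_act`). -/
theorem tor_ydU (P : RO D) (φa : Matrix.SpecialLinearGroup (Fin 2) F →* G) (φb : ↥(SUm F True) →* G)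
    (hwa : ∀ r : Fˣ, rn φa * hbF P φb r * (rn φa)⁻¹ = rh φa r * hbF P φb r)
    (hyb : ∀ (s : Fˣ) (ξ : Lam F True), rh φa s * yb φb ξ * (rh φa s)⁻¹ = yb φb (Lam.act ((s⁻¹ : Fˣ) : F) ξ)) :
    (∀ (s : Fˣ) (ξ : Lam F True), rh φa s * ydU φa φb ξ * (rh φa s)⁻¹ = ydU φa φb (Lam.act (s : F) ξ)) ∧
      ∀ (r : Fˣ) (ξ : Lam F True),
        hbF P φb r * ydU φa φb ξ * (hbF P φb r)⁻¹ = ydU φa φb (Lam.act ((r : F) / star (r : F)) ξ) :=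
  su5t7_core P φa φb (fun r ξ => (hu_conjU P r ξ).1) hwa hyb

end T

end Cfsg.Agent.Lib.Helper19.SU5
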