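import Mathlib
import Cfsg.Prelude.Def_GeometricClasses
import Cfsg.Agent.Lib.Helper27.ASC.Defs
import Cfsg.Agent.Lib.Helper19.ASG.Defs

/-!
# Project ASG, piece C-DIM : `cent_matrix_le` (verbatim vs `Helper19/ASG/Skel`)
-/

set_option autoImplicit false
set_option linter.unusedVariables false
set_option linter.unusedSectionVars false

namespace Cfsg.Agent.Lib.Helper19.ASG

open Cfsg Cfsg.Geo Cfsg.Agent.Lib.Helper27.ASC
open scoped MatrixGroups Matrix

variable {n : ℕ} {F : Type*} [Field F] [Fintype F]

/-- C-DIM (helper19) -/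
theorem cent_matrix_le (hn : 0 < n) {N : Subgroup (GL (Fin n) F)} {k : ℕ}
    (φ : centAlg N ≃ₐ[F] Matrix (Fin k) (Fin k) F) : 0 < k ∧ k ≤ n := by
  constructor
  · rcases Nat.eq_zero_or_pos k with hk | hk
    · exfalso
      subst hk
      have h1 : φ (1 : centAlg N) = φ 0 := Subsingleton.elim _ _
      have h2 : (1 : centAlg N) = 0 := φ.injective h1
      have h3 : ((1 : centAlg N) : Matrix (Fin n) (Fin n) F) = ((0 : centAlg N) : Matrix (Fin n) (Fin n) F) :=
        congrArg Subtype.val h2
      have h4 := congrFun (congrFun h3 ⟨0, hn⟩) ⟨0, hn⟩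
      simp at h4
    · exact hk
  · have h1 : Module.finrank F (centAlg N) = k * k := by
      rw [φ.toLinearEquiv.finrank_eq, Module.finrank_matrix]
      simp
    have h2 : Module.finrank F (centAlg N) ≤ n * n := by
      have := Submodule.finrank_le (Subalgebra.toSubmodule (centAlg N))
      rw [Module.finrank_matrix] at this
      simpa using this
    rw [h1] at h2
    exact Nat.mul_self_le_mul_self_iff.mp h2

end Cfsg.Agent.Lib.Helper19.ASG
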