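import Mathlib
import Cfsg.Prelude.Def_GeometricClasses
import Cfsg.Agent.Lib.Helper27.ASC.Defs
import Cfsg.Agent.Lib.helper23.ASCO.Defs
import Cfsg.Agent.Lib.Helper19.ASG.Defs
import Cfsg.Agent.Lib.Helper1.ASGCLIF3
import Cfsg.Agent.Lib.Lead.Reindex
import Cfsg.Agent.Lib.Helper25.ASO.Defs

set_option autoImplicit false
set_option linter.unusedVariables false
set_option linter.unusedSectionVars false
set_option linter.style.haveILetI false

/-!
# Project ASO, piece IDEM : `idem_system` (verbatim vs `Helper25/ASO/Skel`)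

The first half of helper1's `asgclif_dec` (`Helper1.ASGCLIF3`) with the idempotents kept.
-/

namespace Cfsg.Agent.Lib.Helper25.ASO

open Cfsg Cfsg.Geo Cfsg.Agent.Lib.Helper27.ASC Cfsg.Agent.Lib.helper23.ASCO Cfsg.Agent.Lib.Helper19.ASG
open scoped MatrixGroups Matrix Kronecker

variable {n : ℕ} {F : Type*} [Field F] [Fintype F]

/-- IDEM -/
theorem idem_system (hn : 0 < n) {H N : Subgroup (GL (Fin n) F)} (hH : Irr H) (hN : NormalIn N H)
    (e0 : Matrix (Fin n) (Fin n) F) (he0 : e0 ∈ asgZ N) (hid0 : e0 * e0 = e0) (h00 : e0 ≠ 0) (h01 : e0 ≠ 1) :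
    ∃ (t : ℕ) (E : Fin t → Matrix (Fin n) (Fin n) F), IsIdemSystem H N E := by
  classical
  let P : Matrix (Fin n) (Fin n) F → Prop := fun f => f ∈ asgZ N ∧ f * f = f ∧ f ≠ 0
  have hPconj : ∀ h ∈ H, ∀ f, P f → P (asgConj h f) := by
    rintro h hh f ⟨hf1, hf2, hf3⟩
    refine ⟨asgclif_conj_mem hN h hh f hf1, by rw [← asgclif_conj_mmul, hf2], fun h0 => hf3 ?_⟩
    have := congrArg (asgConj h⁻¹) h0
    rwa [asgclif_conj_inv_conj, asgclif_conj_zero] at this
  obtain ⟨e, hPe, hmin⟩ := Set.exists_min_image {f | P f}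
    (fun f => Module.finrank F (LinearMap.range (Matrix.toLin' f))) (Set.toFinite _) ⟨e0, he0, hid0, h00⟩
  have hatom : ∀ f, P f → f * e = f → f = e := by
    rintro f hPf hfe
    have hPf' := hPf
    obtain ⟨hf1, hf2, hf3⟩ := hPf
    have hef : e * f = f := by rw [asgclif_Z_comm hPe.1 hf1, hfe]
    have hle : LinearMap.range (Matrix.toLin' f) ≤ LinearMap.range (Matrix.toLin' e) := by
      rintro _ ⟨w, rfl⟩
      refine ⟨f *ᵥ w, ?_⟩
      rw [Matrix.toLin'_apply, Matrix.toLin'_apply, Matrix.mulVec_mulVec, hef]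
    have heq : LinearMap.range (Matrix.toLin' f) = LinearMap.range (Matrix.toLin' e) :=
      Submodule.eq_of_le_of_finrank_le hle (hmin f hPf')
    rw [← hfe]
    apply Matrix.toLin'.injective
    apply LinearMap.ext
    intro v
    have hv : Matrix.toLin' e v ∈ LinearMap.range (Matrix.toLin' f) := by
      rw [heq]; exact ⟨v, rfl⟩
    obtain ⟨w, hw⟩ := hv
    rw [Matrix.toLin'_apply, Matrix.toLin'_apply] at hw
    rw [Matrix.toLin'_apply, Matrix.toLin'_apply, ← Matrix.mulVec_mulVec, ← hw, Matrix.mulVec_mulVec, hf2]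
  have he1 : e ≠ 1 := by
    intro h1
    apply h01
    have := hatom e0 ⟨he0, hid0, h00⟩ (by rw [h1, Matrix.mul_one])
    rw [this, h1]
  have hatomc : ∀ h ∈ H, ∀ f, P f → f * asgConj h e = f → f = asgConj h e := by
    intro h hh f hPf hfe
    have h1 := hPconj h⁻¹ (H.inv_mem hh) f hPf
    have h2 : asgConj h⁻¹ f * e = asgConj h⁻¹ f := by
      have := congrArg (asgConj h⁻¹) hfe
      rwa [asgclif_conj_mmul, asgclif_conj_inv_conj] at this
    have h3 := hatom _ h1 h2
    have := congrArg (asgConj h) h3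
    rwa [asgclif_conj_conj_inv] at this
  have horth0 : ∀ a ∈ H, ∀ b ∈ H, asgConj a e ≠ asgConj b e → asgConj a e * asgConj b e = 0 := by
    intro a ha b hb hne
    by_contra h0
    have hPa := hPconj a ha e hPe
    have hPb := hPconj b hb e hPe
    have hcomm := asgclif_Z_comm hPa.1 hPb.1
    have hPg : P (asgConj a e * asgConj b e) := by
      refine ⟨Subalgebra.mul_mem _ hPa.1 hPb.1, ?_, h0⟩
      calc asgConj a e * asgConj b e * (asgConj a e * asgConj b e)
          = asgConj a e * (asgConj b e * asgConj a e) * asgConj b e := by simp only [Matrix.mul_assoc]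
        _ = asgConj a e * (asgConj a e * asgConj b e) * asgConj b e := by rw [hcomm]
        _ = (asgConj a e * asgConj a e) * (asgConj b e * asgConj b e) := by simp only [Matrix.mul_assoc]
        _ = _ := by rw [hPa.2.1, hPb.2.1]
    have h1 : asgConj a e * asgConj b e = asgConj b e :=
      hatomc b hb _ hPg (by rw [Matrix.mul_assoc, hPb.2.1])
    have h2 : asgConj a e * asgConj b e = asgConj a e :=
      hatomc a ha _ hPg (by rw [hcomm, Matrix.mul_assoc, hPa.2.1])
    exact hne (h2.symm.trans h1)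
  let O : Finset (Matrix (Fin n) (Fin n) F) := Finset.univ.filter (fun f => ∃ h ∈ H, f = asgConj h e)
  have hOmem : ∀ f, f ∈ O ↔ ∃ h ∈ H, f = asgConj h e := by
    intro f
    simp [O]
  have hOconj : ∀ h ∈ H, ∀ f ∈ O, asgConj h f ∈ O := by
    intro h hh f hf
    obtain ⟨k, hk, rfl⟩ := (hOmem f).mp hf
    exact (hOmem _).mpr ⟨h * k, H.mul_mem hh hk, (asgclif_conj_mul h k e).symm⟩
  have heO : e ∈ O := (hOmem e).mpr ⟨1, H.one_mem, (asgclif_conj_one e).symm⟩
  have hmove : ∃ h ∈ H, asgConj h e ≠ e := by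
    by_contra hcon
    push Not at hcon
    have hinv : ∀ s ∈ matrixSet H, (LinearMap.range (Matrix.toLin' e)).map (Matrix.toLin' s) ≤
        LinearMap.range (Matrix.toLin' e) := by
      rintro _ ⟨h, hh, rfl⟩
      rw [asgclif_range_conj, hcon h hh]
    rcases hH _ hinv with hb | ht
    · apply hPe.2.2
      apply Matrix.toLin'.injective
      rw [map_zero]
      exact LinearMap.range_eq_bot.mp hb
    · exact he1 (asgclif_idem_top e hPe.2.1 ht)
  obtain ⟨h1, hh1, hne1⟩ := hmove
  have hcard : 2 ≤ O.card :=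
    Finset.one_lt_card.mpr ⟨e, heO, asgConj h1 e, hOconj h1 hh1 e heO, fun h => hne1 h.symm⟩
  let t := O.card
  let eqv : ↥O ≃ Fin t := O.equivFin
  let E : Fin t → Matrix (Fin n) (Fin n) F := fun i => ((eqv.symm i : ↥O) : Matrix (Fin n) (Fin n) F)
  have hEO : ∀ i, E i ∈ O := fun i => (eqv.symm i).2
  have hEex : ∀ i, ∃ k ∈ H, E i = asgConj k e := fun i => (hOmem _).mp (hEO i)
  have hEP : ∀ i, P (E i) := by
    intro i
    obtain ⟨k, hk, hE⟩ := hEex i
    rw [hE]
    exact hPconj k hk e hPe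
  have hEinj : Function.Injective E := by
    intro i j hij
    exact eqv.symm.injective (Subtype.ext hij)
  have horth : ∀ i j, i ≠ j → E i * E j = 0 := by
    intro i j hij
    obtain ⟨a, ha, hEa⟩ := hEex i
    obtain ⟨b, hb, hEb⟩ := hEex j
    have hne : E i ≠ E j := fun h => hij (hEinj h)
    rw [hEa, hEb] at hne ⊢
    exact horth0 a ha b hb hne
  let c : ∀ h ∈ H, ↥O ≃ ↥O := fun h hh =>
    { toFun := fun f => ⟨asgConj h f.1, hOconj h hh f.1 f.2⟩
      invFun := fun f => ⟨asgConj h⁻¹ f.1, hOconj h⁻¹ (H.inv_mem hh) f.1 f.2⟩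
      left_inv := fun f => Subtype.ext (asgclif_conj_inv_conj h f.1)
      right_inv := fun f => Subtype.ext (asgclif_conj_conj_inv h f.1) }
  have hpermE : ∀ h ∈ H, ∃ σ : Equiv.Perm (Fin t), ∀ i, asgConj h (E i) = E (σ i) := by
    intro h hh
    refine ⟨eqv.symm.trans ((c h hh).trans eqv), fun i => ?_⟩
    change asgConj h (E i) = ((eqv.symm (eqv ((c h hh) (eqv.symm i))) : ↥O) : Matrix (Fin n) (Fin n) F)
    rw [Equiv.symm_apply_apply]
    rfl
  let D : Fin t → Submodule F (Fin n → F) := fun i => LinearMap.range (Matrix.toLin' (E i))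
  have hperm : ∀ h ∈ H, ∃ σ : Equiv.Perm (Fin t), ∀ i,
      (D i).map (Matrix.toLin' (h : Matrix (Fin n) (Fin n) F)) = D (σ i) := by
    intro h hh
    obtain ⟨σ, hσ⟩ := hpermE h hh
    refine ⟨σ, fun i => ?_⟩
    change (LinearMap.range (Matrix.toLin' (E i))).map _ = LinearMap.range (Matrix.toLin' (E _))
    rw [asgclif_range_conj, hσ i]
  have htop : iSup D = ⊤ := by
    have hinv : ∀ s ∈ matrixSet H, (iSup D).map (Matrix.toLin' s) ≤ iSup D := by
      rintro _ ⟨h, hh, rfl⟩
      obtain ⟨σ, hσ⟩ := hperm h hh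
      rw [Submodule.map_iSup]
      refine iSup_le fun i => ?_
      rw [hσ i]
      exact le_iSup D (σ i)
    rcases hH _ hinv with hb | ht
    · exfalso
      have i0 : Fin t := ⟨0, by omega⟩
      have h1 : D i0 ≤ ⊥ := hb ▸ le_iSup D i0
      have h2 : D i0 = ⊥ := le_bot_iff.mp h1
      apply (hEP i0).2.2
      apply Matrix.toLin'.injective
      rw [map_zero]
      exact LinearMap.range_eq_bot.mp h2
    · exact ht
  -- the sum of the `E i`
  have hSE : ∀ i, (∑ j, E j) * E i = E i := by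
    intro i
    rw [Finset.sum_mul, Finset.sum_eq_single i]
    · exact (hEP i).2.1
    · intro j _ hji
      exact horth j i hji
    · intro hi
      exact absurd (Finset.mem_univ i) hi
  have hSid : (∑ j, E j) * (∑ j, E j) = ∑ j, E j := by
    rw [Finset.mul_sum]
    exact Finset.sum_congr rfl (fun i _ => hSE i)
  have hSrange : LinearMap.range (Matrix.toLin' (∑ j, E j)) = ⊤ := by
    rw [eq_top_iff, ← htop]
    refine iSup_le fun i => ?_
    rintro _ ⟨w, rfl⟩
    refine ⟨E i *ᵥ w, ?_⟩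
    rw [Matrix.toLin'_apply, Matrix.toLin'_apply, Matrix.mulVec_mulVec, hSE i]
  have hsum : ∑ j, E j = 1 := asgclif_idem_top _ hSid hSrange
  refine ⟨t, E, ⟨hcard, hEinj, fun i => (hEP i).1, fun i => (hEP i).2.1, fun i => (hEP i).2.2, horth, hsum,
    hpermE, ?_, ?_⟩⟩
  · intro i j
    obtain ⟨a, ha, hEa⟩ := hEex i
    obtain ⟨b, hb, hEb⟩ := hEex j
    refine ⟨b * a⁻¹, H.mul_mem hb (H.inv_mem ha), ?_⟩
    rw [asgclif_conj_mul, hEa, asgclif_conj_inv_conj, hEb]
  · intro f hf hff i
    by_cases h0 : f * E i = 0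
    · exact Or.inl h0
    · right
      obtain ⟨k, hk, hE⟩ := hEex i
      have hcomm : f * E i = E i * f := asgclif_Z_comm hf (hEP i).1
      have hPg : P (f * E i) := by
        refine ⟨Subalgebra.mul_mem _ hf (hEP i).1, ?_, h0⟩
        calc f * E i * (f * E i) = f * (E i * f) * E i := by simp only [Matrix.mul_assoc]
          _ = f * (f * E i) * E i := by rw [hcomm]
          _ = (f * f) * (E i * E i) := by simp only [Matrix.mul_assoc]
          _ = f * E i := by rw [hff, (hEP i).2.1]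
      have h1 : f * E i * asgConj k e = f * E i := by
        rw [← hE, Matrix.mul_assoc, (hEP i).2.1]
      rw [hE] at h1 ⊢
      exact hatomc k hk _ (by rw [← hE]; exact hPg) h1

end Cfsg.Agent.Lib.Helper25.ASO
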