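import Mathlib
import Cfsg.Prelude.Def_GeometricClasses
import Cfsg.Agent.Lib.Helper27.ASC.Defs
import Cfsg.Agent.Lib.Helper19.ASG.Defs
import Cfsg.Agent.Lib.Helper20.ASGALG

/-!
# Project ASG, block C, piece C-STD1 : `std_basis` (verbatim vs `Helper24/ASGC/Skel`)
(the adapted basis `asgalgB ψ (i, l) = e_{i0} w_l` of `Helper20.ASGALG`)
-/

set_option autoImplicit false
set_option linter.unusedVariables false
set_option linter.unusedSectionVars false
set_option linter.style.haveILetI false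

namespace Cfsg.Agent.Lib.Helper19.ASG

open Cfsg Cfsg.Geo Cfsg.Agent.Lib.Helper27.ASC
open scoped MatrixGroups Matrix Kronecker

variable {n : ℕ} {F : Type*} [Field F]

open Cfsg.Agent.Lib.Helper20.ASGALG in
/-- C-STD1 (the heart; medium-hard) : matrix units. -/
theorem std_basis {k : ℕ} (hk : 0 < k) (ψ : Matrix (Fin k) (Fin k) F →ₐ[F] Matrix (Fin n) (Fin n) F) :
    ∃ (d : ℕ) (T : (Fin k × Fin d → F) ≃ₗ[F] (Fin n → F)),
      ∀ (a : Matrix (Fin k) (Fin k) F) (x : Fin k × Fin d → F),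
        (ψ a) *ᵥ (T x) = T ((a ⊗ₖ (1 : Matrix (Fin d) (Fin d) F)) *ᵥ x) := by
  classical
  haveI : NeZero k := ⟨by omega⟩
  obtain ⟨B, hB⟩ : ∃ B : Module.Basis (Fin k × Fin (Module.finrank F (asgalgU ψ))) F (Fin n → F),
      ∀ p, B p = asgalgB ψ p :=
    ⟨Module.Basis.mk (asgalgB_li ψ) (asgalgB_span ψ), fun p => by rw [Module.Basis.mk_apply]⟩
  refine ⟨Module.finrank F (asgalgU ψ), B.equivFun.symm, ?_⟩
  intro a x
  rw [Module.Basis.equivFun_symm_apply, Module.Basis.equivFun_symm_apply, Matrix.mulVec_sum]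
  simp only [Matrix.mulVec_smul, hB, asgalg_phi_mulVec_B]
  have hR : ∀ p' : Fin k × Fin (Module.finrank F (asgalgU ψ)),
      ((a ⊗ₖ (1 : Matrix (Fin (Module.finrank F (asgalgU ψ))) (Fin (Module.finrank F (asgalgU ψ))) F)) *ᵥ x) p' =
        ∑ p, (a p'.1 p.1 * (if p'.2 = p.2 then 1 else 0)) * x p := by
    intro p'
    simp only [Matrix.mulVec, dotProduct, Matrix.kroneckerMap_apply, Matrix.one_apply]
  simp only [hR, Finset.sum_smul]
  rw [Finset.sum_comm]
  refine Finset.sum_congr rfl fun p _ => ?_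
  rw [Fintype.sum_prod_type, Finset.smul_sum]
  refine Finset.sum_congr rfl fun i _ => ?_
  rw [Finset.sum_eq_single p.2]
  · rw [if_pos rfl, mul_one, smul_smul, mul_comm]
  · intro l _ hl
    rw [if_neg hl, mul_zero, zero_mul, zero_smul]
  · intro h; exact absurd (Finset.mem_univ _) h

end Cfsg.Agent.Lib.Helper19.ASG
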