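import Mathlib
import Cfsg.Prelude.Def_GeometricClasses
import Cfsg.Agent.Lib.Helper27.ASC.Defs
import Cfsg.Agent.Lib.helper23.ASCO.Defs
import Cfsg.Agent.Lib.Helper19.ASG.Defs
import Cfsg.Agent.Lib.Helper1.ASGCLIF3
import Cfsg.Agent.Lib.Helper25.ASO.Defs
import Cfsg.Agent.Lib.helper23.ASE.Defs
import Cfsg.Agent.Lib.Helper1.ASGCLIF4
import Cfsg.Agent.Lib.Helper25.ASOADJ

set_option autoImplicit false
set_option linter.unusedVariables false
set_option linter.unusedSectionVars false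

/-!
# Project E10M, FIELD block, piece F-SUB (helper20) : `efield_sub` VERBATIM vs `Helper20/ASE10M/FieldSkel.lean.txt`.
Extra: `e10mfsub_oadj_pow`.
-/

namespace Cfsg.Agent.Lib.Helper16.E10M

open Cfsg Cfsg.Geo Cfsg.Agent.Lib.Helper27.ASC Cfsg.Agent.Lib.helper23.ASCO Cfsg.Agent.Lib.Helper19.ASG
  Cfsg.Agent.Lib.Helper25.ASO
open scoped MatrixGroups Matrix Kronecker

variable {n : ℕ} {F : Type*} [Field F] [Fintype F]

/-- the adjoint commutes with powers -/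
theorem e10mfsub_oadj_pow (Q : QuadraticForm F (Fin n → F)) (hQ : (QuadraticMap.polarBilin Q).Nondegenerate)
    (x : Matrix (Fin n) (Fin n) F) (m : ℕ) : oadj (⇑Q) (x ^ m) = (oadj (⇑Q) x) ^ m := by
  induction m with
  | zero => rw [pow_zero, pow_zero, oadj_one Q hQ]
  | succ m ih => rw [pow_succ, oadj_mul Q hQ, ih, pow_succ']

/-- F-SUB -/
theorem efield_sub (Q : QuadraticForm F (Fin n → F)) (hQ : (QuadraticMap.polarBilin Q).Nondegenerate) {b : ℕ}
    (K : Subalgebra F (Matrix (Fin n) (Fin n) F)) (hK : IsFieldSubalgebra b K) (hb : 0 < b)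
    (hstar : ∀ k ∈ K, oadj (⇑Q) k ∈ K) (d : ℕ) (hd : d ∣ b) :
    ∃ K' : Subalgebra F (Matrix (Fin n) (Fin n) F), IsFieldSubalgebra d K' ∧ K' ≤ K ∧
      subalgebraNormalizer K ≤ subalgebraNormalizer K' ∧ ∀ k ∈ K', oadj (⇑Q) k ∈ K' := by
  obtain ⟨K', hK', hmem⟩ := asgclif_subfield_aux K hK hb d hd
  refine ⟨K', hK', fun x hx => ((hmem x).mp hx).1, ?_, ?_⟩
  · have key : ∀ g ∈ subalgebraNormalizer K, ∀ k ∈ K', asgConj g k ∈ K' := by
      intro g hg k hk
      obtain ⟨hk1, hk2⟩ := (hmem k).mp hk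
      refine (hmem _).mpr ⟨(hg k).mp hk1, ?_⟩
      rw [← asgclif_conj_pow, hk2]
    intro g hg k
    constructor
    · exact key g hg k
    · intro h
      have h2 := key g⁻¹ ((subalgebraNormalizer K).inv_mem hg) _ h
      change asgConj g⁻¹ (asgConj g k) ∈ K' at h2
      rwa [asgclif_conj_inv_conj] at h2
  · intro k hk
    obtain ⟨hk1, hk2⟩ := (hmem k).mp hk
    refine (hmem _).mpr ⟨hstar k hk1, ?_⟩
    rw [← e10mfsub_oadj_pow Q hQ, hk2]

end Cfsg.Agent.Lib.Helper16.E10M
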