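import Mathlib
import Cfsg.Prelude.Def_GeometricClasses
import Cfsg.Agent.Lib.Helper27.ASC.Defs
import Cfsg.Agent.Lib.helper23.ASCO.Defs
import Cfsg.Agent.Lib.Helper19.ASG.Defs
import Cfsg.Agent.Lib.Helper1.ASGCLIF3
import Cfsg.Agent.Lib.Helper25.ASO.Defs
import Cfsg.Agent.Lib.helper23.ASE.Defs
import Cfsg.Agent.Lib.Helper20.ASE10M.Defs
import Cfsg.Agent.Lib.Helper20.E10MFSUB
import Cfsg.Agent.Lib.Helper11.E10MFSAALT
import Cfsg.Agent.Lib.helper23.E10MF5COORD
import Cfsg.Agent.Lib.Helper11.E10MF5COORDE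
import Cfsg.Agent.Lib.Lead.E10MF5J
import Cfsg.Agent.Lib.Helper13.E10MF5JSQ
import Cfsg.Agent.Lib.helper23.E10MF5L
import Cfsg.Agent.Lib.helper23.E10MF5CANON1
import Cfsg.Agent.Lib.Helper22.E10MF5CANON2
import Cfsg.Agent.Lib.helper8.E10MF5NORM

set_option autoImplicit false
set_option linter.unusedVariables false
set_option linter.unusedSectionVars false

/-!
# Project E10M, FIELD block, piece F5-HALF (helper20) : `efield_half` VERBATIM vs `Helper20/ASE10M/FieldSkel5.lean.txt`.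
Extra: `e10mf5half_iso` (the statement of F5-ISO under an own name: an isotropic vector of the binary form gives plus type).
-/

namespace Cfsg.Agent.Lib.Helper16.E10M

open Cfsg Cfsg.Geo Cfsg.Agent.Lib.Helper27.ASC Cfsg.Agent.Lib.helper23.ASCO Cfsg.Agent.Lib.Helper19.ASG
  Cfsg.Agent.Lib.Helper25.ASO
open scoped MatrixGroups Matrix Kronecker

variable {n : ℕ} {F : Type*} [Field F] [Fintype F]

/-- evaluation at a vector, as a linear map on matrices -/
def e10mf5halfEval (x : Fin n → F) : Matrix (Fin n) (Fin n) F →ₗ[F] (Fin n → F) where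
  toFun := fun M => M *ᵥ x
  map_add' := fun M N => Matrix.add_mulVec M N x
  map_smul' := fun c M => Matrix.smul_mulVec c M x

/-- an isotropic vector of the binary form gives a totally singular `K`-line: plus type (the statement of F5-ISO) -/
theorem e10mf5half_iso {r : ℕ} (hn : n = 2 * r) (Q : QuadraticForm F (Fin n → F))
    (K : Subalgebra F (Matrix (Fin n) (Fin n) F)) (hK : IsFieldSubalgebra r K)
    {ℓ : Matrix (Fin n) (Fin n) F →ₗ[F] F} {v w : Fin n → F} {s β : Matrix (Fin n) (Fin n) F}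
    (hc : EFieldCoord (⇑Q) K ℓ v w s β) (a b : Matrix (Fin n) (Fin n) F) (ha : a ∈ K) (hb : b ∈ K)
    (hab : a ≠ 0 ∨ b ≠ 0) (h0 : a * a + s * a * b + β * b * b = 0) : IsPlusTypeOn (⇑Q) ⊤ := by
  classical
  set x₀ : Fin n → F := a *ᵥ v + b *ᵥ w with hx₀
  have hx₀ne : x₀ ≠ 0 := by
    intro h
    obtain ⟨h1, h2⟩ := hc.inj a ha b hb h
    rcases hab with h' | h'
    · exact h' h1
    · exact h' h2
  -- the `K`-line
  let φ : K →ₗ[F] (Fin n → F) := (e10mf5halfEval x₀).comp (Subalgebra.val K).toLinearMap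
  have hφ : ∀ k : K, φ k = (k : Matrix (Fin n) (Fin n) F) *ᵥ x₀ := fun k => rfl
  have hφinj : Function.Injective φ := by
    rw [injective_iff_map_eq_zero]
    intro k hk
    by_contra hk0
    have hk0' : (k : Matrix (Fin n) (Fin n) F) ≠ 0 := fun h => hk0 (Subtype.ext h)
    obtain ⟨y, hy, hky⟩ := hK.inv k k.2 hk0'
    apply hx₀ne
    rw [hφ] at hk
    have h1 : (y * (k : Matrix (Fin n) (Fin n) F)) *ᵥ x₀ = 0 := by
      rw [← Matrix.mulVec_mulVec, hk, Matrix.mulVec_zero]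
    rw [hK.comm y hy k k.2, hky, Matrix.one_mulVec] at h1
    exact h1
  refine ⟨LinearMap.range φ, le_top, ?_, ?_⟩
  · rintro _ ⟨k, rfl⟩
    rw [hφ, hx₀, Matrix.mulVec_add, Matrix.mulVec_mulVec, Matrix.mulVec_mulVec,
      hc.quad _ (K.mul_mem k.2 ha) _ (K.mul_mem k.2 hb)]
    have hkk : ((k : Matrix (Fin n) (Fin n) F) * a) * ((k : Matrix (Fin n) (Fin n) F) * a) +
        s * ((k : Matrix (Fin n) (Fin n) F) * a) * ((k : Matrix (Fin n) (Fin n) F) * b) +
        β * ((k : Matrix (Fin n) (Fin n) F) * b) * ((k : Matrix (Fin n) (Fin n) F) * b) =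
        ((k : Matrix (Fin n) (Fin n) F) * (k : Matrix (Fin n) (Fin n) F)) * (a * a + s * a * b + β * b * b) := by
      have c1 := hK.comm a ha k k.2
      have c2 := hK.comm s hc.hs k k.2
      have c3 := hK.comm β hc.hβ k k.2
      have c4 := hK.comm b hb k k.2
      have c5 := hK.comm (s * a) (K.mul_mem hc.hs ha) k k.2
      have c6 := hK.comm (β * b) (K.mul_mem hc.hβ hb) k k.2
      have e1 : (k : Matrix (Fin n) (Fin n) F) * a * ((k : Matrix (Fin n) (Fin n) F) * a) =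
          (k : Matrix (Fin n) (Fin n) F) * (k : Matrix (Fin n) (Fin n) F) * (a * a) := by
        rw [mul_assoc, ← mul_assoc a, c1, mul_assoc, mul_assoc]
      have e2 : s * ((k : Matrix (Fin n) (Fin n) F) * a) * ((k : Matrix (Fin n) (Fin n) F) * b) =
          (k : Matrix (Fin n) (Fin n) F) * (k : Matrix (Fin n) (Fin n) F) * (s * a * b) := by
        rw [← mul_assoc s, c2, mul_assoc (k : Matrix (Fin n) (Fin n) F) s a, mul_assoc (k : Matrix (Fin n) (Fin n) F) (s * a),
          ← mul_assoc (s * a), c5]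
        simp only [mul_assoc]
      have e3 : β * ((k : Matrix (Fin n) (Fin n) F) * b) * ((k : Matrix (Fin n) (Fin n) F) * b) =
          (k : Matrix (Fin n) (Fin n) F) * (k : Matrix (Fin n) (Fin n) F) * (β * b * b) := by
        rw [← mul_assoc β, c3, mul_assoc (k : Matrix (Fin n) (Fin n) F) β b, mul_assoc (k : Matrix (Fin n) (Fin n) F) (β * b),
          ← mul_assoc (β * b), c6]
        simp only [mul_assoc]
      rw [e1, e2, e3, mul_add, mul_add]
    rw [hkk, h0, mul_zero, map_zero]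
  · rw [LinearMap.finrank_range_of_inj hφinj, hK.finrank_eq, finrank_top, Module.finrank_fintype_fun_eq_card,
      Fintype.card_fin, hn]

/-- F5-HALF -/
theorem efield_half {r : ℕ} (hn : n = 2 * r) (hr : 0 < r) (Q : QuadraticForm F (Fin n → F))
    (hQ : (QuadraticMap.polarBilin Q).Nondegenerate) {G : Subgroup (GL (Fin n) F)} (hG : Irr G)
    (hGO : G ≤ isometryGroup F (⇑Q)) (K : Subalgebra F (Matrix (Fin n) (Fin n) F)) (hK : IsFieldSubalgebra r K)
    (hsa : ∀ k ∈ K, oadj (⇑Q) k = k) (hGK : G ≤ subalgebraNormalizer K) :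
    IsPlusTypeOn (⇑Q) ⊤ ∨
      ∃ K₂ : Subalgebra F (Matrix (Fin n) (Fin n) F), IsFieldSubalgebra 2 K₂ ∧ (∀ k ∈ K₂, oadj (⇑Q) k ∈ K₂) ∧
        G ≤ subalgebraNormalizer K₂ := by
  classical
  have hstar : ∀ k ∈ K, oadj (⇑Q) k ∈ K := fun k hk => by rw [hsa k hk]; exact hk
  -- coordinates
  obtain ⟨ℓ, v, w, s, β, hc⟩ : ∃ (ℓ : Matrix (Fin n) (Fin n) F →ₗ[F] F) (v w : Fin n → F)
      (s β : Matrix (Fin n) (Fin n) F), EFieldCoord (⇑Q) K ℓ v w s β := by
    by_cases h2 : (2 : F) = 0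
    · have halt := efield_sa_alt h2 Q hQ hG hGO (by omega : r < n) K hK hsa hGK
      exact efield_coord_even h2 hn hr Q hQ K hK hsa halt
    · exact efield_coord_odd h2 hn hr Q hQ K hK hsa
  by_cases haniso : ∀ a ∈ K, ∀ b ∈ K, a * a + s * a * b + β * b * b = 0 → a = 0 ∧ b = 0
  swap
  · -- isotropic
    left
    push Not at haniso
    obtain ⟨a, ha, b, hb, h0, hab⟩ := haniso
    have hab' : a ≠ 0 ∨ b ≠ 0 := by
      by_contra hcon
      push Not at hcon
      exact hab hcon.1 hcon.2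
    exact e10mf5half_iso hn Q K hK hc a b ha hb hab' h0
  · -- anisotropic
    right
    obtain ⟨j, hjK, hj⟩ := efield_j Q K hK hc
    have hjsq := efield_j_sq Q K hK hc j hjK hj
    obtain ⟨L, hL, hKL, hjL, hLmem⟩ := efield_L Q K hK hc haniso j hjK hj hjsq
    have hgen := efield_gen_mem hr Q K hK hc haniso j hjK hj
    have hgj := efield_gen_j hr Q K hK hc haniso j hjK hj
    obtain ⟨hGL, hLstar⟩ := efield_L_norm Q hQ K hstar L hKL j hjL hLmem hgen hgj hGO hGK
    obtain ⟨K₂, hK₂, -, hnorm, hK₂star⟩ := efield_sub Q hQ L hL (by omega) hLstar 2 ⟨r, rfl⟩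
    exact ⟨K₂, hK₂, hK₂star, hGL.trans hnorm⟩

end Cfsg.Agent.Lib.Helper16.E10M
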