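import Mathlib
import Cfsg.Prelude.Def_GeometricClasses
import Cfsg.Agent.Lib.Helper27.ASC.Defs
import Cfsg.Agent.Lib.helper23.ASCO.Defs
import Cfsg.Agent.Lib.Helper19.ASG.Defs
import Cfsg.Agent.Lib.Helper1.ASGCLIF3
import Cfsg.Agent.Lib.Helper25.ASO.Defs
import Cfsg.Agent.Lib.helper23.ASE.Defs
import Cfsg.Agent.Lib.Helper25.ASOADJ
import Cfsg.Agent.Lib.Helper25.E10MFKER
import Cfsg.Agent.Lib.Helper25.E10MFNORM
import Cfsg.Agent.Lib.Helper20.E10MFUNISIMcore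

set_option autoImplicit false
set_option linter.unusedVariables false
set_option linter.unusedSectionVars false

/-!
# Project E10M, FIELD block, piece F-UNISIM (helper20) : `efield_unitary_sim` VERBATIM vs `Helper20/ASE10M/FieldSkel.lean.txt`
(= `e10mfunisim_core` + helper25's `efield_norm`, `efield_kernel_top`).
-/

namespace Cfsg.Agent.Lib.Helper16.E10M

open Cfsg Cfsg.Geo Cfsg.Agent.Lib.Helper27.ASC Cfsg.Agent.Lib.helper23.ASCO Cfsg.Agent.Lib.Helper19.ASG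
  Cfsg.Agent.Lib.Helper25.ASO
open scoped MatrixGroups Matrix Kronecker

variable {n : ℕ} {F : Type*} [Field F] [Fintype F]

/-- F-UNISIM -/
theorem efield_unitary_sim (hn : 3 ≤ n) (Q : QuadraticForm F (Fin n → F))
    (hQ : (QuadraticMap.polarBilin Q).Nondegenerate) {G : Subgroup (GL (Fin n) F)} (hG : Irr G)
    (hGO : G ≤ isometryGroup F (⇑Q)) (K : Subalgebra F (Matrix (Fin n) (Fin n) F)) (hK : IsFieldSubalgebra 2 K)
    (hstar : ∀ k ∈ K, oadj (⇑Q) k ∈ K) (hnsa : ¬ ∀ k ∈ K, oadj (⇑Q) k = k) (hGK : G ≤ subalgebraNormalizer K) :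
    ∀ k ∈ K, ∃ c : F, ∀ v : Fin n → F, Q (k *ᵥ v) = c * Q v :=
  e10mfunisim_core hn Q hQ hGO K hK hstar hGK (efield_norm Q hQ K hK hstar hnsa)
    (fun W hinv Φ hW hcard => efield_kernel_top hG W hinv Φ hW hcard)

end Cfsg.Agent.Lib.Helper16.E10M
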