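import Mathlib
import Cfsg.Prelude.Def_GeometricClasses
import Cfsg.Agent.Lib.Helper27.ASC.Defs
import Cfsg.Agent.Lib.helper23.ASCO.Defs
import Cfsg.Agent.Lib.Helper19.ASG.Defs
import Cfsg.Agent.Lib.Helper1.ASGCLIF3
import Cfsg.Agent.Lib.Helper25.ASO.Defs
import Cfsg.Agent.Lib.helper23.ASE.Defs
import Cfsg.Agent.Lib.Helper25.ASOADJ
import Cfsg.Agent.Lib.Helper11.E10MFSAALT
import Cfsg.Agent.Lib.Helper11.E10MFSADVD
import Cfsg.Agent.Lib.Helper20.E10MFUNISIM
import Cfsg.Agent.Lib.helper23.ASCOMain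

set_option autoImplicit false
set_option linter.unusedVariables false
set_option linter.unusedSectionVars false

/-!
# Project E10M, FIELD block, piece F-TWO (helper20) : `efield_two` VERBATIM vs `Helper20/ASE10M/FieldSkel.lean.txt`.
Extras: `e10mftwo_sa_iff` (`IsSelfAdjointFor (polar Q) K ↔ ∀ k ∈ K, oadj Q k = k`), `e10mftwo_adjClosed`.
-/

namespace Cfsg.Agent.Lib.Helper16.E10M

open Cfsg Cfsg.Geo Cfsg.Agent.Lib.Helper27.ASC Cfsg.Agent.Lib.helper23.ASCO Cfsg.Agent.Lib.Helper19.ASG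
  Cfsg.Agent.Lib.Helper25.ASO
open scoped MatrixGroups Matrix Kronecker

variable {n : ℕ} {F : Type*} [Field F] [Fintype F]

/-- self-adjointness in the two languages -/
theorem e10mftwo_sa_iff (Q : QuadraticForm F (Fin n → F)) (hQ : (QuadraticMap.polarBilin Q).Nondegenerate)
    (K : Subalgebra F (Matrix (Fin n) (Fin n) F)) :
    IsSelfAdjointFor (QuadraticMap.polar (⇑Q)) K ↔ ∀ k ∈ K, oadj (⇑Q) k = k := by
  constructor
  · intro h k hk
    exact (oadj_unique Q hQ k k (h k hk)).symm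
  · intro h k hk u v
    have := oadj_spec Q hQ k u v
    rwa [h k hk] at this

/-- adjoint-closedness from `oadj`-closedness -/
theorem e10mftwo_adjClosed (Q : QuadraticForm F (Fin n → F)) (hQ : (QuadraticMap.polarBilin Q).Nondegenerate)
    (K : Subalgebra F (Matrix (Fin n) (Fin n) F)) (hstar : ∀ k ∈ K, oadj (⇑Q) k ∈ K) :
    IsAdjointClosedFor (QuadraticMap.polar (⇑Q)) K :=
  fun k hk => ⟨oadj (⇑Q) k, hstar k hk, fun u v => oadj_spec Q hQ k u v⟩

/-- F-TWO -/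
theorem efield_two (hn : 3 ≤ n) (h4 : ¬ 4 ∣ n) (Q : QuadraticForm F (Fin n → F))
    (hQ : (QuadraticMap.polarBilin Q).Nondegenerate) {G : Subgroup (GL (Fin n) F)} (hG : Irr G)
    (hGO : G ≤ isometryGroup F (⇑Q)) (K : Subalgebra F (Matrix (Fin n) (Fin n) F)) (hK : IsFieldSubalgebra 2 K)
    (hstar : ∀ k ∈ K, oadj (⇑Q) k ∈ K) (hGK : G ≤ subalgebraNormalizer K) :
    (Odd (Fintype.card F) ∧ IsSelfAdjointFor (QuadraticMap.polar (⇑Q)) K) ∨
    (IsAdjointClosedFor (QuadraticMap.polar (⇑Q)) K ∧ ¬ IsSelfAdjointFor (QuadraticMap.polar (⇑Q)) K ∧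
      ∀ k ∈ K, ∃ c : F, ∀ v : Fin n → F, Q (k *ᵥ v) = c * Q v) := by
  by_cases hsa : ∀ k ∈ K, oadj (⇑Q) k = k
  · left
    refine ⟨?_, (e10mftwo_sa_iff Q hQ K).mpr hsa⟩
    by_cases h2 : (2 : F) = 0
    · exfalso
      have halt := efield_sa_alt h2 Q hQ hG hGO (by omega : 2 < n) K hK hsa hGK
      have hdvd := efield_sa_dvd Q hQ K hK hsa halt
      exact h4 (by simpa using hdvd)
    · exact asco_odd_card h2
  · right
    refine ⟨e10mftwo_adjClosed Q hQ K hstar, fun h => hsa ((e10mftwo_sa_iff Q hQ K).mp h), ?_⟩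
    exact efield_unitary_sim hn Q hQ hG hGO K hK hstar hsa hGK

end Cfsg.Agent.Lib.Helper16.E10M
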