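import Mathlib
import Cfsg.Prelude.Def_GeometricClasses
import Cfsg.Agent.Lib.Helper27.ASC.Defs
import Cfsg.Agent.Lib.Helper19.ASG.Defs
import Cfsg.Agent.Lib.Helper9.ASGD2T.Defs
import Cfsg.Agent.Lib.Helper9.ASGD2TF.Defs

set_option autoImplicit false
set_option linter.unusedVariables false
set_option linter.unusedSectionVars false

/-!
# Block D2TF, piece FT-CONJ : the abstract adjoint commutes with conjugation by an isometry (verbatim)
-/

namespace Cfsg.Agent.Lib.Helper19.ASG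

open Cfsg Cfsg.Geo Cfsg.Agent.Lib.Helper27.ASC
open scoped MatrixGroups Matrix

variable {n : ℕ} {F : Type*} [Field F]

/-- for an isometry `h` (`star h * h = 1`) the adjoint of `h` is `h⁻¹` -/
theorem asgd2tfconj_star_eq_inv {σ : F →+* F} {star : Matrix (Fin n) (Fin n) F → Matrix (Fin n) (Fin n) F}
    (hs : IsStarOp σ star) (h : GL (Fin n) F)
    (hh : star (h : Matrix (Fin n) (Fin n) F) * (h : Matrix (Fin n) (Fin n) F) = 1) :
    star (h : Matrix (Fin n) (Fin n) F) = ((h⁻¹ : GL (Fin n) F) : Matrix (Fin n) (Fin n) F) := by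
  have e : (h : Matrix (Fin n) (Fin n) F) * ((h⁻¹ : GL (Fin n) F) : Matrix (Fin n) (Fin n) F) = 1 := by
    rw [← Units.val_mul, mul_inv_cancel, Units.val_one]
  calc star (h : Matrix (Fin n) (Fin n) F)
      = star (h : Matrix (Fin n) (Fin n) F) *
          ((h : Matrix (Fin n) (Fin n) F) * ((h⁻¹ : GL (Fin n) F) : Matrix (Fin n) (Fin n) F)) := by
        rw [e, mul_one]
    _ = ((h⁻¹ : GL (Fin n) F) : Matrix (Fin n) (Fin n) F) := by rw [← mul_assoc, hh, one_mul]

/-- for an isometry `h` the adjoint of `h⁻¹` is `h` -/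
theorem asgd2tfconj_star_inv {σ : F →+* F} {star : Matrix (Fin n) (Fin n) F → Matrix (Fin n) (Fin n) F}
    (hs : IsStarOp σ star) (h : GL (Fin n) F)
    (hh : star (h : Matrix (Fin n) (Fin n) F) * (h : Matrix (Fin n) (Fin n) F) = 1) :
    star ((h⁻¹ : GL (Fin n) F) : Matrix (Fin n) (Fin n) F) = (h : Matrix (Fin n) (Fin n) F) := by
  have e : (h : Matrix (Fin n) (Fin n) F) * ((h⁻¹ : GL (Fin n) F) : Matrix (Fin n) (Fin n) F) = 1 := by
    rw [← Units.val_mul, mul_inv_cancel, Units.val_one]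
  have e' : ((h⁻¹ : GL (Fin n) F) : Matrix (Fin n) (Fin n) F) * (h : Matrix (Fin n) (Fin n) F) = 1 := by
    rw [← Units.val_mul, inv_mul_cancel, Units.val_one]
  have h1 : star ((h⁻¹ : GL (Fin n) F) : Matrix (Fin n) (Fin n) F) *
      ((h⁻¹ : GL (Fin n) F) : Matrix (Fin n) (Fin n) F) = 1 := by
    calc star ((h⁻¹ : GL (Fin n) F) : Matrix (Fin n) (Fin n) F) *
          ((h⁻¹ : GL (Fin n) F) : Matrix (Fin n) (Fin n) F)
        = star ((h⁻¹ : GL (Fin n) F) : Matrix (Fin n) (Fin n) F) * star (h : Matrix (Fin n) (Fin n) F) := by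
          rw [asgd2tfconj_star_eq_inv hs h hh]
      _ = star ((h : Matrix (Fin n) (Fin n) F) * ((h⁻¹ : GL (Fin n) F) : Matrix (Fin n) (Fin n) F)) :=
          (hs.mul _ _).symm
      _ = 1 := by rw [e, hs.one]
  calc star ((h⁻¹ : GL (Fin n) F) : Matrix (Fin n) (Fin n) F)
      = star ((h⁻¹ : GL (Fin n) F) : Matrix (Fin n) (Fin n) F) *
          (((h⁻¹ : GL (Fin n) F) : Matrix (Fin n) (Fin n) F) * (h : Matrix (Fin n) (Fin n) F)) := by
        rw [e', mul_one]
    _ = (h : Matrix (Fin n) (Fin n) F) := by rw [← mul_assoc, h1, one_mul]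

/-- FT-CONJ : the adjoint commutes with conjugation by an isometry -/
theorem star_conj {σ : F →+* F} {star : Matrix (Fin n) (Fin n) F → Matrix (Fin n) (Fin n) F}
    (hs : IsStarOp σ star) (h : GL (Fin n) F)
    (hh : star (h : Matrix (Fin n) (Fin n) F) * (h : Matrix (Fin n) (Fin n) F) = 1)
    (x : Matrix (Fin n) (Fin n) F) :
    star ((h : Matrix (Fin n) (Fin n) F) * x * ((h⁻¹ : GL (Fin n) F) : Matrix (Fin n) (Fin n) F)) =
      (h : Matrix (Fin n) (Fin n) F) * star x * ((h⁻¹ : GL (Fin n) F) : Matrix (Fin n) (Fin n) F) := by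
  rw [hs.mul, hs.mul, asgd2tfconj_star_inv hs h hh, asgd2tfconj_star_eq_inv hs h hh, mul_assoc]

end Cfsg.Agent.Lib.Helper19.ASG
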