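import Mathlib
import Cfsg.Prelude.Def_GeometricClasses
import Cfsg.Agent.Lib.Helper27.ASC.Defs
import Cfsg.Agent.Lib.Helper19.ASG.Defs
import Cfsg.Agent.Lib.Helper9.ASGD2T.Defs
import Cfsg.Agent.Lib.Helper9.ASGD2TF.Defs
import Cfsg.Agent.Lib.Helper9.ASGD2TASM1
import Cfsg.Agent.Lib.Helper20.ASGD2TFCONJ

set_option autoImplicit false
set_option linter.unusedVariables false
set_option linter.unusedSectionVars false

/-!
# Block D2TF, piece FT-STARD : the abstract adjoint preserves the double commutant of a group of isometries (verbatim)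
-/

namespace Cfsg.Agent.Lib.Helper19.ASG

open Cfsg Cfsg.Geo Cfsg.Agent.Lib.Helper27.ASC
open scoped MatrixGroups Matrix

variable {n : ℕ} {F : Type*} [Field F]

/-- the adjoint maps the commutant of a group of isometries into itself -/
theorem asgd2tfstard_centAlg {σ : F →+* F} {star : Matrix (Fin n) (Fin n) F → Matrix (Fin n) (Fin n) F}
    (hs : IsStarOp σ star) {K : Subgroup (GL (Fin n) F)}
    (hK : ∀ x ∈ K, star (x : Matrix (Fin n) (Fin n) F) * (x : Matrix (Fin n) (Fin n) F) = 1)
    {c : Matrix (Fin n) (Fin n) F} (hc : c ∈ centAlg K) : star c ∈ centAlg K := by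
  rw [asgd2tasm_mem_centAlg] at hc ⊢
  intro x hx
  have hx' : x⁻¹ ∈ K := K.inv_mem hx
  have h1 := hc x⁻¹ hx'
  have h2 := congrArg star h1
  rw [hs.mul, hs.mul, asgd2tfconj_star_inv hs x (hK x hx)] at h2
  exact h2.symm

/-- FT-STARD : the adjoint preserves the double commutant of a group of isometries (`star x = x⁻¹` on `K`, so `star` maps
`centAlg K` into itself, onto by `invol`; then the same for its centraliser) -/
theorem star_dcomm {σ : F →+* F} {star : Matrix (Fin n) (Fin n) F → Matrix (Fin n) (Fin n) F}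
    (hs : IsStarOp σ star) {K : Subgroup (GL (Fin n) F)}
    (hK : ∀ x ∈ K, star (x : Matrix (Fin n) (Fin n) F) * (x : Matrix (Fin n) (Fin n) F) = 1)
    {Y : Matrix (Fin n) (Fin n) F} (hY : Y ∈ dcomm K) : star Y ∈ dcomm K := by
  rw [asgd2tasm_mem_dcomm] at hY ⊢
  intro c hc
  have h1 := hY (star c) (asgd2tfstard_centAlg hs hK hc)
  have h2 := congrArg star h1
  rw [hs.mul, hs.mul, hs.invol] at h2
  exact h2.symm

end Cfsg.Agent.Lib.Helper19.ASG
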