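import Mathlib
import Cfsg.Prelude.Def_GeometricClasses
import Cfsg.Agent.Lib.Helper27.ASC.Defs
import Cfsg.Agent.Lib.helper23.ASCO.Defs
import Cfsg.Agent.Lib.Lead.Reindex

/-!
# Project ASCO, piece BASIC: `Ω ⊓ scalars = ⊥` in odd dimension (verbatim vs `ASCO/Skel`)
-/

set_option autoImplicit false
set_option linter.unusedVariables false
set_option linter.unusedSectionVars false

namespace Cfsg.Agent.Lib.helper23.ASCO

open Cfsg Cfsg.Geo Cfsg.Agent.Lib.Helper27.ASC
open scoped MatrixGroups Matrix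

variable {n : ℕ} {F : Type*} [Field F] [Fintype F]

/-- membership in the isometry group, unfolded -/
theorem ascobasic_mem_iso {ι : Type} [Fintype ι] [DecidableEq ι] {F : Type*} [Field F]
    (Q : (ι → F) → F) (g : GL ι F) :
    g ∈ isometryGroup F Q ↔ ∀ u : ι → F, Q ((g : Matrix ι ι F) *ᵥ u) = Q u := by
  constructor
  · intro h u
    exact h u u
  · intro h u v
    exact h u

/-- a non-degenerate quadratic form on a non-zero space takes a non-zero value -/
theorem ascobasic_exists_ne_zero (hn : 0 < n) (Q : QuadraticForm F (Fin n → F))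
    (hQ : (QuadraticMap.polarBilin Q).Nondegenerate) : ∃ v : Fin n → F, Q v ≠ 0 := by
  by_contra hcon
  push_neg at hcon
  have h0 : ∀ v w : Fin n → F, QuadraticMap.polarBilin Q v w = 0 := by
    intro v w
    rw [QuadraticMap.polarBilin_apply_apply, QuadraticMap.polar, hcon, hcon, hcon]
    simp
  have hv : (Pi.single (⟨0, hn⟩ : Fin n) (1 : F) : Fin n → F) = 0 := by
    apply hQ.1
    intro w
    exact h0 _ w
  have := congrFun hv ⟨0, hn⟩
  simp at this

/-- BASIC : in odd dimension `Ω` contains no scalar but `1`. -/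
theorem omega_inf_scalars (hodd : Odd n) (h2 : (2 : F) ≠ 0) (Q : QuadraticForm F (Fin n → F))
    (hQ : (QuadraticMap.polarBilin Q).Nondegenerate) :
    omegaGL (⇑Q) ⊓ scalars (Fin n) F = ⊥ := by
  rw [eq_bot_iff]
  intro g hg
  rw [Subgroup.mem_bot]
  obtain ⟨hgO, hgS⟩ := hg
  obtain ⟨c, hc⟩ := (mem_scalars_iff g).mp hgS
  have hiso := (ascobasic_mem_iso (⇑Q) g).mp (omega_le_iso (⇑Q) hgO)
  have hpos : 0 < n := hodd.pos
  obtain ⟨v, hv⟩ := ascobasic_exists_ne_zero hpos Q hQ
  -- c² = 1
  have hc2 : (c : F) * (c : F) = 1 := by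
    have h1 := hiso v
    rw [hc, Matrix.smul_mulVec, Matrix.one_mulVec, QuadraticMap.map_smul, smul_eq_mul] at h1
    have h3 : ((c : F) * (c : F) - 1) * Q v = 0 := by
      rw [sub_mul, one_mul, h1, sub_self]
    rcases mul_eq_zero.mp h3 with h | h
    · exact sub_eq_zero.mp h
    · exact absurd h hv
  -- det g = c ^ n = 1
  have hdet : (c : F) ^ n = 1 := by
    have h1 : g ∈ specialLinear (Fin n) F := omega_le_sl (⇑Q) hgO
    unfold specialLinear at h1
    rw [MonoidHom.mem_ker] at h1
    have h3 : ((Matrix.GeneralLinearGroup.det g : Fˣ) : F) = (g : Matrix (Fin n) (Fin n) F).det := rfl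
    rw [h1, hc, Matrix.det_smul, Matrix.det_one, mul_one, Fintype.card_fin] at h3
    exact h3.symm
  obtain ⟨k, hk⟩ := hodd
  have hc1 : (c : F) = 1 := by
    rw [hk, pow_succ, pow_mul, pow_two, hc2, one_pow, one_mul] at hdet
    exact hdet
  apply Units.ext
  rw [hc, hc1, one_smul]
  rfl

end Cfsg.Agent.Lib.helper23.ASCO
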