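import Mathlib
import Cfsg.Prelude.Def_GeometricClasses
import Cfsg.Agent.Lib.Helper27.ASC.Defs
import Cfsg.Agent.Lib.helper23.ASCO.Defs
import Cfsg.Agent.Lib.Lead.Reindex

/-!
# Project ASCO, piece ODDFIX: in odd dimension a commutative group of isometries of determinant one
is not irreducible (verbatim vs `ASCO/Skel`)
-/

set_option autoImplicit false
set_option linter.unusedVariables false
set_option linter.unusedSectionVars false

namespace Cfsg.Agent.Lib.helper23.ASCO

open Cfsg Cfsg.Geo Cfsg.Agent.Lib.Helper27.ASC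
open scoped MatrixGroups Matrix

variable {n : ℕ} {F : Type*} [Field F] [Fintype F]

/-- an isometry of `Q` preserves the Gram matrix of the polar form -/
theorem ascooddfix_gram {n : ℕ} {F : Type*} [Field F] (Q : QuadraticForm F (Fin n → F))
    (g : Matrix (Fin n) (Fin n) F) (hg : ∀ u : Fin n → F, Q (g *ᵥ u) = Q u) :
    g.transpose * LinearMap.BilinForm.toMatrix' (QuadraticMap.polarBilin Q) * g =
      LinearMap.BilinForm.toMatrix' (QuadraticMap.polarBilin Q) := by
  have h1 : LinearMap.BilinForm.comp (QuadraticMap.polarBilin Q) (Matrix.toLin' g)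
      (Matrix.toLin' g) = QuadraticMap.polarBilin Q := by
    apply LinearMap.ext
    intro u
    apply LinearMap.ext
    intro v
    rw [LinearMap.BilinForm.comp_apply, QuadraticMap.polarBilin_apply_apply,
      QuadraticMap.polarBilin_apply_apply, Matrix.toLin'_apply, Matrix.toLin'_apply]
    unfold QuadraticMap.polar
    rw [← Matrix.mulVec_add, hg, hg, hg]
  have h2 := LinearMap.BilinForm.toMatrix'_comp (QuadraticMap.polarBilin Q) (Matrix.toLin' g)
    (Matrix.toLin' g)
  rw [h1, LinearMap.toMatrix'_toLin'] at h2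
  exact h2.symm

/-- an isometry of determinant one in odd dimension has the eigenvalue `1` -/
theorem ascooddfix_det {n : ℕ} {F : Type*} [Field F] (hodd : Odd n) (h2 : (2 : F) ≠ 0)
    (G g : Matrix (Fin n) (Fin n) F) (hG : G.det ≠ 0) (hdet : g.det = 1)
    (h : g.transpose * G * g = G) : (g - 1).det = 0 := by
  have hgu : IsUnit g.det := by rw [hdet]; exact isUnit_one
  have h1 : g.transpose * G = G * g⁻¹ := by
    have h0 : g.transpose * G * g * g⁻¹ = G * g⁻¹ := by rw [h]
    rw [Matrix.mul_assoc, Matrix.mul_nonsing_inv g hgu, Matrix.mul_one] at h0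
    exact h0
  have h3 : (g - 1).transpose * G = G * (g⁻¹ - 1) := by
    rw [Matrix.transpose_sub, Matrix.transpose_one, Matrix.sub_mul, Matrix.one_mul, h1,
      Matrix.mul_sub, Matrix.mul_one]
  have h4 : g⁻¹ - 1 = -(g⁻¹ * (g - 1)) := by
    rw [Matrix.mul_sub, Matrix.nonsing_inv_mul g hgu, Matrix.mul_one]
    abel
  have h5 := congrArg Matrix.det h3
  rw [Matrix.det_mul, Matrix.det_mul, Matrix.det_transpose, h4, Matrix.det_neg, Matrix.det_mul,
    Matrix.det_nonsing_inv, hdet, Fintype.card_fin, hodd.neg_one_pow] at h5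
  have h6 : (g - 1).det * G.det = -((g - 1).det * G.det) := by
    rw [Ring.inverse_one] at h5
    nth_rewrite 1 [h5]
    ring
  have h7 : (2 : F) * ((g - 1).det * G.det) = 0 := by
    have : (g - 1).det * G.det + (g - 1).det * G.det = 0 := by
      nth_rewrite 1 [h6]
      exact neg_add_cancel _
    rw [two_mul]
    exact this
  rcases mul_eq_zero.mp h7 with h8 | h8
  · exact absurd h8 h2
  · rcases mul_eq_zero.mp h8 with h9 | h9
    · exact h9
    · exact absurd h9 hG

/-- ODDFIX : in odd dimension a commutative group of isometries of determinant one is not irreducible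
(every such isometry has the eigenvalue `1`). -/
theorem comm_irr_iso_false (hodd : Odd n) (hn : 3 ≤ n) (h2 : (2 : F) ≠ 0)
    (Q : QuadraticForm F (Fin n → F)) (hQ : (QuadraticMap.polarBilin Q).Nondegenerate)
    {N : Subgroup (GL (Fin n) F)} (hNO : N ≤ isometryGroup F (⇑Q))
    (hNS : N ≤ specialLinear (Fin n) F) (hc : ∀ x ∈ N, ∀ y ∈ N, x * y = y * x) (h1 : Irr N) :
    False := by
  have hGdet : (LinearMap.BilinForm.toMatrix' (QuadraticMap.polarBilin Q)).det ≠ 0 :=
    Matrix.nondegenerate_iff_det_ne_zero.mp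
      (LinearMap.BilinForm.nondegenerate_toMatrix'_iff.mpr hQ)
  -- every element of `N` is trivial
  have htriv : ∀ g ∈ N, (g : Matrix (Fin n) (Fin n) F) = 1 := by
    intro g hg
    have hiso : ∀ u : Fin n → F, Q ((g : Matrix (Fin n) (Fin n) F) *ᵥ u) = Q u := by
      intro u
      exact hNO hg u u
    have hdet : (g : Matrix (Fin n) (Fin n) F).det = 1 := by
      have h3 := hNS hg
      unfold specialLinear at h3
      rw [MonoidHom.mem_ker] at h3
      have h4 : ((Matrix.GeneralLinearGroup.det g : Fˣ) : F) =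
          (g : Matrix (Fin n) (Fin n) F).det := rfl
      rw [h3] at h4
      exact h4.symm
    have hd0 := ascooddfix_det hodd h2 _ _ hGdet hdet (ascooddfix_gram Q _ hiso)
    obtain ⟨v, hv0, hv⟩ := Matrix.exists_mulVec_eq_zero_iff.mpr hd0
    -- the fixed space of `g`
    let W : Submodule F (Fin n → F) :=
      LinearMap.ker (Matrix.toLin' ((g : Matrix (Fin n) (Fin n) F) - 1))
    have hmemW : ∀ w : Fin n → F, w ∈ W ↔ (g : Matrix (Fin n) (Fin n) F) *ᵥ w = w := by
      intro w
      show Matrix.toLin' ((g : Matrix (Fin n) (Fin n) F) - 1) w = 0 ↔ _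
      rw [Matrix.toLin'_apply, Matrix.sub_mulVec, Matrix.one_mulVec, sub_eq_zero]
    have hWstab : ∀ s ∈ matrixSet N, W.map (Matrix.toLin' s) ≤ W := by
      rintro s ⟨x, hx, rfl⟩ _ ⟨w, hw, rfl⟩
      show Matrix.toLin' (x : Matrix (Fin n) (Fin n) F) w ∈ W
      rw [hmemW]
      have hw' := (hmemW w).mp hw
      rw [Matrix.toLin'_apply, Matrix.mulVec_mulVec]
      have hcomm : (g : Matrix (Fin n) (Fin n) F) * (x : Matrix (Fin n) (Fin n) F) =
          (x : Matrix (Fin n) (Fin n) F) * (g : Matrix (Fin n) (Fin n) F) := by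
        have := hc g hg x hx
        rw [← Units.val_mul, this, Units.val_mul]
      rw [hcomm, ← Matrix.mulVec_mulVec, hw']
    rcases h1 W hWstab with hW | hW
    · exfalso
      apply hv0
      have : v ∈ W := by
        rw [hmemW]
        rw [Matrix.sub_mulVec, Matrix.one_mulVec, sub_eq_zero] at hv
        exact hv
      rw [hW, Submodule.mem_bot] at this
      exact this
    · have hall : ∀ w : Fin n → F, (g : Matrix (Fin n) (Fin n) F) *ᵥ w = w := by
        intro w
        rw [← hmemW, hW]
        exact Submodule.mem_top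
      apply Matrix.toLin'.injective
      apply LinearMap.ext
      intro w
      rw [Matrix.toLin'_apply, hall, Matrix.toLin'_one, LinearMap.id_apply]
  -- the line spanned by the first basis vector is stable
  have hpos : 0 < n := by omega
  let e0 : Fin n → F := Pi.single (⟨0, hpos⟩ : Fin n) 1
  let L : Submodule F (Fin n → F) := Submodule.span F {e0}
  have hLstab : ∀ s ∈ matrixSet N, L.map (Matrix.toLin' s) ≤ L := by
    rintro s ⟨x, hx, rfl⟩ _ ⟨w, hw, rfl⟩
    show Matrix.toLin' (x : Matrix (Fin n) (Fin n) F) w ∈ L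
    rw [Matrix.toLin'_apply, htriv x hx, Matrix.one_mulVec]
    exact hw
  rcases h1 L hLstab with hL | hL
  · have : e0 ∈ L := Submodule.subset_span rfl
    rw [hL, Submodule.mem_bot] at this
    have h3 := congrFun this ⟨0, hpos⟩
    simp [e0] at h3
  · have h1n : (⟨1, by omega⟩ : Fin n) ≠ ⟨0, hpos⟩ := by
      intro h
      have := congrArg Fin.val h
      simp at this
    have : (Pi.single (⟨1, by omega⟩ : Fin n) (1 : F) : Fin n → F) ∈ L := by
      rw [hL]; exact Submodule.mem_top
    obtain ⟨a, ha⟩ := Submodule.mem_span_singleton.mp this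
    have h3 := congrFun ha ⟨1, by omega⟩
    simp [e0, Pi.single_apply, h1n] at h3

end Cfsg.Agent.Lib.helper23.ASCO
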