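import Mathlib
import Cfsg.Agent.Lib.Lead.STB.Defs
import Cfsg.Agent.Lib.Lead.STB.Defs2
import Cfsg.Agent.Lib.Lead.STB.Defs3
import Cfsg.Agent.Lib.Lead.STB.Defs4
import Cfsg.Agent.Lib.Lead.STB.Sub
import Cfsg.Agent.Lib.Helper20.STBH1
import Cfsg.Agent.Lib.Helper20.STBH2
import Cfsg.Agent.Lib.Helper16.STBH5
import Cfsg.Agent.Lib.Helper21.STBB3

/-!
# Project STB (designer lead), rows X3 + X4 (VERBATIM from `Lead/STB/Skel3.lean.txt`): functoriality of `XQ`, the spin element.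
-/

set_option autoImplicit false
set_option linter.unusedSectionVars false

namespace Cfsg.Agent.Lib.Lead.STB

open Matrix Cfsg.Agent.Lib.helper15.St2 Cfsg.Agent.Lib.helper3.STC Cfsg.Agent.Lib.Lead.STD

universe v w

namespace SysB

section X3

variable {K : Type*} [Field K] {ι : Type*} {G : Type*} [Group G] (S : SysB K ι G)

/-- X3 [S]  `Subgroup.map_closure` / `MonoidHom.map_closure`; the generating set maps onto the generating set (model SPN T0 `SysD.XQ_map`, `Helper5.SPNT0`). -/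
theorem XQ_map {H : Type*} [Group H] (f : G →* H) (Q : ι ⊕ ι → ι ⊕ ι → Prop) (Qs : ι ⊕ ι → Prop) : (S.map f).XQ Q Qs = (S.XQ Q Qs).map f := by
  unfold SysB.XQ
  rw [MonoidHom.map_closure]
  congr 1
  ext g
  constructor
  · rintro (⟨a, b, t, h1, h2, h3, rfl⟩ | ⟨a, t, h1, rfl⟩)
    · exact ⟨S.x a b t, Or.inl ⟨a, b, t, h1, h2, h3, rfl⟩, rfl⟩
    · exact ⟨S.xs a t, Or.inr ⟨a, t, h1, rfl⟩, rfl⟩
  · rintro ⟨y, (⟨a, b, t, h1, h2, h3, rfl⟩ | ⟨a, t, h1, rfl⟩), rfl⟩
    · exact Or.inl ⟨a, b, t, h1, h2, h3, rfl⟩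
    · exact Or.inr ⟨a, t, h1, rfl⟩

/-- X4 [S-M]  the spin element: does not depend on the index (`b = a`; `b = ng a`: H1 `hs_swap`, `(-1)⁻¹ = -1`; else H6), is an involution (H1 `hs_mul`, `hs_one`) and is central (H2 `isMon_hs a (-1)`: `σ = 1`, `dhb a (-1) k = 1`, `d0 = 1`,
so it commutes with all the generators; closure induction on `hgen`). -/
theorem hs_neg_one_eq_all [Finite K] [DecidableEq ι] (a b : ι ⊕ ι) : S.hs a (-1) = S.hs b (-1) := by
  by_cases h1 : a = b
  · rw [h1]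
  by_cases h2 : a = ng b
  · rw [h2, S.hs_swap b (-1) (neg_ne_zero.2 one_ne_zero)]
    congr 1
    rw [inv_neg, inv_one]
  exact S.hs_neg_one_eq h1 h2

theorem hs_neg_one_sq [Finite K] (a : ι ⊕ ι) : S.hs a (-1) * S.hs a (-1) = 1 := by
  classical
  rw [S.hs_mul a (-1) (-1) (neg_ne_zero.2 one_ne_zero) (neg_ne_zero.2 one_ne_zero)]
  have : (-1 : K) * (-1) = 1 := by ring
  rw [this]
  exact S.hs_one a

theorem stbx4_dhb_neg_one [DecidableEq ι] (a k : ι ⊕ ι) : dhb a (-1 : K) k = 1 := by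
  unfold dhb
  split_ifs <;> simp

theorem hs_neg_one_comm [Finite K] [DecidableEq ι] (hgen : S.XQ (fun _ _ => True) (fun _ => True) = ⊤) (a : ι ⊕ ι) (g : G) : g * S.hs a (-1) = S.hs a (-1) * g := by
  have hm := S.isMon_hs a (-1) (neg_ne_zero.2 one_ne_zero)
  obtain ⟨⟨-, hl⟩, -, -, -, hsx⟩ := hm
  set z := S.hs a (-1) with hz
  have hg : g ∈ S.XQ (fun _ _ => True) (fun _ => True) := by rw [hgen]; trivial
  unfold SysB.XQ at hg
  induction hg using Subgroup.closure_induction with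
  | mem x hx =>
    rcases hx with ⟨k, l, t, hkl, -, -, rfl⟩ | ⟨k, t, -, rfl⟩
    · have h := hl k l hkl t
      rw [stbx4_dhb_neg_one, stbx4_dhb_neg_one] at h
      simp only [Equiv.Perm.coe_one, id_eq, inv_one, mul_one, one_mul] at h
      unfold cj at h
      rw [mul_inv_eq_iff_eq_mul] at h
      exact h.symm
    · have h := hsx k t
      rw [stbx4_dhb_neg_one] at h
      simp only [Equiv.Perm.coe_one, id_eq, mul_one, one_mul] at h
      unfold cj at h
      rw [mul_inv_eq_iff_eq_mul] at h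
      exact h.symm
  | one => rw [one_mul, mul_one]
  | mul x y _ _ hx hy => rw [mul_assoc, hy, ← mul_assoc, hx, mul_assoc]
  | inv x _ hx =>
    exact (Commute.inv_left (show Commute x z from hx)).eq

end X3

end SysB

end Cfsg.Agent.Lib.Lead.STB
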