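import Mathlib
import Cfsg.Agent.Lib.Helper20.GLO.Defs
import Cfsg.Agent.Lib.Helper20.GLO.DefsP

/-!
# Project GLO (designer helper20), block P, rows P1 (`evG_inN evG_inL evG_map`), P2 (`evG_Wc`), P11 (`wordsGlue_length`).  VERBATIM vs `Helper20/GLO/SkelP.lean.txt`.
-/

set_option autoImplicit false
set_option linter.unusedSectionVars false

namespace Cfsg.Agent.Lib.Helper20.GLO

open Cfsg.Agent.Lib.helper3.STC (ng ab)
open Cfsg.Agent.Lib.helper3.SPM (Pts pe sgm sn sig2 ptsFin pe2 evN)
open Cfsg.Agent.Lib.Helper20.GLE (lamC lamP)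
open Cfsg.Agent.Lib.Helper27.STU
open Cfsg.Agent.Lib.helper17.SLP (cm)

universe u v w x v' y

section P

variable {F : Type u} [Field F] [StarRing F] {L : Type x} [Group L] {ι : Type w} [Fintype ι] [DecidableEq ι] {k l : ℕ}
  (S₂ : SysU F True (Fin 2) L) (swL : L)

theorem evG_inN {G : Type v} [Group G] (s : Fin k → G) (g : Fin l → G) (x : FreeGroup (Fin k)) :
    evG s g (inN x) = evN s x := by
  have h : (evG s g).comp inN = evN s := by
    apply FreeGroup.ext_hom
    intro i
    simp [evG, inN, evN]
  exact DFunLike.congr_fun h x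

theorem evG_inL {G : Type v} [Group G] (s : Fin k → G) (g : Fin l → G) (x : FreeGroup (Fin l)) :
    evG s g (inL x) = evN g x := by
  have h : (evG s g).comp inL = evN g := by
    apply FreeGroup.ext_hom
    intro i
    simp [evG, inL, evN]
  exact DFunLike.congr_fun h x

theorem evG_map {G : Type v} {G' : Type v'} [Group G] [Group G'] (f : G →* G') (s : Fin k → G) (g : Fin l → G)
    (x : FreeGroup (Fin (k + l))) : f (evG s g x) = evG (f ∘ s) (f ∘ g) x := by
  have h : f.comp (evG s g) = evG (f ∘ s) (f ∘ g) := by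
    apply FreeGroup.ext_hom
    intro i
    simp only [evG, MonoidHom.comp_apply, FreeGroup.lift_apply_of]
    refine Fin.addCases (fun j => ?_) (fun j => ?_) i
    · simp [Fin.append_left]
    · simp [Fin.append_right]
  exact DFunLike.congr_fun h x

theorem evG_Wc {G : Type v} [Group G] (wN : Equiv.Perm ι → FreeGroup (Fin k)) (wL : L → FreeGroup (Fin l))
    (s : Fin k → G) (g : Fin l → G) (ν : Equiv.Perm ι →* G) (lam : L →* G)
    (hν : ∀ σ, ν σ = evN s (wN σ)) (hlam : ∀ m, lam m = evN g (wL m)) (σ : Equiv.Perm ι) (m : L) :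
    evG s g (Wc wN wL σ m) = lamC ν lam σ m := by
  unfold Wc lamC
  rw [map_mul, map_mul, map_inv, evG_inN, evG_inL, ← hν, ← hlam]
  rfl

theorem wordsGlue_length (p : Pts ι) (wN : Equiv.Perm ι → FreeGroup (Fin k)) (wL : L → FreeGroup (Fin l))
    (c d c' d' : Equiv.Perm ι) {nb : ℕ} (b : Fin nb → L) :
    (wordsGlue S₂ swL p wN wL c d c' d' b).length = if p.o3 = none then 5 + 3 * nb else 6 + 3 * nb := by
  unfold wordsGlue
  rcases h : p.o3 with _ | x
  · simp only [List.length_append, List.length_cons, List.length_nil, List.length_ofFn, if_true]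
    omega
  · simp only [List.length_append, List.length_cons, List.length_nil, List.length_ofFn, reduceCtorEq, if_false]
    omega

end P

end Cfsg.Agent.Lib.Helper20.GLO
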