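import Mathlib
import Cfsg.Agent.Lib.Helper18.GBT.Defs
import Cfsg.Agent.Lib.Helper21.MaxClassP
import Cfsg.Agent.Lib.Helper12.PRLG1a

/-!
# Project GBT, piece IND: the induction through `X ⧸ Z(X)` (adapted from `Helper18/PRLTS.lean`).
-/

set_option autoImplicit false

namespace Cfsg.Agent.Lib.Helper18.GBT

open Cfsg.Agent.Lib.Helper18.PRL
open scoped commutatorElement

universe u

/-- GBT-IND -/
theorem main_of_keys {p : ℕ} [Fact p.Prime] (hp : p ≠ 2)
    (key1 : ∀ (m : ℕ) (X : Type u) [Group X] [Finite X], MC p X m → 7 ≤ m → Odd m →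
      m ≤ 2 * p + 1 → ∀ H : Subgroup X, H.index = p → HypFrom X m 4 H → Hyp X m H)
    (key2 : ∀ (m : ℕ) (X : Type u) [Group X] [Finite X], MC p X m → 5 ≤ m → Odd m →
      ∀ H : Subgroup X, H.index = p → Hyp X m H → H ≤ G1 X)
    (key3 : ∀ (m : ℕ) (X : Type u) [Group X] [Finite X], MC p X m → p + 3 ≤ m →
      ∀ H : Subgroup X, H.index = p → Hyp X m H → H ≤ G1 X) :
    ∀ (m : ℕ) (X : Type u) [Group X] [Finite X], MC p X m → 4 ≤ m →
      ∃ H : Subgroup X, H.index = p ∧ Hyp X m H ∧
        ((m = 4 ∨ Odd m ∨ p + 3 ≤ m) → H ≤ G1 X) := by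
  have hpp : p.Prime := Fact.out
  intro m
  induction m with
  | zero => intro X _ _ _ h4; omega
  | succ k ih =>
    intro X _ _ hMC h4
    rcases Nat.lt_or_ge k 4 with hk | hk
    · -- k + 1 = 4 : `H = G1 X`, the hypothesis is vacuous
      refine ⟨G1 X, G1_index hMC h4, ?_, fun _ => le_rfl⟩
      intro j hj3 hj
      omega
    · -- k ≥ 4
      obtain ⟨hZ, hQcard, hQclass⟩ :=
        Helper21.mc_center_card p (k + 1) (by omega) X hMC.1 hMC.2
      have hQ : MC p (X ⧸ Subgroup.center X) k := by
        refine ⟨by simpa using hQcard, ?_⟩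
        rw [hQclass]; omega
      obtain ⟨Hb, hHbi, hHb, hHbG1⟩ := ih (X ⧸ Subgroup.center X) hQ hk
      set π := QuotientGroup.mk' (Subgroup.center X) with hπ
      have hsurj : Function.Surjective π := QuotientGroup.mk'_surjective _
      set H : Subgroup X := Hb.comap π with hH
      have hHi : H.index = p := by
        rw [hH, Subgroup.index_comap_of_surjective _ hsurj]
        exact hHbi
      have hZc : ∀ i : ℕ, (Z (X ⧸ Subgroup.center X) i).comap π = Z X (i + 1) := fun i =>
        Subgroup.comap_upperCentralSeries_quotient_center i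
      -- levels `j ≥ 4`
      have hyp4 : HypFrom X (k + 1) 4 H := by
        intro j hj4 hj h hh z hz
        have hz' : π z ∈ Z (X ⧸ Subgroup.center X) (j - 1) := by
          have : z ∈ (Z (X ⧸ Subgroup.center X) (j - 1)).comap π := by
            rw [hZc (j - 1)]
            have : j - 1 + 1 = j := by omega
            rwa [this]
          exact this
        have hh' : π h ∈ Hb := hh
        have h1 : ⁅π h, π z⁆ ∈ Z (X ⧸ Subgroup.center X) (j - 1 - 2) :=
          hHb (j - 1) (by omega) (by omega) (π h) hh' (π z) hz'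
        have h2 : ⁅h, z⁆ ∈ (Z (X ⧸ Subgroup.center X) (j - 1 - 2)).comap π := by
          rw [Subgroup.mem_comap, map_commutatorElement]
          exact h1
        rw [hZc] at h2
        have : j - 1 - 2 + 1 = j - 2 := by omega
        rwa [this] at h2
      -- all levels
      have hyp : Hyp X (k + 1) H := by
        by_cases hc : k = 4 ∨ Odd k ∨ p + 3 ≤ k
        · have hle := hHbG1 hc
          intro j hj3 hj h hh z hz
          rcases Nat.lt_or_ge j 4 with hj4 | hj4
          · have hj3' : j = 3 := by omega
            subst hj3'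
            have hz' : π z ∈ Z (X ⧸ Subgroup.center X) 2 := by
              have : z ∈ (Z (X ⧸ Subgroup.center X) 2).comap π := by
                rw [hZc 2]
                exact hz
              exact this
            have hh' : π h ∈ G1 (X ⧸ Subgroup.center X) := hle hh
            have hcomm : ⁅π h, π z⁆ = 1 := by
              rw [commutatorElement_eq_one_iff_mul_comm]
              exact (Subgroup.mem_centralizer_iff.mp hh' (π z) hz').symm
            have h1 : π ⁅h, z⁆ = 1 := by rw [map_commutatorElement, hcomm]
            have h2 : ⁅h, z⁆ ∈ Subgroup.center X := (QuotientGroup.eq_one_iff _).mp h1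
            show ⁅h, z⁆ ∈ Z X 1
            rw [Z, Subgroup.upperCentralSeries_one]
            exact h2
          · exact hyp4 j hj4 hj h hh z hz
        · simp only [not_or] at hc
          obtain ⟨hk4, hkodd, hkp⟩ := hc
          have hkev : Even k := Nat.not_odd_iff_even.mp hkodd
          have hk6 : 6 ≤ k := by
            obtain ⟨t, ht⟩ := hkev
            omega
          have hodd : Odd (k + 1) := hkev.add_one
          have hp2 : 2 ≤ p := hpp.two_le
          exact key1 (k + 1) X hMC (by omega) hodd (by omega) H hHi hyp4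
      refine ⟨H, hHi, hyp, ?_⟩
      rintro (h1 | h1 | h1)
      · omega
      · exact key2 (k + 1) X hMC (by omega) h1 H hHi hyp
      · exact key3 (k + 1) X hMC h1 H hHi hyp

end Cfsg.Agent.Lib.Helper18.GBT
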