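import Mathlib
import Cfsg.Agent.Lib.Helper18.GBT.Defs
import Cfsg.Agent.Lib.helper23.PRLCH1
import Cfsg.Agent.Lib.helper23.PRLCH6
import Cfsg.Agent.Lib.Helper10.MCPPOW
import Cfsg.Agent.Lib.Helper10.GBTKEY3a
import Cfsg.Agent.Lib.helper23.GBTUC
import Cfsg.Agent.Lib.helper23.GBTSET

/-!
# Project GBT, piece KEY3b: `H ≤ G₁` when `n ≥ p + 3`.
-/

set_option autoImplicit false

namespace Cfsg.Agent.Lib.Helper18.GBT

open Cfsg.Agent.Lib.Helper18.PRL
open scoped commutatorElement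

universe u

section mc
variable {p : ℕ} [Fact p.Prime] {G : Type u} [Group G] [Finite G] {n : ℕ}

/-- GBT-KEY3b -/
theorem key_three (h : MC p G n) (hn : p + 3 ≤ n) (hp : p ≠ 2) (H : Subgroup G)
    (hH : H.index = p) (hyp : Hyp G n H) : H ≤ G1 G := by
  have hpp : p.Prime := Fact.out
  have hp2 : 2 ≤ p := hpp.two_le
  have hn4 : 4 ≤ n := by omega
  obtain ⟨s, hsH, hU⟩ := exists_unif h hn4 hp H hH
    (HypFrom.mono ((hypFrom_three n H).2 hyp) (by norm_num))
  have hs := card_centralizer_le_of_unif h hn4 H hH s hsH hU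
  -- pick `y ∈ Z_{p+1} ∖ Z_p`
  have hle : Z G p ≤ Z G (p + 1) := Subgroup.upperCentralSeries_mono G (Nat.le_succ p)
  obtain ⟨y, hy, hy'⟩ : ∃ y ∈ Z G (p + 1), y ∉ Z G p := by
    by_contra hcon
    push Not at hcon
    have heq : Z G (p + 1) = Z G p := le_antisymm hcon hle
    have h1 := card_Z h (by omega) (p + 1) (by omega)
    have h2 := card_Z h (by omega) p (by omega)
    rw [heq, h2] at h1
    exact absurd (Nat.pow_right_injective hp2 h1) (by omega)
  obtain ⟨hps1, hps2⟩ := Cfsg.Agent.Lib.helper4.MCP.power_structure h hn4 s hs (p + 1) (by omega)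
  have hyp2 : y ^ p ∈ Z G 2 := by
    have := hps1 y hy
    have e : p + 1 - (p - 1) = 2 := by omega
    rwa [e] at this
  have hyp1 : y ^ p ∉ Z G 1 := by
    have := hps2 (by omega) y hy (by simpa using hy')
    have e : p + 1 - p = 1 := by omega
    rwa [e] at this
  intro x hx
  apply mem_G1_of_comm h hn4 (y ^ p) hyp2 hyp1 x
  -- `x⁻¹ y x = y c` with `c = ⁅y⁻¹, x⁻¹⁆ ∈ Z_{p-1}`
  have hc : ⁅y⁻¹, x⁻¹⁆ ∈ Z G (p - 1) := by
    have h1 : ⁅x⁻¹, y⁻¹⁆ ∈ Z G (p + 1 - 2) :=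
      hyp (p + 1) (by omega) (by omega) x⁻¹ (H.inv_mem hx) y⁻¹ ((Z G (p + 1)).inv_mem hy)
    have e : p + 1 - 2 = p - 1 := by omega
    rw [e] at h1
    have h2 := (Z G (p - 1)).inv_mem h1
    rwa [commutatorElement_inv] at h2
  have hconj : x⁻¹ * y * x = y * ⁅y⁻¹, x⁻¹⁆ := by
    rw [commutatorElement_def]; group
  have hpow : x⁻¹ * y ^ p * x = y ^ p := by
    have h1 : x⁻¹ * y ^ p * x = (x⁻¹ * y * x) ^ p := by
      have := conj_pow (a := x⁻¹) (b := y) (i := p)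
      rw [inv_inv] at this
      exact this.symm
    rw [h1, hconj]
    exact pow_mul_eq_pow h hn s hs y _ hy hc
  calc x * y ^ p = x * (x⁻¹ * y ^ p * x) := by rw [hpow]
    _ = y ^ p * x := by group

end mc

end Cfsg.Agent.Lib.Helper18.GBT
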