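import Mathlib
import Cfsg.Prelude.Def_LieTypeChar
import Cfsg.Agent.Lib.helper14.SQD.Defs

/-!
# Project SQD (designer helper14, block O by helper24), rows OA1 `alt_quad_zero` and OA2 `alt_of_quad_zero` (writer helper20)

In characteristic 2 a matrix `S` is alternating (symmetric with zero diagonal) iff its quadratic form `y ↦ y ⬝ᵥ S *ᵥ y` vanishes.
-/

set_option autoImplicit false

namespace Cfsg.Agent.Lib.helper14.SQD

open Cfsg Cfsg.Lie Matrix

universe u v

section OA
variable {k : ℕ} {R : Type u} [CommRing R]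

/-- the quadratic form of a matrix as a double sum -/
theorem sqdoa1_expand (S : Matrix (Fin k) (Fin k) R) (y : Fin k → R) :
    y ⬝ᵥ (S *ᵥ y) = ∑ p : Fin k × Fin k, y p.1 * S p.1 p.2 * y p.2 := by
  rw [Fintype.sum_prod_type]
  simp only [dotProduct, Matrix.mulVec, Finset.mul_sum, mul_assoc]

/-- OA1 [M]. -/
theorem alt_quad_zero [CharP R 2] (S : Matrix (Fin k) (Fin k) R) (hS : S ∈ altAdd k R) (y : Fin k → R) :
    y ⬝ᵥ (S *ᵥ y) = 0 := by
  obtain ⟨hsym, hdiag⟩ := hS
  have hs : ∀ i j, S j i = S i j := fun i j => congrFun (congrFun hsym i) j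
  rw [sqdoa1_expand]
  apply Finset.sum_ninvolution Prod.swap
  · intro p
    show y p.1 * S p.1 p.2 * y p.2 + y p.2 * S p.2 p.1 * y p.1 = 0
    rw [hs p.1 p.2]
    have : y p.2 * S p.1 p.2 * y p.1 = y p.1 * S p.1 p.2 * y p.2 := by ring
    rw [this]
    exact CharTwo.add_self_eq_zero _
  · intro p hp hswap
    apply hp
    have h12 : p.2 = p.1 := congrArg Prod.fst hswap
    rw [h12, hdiag, mul_zero, zero_mul]
  · intro p
    exact Finset.mem_univ _
  · intro p
    exact Prod.swap_swap p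

/-- OA2 [E-M]. -/
theorem alt_of_quad_zero [CharP R 2] (S : Matrix (Fin k) (Fin k) R) (h : ∀ y : Fin k → R, y ⬝ᵥ (S *ᵥ y) = 0) :
    S ∈ altAdd k R := by
  have hq : ∀ i j : Fin k, (Pi.single i (1 : R) : Fin k → R) ⬝ᵥ (S *ᵥ (Pi.single j (1 : R))) = S i j := by
    intro i j
    rw [Matrix.mulVec_single_one, single_one_dotProduct]
    rfl
  have hdiag : ∀ i, S i i = 0 := by
    intro i
    rw [← hq i i]
    exact h _
  refine ⟨?_, hdiag⟩
  ext i j
  show S j i = S i j
  have h2 := h (Pi.single i (1 : R) + Pi.single j (1 : R))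
  rw [Matrix.mulVec_add, dotProduct_add, add_dotProduct, add_dotProduct, hq, hq, hq, hq, hdiag,
    hdiag, zero_add, add_zero] at h2
  have h3 : S j i = -S i j := eq_neg_of_add_eq_zero_left h2
  rw [h3, CharTwo.neg_eq]

end OA

end Cfsg.Agent.Lib.helper14.SQD
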