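import Mathlib

/-!
# Project SQD (designer helper14, block TW by helper16), rows TW8 `two_pow_of_card` and TW9 `odd_d4` (writer helper20)
-/

set_option autoImplicit false

namespace Cfsg.Agent.Lib.helper14.SQD

universe u

/-- TW8 [E-M]. -/
theorem two_pow_of_card {K : Type u} [Field K] [Fintype K] [CharP K 2] (q n : ℕ) (hn : n ≠ 0)
    (hK : Fintype.card K = q ^ n) : ∃ e, 1 ≤ e ∧ q = 2 ^ e := by
  obtain ⟨m, -, hm⟩ := FiniteField.card K 2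
  have hdvd : q ∣ 2 ^ (m : ℕ) := by
    rw [← hm, hK]
    exact dvd_pow_self q hn
  obtain ⟨e, -, he⟩ := (Nat.dvd_prime_pow Nat.prime_two).1 hdvd
  refine ⟨e, ?_, he⟩
  rcases Nat.eq_zero_or_pos e with h0 | h0
  · exfalso
    subst h0
    rw [pow_zero] at he
    subst he
    rw [one_pow] at hK
    have := Fintype.one_lt_card (α := K)
    omega
  · exact h0

/-- an even power of an even positive number: `q ^ j = 2 * c`, `1 ≤ c` -/
theorem sqdtw9_even_pow (q : ℕ) (hq : 2 ∣ q) (hq0 : 0 < q) (j : ℕ) (hj : j ≠ 0) :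
    ∃ c, 1 ≤ c ∧ q ^ j = 2 * c := by
  obtain ⟨c, hc⟩ : 2 ∣ q ^ j := dvd_pow hq hj
  refine ⟨c, ?_, hc⟩
  have : 0 < q ^ j := Nat.pow_pos hq0
  omega

/-- TW9 [E]. -/
theorem odd_d4 (q : ℕ) (hq : 2 ∣ q) (hq0 : 0 < q) :
    ¬ 2 ∣ (q ^ 2 - 1) * (q ^ 6 - 1) * (q ^ 8 + q ^ 4 + 1) := by
  obtain ⟨c2, h2, e2⟩ := sqdtw9_even_pow q hq hq0 2 (by norm_num)
  obtain ⟨c6, h6, e6⟩ := sqdtw9_even_pow q hq hq0 6 (by norm_num)
  obtain ⟨c8, h8, e8⟩ := sqdtw9_even_pow q hq hq0 8 (by norm_num)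
  obtain ⟨c4, h4, e4⟩ := sqdtw9_even_pow q hq hq0 4 (by norm_num)
  intro h
  rcases (Nat.Prime.dvd_mul Nat.prime_two).1 h with h | h
  · rcases (Nat.Prime.dvd_mul Nat.prime_two).1 h with h | h
    · rw [e2] at h; omega
    · rw [e6] at h; omega
  · rw [e8, e4] at h; omega

end Cfsg.Agent.Lib.helper14.SQD
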