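import Mathlib
import Cfsg.Prelude.Def_GeometricClasses
import Cfsg.Agent.Lib.Helper27.ASC.Defs
import Cfsg.Agent.Lib.Lead.ASCU.Defs
import Cfsg.Agent.Lib.Helper16.U3.Defs
import Cfsg.Agent.Lib.Helper19.ASCUUARITHcore

/-!
# Project U3, piece ARITH3 : `uarith3` (verbatim vs `Helper16/U3/Skel`)
-/

set_option autoImplicit false
set_option linter.unusedVariables false

namespace Cfsg.Agent.Lib.Helper16.U3

open Cfsg Cfsg.Geo Cfsg.Agent.Lib.Helper27.ASC Cfsg.Agent.Lib.Lead.ASCU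
open scoped MatrixGroups Matrix

variable {F : Type*} [Field F] [Fintype F]

theorem u3arith3_fin : ∀ a : Fin 3, ∀ e : Fin 3, a.val ≠ 0 → 0 < e.val → e.val % 2 = 0 →
    a.val ^ e.val % 3 = 1 →
    (∀ d : Fin 3, d.val < e.val → 0 < d.val → a.val ^ d.val % 3 ≠ 1) →
    (e.val = 2 ∧ a.val = 2) := by
  decide

theorem u3arith3_table : ∀ a : ℕ, a < 3 → ∀ e : ℕ, e < 3 → a ≠ 0 → 0 < e → e % 2 = 0 →
    a ^ e % 3 = 1 → (∀ d : ℕ, d < e → 0 < d → a ^ d % 3 ≠ 1) →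
    (e = 2 ∧ a = 2) := by
  intro a ha e he h1 h0 h2 h3 h4
  exact u3arith3_fin ⟨a, ha⟩ ⟨e, he⟩ h1 h0 h2 h3 (fun d hd hd0 => h4 d.val hd hd0)

/-- ARITH3 -/
theorem uarith3 (q p e : ℕ) (hp : p.Prime) (hq : q ^ 2 = p ^ e) (hq1 : 1 < q) (h3 : 3 ≠ p) (hdvd : 3 ∣ p ^ e - 1)
    (hmin : ∀ d : ℕ, 0 < d → d < e → ¬ 3 ∣ p ^ d - 1) : q = p ∧ p % 3 = 2 := by
  have he0 : 0 < e := ascuuarith_pos q p e hq hq1
  obtain ⟨k, hk, hqk⟩ := ascuuarith_sqrt q p e hp hq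
  obtain ⟨h1, h2, h4, h6, h7'⟩ :=
    ascuuarith_reduce 3 p e (by norm_num) hp h3 hdvd hmin (by decide)
  obtain ⟨he, ha⟩ := u3arith3_table _ h1 e h4 h2 he0 (by omega) h6 h7'
  have : k = 1 := by omega
  rw [this, pow_one] at hqk
  exact ⟨hqk, ha⟩

end Cfsg.Agent.Lib.Helper16.U3
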