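import Mathlib
import Cfsg.Prelude.Def_GeometricClasses
import Cfsg.Agent.Lib.Helper27.ASC.Defs
import Cfsg.Agent.Lib.Lead.ASCU.Defs
import Cfsg.Agent.Lib.Helper16.U3.Defs
import Cfsg.Agent.Lib.helper6.ASCUUPR6

/-!
# Project U3, piece UPR63 : `upr_sympl_type3` (verbatim vs `Helper16/U3/Skel`)

`SU_3(q)` (characteristic `p ≥ 5`) does not normalise an absolutely irreducible `3`-group `R` of order `27` with centre
of order `3`: a unitary transvection `t = 1 + N` (`N² = 0`, so `t ^ p = 1`) normalising `R` fixes, by the fixed point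
congruence for `p`-groups, first `Z(R)` pointwise (`3 - 1 = 2`), then all of `R` (`27 - 3 = 24`, `27 - 9 = 18`), so it is
a scalar: absurd.
-/

set_option autoImplicit false
set_option linter.unusedVariables false
set_option linter.unusedSectionVars false

namespace Cfsg.Agent.Lib.Helper16.U3

open Cfsg Cfsg.Geo Cfsg.Agent.Lib.Helper27.ASC Cfsg.Agent.Lib.Lead.ASCU
open scoped MatrixGroups Matrix

variable {F : Type*} [Field F] [Fintype F]

/-- fixed point congruence for conjugation by an element of order dividing `p` on a finite subgroup it normalises -/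
theorem u3upr63_count {G : Type*} [Group G] (t : G) (p : ℕ) [hp : Fact p.Prime] (htp : t ^ p = 1)
    (B : Subgroup G) [Finite B] (hB : ∀ b ∈ B, t * b * t⁻¹ ∈ B) :
    Nat.card B ≡ Nat.card (B ⊓ Subgroup.centralizer {t} : Subgroup G) [MOD p] := by
  classical
  have : Fintype B := Fintype.ofFinite B
  let f : Function.End B := fun b => ⟨t * b * t⁻¹, hB b b.2⟩
  have hpow : ∀ k : ℕ, ∀ b : B, (((f ^ k) b : B) : G) = t ^ k * b * (t ^ k)⁻¹ := by
    intro k
    induction k with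
    | zero =>
      intro b
      rw [pow_zero, pow_zero]
      show (b : G) = 1 * b * 1⁻¹
      group
    | succ k ih =>
      intro b
      rw [pow_succ]
      show (((f ^ k) (f b) : B) : G) = _
      rw [ih]
      show t ^ k * (t * b * t⁻¹) * (t ^ k)⁻¹ = _
      rw [pow_succ]
      group
  have hf : f ^ p ^ 1 = 1 := by
    rw [pow_one]
    funext b
    apply Subtype.ext
    rw [hpow, htp]
    show (1 : G) * b * 1⁻¹ = b
    group
  have h := Equiv.Perm.card_fixedPoints_modEq (p := p) (n := 1) hf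
  rw [Nat.card_eq_fintype_card]
  refine h.trans ?_
  rw [← Nat.card_eq_fintype_card]
  have key : ∀ b : B, f b = b ↔ (b : G) ∈ (B ⊓ Subgroup.centralizer {t} : Subgroup G) := by
    intro b
    rw [Subgroup.mem_inf, Subgroup.mem_centralizer_iff]
    constructor
    · intro h1
      refine ⟨b.2, ?_⟩
      intro g hg
      rw [Set.mem_singleton_iff.mp hg]
      have h2 : t * (b : G) * t⁻¹ = (b : G) := congrArg Subtype.val h1
      rw [mul_inv_eq_iff_eq_mul] at h2
      exact h2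
    · rintro ⟨-, h1⟩
      have h2 := h1 t (Set.mem_singleton t)
      apply Subtype.ext
      show t * (b : G) * t⁻¹ = b
      rw [mul_inv_eq_iff_eq_mul]
      exact h2
  have e : ↥(Function.fixedPoints f) ≃ ↥(B ⊓ Subgroup.centralizer {t} : Subgroup G) :=
    { toFun := fun b => ⟨(b.1 : G), (key b.1).mp b.2⟩
      invFun := fun c => ⟨⟨c.1, (Subgroup.mem_inf.mp c.2).1⟩,
        (key ⟨c.1, (Subgroup.mem_inf.mp c.2).1⟩).mpr c.2⟩
      left_inv := fun b => rfl
      right_inv := fun c => rfl }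
  rw [Nat.card_congr e]

/-- a unitary transvection in `SU_3(q)` -/
theorem u3upr63_transv (q : ℕ) (hF : Fintype.card F = q ^ 2) :
    ∃ (t : GL (Fin 3) F) (N : Matrix (Fin 3) (Fin 3) F), t ∈ SUg 3 F q ∧
      (t : Matrix (Fin 3) (Fin 3) F) = 1 + N ∧ N * N = 0 ∧ N.rank ≤ 1 ∧ N ≠ 0 := by
  classical
  obtain ⟨σ, hσ, hf⟩ := Cfsg.Agent.Lib.Helper28.UHerm.herm_unitary hF 3
  set f := Cfsg.hermForm 3 F q with hfdef
  obtain ⟨a, ha⟩ := Cfsg.Agent.Lib.Helper28.UForm.norm_surj hf (-1) (by rw [map_neg, map_one])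
  let z : Fin 3 → F := ![1, a, 0]
  have hq0 : q ≠ 0 := by
    rintro rfl
    have h1 := hσ 0
    have h2 := hσ 1
    rw [pow_zero, map_zero] at h1
    exact zero_ne_one h1
  have hz0 : f z z = 0 := by
    rw [hfdef]
    unfold Cfsg.hermForm
    rw [Fin.sum_univ_three]
    simp only [z, Matrix.cons_val_zero, Matrix.cons_val_one, Matrix.cons_val_two, Matrix.head_cons,
      Matrix.tail_cons]
    rw [← hσ a, ha, one_pow, zero_pow hq0]
    ring
  obtain ⟨c, hc0, hc⟩ := Cfsg.Agent.Lib.Helper28.UForm.exists_K0 hf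
  have h0 : f z (c • z) = 0 := by
    rw [Cfsg.Agent.Lib.Helper28.UForm.f_smul_right hf, hz0, mul_zero]
  obtain ⟨t, htSL, ht⟩ := Cfsg.Agent.S5643.tvGL hf z (c • z) h0
  have htGU : t ∈ GU 3 F q :=
    (mem_GU_iff q t).mpr (Cfsg.Agent.S5643.utv_iso hf z hz0 c hc t ht)
  set ρ : Fin 3 → F := Cfsg.Agent.Lib.Helper28.UForm.rho f (c • z) with hρ
  have hρz : ρ ⬝ᵥ z = 0 := by
    rw [hρ, ← Cfsg.Agent.Lib.Helper28.UForm.f_eq_dot hf]
    exact h0
  refine ⟨t, Matrix.vecMulVec z ρ, ⟨htGU, htSL⟩, ?_, ?_, Matrix.rank_vecMulVec_le _ _, ?_⟩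
  · apply Matrix.ext_of_mulVec_single
    intro i
    rw [ht, Matrix.add_mulVec, Matrix.one_mulVec, Matrix.vecMulVec_mulVec, op_smul_eq_smul,
      Cfsg.Agent.Lib.Helper28.UForm.f_eq_dot hf]
  · rw [Matrix.vecMulVec_mul_vecMulVec, hρz, zero_smul]
    ext i j
    simp [Matrix.vecMulVec_apply]
  · let e0 : Fin 3 → F := Pi.single 0 1
    have hze : f e0 z = 1 := by
      rw [hfdef]
      unfold Cfsg.hermForm
      rw [Fin.sum_univ_three]
      simp [z, e0]
    have hρe : ρ ⬝ᵥ e0 = σ c := by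
      rw [hρ, ← Cfsg.Agent.Lib.Helper28.UForm.f_eq_dot hf,
        Cfsg.Agent.Lib.Helper28.UForm.f_smul_right hf, hze, mul_one]
    intro hN
    have h1 : Matrix.vecMulVec z ρ *ᵥ e0 = 0 := by rw [hN, Matrix.zero_mulVec]
    rw [Matrix.vecMulVec_mulVec, op_smul_eq_smul, hρe] at h1
    have h2 := congrFun h1 0
    simp only [Pi.smul_apply, z, Matrix.cons_val_zero, smul_eq_mul, mul_one, Pi.zero_apply] at h2
    rw [hc] at h2
    exact hc0 (neg_eq_zero.mp h2)

/-- arithmetic: a divisor `c` of `27`, multiple of `3`, with `27 ≡ c [MOD p]`, `p ≥ 5` prime, is `27` -/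
theorem u3upr63_arith27 (p c : ℕ) (hp : p.Prime) (hp5 : 5 ≤ p) (h3 : 3 ∣ c) (h27 : c ∣ 27)
    (hmod : 27 ≡ c [MOD p]) : c = 27 := by
  have hc27 : c ≤ 27 := Nat.le_of_dvd (by norm_num) h27
  have hdvd : p ∣ 27 - c := (Nat.modEq_iff_dvd' hc27).mp hmod.symm
  by_contra hne
  have hpos : 0 < 27 - c := by omega
  have hple : p ≤ 27 - c := Nat.le_of_dvd hpos hdvd
  have hcases : c = 3 ∨ c = 9 := by
    interval_cases c <;> simp_all
  rcases hcases with rfl | rfl
  · have h24 : p ∣ 24 := hdvd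
    have : p ≤ 24 := Nat.le_of_dvd (by norm_num) h24
    interval_cases p <;> simp_all (config := { decide := true })
  · have h18 : p ∣ 18 := hdvd
    have : p ≤ 18 := Nat.le_of_dvd (by norm_num) h18
    interval_cases p <;> simp_all (config := { decide := true })

/-- arithmetic: a divisor `c` of `3` with `3 ≡ c [MOD p]`, `p ≥ 5`, is `3` -/
theorem u3upr63_arith3 (p c : ℕ) (hp5 : 5 ≤ p) (h3 : c ∣ 3) (hmod : 3 ≡ c [MOD p]) : c = 3 := by
  have hc3 : c ≤ 3 := Nat.le_of_dvd (by norm_num) h3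
  have hdvd : p ∣ 3 - c := (Nat.modEq_iff_dvd' hc3).mp hmod.symm
  by_contra hne
  have hpos : 0 < 3 - c := by omega
  have hple : p ≤ 3 - c := Nat.le_of_dvd hpos hdvd
  omega

/-- UPR63 : `SU_3(q)` does not normalise `3^(1+2)` (characteristic `p ≥ 5`). -/
theorem upr_sympl_type3 (q : ℕ) (hF : Fintype.card F = q ^ 2) (p : ℕ) (hp : p.Prime) (hchar : CharP F p)
    (hp5 : 5 ≤ p) (R : Subgroup (GL (Fin 3) F)) (hRU : R ≤ GU 3 F q) (hA : AbsIrr R)
    (hc : Nat.card R = 3 ^ 3) (hz : Nat.card (Subgroup.center R) = 3) :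
    ¬ SUg 3 F q ≤ subgroupNormalizer R := by
  classical
  intro hSU
  have : Fact p.Prime := ⟨hp⟩
  obtain ⟨t, N, htSU, htN, hNN, hNrank, hN0⟩ := u3upr63_transv (F := F) q hF
  have htnorm : t ∈ Subgroup.normalizer (R : Set (GL (Fin 3) F)) := hSU htSU
  -- `t ^ p = 1`
  have htp : t ^ p = 1 := by
    apply Units.ext
    rw [Units.val_pow_eq_pow_val, htN]
    have := hchar
    rw [add_pow_char_of_commute _ (Commute.one_left N), one_pow]
    have hN2 : N ^ 2 = 0 := by rw [pow_two, hNN]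
    have hNp : N ^ p = 0 := pow_eq_zero_of_le (by omega) hN2
    rw [hNp, add_zero]
    rfl
  have hfin : Finite R := Nat.finite_of_card_ne_zero (by rw [hc]; norm_num)
  have hnormR : ∀ b ∈ R, t * b * t⁻¹ ∈ R :=
    fun b hb => (Subgroup.mem_normalizer_iff.mp htnorm b).1 hb
  have hnormR' : ∀ b ∈ R, t⁻¹ * b * t ∈ R := by
    intro b hb
    apply (Subgroup.mem_normalizer_iff.mp htnorm (t⁻¹ * b * t)).2
    have : t * (t⁻¹ * b * t) * t⁻¹ = b := by group
    rw [this]
    exact hb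
  -- the centre of `R` as a subgroup of `GL`
  set Z : Subgroup (GL (Fin 3) F) := (Subgroup.center R).map R.subtype with hZ
  have hZcard : Nat.card Z = 3 := by
    rw [hZ, Subgroup.card_map_of_injective R.subtype_injective, hz]
  have hZmem : ∀ z, z ∈ Z ↔ z ∈ R ∧ ∀ x ∈ R, x * z = z * x := by
    intro z
    rw [hZ, Subgroup.mem_map]
    constructor
    · rintro ⟨w, hw, rfl⟩
      refine ⟨w.2, fun x hx => ?_⟩
      have := Subgroup.mem_center_iff.mp hw ⟨x, hx⟩
      exact congrArg Subtype.val this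
    · rintro ⟨hzR, hcomm⟩
      refine ⟨⟨z, hzR⟩, ?_, rfl⟩
      rw [Subgroup.mem_center_iff]
      intro x
      apply Subtype.ext
      exact hcomm x.1 x.2
  have hZR : Z ≤ R := fun z hzZ => ((hZmem z).mp hzZ).1
  have : Finite Z := Nat.finite_of_card_ne_zero (by rw [hZcard]; norm_num)
  have hZnorm : ∀ z ∈ Z, t * z * t⁻¹ ∈ Z := by
    intro z hzZ
    obtain ⟨hzR, hcomm⟩ := (hZmem z).mp hzZ
    refine (hZmem _).mpr ⟨hnormR z hzR, fun x hx => ?_⟩
    have h1 := hcomm (t⁻¹ * x * t) (hnormR' x hx)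
    calc x * (t * z * t⁻¹) = t * ((t⁻¹ * x * t) * z) * t⁻¹ := by group
      _ = t * (z * (t⁻¹ * x * t)) * t⁻¹ := by rw [h1]
      _ = t * z * t⁻¹ * x := by group
  -- `t` centralises `Z`
  have h1 := u3upr63_count t p htp Z hZnorm
  rw [hZcard] at h1
  have h2 : Nat.card (Z ⊓ Subgroup.centralizer {t} : Subgroup (GL (Fin 3) F)) ∣ 3 := by
    have h := Subgroup.card_dvd_of_le (inf_le_left : Z ⊓ Subgroup.centralizer {t} ≤ Z)
    rwa [hZcard] at h
  have h3 := u3upr63_arith3 p _ hp5 h2 h1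
  have hZC : Z ≤ Subgroup.centralizer {t} := by
    have h4 : (Z ⊓ Subgroup.centralizer {t} : Subgroup (GL (Fin 3) F)) = Z :=
      Subgroup.eq_of_le_of_card_ge inf_le_left (by rw [h3, hZcard])
    rw [← h4]
    exact inf_le_right
  -- `t` centralises `R`
  have h5 := u3upr63_count t p htp R hnormR
  rw [hc] at h5
  have h6 : Nat.card (R ⊓ Subgroup.centralizer {t} : Subgroup (GL (Fin 3) F)) ∣ 27 := by
    have h := Subgroup.card_dvd_of_le (inf_le_left : R ⊓ Subgroup.centralizer {t} ≤ R)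
    rw [hc] at h
    norm_num at h ⊢
    exact h
  have h7 : 3 ∣ Nat.card (R ⊓ Subgroup.centralizer {t} : Subgroup (GL (Fin 3) F)) := by
    have h := Subgroup.card_dvd_of_le (le_inf hZR hZC : Z ≤ R ⊓ Subgroup.centralizer {t})
    rwa [hZcard] at h
  have h8 := u3upr63_arith27 p _ hp hp5 h7 h6 (by norm_num at h5 ⊢; exact h5)
  have hRC : R ≤ Subgroup.centralizer {t} := by
    have h9 : (R ⊓ Subgroup.centralizer {t} : Subgroup (GL (Fin 3) F)) = R :=
      Subgroup.eq_of_le_of_card_ge inf_le_left (by rw [h8, hc]; norm_num)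
    rw [← h9]
    exact inf_le_right
  have hcomm : ∀ x ∈ R, t * x = x * t := by
    intro x hx
    have := Subgroup.mem_centralizer_iff.mp (hRC hx) t (Set.mem_singleton t)
    exact this
  obtain ⟨c, hcT⟩ := hA.2 (t : Matrix (Fin 3) (Fin 3) F) (by
    rintro s ⟨x, hx, rfl⟩
    have := congrArg (fun u : GL (Fin 3) F => (u : Matrix (Fin 3) (Fin 3) F)) (hcomm x hx)
    simp only [Units.val_mul] at this
    exact this)
  have hNc : N = (c - 1) • (1 : Matrix (Fin 3) (Fin 3) F) := by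
    rw [htN] at hcT
    rw [sub_smul, one_smul, ← hcT]
    abel
  by_cases hc1 : c = 1
  · apply hN0
    rw [hNc, hc1, sub_self, zero_smul]
  · rw [hNc, ascuupr6_rank_scalar (c - 1) (sub_ne_zero.mpr hc1)] at hNrank
    omega

end Cfsg.Agent.Lib.Helper16.U3
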