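import Mathlib
import Cfsg.Agent.Lib.Helper16.U82.Defs
import Cfsg.Agent.Lib.helper14.SubD

set_option autoImplicit false

/-!
# Project U82, row B5 (u82_two_der_elt): odd `q`, `(q-1)_2 < (n)_2`: an element of `SL_n` whose square is a
non-square scalar.
-/

namespace Cfsg.Agent.Lib.Helper16.U82

open Matrix Cfsg.Agent.Lib.Helper16 Cfsg.Agent.Lib.helper14
open scoped MatrixGroups

/-- `-1` is a square in a field with `q₀ ^ 2` elements -/
theorem u82b5_neg_one_sq {F : Type*} [Field F] [Fintype F] (q₀ : ℕ) (hF : Fintype.card F = q₀ ^ 2) :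
    ∃ i : F, i * i = -1 := by
  have h4 : Fintype.card F % 4 ≠ 3 := by
    rw [hF, Nat.pow_mod]
    have : q₀ % 4 < 4 := Nat.mod_lt _ (by norm_num)
    interval_cases (q₀ % 4) <;> norm_num
  obtain ⟨i, hi⟩ := FiniteField.isSquare_neg_one_iff.mpr h4
  exact ⟨i, hi.symm⟩

theorem u82b5_char_ne_two {F : Type*} [Field F] (h2 : (2 : F) ≠ 0) : ringChar F ≠ 2 := by
  intro h
  apply h2
  have := ringChar.Nat.cast_ringChar (R := F)
  rw [h] at this
  exact_mod_cast this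

/-- B5 TWODERELT [M]: odd `q`, `(q-1)_2 < (n)_2`: an element of `SL_n` whose square is a non-square
scalar (helper14 `SubD.exists_nonsquare`, `SubD.exists_block_elt`). -/
theorem u82_two_der_elt {F : Type*} [Field F] [Fintype F] (q₀ n : ℕ)
    (hF : Fintype.card F = q₀ ^ 2) (h2 : (2 : F) ≠ 0)
    (hv : padicValNat 2 (q₀ ^ 2 - 1) < padicValNat 2 n) :
    ∃ (x : GL (Fin n) F) (z : F), x ∈ Cfsg.Geo.specialLinear (Fin n) F ∧
      ((x ^ 2 : GL (Fin n) F) : Matrix (Fin n) (Fin n) F) = z • (1 : Matrix (Fin n) (Fin n) F) ∧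
      (∀ c : F, c * c ≠ z) ∧
      ∀ c : F, (x : Matrix (Fin n) (Fin n) F) ≠ c • (1 : Matrix (Fin n) (Fin n) F) := by
  classical
  have hchar := u82b5_char_ne_two h2
  have hneg1 := u82b5_neg_one_sq q₀ hF
  have h2n : 2 ∣ n := dvd_of_one_le_padicValNat (by omega)
  obtain ⟨k₂, hk₂⟩ := h2n
  have hn0 : n ≠ 0 := by
    rintro rfl
    simp at hv
  have hk₂0 : k₂ ≠ 0 := by omega
  obtain ⟨z, hzns, hzdet⟩ := SubD.exists_nonsquare hchar (q₀ ^ 2) hF hneg1 n k₂ hk₂ hn0 hv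
  obtain ⟨x, hxx, hxns⟩ := SubD.exists_block_elt z n k₂ hk₂ hk₂0 hzdet
  refine ⟨Matrix.SpecialLinearGroup.toGL x, z, ?_, ?_, hzns, ?_⟩
  · show Matrix.GeneralLinearGroup.det (Matrix.SpecialLinearGroup.toGL x) = 1
    apply Units.ext
    simp
  · rw [pow_two, Units.val_mul]
    exact hxx
  · intro c
    exact hxns c

end Cfsg.Agent.Lib.Helper16.U82
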