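import Mathlib
import Cfsg.Agent.Lib.Helper16.U82.Defs
import Cfsg.Agent.Lib.Helper20.U82B5

set_option autoImplicit false

/-!
# Project U82, row B6 (u82_two_not): odd `q`: the square of a similarity of a unitary form, if scalar, is a
square scalar.
-/

namespace Cfsg.Agent.Lib.Helper16.U82

open Matrix Cfsg.Agent.Lib.Helper16
open scoped MatrixGroups

/-- B6 TWONOT [M]: odd `q`: the square of a similarity, if scalar, is a square scalar
(`f(yu,yv) = λ f(u,v)`, `λ ∈ F₀`, `z^(q₀+1) = λ^2`, so `z^((q-1)/2) = λ^(q₀-1) = 1`). -/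
theorem u82_two_not {F : Type*} [Field F] [Fintype F] (q₀ n : ℕ) (hF : Fintype.card F = q₀ ^ 2)
    (hn : 1 ≤ n) (h2 : (2 : F) ≠ 0)
    (f : (Fin n → F) → (Fin n → F) → F) (hf : Cfsg.Geo.IsUnitaryFormPow q₀ f)
    (y : GL (Fin n) F) (hy : y ∈ Cfsg.Geo.similarityGroup f) (z : F)
    (hz : ((y ^ 2 : GL (Fin n) F) : Matrix (Fin n) (Fin n) F) = z • (1 : Matrix (Fin n) (Fin n) F)) :
    ∃ c : F, z = c * c := by
  classical
  have hchar := u82b5_char_ne_two h2
  -- `q₀` is odd
  have hodd := FiniteField.odd_card_of_char_ne_two hchar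
  rw [hF] at hodd
  have hq : Odd q₀ := by
    rcases Nat.even_or_odd q₀ with he | ho
    · exfalso
      obtain ⟨k, hk⟩ := he
      rw [hk] at hodd
      have : (k + k) ^ 2 = 2 * (2 * k * k) := by ring
      omega
    · exact ho
  obtain ⟨m, hm⟩ := hq
  obtain ⟨lam, hlam⟩ := hy
  -- semilinearity in the second argument
  have hsr : ∀ (a : F) (u v : Fin n → F), f u (a • v) = a ^ q₀ * f u v := by
    intro a u v
    rw [hf.herm u (a • v), hf.smul_left, mul_pow, ← hf.herm u v]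
  -- a pair with `f u v ≠ 0`
  obtain ⟨u, v, huv⟩ : ∃ u v : Fin n → F, f u v ≠ 0 := by
    have hv0 : (Pi.single (⟨0, by omega⟩ : Fin n) (1 : F) : Fin n → F) ≠ 0 := by
      intro h
      have := congrFun h ⟨0, by omega⟩
      simp at this
    obtain ⟨⟨x, hx⟩, -⟩ := hf.nondegenerate _ hv0
    exact ⟨x, _, hx⟩
  have hyy : ∀ w : Fin n → F,
      (y : Matrix (Fin n) (Fin n) F) *ᵥ ((y : Matrix (Fin n) (Fin n) F) *ᵥ w) = z • w := by
    intro w
    rw [Matrix.mulVec_mulVec, ← Units.val_mul, ← pow_two, hz, Matrix.smul_mulVec, Matrix.one_mulVec]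
  -- `z^(q₀+1) = λ^2`
  have h1 : z * z ^ q₀ = (lam : F) * lam := by
    have e1 := hlam ((y : Matrix (Fin n) (Fin n) F) *ᵥ u) ((y : Matrix (Fin n) (Fin n) F) *ᵥ v)
    rw [hyy, hyy, hlam u v, hf.smul_left, hsr] at e1
    have e2 : (z * z ^ q₀ - (lam : F) * lam) * f u v = 0 := by linear_combination e1
    rcases mul_eq_zero.mp e2 with h | h
    · exact sub_eq_zero.mp h
    · exact absurd h huv
  -- `λ^q₀ = λ`
  have h3 : (lam : F) ^ q₀ = lam := by
    have e1 := hlam u v
    rw [hf.herm, hlam v u, mul_pow, ← hf.herm u v] at e1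
    have e2 : ((lam : F) ^ q₀ - lam) * f u v = 0 := by linear_combination e1
    rcases mul_eq_zero.mp e2 with h | h
    · exact sub_eq_zero.mp h
    · exact absurd h huv
  have hlam0 : (lam : F) ≠ 0 := lam.ne_zero
  have h4 : (lam : F) ^ (2 * m) = 1 := by
    have : (lam : F) ^ (2 * m) * lam = 1 * lam := by
      rw [← pow_succ, ← hm, h3, one_mul]
    exact mul_right_cancel₀ hlam0 this
  have hz0 : z ≠ 0 := by
    rintro rfl
    rw [zero_mul] at h1
    exact mul_ne_zero hlam0 hlam0 h1.symm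
  have hhalf : Fintype.card F / 2 = m * (q₀ + 1) := by
    rw [hF, hm]
    have : (2 * m + 1) ^ 2 = 2 * (m * (2 * m + 1 + 1)) + 1 := by ring
    rw [this]
    omega
  have h5 : z ^ (Fintype.card F / 2) = 1 := by
    rw [hhalf, mul_comm, pow_mul, pow_succ, mul_comm (z ^ q₀) z, h1, ← pow_two, ← pow_mul, h4]
  obtain ⟨c, hc⟩ := (FiniteField.isSquare_iff hchar hz0).mpr h5
  exact ⟨c, hc⟩

end Cfsg.Agent.Lib.Helper16.U82
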