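import Mathlib
import Cfsg.Agent.Lib.Helper16.U82.Defs
import Cfsg.Agent.Lib.Helper20.U82B5
import Cfsg.Agent.Lib.Helper20.U82B6

set_option autoImplicit false

/-!
# Project U82, row B8 (u82_two_der): `r = 2`, necessity (B5 + B6).
-/

namespace Cfsg.Agent.Lib.Helper16.U82

open Matrix Cfsg.Agent.Lib.Helper16
open scoped MatrixGroups

/-- B8 TWODER [S-M]: `r = 2`, necessity (B5 + B6: the square of a conjugate is the same scalar). -/
theorem u82_two_der {F : Type*} [Field F] [Fintype F] (q₀ n : ℕ) (hF : Fintype.card F = q₀ ^ 2)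
    (hn : 1 ≤ n) (h2 : (2 : F) ≠ 0)
    (f : (Fin n → F) → (Fin n → F) → F) (hf : Cfsg.Geo.IsUnitaryFormPow q₀ f)
    (hv : padicValNat 2 (q₀ ^ 2 - 1) < padicValNat 2 n) :
    ∃ x : GL (Fin n) F, x ∈ Cfsg.Geo.specialLinear (Fin n) F ∧
      (∃ z : F, ((x ^ 2 : GL (Fin n) F) : Matrix (Fin n) (Fin n) F) =
        z • (1 : Matrix (Fin n) (Fin n) F)) ∧
      (∀ z : F, (x : Matrix (Fin n) (Fin n) F) ≠ z • (1 : Matrix (Fin n) (Fin n) F)) ∧
      ¬ ConjInGL f x := by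
  obtain ⟨x, z, hx, hxz, hzns, hxns⟩ := u82_two_der_elt q₀ n hF h2 hv
  refine ⟨x, hx, ⟨z, hxz⟩, hxns, ?_⟩
  rintro ⟨g, hg⟩
  have hy2 : (((g⁻¹ * x * g) ^ 2 : GL (Fin n) F) : Matrix (Fin n) (Fin n) F) =
      z • (1 : Matrix (Fin n) (Fin n) F) := by
    have e : (g⁻¹ * x * g) ^ 2 = g⁻¹ * x ^ 2 * g := by
      rw [pow_two, pow_two]
      group
    rw [e, Units.val_mul, Units.val_mul, hxz, Matrix.mul_smul, Matrix.mul_one, Matrix.smul_mul,
      ← Units.val_mul, inv_mul_cancel, Units.val_one]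
  obtain ⟨c, hc⟩ := u82_two_not q₀ n hF hn h2 f hf (g⁻¹ * x * g) hg z hy2
  exact hzns c hc.symm

end Cfsg.Agent.Lib.Helper16.U82
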