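import Mathlib
import Cfsg.Agent.Lib.Helper16.U82.Defs
import Cfsg.Agent.Lib.helper14.SubD
import Cfsg.Agent.Lib.helper14.InvE

set_option autoImplicit false

/-!
# Project U82, row B1 (u82_two_sq): `x ∈ SL_n(q₀²)` with `x ^ 2 = z` scalar: `z` is a square if `p = 2` or
`(n)_2 ≤ (q - 1)_2`.
-/

namespace Cfsg.Agent.Lib.Helper16.U82

open Matrix Cfsg.Agent.Lib.Helper16 Cfsg.Agent.Lib.helper14
open scoped MatrixGroups

/-- B1 TWOSQ [M]: `x ∈ SL_n`, `x ^ 2 = z`: `z` is a square if `p = 2` or `(n)_2 ≤ (q-1)_2`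
(as in `Cfsg.Agent.S5964`: helper14 `InvE.planes_nonsquare`, `SubD.no_nonsquare`; `-1` is a square
since `q = q₀ ^ 2`). -/
theorem u82_two_sq {F : Type*} [Field F] [Fintype F] {p : ℕ} [Fact p.Prime] [CharP F p]
    (q₀ n : ℕ) (hF : Fintype.card F = q₀ ^ 2) (hn : 1 ≤ n)
    (hcond : p = 2 ∨ padicValNat 2 n ≤ padicValNat 2 (q₀ ^ 2 - 1))
    (x : GL (Fin n) F) (hx : x ∈ Cfsg.Geo.specialLinear (Fin n) F) (z : F)
    (hz : ((x ^ 2 : GL (Fin n) F) : Matrix (Fin n) (Fin n) F) = z • (1 : Matrix (Fin n) (Fin n) F)) :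
    ∃ c : F, z = c * c := by
  classical
  have hn0 : n ≠ 0 := by omega
  have hchar : ringChar F = p := ringChar.eq F p
  by_cases hF2 : ringChar F = 2
  · obtain ⟨μ, hμ⟩ := FiniteField.isSquare_of_char_two hF2 z
    exact ⟨μ, hμ⟩
  · have hp2 : p ≠ 2 := by rw [← hchar]; exact hF2
    have hv : padicValNat 2 n ≤ padicValNat 2 (q₀ ^ 2 - 1) := by
      rcases hcond with h | h
      · exact absurd h hp2
      · exact h
    have hdet : (x : Matrix (Fin n) (Fin n) F).det = 1 := by
      have h1 : Matrix.GeneralLinearGroup.det x = 1 := MonoidHom.mem_ker.mp hx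
      have h2 := congrArg (fun u : Fˣ => (u : F)) h1
      simpa using h2
    have hxx : (x : Matrix (Fin n) (Fin n) F) * (x : Matrix (Fin n) (Fin n) F) =
        z • (1 : Matrix (Fin n) (Fin n) F) := by
      rw [← hz, pow_two, Units.val_mul]
    have hzn : z ^ n = 1 := by
      have := congrArg Matrix.det hxx
      rw [Matrix.det_mul, hdet, Matrix.det_smul, Matrix.det_one, Fintype.card_fin, mul_one,
        mul_one] at this
      exact this.symm
    have hneg1 : ∃ i : F, i * i = -1 := by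
      have h4 : Fintype.card F % 4 ≠ 3 := by
        rw [hF, Nat.pow_mod]
        have : q₀ % 4 < 4 := Nat.mod_lt _ (by norm_num)
        interval_cases (q₀ % 4) <;> norm_num
      obtain ⟨i, hi⟩ := FiniteField.isSquare_neg_one_iff.mpr h4
      exact ⟨i, hi.symm⟩
    by_contra hcon
    have hsq : ∀ a : F, a * a ≠ z := fun a ha => hcon ⟨a, ha.symm⟩
    have hneven : Even n := by
      by_contra hodd
      rw [Nat.not_even_iff_odd] at hodd
      obtain ⟨m, hm⟩ := hodd
      apply hsq (z ^ (m + 1))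
      rw [← pow_add]
      have : m + 1 + (m + 1) = n + 1 := by omega
      rw [this, pow_succ, hzn, one_mul]
    obtain ⟨k₂, hk₂⟩ := hneven
    have hk₂' : n = 2 * k₂ := by omega
    have hk₂0 : k₂ ≠ 0 := by omega
    obtain ⟨g, g', h1, h2', h3⟩ :=
      InvE.planes_nonsquare (x : Matrix (Fin n) (Fin n) F) z k₂ hk₂' hxx hsq
    have hdet' : (-z) ^ k₂ = 1 := by
      have := congrArg Matrix.det h3
      rw [hdet, Matrix.det_conj_of_mul_eq_one h1 h2', Matrix.det_blockDiagonal] at this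
      simp only [InvE.mNS_det, Finset.prod_const, Finset.card_univ, Fintype.card_fin] at this
      exact this.symm
    exact SubD.no_nonsquare hF2 (q₀ ^ 2) hF hneg1 z hsq n k₂ hk₂' hk₂0 hdet' hv

end Cfsg.Agent.Lib.Helper16.U82
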