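import Mathlib
import Cfsg.Agent.Lib.Helper16.U82.Defs
import Cfsg.Agent.Lib.Helper16.U82A679

set_option autoImplicit false

/-!
# Project U82, row B2 (u82_two_in_odd): odd characteristic: an involution is similar to its `ustar`.
-/

namespace Cfsg.Agent.Lib.Helper16.U82

open Matrix Cfsg.Agent.Lib.Helper16
open scoped MatrixGroups

/-- `ustar` fixes a diagonal matrix with entries `±1` when `q₀` is odd. -/
theorem u82b2_ustar_diag {F : Type*} [Field F] (q₀ n : ℕ) (hq : Odd q₀) (χ : Fin n → F)
    (hχ : ∀ i, χ i ^ 2 = 1) : ustar q₀ (Matrix.diagonal χ) = Matrix.diagonal χ := by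
  have hq0 : q₀ ≠ 0 := by
    rintro rfl
    exact (Nat.not_odd_iff_even.mpr Even.zero) hq
  have hpow : ∀ i, χ i ^ q₀ = χ i := by
    intro i
    obtain ⟨m, rfl⟩ := hq
    rw [pow_succ, pow_mul, hχ i, one_pow, one_mul]
  have hmap : (Matrix.diagonal χ).map (fun a : F => a ^ q₀) = Matrix.diagonal χ := by
    rw [Matrix.diagonal_map (f := fun a : F => a ^ q₀) (zero_pow hq0)]
    congr 1
    funext i
    exact hpow i
  unfold ustar
  rw [hmap, Matrix.diagonal_transpose]
  apply Matrix.inv_eq_left_inv
  rw [Matrix.diagonal_mul_diagonal]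
  have : (fun i => χ i * χ i) = fun _ => (1 : F) := by
    funext i
    rw [← pow_two, hχ i]
  rw [this, Matrix.diagonal_one]

/-- B2 TWOINODD [M]: odd characteristic: an involution is similar to its `ustar`
(`PGLR.exists_diag` with `ζ = -1`; `ustar` of `diag(±1)` is itself; A9). -/
theorem u82_two_in_odd {F : Type*} [Field F] [Fintype F] (q₀ n : ℕ) (hF : Fintype.card F = q₀ ^ 2)
    (h2 : (2 : F) ≠ 0) (y : Matrix (Fin n) (Fin n) F) (hy : y * y = 1) :
    IsConj y (ustar q₀ y) := by
  classical
  -- `q₀` is odd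
  have hchar : ringChar F ≠ 2 := by
    intro h
    apply h2
    have := ringChar.Nat.cast_ringChar (R := F)
    rw [h] at this
    exact_mod_cast this
  have hodd := FiniteField.odd_card_of_char_ne_two hchar
  rw [hF] at hodd
  have hq : Odd q₀ := by
    rcases Nat.even_or_odd q₀ with he | ho
    · exfalso
      obtain ⟨k, hk⟩ := he
      rw [hk] at hodd
      have : (k + k) ^ 2 = 2 * (2 * k * k) := by ring
      omega
    · exact ho
  -- `-1` is a primitive second root of unity
  have hζ : IsPrimitiveRoot (-1 : F) 2 := by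
    apply IsPrimitiveRoot.mk_of_lt (-1 : F) (by norm_num) (by ring)
    intro l hl0 hl2
    have hl : l = 1 := by omega
    subst hl
    rw [pow_one]
    intro h
    apply h2
    have : (2 : F) = 1 - (-1) := by ring
    rw [this, h, sub_self]
  have ha : y ^ 2 = 1 := by rw [pow_two, hy]
  obtain ⟨P, χ, hP, hχ, hyP⟩ := PGLR.exists_diag y 2 (by norm_num) (-1 : F) hζ ha
  have hPu : IsUnit P := (Matrix.isUnit_iff_isUnit_det P).mpr hP
  have h1 : IsConj (Matrix.diagonal χ) y := ⟨hPu.unit, by
    show (hPu.unit : Matrix (Fin n) (Fin n) F) * Matrix.diagonal χ = y * (hPu.unit : Matrix (Fin n) (Fin n) F)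
    rw [IsUnit.unit_spec]
    exact hyP.symm⟩
  have hydet : IsUnit y.det := by
    have := congrArg Matrix.det hy
    rw [Matrix.det_mul, Matrix.det_one] at this
    exact IsUnit.of_mul_eq_one _ this
  have h3 : IsConj (ustar q₀ y) (ustar q₀ (Matrix.diagonal χ)) :=
    u82_star_conj q₀ n hF y (Matrix.diagonal χ) hydet h1.symm
  rw [u82b2_ustar_diag q₀ n hq χ hχ] at h3
  exact h1.symm.trans h3.symm

end Cfsg.Agent.Lib.Helper16.U82
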