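import Mathlib
import Cfsg.Agent.Lib.helper6.SSCONJ.Defs

/-!
# Project SSCONJ, row MAT: core (the conclusion of MAIN `ss_equiv` for `toLin' x`, `toLin' y` as a hypothesis).
-/

set_option autoImplicit false

open Polynomial

namespace Cfsg.Agent.Lib.helper6.SSCONJ

variable {F : Type*} [Field F]

/-- an intertwining linear equivalence between `toLin' x` and `toLin' y` gives a conjugating element of `GL` -/
theorem ssconjmat_core {n : Type*} [Fintype n] [DecidableEq n] (x y : Matrix n n F)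
    (hmain : ∃ e : (n → F) ≃ₗ[F] (n → F), ∀ v, e (Matrix.toLin' x v) = Matrix.toLin' y (e v)) :
    ∃ g : GL n F, (g : Matrix n n F) * x * ((g⁻¹ : GL n F) : Matrix n n F) = y := by
  obtain ⟨e, he⟩ := hmain
  have h1 : LinearMap.toMatrix' (e : (n → F) →ₗ[F] (n → F)) *
      LinearMap.toMatrix' (e.symm : (n → F) →ₗ[F] (n → F)) = 1 := by
    rw [← LinearMap.toMatrix'_comp, ← LinearMap.toMatrix'_id]
    congr 1
    ext v : 1
    simp
  have h2 : LinearMap.toMatrix' (e.symm : (n → F) →ₗ[F] (n → F)) *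
      LinearMap.toMatrix' (e : (n → F) →ₗ[F] (n → F)) = 1 := by
    rw [← LinearMap.toMatrix'_comp, ← LinearMap.toMatrix'_id]
    congr 1
    ext v : 1
    simp
  have h3 : LinearMap.toMatrix' (e : (n → F) →ₗ[F] (n → F)) * x =
      y * LinearMap.toMatrix' (e : (n → F) →ₗ[F] (n → F)) := by
    have hx : x = LinearMap.toMatrix' (Matrix.toLin' x) := (LinearMap.toMatrix'_toLin' x).symm
    have hy : y = LinearMap.toMatrix' (Matrix.toLin' y) := (LinearMap.toMatrix'_toLin' y).symm
    conv_lhs => rw [hx]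
    conv_rhs => rw [hy]
    rw [← LinearMap.toMatrix'_comp, ← LinearMap.toMatrix'_comp]
    congr 1
    apply LinearMap.ext
    intro v
    exact he v
  refine ⟨⟨LinearMap.toMatrix' (e : (n → F) →ₗ[F] (n → F)),
    LinearMap.toMatrix' (e.symm : (n → F) →ₗ[F] (n → F)), h1, h2⟩, ?_⟩
  show LinearMap.toMatrix' (e : (n → F) →ₗ[F] (n → F)) * x *
    LinearMap.toMatrix' (e.symm : (n → F) →ₗ[F] (n → F)) = y
  rw [h3, mul_assoc, h1, mul_one]

end Cfsg.Agent.Lib.helper6.SSCONJ
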