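import Mathlib
import Cfsg.Agent.Lib.Helper16.U82.Defs
import Cfsg.Agent.Lib.helper14.SubC
import Cfsg.Agent.Lib.Helper20.SSCONJMATcore

set_option autoImplicit false

/-!
# Project U82, row B3a (u82_inv_class_p2): characteristic 2: involutions `u` are classified by `rank (u - 1)`.
-/

namespace Cfsg.Agent.Lib.Helper16.U82

open Matrix Cfsg.Agent.Lib.Helper16
open scoped MatrixGroups

/-- the rank of a square-zero endomorphism read off a Jordan basis -/
theorem u82b3a_rank_of_jordan {F : Type*} [Field F] {V : Type*} [AddCommGroup V] [Module F V]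
    [FiniteDimensional F V] (N : Module.End F V) (r d : ℕ)
    (B : Module.Basis (Fin r ⊕ (Fin r ⊕ Fin d)) F V)
    (h0 : ∀ i, N (B (Sum.inl i)) = B (Sum.inr (Sum.inl i)))
    (h1 : ∀ i, N (B (Sum.inr (Sum.inl i))) = 0)
    (h2 : ∀ j, N (B (Sum.inr (Sum.inr j))) = 0) :
    Module.finrank F (LinearMap.range N) = r := by
  have hli : LinearIndependent F (fun i : Fin r => B (Sum.inr (Sum.inl i))) :=
    B.linearIndependent.comp (fun i : Fin r => (Sum.inr (Sum.inl i) : Fin r ⊕ (Fin r ⊕ Fin d)))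
      (fun a b h => Sum.inl_injective (Sum.inr_injective h))
  have hrange : LinearMap.range N =
      Submodule.span F (Set.range (fun i : Fin r => B (Sum.inr (Sum.inl i)))) := by
    apply le_antisymm
    · rintro _ ⟨v, rfl⟩
      rw [← B.sum_repr v, map_sum]
      apply Submodule.sum_mem
      intro k _
      rw [map_smul]
      apply Submodule.smul_mem
      rcases k with i | i | j
      · rw [h0]
        exact Submodule.subset_span ⟨i, rfl⟩
      · rw [h1]
        exact Submodule.zero_mem _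
      · rw [h2]
        exact Submodule.zero_mem _
    · rw [Submodule.span_le]
      rintro _ ⟨i, rfl⟩
      exact ⟨B (Sum.inl i), h0 i⟩
  rw [hrange, finrank_span_eq_card hli, Fintype.card_fin]

/-- two square-zero endomorphisms with Jordan bases of the same shape are intertwined -/
theorem u82b3a_intertwine {F : Type*} [Field F] {V : Type*} [AddCommGroup V] [Module F V]
    (N N' : Module.End F V) (r d : ℕ)
    (B B' : Module.Basis (Fin r ⊕ (Fin r ⊕ Fin d)) F V)
    (h0 : ∀ i, N (B (Sum.inl i)) = B (Sum.inr (Sum.inl i)))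
    (h1 : ∀ i, N (B (Sum.inr (Sum.inl i))) = 0)
    (h2 : ∀ j, N (B (Sum.inr (Sum.inr j))) = 0)
    (h0' : ∀ i, N' (B' (Sum.inl i)) = B' (Sum.inr (Sum.inl i)))
    (h1' : ∀ i, N' (B' (Sum.inr (Sum.inl i))) = 0)
    (h2' : ∀ j, N' (B' (Sum.inr (Sum.inr j))) = 0) :
    ∃ e : V ≃ₗ[F] V, ∀ v, e (N v) = N' (e v) := by
  refine ⟨B.equiv B' (Equiv.refl _), ?_⟩
  have hcomp : ((B.equiv B' (Equiv.refl _) : V ≃ₗ[F] V) : V →ₗ[F] V) ∘ₗ N =
      N' ∘ₗ ((B.equiv B' (Equiv.refl _) : V ≃ₗ[F] V) : V →ₗ[F] V) := by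
    apply B.ext
    intro k
    simp only [LinearMap.comp_apply, LinearEquiv.coe_coe, Module.Basis.equiv_apply, Equiv.refl_apply]
    rcases k with i | i | j
    · rw [h0, h0', Module.Basis.equiv_apply, Equiv.refl_apply]
    · rw [h1, h1', map_zero]
    · rw [h2, h2', map_zero]
  intro v
  exact congrArg (fun f : V →ₗ[F] V => f v) hcomp

/-- B3a INVCLASS2 [L]: characteristic 2: involutions `u` are classified by `rank (u - 1)`
(helper14 `SubC.exists_jordan_sq_zero` for `N = u - 1`). -/
theorem u82_inv_class_p2 {F : Type*} [Field F] (n : ℕ) (h2 : (2 : F) = 0)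
    (u v : Matrix (Fin n) (Fin n) F) (hu : u * u = 1) (hv : v * v = 1)
    (hr : (u - 1).rank = (v - 1).rank) : IsConj u v := by
  classical
  have hsq : ∀ w : Matrix (Fin n) (Fin n) F, w * w = 1 → (w - 1) * (w - 1) = 0 := by
    intro w hw
    have : (w - 1) * (w - 1) = w * w - (2 : F) • w + 1 := by
      rw [two_smul]
      noncomm_ring
    rw [this, hw, h2, zero_smul, sub_zero]
    have : (1 : Matrix (Fin n) (Fin n) F) + 1 = (2 : F) • 1 := by rw [two_smul]
    rw [this, h2, zero_smul]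
  have hNN : ∀ w : Matrix (Fin n) (Fin n) F, w * w = 1 →
      ∀ x, Matrix.toLin' (w - 1) (Matrix.toLin' (w - 1) x) = 0 := by
    intro w hw x
    rw [Matrix.toLin'_apply, Matrix.toLin'_apply, Matrix.mulVec_mulVec, hsq w hw, Matrix.zero_mulVec]
  obtain ⟨r, d, B, hB0, hB1, hB2⟩ :=
    Cfsg.Agent.Lib.helper14.SubC.exists_jordan_sq_zero (Matrix.toLin' (u - 1)) (hNN u hu)
  obtain ⟨r', d', B', hB0', hB1', hB2'⟩ :=
    Cfsg.Agent.Lib.helper14.SubC.exists_jordan_sq_zero (Matrix.toLin' (v - 1)) (hNN v hv)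
  have hru : (u - 1).rank = r := u82b3a_rank_of_jordan _ r d B hB0 hB1 hB2
  have hrv : (v - 1).rank = r' := u82b3a_rank_of_jordan _ r' d' B' hB0' hB1' hB2'
  have hrr : r = r' := by rw [← hru, ← hrv, hr]
  have hcard : r + (r + d) = n := by
    have := Module.finrank_eq_card_basis B
    rw [Module.finrank_fin_fun, Fintype.card_sum, Fintype.card_sum, Fintype.card_fin,
      Fintype.card_fin] at this
    omega
  have hcard' : r' + (r' + d') = n := by
    have := Module.finrank_eq_card_basis B'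
    rw [Module.finrank_fin_fun, Fintype.card_sum, Fintype.card_sum, Fintype.card_fin,
      Fintype.card_fin] at this
    omega
  have hdd : d = d' := by omega
  subst hrr
  subst hdd
  obtain ⟨e, he⟩ := u82b3a_intertwine _ _ r d B B' hB0 hB1 hB2 hB0' hB1' hB2'
  have he' : ∀ x, e (Matrix.toLin' u x) = Matrix.toLin' v (e x) := by
    intro x
    have h1 := he x
    rw [Matrix.toLin'_apply, Matrix.toLin'_apply, Matrix.sub_mulVec, Matrix.sub_mulVec,
      Matrix.one_mulVec, Matrix.one_mulVec, map_sub] at h1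
    rw [Matrix.toLin'_apply, Matrix.toLin'_apply]
    have h3 : e (u *ᵥ x) = e (u *ᵥ x) - e x + e x := by abel
    rw [h3, h1]
    abel
  obtain ⟨g, hg⟩ := Cfsg.Agent.Lib.helper6.SSCONJ.ssconjmat_core u v ⟨e, he'⟩
  refine ⟨g, ?_⟩
  show (g : Matrix (Fin n) (Fin n) F) * u = v * (g : Matrix (Fin n) (Fin n) F)
  rw [← hg, Matrix.mul_assoc, ← Units.val_mul, inv_mul_cancel, Units.val_one, Matrix.mul_one]

end Cfsg.Agent.Lib.Helper16.U82
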