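import Mathlib
import Cfsg.Agent.Lib.Helper16.U82.Defs
import Cfsg.Agent.Lib.Helper16.U82A679
import Cfsg.Agent.Lib.Helper20.U82B3a

set_option autoImplicit false

/-!
# Project U82, row B3 (u82_two_in_p2): characteristic 2: an involution is similar to its `ustar`.
-/

namespace Cfsg.Agent.Lib.Helper16.U82

open Matrix Cfsg.Agent.Lib.Helper16
open scoped MatrixGroups

/-- the rank of a square matrix over a field does not change under a ring endomorphism of the field -/
theorem u82b3_rank_map {F : Type*} [Field F] {m : Type*} [Fintype m] [DecidableEq m]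
    (σ : F →+* F) (M : Matrix m m F) : (M.map σ).rank = M.rank := by
  obtain ⟨V, U, e, hV, hU, h⟩ := Matrix.exists_rank_normal_form M
  have hVd : IsUnit V.det := (Matrix.isUnit_iff_isUnit_det V).mp hV
  have hUd : IsUnit U.det := (Matrix.isUnit_iff_isUnit_det U).mp hU
  have hVd' : IsUnit (σ.mapMatrix V).det := by
    rw [← RingHom.map_det]
    exact hVd.map σ
  have hUd' : IsUnit (σ.mapMatrix U).det := by
    rw [← RingHom.map_det]
    exact hUd.map σ
  have h' : σ.mapMatrix V * σ.mapMatrix M * σ.mapMatrix U =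
      σ.mapMatrix ((Matrix.fromBlocks 1 0 0 0 :
        Matrix (Fin M.rank ⊕ Fin (Fintype.card m - M.rank))
          (Fin M.rank ⊕ Fin (Fintype.card m - M.rank)) F).submatrix e e) := by
    rw [← map_mul, ← map_mul, h]
  have hfix : σ.mapMatrix ((Matrix.fromBlocks 1 0 0 0 :
        Matrix (Fin M.rank ⊕ Fin (Fintype.card m - M.rank))
          (Fin M.rank ⊕ Fin (Fintype.card m - M.rank)) F).submatrix e e) =
      (Matrix.fromBlocks 1 0 0 0 :
        Matrix (Fin M.rank ⊕ Fin (Fintype.card m - M.rank))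
          (Fin M.rank ⊕ Fin (Fintype.card m - M.rank)) F).submatrix e e := by
    ext i j
    simp only [RingHom.mapMatrix_apply, Matrix.map_apply, Matrix.submatrix_apply]
    rcases e i with a | a <;> rcases e j with b | b <;>
      simp [Matrix.one_apply, apply_ite σ]
  have e1 : (σ.mapMatrix M).rank = (σ.mapMatrix V * σ.mapMatrix M * σ.mapMatrix U).rank := by
    rw [Matrix.rank_mul_eq_left_of_isUnit_det _ _ hUd',
      Matrix.rank_mul_eq_right_of_isUnit_det _ _ hVd']
  have e2 : M.rank = (V * M * U).rank := by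
    rw [Matrix.rank_mul_eq_left_of_isUnit_det _ _ hUd,
      Matrix.rank_mul_eq_right_of_isUnit_det _ _ hVd]
  have e3 : (σ.mapMatrix V * σ.mapMatrix M * σ.mapMatrix U).rank = (V * M * U).rank := by
    rw [h', hfix, h]
  show (σ.mapMatrix M).rank = M.rank
  exact e1.trans (e3.trans e2.symm)

/-- B3 TWOINP2 [M]: characteristic 2: an involution is similar to its `ustar` (B3a: `ustar q₀ u` is
an involution with `rank (ustar q₀ u - 1) = rank (u - 1)`). -/
theorem u82_two_in_p2 {F : Type*} [Field F] [Fintype F] (q₀ n : ℕ) (hF : Fintype.card F = q₀ ^ 2)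
    (h2 : (2 : F) = 0) (u : Matrix (Fin n) (Fin n) F) (hu : u * u = 1) :
    IsConj u (ustar q₀ u) := by
  classical
  obtain ⟨σ, hσ⟩ := Cfsg.Agent.Lib.Lead.exists_frob hF
  have hmap : ∀ M : Matrix (Fin n) (Fin n) F, M.map (fun a : F => a ^ q₀) = M.map σ := by
    intro M
    ext i j
    simp [hσ]
  have hw2 : ustar q₀ u * ustar q₀ u = 1 := by
    rw [← u82a9_ustar_mul q₀ n hF, hu, u82a9_ustar_one q₀ n hF]
  -- `ustar q₀ u = (u^σ)ᵀ`
  have hT : (u.map σ)ᵀ * (u.map σ)ᵀ = 1 := by
    rw [← Matrix.transpose_mul, ← Matrix.map_mul, hu, Matrix.map_one σ (map_zero σ) (map_one σ),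
      Matrix.transpose_one]
  have hw : ustar q₀ u = (u.map σ)ᵀ := by
    unfold ustar
    rw [hmap]
    exact Matrix.inv_eq_left_inv hT
  have hsub : ustar q₀ u - 1 = ((u - 1).map σ)ᵀ := by
    rw [hw, Matrix.map_sub (f := σ) (fun a b => map_sub σ a b),
      Matrix.map_one σ (map_zero σ) (map_one σ), Matrix.transpose_sub, Matrix.transpose_one]
  have hr : (u - 1).rank = (ustar q₀ u - 1).rank := by
    rw [hsub, Matrix.rank_transpose, u82b3_rank_map]
  exact u82_inv_class_p2 n h2 u (ustar q₀ u) hu hw2 hr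

end Cfsg.Agent.Lib.Helper16.U82
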