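import Mathlib
import Cfsg.Agent.Lib.Helper11.UNS.Defs
import Cfsg.Agent.Lib.Helper9.UNSW1
import Cfsg.Agent.Lib.Helper13.UNSW2
import Cfsg.Agent.Lib.Helper20.UNSW5core

/-!
# Project UNS, row W5 (helper20), verbatim: existence of the block reversal.
-/

set_option autoImplicit false

namespace Cfsg.Agent.Lib.Helper11.UNS

open Cfsg.Agent.Lib.helper14.SpBN

variable {m : ℕ}

/-- W5 [M]. -/
theorem exists_rev (J : Finset ℕ) : ∃ π : Equiv.Perm (Fin m ⊕ Fin m), IsRev J π :=
  unsw5_core J (BP_tauS J) (rev_of_simple J)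

end Cfsg.Agent.Lib.Helper11.UNS
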