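import Mathlib
import Cfsg.Prelude.Def_GeometricClasses
import Cfsg.Agent.Lib.Helper27.ASC.Defs
import Cfsg.Agent.Lib.Helper19.ASG.Defs
import Cfsg.Agent.Lib.Helper18.ASP.Defs
import Cfsg.Agent.Lib.Lead.Reindex
import Cfsg.Agent.Lib.Helper28.OFrameT

/-!
# Project ASP, piece TR-ISO : `isoGL_reindex` (verbatim vs `Helper18/ASP/Skel`)
-/

set_option autoImplicit false
set_option linter.unusedVariables false
set_option linter.unusedSectionVars false

namespace Cfsg.Agent.Lib.Helper18.ASP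

open Cfsg Cfsg.Geo Cfsg.Agent.Lib.Helper27.ASC Cfsg.Agent.Lib.Helper19.ASG
open scoped MatrixGroups Matrix

variable {n : ℕ} {F : Type*} [Field F] [Fintype F]

section transport

open Cfsg.Agent.Lib.Lead

variable {ι κ : Type} [Fintype ι] [DecidableEq ι] [Fintype κ] [DecidableEq κ]

/-- TR-ISO -/
theorem isoGL_reindex (e : ι ≃ κ) (f : (ι → F) → (ι → F) → F) :
    (isoGL f).map (RI.glReindex (F := F) e).toMonoidHom = isoGL (fun x y : κ → F => f (x ∘ e) (y ∘ e)) := by
  ext h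
  rw [Subgroup.mem_map_equiv, mem_isoGL_iff, mem_isoGL_iff]
  have key : ∀ x : κ → F, ((h : Matrix κ κ F) *ᵥ x) ∘ e =
      (((RI.glReindex (F := F) e).symm h : GL ι F) : Matrix ι ι F) *ᵥ (x ∘ e) := by
    intro x
    have := Cfsg.Agent.Lib.Helper28.OFrameT.reindex_key e ((RI.glReindex (F := F) e).symm h) x
    rw [MulEquiv.apply_symm_apply] at this
    exact this
  constructor
  · intro H x y
    show f (((h : Matrix κ κ F) *ᵥ x) ∘ e) (((h : Matrix κ κ F) *ᵥ y) ∘ e) = f (x ∘ e) (y ∘ e)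
    rw [key, key]
    exact H (x ∘ e) (y ∘ e)
  · intro H u v
    have h1 := H (u ∘ e.symm) (v ∘ e.symm)
    have hu : (u ∘ e.symm) ∘ e = u := by
      funext i
      simp
    have hv : (v ∘ e.symm) ∘ e = v := by
      funext i
      simp
    have h2 : f (((h : Matrix κ κ F) *ᵥ (u ∘ e.symm)) ∘ e) (((h : Matrix κ κ F) *ᵥ (v ∘ e.symm)) ∘ e) =
        f ((u ∘ e.symm) ∘ e) ((v ∘ e.symm) ∘ e) := h1
    rw [key, key, hu, hv] at h2
    exact h2

end transport

end Cfsg.Agent.Lib.Helper18.ASP
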