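import Mathlib
import Cfsg.Prelude.Def_GeometricClasses
import Cfsg.Agent.Lib.Helper27.ASC.Defs
import Cfsg.Agent.Lib.Helper19.ASG.Defs
import Cfsg.Agent.Lib.Helper18.ASP.Defs
import Cfsg.Agent.Lib.Lead.Reindex
import Cfsg.Agent.Lib.Helper28.OTrans
import Cfsg.Agent.Lib.Helper20.ASPTRISO

/-!
# Project ASP, piece TR-C1 : `tr_c1` (verbatim vs `Helper18/ASP/Skel`)
-/

set_option autoImplicit false
set_option linter.unusedVariables false
set_option linter.unusedSectionVars false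

namespace Cfsg.Agent.Lib.Helper18.ASP

open Cfsg Cfsg.Geo Cfsg.Agent.Lib.Helper27.ASC Cfsg.Agent.Lib.Helper19.ASG
open scoped MatrixGroups Matrix

variable {n : ℕ} {F : Type*} [Field F] [Fintype F]

section transport

open Cfsg.Agent.Lib.Lead

variable {ι κ : Type} [Fintype ι] [DecidableEq ι] [Fintype κ] [DecidableEq κ]

/-- the transported subspace is non-zero -/
theorem asptrc1_comap_ne_bot (e : ι ≃ κ) (W : Submodule F (ι → F)) (hW : W ≠ ⊥) :
    W.comap (LinearMap.funLeft F F e) ≠ ⊥ := by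
  obtain ⟨w, hw, hw0⟩ := (Submodule.ne_bot_iff W).mp hW
  rw [Submodule.ne_bot_iff]
  have h1 : (w ∘ e.symm) ∘ e = w := by
    funext i
    simp
  refine ⟨w ∘ e.symm, ?_, ?_⟩
  · rw [Submodule.mem_comap]
    show (w ∘ e.symm) ∘ e ∈ W
    rw [h1]
    exact hw
  · intro h0
    apply hw0
    rw [← h1, h0]
    rfl

/-- `(S ⊓ isoGL f).map φ = S.map φ ⊓ isoGL f'` -/
theorem asptrc1_map_inf (e : ι ≃ κ) (f : (ι → F) → (ι → F) → F) (S : Subgroup (GL ι F)) :
    (S ⊓ isoGL f).map (RI.glReindex (F := F) e).toMonoidHom =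
      S.map (RI.glReindex (F := F) e).toMonoidHom ⊓ isoGL (fun x y : κ → F => f (x ∘ e) (y ∘ e)) := by
  have h1 := Subgroup.map_inf S (isoGL f) (RI.glReindex (F := F) e).toMonoidHom
    (RI.glReindex (F := F) e).injective
  rw [h1, isoGL_reindex]

/-- TR-C1 : totally singular subspace -/
theorem tr_c1 (e : ι ≃ κ) (f : (ι → F) → (ι → F) → F) (M : Subgroup (GL ι F))
    (h : ∃ W : Submodule F (ι → F), W ≠ ⊥ ∧ IsTotallySingularFor f W ∧ M = subspaceStabilizer W ⊓ isoGL f) :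
    ∃ W : Submodule F (κ → F), W ≠ ⊥ ∧ IsTotallySingularFor (fun x y : κ → F => f (x ∘ e) (y ∘ e)) W ∧
      M.map (RI.glReindex (F := F) e).toMonoidHom =
        subspaceStabilizer W ⊓ isoGL (fun x y : κ → F => f (x ∘ e) (y ∘ e)) := by
  obtain ⟨W, hW, hts, rfl⟩ := h
  refine ⟨W.comap (LinearMap.funLeft F F e), asptrc1_comap_ne_bot e W hW, ?_, ?_⟩
  · intro u hu v hv
    exact hts (u ∘ e) hu (v ∘ e) hv
  · rw [asptrc1_map_inf, Cfsg.Agent.Lib.Helper28.OTrans.map_stab]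

end transport

end Cfsg.Agent.Lib.Helper18.ASP
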