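import Mathlib
import Cfsg.Prelude.Def_GeometricClasses
import Cfsg.Agent.Lib.Helper27.ASC.Defs
import Cfsg.Agent.Lib.Helper19.ASG.Defs
import Cfsg.Agent.Lib.Helper18.ASP.Defs
import Cfsg.Agent.Lib.Lead.Reindex
import Cfsg.Agent.Lib.Helper28.OFrameT
import Cfsg.Agent.Lib.Helper20.ASPTRC1

/-!
# Project ASP, piece TR-C7 : `tr_c7` (verbatim vs `Helper18/ASP/Skel`)
-/

set_option autoImplicit false
set_option linter.unusedVariables false
set_option linter.unusedSectionVars false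

namespace Cfsg.Agent.Lib.Helper18.ASP

open Cfsg Cfsg.Geo Cfsg.Agent.Lib.Helper27.ASC Cfsg.Agent.Lib.Helper19.ASG
open scoped MatrixGroups Matrix

variable {n : ℕ} {F : Type*} [Field F] [Fintype F]

section transport

open Cfsg.Agent.Lib.Lead

variable {ι κ : Type} [Fintype ι] [DecidableEq ι] [Fintype κ] [DecidableEq κ]

theorem asptrc7_symm_comp (e : ι ≃ κ) (u : ι → F) : (u ∘ e.symm) ∘ e = u := by
  funext i
  simp

/-- `h *ᵥ x` read through `e` -/
theorem asptrc7_key (e : ι ≃ κ) (h : GL κ F) (x : κ → F) :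
    ((h : Matrix κ κ F) *ᵥ x) ∘ e =
      (((RI.glReindex (F := F) e).symm h : GL ι F) : Matrix ι ι F) *ᵥ (x ∘ e) := by
  have := Cfsg.Agent.Lib.Helper28.OFrameT.reindex_key e ((RI.glReindex (F := F) e).symm h) x
  rw [MulEquiv.apply_symm_apply] at this
  exact this

/-- the quadratic similarity group is transported -/
theorem asptrc7_map_quadSim (e : ι ≃ κ) (Q : (ι → F) → F) :
    (quadSimilarityGroup Q).map (RI.glReindex (F := F) e).toMonoidHom =
      quadSimilarityGroup (fun x : κ → F => Q (x ∘ e)) := by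
  ext h
  rw [Subgroup.mem_map_equiv]
  constructor
  · rintro ⟨c, hc⟩
    refine ⟨c, fun v => ?_⟩
    show Q (((h : Matrix κ κ F) *ᵥ v) ∘ e) = (c : F) * Q (v ∘ e)
    rw [asptrc7_key]
    exact hc (v ∘ e)
  · rintro ⟨c, hc⟩
    refine ⟨c, fun v => ?_⟩
    have h1 : Q (((h : Matrix κ κ F) *ᵥ (v ∘ e.symm)) ∘ e) = (c : F) * Q ((v ∘ e.symm) ∘ e) :=
      hc (v ∘ e.symm)
    rw [asptrc7_key, asptrc7_symm_comp] at h1
    exact h1

theorem asptrc7_polar (e : ι ≃ κ) (Q : (ι → F) → F) (u v : κ → F) :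
    QuadraticMap.polar (fun x : κ → F => Q (x ∘ e)) u v = QuadraticMap.polar Q (u ∘ e) (v ∘ e) := rfl

/-- a non-degenerate quadratic form is transported -/
theorem asptrc7_nondeg (e : ι ≃ κ) (Q : (ι → F) → F) (hQ : IsNondegenerateQuadraticForm Q) :
    IsNondegenerateQuadraticForm (fun x : κ → F => Q (x ∘ e)) := by
  refine ⟨?_, ⟨?_, ?_, ?_, ?_⟩, ?_⟩
  · intro c v
    exact hQ.smul c (v ∘ e)
  · intro x y v
    exact hQ.polar_bilinear.add_left (x ∘ e) (y ∘ e) (v ∘ e)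
  · intro c x v
    exact hQ.polar_bilinear.smul_left c (x ∘ e) (v ∘ e)
  · intro v x y
    exact hQ.polar_bilinear.add_right (v ∘ e) (x ∘ e) (y ∘ e)
  · intro c v x
    exact hQ.polar_bilinear.smul_right c (v ∘ e) (x ∘ e)
  · intro v hv
    have hv' : v ∘ e ≠ 0 := by
      intro h0
      apply hv
      funext k
      have := congrFun h0 (e.symm k)
      simpa using this
    obtain ⟨⟨x, hx⟩, ⟨y, hy⟩⟩ := hQ.nondegenerate (v ∘ e) hv'
    refine ⟨⟨x ∘ e.symm, ?_⟩, ⟨y ∘ e.symm, ?_⟩⟩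
    · rw [asptrc7_polar, asptrc7_symm_comp]
      exact hx
    · rw [asptrc7_polar, asptrc7_symm_comp]
      exact hy

/-- TR-C7 : quadratic form (`|F|` even) -/
theorem tr_c7 (e : ι ≃ κ) (f : (ι → F) → (ι → F) → F) (M : Subgroup (GL ι F))
    (h : ∃ Q : (ι → F) → F, ¬ Odd (Fintype.card F) ∧ IsNondegenerateQuadraticForm Q ∧
      (∀ u v, QuadraticMap.polar Q u v = f u v) ∧ M = quadSimilarityGroup Q ⊓ isoGL f) :
    ∃ Q : (κ → F) → F, ¬ Odd (Fintype.card F) ∧ IsNondegenerateQuadraticForm Q ∧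
      (∀ u v, QuadraticMap.polar Q u v = f (u ∘ e) (v ∘ e)) ∧
      M.map (RI.glReindex (F := F) e).toMonoidHom =
        quadSimilarityGroup Q ⊓ isoGL (fun x y : κ → F => f (x ∘ e) (y ∘ e)) := by
  obtain ⟨Q, hodd, hQ, hpol, rfl⟩ := h
  refine ⟨fun x : κ → F => Q (x ∘ e), hodd, asptrc7_nondeg e Q hQ, ?_, ?_⟩
  · intro u v
    rw [asptrc7_polar]
    exact hpol (u ∘ e) (v ∘ e)
  · rw [asptrc1_map_inf, asptrc7_map_quadSim]

end transport

end Cfsg.Agent.Lib.Helper18.ASP
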