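import Mathlib
import Cfsg.Prelude.Def_GeometricClasses
import Cfsg.Agent.Lib.Helper27.ASC.Defs
import Cfsg.Agent.Lib.Helper19.ASG.Defs
import Cfsg.Agent.Lib.Helper18.ASP.Defs
import Cfsg.Agent.Lib.Lead.Reindex
import Cfsg.Agent.Lib.Helper20.ASPTRC7

/-!
# Project ASP, piece TR-C8 : `tr_c8` (verbatim vs `Helper18/ASP/Skel`), and the shared field-subalgebra transport
-/

set_option autoImplicit false
set_option linter.unusedVariables false
set_option linter.unusedSectionVars false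

namespace Cfsg.Agent.Lib.Helper18.ASP

open Cfsg Cfsg.Geo Cfsg.Agent.Lib.Helper27.ASC Cfsg.Agent.Lib.Helper19.ASG
open scoped MatrixGroups Matrix

variable {n : ℕ} {F : Type*} [Field F] [Fintype F]

section transport

open Cfsg.Agent.Lib.Lead

variable {ι κ : Type} [Fintype ι] [DecidableEq ι] [Fintype κ] [DecidableEq κ]

/-- the transported subalgebra -/
noncomputable def asptrc8K (e : ι ≃ κ) (K : Subalgebra F (Matrix ι ι F)) : Subalgebra F (Matrix κ κ F) :=
  K.map ((Matrix.reindexAlgEquiv F F e : Matrix ι ι F ≃ₐ[F] Matrix κ κ F) : Matrix ι ι F →ₐ[F] Matrix κ κ F)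

theorem asptrc8_mem (e : ι ≃ κ) (K : Subalgebra F (Matrix ι ι F)) (k : Matrix ι ι F) :
    Matrix.reindexAlgEquiv F F e k ∈ asptrc8K e K ↔ k ∈ K := by
  unfold asptrc8K
  rw [Subalgebra.mem_map]
  constructor
  · rintro ⟨x, hx, hxk⟩
    have : x = k := (Matrix.reindexAlgEquiv F F e).injective hxk
    rw [← this]
    exact hx
  · intro hk
    exact ⟨k, hk, rfl⟩

theorem asptrc8_exists (e : ι ≃ κ) (K : Subalgebra F (Matrix ι ι F)) (k' : Matrix κ κ F)
    (hk' : k' ∈ asptrc8K e K) : ∃ k ∈ K, Matrix.reindexAlgEquiv F F e k = k' := by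
  unfold asptrc8K at hk'
  rw [Subalgebra.mem_map] at hk'
  exact hk'

theorem asptrc8_mulVec (e : ι ≃ κ) (k : Matrix ι ι F) (x : κ → F) :
    (Matrix.reindexAlgEquiv F F e k *ᵥ x) ∘ e = k *ᵥ (x ∘ e) := by
  rw [Matrix.reindexAlgEquiv_apply, RI.reindex_mulVec]
  funext i
  simp

theorem asptrc8_coe (e : ι ≃ κ) (h : GL κ F) :
    (h : Matrix κ κ F) = Matrix.reindexAlgEquiv F F e
      (((RI.glReindex (F := F) e).symm h : GL ι F) : Matrix ι ι F) := by
  rw [Matrix.reindexAlgEquiv_apply, ← RI.glReindex_coe, MulEquiv.apply_symm_apply]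

/-- the field-subalgebra property is transported -/
theorem asptrc8_field (e : ι ≃ κ) (r : ℕ) (K : Subalgebra F (Matrix ι ι F)) (hK : IsFieldSubalgebra r K) :
    IsFieldSubalgebra r (asptrc8K e K) := by
  refine ⟨?_, ?_, ?_⟩
  · intro x hx y hy
    obtain ⟨a, ha, rfl⟩ := asptrc8_exists e K x hx
    obtain ⟨b, hb, rfl⟩ := asptrc8_exists e K y hy
    rw [← map_mul, ← map_mul, hK.comm a ha b hb]
  · intro x hx hx0
    obtain ⟨a, ha, rfl⟩ := asptrc8_exists e K x hx
    have ha0 : a ≠ 0 := by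
      rintro rfl
      exact hx0 (map_zero _)
    obtain ⟨b, hb, hab⟩ := hK.inv a ha ha0
    refine ⟨Matrix.reindexAlgEquiv F F e b, (asptrc8_mem e K b).mpr hb, ?_⟩
    rw [← map_mul, hab, map_one]
  · have h1 := (Subalgebra.equivMapOfInjective K
      ((Matrix.reindexAlgEquiv F F e : Matrix ι ι F ≃ₐ[F] Matrix κ κ F) : Matrix ι ι F →ₐ[F] Matrix κ κ F)
      (Matrix.reindexAlgEquiv F F e).injective).toLinearEquiv.finrank_eq
    unfold asptrc8K
    rw [← h1]
    exact hK.finrank_eq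

/-- the normaliser of a subalgebra is transported -/
theorem asptrc8_map_norm (e : ι ≃ κ) (K : Subalgebra F (Matrix ι ι F)) :
    (subalgebraNormalizer K).map (RI.glReindex (F := F) e).toMonoidHom =
      subalgebraNormalizer (asptrc8K e K) := by
  ext h
  rw [Subgroup.mem_map_equiv]
  set g : GL ι F := (RI.glReindex (F := F) e).symm h with hg
  have h1 : (h : Matrix κ κ F) = Matrix.reindexAlgEquiv F F e (g : Matrix ι ι F) := asptrc8_coe e h
  have h2 : ((h⁻¹ : GL κ F) : Matrix κ κ F) =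
      Matrix.reindexAlgEquiv F F e ((g⁻¹ : GL ι F) : Matrix ι ι F) := by
    rw [asptrc8_coe e h⁻¹, map_inv]
  have key : ∀ k : Matrix ι ι F,
      (h : Matrix κ κ F) * Matrix.reindexAlgEquiv F F e k * ((h⁻¹ : GL κ F) : Matrix κ κ F) =
        Matrix.reindexAlgEquiv F F e ((g : Matrix ι ι F) * k * ((g⁻¹ : GL ι F) : Matrix ι ι F)) := by
    intro k
    rw [h1, h2, map_mul, map_mul]
  constructor
  · intro H k'
    have hk' : k' = Matrix.reindexAlgEquiv F F e ((Matrix.reindexAlgEquiv F F e).symm k') :=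
      ((Matrix.reindexAlgEquiv F F e).apply_symm_apply k').symm
    rw [hk', key, asptrc8_mem, asptrc8_mem]
    exact H _
  · intro H k
    have h3 := H (Matrix.reindexAlgEquiv F F e k)
    rw [key, asptrc8_mem, asptrc8_mem] at h3
    exact h3

/-- TR-C8 : self-adjoint field -/
theorem tr_c8 (e : ι ≃ κ) (f : (ι → F) → (ι → F) → F) (M : Subgroup (GL ι F))
    (h : ∃ (r : ℕ) (K : Subalgebra F (Matrix ι ι F)), r.Prime ∧ IsFieldSubalgebra r K ∧
      IsSelfAdjointFor f K ∧ (∀ k ∈ K, ∀ v, f (k *ᵥ v) v = 0) ∧ M = subalgebraNormalizer K ⊓ isoGL f) :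
    ∃ (r : ℕ) (K : Subalgebra F (Matrix κ κ F)), r.Prime ∧ IsFieldSubalgebra r K ∧
      IsSelfAdjointFor (fun x y : κ → F => f (x ∘ e) (y ∘ e)) K ∧
      (∀ k ∈ K, ∀ v : κ → F, f ((k *ᵥ v) ∘ e) (v ∘ e) = 0) ∧
      M.map (RI.glReindex (F := F) e).toMonoidHom =
        subalgebraNormalizer K ⊓ isoGL (fun x y : κ → F => f (x ∘ e) (y ∘ e)) := by
  obtain ⟨r, K, hr, hK, hsa, halt, rfl⟩ := h
  refine ⟨r, asptrc8K e K, hr, asptrc8_field e r K hK, ?_, ?_, ?_⟩
  · intro k' hk' u v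
    obtain ⟨k, hk, rfl⟩ := asptrc8_exists e K k' hk'
    show f ((Matrix.reindexAlgEquiv F F e k *ᵥ u) ∘ e) (v ∘ e) =
      f (u ∘ e) ((Matrix.reindexAlgEquiv F F e k *ᵥ v) ∘ e)
    rw [asptrc8_mulVec, asptrc8_mulVec]
    exact hsa k hk (u ∘ e) (v ∘ e)
  · intro k' hk' v
    obtain ⟨k, hk, rfl⟩ := asptrc8_exists e K k' hk'
    rw [asptrc8_mulVec]
    exact halt k hk (v ∘ e)
  · rw [asptrc1_map_inf, asptrc8_map_norm]

end transport

end Cfsg.Agent.Lib.Helper18.ASP
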