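import Mathlib
import Cfsg.Prelude.Def_GeometricClasses
import Cfsg.Agent.Lib.Helper27.ASC.Defs
import Cfsg.Agent.Lib.Helper19.ASG.Defs
import Cfsg.Agent.Lib.Helper18.ASP.Defs
import Cfsg.Agent.Lib.Lead.Reindex
import Cfsg.Agent.Lib.Helper20.ASPTRC8

/-!
# Project ASP, piece TR-C9 : `tr_c9` (verbatim vs `Helper18/ASP/Skel`)
-/

set_option autoImplicit false
set_option linter.unusedVariables false
set_option linter.unusedSectionVars false

namespace Cfsg.Agent.Lib.Helper18.ASP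

open Cfsg Cfsg.Geo Cfsg.Agent.Lib.Helper27.ASC Cfsg.Agent.Lib.Helper19.ASG
open scoped MatrixGroups Matrix

variable {n : ℕ} {F : Type*} [Field F] [Fintype F]

section transport

open Cfsg.Agent.Lib.Lead

variable {ι κ : Type} [Fintype ι] [DecidableEq ι] [Fintype κ] [DecidableEq κ]

/-- TR-C9 : quadratic field with non-trivial adjoint -/
theorem tr_c9 (e : ι ≃ κ) (f : (ι → F) → (ι → F) → F) (M : Subgroup (GL ι F))
    (h : ∃ K : Subalgebra F (Matrix ι ι F), Odd (Fintype.card F) ∧ IsFieldSubalgebra 2 K ∧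
      IsAdjointClosedFor f K ∧ ¬ IsSelfAdjointFor f K ∧ M = subalgebraNormalizer K ⊓ isoGL f) :
    ∃ K : Subalgebra F (Matrix κ κ F), Odd (Fintype.card F) ∧ IsFieldSubalgebra 2 K ∧
      IsAdjointClosedFor (fun x y : κ → F => f (x ∘ e) (y ∘ e)) K ∧
      ¬ IsSelfAdjointFor (fun x y : κ → F => f (x ∘ e) (y ∘ e)) K ∧
      M.map (RI.glReindex (F := F) e).toMonoidHom =
        subalgebraNormalizer K ⊓ isoGL (fun x y : κ → F => f (x ∘ e) (y ∘ e)) := by
  obtain ⟨K, hodd, hK, hadj, hnsa, rfl⟩ := h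
  refine ⟨asptrc8K e K, hodd, asptrc8_field e 2 K hK, ?_, ?_, ?_⟩
  · intro k' hk'
    obtain ⟨k, hk, rfl⟩ := asptrc8_exists e K k' hk'
    obtain ⟨l, hl, hkl⟩ := hadj k hk
    refine ⟨Matrix.reindexAlgEquiv F F e l, (asptrc8_mem e K l).mpr hl, fun u v => ?_⟩
    show f ((Matrix.reindexAlgEquiv F F e k *ᵥ u) ∘ e) (v ∘ e) =
      f (u ∘ e) ((Matrix.reindexAlgEquiv F F e l *ᵥ v) ∘ e)
    rw [asptrc8_mulVec, asptrc8_mulVec]
    exact hkl (u ∘ e) (v ∘ e)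
  · intro hsa
    apply hnsa
    intro k hk u v
    have h1 : f ((Matrix.reindexAlgEquiv F F e k *ᵥ (u ∘ e.symm)) ∘ e) ((v ∘ e.symm) ∘ e) =
        f ((u ∘ e.symm) ∘ e) ((Matrix.reindexAlgEquiv F F e k *ᵥ (v ∘ e.symm)) ∘ e) :=
      hsa (Matrix.reindexAlgEquiv F F e k) ((asptrc8_mem e K k).mpr hk) (u ∘ e.symm) (v ∘ e.symm)
    rw [asptrc8_mulVec, asptrc8_mulVec, asptrc7_symm_comp, asptrc7_symm_comp] at h1
    exact h1
  · rw [asptrc1_map_inf, asptrc8_map_norm]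

end transport

end Cfsg.Agent.Lib.Helper18.ASP
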