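import Mathlib
import Cfsg.Agent.Lib.helper17.CEM.Defs
import Cfsg.Agent.Lib.Helper24.STCI1
import Cfsg.Agent.Lib.helper14.CEDT3
import Cfsg.Agent.Lib.Helper26.CEDY1
import Cfsg.Agent.Lib.helper14.CEDY2
import Cfsg.Agent.Lib.Helper22.CECG1
import Cfsg.Agent.Lib.Helper21.STMW9
import Cfsg.Agent.Lib.Helper21.STMW13
import Cfsg.Agent.Lib.Helper20.STMH2

/-!
# Project CEM (designer helper17), rows G2 + Y1 + Y2 + Y3 + Y4 (VERBATIM from `helper17/CEM/Skel.lean.txt`): complements to CED Y2, and `PB`, `PI` for three indices through the short Weyl and torus elements.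
-/

set_option autoImplicit false
set_option linter.unusedSectionVars false

namespace Cfsg.Agent.Lib.helper17.CEM

open Cfsg.Agent.Lib.helper15.St2 Cfsg.Agent.Lib.helper7.Ce Cfsg.Agent.Lib.helper3.STC Cfsg.Agent.Lib.Lead.STD
  Cfsg.Agent.Lib.helper7.CEC Cfsg.Agent.Lib.helper7.CED Cfsg.Agent.Lib.helper17.STM

section G

variable {ι : Type*}

variable {K : Type*} [Field K] {Γ G : Type*} [Group Γ] [Group G] {S : SysD K ι G} {σ : Γ →* G}

/-- G2 [S-M]  complements to CED Y2 (`helper14.CEDY2`), from `Ys_add_right`: `Ys s (0 + 0) = Ys s 0 * Ys s 0`; `Ys s (t + -t) = Ys s 0`. -/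
theorem Ys_zero_right (h : IsCE σ) (hC : HC S σ) {a c b : ι ⊕ ι} (hac : ab a ≠ ab c) (hcb : ab c ≠ ab b) (hab : ab a ≠ ab b) (s : K) :
    Ys S h a c b s 0 = 1 := by
  have := Cfsg.Agent.Lib.helper7.CED.Ys_add_right h hC hac hcb hab s 0 0
  rw [add_zero] at this
  exact mul_eq_left.1 this.symm

theorem Ys_neg_right (h : IsCE σ) (hC : HC S σ) {a c b : ι ⊕ ι} (hac : ab a ≠ ab c) (hcb : ab c ≠ ab b) (hab : ab a ≠ ab b) (s t : K) :
    Ys S h a c b s (-t) = (Ys S h a c b s t)⁻¹ := by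
  have := Cfsg.Agent.Lib.helper7.CED.Ys_add_right h hC hac hcb hab s (-t) t
  rw [neg_add_cancel, Ys_zero_right h hC hac hcb hab] at this
  exact eq_inv_of_mul_eq_one_left this.symm

end G

section Y

variable {F : Type*} [Field F] [Finite F] {A B : F} [Fact (∀ r : F, r ^ 2 ≠ -B + A * r)] {ι : Type*} {Γ G : Type*} [Group Γ] [Group G]
  {S : SysM F A B ι G} {σ : Γ →* G}

/-- Y1 [M]  the middle index can be negated (model CEC Y6 `Ys_flip`, `Helper25.CECY6`-type).  `g := S.ws c 1`, `e := lf h g`; W13 `isMon_ws c 1 one_ne_zero`, first component: `S.toSysD.IsMon g (swb c) (dwb c 1)`; CED `Ys_cj`: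
`cj e (Ys a c b t u) = Ys a (ng c) b (1 * (-1)⁻¹ * t) (-1 * 1⁻¹ * u)` (`swb c` fixes `a`, `b` and maps `c ↦ ng c`: W9 `swb_self`, `swb_of_ne`; `dwb c 1 a = dwb c 1 b = 1`, `dwb c 1 c = -(nm 1)⁻¹ = -1`), which is
`Ys a (ng c) b t u` (`Ys_neg_left`, G2 `Ys_neg_right`, `inv_inv`).  `cj e (Ys a c b t u) = Ys a c b t u` (`cj_eq_of_CL`, `Ys_map`): `g = xs c 1 * xs (ng c) (star 1)⁻¹ * xs c 1` and `hLS` for `(xs c, x a b)`, `(xs (ng c), x a b)`; `h.CL_mul_left`. -/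
theorem Ys_flip [DecidableEq ι] (h : IsCE σ) (hC : HC S.toSysD σ) (hLS : HLS S σ) {a c b : ι ⊕ ι} (hac : ab a ≠ ab c) (hcb : ab c ≠ ab b) (hab : ab a ≠ ab b)
    (t u : F) : Ys S.toSysD h a c b t u = Ys S.toSysD h a (ng c) b t u := by
  obtain ⟨hac1, hac2, hca1, hca2⟩ := cedt3_unpack hac
  obtain ⟨hcb1, hcb2, hbc1, hbc2⟩ := cedt3_unpack hcb
  obtain ⟨hab1, hab2, hba1, hba2⟩ := cedt3_unpack hab
  have hmon : S.toSysD.IsMon (S.ws c 1) (swb c) (dwb c (1 : Kq F A B)) := (S.isMon_ws c 1 one_ne_zero).1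
  set e : Γ := lf h (S.ws c 1) with he
  have hσe : σ e = S.ws c 1 := map_lf h _
  have hy : σ (Ys S.toSysD h a c b t u) = S.toSysD.x a b (t * u) := Cfsg.Agent.Lib.helper7.CED.Ys_map h hac hcb hab t u
  have hCL : CL σ (S.ws c 1) (S.toSysD.x a b (t * u)) := by
    have h1 : ∀ s : Kq F A B, CL σ (S.xs c s) (S.x a b (t * u)) := fun s => hLS c a b hab1 hab2 hbc1 hac2 s _
    have h2 : ∀ s : Kq F A B, CL σ (S.xs (ng c) s) (S.x a b (t * u)) := fun s =>
      hLS (ng c) a b hab1 hab2 hbc2 (by rw [ng_ng]; exact hac1) s _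
    unfold SysM.ws
    exact h.CL_mul_left (h.CL_mul_left (h1 _) (h2 _)) (h1 _)
  have e1 : cj e (Ys S.toSysD h a c b t u) = Ys S.toSysD h a c b t u := cj_eq_of_CL hCL hσe hy
  have e2 := Cfsg.Agent.Lib.helper7.CED.Ys_cj h hmon hσe hac1 hcb1 t u
  rw [e1, SysM.swb_of_ne hac1 hac2, SysM.swb_self, SysM.swb_of_ne hbc1 hbc2, stmw9_dwb_of_ne hac1 hac2, stmw9_dwb_a,
    stmw9_dwb_of_ne hbc1 hbc2, nm_one] at e2
  have hac' : ab a ≠ ab (ng c) := by rw [ab_ng]; exact hac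
  have hcb' : ab (ng c) ≠ ab b := by rw [ab_ng]; exact hcb
  have e3 : (1 : F) * (-(1 : F)⁻¹)⁻¹ * t = -t := by
    rw [inv_one, inv_neg, inv_one]; ring
  have e4 : -(1 : F)⁻¹ * (1 : F)⁻¹ * u = -u := by
    rw [inv_one]; ring
  rw [e3, e4, Cfsg.Agent.Lib.helper7.CED.Ys_neg_left h hC hac' hcb' hab, Ys_neg_right h hC hac' hcb' hab, inv_inv] at e2
  exact e2

/-- Y2 [M]  `PB` by the torus (model CEC Y3 `Ys_B_torus`).  `g := S.hs a v`, `e := lf h g`; H2 `isMon_hs a v hv0`, first component (`π = 1`, `dhb a v a = nm v`, `dhb a v c = dhb a v b = 1`); CED `Ys_cj`: `cj e (Ys a c b s t) = Ys a c b (nm v * s) t`, so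
`cm e (Ys a c b s t) = Ys a c b ((nm v - 1) * s) t` (`Ys_add_left`, `Ys_neg_left`); `cm e (Ys a c b s t) = cm e (Ys a c b (s * t) 1)` (`h.cm_congr`, `Ys_map` twice, `mul_one`); replace `s` by `(nm v - 1)⁻¹ * s`. -/
theorem Ys_B_tor [DecidableEq ι] (h : IsCE σ) (hC : HC S.toSysD σ) (v : Kq F A B) (hv0 : v ≠ 0) (hv1 : nm v ≠ 1) : PB S.toSysD h := by
  intro a c b hac hcb hab s t
  have hv' : nm v - 1 ≠ 0 := sub_ne_zero.2 hv1
  obtain ⟨hac1, hac2, hca1, hca2⟩ := cedt3_unpack hac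
  obtain ⟨hcb1, hcb2, hbc1, hbc2⟩ := cedt3_unpack hcb
  obtain ⟨hab1, hab2, hba1, hba2⟩ := cedt3_unpack hab
  have hg : S.toSysD.IsMon (S.hs a v) 1 (dhb a v) := (S.isMon_hs a v hv0).1
  have da : dhb a v a = nm v := stmw9_dhb_a a v
  have dc : dhb a v c = 1 := stmw9_dhb_of_ne hca1 hca2 v
  have db : dhb a v b = 1 := stmw9_dhb_of_ne hba1 hba2 v
  set e := lf h (S.hs a v) with he
  have hme : σ e = S.hs a v := map_lf h _
  have key : ∀ s' t', cm e (Ys S.toSysD h a c b s' t') = Ys S.toSysD h a c b ((nm v - 1) * s') t' := by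
    intro s' t'
    have e1 : cm e (Ys S.toSysD h a c b s' t') = cj e (Ys S.toSysD h a c b s' t') * (Ys S.toSysD h a c b s' t')⁻¹ := by
      unfold cm cj; group
    have e2 : cj e (Ys S.toSysD h a c b s' t') = Ys S.toSysD h a c b (nm v * s') t' := by
      rw [Cfsg.Agent.Lib.helper7.CED.Ys_cj h hg hme hac1 hcb1 s' t', da, dc, db]
      simp
    have e3 : nm v * s' = (nm v - 1) * s' + s' := by ring
    rw [e1, e2, e3, Cfsg.Agent.Lib.helper7.CED.Ys_add_left h hC hac hcb hab, mul_inv_cancel_right]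
  have e4 : cm e (Ys S.toSysD h a c b ((nm v - 1)⁻¹ * s) t) = cm e (Ys S.toSysD h a c b ((nm v - 1)⁻¹ * s * t) 1) := by
    refine h.cm_congr rfl ?_
    rw [Cfsg.Agent.Lib.helper7.CED.Ys_map h hac hcb hab, Cfsg.Agent.Lib.helper7.CED.Ys_map h hac hcb hab, mul_one]
  rw [key, key] at e4
  have e5 : (nm v - 1) * ((nm v - 1)⁻¹ * s) = s := by
    rw [← mul_assoc, mul_inv_cancel₀ hv', one_mul]
  have e6 : (nm v - 1) * ((nm v - 1)⁻¹ * s * t) = s * t := by
    rw [← mul_assoc, ← mul_assoc, mul_inv_cancel₀ hv', one_mul]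
  rw [e5, e6] at e4
  exact e4

omit [Finite F] in
/-- Y3 [S]  `PB` over the field with two elements: `u = 1`: `mul_one`; `u = 0`: both sides are `1` (G2 `Ys_zero_right`, `mul_zero`, `Ys_zero_left`). -/
theorem Ys_B_two (h : IsCE σ) (hC : HC S.toSysD σ) (hF : ∀ t : F, t = 0 ∨ t = 1) : PB S.toSysD h := by
  intro a c b hac hcb hab t u
  rcases hF u with rfl | rfl
  · rw [Ys_zero_right h hC hac hcb hab, mul_zero, Cfsg.Agent.Lib.helper7.CED.Ys_zero_left h hC hac hcb hab]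
  · rw [mul_one]

/-- Y4 [S-M]  `PI` for three indices (model CEC Y7 `Ys_I_three`): `ab c = ab c'` by `u3`, so `c' = c` or `c' = ng c` (`ab_eq_iff`); `Ys_flip`. -/
theorem Ys_I_three [DecidableEq ι] (h : IsCE σ) (hC : HC S.toSysD σ) (hLS : HLS S σ) (u3 : U3 ι) : PI S.toSysD h := by
  intro a c c' b hac hcb hac' hcb' hab t
  have hcc : ab c = ab c' := u3 a b c c' hab (Ne.symm hac) hcb (Ne.symm hac') hcb'
  rcases ab_eq_iff.1 hcc with e | e
  · rw [e]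
  · rw [e]
    exact (Ys_flip h hC hLS hac' hcb' hab t 1).symm

end Y

end Cfsg.Agent.Lib.helper17.CEM
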