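import Mathlib
import Cfsg.Agent.Lib.Helper18.OCT.Defs

/-!
# Project OCG, row Z5 (helper20): `G₂(F)` preserves the set of nontrivial idempotents.
Self-contained (own copies `ocgz5_*` of the small facts Z2, Z3, G6 it needs).
-/

set_option autoImplicit false

namespace Cfsg.Agent.Lib.Helper18.OCT

open Cfsg.Lie Matrix
open scoped MatrixGroups

variable {F : Type*} [Field F]

theorem ocgz5_one8_mul (x : Oct F) : zornMul one8 x = x ∧ zornMul x one8 = x := by
  constructor
  · ext i
    fin_cases i <;> simp [zornMul, one8, dot3, cross3]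
  · ext i
    fin_cases i <;> simp [zornMul, one8, dot3, cross3]

theorem ocgz5_act_inv (g : GL (Fin 8) F) (x : Oct F) : act g⁻¹ (act g x) = x ∧ act g (act g⁻¹ x) = x := by
  unfold act
  constructor
  · rw [Matrix.mulVec_mulVec, ← Units.val_mul, inv_mul_cancel, Units.val_one, Matrix.one_mulVec]
  · rw [Matrix.mulVec_mulVec, ← Units.val_mul, mul_inv_cancel, Units.val_one, Matrix.one_mulVec]

theorem ocgz5_mem_G2 (g : GL (Fin 8) F) (hg : g ∈ G2 F) (x y : Oct F) :
    act g (zornMul x y) = zornMul (act g x) (act g y) := hg x y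

theorem ocgz5_act_one8 (g : GL (Fin 8) F) (hg : g ∈ G2 F) : act g one8 = one8 := by
  have h1 : act g (act g⁻¹ one8) = one8 := (ocgz5_act_inv g one8).2
  calc act g one8 = zornMul (act g one8) one8 := ((ocgz5_one8_mul _).2).symm
    _ = zornMul (act g one8) (act g (act g⁻¹ one8)) := by rw [h1]
    _ = act g (zornMul one8 (act g⁻¹ one8)) := (ocgz5_mem_G2 g hg _ _).symm
    _ = act g (act g⁻¹ one8) := by rw [(ocgz5_one8_mul _).1]
    _ = one8 := h1

/-- Z5 [S-M]. -/
theorem act_mem_Idem (g : GL (Fin 8) F) (hg : g ∈ G2 F) (e : Oct F) (he : e ∈ Idem F) :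
    act g e ∈ Idem F := by
  obtain ⟨h1, h2, h3⟩ := he
  refine ⟨?_, ?_, ?_⟩
  · rw [← ocgz5_mem_G2 g hg, h1]
  · intro h0
    apply h2
    have := (ocgz5_act_inv g e).1
    rw [h0] at this
    rw [← this]
    unfold act
    exact Matrix.mulVec_zero _
  · intro h0
    apply h3
    have h4 := (ocgz5_act_inv g e).1
    rw [h0] at h4
    have h5 := (ocgz5_act_inv g one8).1
    rw [ocgz5_act_one8 g hg] at h5
    rw [← h4, h5]

end Cfsg.Agent.Lib.Helper18.OCT
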