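import Mathlib
import Cfsg.Agent.Lib.Helper18.OCT.Defs

/-!
# Project OCG, row X4a (helper20): `sl3Fun A B` is linear with inverse `sl3Fun A' B'`.
-/

set_option autoImplicit false

namespace Cfsg.Agent.Lib.Helper18.OCT

open Cfsg.Lie Matrix
open scoped MatrixGroups

variable {F : Type*} [Field F]

theorem ocgx4a_zA (A B : Matrix (Fin 3) (Fin 3) F) (x : Oct F) :
    zA F (sl3Fun A B x) = A *ᵥ zA F x := by
  ext i
  fin_cases i <;> simp [sl3Fun]

theorem ocgx4a_zB (A B : Matrix (Fin 3) (Fin 3) F) (x : Oct F) :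
    zB F (sl3Fun A B x) = B *ᵥ zB F x := by
  ext i
  fin_cases i <;> simp [sl3Fun]

/-- X4a [S-M]. -/
theorem sl3_lin (A B A' B' : Matrix (Fin 3) (Fin 3) F) (hA : A * A' = 1) (hB : B * B' = 1) :
    IsLinearMap F (sl3Fun A B : Oct F → Oct F) ∧ ∀ x : Oct F, sl3Fun A B (sl3Fun A' B' x) = x := by
  refine ⟨⟨?_, ?_⟩, ?_⟩
  · intro x y
    ext i
    fin_cases i <;>
      simp [sl3Fun, Matrix.mulVec, dotProduct, Fin.sum_univ_three] <;> ring
  · intro c x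
    ext i
    fin_cases i <;>
      simp [sl3Fun, Matrix.mulVec, dotProduct, Fin.sum_univ_three] <;> ring
  · intro x
    have h1 : A *ᵥ zA F (sl3Fun A' B' x) = zA F x := by
      rw [ocgx4a_zA, Matrix.mulVec_mulVec, hA, Matrix.one_mulVec]
    have h2 : B *ᵥ zB F (sl3Fun A' B' x) = zB F x := by
      rw [ocgx4a_zB, Matrix.mulVec_mulVec, hB, Matrix.one_mulVec]
    have h3 : sl3Fun A B (sl3Fun A' B' x) =
        ![sl3Fun A' B' x 0, (A *ᵥ zA F (sl3Fun A' B' x)) 0, (A *ᵥ zA F (sl3Fun A' B' x)) 1,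
          (A *ᵥ zA F (sl3Fun A' B' x)) 2, (B *ᵥ zB F (sl3Fun A' B' x)) 0,
          (B *ᵥ zB F (sl3Fun A' B' x)) 1, (B *ᵥ zB F (sl3Fun A' B' x)) 2, sl3Fun A' B' x 7] := rfl
    rw [h3, h1, h2]
    ext i
    fin_cases i <;> simp [sl3Fun]

end Cfsg.Agent.Lib.Helper18.OCT
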