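import Mathlib
import Cfsg.Agent.Lib.Helper18.OCT.Defs
import Cfsg.Agent.Lib.Helper18.OCGG
import Cfsg.Agent.Lib.Helper20.OCGX4a

/-!
# Project OCG, rows X4 / X4c (helper20), cores: `sl3GL A ∈ G₂(F)` acting as `sl3Fun A (adj A)ᵀ`, with the
statement of X4b (`sl3_mul`) as a hypothesis; `sl3GL` is injective and fixes `e1`, with the statement of X4 as a
hypothesis.
-/

set_option autoImplicit false

namespace Cfsg.Agent.Lib.Helper18.OCT

open Cfsg.Lie Matrix
open scoped MatrixGroups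

variable {F : Type*} [Field F]

theorem ocgx4_core (A : Matrix.SpecialLinearGroup (Fin 3) F)
    (hmul : ∀ x y : Oct F, sl3Fun (A : Matrix (Fin 3) (Fin 3) F)
        (Matrix.adjugate (A : Matrix (Fin 3) (Fin 3) F))ᵀ (zornMul x y) =
      zornMul (sl3Fun (A : Matrix (Fin 3) (Fin 3) F)
        (Matrix.adjugate (A : Matrix (Fin 3) (Fin 3) F))ᵀ x)
        (sl3Fun (A : Matrix (Fin 3) (Fin 3) F)
        (Matrix.adjugate (A : Matrix (Fin 3) (Fin 3) F))ᵀ y)) :
    sl3GL A ∈ G2 F ∧ ∀ x : Oct F, act (sl3GL A) x =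
      sl3Fun (A : Matrix (Fin 3) (Fin 3) F) (Matrix.adjugate (A : Matrix (Fin 3) (Fin 3) F))ᵀ x := by
  set M : Matrix (Fin 3) (Fin 3) F := (A : Matrix (Fin 3) (Fin 3) F) with hM
  have hdet : M.det = 1 := A.2
  have h1 : M * Matrix.adjugate M = 1 := by
    rw [Matrix.mul_adjugate, hdet, one_smul]
  have h2 : Matrix.adjugate M * M = 1 := by
    rw [Matrix.adjugate_mul, hdet, one_smul]
  have h3 : (Matrix.adjugate M)ᵀ * Mᵀ = 1 := by
    rw [← Matrix.transpose_mul, h1, Matrix.transpose_one]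
  have h4 : Mᵀ * (Matrix.adjugate M)ᵀ = 1 := by
    rw [← Matrix.transpose_mul, h2, Matrix.transpose_one]
  have hf := sl3_lin M (Matrix.adjugate M)ᵀ (Matrix.adjugate M) Mᵀ h1 h3
  have hg := sl3_lin (Matrix.adjugate M) Mᵀ M (Matrix.adjugate M)ᵀ h2 h4
  have hdef : sl3GL A = glOf (sl3Fun M (Matrix.adjugate M)ᵀ) := by
    unfold sl3GL
    rw [Matrix.SpecialLinearGroup.coe_inv]
  rw [hdef]
  exact ⟨glOf_mem_G2 _ _ hf.1 hg.1 hf.2 hmul, fun x => act_glOf _ _ hf.1 hg.1 hf.2 x⟩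

theorem ocgx4c_core
    (hX4 : ∀ A : Matrix.SpecialLinearGroup (Fin 3) F, ∀ x : Oct F, act (sl3GL A) x =
      sl3Fun (A : Matrix (Fin 3) (Fin 3) F) (Matrix.adjugate (A : Matrix (Fin 3) (Fin 3) F))ᵀ x) :
    Function.Injective (sl3GL : Matrix.SpecialLinearGroup (Fin 3) F → GL (Fin 8) F) ∧
    ∀ A : Matrix.SpecialLinearGroup (Fin 3) F, act (sl3GL A) (e1 : Oct F) = e1 := by
  constructor
  · intro A A' h
    apply Subtype.ext
    ext i j
    have h1 : act (sl3GL A) (![0, (Pi.single j 1 : Fin 3 → F) 0, (Pi.single j 1 : Fin 3 → F) 1,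
        (Pi.single j 1 : Fin 3 → F) 2, 0, 0, 0, 0] : Oct F) =
        act (sl3GL A') (![0, (Pi.single j 1 : Fin 3 → F) 0, (Pi.single j 1 : Fin 3 → F) 1,
        (Pi.single j 1 : Fin 3 → F) 2, 0, 0, 0, 0] : Oct F) := by rw [h]
    rw [hX4, hX4] at h1
    have hz : zA F (![0, (Pi.single j 1 : Fin 3 → F) 0, (Pi.single j 1 : Fin 3 → F) 1,
        (Pi.single j 1 : Fin 3 → F) 2, 0, 0, 0, 0] : Oct F) = Pi.single j 1 := by
      ext k
      fin_cases k <;> rfl
    have key : ∀ (B C : Matrix (Fin 3) (Fin 3) F) (x : Oct F) (k : Fin 3),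
        sl3Fun B C x (Fin.succ (Fin.castSucc (Fin.castSucc (Fin.castSucc (Fin.castSucc k))))) =
          (B *ᵥ zA F x) k := by
      intro B C x k
      fin_cases k <;> rfl
    have h2 := congrFun h1 (Fin.succ (Fin.castSucc (Fin.castSucc (Fin.castSucc (Fin.castSucc i)))))
    rw [key, key, hz, Matrix.mulVec_single_one, Matrix.mulVec_single_one] at h2
    exact h2
  · intro A
    rw [hX4]
    ext i
    fin_cases i <;> simp [sl3Fun, e1, Matrix.mulVec, dotProduct, Fin.sum_univ_three]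

end Cfsg.Agent.Lib.Helper18.OCT
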