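import Mathlib
import Cfsg.Prelude.Def_OddOrderLocal
import Cfsg.Agent.Lib.Helper18.PRL.Defs
import Cfsg.Agent.Lib.Helper24.MetaNPC

/-!
# Project PRL (S5239), piece SR3: subgroups of a metacyclic subgroup are 2-generated
-/

set_option autoImplicit false

namespace Cfsg.Agent.Lib.Helper18.PRL

open scoped commutatorElement

/-- PRL-SR3 -/
theorem two_gen_of_le_metacyclic {X : Type*} [Group X] (M : Subgroup X)
    (hM : Cfsg.IsMetacyclic ↥M) (H : Subgroup X) (hH : H ≤ M) :
    ∃ T : Finset X, T.card ≤ 2 ∧ Subgroup.closure (T : Set X) = H := by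
  classical
  obtain ⟨a, b, -, -, hab⟩ := Cfsg.Agent.Lib.Helper24.mn_two_gen hM (H.subgroupOf M)
  refine ⟨{(a : X), (b : X)}, Finset.card_le_two, ?_⟩
  have h1 : (H.subgroupOf M).map M.subtype = H := by
    rw [Subgroup.map_subgroupOf_eq_of_le hH]
  rw [← h1, ← hab, MonoidHom.map_closure]
  congr 1
  ext x
  simp only [Finset.coe_insert, Finset.coe_singleton, Set.image_insert_eq, Set.image_singleton,
    Subgroup.coe_subtype]
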