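import Mathlib
import Cfsg.Agent.Lib.helper8.RSM.Defs

/-!
# Project RSM (helper8), row A3: `nrm_mul_pow` (helper20)
-/

set_option autoImplicit false

namespace Cfsg.Agent.Lib.helper8.RSM

universe u v w

variable {K : Type v} [Field K] [Fintype K] {m : ℕ}

/-- A3 [S]. `N` is multiplicative (any field). -/
theorem nrm_mul_pow :
    (∀ a b : K, nrm m (a * b) = nrm m a * nrm m b) ∧
    (∀ (a : K) (i : ℕ), nrm m (a ^ i) = nrm m a ^ i) ∧ nrm m (1 : K) = 1 ∧
    nrm m (-1 : K) = 1 ∧ (∀ a : K, a ≠ 0 → nrm m a ≠ 0) := by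
  have hodd : Odd (3 ^ m) := Odd.pow (by decide)
  refine ⟨?_, ?_, ?_, ?_, ?_⟩
  · intro a b
    unfold nrm
    rw [mul_pow, mul_pow]
    ring
  · intro a i
    unfold nrm
    simp only [mul_pow, ← pow_mul]
    congr 2
    ring
  · unfold nrm
    simp
  · unfold nrm
    rw [hodd.neg_one_pow]
    norm_num
  · intro a ha
    unfold nrm
    exact mul_ne_zero ha (pow_ne_zero _ (pow_ne_zero _ ha))

end Cfsg.Agent.Lib.helper8.RSM
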