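import Mathlib
import Cfsg.Agent.Lib.Helper18.SNA.Defs

/-!
# Project SNA (S2222), piece AS: `addPoint` keeps self-normalizing subgroups self-normalizing
-/

set_option autoImplicit false

namespace Cfsg.Agent.Lib.Helper20.SNA

open Cfsg.Agent.Lib.Helper18.SNA Equiv

/-- membership in `addPoint K` of a `sumCongr` -/
theorem as_sumCongr_mem {α : Type*} (K : Subgroup (Perm α)) (τ : Perm α) :
    Perm.sumCongr τ (1 : Perm Unit) ∈ addPoint K ↔ τ ∈ K := by
  rw [mem_addPoint]
  constructor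
  · rintro ⟨τ', hτ', h⟩
    have : τ = τ' := by
      ext a
      have h1 := congrArg (fun σ : Perm (α ⊕ Unit) => σ (Sum.inl a)) h
      simpa using h1
    rw [this]; exact hτ'
  · intro h
    exact ⟨τ, h, rfl⟩

/-- elements of `addPoint K` fix the new point -/
theorem as_fix_inr {α : Type*} (K : Subgroup (Perm α)) (σ : Perm (α ⊕ Unit))
    (h : σ ∈ addPoint K) : σ (Sum.inr ()) = Sum.inr () := by
  obtain ⟨τ, _, rfl⟩ := mem_addPoint.mp h
  simp

/-- a permutation of `α ⊕ Unit` fixing the new point is a `sumCongr` -/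
theorem as_exists_sumCongr {α : Type*} (g : Perm (α ⊕ Unit)) (hg : g (Sum.inr ()) = Sum.inr ()) :
    ∃ g₀ : Perm α, g = Perm.sumCongr g₀ (1 : Perm Unit) := by
  have hg' : g⁻¹ (Sum.inr ()) = Sum.inr () := by
    rw [Perm.inv_eq_iff_eq]; exact hg.symm
  have key : ∀ (f : Perm (α ⊕ Unit)), f (Sum.inr ()) = Sum.inr () →
      ∀ a : α, ∃ b : α, f (Sum.inl a) = Sum.inl b := by
    intro f hf a
    rcases hfa : f (Sum.inl a) with b | u
    · exact ⟨b, rfl⟩
    · exfalso
      have : f (Sum.inl a) = f (Sum.inr ()) := by rw [hfa, hf]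
      exact Sum.inl_ne_inr (f.injective this)
  choose φ hφ using key g hg
  choose ψ hψ using key g⁻¹ hg'
  refine ⟨⟨φ, ψ, ?_, ?_⟩, ?_⟩
  · intro a
    have h1 : g⁻¹ (g (Sum.inl a)) = Sum.inl a := by simp
    rw [hφ a, hψ (φ a)] at h1
    exact Sum.inl_injective h1
  · intro a
    have h1 : g (g⁻¹ (Sum.inl a)) = Sum.inl a := by simp
    rw [hψ a, hφ (ψ a)] at h1
    exact Sum.inl_injective h1
  · ext x
    rcases x with a | u
    · rw [hφ a]; rfl
    · cases u
      rw [hg]; rfl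

/-! ## AS: addPoint keeps self-normalizing -/
theorem addPoint_selfNorm {α : Type*} [DecidableEq α] (A K : Subgroup (Perm α))
    (A' : Subgroup (Perm (α ⊕ Unit)))
    (hA : ∀ τ : Perm α, Perm.sumCongr τ (1 : Perm Unit) ∈ A' → τ ∈ A)
    (hK : SelfNormIn A K) (hm : MovesAll K) : SelfNormIn A' (addPoint K) := by
  intro g hgA' hg
  -- step 1: `g` fixes the new point
  have h1 : g (Sum.inr ()) = Sum.inr () := by
    rcases hga : g (Sum.inr ()) with a | u
    · exfalso
      obtain ⟨σ, hσ, hσa⟩ := hm a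
      have hs : Perm.sumCongr σ (1 : Perm Unit) ∈ addPoint K := (as_sumCongr_mem K σ).mpr hσ
      have hh : g⁻¹ * Perm.sumCongr σ (1 : Perm Unit) * g ∈ addPoint K := by
        rw [hg]
        simpa [mul_assoc] using hs
      have hfix := as_fix_inr K _ hh
      simp only [Perm.mul_apply, hga] at hfix
      rw [Perm.inv_eq_iff_eq, hga] at hfix
      simp at hfix
      exact hσa hfix
    · rfl
  -- step 2: `g = sumCongr g₀ 1`
  obtain ⟨g₀, rfl⟩ := as_exists_sumCongr g h1
  -- step 3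
  rw [as_sumCongr_mem]
  apply hK g₀ (hA g₀ hgA')
  intro τ
  rw [← as_sumCongr_mem K τ, ← as_sumCongr_mem K (g₀ * τ * g₀⁻¹), hg]
  have : Perm.sumCongr g₀ (1 : Perm Unit) * Perm.sumCongr τ (1 : Perm Unit) *
      (Perm.sumCongr g₀ (1 : Perm Unit))⁻¹ = Perm.sumCongr (g₀ * τ * g₀⁻¹) (1 : Perm Unit) := by
    ext x
    rcases x with a | u <;> simp
  rw [this]

end Cfsg.Agent.Lib.Helper20.SNA
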