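import Mathlib
import Cfsg.Agent.Lib.helper3.SU5.Defs
import Cfsg.Agent.Lib.helper8.STULA1
import Cfsg.Agent.Lib.helper14.STULA3
import Cfsg.Agent.Lib.Helper5.STULA5
import Cfsg.Agent.Lib.Helper24.STUM0
import Cfsg.Agent.Lib.Helper27.STUQ1
import Cfsg.Agent.Lib.helper2.STUV1

/-!
# Project SU5, row I7 (core): the rank one group `φb`, with the statements of row I4 as hypotheses.
-/

set_option autoImplicit false
set_option linter.unusedSectionVars false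

namespace Cfsg.Agent.Lib.helper3.SU5

open Cfsg.Agent.Lib.helper15.St2 Cfsg.Agent.Lib.Helper27.STU
open Cfsg.Agent.Lib.helper3.STC (ng sws)

universe u v w w₀

namespace Dat

variable {F : Type u} [Field F] [StarRing F] {G : Type w} [Group G] (D : Dat F G)

theorem su5i7_nB_eq : D.nB = D.φb (WU D.ξ₀) := by
  simp only [nB, xB, yB, WU, map_mul]

theorem su5i7_cj_map (g x : ↥(SUm F True)) : cj (D.φb g) (D.φb x) = D.φb (cj g x) := by
  simp only [cj, map_mul, map_inv]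

theorem su5i7_xB_mul (h : ∀ ξ η : Lam F True, XpU ξ * XpU η = XpU (ξ * η)) (ξ η : Lam F True) :
    D.xB ξ * D.xB η = D.xB (ξ * η) := by
  simp only [xB, ← map_mul, h]

theorem su5i7_yB_mul (h : ∀ ξ η : Lam F True, XmU ξ * XmU η = XmU (ξ * η)) (ξ η : Lam F True) :
    D.yB ξ * D.yB η = D.yB (ξ * η) := by
  simp only [yB, ← map_mul, h]

theorem su5i7_nB_xB
    (h : ∀ {ξ : Lam F True}, ξ.c ≠ 0 → ∀ η : Lam F True,
      cj (WU ξ) (XpU η) = XmU (Lam.act (-(ξ.c / (star ξ.c) ^ 2)) η))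
    (hc : D.ξ₀.c ≠ 0) (ξ : Lam F True) :
    cj D.nB (D.xB ξ) = D.yB (Lam.act (-(D.ξ₀.c / (star D.ξ₀.c) ^ 2)) ξ) := by
  rw [su5i7_nB_eq, xB, su5i7_cj_map, h hc, yB]

theorem su5i7_nB_yB
    (h : ∀ {ξ : Lam F True}, ξ.c ≠ 0 → ∀ η : Lam F True,
      cj (WU ξ) (XmU η) = XpU (Lam.act (-(ξ.c ^ 2 / star ξ.c)) η))
    (hc : D.ξ₀.c ≠ 0) (ξ : Lam F True) :
    cj D.nB (D.yB ξ) = D.xB (Lam.act (-(D.ξ₀.c ^ 2 / star D.ξ₀.c)) ξ) := by
  rw [su5i7_nB_eq, yB, su5i7_cj_map, h hc, xB]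

end Dat

end Cfsg.Agent.Lib.helper3.SU5
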