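import Mathlib

set_option autoImplicit false
set_option linter.unusedVariables false

namespace Cfsg.Agent.Lib.Helper20.AutAlt
open Equiv

variable {X : Type*} [DecidableEq X]

/-- the three-cycle `a ↦ b ↦ c ↦ a` -/
def tc (a b c : X) : Perm X := swap a c * swap a b

theorem tc_apply (a b c x : X) : tc a b c x =
    if x = a then (if b = a then c else if b = c then a else b) else
    if x = b then c else if x = c then a else x := by
  unfold tc
  simp only [Perm.mul_apply, swap_apply_def]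
  grind

theorem tc_apply' {a b c : X} (hab : a ≠ b) (hac : a ≠ c) (hbc : b ≠ c) (x : X) : tc a b c x =
    if x = a then b else if x = b then c else if x = c then a else x := by
  rw [tc_apply]
  grind

theorem tc_inv (a b c : X) : (tc a b c)⁻¹ = swap a b * swap a c := by
  unfold tc
  simp [mul_inv_rev, swap_inv]

theorem tc_isThreeCycle [Fintype X] {a b c : X} (hab : a ≠ b) (hac : a ≠ c) (hbc : b ≠ c) :
    (tc a b c).IsThreeCycle :=
  Equiv.Perm.isThreeCycle_swap_mul_swap_same hac hab hbc.symm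

theorem tc_conj (g : Perm X) (a b c : X) : g * tc a b c * g⁻¹ = tc (g a) (g b) (g c) := by
  unfold tc
  rw [Equiv.swap_apply_apply, Equiv.swap_apply_apply]
  group

theorem tc_rot (a b c : X) (hab : a ≠ b) (hac : a ≠ c) (hbc : b ≠ c) : tc a b c = tc c a b := by
  ext x
  rw [tc_apply' hab hac hbc, tc_apply' hac.symm hbc.symm hab]
  grind

/-- a three-cycle is determined by a moved point -/
theorem eq_tc_of_isThreeCycle [Fintype X] {u : Perm X} (hu : u.IsThreeCycle) {a : X} (ha : u a ≠ a) :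
    a ≠ u a ∧ a ≠ u (u a) ∧ u a ≠ u (u a) ∧ u = tc a (u a) (u (u a)) := by
  have h3 : u ^ 3 = 1 := by rw [← hu.orderOf]; exact pow_orderOf_eq_one u
  have h3a : ∀ x, u (u (u x)) = x := fun x => by
    have := congrArg (fun f : Perm X => f x) h3
    simpa [pow_succ, Perm.mul_apply] using this
  have hab : a ≠ u a := fun h => ha h.symm
  have hbc : u a ≠ u (u a) := fun h => hab (u.injective h)
  have hac : a ≠ u (u a) := by
    intro h
    have h1 := h3a a
    rw [← h] at h1
    exact ha h1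
  refine ⟨hab, hac, hbc, ?_⟩
  have hsupp : ({a, u a, u (u a)} : Finset X) = u.support := by
    apply Finset.eq_of_subset_of_card_le
    · intro x hx
      simp only [Finset.mem_insert, Finset.mem_singleton] at hx
      rw [Perm.mem_support]
      rcases hx with rfl | rfl | rfl
      · exact ha
      · exact fun h => ha (u.injective h)
      · exact fun h => ha (u.injective (u.injective h))
    · rw [hu.card_support, Finset.card_eq_three.2 ⟨a, u a, u (u a), hab, hac, hbc, rfl⟩]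
  ext x
  rw [tc_apply' hab hac hbc]
  by_cases hx : x ∈ u.support
  · rw [← hsupp] at hx
    simp only [Finset.mem_insert, Finset.mem_singleton] at hx
    rcases hx with rfl | rfl | rfl
    · simp
    · simp [hab.symm]
    · simp [hac.symm, hbc.symm, h3a]
  · have hx' := hx
    rw [← hsupp] at hx'
    simp only [Finset.mem_insert, Finset.mem_singleton, not_or] at hx'
    rw [Perm.notMem_support] at hx
    simp [hx'.1, hx'.2.1, hx'.2.2, hx]

section fin
variable [Fintype X]

/-- adjacency of three-cycles: the product has order two -/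
def Adj (s t : Perm X) : Prop := (s * t) * (s * t) = 1 ∧ s * t ≠ 1

theorem exists_common_moved {s t : Perm X} (hs : s.IsThreeCycle) (ht : t.IsThreeCycle)
    (h : Adj s t) : ∃ a, s a ≠ a ∧ t a ≠ a := by
  by_contra hcon
  push Not at hcon
  have hdis : Perm.Disjoint s t := by
    intro x
    by_cases hx : s x = x
    · exact Or.inl hx
    · exact Or.inr (hcon x hx)
  have hcomm := hdis.commute
  have h2 : s ^ 2 * t ^ 2 = 1 := by
    have := h.1
    rw [← this, pow_two, pow_two]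
    calc s * s * (t * t) = s * (s * t) * t := by group
      _ = s * (t * s) * t := by rw [hcomm.eq]
      _ = s * t * (s * t) := by group
  have h3 := ((hdis.pow_disjoint_pow 2 2).mul_eq_one_iff).1 h2
  have h4 : orderOf s ∣ 2 := orderOf_dvd_of_pow_eq_one h3.1
  rw [hs.orderOf] at h4
  norm_num at h4

theorem shape {s t : Perm X} (hs : s.IsThreeCycle) (ht : t.IsThreeCycle) (h : Adj s t) :
    ∃ a b c d, a ≠ b ∧ a ≠ c ∧ a ≠ d ∧ b ≠ c ∧ b ≠ d ∧ c ≠ d ∧ s = tc a b c ∧ t = tc a b d := by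
  obtain ⟨a, hsa, hta⟩ := exists_common_moved hs ht h
  obtain ⟨hab, hac, hbc, hs'⟩ := eq_tc_of_isThreeCycle hs hsa
  obtain ⟨hap, haq, hpq, ht'⟩ := eq_tc_of_isThreeCycle ht hta
  set b := s a
  set c := s b
  set p := t a
  set q := t p
  have h2 : ∀ x, tc a b c (tc a p q (tc a b c (tc a p q x))) = x := by
    intro x
    have := congrArg (fun f : Perm X => f x) h.1
    rw [hs', ht'] at this
    simpa [Perm.mul_apply] using this
  have h1 : ∃ x, tc a b c (tc a p q x) ≠ x := by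
    by_contra hcon
    push Not at hcon
    apply h.2
    rw [hs', ht']
    ext x
    simpa [Perm.mul_apply] using hcon x
  obtain ⟨x, hx⟩ := h1
  have e1 := h2 a
  have e2 := h2 b
  have e3 := h2 c
  have e4 := h2 p
  have e5 := h2 q
  have e6 := h2 x
  simp only [tc_apply' hab hac hbc, tc_apply' hap haq hpq] at e1 e2 e3 e4 e5 e6 hx
  have key : (p = b ∧ q ≠ c) ∨ (q = c ∧ p ≠ b) := by
    grind
  rcases key with ⟨h1, h2⟩ | ⟨h1, h2⟩
  · refine ⟨a, b, c, q, hab, hac, haq, hbc, ?_, fun h => h2 h.symm, hs', ?_⟩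
    · rw [← h1]; exact hpq
    · rw [ht', h1]
  · refine ⟨c, a, b, p, hac.symm, hbc.symm, ?_, hab, hap, fun h => h2 h.symm, ?_, ?_⟩
    · rw [← h1]; exact hpq.symm
    · rw [hs']; exact tc_rot a b c hab hac hbc
    · rw [ht', h1.symm]; exact tc_rot a p q hap haq hpq


theorem clique {a b c d : X} (hab : a ≠ b) (hac : a ≠ c) (had : a ≠ d) (hbc : b ≠ c) (hbd : b ≠ d)
    (hcd : c ≠ d) {w : Perm X} (hw : w.IsThreeCycle) (h1 : Adj (tc a b c) w)
    (h2 : Adj (tc a b d) w) : w a = b := by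
  obtain ⟨a₁, b₁, c₁, d₁, n1, n2, n3, n4, n5, n6, E1, rfl⟩ := shape (tc_isThreeCycle hab hac hbc) hw h1
  obtain ⟨a₂, b₂, c₂, d₂, m1, m2, m3, m4, m5, m6, E2, E3⟩ := shape (tc_isThreeCycle hab had hbd) hw h2
  have F1 : ∀ x, tc a b c x = tc a₁ b₁ c₁ x := fun x => by rw [E1]
  have F2 : ∀ x, tc a b d x = tc a₂ b₂ c₂ x := fun x => by rw [E2]
  have F3 : ∀ x, tc a₁ b₁ d₁ x = tc a₂ b₂ d₂ x := fun x => by rw [E3]
  have T1 := tc_apply' hab hac hbc
  have T2 := tc_apply' hab had hbd
  have T3 := tc_apply' n1 n2 n4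
  have T4 := tc_apply' n1 n3 n5
  have T5 := tc_apply' m1 m2 m4
  have T6 := tc_apply' m1 m3 m5
  have hA : (a₁ = a ∧ b₁ = b) ∨ (a₁ = b ∧ b₁ = c) ∨ (a₁ = c ∧ b₁ = a) := by
    have f1 := F1 a₁
    rw [T1, T3] at f1
    grind
  have hB : (a₂ = a ∧ b₂ = b) ∨ (a₂ = b ∧ b₂ = d) ∨ (a₂ = d ∧ b₂ = a) := by
    have f1 := F2 a₂
    rw [T2, T5] at f1
    grind
  have hd₁ : d₁ ≠ a ∧ d₁ ≠ b ∧ d₁ ≠ c := by
    have f1 := F1 d₁
    rw [T1, T3] at f1
    grind
  have hd₂ : d₂ ≠ a ∧ d₂ ≠ b ∧ d₂ ≠ d := by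
    have f1 := F2 d₂
    rw [T2, T5] at f1
    grind
  rw [T4]
  have g1 := F3 a₁
  have g2 := F3 a₂
  rw [T4, T6] at g1 g2
  rcases hA with ⟨e1, e2⟩ | ⟨e1, e2⟩ | ⟨e1, e2⟩
  · grind
  · exfalso
    rcases hB with ⟨e3, e4⟩ | ⟨e3, e4⟩ | ⟨e3, e4⟩
    · grind
    · grind
    · grind
  · exfalso
    rcases hB with ⟨e3, e4⟩ | ⟨e3, e4⟩ | ⟨e3, e4⟩
    · grind
    · grind
    · grind

end fin

end Cfsg.Agent.Lib.Helper20.AutAlt
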