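import Mathlib
import Cfsg.Agent.Lib.Helper20.AutAlt1

set_option autoImplicit false
set_option linter.unusedVariables false
set_option linter.unusedSectionVars false

namespace Cfsg.Agent.Lib.Helper20.AutAlt
open Equiv

variable {X : Type*} [DecidableEq X] [Fintype X]

theorem adj_tc {a b c d : X} (hab : a ≠ b) (hac : a ≠ c) (had : a ≠ d) (hbc : b ≠ c) (hbd : b ≠ d)
    (hcd : c ≠ d) : Adj (tc a b c) (tc a b d) := by
  constructor
  · ext x
    simp only [Perm.mul_apply, tc_apply' hab hac hbc, tc_apply' hab had hbd, Perm.coe_one, id_eq]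
    grind
  · intro h
    have := congrArg (fun f : Perm X => f d) h
    simp only [Perm.mul_apply, tc_apply' hab hac hbc, tc_apply' hab had hbd, Perm.coe_one, id_eq] at this
    grind

theorem tc_inv' (a b c : X) : (tc a b c)⁻¹ = tc a c b := tc_inv a b c

theorem tc_mul_inv {a b c d : X} (hab : a ≠ b) (hac : a ≠ c) (had : a ≠ d) (hbc : b ≠ c)
    (hbd : b ≠ d) (hcd : c ≠ d) : tc a b c * (tc a b d)⁻¹ = tc a d c := by
  rw [tc_inv']
  ext x
  simp only [Perm.mul_apply, tc_apply' hab hac hbc, tc_apply' had hab hbd.symm,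
    tc_apply' had hac hcd.symm]
  grind

theorem tc_mul_tc {a b c d : X} (hab : a ≠ b) (hac : a ≠ c) (had : a ≠ d) (hbc : b ≠ c)
    (hbd : b ≠ d) (hcd : c ≠ d) : tc a b c * tc a c d = tc b c d := by
  ext x
  simp only [Perm.mul_apply, tc_apply' hab hac hbc, tc_apply' hac had hcd,
    tc_apply' hbc hbd hcd]
  grind

/-- the three-cycles `(p₁ p₂ i)` generate the alternating group -/
theorem alternatingGroup_le_closure {p₁ p₂ : X} (hp : p₁ ≠ p₂) (K : Subgroup (Perm X))
    (hK : ∀ i, i ≠ p₁ → i ≠ p₂ → tc p₁ p₂ i ∈ K) : alternatingGroup X ≤ K := by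
  have ha : ∀ y z, y ≠ p₁ → z ≠ p₁ → y ≠ z → tc p₁ y z ∈ K := by
    intro y z hy hz hyz
    by_cases hy2 : y = p₂
    · subst hy2
      exact hK z hz hyz.symm
    · by_cases hz2 : z = p₂
      · subst hz2
        rw [← tc_inv']
        exact K.inv_mem (hK y hy hy2)
      · rw [← tc_mul_inv hp (Ne.symm hz) (Ne.symm hy) (Ne.symm hz2) (Ne.symm hy2) hyz.symm]
        exact K.mul_mem (hK z hz hz2) (K.inv_mem (hK y hy hy2))
  rw [← Equiv.Perm.closure_three_cycles_eq_alternating, Subgroup.closure_le]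
  intro w hw
  have hw3 : w.IsThreeCycle := hw
  by_cases h1 : w p₁ = p₁
  · obtain ⟨x, hx⟩ : ∃ x, w x ≠ x := by
      by_contra hcon
      push Not at hcon
      exact hw3.ne_one (Equiv.ext hcon)
    obtain ⟨hxy, hxz, hyz, e⟩ := eq_tc_of_isThreeCycle hw3 hx
    have n1 : x ≠ p₁ := by rintro rfl; exact hx h1
    have n2 : w x ≠ p₁ := by
      intro h; rw [← h1] at h; exact n1 (w.injective h)
    have n3 : w (w x) ≠ p₁ := by
      intro h; rw [← h1] at h; exact n2 (w.injective h)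
    have e2 := tc_mul_tc (Ne.symm n1) (Ne.symm n2) (Ne.symm n3) hxy hxz hyz
    show w ∈ K
    rw [e, ← e2]
    exact K.mul_mem (ha _ _ n1 n2 hxy) (ha _ _ n2 n3 hyz)
  · obtain ⟨hxy, hxz, hyz, e⟩ := eq_tc_of_isThreeCycle hw3 h1
    show w ∈ K
    rw [e]
    exact ha _ _ (Ne.symm hxy) (Ne.symm hxz) hyz


theorem adj_map {φ : ↥(alternatingGroup X) →* Perm X} (hinj : Function.Injective φ)
    (g h : ↥(alternatingGroup X)) (hgh : Adj (g : Perm X) (h : Perm X)) : Adj (φ g) (φ h) := by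
  constructor
  · rw [← map_mul, ← map_mul]
    have : (g * h) * (g * h) = 1 := Subtype.ext hgh.1
    rw [this, map_one]
  · rw [← map_mul]
    intro h1
    rw [← map_one φ] at h1
    have h2 := hinj h1
    exact hgh.2 (congrArg Subtype.val h2)

theorem exists_conj_of_preserves {φ : ↥(alternatingGroup X) →* Perm X}
    (hinj : Function.Injective φ)
    (h3 : ∀ g : ↥(alternatingGroup X), (g : Perm X).IsThreeCycle → (φ g).IsThreeCycle)
    (hcard : 4 ≤ Fintype.card X) :
    ∃ σ : Perm X, ∀ g : ↥(alternatingGroup X), φ g = σ * g * σ⁻¹ := by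
  obtain ⟨e⟩ : Nonempty (Fin 4 ↪ X) :=
    Function.Embedding.nonempty_of_card_le (by rw [Fintype.card_fin]; exact hcard)
  set p₁ := e 0 with hp₁
  set p₂ := e 1 with hp₂
  set i₀ := e 2 with hi₀
  set i₁ := e 3 with hi₁
  have hp : p₁ ≠ p₂ := fun h => by have := e.injective h; revert this; decide
  have h01 : i₀ ≠ p₁ := fun h => by have := e.injective h; revert this; decide
  have h02 : i₀ ≠ p₂ := fun h => by have := e.injective h; revert this; decide
  have h11 : i₁ ≠ p₁ := fun h => by have := e.injective h; revert this; decide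
  have h12 : i₁ ≠ p₂ := fun h => by have := e.injective h; revert this; decide
  have hii : i₀ ≠ i₁ := fun h => by have := e.injective h; revert this; decide
  -- the generators
  let T : (i : X) → i ≠ p₁ → i ≠ p₂ → ↥(alternatingGroup X) := fun i h1 h2 =>
    ⟨tc p₁ p₂ i, (tc_isThreeCycle hp (Ne.symm h1) (Ne.symm h2)).mem_alternatingGroup⟩
  let U : X → Perm X := fun i => if h : i ≠ p₁ ∧ i ≠ p₂ then φ (T i h.1 h.2) else 1
  have hU : ∀ i (h1 : i ≠ p₁) (h2 : i ≠ p₂), U i = φ (T i h1 h2) := fun i h1 h2 => by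
    simp only [U]; rw [dif_pos ⟨h1, h2⟩]
  have hU3 : ∀ i, i ≠ p₁ → i ≠ p₂ → (U i).IsThreeCycle := fun i h1 h2 => by
    rw [hU i h1 h2]
    exact h3 _ (tc_isThreeCycle hp (Ne.symm h1) (Ne.symm h2))
  have hUadj : ∀ i j, i ≠ p₁ → i ≠ p₂ → j ≠ p₁ → j ≠ p₂ → i ≠ j → Adj (U i) (U j) := by
    intro i j hi1 hi2 hj1 hj2 hij
    rw [hU i hi1 hi2, hU j hj1 hj2]
    apply adj_map hinj
    exact adj_tc hp (Ne.symm hi1) (Ne.symm hj1) (Ne.symm hi2) (Ne.symm hj2) hij
  obtain ⟨a, b, c, d, hab, hac, had, hbc, hbd, hcd, e0, e1⟩ :=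
    shape (hU3 i₀ h01 h02) (hU3 i₁ h11 h12) (hUadj i₀ i₁ h01 h02 h11 h12 hii)
  have hUa : ∀ i, i ≠ p₁ → i ≠ p₂ → U i a = b := by
    intro i hi1 hi2
    by_cases hi0 : i = i₀
    · rw [hi0, e0, tc_apply' hab hac hbc]; simp
    · by_cases hi1' : i = i₁
      · rw [hi1', e1, tc_apply' hab had hbd]; simp
      · apply clique hab hac had hbc hbd hcd (hU3 i hi1 hi2)
        · rw [← e0]; exact hUadj i₀ i h01 h02 hi1 hi2 (Ne.symm hi0)
        · rw [← e1]; exact hUadj i₁ i h11 h12 hi1 hi2 (Ne.symm hi1')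
  have hUeq : ∀ i, i ≠ p₁ → i ≠ p₂ → a ≠ U i b ∧ b ≠ U i b ∧ U i = tc a b (U i b) := by
    intro i hi1 hi2
    have hmv : U i a ≠ a := by rw [hUa i hi1 hi2]; exact hab.symm
    obtain ⟨q1, q2, q3, q4⟩ := eq_tc_of_isThreeCycle (hU3 i hi1 hi2) hmv
    rw [hUa i hi1 hi2] at q2 q3 q4
    exact ⟨q2, q3, q4⟩
  have hUinj : ∀ i j, i ≠ p₁ → i ≠ p₂ → j ≠ p₁ → j ≠ p₂ → U i b = U j b → i = j := by
    intro i j hi1 hi2 hj1 hj2 hij
    have h1 : U i = U j := by
      rw [(hUeq i hi1 hi2).2.2, (hUeq j hj1 hj2).2.2, hij]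
    rw [hU i hi1 hi2, hU j hj1 hj2] at h1
    have h2 := congrArg (fun g : ↥(alternatingGroup X) => (g : Perm X) p₂) (hinj h1)
    simp only [T] at h2
    rw [tc_apply' hp (Ne.symm hi1) (Ne.symm hi2), tc_apply' hp (Ne.symm hj1) (Ne.symm hj2)] at h2
    simpa [hp.symm] using h2
  -- the permutation
  let σf : X → X := fun x => if x = p₁ then a else if x = p₂ then b else U x b
  have hσinj : Function.Injective σf := by
    intro x y hxy
    simp only [σf] at hxy
    by_cases hx1 : x = p₁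
    · by_cases hy1 : y = p₁
      · rw [hx1, hy1]
      · by_cases hy2 : y = p₂
        · rw [if_pos hx1, if_neg hy1, if_pos hy2] at hxy
          exact absurd hxy hab
        · rw [if_pos hx1, if_neg hy1, if_neg hy2] at hxy
          exact absurd hxy (hUeq y hy1 hy2).1
    · by_cases hx2 : x = p₂
      · by_cases hy1 : y = p₁
        · rw [if_neg hx1, if_pos hx2, if_pos hy1] at hxy
          exact absurd hxy.symm hab
        · by_cases hy2 : y = p₂
          · rw [hx2, hy2]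
          · rw [if_neg hx1, if_pos hx2, if_neg hy1, if_neg hy2] at hxy
            exact absurd hxy (hUeq y hy1 hy2).2.1
      · by_cases hy1 : y = p₁
        · rw [if_neg hx1, if_neg hx2, if_pos hy1] at hxy
          exact absurd hxy.symm (hUeq x hx1 hx2).1
        · by_cases hy2 : y = p₂
          · rw [if_neg hx1, if_neg hx2, if_neg hy1, if_pos hy2] at hxy
            exact absurd hxy.symm (hUeq x hx1 hx2).2.1
          · rw [if_neg hx1, if_neg hx2, if_neg hy1, if_neg hy2] at hxy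
            exact hUinj x y hx1 hx2 hy1 hy2 hxy
  let σ : Perm X := Equiv.ofBijective σf (Finite.injective_iff_bijective.1 hσinj)
  have hσ1 : σ p₁ = a := by simp [σ, σf]
  have hσ2 : σ p₂ = b := by simp [σ, σf, hp.symm]
  have hσi : ∀ i, i ≠ p₁ → i ≠ p₂ → σ i = U i b := fun i h1 h2 => by simp [σ, σf, h1, h2]
  refine ⟨σ, ?_⟩
  -- the two homomorphisms agree on generators
  let ψ : ↥(alternatingGroup X) →* Perm X :=
    ((MulAut.conj σ).toMonoidHom).comp (alternatingGroup X).subtype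
  have hψ : ∀ g : ↥(alternatingGroup X), ψ g = σ * g * σ⁻¹ := fun g => rfl
  let E : Subgroup ↥(alternatingGroup X) := φ.eqLocus ψ
  have hle : alternatingGroup X ≤ E.map (alternatingGroup X).subtype := by
    apply alternatingGroup_le_closure hp
    intro i hi1 hi2
    refine ⟨T i hi1 hi2, ?_, rfl⟩
    show φ (T i hi1 hi2) = ψ (T i hi1 hi2)
    rw [hψ, ← hU i hi1 hi2, (hUeq i hi1 hi2).2.2]
    simp only [T]
    rw [tc_conj, hσ1, hσ2, hσi i hi1 hi2]
  intro g
  obtain ⟨g', hg', hgg⟩ := hle g.2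
  have : g' = g := Subtype.ext hgg
  rw [← this, ← hψ]
  exact hg'

end Cfsg.Agent.Lib.Helper20.AutAlt
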