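import Mathlib
import Cfsg.Agent.Lib.Helper20.AutAlt2

set_option autoImplicit false
set_option linter.unusedVariables false
set_option linter.unusedSectionVars false
set_option linter.style.haveILetI false

namespace Cfsg.Agent.Lib.Helper20.AutAlt
open Equiv

theorem cent_ineq (m k : ℕ) (hk : 1 ≤ k) (h : k = 1 → 1 ≤ m) :
    2 * (m.factorial * 3 ^ (k + 1) * (k + 1).factorial) < (m + 3 * k).factorial * 3 := by
  induction k, hk using Nat.le_induction with
  | base =>
    have hm := h rfl
    obtain ⟨m', rfl⟩ : ∃ m', m = m' + 1 := ⟨m - 1, by omega⟩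
    have e : (m' + 1 + 3 * 1).factorial = (m' + 4) * (m' + 3) * (m' + 2) * (m' + 1).factorial := by
      have : m' + 1 + 3 * 1 = (m' + 1) + 3 := by ring
      rw [this]
      simp only [Nat.factorial_succ]
      ring
    rw [e]
    have hF : 0 < (m' + 1).factorial := Nat.factorial_pos _
    have h24 : 24 ≤ (m' + 4) * (m' + 3) * (m' + 2) := by
      have : 4 * 3 * 2 ≤ (m' + 4) * (m' + 3) * (m' + 2) :=
        Nat.mul_le_mul (Nat.mul_le_mul (by omega) (by omega)) (by omega)
      omega
    have h2 : 24 * (m' + 1).factorial ≤ (m' + 4) * (m' + 3) * (m' + 2) * (m' + 1).factorial :=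
      Nat.mul_le_mul_right _ h24
    have e3 : (1 + 1).factorial = 2 := rfl
    rw [e3]
    generalize (m' + 1).factorial = F at *
    generalize (m' + 4) * (m' + 3) * (m' + 2) = Q at *
    norm_num
    nlinarith
  | succ k hk ih =>
    by_cases hc : k = 1 ∧ m = 0
    · obtain ⟨rfl, rfl⟩ := hc
      norm_num [Nat.factorial]
    · have ih' := ih (by intro h1; omega)
      have e1 : (m + 3 * (k + 1)).factorial =
          (m + 3 * k + 3) * (m + 3 * k + 2) * (m + 3 * k + 1) * (m + 3 * k).factorial := by
        have : m + 3 * (k + 1) = (m + 3 * k) + 3 := by ring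
        rw [this]
        simp only [Nat.factorial_succ]
        ring
      have e2 : (k + 1 + 1).factorial = (k + 2) * (k + 1).factorial := by
        rw [Nat.factorial_succ]
      rw [e1, e2, pow_succ]
      have h3 : 3 * (k + 2) ≤ (m + 3 * k + 3) * (m + 3 * k + 2) * (m + 3 * k + 1) := by
        have h4 : (3 * k + 3) * 2 * 1 ≤ (m + 3 * k + 3) * (m + 3 * k + 2) * (m + 3 * k + 1) :=
          Nat.mul_le_mul (Nat.mul_le_mul (by omega) (by omega)) (by omega)
        omega
      calc 2 * (m.factorial * (3 ^ (k + 1) * 3) * ((k + 2) * (k + 1).factorial))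
          = (3 * (k + 2)) * (2 * (m.factorial * 3 ^ (k + 1) * (k + 1).factorial)) := by ring
        _ < (3 * (k + 2)) * ((m + 3 * k).factorial * 3) :=
            Nat.mul_lt_mul_of_pos_left ih' (by omega)
        _ ≤ ((m + 3 * k + 3) * (m + 3 * k + 2) * (m + 3 * k + 1)) * ((m + 3 * k).factorial * 3) :=
            Nat.mul_le_mul_right _ h3
        _ = (m + 3 * k + 3) * (m + 3 * k + 2) * (m + 3 * k + 1) * (m + 3 * k).factorial * 3 := by
            ring

variable {X : Type*} [DecidableEq X] [Fintype X]

theorem card_centralizer_alt (g : ↥(alternatingGroup X)) :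
    Nat.card (Subgroup.centralizer {g} : Subgroup ↥(alternatingGroup X)) =
      Nat.card ↥(alternatingGroup X ⊓ Subgroup.centralizer {(g : Perm X)}) := by
  have hEq : (Subgroup.centralizer {g} : Subgroup ↥(alternatingGroup X)).map
      (alternatingGroup X).subtype = alternatingGroup X ⊓ Subgroup.centralizer {(g : Perm X)} := by
    ext h
    rw [Subgroup.mem_map, Subgroup.mem_inf, Subgroup.mem_centralizer_singleton_iff]
    constructor
    · rintro ⟨x, hx, rfl⟩
      rw [Subgroup.mem_centralizer_singleton_iff] at hx
      exact ⟨x.2, congrArg Subtype.val hx⟩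
    · rintro ⟨h1, h2⟩
      refine ⟨⟨h, h1⟩, ?_, rfl⟩
      rw [Subgroup.mem_centralizer_singleton_iff]
      exact Subtype.ext h2
  rw [← hEq, Subgroup.card_map_of_injective (alternatingGroup X).subtype_injective]

theorem card_centralizer_map (φ : MulAut ↥(alternatingGroup X)) (g : ↥(alternatingGroup X)) :
    Nat.card (Subgroup.centralizer {φ g} : Subgroup ↥(alternatingGroup X)) =
      Nat.card (Subgroup.centralizer {g} : Subgroup ↥(alternatingGroup X)) := by
  have hEq : (Subgroup.centralizer {φ g} : Subgroup ↥(alternatingGroup X)) =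
      (Subgroup.centralizer {g}).map φ.toMonoidHom := by
    ext h
    rw [Subgroup.mem_map, Subgroup.mem_centralizer_singleton_iff]
    constructor
    · intro hh
      refine ⟨φ.symm h, ?_, φ.apply_symm_apply h⟩
      rw [Subgroup.mem_centralizer_singleton_iff]
      apply φ.injective
      rw [map_mul, map_mul, φ.apply_symm_apply]
      exact hh
    · rintro ⟨x, hx, rfl⟩
      rw [Subgroup.mem_centralizer_singleton_iff] at hx
      have := congrArg φ hx
      rw [map_mul, map_mul] at this
      exact this
  rw [hEq, Subgroup.card_map_of_injective (f := φ.toMonoidHom) φ.injective]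

theorem card_centralizer_le_two_mul [Nontrivial X] (g : Perm X) :
    Nat.card (Subgroup.centralizer {g}) ≤
      2 * Nat.card ↥(alternatingGroup X ⊓ Subgroup.centralizer {g}) := by
  have h1 := Subgroup.relIndex_mul_relIndex (H := ⊥)
    (K := alternatingGroup X ⊓ Subgroup.centralizer {g}) (L := Subgroup.centralizer {g})
    bot_le inf_le_right
  rw [Subgroup.relIndex_bot_left, Subgroup.relIndex_bot_left, Subgroup.inf_relIndex_right] at h1
  have h2 : (alternatingGroup X).relIndex (Subgroup.centralizer {g}) ∣ 2 := by
    rw [← alternatingGroup.index_eq_two (α := X)]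
    exact Subgroup.relIndex_dvd_index_of_normal _ _
  have h3 := Nat.le_of_dvd (by norm_num) h2
  rw [← h1, mul_comm]
  exact Nat.mul_le_mul_right _ h3

theorem preserves_threeCycle (hX6 : Fintype.card X ≠ 6) (φ : MulAut ↥(alternatingGroup X))
    (g : ↥(alternatingGroup X)) (hg : (g : Perm X).IsThreeCycle) :
    ((φ g : ↥(alternatingGroup X)) : Perm X).IsThreeCycle := by
  have hn3 : 3 ≤ Fintype.card X := by
    rw [← hg.card_support]; exact Finset.card_le_univ _
  haveI : Nontrivial X := Fintype.one_lt_card_iff_nontrivial.1 (by omega)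
  have ho : orderOf ((φ g : ↥(alternatingGroup X)) : Perm X) = 3 := by
    rw [Subgroup.orderOf_coe, MulEquiv.orderOf_eq, ← Subgroup.orderOf_coe, hg.orderOf]
  obtain ⟨k, hk⟩ := Equiv.Perm.cycleType_prime_order
    (σ := ((φ g : ↥(alternatingGroup X)) : Perm X)) (by rw [ho]; norm_num)
  rw [ho] at hk
  by_cases hk0 : k = 0
  · subst hk0
    exact hk
  · exfalso
    have c1 : Nat.card (Subgroup.centralizer {(g : Perm X)}) =
        (Fintype.card X - 3).factorial * 3 := by
      rw [Equiv.Perm.nat_card_centralizer, hg.cycleType]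
      simp
    have c2 : Nat.card (Subgroup.centralizer {((φ g : ↥(alternatingGroup X)) : Perm X)}) =
        (Fintype.card X - (k + 1) * 3).factorial * 3 ^ (k + 1) * (k + 1).factorial := by
      rw [Equiv.Perm.nat_card_centralizer, hk, Multiset.sum_replicate, Multiset.prod_replicate,
        Multiset.toFinset_replicate, if_neg (by omega), Finset.prod_singleton,
        Multiset.count_replicate_self, smul_eq_mul]
    have hsum : 3 * (k + 1) ≤ Fintype.card X := by
      have h1 := Equiv.Perm.sum_cycleType ((φ g : ↥(alternatingGroup X)) : Perm X)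
      rw [hk, Multiset.sum_replicate, smul_eq_mul] at h1
      have h2 := Finset.card_le_univ ((φ g : ↥(alternatingGroup X)) : Perm X).support
      omega
    have e := card_centralizer_map φ g
    rw [card_centralizer_alt, card_centralizer_alt] at e
    have l1 := card_centralizer_le_two_mul (g : Perm X)
    have l2 : Nat.card ↥(alternatingGroup X ⊓
        Subgroup.centralizer {((φ g : ↥(alternatingGroup X)) : Perm X)}) ≤
        Nat.card (Subgroup.centralizer {((φ g : ↥(alternatingGroup X)) : Perm X)}) :=
      Subgroup.card_le_of_le inf_le_right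
    rw [c1, ← e] at l1
    rw [c2] at l2
    obtain ⟨m, hm⟩ : ∃ m, Fintype.card X = m + 3 * (k + 1) := ⟨Fintype.card X - 3 * (k + 1), by omega⟩
    have e1 : Fintype.card X - (k + 1) * 3 = m := by omega
    have e2 : Fintype.card X - 3 = m + 3 * k := by omega
    rw [e1] at l2
    rw [e2] at l1
    have := cent_ineq m k (by omega) (by intro hk1; by_contra hm0; apply hX6; omega)
    omega


theorem conjNormal_bijective (hcard : 4 ≤ Fintype.card X) (h6 : Fintype.card X ≠ 6) :
    Function.Bijective (MulAut.conjNormal : Perm X →* MulAut ↥(alternatingGroup X)) := by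
  constructor
  · rw [injective_iff_map_eq_one]
    intro σ hσ
    by_contra hne
    obtain ⟨x, hx⟩ : ∃ x, σ x ≠ x := by
      by_contra hcon
      push Not at hcon
      exact hne (Equiv.ext hcon)
    obtain ⟨y, -, hy⟩ := Finset.exists_mem_notMem_of_card_lt_card
      (s := ({x, σ x} : Finset X)) (t := Finset.univ) (by
        have := Finset.card_le_two (a := x) (b := σ x)
        rw [Finset.card_univ]; omega)
    obtain ⟨z, -, hz⟩ := Finset.exists_mem_notMem_of_card_lt_card
      (s := ({x, σ x, y} : Finset X)) (t := Finset.univ) (by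
        have := Finset.card_le_three (a := x) (b := σ x) (c := y)
        rw [Finset.card_univ]; omega)
    simp only [Finset.mem_insert, Finset.mem_singleton, not_or] at hy hz
    have hxy : x ≠ y := fun h => hy.1 h.symm
    have hxz : x ≠ z := fun h => hz.1 h.symm
    have hyz : y ≠ z := fun h => hz.2.2 h.symm
    let t : ↥(alternatingGroup X) := ⟨tc x y z, (tc_isThreeCycle hxy hxz hyz).mem_alternatingGroup⟩
    have h1 : ((MulAut.conjNormal σ t : ↥(alternatingGroup X)) : Perm X) = σ * tc x y z * σ⁻¹ :=
      MulAut.conjNormal_apply σ t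
    rw [hσ, tc_conj] at h1
    have h2 := congrArg (fun f : Perm X => f (σ x)) h1
    simp only [MulAut.one_apply, t] at h2
    rw [tc_apply' hxy hxz hyz, tc_apply' (σ.injective.ne hxy) (σ.injective.ne hxz)
      (σ.injective.ne hyz)] at h2
    simp only [if_true] at h2
    rw [if_neg hx, if_neg (fun h => hy.2 h.symm), if_neg (fun h => hz.2.1 h.symm)] at h2
    exact hxy (σ.injective h2)
  · intro φ
    let φ' : ↥(alternatingGroup X) →* Perm X := (alternatingGroup X).subtype.comp φ.toMonoidHom
    have hinj : Function.Injective φ' :=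
      (alternatingGroup X).subtype_injective.comp φ.injective
    obtain ⟨σ, hσ⟩ := exists_conj_of_preserves hinj
      (fun g hg => preserves_threeCycle h6 φ g hg) hcard
    refine ⟨σ, ?_⟩
    ext g : 2
    rw [MulAut.conjNormal_apply]
    exact (hσ g).symm

end Cfsg.Agent.Lib.Helper20.AutAlt
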