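import Mathlib
import Cfsg.Agent.Lib.Helper20.AutAlt3

set_option autoImplicit false
set_option linter.unusedVariables false
set_option linter.unusedSectionVars false

namespace Cfsg.Agent.Lib.Helper20.AutAlt
open Equiv

variable {X : Type*} [Fintype X] [DecidableEq X]

/-- the automorphism maps three-cycles to three-cycles -/
def Pres (φ : MulAut ↥(alternatingGroup X)) : Prop :=
  ∀ g : ↥(alternatingGroup X), (g : Perm X).IsThreeCycle →
    ((φ g : ↥(alternatingGroup X)) : Perm X).IsThreeCycle

theorem pres_one : Pres (1 : MulAut ↥(alternatingGroup X)) := fun g hg => hg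

theorem pres_mul {φ ψ : MulAut ↥(alternatingGroup X)} (hφ : Pres φ) (hψ : Pres ψ) :
    Pres (φ * ψ) := fun g hg => hφ _ (hψ g hg)

theorem pres_pow {φ : MulAut ↥(alternatingGroup X)} (hφ : Pres φ) (k : ℕ) : Pres (φ ^ k) := by
  induction k with
  | zero => rw [pow_zero]; exact pres_one
  | succ k ih => rw [pow_succ]; exact pres_mul ih hφ

theorem pres_dichotomy (h5 : 5 ≤ Fintype.card X) (φ : MulAut ↥(alternatingGroup X)) :
    Pres φ ∨ ∀ g : ↥(alternatingGroup X), (g : Perm X).IsThreeCycle →
      ¬ ((φ g : ↥(alternatingGroup X)) : Perm X).IsThreeCycle := by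
  by_cases h : ∃ g : ↥(alternatingGroup X), (g : Perm X).IsThreeCycle ∧
      ((φ g : ↥(alternatingGroup X)) : Perm X).IsThreeCycle
  · left
    obtain ⟨g, hg, hg'⟩ := h
    intro g₁ hg₁
    have hc : IsConj g g₁ :=
      alternatingGroup.isThreeCycle_isConj (by rwa [Nat.card_eq_fintype_card]) hg hg₁
    obtain ⟨c, hc⟩ := isConj_iff.1 hc
    rw [← hc, map_mul, map_mul, map_inv]
    show (((φ c : ↥(alternatingGroup X)) : Perm X) * ((φ g : ↥(alternatingGroup X)) : Perm X) *
      ((φ c : ↥(alternatingGroup X)) : Perm X)⁻¹).cycleType = {3}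
    rw [Equiv.Perm.cycleType_conj]
    exact hg'
  · right
    intro g hg hg'
    exact h ⟨g, hg, hg'⟩

theorem conjNormal_injective (hcard : 4 ≤ Fintype.card X) :
    Function.Injective (MulAut.conjNormal : Perm X →* MulAut ↥(alternatingGroup X)) := by
  rw [injective_iff_map_eq_one]
  intro σ hσ
  by_contra hne
  obtain ⟨x, hx⟩ : ∃ x, σ x ≠ x := by
    by_contra hcon
    push Not at hcon
    exact hne (Equiv.ext hcon)
  obtain ⟨y, -, hy⟩ := Finset.exists_mem_notMem_of_card_lt_card
    (s := ({x, σ x} : Finset X)) (t := Finset.univ) (by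
      have := Finset.card_le_two (a := x) (b := σ x)
      rw [Finset.card_univ]; omega)
  obtain ⟨z, -, hz⟩ := Finset.exists_mem_notMem_of_card_lt_card
    (s := ({x, σ x, y} : Finset X)) (t := Finset.univ) (by
      have := Finset.card_le_three (a := x) (b := σ x) (c := y)
      rw [Finset.card_univ]; omega)
  simp only [Finset.mem_insert, Finset.mem_singleton, not_or] at hy hz
  have hxy : x ≠ y := fun h => hy.1 h.symm
  have hxz : x ≠ z := fun h => hz.1 h.symm
  have hyz : y ≠ z := fun h => hz.2.2 h.symm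
  let t : ↥(alternatingGroup X) := ⟨tc x y z, (tc_isThreeCycle hxy hxz hyz).mem_alternatingGroup⟩
  have h1 : ((MulAut.conjNormal σ t : ↥(alternatingGroup X)) : Perm X) = σ * tc x y z * σ⁻¹ :=
    MulAut.conjNormal_apply σ t
  rw [hσ, tc_conj] at h1
  have h2 := congrArg (fun f : Perm X => f (σ x)) h1
  simp only [MulAut.one_apply, t] at h2
  rw [tc_apply' hxy hxz hyz, tc_apply' (σ.injective.ne hxy) (σ.injective.ne hxz)
    (σ.injective.ne hyz)] at h2
  simp only [if_true] at h2
  rw [if_neg hx, if_neg (fun h => hy.2 h.symm), if_neg (fun h => hz.2.1 h.symm)] at h2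
  exact hxy (σ.injective h2)

theorem mem_range_of_pres (hcard : 4 ≤ Fintype.card X) {φ : MulAut ↥(alternatingGroup X)}
    (hφ : Pres φ) : ∃ σ : Perm X, MulAut.conjNormal σ = φ := by
  let φ' : ↥(alternatingGroup X) →* Perm X := (alternatingGroup X).subtype.comp φ.toMonoidHom
  have hinj : Function.Injective φ' :=
    (alternatingGroup X).subtype_injective.comp φ.injective
  obtain ⟨σ, hσ⟩ := exists_conj_of_preserves hinj (fun g hg => hφ g hg) hcard
  refine ⟨σ, ?_⟩
  ext g : 2
  rw [MulAut.conjNormal_apply]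
  exact (hσ g).symm

end Cfsg.Agent.Lib.Helper20.AutAlt
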