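import Mathlib
import Cfsg.Agent.Lib.Helper20.AutAlt4

set_option autoImplicit false
set_option linter.unusedVariables false
set_option linter.unusedSectionVars false

namespace Cfsg.Agent.Lib.Helper20.AutAlt
open Equiv

variable {X : Type*} [Fintype X] [DecidableEq X]

theorem cycleType_of_order_three_card_six (h6 : Fintype.card X = 6) (σ : Perm X)
    (ho : orderOf σ = 3) : σ.IsThreeCycle ∨ σ.cycleType = {3, 3} := by
  obtain ⟨k, hk⟩ := Equiv.Perm.cycleType_prime_order (σ := σ) (by rw [ho]; norm_num)
  rw [ho] at hk
  have hsum : 3 * (k + 1) ≤ 6 := by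
    have h1 := Equiv.Perm.sum_cycleType σ
    rw [hk, Multiset.sum_replicate, smul_eq_mul] at h1
    have h2 := Finset.card_le_univ σ.support
    omega
  have : k = 0 ∨ k = 1 := by omega
  rcases this with rfl | rfl
  · left; exact hk
  · right; rw [hk]; rfl

theorem card_threeCycles_six (h6 : Fintype.card X = 6) :
    (Finset.univ.filter fun g : Perm X => g.cycleType = {3}).card = 40 := by
  rw [Equiv.Perm.card_of_cycleType X {3}, h6]
  decide

theorem card_threeThree_six (h6 : Fintype.card X = 6) :
    (Finset.univ.filter fun g : Perm X => g.cycleType = {3, 3}).card = 40 := by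
  rw [Equiv.Perm.card_of_cycleType X {3, 3}, h6]
  decide

theorem pres_sq_of_card_six (h6 : Fintype.card X = 6) (φ : MulAut ↥(alternatingGroup X)) :
    Pres (φ * φ) := by
  classical
  by_cases hφ : Pres φ
  · exact pres_mul hφ hφ
  have hno := (pres_dichotomy (by omega) φ).resolve_left hφ
  have hord : ∀ g : ↥(alternatingGroup X), orderOf (g : Perm X) = 3 →
      orderOf ((φ g : ↥(alternatingGroup X)) : Perm X) = 3 := by
    intro g hg
    rw [Subgroup.orderOf_coe, MulEquiv.orderOf_eq, ← Subgroup.orderOf_coe, hg]
  have hTT' : ∀ g : ↥(alternatingGroup X), (g : Perm X).IsThreeCycle →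
      ((φ g : ↥(alternatingGroup X)) : Perm X).cycleType = {3, 3} := by
    intro g hg
    rcases cycleType_of_order_three_card_six h6 _ (hord g hg.orderOf) with h | h
    · exact absurd h (hno g hg)
    · exact h
  let F : Perm X → Perm X := fun g =>
    if h : g ∈ alternatingGroup X then ((φ ⟨g, h⟩ : ↥(alternatingGroup X)) : Perm X) else g
  have hF : (Finset.univ.filter fun g : Perm X => g.cycleType = {3}).image F =
      (Finset.univ.filter fun g : Perm X => g.cycleType = {3, 3}) := by
    apply Finset.eq_of_subset_of_card_le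
    · intro x hx
      obtain ⟨g, hg, rfl⟩ := Finset.mem_image.1 hx
      have hg3 : g.IsThreeCycle := (Finset.mem_filter.1 hg).2
      have hmem : g ∈ alternatingGroup X := hg3.mem_alternatingGroup
      simp only [F, dif_pos hmem]
      exact Finset.mem_filter.2 ⟨Finset.mem_univ _, hTT' ⟨g, hmem⟩ hg3⟩
    · rw [Finset.card_image_of_injOn, card_threeCycles_six h6, card_threeThree_six h6]
      intro a ha b hb hab
      have ha3 : a.IsThreeCycle := (Finset.mem_filter.1 (Finset.mem_coe.1 ha)).2
      have hb3 : b.IsThreeCycle := (Finset.mem_filter.1 (Finset.mem_coe.1 hb)).2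
      simp only [F, dif_pos ha3.mem_alternatingGroup, dif_pos hb3.mem_alternatingGroup] at hab
      have := φ.injective (Subtype.ext hab)
      exact congrArg Subtype.val this
  intro g hg
  show ((φ (φ g) : ↥(alternatingGroup X)) : Perm X).IsThreeCycle
  have h1 := hTT' g hg
  have ho2 : orderOf ((φ (φ g) : ↥(alternatingGroup X)) : Perm X) = 3 :=
    hord (φ g) (hord g hg.orderOf)
  rcases cycleType_of_order_three_card_six h6 _ ho2 with h | h
  · exact h
  · exfalso
    have hmem : ((φ (φ g) : ↥(alternatingGroup X)) : Perm X) ∈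
        (Finset.univ.filter fun g : Perm X => g.cycleType = {3, 3}) :=
      Finset.mem_filter.2 ⟨Finset.mem_univ _, h⟩
    rw [← hF] at hmem
    obtain ⟨t, ht, hte⟩ := Finset.mem_image.1 hmem
    have ht3 : t.IsThreeCycle := (Finset.mem_filter.1 ht).2
    simp only [F, dif_pos ht3.mem_alternatingGroup] at hte
    have h0 := φ.injective (Subtype.ext hte)
    have h2 : t = ((φ g : ↥(alternatingGroup X)) : Perm X) := congrArg Subtype.val h0
    have h3 : t.cycleType = {3, 3} := by rw [h2]; exact h1
    have h4 : t.cycleType = {3} := ht3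
    rw [h4] at h3
    exact absurd h3 (by decide)

theorem pres_of_odd_order (h5 : 5 ≤ Fintype.card X) (φ : MulAut ↥(alternatingGroup X))
    (hodd : Odd (orderOf φ)) : Pres φ := by
  by_cases h6 : Fintype.card X = 6
  · obtain ⟨k, hk⟩ := hodd
    have h1 : (φ * φ) ^ (k + 1) = φ := by
      rw [← pow_two, ← pow_mul]
      have : 2 * (k + 1) = orderOf φ + 1 := by omega
      rw [this, pow_succ, pow_orderOf_eq_one, one_mul]
    rw [← h1]
    exact pres_pow (pres_sq_of_card_six h6 φ) _
  · exact fun g hg => preserves_threeCycle h6 φ g hg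

end Cfsg.Agent.Lib.Helper20.AutAlt
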