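import Mathlib
import Cfsg.Agent.Lib.Helper19.AMO.Defs

set_option autoImplicit false
set_option linter.unusedVariables false
set_option linter.unusedSectionVars false

/-! Project AMO (S2262), pieces G1 and G1b. -/

namespace Cfsg.Agent.Lib.Helper19.AMO

open Matrix Cfsg.Agent.Lib.Helper16.PG Cfsg.Agent.Lib.Helper16.AP Cfsg.Agent.Lib.Helper16.PU

universe u

section
variable {n : ℕ} {F : Type u} [Field F]

theorem amoG1_Phi_pow_eq_one_iff (g : GL (Fin n) F) (k : ℕ) :
    (Phi n F g) ^ k = 1 ↔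
      (QuotientGroup.mk g : GL (Fin n) F ⧸ Subgroup.center (GL (Fin n) F)) ^ k = 1 := by
  rw [← map_pow, ← MonoidHom.mem_ker, ker_Phi, ← QuotientGroup.mk_pow, QuotientGroup.eq_one_iff]

/-- AMO-G1 -/
theorem orderOf_Phi [Fintype F] (g : GL (Fin n) F) :
    orderOf (Phi n F g) =
      orderOf (QuotientGroup.mk g : GL (Fin n) F ⧸ Subgroup.center (GL (Fin n) F)) := by
  rw [orderOf_eq_orderOf_iff]
  intro k
  exact amoG1_Phi_pow_eq_one_iff g k

/-- AMO-G1b -/
theorem Phi_pow_eq_one (g : GL (Fin n) F) (k : ℕ) (c : Fˣ)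
    (h : g ^ k = Matrix.GeneralLinearGroup.scalar (Fin n) c) : (Phi n F g) ^ k = 1 := by
  rw [← map_pow, h, ← MonoidHom.mem_ker, ker_Phi, Matrix.GeneralLinearGroup.center_eq_range_scalar]
  exact ⟨c, rfl⟩

end

end Cfsg.Agent.Lib.Helper19.AMO
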