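import Mathlib
import Cfsg.Prelude.Def_GeometricClasses
import Cfsg.Agent.Lib.Helper27.ASC.Defs
import Cfsg.Agent.Lib.Helper19.ASG.Defs
import Cfsg.Agent.Lib.Helper19.ASU.Defs
import Cfsg.Agent.Lib.Helper26.ASUC.Defs
import Cfsg.Agent.Lib.Helper19.ASUADJ
import Cfsg.Agent.Lib.Lead.HermIso
import Cfsg.Agent.Lib.Helper20.ASPCSIM

set_option autoImplicit false
set_option linter.unusedVariables false
set_option linter.unusedSectionVars false
set_option linter.style.haveILetI false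

/-!
# Project ASU, block C, piece C-HERM : the Gram matrix `A ⊗ B` is hermitian, and so are `A`, `B` after rescaling (verbatim)
-/

namespace Cfsg.Agent.Lib.Helper19.ASU

open Cfsg Cfsg.Geo Cfsg.Agent.Lib.Helper27.ASC Cfsg.Agent.Lib.Helper19.ASG
open scoped MatrixGroups Matrix Kronecker

variable {n : ℕ} {F : Type*} [Field F]

/-- the value of `formOfGram (· ^ q) M` on two standard basis vectors (`q ≠ 0`) -/
theorem asucherm_form_single (q : ℕ) (hq : q ≠ 0) {κ : Type} [Fintype κ] [DecidableEq κ] (M : Matrix κ κ F)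
    (p p' : κ) :
    formOfGram (fun a : F => a ^ q) M (Pi.single p 1) (Pi.single p' 1) = M p p' := by
  unfold formOfGram
  rw [Finset.sum_eq_single p]
  · rw [Finset.sum_eq_single p']
    · simp
    · intro b _ hb
      simp [Pi.single_eq_of_ne hb, zero_pow hq]
    · intro h
      exact absurd (Finset.mem_univ p') h
  · intro a _ ha
    apply Finset.sum_eq_zero
    intro b _
    simp [Pi.single_eq_of_ne ha]
  · intro h
    exact absurd (Finset.mem_univ p) h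

/-- Hilbert 90 for `a ↦ a ^ q` on the field of order `q ^ 2` -/
theorem asucherm_h90 [Fintype F] (q : ℕ) (hF : Fintype.card F = q ^ 2) (μ : F) (hμ : μ ^ q * μ = 1) :
    ∃ ν : F, ν ≠ 0 ∧ ν ^ q * μ = ν := by
  have key : ∀ a : F, (a + μ * a ^ q) ^ q * μ = a + μ * a ^ q := by
    intro a
    have h1 : (a + μ * a ^ q) ^ q = a ^ q + μ ^ q * a := by
      rw [← ufrob_apply hF, map_add, map_mul, ufrob_apply, ufrob_apply, ufrob_apply, upow_pow hF]
    rw [h1, add_mul]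
    have h2 : μ ^ q * a * μ = a * (μ ^ q * μ) := by ring
    rw [h2, hμ]
    ring
  by_cases h1 : (1 : F) + μ = 0
  · obtain ⟨a, ha⟩ := Cfsg.Agent.Lib.Lead.HI.exists_not_fixed hF
    refine ⟨a + μ * a ^ q, ?_, key a⟩
    have hl : μ = -1 := eq_neg_of_add_eq_zero_right h1
    rw [hl]
    intro h0
    apply ha
    linear_combination -h0
  · refine ⟨1 + μ * 1 ^ q, ?_, key 1⟩
    rw [one_pow, mul_one]
    exact h1

/-- C-HERM (easy-medium) : the Gram matrix `A ⊗ B` is hermitian (`x = Pi.single p 1`, `y = Pi.single p' 1` in `hK`,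
`uc_gram_formOfGram` over `κ = Fin k × Fin d`, and `f v u = (f u v) ^ q` : `uherm_symm` of `Helper19.ASUADJ`). -/
theorem uc_krGram_herm [Fintype F] (q : ℕ) (hF : Fintype.card F = q ^ 2) {k d : ℕ}
    (e : Fin n ≃ Fin k × Fin d) (P : GL (Fin n) F) (A : Matrix (Fin k) (Fin k) F) (B : Matrix (Fin d) (Fin d) F)
    (hK : UKrGram q e P A B) : ((A ⊗ₖ B)ᵀ).map (fun a : F => a ^ q) = A ⊗ₖ B := by
  classical
  have hq : q ≠ 0 := (uq_pos hF).ne'
  have hG : ∀ p p' : Fin k × Fin d, (A ⊗ₖ B) p p' =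
      hermForm n F q ((P : Matrix (Fin n) (Fin n) F) *ᵥ ((Pi.single p 1 : Fin k × Fin d → F) ∘ e))
        ((P : Matrix (Fin n) (Fin n) F) *ᵥ ((Pi.single p' 1 : Fin k × Fin d → F) ∘ e)) := by
    intro p p'
    rw [hK, asucherm_form_single q hq]
  ext p p'
  rw [Matrix.map_apply, Matrix.transpose_apply, hG p' p, uherm_symm hF, ← hG p p', upow_pow hF]

/-- C-HERM (medium) : a hermitian Kronecker product with non-zero factors has hermitian factors after rescaling.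
`A^H ⊗ B^H = A ⊗ B` (`X^H = (Xᵀ)^(q)`), so `A^H = μ A`, `B^H = μ⁻¹ B` (ASP C-KUNIQ `spc_kron_eq_kron`, `Helper22.ASPCKUNIQ`);
`A = A^HH = μ^(q+1) A`, so `μ^q μ = 1`; Hilbert 90 (`asgd1herm_h90`, `Helper29.ASGD1HERM`, with `σ = (· ^ q)`, or directly:
`μ = ν ^ (q - 1)`-type argument in the cyclic group `Fˣ`) gives `ν ≠ 0` with `ν ^ q * μ = ν`; then `(ν A)^H = ν^q μ A = ν A` and
`(ν⁻¹ B)^H = ν^(-q) μ⁻¹ B = ν⁻¹ B`. -/
theorem uc_kron_herm [Fintype F] (q : ℕ) (hF : Fintype.card F = q ^ 2) {k d : ℕ} (hk : 0 < k) (hd : 0 < d)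
    (A : Matrix (Fin k) (Fin k) F) (B : Matrix (Fin d) (Fin d) F) (hA : A.det ≠ 0) (hB : B.det ≠ 0)
    (h : ((A ⊗ₖ B)ᵀ).map (fun a : F => a ^ q) = A ⊗ₖ B) :
    ∃ ν : F, ν ≠ 0 ∧ uadj q (ν • A) = ν • A ∧ uadj q (ν⁻¹ • B) = ν⁻¹ • B := by
  classical
  haveI : Nonempty (Fin k) := ⟨⟨0, hk⟩⟩
  haveI : Nonempty (Fin d) := ⟨⟨0, hd⟩⟩
  have hA0 : A ≠ 0 := by
    rintro rfl
    exact hA Matrix.det_zero
  have hB0 : B ≠ 0 := by
    rintro rfl
    exact hB Matrix.det_zero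
  have hkr : uadj q A ⊗ₖ uadj q B = A ⊗ₖ B := by
    rw [← h]
    ext ⟨i, j⟩ ⟨i', j'⟩
    simp [Matrix.kroneckerMap_apply, uadj_apply, mul_pow]
  obtain ⟨μ, hμ0, hμA, hμB⟩ := Cfsg.Agent.Lib.Helper18.ASP.aspcsim_kron_eq_kron _ A _ B hA0 hB0 hkr
  -- `μ ^ q * μ = 1`
  have hAA : A = (μ ^ q * μ) • A := by
    have h1 := uadj_uadj hF A
    rw [hμA, uadj_smul hF, hμA, smul_smul] at h1
    exact h1.symm
  have hμ1 : μ ^ q * μ = 1 := by
    obtain ⟨i, j, hij⟩ : ∃ i j, A i j ≠ 0 := by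
      by_contra hne
      push Not at hne
      exact hA0 (Matrix.ext hne)
    have h1 := congrFun (congrFun hAA i) j
    rw [Matrix.smul_apply, smul_eq_mul] at h1
    have h2 : (μ ^ q * μ - 1) * A i j = 0 := by linear_combination -h1
    rcases mul_eq_zero.mp h2 with h3 | h3
    · exact sub_eq_zero.mp h3
    · exact absurd h3 hij
  obtain ⟨ν, hν0, hν⟩ := asucherm_h90 q hF μ hμ1
  refine ⟨ν, hν0, ?_, ?_⟩
  · rw [uadj_smul hF, hμA, smul_smul, hν]
  · rw [uadj_smul hF, hμB, smul_smul]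
    congr 1
    rw [inv_pow, ← mul_inv, hν]

end Cfsg.Agent.Lib.Helper19.ASU
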