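import Mathlib
import Cfsg.Agent.Lib.Helper19.G2V.Defs
import Cfsg.Agent.Lib.Helper21.G2VM1

/-!
# Project G2V (helper19, S2461), row I6 (helper20), VERBATIM: `iota A ∈ Gp F`.
Self-contained on M1 (`X_mem_Gp`, `hb_mem_Gp`): `phiA S` lies in `X₇ ⊔ X₄ ≤ Gp F`.
-/

set_option autoImplicit false

namespace Cfsg.Agent.Lib.Helper19.G2V

open Cfsg.Lie Cfsg.Lie.ChevalleyDatum Matrix
open Cfsg.Agent.Lib.helper8
open Cfsg.Agent.Lib.helper23.P4V

universe u

variable {F : Type u} [Field F]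

/-- every root subgroup lies in `Gp F` -/
theorem g2vi6_rootSubgroup_le (r : ℕ) : chevG2.rootSubgroup F r ≤ Gp F := by
  unfold ChevalleyDatum.rootSubgroup
  rw [Subgroup.closure_le]
  rintro g ⟨t, hg⟩
  have : g = X r t := by
    apply Units.ext
    rw [hg]
    rfl
  rw [this]
  exact X_mem_Gp r t

/-- `phiA S ∈ Gp F` -/
theorem g2vi6_phiA_mem (S : Matrix.SpecialLinearGroup (Fin 2) F) : phiA S ∈ Gp F := by
  have h : phiA S ∈ (phiA (F := F)).range := ⟨S, rfl⟩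
  rw [phiA_range] at h
  exact (sup_le (g2vi6_rootSubgroup_le 7) (g2vi6_rootSubgroup_le 4)) h

/-- **I6** [S]. -/
theorem iota_mem_Gp (A : GL (Fin 2) F) : iota A ∈ Gp F := by
  unfold iota
  exact Subgroup.mul_mem _ (g2vi6_phiA_mem _) (hb_mem_Gp _)

end Cfsg.Agent.Lib.Helper19.G2V
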