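import Mathlib
import Cfsg.Agent.Lib.Helper19.G2V.Defs
import Cfsg.Agent.S1025
import Cfsg.Agent.S1032

/-!
# Project G2V (helper19, S2461), row I7 (helper20), VERBATIM:
`iota A * X 0 r * (iota A)⁻¹ = X 0 (r / det A)`.
-/

set_option autoImplicit false

namespace Cfsg.Agent.Lib.Helper19.G2V

open Cfsg.Lie Cfsg.Lie.ChevalleyDatum Matrix
open Cfsg.Agent.Lib.helper8
open Cfsg.Agent.Lib.helper23.P4V

universe u

variable {F : Type u} [Field F]

/-- root elements whose commutator word is empty commute -/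
theorem g2vi7_comm (r s : ℕ) (hr : r < chevG2.nroots) (hs : s < chevG2.nroots) (hrs : s ≠ r)
    (hneg : s ≠ chevG2.neg r) (h0 : chevG2.commTerms r s = []) (t u : F) :
    X s u * X r t = X r t * X s u := by
  apply Units.ext
  rw [Units.val_mul, Units.val_mul]
  unfold X
  rw [h8xU_val, h8xU_val]
  have h := Cfsg.Agent.S1025.result (F := F) chevG2 (by simp) r s hr hs hrs hneg t u
  rw [h]
  unfold ChevalleyDatum.commWord
  rw [h0, List.map_nil, h8wordMat_nil, mul_one]

theorem g2vi7_comm7 (t u : F) : X 0 u * X 7 t = X 7 t * X 0 u :=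
  g2vi7_comm 7 0 (by decide) (by decide) (by decide) (by decide) (by decide) t u

theorem g2vi7_comm4 (t u : F) : X 0 u * X 4 t = X 4 t * X 0 u :=
  g2vi7_comm 4 0 (by decide) (by decide) (by decide) (by decide) (by decide) t u

/-- the root subgroup `X_r` is centralised by `X 0 u` when the generators are -/
theorem g2vi7_root_le_centralizer (r : ℕ) (u : F) (h : ∀ t : F, X 0 u * X r t = X r t * X 0 u) :
    chevG2.rootSubgroup F r ≤ Subgroup.centralizer {(X 0 u : GG F)} := by
  unfold ChevalleyDatum.rootSubgroup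
  rw [Subgroup.closure_le]
  rintro g ⟨t, hg⟩
  have : g = X r t := by
    apply Units.ext
    rw [hg]
    rfl
  rw [this, SetLike.mem_coe, Subgroup.mem_centralizer_iff]
  intro y hy
  rw [Set.mem_singleton_iff] at hy
  rw [hy]
  exact h t

/-- `phiA S` commutes with `X 0 u` -/
theorem g2vi7_phiA_comm (S : Matrix.SpecialLinearGroup (Fin 2) F) (u : F) :
    phiA S * X 0 u = X 0 u * phiA S := by
  have h : phiA S ∈ (phiA (F := F)).range := ⟨S, rfl⟩
  rw [phiA_range] at h
  have h2 := (sup_le (g2vi7_root_le_centralizer 7 u (fun t => g2vi7_comm7 t u))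
    (g2vi7_root_le_centralizer 4 u (fun t => g2vi7_comm4 t u))) h
  rw [Subgroup.mem_centralizer_iff] at h2
  exact (h2 _ (Set.mem_singleton _)).symm

/-- `hb c * X 0 r = X 0 (c⁻¹ r) * hb c` -/
theorem g2vi7_hb_X0 (c : F) (hc : c ≠ 0) (r : F) : hb c * X 0 r = X 0 (c⁻¹ * r) * hb c := by
  apply Units.ext
  rw [Units.val_mul, Units.val_mul]
  unfold X hb
  rw [h8xU_val, h8xU_val, h8hU_val]
  have h := Cfsg.Agent.S1032.result (F := F) chevG2 (by simp) 1 0 (by decide) (by decide) c hc r
  have e1 : chevG2.simple 1 = 6 := by decide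
  have e2 : chevG2.cartan 1 0 = -1 := by decide
  rw [e1, e2, _root_.zpow_neg_one] at h
  exact h

/-- **I7** [M]. -/
theorem iota_conj_X0 (A : GL (Fin 2) F) (r : F) :
    iota A * X 0 r * (iota A)⁻¹ = X 0 (r / (A : M2 F).det) := by
  have hdet : (A : M2 F).det ≠ 0 := by
    have := A.isUnit.map (Matrix.detMonoidHom (n := Fin 2) (R := F))
    exact this.ne_zero
  unfold iota
  rw [mul_assoc (phiA (sl2of A)), g2vi7_hb_X0 _ hdet, ← mul_assoc, g2vi7_phiA_comm,
    div_eq_inv_mul]
  group

end Cfsg.Agent.Lib.Helper19.G2V
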