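import Mathlib
import Cfsg.Agent.Lib.Helper19.O9U.Defs

/-!
# Project O9U (helper19), row ARITH, core: `arith9` from the statements of ARITHA / ARITHB / ARITHC (as hypotheses).
-/

set_option autoImplicit false

namespace Cfsg.Agent.Lib.Helper19.O9U

theorem o9uarith_core (q p : ℕ) (hq : Odd q) (hq3 : 3 ≤ q) (hp : p.Prime) (hp3 : 3 ≤ p)
    (hA : ∀ (w : ℕ → Bool → ℕ),
      ∑ e ∈ Finset.range 5, e * (w e true + w e false) = 4 →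
      (∀ e ε, w e ε ≠ 0 → 1 ≤ e ∧ e ≤ 4) →
      ∑ e ∈ Finset.range 5, (w e true + w e false) ≠ 1 →
      ∃ N, InT9 q p N ∧ ∃ m t : ℕ, m * p ^ t ∣ N ∧ (∀ e ε, w e ε ≠ 0 → tyN q e ε ∣ m) ∧
        1 ≤ p ^ t ∧ ∀ e ε, w e ε ≤ p ^ t)
    (hB : ∀ (c : ℕ) (w : ℕ → Bool → ℕ), Even c → c ≠ 0 →
      c + 2 * ∑ e ∈ Finset.range 5, e * (w e true + w e false) = 8 →
      (∀ e ε, w e ε ≠ 0 → 1 ≤ e ∧ e ≤ 4) →
      ∃ N, InT9 q p N ∧ ∃ m t : ℕ, m * p ^ t ∣ N ∧ (∀ e ε, w e ε ≠ 0 → tyN q e ε ∣ m) ∧ 2 ∣ m ∧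
        1 ≤ p ^ t ∧ c ≤ p ^ t + 1 ∧ ∀ e ε, w e ε ≤ p ^ t)
    (hC : ∀ (a c : ℕ) (w : ℕ → Bool → ℕ), Odd a → 3 ≤ a → Even c →
      a + c + 2 * ∑ e ∈ Finset.range 5, e * (w e true + w e false) = 9 →
      (∀ e ε, w e ε ≠ 0 → 1 ≤ e ∧ e ≤ 4) →
      (c ≠ 0 ∨ ∑ e ∈ Finset.range 5, (w e true + w e false) ≠ 1) →
      ∃ N, InT9 q p N ∧ ∃ m t : ℕ, m * p ^ t ∣ N ∧ (∀ e ε, w e ε ≠ 0 → tyN q e ε ∣ m) ∧ (c ≠ 0 → 2 ∣ m) ∧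
        a ≤ p ^ t ∧ c ≤ p ^ t + 1 ∧ ∀ e ε, w e ε ≤ p ^ t)
    (a c : ℕ)
    (w : ℕ → Bool → ℕ) (ha : Odd a) (hc : Even c)
    (hsum : a + c + 2 * ∑ e ∈ Finset.range 5, e * (w e true + w e false) = 9)
    (hsupp : ∀ e ε, w e ε ≠ 0 → 1 ≤ e ∧ e ≤ 4)
    (hns : c ≠ 0 ∨ ∑ e ∈ Finset.range 5, (w e true + w e false) ≠ 1) :
    ∃ N, InT9 q p N ∧ ∃ m t : ℕ, m * p ^ t ∣ N ∧ (∀ e ε, w e ε ≠ 0 → tyN q e ε ∣ m) ∧ (c ≠ 0 → 2 ∣ m) ∧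
      a ≤ p ^ t ∧ c ≤ p ^ t + 1 ∧ ∀ e ε, w e ε ≤ p ^ t := by
  have _ := hq; have _ := hq3; have _ := hp; have _ := hp3
  by_cases ha3 : 3 ≤ a
  · exact hC a c w ha ha3 hc hsum hsupp hns
  · -- `a = 1`
    have ha1 : a = 1 := by
      obtain ⟨k, hk⟩ := ha
      omega
    subst ha1
    by_cases hc0 : c = 0
    · subst hc0
      have hns' : ∑ e ∈ Finset.range 5, (w e true + w e false) ≠ 1 := by
        rcases hns with h | h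
        · exact absurd rfl h
        · exact h
      have hsum' : ∑ e ∈ Finset.range 5, e * (w e true + w e false) = 4 := by omega
      obtain ⟨N, hN, m, t, h1, h2, h3, h4⟩ := hA w hsum' hsupp hns'
      exact ⟨N, hN, m, t, h1, h2, fun h => absurd rfl h, h3, by omega, h4⟩
    · have hsum' : c + 2 * ∑ e ∈ Finset.range 5, e * (w e true + w e false) = 8 := by omega
      obtain ⟨N, hN, m, t, h1, h2, h3, h4, h5, h6⟩ := hB c w hc hc0 hsum' hsupp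
      exact ⟨N, hN, m, t, h1, h2, fun _ => h3, h4, h5, h6⟩

end Cfsg.Agent.Lib.Helper19.O9U
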