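import Mathlib
import Cfsg.Agent.Lib.Helper19.O9U.Defs
import Cfsg.Agent.Lib.Helper20.O9UARITHcore
import Cfsg.Agent.Lib.Helper22.O9UARITHA
import Cfsg.Agent.Lib.Helper11.O9UARITHB
import Cfsg.Agent.Lib.Helper22.O9UARITHC

/-!
# Project O9U (helper19), row ARITH (`arith9`): assembly of ARITHA (helper22), ARITHB (helper11), ARITHC (helper22).
-/

set_option autoImplicit false

namespace Cfsg.Agent.Lib.Helper19.O9U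

open Polynomial

/-- ARITH [S]: `a = 1`: `c = 0` ARITHA, else ARITHB (`hsum` rewritten by `omega`); `a ≥ 3`: ARITHC. -/
theorem arith9 (q p : ℕ) (hq : Odd q) (hq3 : 3 ≤ q) (hp : p.Prime) (hp3 : 3 ≤ p) (a c : ℕ)
    (w : ℕ → Bool → ℕ) (ha : Odd a) (hc : Even c)
    (hsum : a + c + 2 * ∑ e ∈ Finset.range 5, e * (w e true + w e false) = 9)
    (hsupp : ∀ e ε, w e ε ≠ 0 → 1 ≤ e ∧ e ≤ 4)
    (hns : c ≠ 0 ∨ ∑ e ∈ Finset.range 5, (w e true + w e false) ≠ 1) :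
    ∃ N, InT9 q p N ∧ ∃ m t : ℕ, m * p ^ t ∣ N ∧ (∀ e ε, w e ε ≠ 0 → tyN q e ε ∣ m) ∧ (c ≠ 0 → 2 ∣ m) ∧
      a ≤ p ^ t ∧ c ≤ p ^ t + 1 ∧ ∀ e ε, w e ε ≤ p ^ t :=
  o9uarith_core q p hq hq3 hp hp3 (fun w h1 h2 h3 => arith9_a q p hq hq3 hp hp3 w h1 h2 h3)
    (fun c w h1 h2 h3 h4 => arith9_b q p hq hq3 hp hp3 c w h1 h2 h3 h4)
    (fun a c w h1 h2 h3 h4 h5 h6 => arith9_c q p hq hq3 hp hp3 a c w h1 h2 h3 h4 h5 h6)
    a c w ha hc hsum hsupp hns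

end Cfsg.Agent.Lib.Helper19.O9U
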