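import Mathlib
import Cfsg.Agent.Lib.helper3.SU5.Defs
import Cfsg.Agent.Lib.helper15.SU5I4
import Cfsg.Agent.Lib.Helper20.SU5I7core

/-!
# Project SU5, row I7 (VERBATIM from `helper3/SU5/Skel.lean.txt`): the rank one group `φb`.
-/

set_option autoImplicit false
set_option linter.unusedSectionVars false

namespace Cfsg.Agent.Lib.helper3.SU5

open Cfsg.Agent.Lib.helper15.St2 Cfsg.Agent.Lib.Helper27.STU
open Cfsg.Agent.Lib.helper3.STC (ng sws)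

universe u v w w₀

namespace Dat

variable {F : Type u} [Field F] [StarRing F] {G : Type w} [Group G] (D : Dat F G)

theorem xB_mul (ξ η : Lam F True) : D.xB ξ * D.xB η = D.xB (ξ * η) :=
  D.su5i7_xB_mul XpU_mul ξ η

theorem yB_mul (ξ η : Lam F True) : D.yB ξ * D.yB η = D.yB (ξ * η) :=
  D.su5i7_yB_mul XmU_mul ξ η

theorem nB_xB (hc : D.ξ₀.c ≠ 0) (ξ : Lam F True) :
    cj D.nB (D.xB ξ) = D.yB (Lam.act (-(D.ξ₀.c / (star D.ξ₀.c) ^ 2)) ξ) :=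
  D.su5i7_nB_xB (fun h η => WU_XpU h η) hc ξ

theorem nB_yB (hc : D.ξ₀.c ≠ 0) (ξ : Lam F True) :
    cj D.nB (D.yB ξ) = D.xB (Lam.act (-(D.ξ₀.c ^ 2 / star D.ξ₀.c)) ξ) :=
  D.su5i7_nB_yB (fun h η => WU_XmU h η) hc ξ

end Dat

end Cfsg.Agent.Lib.helper3.SU5
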