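import Mathlib
import Cfsg.Agent.Lib.helper3.SU5.Defs
import Cfsg.Agent.Lib.helper8.STULA1
import Cfsg.Agent.Lib.helper14.STULA3
import Cfsg.Agent.Lib.Helper5.STULA5
import Cfsg.Agent.Lib.Helper24.STUM0
import Cfsg.Agent.Lib.Helper27.STUQ1
import Cfsg.Agent.Lib.helper2.STUV1

/-!
# Project SU5, row M3 (core): `nB` acts monomially, with the cited statements (M1, N0, I7, N2) as hypotheses.
-/

set_option autoImplicit false
set_option linter.unusedSectionVars false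

namespace Cfsg.Agent.Lib.helper3.SU5

open Cfsg.Agent.Lib.helper15.St2 Cfsg.Agent.Lib.Helper27.STU
open Cfsg.Agent.Lib.helper3.STC (ng sws)

universe u v w w₀

theorem su5m3_cases (k : Fin 2 ⊕ Fin 2) : k = Sum.inl 0 ∨ k = Sum.inl 1 ∨ k = Sum.inr 0 ∨ k = Sum.inr 1 := by
  revert k; decide

namespace Dat

variable {F : Type u} [Field F] [StarRing F] {G : Type w} [Group G] (D : Dat F G)

theorem su5m3_core (hT : Tab5 D)
    (hM : SysU.MonData (Equiv.swap (Sum.inl (1 : Fin 2)) (Sum.inr 1)) (dwl (Sum.inl (1 : Fin 2)) D.ξ₀) (d0l D.ξ₀))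
    (h1 : ∀ t, cj D.nB (D.xA t) = D.xD (star D.ξ₀.c * t))
    (h2 : ∀ t, cj D.nB (D.yA t) = D.yD ((star D.ξ₀.c)⁻¹ * t))
    (h3 : ∀ t, cj D.nB (D.xD t) = D.xA (t / D.ξ₀.c))
    (h4 : ∀ t, cj D.nB (D.yD t) = D.yA (D.ξ₀.c * t))
    (h5 : ∀ ξ, cj D.nB (D.xB ξ) = D.yB (Lam.act (-(D.ξ₀.c / (star D.ξ₀.c) ^ 2)) ξ))
    (h6 : ∀ ξ, cj D.nB (D.yB ξ) = D.xB (Lam.act (-(D.ξ₀.c ^ 2 / star D.ξ₀.c)) ξ))
    (h7 : ∀ ξ, cj D.nB (D.yC ξ) = D.yC (Lam.act (-(D.ξ₀.c / star D.ξ₀.c)) ξ)) :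
    D.pre.Mon D.nB (Equiv.swap (Sum.inl 1) (Sum.inr 1)) (dwl (Sum.inl 1) D.ξ₀) (d0l D.ξ₀) := by
  have hc : D.ξ₀.c ≠ 0 := hT.c0
  have hc' : star D.ξ₀.c ≠ 0 := fun h => hc (by simpa using congrArg star h)
  have p1 : Equiv.swap (Sum.inl (1 : Fin 2)) (Sum.inr (1 : Fin 2)) (Sum.inl 0) = Sum.inl 0 := by decide
  have p2 : Equiv.swap (Sum.inl (1 : Fin 2)) (Sum.inr (1 : Fin 2)) (Sum.inl 1) = Sum.inr 1 := by decide
  have p3 : Equiv.swap (Sum.inl (1 : Fin 2)) (Sum.inr (1 : Fin 2)) (Sum.inr 0) = Sum.inr 0 := by decide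
  have p4 : Equiv.swap (Sum.inl (1 : Fin 2)) (Sum.inr (1 : Fin 2)) (Sum.inr 1) = Sum.inl 1 := by decide
  have d1 : dwl (Sum.inl (1 : Fin 2)) D.ξ₀ (Sum.inl 0) = 1 := by
    unfold dwl; rw [if_neg (by decide), if_neg (by decide)]
  have d2 : dwl (Sum.inl (1 : Fin 2)) D.ξ₀ (Sum.inl 1) = (star D.ξ₀.c)⁻¹ := by
    unfold dwl; rw [if_pos rfl]
  have d3 : dwl (Sum.inl (1 : Fin 2)) D.ξ₀ (Sum.inr 0) = 1 := by
    unfold dwl; rw [if_neg (by decide), if_neg (by decide)]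
  have d4 : dwl (Sum.inl (1 : Fin 2)) D.ξ₀ (Sum.inr 1) = D.ξ₀.c := by
    unfold dwl; rw [if_neg (by decide), if_pos (by decide)]
  have d0 : (d0l D.ξ₀)⁻¹ = -(D.ξ₀.c / star D.ξ₀.c) := by
    unfold d0l; field_simp
  refine ⟨hM, ?_, ?_⟩
  · intro k l hkl hkl' t
    rcases su5m3_cases k with rfl | rfl | rfl | rfl <;> rcases su5m3_cases l with rfl | rfl | rfl | rfl
    · exact absurd rfl hkl
    · -- (1, 2)
      rw [p1, p2, d1, d2]
      show cj D.nB (D.xA t) = D.xD _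
      rw [h1]; congr 1; field_simp
    · exact absurd rfl hkl'
    · -- (1, -2)
      rw [p1, p4, d1, d4]
      show cj D.nB (D.xD t) = D.xA _
      rw [h3]; congr 1; field_simp
    · -- (2, 1)
      rw [p2, p1, d2, d1]
      show cj D.nB (D.yA t) = D.yD _
      rw [h2]; congr 1; field_simp
    · exact absurd rfl hkl
    · -- (2, -1)
      rw [p2, p3, d2, d3]
      show cj D.nB (D.xD (-(star t))) = D.xA (-(star _))
      rw [h3]; congr 1
      simp only [star_mul', star_inv₀, star_star, inv_one, mul_one]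
      field_simp
    · exact absurd rfl hkl'
    · exact absurd rfl hkl'
    · -- (-1, 2)
      rw [p3, p2, d3, d2]
      show cj D.nB (D.yD (-(star t))) = D.yA (-(star _))
      rw [h4]; congr 1
      simp only [star_mul', star_star, inv_inv, one_mul, mul_neg]
    · exact absurd rfl hkl
    · -- (-1, -2)
      rw [p3, p4, d3, d4]
      show cj D.nB (D.yA (-(star t))) = D.yD (-(star _))
      rw [h2]; congr 1
      simp only [star_mul', star_inv₀, one_mul, mul_neg]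
    · -- (-2, 1)
      rw [p4, p1, d4, d1]
      show cj D.nB (D.yD t) = D.yA _
      rw [h4]; congr 1; field_simp
    · exact absurd rfl hkl'
    · -- (-2, -1)
      rw [p4, p3, d4, d3]
      show cj D.nB (D.xA (-(star t))) = D.xD (-(star _))
      rw [h1]; congr 1
      simp only [star_mul', inv_one, mul_one, mul_neg]
    · exact absurd rfl hkl
  · intro k ξ
    rcases su5m3_cases k with rfl | rfl | rfl | rfl
    · rw [p1, d1, d0]
      show cj D.nB (D.xC ξ) = D.xC _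
      rw [hT.b_xC, one_mul]
    · rw [p2, d2, d0]
      show cj D.nB (D.xB ξ) = D.yB _
      rw [h5]; congr 2; field_simp
    · rw [p3, d3, d0]
      show cj D.nB (D.yC ξ) = D.yC _
      rw [h7, one_mul]
    · rw [p4, d4, d0]
      show cj D.nB (D.yB ξ) = D.xB _
      rw [h6]; congr 2; field_simp

end Dat

end Cfsg.Agent.Lib.helper3.SU5
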