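import Mathlib
import Cfsg.Agent.Lib.helper3.SU5.Defs
import Cfsg.Agent.Lib.helper3.SU5N0
import Cfsg.Agent.Lib.Helper18.SU5N1
import Cfsg.Agent.Lib.Helper18.SU5M1
import Cfsg.Agent.Lib.Helper20.SU5I7
import Cfsg.Agent.Lib.Helper20.SU5M3core

/-!
# Project SU5, row M3 (VERBATIM from `helper3/SU5/Skel.lean.txt`): `nB` acts monomially.
-/

set_option autoImplicit false
set_option linter.unusedSectionVars false

namespace Cfsg.Agent.Lib.helper3.SU5

open Cfsg.Agent.Lib.helper15.St2 Cfsg.Agent.Lib.Helper27.STU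
open Cfsg.Agent.Lib.helper3.STC (ng sws)

universe u v w w₀

namespace Dat

variable {F : Type u} [Field F] [StarRing F] {G : Type w} [Group G] (D : Dat F G)

theorem mon_B (hT : Tab5 D) :
    D.pre.Mon D.nB (Equiv.swap (Sum.inl 1) (Sum.inr 1)) (dwl (Sum.inl 1) D.ξ₀) (d0l D.ξ₀) :=
  D.su5m3_core hT (D.monData_B hT.c0) (D.nB_xA hT) (D.nB_yA hT) (D.nB_xD hT) (D.nB_yD hT)
    (D.nB_xB hT.c0) (D.nB_yB hT.c0) (D.nB_yC hT)

end Dat

end Cfsg.Agent.Lib.helper3.SU5
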