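import Mathlib
import Cfsg.Agent.Lib.helper3.SU5.Defs
import Cfsg.Agent.Lib.helper8.STULA1
import Cfsg.Agent.Lib.helper14.STULA3
import Cfsg.Agent.Lib.Helper5.STULA5
import Cfsg.Agent.Lib.Helper24.STUM0
import Cfsg.Agent.Lib.Helper27.STUQ1
import Cfsg.Agent.Lib.helper2.STUV1

/-!
# Project SU5, row S2 (core): the base instances, with the cited statements of rows I6, I7 as hypotheses.
-/

set_option autoImplicit false
set_option linter.unusedSectionVars false

namespace Cfsg.Agent.Lib.helper3.SU5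

open Cfsg.Agent.Lib.helper15.St2 Cfsg.Agent.Lib.Helper27.STU
open Cfsg.Agent.Lib.helper3.STC (ng sws)

universe u v w w₀

namespace Dat

variable {F : Type u} [Field F] [StarRing F] {G : Type w} [Group G] (D : Dat F G)

theorem su5s2_base_adds (h : ∀ t u : F, D.xA t * D.xA u = D.xA (t + u)) : D.pre.Adds (Sum.inl 0) (Sum.inl 1) := by
  intro t u
  exact h t u

theorem su5s2_base_addl (h : ∀ ξ η : Lam F True, D.xB ξ * D.xB η = D.xB (ξ * η)) : D.pre.Addl (Sum.inl 1) := by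
  intro ξ η
  exact h ξ η

theorem su5s2_base_rel
    (h : ∀ t u : F, t ≠ 0 → cj (D.xA t * D.yA (-t⁻¹) * D.xA t) (D.xA u) = D.yA (-(t⁻¹ ^ 2 * u))) :
    D.pre.Rel (Sum.inl 0) (Sum.inl 1) := by
  intro t u ht
  exact h t u ht

theorem su5s2_base_r1 : D.pre.R1 (Sum.inl 1) :=
  ⟨D.φb, fun _ => ⟨rfl, rfl⟩⟩

theorem su5s2_base_cls (hT : Tab5 D) : D.pre.Cls (Sum.inl 0) (Sum.inl 0) (Sum.inl 1) := by
  intro ξ u
  exact (hT.C4 u ξ).symm

theorem su5s2_base_hh (hT : Tab5 D) : D.pre.Hh (Sum.inl 1) (Sum.inl 0) := by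
  intro ξ η
  show Pre.cm (D.xB ξ) (D.xC η) = D.xD (-(star (-(ξ.v * star η.v))))
  rw [hT.C2]
  congr 1
  simp only [star_neg, star_mul', star_star, neg_neg]

theorem su5s2_base_ssl (hT : Tab5 D) : D.pre.Ssl (Sum.inl 0) (Sum.inl 1) := by
  intro t u
  show Pre.cm (D.xA t) (D.xD (-(star u))) = D.xC (Lam.tr (t * u))
  rw [hT.C3]
  congr 2
  simp only [star_neg, star_star, mul_neg, neg_neg]

theorem su5s2_base_ls (hT : Tab5 D) : D.pre.Ls (Sum.inl 1) (Sum.inr 0) := by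
  intro ξ u
  show Pre.cm (D.xB ξ) (D.xA (-(star u))) = D.xD (-(star (ξ.c * u))) * D.xC (Lam.act (star u) (Lam.bar ξ))
  rw [hT.C1]
  congr 2
  · simp only [star_mul', mul_neg]
  · simp only [neg_neg]

end Dat

end Cfsg.Agent.Lib.helper3.SU5
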