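import Mathlib
import Cfsg.Agent.Lib.helper3.SU5.Defs
import Cfsg.Agent.Lib.helper3.SU5I5
import Cfsg.Agent.Lib.Helper20.SU5I7
import Cfsg.Agent.Lib.Helper20.SU5S2core

/-!
# Project SU5, row S2 (VERBATIM from `helper3/SU5/Skel.lean.txt`): the base instances.
-/

set_option autoImplicit false
set_option linter.unusedSectionVars false

namespace Cfsg.Agent.Lib.helper3.SU5

open Cfsg.Agent.Lib.helper15.St2 Cfsg.Agent.Lib.Helper27.STU
open Cfsg.Agent.Lib.helper3.STC (ng sws)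

universe u v w w₀

namespace Dat

variable {F : Type u} [Field F] [StarRing F] {G : Type w} [Group G] (D : Dat F G)

theorem base_adds : D.pre.Adds (Sum.inl 0) (Sum.inl 1) := D.su5s2_base_adds D.xA_add

theorem base_addl : D.pre.Addl (Sum.inl 1) := D.su5s2_base_addl D.xB_mul

theorem base_rel : D.pre.Rel (Sum.inl 0) (Sum.inl 1) := D.su5s2_base_rel D.relA

theorem base_r1 : D.pre.R1 (Sum.inl 1) := D.su5s2_base_r1

theorem base_cls (hT : Tab5 D) : D.pre.Cls (Sum.inl 0) (Sum.inl 0) (Sum.inl 1) := D.su5s2_base_cls hT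

theorem base_hh (hT : Tab5 D) : D.pre.Hh (Sum.inl 1) (Sum.inl 0) := D.su5s2_base_hh hT

theorem base_ssl (hT : Tab5 D) : D.pre.Ssl (Sum.inl 0) (Sum.inl 1) := D.su5s2_base_ssl hT

theorem base_ls (hT : Tab5 D) : D.pre.Ls (Sum.inl 1) (Sum.inr 0) := D.su5s2_base_ls hT

end Dat

end Cfsg.Agent.Lib.helper3.SU5
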