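import Cfsg.Agent.Lib.Helper20.SWC3b

/-!
Project SW (helper19), piece C3c (helper20): `noncentral_of_ne_bot`, `reduction`.
-/

set_option autoImplicit false

namespace Cfsg.Agent.Lib.Helper19.SW

open Cfsg.Agent.Lib.Helper20.WongId

/-- `Ω₁Z(T) ≠ 1` for a non-trivial finite 2-group `T`. -/
theorem c3_OZ_ne_bot {G : Type*} [Group G] (T : Subgroup G) [Finite T] (hT : T ≠ ⊥)
    (h2 : IsPGroup 2 T) : OZ T ≠ ⊥ := by
  classical
  haveI : Fact (Nat.Prime 2) := ⟨Nat.prime_two⟩
  haveI : Nontrivial T := (Subgroup.nontrivial_iff_ne_bot T).mpr hT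
  haveI : Nontrivial (Subgroup.center T) := h2.center_nontrivial
  have hZ : IsPGroup 2 (Subgroup.center T) := h2.to_subgroup _
  obtain ⟨m, hm⟩ := (IsPGroup.iff_card (p := 2)).mp hZ
  have hm1 : 1 < Nat.card (Subgroup.center T) := Finite.one_lt_card
  have h2dvd : 2 ∣ Nat.card (Subgroup.center T) := by
    rw [hm]
    rcases m with _ | m
    · rw [hm, pow_zero] at hm1; omega
    · exact dvd_pow_self 2 (Nat.succ_ne_zero m)
  obtain ⟨z, hz⟩ := exists_prime_orderOf_dvd_card' (G := Subgroup.center T) 2 h2dvd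
  intro hbot
  have hzOZ : ((z : T) : G) ∈ OZ T := by
    rw [mem_OZ]
    refine ⟨(z : T).2, fun t ht => ?_, ?_⟩
    · have := (Subgroup.mem_center_iff.mp z.2) ⟨t, ht⟩
      exact congrArg Subtype.val this
    · have h1 : z ^ 2 = 1 := by rw [← hz]; exact pow_orderOf_eq_one z
      have h2' := congrArg (fun y : Subgroup.center T => ((y : T) : G)) h1
      simpa using h2'
  rw [hbot, Subgroup.mem_bot] at hzOZ
  have hz1 : z = 1 := by
    apply Subtype.ext
    apply Subtype.ext
    simpa using hzOZ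
  rw [hz1, orderOf_one] at hz
  omega

/-- `Ω₁Z(T)` is invariant under an element normalising `T`. -/
theorem c3_conj_OZ {G : Type*} [Group G] (T : Subgroup G) (n : G)
    (hnT : ∀ x, n * x * n⁻¹ ∈ T ↔ x ∈ T) {z : G} (hz : z ∈ OZ T) : n⁻¹ * z * n ∈ OZ T := by
  rw [mem_OZ] at hz ⊢
  obtain ⟨hzT, hzc, hz2⟩ := hz
  refine ⟨?_, fun t ht => ?_, ?_⟩
  · rw [← hnT]
    have : n * (n⁻¹ * z * n) * n⁻¹ = z := by group
    rw [this]; exact hzT
  · have h1 := hzc (n * t * n⁻¹) ((hnT t).mpr ht)
    calc t * (n⁻¹ * z * n) = n⁻¹ * ((n * t * n⁻¹) * z) * n := by group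
      _ = n⁻¹ * (z * (n * t * n⁻¹)) * n := by rw [h1]
      _ = n⁻¹ * z * n * t := by group
  · have hzz : z * z = 1 := by rw [← pow_two]; exact hz2
    calc (n⁻¹ * z * n) ^ 2 = n⁻¹ * (z * z) * n := by rw [pow_two]; group
      _ = 1 := by rw [hzz]; group

variable {G : Type*} [Group G] [Finite G] {Ω : Type*} [MulAction G Ω] [FaithfulSMul G Ω]

section C3c

variable (hprim : MulAction.IsPreprimitive G Ω) (a b : Ω)
  (h3 : Nat.card (MulAction.orbit (MulAction.stabilizer G a) b) = 3)
include hprim h3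

/-- `T ≠ 1`: `Ω₁Z(T)` is not central in `G_a` (else, by the normalising element, central in `G_b` too). -/
theorem noncentral_of_ne_bot (hT : Ts G a b ≠ ⊥) :
    ¬ MulAction.stabilizer G a ≤ Subgroup.centralizer (OZ (Ts G a b) : Set G) := by
  intro hA
  obtain ⟨n, hna, hnT⟩ := exists_normalizing hprim a b h3
  have hB : MulAction.stabilizer G b ≤ Subgroup.centralizer (OZ (Ts G a b) : Set G) := by
    intro g hg
    rw [Subgroup.mem_centralizer_iff]
    intro z hz
    have hg' : n⁻¹ * g * n ∈ MulAction.stabilizer G a := by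
      rw [MulAction.mem_stabilizer_iff] at hg ⊢
      rw [mul_smul, mul_smul, hna, hg, ← hna, inv_smul_smul]
    have hz' : n⁻¹ * z * n ∈ OZ (Ts G a b) := c3_conj_OZ (Ts G a b) n hnT hz
    have h1 := (Subgroup.mem_centralizer_iff.mp (hA hg')) _ hz'
    have h2 : n * ((n⁻¹ * z * n) * (n⁻¹ * g * n)) * n⁻¹ = z * g := by group
    have h3' : n * ((n⁻¹ * g * n) * (n⁻¹ * z * n)) * n⁻¹ = g * z := by group
    rw [← h2, ← h3', h1]
  have htop : (⊤ : Subgroup G) ≤ Subgroup.centralizer (OZ (Ts G a b) : Set G) := by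
    rw [← stab_sup hprim a b h3]
    exact sup_le hA hB
  have hnormal : (OZ (Ts G a b)).Normal := by
    constructor
    intro z hz g
    have h1 := (Subgroup.mem_centralizer_iff.mp (htop (Subgroup.mem_top g))) z hz
    have : g * z * g⁻¹ = z := by
      rw [← h1]; group
    rw [this]; exact hz
  have hle : OZ (Ts G a b) ≤ MulAction.stabilizer G a := by
    intro z hz
    exact (inf_le_left : Ts G a b ≤ _) ((mem_OZ.mp hz).1)
  have hbot := stab_corefree hprim a b h3 a (OZ (Ts G a b)) hnormal hle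
  exact c3_OZ_ne_bot (Ts G a b) hT (two_T hprim a b h3) hbot

/-- the reduction: small cases or the main case. -/
theorem reduction :
    Nonempty (MulAction.stabilizer G a ≃* Multiplicative (ZMod 3)) ∨
    Nonempty (MulAction.stabilizer G a ≃* Equiv.Perm (Fin 3)) ∨
    Nonempty (MulAction.stabilizer G a ≃* DihedralGroup 6) ∨
    SimsSetting G (fun u w => ∃ g : G, g • a = u ∧ g • b = w) a b := by
  by_cases hT : Ts G a b = ⊥
  · exact Or.inl (case_Z3 hprim a b h3 hT)
  by_cases hQ : Qo G (fun u w => ∃ g : G, g • a = u ∧ g • b = w) a = ⊥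
  · exact Or.inr (Or.inl (case_S3 hprim a b h3 hT hQ))
  by_cases hc : MulAction.stabilizer G a ⊓
        Subgroup.centralizer (Qo G (fun u w => ∃ g : G, g • a = u ∧ g • b = w) a : Set G) ≤
      Qo G (fun u w => ∃ g : G, g • a = u ∧ g • b = w) a
  · refine Or.inr (Or.inr (Or.inr ?_))
    haveI := hprim.toIsPretransitive
    exact
      { fin := inferInstance
        corefree := fun N hN hle => stab_corefree hprim a b h3 a N hN hle
        maximal := fun H hH => stab_maximal hprim a b h3 a H hH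
        trans := fun u => MulAction.exists_smul_eq G a u
        arc_iff := fun u w => Iff.rfl
        ne := ne_ab hprim a b h3
        out3 := out3_a hprim a b h3
        in3 := in3_b hprim a b h3
        two := two_T hprim a b h3
        s3 := s3_of_ne_bot hprim a b h3 hT
        selfc := hc
        noncentral := noncentral_of_ne_bot hprim a b h3 hT }
  · exact Or.inr (Or.inr (Or.inl (case_D12 hprim a b h3 hT hQ hc)))

end C3c

end Cfsg.Agent.Lib.Helper19.SW
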