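import Mathlib
import Cfsg.Agent.Lib.Helper1.Frat
import Cfsg.Agent.Lib.helper17.Frattini

set_option autoImplicit false
open scoped commutatorElement

namespace Cfsg.Agent.Lib.Helper20

section QuadCount

variable {G : Type*} [Group G]

/-- sign of an element: `1` for the identity, `-1` otherwise -/
noncomputable def qsgn (a : G) : ℤ := by
  classical exact if a = 1 then 1 else -1

theorem qsgn_one : qsgn (1 : G) = 1 := by
  unfold qsgn; simp

theorem qsgn_of_ne {a : G} (h : a ≠ 1) : qsgn a = -1 := by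
  unfold qsgn; simp [h]

theorem qsgn_sq (a : G) : qsgn a * qsgn a = 1 := by
  unfold qsgn; split_ifs <;> simp

theorem qsgn_eq_one_iff (a : G) : qsgn a = 1 ↔ a = 1 := by
  unfold qsgn; split_ifs with h <;> simp [h]

/-- multiplicativity of the sign on a two-element subgroup `{1, z}` -/
theorem qsgn_mul {z : G} (hz : z * z = 1) (hz1 : z ≠ 1) {a b : G}
    (ha : a = 1 ∨ a = z) (hb : b = 1 ∨ b = z) : qsgn (a * b) = qsgn a * qsgn b := by
  rcases ha with rfl | rfl <;> rcases hb with rfl | rfl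
  · simp [qsgn_one]
  · simp [qsgn_one]
  · simp [qsgn_one]
  · rw [hz, qsgn_one, qsgn_of_ne hz1]; norm_num

theorem sq_mul_eq (x t : G) (hc : ∀ g : G, g * ⁅t, x⁆ = ⁅t, x⁆ * g) :
    (x * t) ^ 2 = ⁅t, x⁆ * (x ^ 2 * t ^ 2) := by
  have h1 : t * x = ⁅t, x⁆ * (x * t) := by
    simp [commutatorElement_def, mul_assoc]
  calc (x * t) ^ 2 = x * (t * x) * t := by simp [pow_two, mul_assoc]
    _ = x * (⁅t, x⁆ * (x * t)) * t := by rw [h1]
    _ = (x * ⁅t, x⁆) * (x * t) * t := by simp [mul_assoc]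
    _ = (⁅t, x⁆ * x) * (x * t) * t := by rw [hc x]
    _ = ⁅t, x⁆ * (x ^ 2 * t ^ 2) := by simp [pow_two, mul_assoc]

theorem comm_mul_right (t y x : G) (hc : ∀ g : G, g * ⁅t, x⁆ = ⁅t, x⁆ * g) :
    ⁅t, y * x⁆ = ⁅t, y⁆ * ⁅t, x⁆ := by
  have : ⁅t, y * x⁆ = ⁅t, y⁆ * (y * ⁅t, x⁆ * y⁻¹) := by
    simp [commutatorElement_def, mul_assoc]
  rw [this, hc y]; simp [mul_assoc]


open Classical in
theorem sum_qsgn_comm [Fintype G] {z : G} (hz : z * z = 1) (hz1 : z ≠ 1)
    (hzc : ∀ g : G, g * z = z * g)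
    (hcomm : ∀ x y : G, ⁅x, y⁆ = 1 ∨ ⁅x, y⁆ = z) (t : G) :
    ∑ x : G, qsgn ⁅t, x⁆ = if t ∈ Subgroup.center G then (Fintype.card G : ℤ) else 0 := by
  classical
  have hcc : ∀ x y g : G, g * ⁅x, y⁆ = ⁅x, y⁆ * g := by
    intro x y g
    rcases hcomm x y with h | h <;> rw [h]
    · simp
    · exact hzc g
  split_ifs with ht
  · have : ∀ x : G, qsgn ⁅t, x⁆ = 1 := by
      intro x
      rw [qsgn_eq_one_iff, commutatorElement_eq_one_iff_commute]
      exact (Subgroup.mem_center_iff.mp ht x).symm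
    simp [this]
  · have : ∃ y : G, ⁅t, y⁆ ≠ 1 := by
      by_contra hcon
      push Not at hcon
      apply ht
      rw [Subgroup.mem_center_iff]
      intro g
      exact ((commutatorElement_eq_one_iff_commute.mp (hcon g)).eq).symm
    obtain ⟨y, hy⟩ := this
    have hyz : ⁅t, y⁆ = z := (hcomm t y).resolve_left hy
    have h1 : ∑ x : G, qsgn ⁅t, x⁆ = ∑ x : G, qsgn ⁅t, y * x⁆ :=
      (Equiv.sum_comp (Equiv.mulLeft y) (fun x => qsgn ⁅t, x⁆)).symm
    have h2 : ∀ x : G, qsgn ⁅t, y * x⁆ = - qsgn ⁅t, x⁆ := by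
      intro x
      rw [comm_mul_right t y x (hcc t x), qsgn_mul hz hz1 (hcomm t y) (hcomm t x), hyz,
        qsgn_of_ne hz1]
      ring
    simp only [h2, Finset.sum_neg_distrib] at h1
    omega

open Classical in
theorem sum_qsgn_center [Fintype G] {z : G} (hz : z * z = 1) (hz1 : z ≠ 1)
    (hsq : ∀ x : G, x ^ 2 = 1 ∨ x ^ 2 = z) :
    (∑ t : G, (if t ∈ Subgroup.center G then qsgn (t ^ 2) else 0)) = 0 ∨
    ((∀ t ∈ Subgroup.center G, t ^ 2 = 1) ∧
      (∑ t : G, (if t ∈ Subgroup.center G then qsgn (t ^ 2) else 0)) =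
        (Nat.card (Subgroup.center G) : ℤ)) := by
  classical
  by_cases hall : ∀ t ∈ Subgroup.center G, t ^ 2 = 1
  · right
    refine ⟨hall, ?_⟩
    have : ∀ t : G, (if t ∈ Subgroup.center G then qsgn (t ^ 2) else 0) =
        if t ∈ Subgroup.center G then (1 : ℤ) else 0 := by
      intro t
      split_ifs with ht
      · rw [hall t ht, qsgn_one]
      · rfl
    simp only [this]
    rw [Finset.sum_ite, Finset.sum_const_zero, add_zero, Finset.sum_const, nsmul_eq_mul, mul_one]
    congr 1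
    rw [Nat.card_eq_fintype_card, Fintype.card_subtype]
  · left
    push Not at hall
    obtain ⟨s, hs, hs2⟩ := hall
    have hsz : s ^ 2 = z := (hsq s).resolve_left hs2
    set f : G → ℤ := fun t => if t ∈ Subgroup.center G then qsgn (t ^ 2) else 0 with hf
    have h1 : ∑ t : G, f t = ∑ t : G, f (s * t) := (Equiv.sum_comp (Equiv.mulLeft s) f).symm
    have h2 : ∀ t : G, f (s * t) = - f t := by
      intro t
      simp only [hf]
      have hmem : s * t ∈ Subgroup.center G ↔ t ∈ Subgroup.center G := by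
        constructor
        · intro h
          have := (Subgroup.center G).mul_mem ((Subgroup.center G).inv_mem hs) h
          simpa using this
        · intro h; exact (Subgroup.center G).mul_mem hs h
      by_cases ht : t ∈ Subgroup.center G
      · rw [if_pos (hmem.mpr ht), if_pos ht]
        have hst : (s * t) ^ 2 = s ^ 2 * t ^ 2 := by
          have : t * s = s * t := (Subgroup.mem_center_iff.mp hs t)
          calc (s * t) ^ 2 = s * (t * s) * t := by simp [pow_two, mul_assoc]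
            _ = s * (s * t) * t := by rw [this]
            _ = s ^ 2 * t ^ 2 := by simp [pow_two, mul_assoc]
        rw [hst, qsgn_mul hz hz1 (hsq s) (hsq t), hsz, qsgn_of_ne hz1]
        ring
      · rw [if_neg (fun h => ht (hmem.mp h)), if_neg ht]; simp
    simp only [h2, Finset.sum_neg_distrib] at h1
    have h3 : ∑ t : G, f t = 0 := by omega
    exact h3



open Classical in
theorem gauss_sq [Fintype G] {z : G} (hz : z * z = 1) (hz1 : z ≠ 1)
    (hzc : ∀ g : G, g * z = z * g)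
    (hsq : ∀ x : G, x ^ 2 = 1 ∨ x ^ 2 = z)
    (hcomm : ∀ x y : G, ⁅x, y⁆ = 1 ∨ ⁅x, y⁆ = z) :
    (∑ x : G, qsgn (x ^ 2)) * (∑ x : G, qsgn (x ^ 2)) =
      (Fintype.card G : ℤ) *
        ∑ t : G, (if t ∈ Subgroup.center G then qsgn (t ^ 2) else 0) := by
  have hcc : ∀ x y g : G, g * ⁅x, y⁆ = ⁅x, y⁆ * g := by
    intro x y g
    rcases hcomm x y with h | h <;> rw [h]
    · simp
    · exact hzc g
  have hkey : ∀ x t : G, qsgn (x ^ 2) * qsgn ((x * t) ^ 2) = qsgn ⁅t, x⁆ * qsgn (t ^ 2) := by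
    intro x t
    have hxt : x ^ 2 * t ^ 2 = 1 ∨ x ^ 2 * t ^ 2 = z := by
      rcases hsq x with h | h <;> rcases hsq t with h' | h' <;> rw [h, h']
      · left; simp
      · right; simp
      · right; simp
      · left; exact hz
    rw [sq_mul_eq x t (hcc t x), qsgn_mul hz hz1 (hcomm t x) hxt,
      qsgn_mul hz hz1 (hsq x) (hsq t)]
    have := qsgn_sq (x ^ 2)
    calc qsgn (x ^ 2) * (qsgn ⁅t, x⁆ * (qsgn (x ^ 2) * qsgn (t ^ 2)))
        = (qsgn (x ^ 2) * qsgn (x ^ 2)) * (qsgn ⁅t, x⁆ * qsgn (t ^ 2)) := by ring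
      _ = qsgn ⁅t, x⁆ * qsgn (t ^ 2) := by rw [this, one_mul]
  calc (∑ x : G, qsgn (x ^ 2)) * (∑ x : G, qsgn (x ^ 2))
      = ∑ x : G, ∑ y : G, qsgn (x ^ 2) * qsgn (y ^ 2) := by
        rw [Finset.sum_mul_sum]
    _ = ∑ x : G, ∑ t : G, qsgn (x ^ 2) * qsgn ((x * t) ^ 2) := by
        refine Finset.sum_congr rfl fun x _ => ?_
        exact (Equiv.sum_comp (Equiv.mulLeft x) (fun y => qsgn (x ^ 2) * qsgn (y ^ 2))).symm
    _ = ∑ x : G, ∑ t : G, qsgn ⁅t, x⁆ * qsgn (t ^ 2) := by
        refine Finset.sum_congr rfl fun x _ => Finset.sum_congr rfl fun t _ => hkey x t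
    _ = ∑ t : G, ∑ x : G, qsgn ⁅t, x⁆ * qsgn (t ^ 2) := Finset.sum_comm
    _ = ∑ t : G, (if t ∈ Subgroup.center G then (Fintype.card G : ℤ) else 0) * qsgn (t ^ 2) := by
        refine Finset.sum_congr rfl fun t _ => ?_
        rw [← Finset.sum_mul, sum_qsgn_comm hz hz1 hzc hcomm t]
    _ = (Fintype.card G : ℤ) *
        ∑ t : G, (if t ∈ Subgroup.center G then qsgn (t ^ 2) else 0) := by
        rw [Finset.mul_sum]
        refine Finset.sum_congr rfl fun t _ => ?_
        split_ifs <;> simp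

open Classical in
theorem sum_qsgn_eq [Fintype G] :
    (∑ x : G, qsgn (x ^ 2)) + (Fintype.card G : ℤ) = 2 * (Nat.card {x : G // x ^ 2 = 1} : ℤ) := by
  have h1 : ∀ x : G, qsgn (x ^ 2) = if x ^ 2 = 1 then (1 : ℤ) else -1 := by
    intro x; unfold qsgn; congr
  simp only [h1]
  rw [Finset.sum_ite, Finset.sum_const, Finset.sum_const, Nat.card_eq_fintype_card,
    Fintype.card_subtype]
  have := Finset.card_filter_add_card_filter_not (s := (Finset.univ : Finset G)) (fun x : G => x ^ 2 = 1)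
  rw [Finset.card_univ] at this
  simp only [nsmul_eq_mul, mul_one, mul_neg]
  push_cast [← this]
  ring



theorem sq_pow_two_arith (a : ℤ) (e : ℕ) (h : a * a = 2 ^ e) :
    ∃ m : ℕ, 2 * m = e ∧ (a = 2 ^ m ∨ a = -2 ^ m) := by
  have h1 : a.natAbs * a.natAbs = 2 ^ e := by
    have := congrArg Int.natAbs h
    rw [Int.natAbs_mul, Int.natAbs_pow] at this
    simpa using this
  have h2 : a.natAbs ∣ 2 ^ e := ⟨a.natAbs, h1.symm⟩
  obtain ⟨m, _, hm⟩ := (Nat.dvd_prime_pow Nat.prime_two).mp h2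
  refine ⟨m, ?_, ?_⟩
  · rw [hm, ← pow_add] at h1
    have := Nat.pow_right_injective (le_refl 2) h1
    omega
  · rcases Int.natAbs_eq a with h3 | h3
    · left; rw [h3, hm]; simp
    · right; rw [h3, hm]; simp

theorem frat_two_count [Finite G] (hG : IsPGroup 2 G) (hΦ : Nat.card (frattini G) = 2) (d : ℕ)
    (hd : (frattini G).index = 2 ^ d) :
    Nat.card {x : G // x ^ 2 = 1} = 2 ^ d ∨
    ∃ c m : ℕ, Nat.card (Subgroup.center G) = 2 ^ (c + 1) ∧ c < d ∧ 2 * m = d + c ∧
      frattini G ≤ Subgroup.center G ∧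
      (Nat.card {x : G // x ^ 2 = 1} = 2 ^ d + 2 ^ m ∨
        Nat.card {x : G // x ^ 2 = 1} + 2 ^ m = 2 ^ d) := by
  classical
  have := Fintype.ofFinite G
  obtain ⟨⟨z, hzΦ⟩, hz1', hzall⟩ := (Nat.card_eq_two_iff' (1 : frattini G)).mp hΦ
  have hz1 : z ≠ 1 := fun h => hz1' (Subtype.ext h)
  have hall : ∀ y ∈ frattini G, y = 1 ∨ y = z := by
    intro y hy
    by_cases h : y = 1
    · left; exact h
    · right
      have := hzall ⟨y, hy⟩ (fun h' => h (congrArg Subtype.val h'))
      exact congrArg Subtype.val this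
  have hz : z * z = 1 := by
    rcases hall _ ((frattini G).mul_mem hzΦ hzΦ) with h | h
    · exact h
    · exact absurd (by simpa using h) hz1
  have hzc : ∀ g : G, g * z = z * g := by
    intro g
    have hn : (frattini G).Normal := inferInstance
    have hmem : g * z * g⁻¹ ∈ frattini G := hn.conj_mem z hzΦ g
    rcases hall _ hmem with h | h
    · exfalso; apply hz1
      have : z = g⁻¹ * (g * z * g⁻¹) * g := by group
      rw [this, h]; group
    · calc g * z = (g * z * g⁻¹) * g := by group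
        _ = z * g := by rw [h]
  have hΦZ : frattini G ≤ Subgroup.center G := by
    intro y hy
    rw [Subgroup.mem_center_iff]
    intro g
    rcases hall y hy with h | h <;> rw [h]
    · simp
    · exact hzc g
  have hsq : ∀ x : G, x ^ 2 = 1 ∨ x ^ 2 = z :=
    fun x => hall _ (Cfsg.Agent.Lib.Helper1.pgroup_pow_mem_frattini hG x)
  have hcomm : ∀ x y : G, ⁅x, y⁆ = 1 ∨ ⁅x, y⁆ = z := by
    intro x y
    apply hall
    apply Cfsg.Agent.Lib.Helper1.pgroup_commutator_le_frattini hG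
    rw [commutator_def]
    exact Subgroup.commutator_mem_commutator (Subgroup.mem_top x) (Subgroup.mem_top y)
  have hcard : Fintype.card G = 2 ^ (d + 1) := by
    rw [← Nat.card_eq_fintype_card, ← Subgroup.card_mul_index (frattini G), hΦ, hd]; ring
  have hS := gauss_sq hz hz1 hzc hsq hcomm
  have hj := sum_qsgn_eq (G := G)
  set S : ℤ := ∑ x : G, qsgn (x ^ 2) with hSdef
  set j : ℕ := Nat.card {x : G // x ^ 2 = 1} with hjdef
  rw [hcard] at hS hj
  push_cast at hS hj
  rcases sum_qsgn_center hz hz1 hsq with hT | ⟨hZsq, hT⟩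
  · left
    rw [hT, mul_zero] at hS
    have hS0 : S = 0 := by
      rcases mul_eq_zero.mp hS with h | h <;> exact h
    rw [hS0, zero_add, pow_succ] at hj
    have : (j : ℤ) = 2 ^ d := by linarith
    exact_mod_cast this
  · right
    obtain ⟨c0, hc0⟩ := (hG.to_subgroup (Subgroup.center G)).exists_card_eq
    have hc0pos : c0 ≠ 0 := by
      rintro rfl
      rw [pow_zero] at hc0
      have := (Subgroup.card_eq_one.mp hc0)
      have hzz : z ∈ Subgroup.center G := hΦZ hzΦ
      rw [this, Subgroup.mem_bot] at hzz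
      exact hz1 hzz
    obtain ⟨c, rfl⟩ := Nat.exists_eq_succ_of_ne_zero hc0pos
    -- the centre is proper
    have hcd : c < d := by
      by_contra hcon
      push Not at hcon
      have hdvd : Nat.card (Subgroup.center G) ∣ Nat.card G := Subgroup.card_subgroup_dvd_card _
      rw [Nat.card_eq_fintype_card (α := G), hcard, hc0] at hdvd
      have hle : c + 1 ≤ d + 1 := (Nat.pow_dvd_pow_iff_le_right (le_refl 2)).mp hdvd
      have hceq : c = d := by omega
      have htop : Subgroup.center G = ⊤ := by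
        apply Subgroup.eq_top_of_card_eq
        rw [hc0, hceq, Nat.card_eq_fintype_card (α := G), hcard]
      have hexp : ∀ x : G, x ^ 2 = 1 := fun x => hZsq x (by rw [htop]; exact Subgroup.mem_top x)
      have hcommG : ∀ a b : G, a * b = b * a := by
        intro a b
        have := Subgroup.mem_center_iff.mp (show b ∈ Subgroup.center G by rw [htop]; exact Subgroup.mem_top b) a
        exact this
      let _ : CommGroup G := { (inferInstance : Group G) with mul_comm := hcommG }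
      have hbot := Cfsg.Agent.Lib.helper17.frattini_eq_bot_of_comm_exp (E := G) (p := 2) hexp
      rw [hbot] at hΦ
      simp at hΦ
    refine ⟨c, ?_⟩
    rw [hT, hc0] at hS
    push_cast at hS
    -- S = 2 * a
    have hSa : S = 2 * ((j : ℤ) - 2 ^ d) := by
      rw [pow_succ] at hj; linarith
    have ha : ((j : ℤ) - 2 ^ d) * ((j : ℤ) - 2 ^ d) = 2 ^ (d + c) := by
      rw [hSa] at hS
      have : (4 : ℤ) * (((j : ℤ) - 2 ^ d) * ((j : ℤ) - 2 ^ d)) = 4 * 2 ^ (d + c) := by
        calc (4 : ℤ) * (((j : ℤ) - 2 ^ d) * ((j : ℤ) - 2 ^ d))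
            = 2 * ((j : ℤ) - 2 ^ d) * (2 * ((j : ℤ) - 2 ^ d)) := by ring
          _ = 2 ^ (d + 1) * 2 ^ (c + 1) := hS
          _ = 4 * 2 ^ (d + c) := by ring
      linarith
    obtain ⟨m, hm, hm2⟩ := sq_pow_two_arith _ _ ha
    refine ⟨m, hc0, hcd, hm, hΦZ, ?_⟩
    rcases hm2 with h | h
    · left
      have : (j : ℤ) = 2 ^ d + 2 ^ m := by linarith
      exact_mod_cast this
    · right
      have : (j : ℤ) + 2 ^ m = 2 ^ d := by linarith
      exact_mod_cast this


end QuadCount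

end Cfsg.Agent.Lib.Helper20
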