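import Mathlib
import Cfsg.Agent.Lib.helper8.A7R.Defs
import Cfsg.Agent.Lib.helper8.SylowBasic

/-!
# Project A7R (helper8), row B20 `syl2_dihedral`: the Sylow 2-subgroups of a simple group of order 2520 are dihedral
(given an element of order 4, non-commutativity and two involutions).  Also general lemmas on a subgroup of order 8 with an element of order 4
(used again in row B17).
-/

set_option autoImplicit false

namespace Cfsg.Agent.Lib.helper8.A7R

universe u

variable {G : Type u} [Group G]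

open Subgroup

/-- a Sylow 2-subgroup of a group of order 2520 has order 8 -/
theorem a7rb20_card (hS : Std G) (S : Sylow 2 G) : Nat.card (S : Subgroup G) = 8 := by
  have := hS.finite
  have h := Cfsg.Agent.Lib.helper8.h8_sylow_card 2 3 315 (by rw [hS.card]; norm_num) (by norm_num) S
  simpa using h

/-- the elements of a cyclic group of order 4 -/
theorem a7rb20_mem_zpowers (r : G) (hr4 : orderOf r = 4) (x : G) :
    x ∈ zpowers r ↔ x = 1 ∨ x = r ∨ x = r ^ 2 ∨ x = r ^ 3 := by
  constructor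
  · rintro ⟨k, rfl⟩
    show r ^ k = 1 ∨ r ^ k = r ∨ r ^ k = r ^ 2 ∨ r ^ k = r ^ 3
    have h1 : r ^ k = r ^ (k % 4) := by
      have := zpow_mod_orderOf r k
      rw [hr4] at this
      exact this.symm
    have h2 : 0 ≤ k % 4 := Int.emod_nonneg _ (by norm_num)
    have h3 : k % 4 < 4 := Int.emod_lt_of_pos _ (by norm_num)
    have h4 : k % 4 = 0 ∨ k % 4 = 1 ∨ k % 4 = 2 ∨ k % 4 = 3 := by omega
    rcases h4 with h | h | h | h
    · left; rw [h1, h]; simp
    · right; left; rw [h1, h]; simp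
    · right; right; left; rw [h1, h]; exact zpow_natCast r 2
    · right; right; right; rw [h1, h]; exact zpow_natCast r 3
  · rintro (h | h | h | h)
    · rw [h]; exact one_mem _
    · rw [h]; exact mem_zpowers r
    · rw [h]; exact pow_mem (mem_zpowers r) 2
    · rw [h]; exact pow_mem (mem_zpowers r) 3

theorem a7rb20_pow_four (r : G) (hr4 : orderOf r = 4) : r ^ 4 = 1 := by
  rw [← hr4]; exact pow_orderOf_eq_one r

theorem a7rb20_pow_three (r : G) (hr4 : orderOf r = 4) : r ^ 3 = r⁻¹ := by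
  have h := a7rb20_pow_four r hr4
  rw [eq_inv_iff_mul_eq_one, ← pow_succ]
  exact h

theorem a7rb20_orderOf_sq (r : G) (hr4 : orderOf r = 4) : orderOf (r ^ 2) = 2 := by
  rw [orderOf_pow' r (by norm_num : (2 : ℕ) ≠ 0), hr4]
  norm_num

theorem a7rb20_orderOf_cube (r : G) (hr4 : orderOf r = 4) : orderOf (r ^ 3) = 4 := by
  rw [a7rb20_pow_three r hr4, orderOf_inv, hr4]

/-- an involution of a cyclic group of order 4 is the square of the generator -/
theorem a7rb20_invol_mem (r : G) (hr4 : orderOf r = 4) (x : G) (hx : x ∈ zpowers r) (hx2 : orderOf x = 2) :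
    x = r ^ 2 := by
  rcases (a7rb20_mem_zpowers r hr4 x).1 hx with h | h | h | h
  · rw [h, orderOf_one] at hx2; omega
  · rw [h, hr4] at hx2; omega
  · exact h
  · rw [h, a7rb20_orderOf_cube r hr4] at hx2; omega

/-- an element of order 4 of a cyclic group of order 4 is the generator or its inverse -/
theorem a7rb20_four_mem (r : G) (hr4 : orderOf r = 4) (x : G) (hx : x ∈ zpowers r) (hx4 : orderOf x = 4) :
    x = r ∨ x = r⁻¹ := by
  rcases (a7rb20_mem_zpowers r hr4 x).1 hx with h | h | h | h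
  · rw [h, orderOf_one] at hx4; omega
  · exact Or.inl h
  · rw [h, a7rb20_orderOf_sq r hr4] at hx4; omega
  · right; rw [h, a7rb20_pow_three r hr4]

/-- the cyclic subgroup of order 4 has index 2 in a subgroup of order 8 -/
theorem a7rb20_index (S : Subgroup G) (hc : Nat.card S = 8) (r : G) (hr : r ∈ S) (hr4 : orderOf r = 4) :
    ((zpowers r).subgroupOf S).index = 2 := by
  have hle : zpowers r ≤ S := (zpowers_le).2 hr
  have h1 : Nat.card ((zpowers r).subgroupOf S) = 4 := by
    rw [Nat.card_congr (subgroupOfEquivOfLe hle).toEquiv, Nat.card_zpowers, hr4]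
  have h2 := ((zpowers r).subgroupOf S).card_mul_index
  rw [h1, hc] at h2
  omega

theorem a7rb20_relIndex (S : Subgroup G) (hc : Nat.card S = 8) (r : G) (hr : r ∈ S) (hr4 : orderOf r = 4) :
    (zpowers r).relIndex S = 2 := a7rb20_index S hc r hr hr4

/-- squares of a subgroup of order 8 lie in any cyclic subgroup of order 4 -/
theorem a7rb20_sq_mem (S : Subgroup G) (hc : Nat.card S = 8) (r : G) (hr : r ∈ S) (hr4 : orderOf r = 4)
    (x : G) (hx : x ∈ S) : x ^ 2 ∈ zpowers r := by
  have h := sq_mem_of_index_two (a7rb20_index S hc r hr hr4) ⟨x, hx⟩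
  rw [mem_subgroupOf] at h
  simpa using h

/-- the coset decomposition -/
theorem a7rb20_cosets (S : Subgroup G) (hc : Nat.card S = 8) (r s : G) (hr : r ∈ S) (hr4 : orderOf r = 4)
    (hs : s ∈ S) (hsr : s ∉ zpowers r) (x : G) (hx : x ∈ S) : x ∈ zpowers r ∨ s⁻¹ * x ∈ zpowers r := by
  by_cases hxr : x ∈ zpowers r
  · exact Or.inl hxr
  · right
    have h := mul_mem_iff_of_index_two (a7rb20_index S hc r hr hr4) (a := (⟨s, hs⟩ : S)⁻¹) (b := ⟨x, hx⟩)
    rw [mem_subgroupOf, mem_subgroupOf, mem_subgroupOf] at h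
    simp only [Subgroup.coe_mul, InvMemClass.coe_inv, inv_mem_iff] at h
    exact h.2 ⟨fun h' => absurd h' hsr, fun h' => absurd h' hxr⟩

/-- the cyclic subgroup of order 4 is normalized by the subgroup of order 8 -/
theorem a7rb20_conj_mem (S : Subgroup G) (hc : Nat.card S = 8) (r : G) (hr : r ∈ S) (hr4 : orderOf r = 4)
    (s : G) (hs : s ∈ S) (x : G) (hx : x ∈ zpowers r) : s * x * s⁻¹ ∈ zpowers r := by
  have hle : zpowers r ≤ S := (zpowers_le).2 hr
  have hn : ((zpowers r).subgroupOf S).Normal := normal_of_index_eq_two (a7rb20_index S hc r hr hr4)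
  have h := hn.conj_mem ⟨x, hle hx⟩ (by rw [mem_subgroupOf]; exact hx) ⟨s, hs⟩
  rw [mem_subgroupOf] at h
  simpa using h

/-- if `s` commutes with `r` then the subgroup of order 8 is abelian -/
theorem a7rb20_comm (S : Subgroup G) (hc : Nat.card S = 8) (r s : G) (hr : r ∈ S) (hr4 : orderOf r = 4)
    (hs : s ∈ S) (hsr : s ∉ zpowers r) (hcomm : s * r = r * s) (a b : G) (ha : a ∈ S) (hb : b ∈ S) :
    a * b = b * a := by
  have hc' : Commute s r := hcomm
  have key : ∀ x ∈ S, ∃ (e : ℕ) (i : ℤ), x = s ^ e * r ^ i := by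
    intro x hx
    rcases a7rb20_cosets S hc r s hr hr4 hs hsr x hx with h | h
    · obtain ⟨i, hi⟩ := h
      exact ⟨0, i, by simp [← hi]⟩
    · obtain ⟨i, hi⟩ := h
      refine ⟨1, i, ?_⟩
      simp only at hi
      rw [hi, pow_one, mul_inv_cancel_left]
  obtain ⟨e, i, rfl⟩ := key a ha
  obtain ⟨f, j, rfl⟩ := key b hb
  have h1 : Commute (s ^ e) (s ^ f) := (Commute.refl s).pow_pow e f
  have h2 : Commute (s ^ e) (r ^ j) := (hc'.pow_left e).zpow_right j
  have h3 : Commute (r ^ i) (s ^ f) := ((hc'.pow_left f).zpow_right i).symm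
  have h4 : Commute (r ^ i) (r ^ j) := (Commute.refl r).zpow_zpow i j
  exact ((h1.mul_right h2).mul_left (h3.mul_right h4)).eq

/-- B20 [M]: Sylow 2-subgroups are dihedral.  `S` of order 8 has `r` of order 4 (B19), is not abelian (B17), `⟨r⟩` has index 2 hence is normal; `S` has an involution `s ≠ r^2` (B18), `s ∉ ⟨r⟩`; `s r s⁻¹ ∈ ⟨r⟩` has order 4 and is not `r` (else `S = ⟨r, s⟩` is abelian). -/
theorem syl2_dihedral (hS : Std G) (S : Sylow 2 G)
    (h4 : ∃ r : G, r ∈ (S : Subgroup G) ∧ orderOf r = 4)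
    (hnab : ∀ r : G, r ∈ (S : Subgroup G) → orderOf r = 4 → ∃ a b : G, a ∈ (S : Subgroup G) ∧ b ∈ (S : Subgroup G) ∧ a * b ≠ b * a)
    (h2i : ∃ u v : G, u ∈ (S : Subgroup G) ∧ v ∈ (S : Subgroup G) ∧ orderOf u = 2 ∧ orderOf v = 2 ∧ u ≠ v) :
    IsD8 (S : Subgroup G) := by
  have hc := a7rb20_card hS S
  obtain ⟨r, hr, hr4⟩ := h4
  obtain ⟨u, v, hu, hv, hu2, hv2, huv⟩ := h2i
  -- an involution different from `r ^ 2`
  obtain ⟨s, hs, hs2, hsne⟩ : ∃ s : G, s ∈ (S : Subgroup G) ∧ orderOf s = 2 ∧ s ≠ r ^ 2 := by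
    by_cases h : u = r ^ 2
    · exact ⟨v, hv, hv2, fun h' => huv (h.trans h'.symm)⟩
    · exact ⟨u, hu, hu2, h⟩
  have hsr : s ∉ zpowers r := fun h => hsne (a7rb20_invol_mem r hr4 s h hs2)
  have hconj : s * r * s⁻¹ ∈ zpowers r := a7rb20_conj_mem S hc r hr hr4 s hs r (mem_zpowers r)
  have hord : orderOf (s * r * s⁻¹) = 4 := by
    rw [← hr4]
    exact ((SemiconjBy.conj_mk s r).orderOf_eq s).symm
  refine ⟨hc, r, s, hr, hs, hr4, hs2, ?_, hsr⟩
  rcases a7rb20_four_mem r hr4 _ hconj hord with h | h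
  · exfalso
    have hcomm : s * r = r * s := by
      have := congrArg (· * s) h
      simpa [mul_assoc] using this
    obtain ⟨a, b, ha, hb, hab⟩ := hnab r hr hr4
    exact hab (a7rb20_comm S hc r s hr hr4 hs hsr hcomm a b ha hb)
  · exact h

end Cfsg.Agent.Lib.helper8.A7R
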