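import Mathlib
import Cfsg.Agent.Lib.helper8.A7R.Defs
import Cfsg.Agent.Lib.Helper20.A7RB20
import Cfsg.Agent.S0111
import Cfsg.Agent.S0076

/-!
# Project A7R (helper8), row B17 `syl2_nonab`: a Sylow 2-subgroup (of a simple group of order 2520 without elements of order 8)
containing an element of order 4 is not abelian (Thompson transfer + Burnside fusion).
-/

set_option autoImplicit false

namespace Cfsg.Agent.Lib.helper8.A7R

universe u

variable {G : Type u} [Group G]

open Subgroup

/-- an abelian subgroup of order 8 with an element `r` of order 4 and no element of order 8 has an involution outside `⟨r⟩` -/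
theorem a7rb17_invol (S : Subgroup G) (hc : Nat.card S = 8) (hno8 : NoOrd G 8) (r : G) (hr : r ∈ S) (hr4 : orderOf r = 4)
    (hab : ∀ a b : G, a ∈ S → b ∈ S → a * b = b * a) :
    ∃ u : G, u ∈ S ∧ u ∉ zpowers r ∧ orderOf u = 2 := by
  have hle : zpowers r ≤ S := (zpowers_le).2 hr
  -- an element outside `⟨r⟩`
  obtain ⟨s, hs, hsr⟩ : ∃ s ∈ S, s ∉ zpowers r := by
    by_contra hcon
    push Not at hcon
    have : S = zpowers r := le_antisymm hcon hle
    rw [this, Nat.card_zpowers, hr4] at hc
    omega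
  have hs1 : s ≠ 1 := fun h => hsr (h ▸ one_mem _)
  have hsq := a7rb20_sq_mem S hc r hr hr4 s hs
  have hr44 := a7rb20_pow_four r hr4
  have h8 : ∀ (e : G), s ^ 2 = e → orderOf e = 4 → False := by
    intro e he he4
    have h1 : s ^ 2 ^ (2 + 1) = 1 := by
      have : s ^ 2 ^ (2 + 1) = (s ^ 2) ^ 4 := by rw [← pow_mul]; norm_num
      rw [this, he, ← he4]
      exact pow_orderOf_eq_one e
    have h2 : ¬ s ^ 2 ^ 2 = 1 := by
      have : s ^ 2 ^ 2 = (s ^ 2) ^ 2 := by rw [← pow_mul]; norm_num
      rw [this, he]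
      intro h
      have := orderOf_dvd_of_pow_eq_one h
      rw [he4] at this
      omega
    have := orderOf_eq_prime_pow h2 h1
    exact hno8 s (by simpa using this)
  rcases (a7rb20_mem_zpowers r hr4 _).1 hsq with h | h | h | h
  · refine ⟨s, hs, hsr, ?_⟩
    exact orderOf_eq_prime (p := 2) h hs1
  · exact (h8 r h hr4).elim
  · -- `s ^ 2 = r ^ 2`: take `s * r⁻¹`
    have hcomm : s * r⁻¹ = r⁻¹ * s := hab s r⁻¹ hs (inv_mem hr)
    refine ⟨s * r⁻¹, mul_mem hs (inv_mem hr), ?_, ?_⟩
    · intro hmem
      have := mul_mem hmem (mem_zpowers r)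
      rw [inv_mul_cancel_right] at this
      exact hsr this
    · have hsq1 : (s * r⁻¹) ^ 2 = 1 := by
        have hc' : Commute s r⁻¹ := hcomm
        rw [hc'.mul_pow, h, inv_pow, mul_inv_cancel]
      have hne : s * r⁻¹ ≠ 1 := by
        intro h1
        have : s = r := by
          have := congrArg (· * r) h1
          simpa using this
        exact hsr (this ▸ mem_zpowers r)
      exact orderOf_eq_prime (p := 2) hsq1 hne
  · exact (h8 _ h (a7rb20_orderOf_cube r hr4)).elim

/-- B17 [M]: a Sylow 2-subgroup with an element of order 4 is not abelian.  If `S` is abelian with `r ∈ S` of order 4 (and no element of order 8): Thompson (`S0111`) with `Q = ⟨r⟩`: every involution of `S` is conjugate to `r^2`;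
Burnside fusion (`S0076`): conjugate under `N(S)`.  But `r^2` is the only nontrivial square in `S ≅ 4 × 2`, so `N(S)` fixes `r^2`, while `S` has 3 involutions. -/
theorem syl2_nonab (hS : Std G) (hno8 : NoOrd G 8) (S : Sylow 2 G) (r : G) (hr : r ∈ (S : Subgroup G)) (hr4 : orderOf r = 4) :
    ∃ a b : G, a ∈ (S : Subgroup G) ∧ b ∈ (S : Subgroup G) ∧ a * b ≠ b * a := by
  by_contra hcon
  have hab : ∀ a b : G, a ∈ (S : Subgroup G) → b ∈ (S : Subgroup G) → a * b = b * a := by
    intro a b ha hb
    by_contra h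
    exact hcon ⟨a, b, ha, hb, h⟩
  have := hS.finite
  have hsimple := hS.simple
  have hc := a7rb20_card hS S
  have hle : zpowers r ≤ (S : Subgroup G) := (zpowers_le).2 hr
  obtain ⟨u, hu, hur, hu2⟩ := a7rb17_invol (S : Subgroup G) hc hno8 r hr hr4 hab
  -- Thompson transfer
  rcases Cfsg.Agent.S0111.result S (zpowers r) hle (a7rb20_relIndex (S : Subgroup G) hc r hr hr4) u hu2 hu hur with
    ⟨M, hMn, hMi, -⟩ | ⟨g, hg⟩
  · rcases IsSimpleGroup.eq_bot_or_eq_top_of_normal M hMn with h | h
    · rw [h, index_bot, hS.card] at hMi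
      omega
    · rw [h, index_top] at hMi
      omega
  · have hg2 : orderOf (g * u * g⁻¹) = 2 := by
      rw [← hu2]
      exact ((SemiconjBy.conj_mk g u).orderOf_eq g).symm
    have hgu : g * u * g⁻¹ = r ^ 2 := a7rb20_invol_mem r hr4 _ hg hg2
    -- Burnside fusion
    obtain ⟨n, hn, hnu⟩ := Cfsg.Agent.S0076.result S ({u} : Set G) ({r ^ 2} : Set G)
      (by intro x hx; rw [Set.mem_singleton_iff] at hx; rw [hx]; exact hu)
      (by intro x hx; rw [Set.mem_singleton_iff] at hx; rw [hx]; exact pow_mem hr 2)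
      (by
        intro x hx
        rw [Set.image_singleton, hab x u hx hu, mul_inv_cancel_right])
      (by
        intro x hx
        rw [Set.image_singleton, hab x (r ^ 2) hx (pow_mem hr 2), mul_inv_cancel_right])
      g (by rw [Set.image_singleton, hgu])
    rw [Set.image_singleton, Set.singleton_eq_singleton_iff] at hnu
    -- `u` is the square of `n⁻¹ r n ∈ S`
    have hn' : n⁻¹ ∈ normalizer ((S : Subgroup G) : Set G) := inv_mem hn
    have ht : n⁻¹ * r * n⁻¹⁻¹ ∈ (S : Subgroup G) := (mem_normalizer_iff.1 hn' r).1 hr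
    have hsq : (n⁻¹ * r * n⁻¹⁻¹) ^ 2 = u := by
      rw [conj_pow, ← hnu]
      group
    have := a7rb20_sq_mem (S : Subgroup G) hc r hr hr4 _ ht
    rw [hsq] at this
    exact hur this

end Cfsg.Agent.Lib.helper8.A7R
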