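import Mathlib
import Cfsg.Agent.Lib.Helper19.AMO.Defs
import Cfsg.Agent.Lib.helper15.URegSemi

set_option autoImplicit false
set_option linter.unusedVariables false
set_option linter.unusedSectionVars false

/-! Project AMO (S2262), pieces HINV and REV. -/

namespace Cfsg.Agent.Lib.Helper19.AMO

open Matrix Cfsg.Agent.Lib.Helper16.PG Cfsg.Agent.Lib.Helper16.AP Cfsg.Agent.Lib.Helper16.PU

universe u

section
variable {F : Type u} [Field F]

/-- AMO-HINV -/
theorem hinv_of_charpoly_inv {ι : Type*} [Fintype ι] [DecidableEq ι] (A B : Matrix ι ι F)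
    (hAB : A * B = 1) (hc : B.charpoly = A.charpoly) (ν : AlgebraicClosure F) (hν : ν ≠ 0) :
    (A.map (algebraMap F (AlgebraicClosure F))).charpoly.rootMultiplicity ν⁻¹ =
      (A.map (algebraMap F (AlgebraicClosure F))).charpoly.rootMultiplicity ν := by
  have hAB' : A.map (algebraMap F (AlgebraicClosure F)) * B.map (algebraMap F (AlgebraicClosure F)) = 1 := by
    rw [← Matrix.map_mul, hAB, Matrix.map_one _ (map_zero _) (map_one _)]
  have h := Cfsg.Agent.Lib.helper15.URegSemi.rootMultiplicity_inv _ _ hAB' ν hν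
  rw [← h, Matrix.charpoly_map, Matrix.charpoly_map, hc]

/-- AMO-REV -/
theorem charpoly_reverse (d : ℕ) (A B : Matrix (Fin d) (Fin d) F) (hdet : A.det = 1)
    (hAB : A * B = 1) (hc : B.charpoly = A.charpoly) :
    A.charpoly.reverse = Polynomial.C ((-1 : F) ^ d) * A.charpoly := by
  rw [Matrix.reverse_charpoly, Matrix.charpolyRev]
  have hAB' : A.map Polynomial.C * B.map Polynomial.C = 1 := by
    rw [← Matrix.map_mul, hAB, Matrix.map_one _ (map_zero _) (map_one _)]
  have key : (1 : Matrix (Fin d) (Fin d) (Polynomial F)) - (Polynomial.X : Polynomial F) • A.map Polynomial.C =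
      A.map Polynomial.C * (-(Matrix.charmatrix B)) := by
    have h1 : A.map Polynomial.C * (Matrix.scalar (Fin d)) (Polynomial.X : Polynomial F) =
        (Polynomial.X : Polynomial F) • A.map Polynomial.C := by
      rw [Matrix.scalar_apply, ← Matrix.smul_one_eq_diagonal, Matrix.mul_smul, mul_one]
    rw [Matrix.charmatrix, mul_neg, mul_sub, RingHom.mapMatrix_apply, hAB', h1, neg_sub]
  rw [key, Matrix.det_mul, Matrix.det_neg, Fintype.card_fin]
  have hdA : (A.map Polynomial.C).det = 1 := by
    have := (RingHom.map_det (Polynomial.C : F →+* Polynomial F) A).symm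
    rw [RingHom.mapMatrix_apply] at this
    rw [this, hdet, map_one]
  rw [hdA, one_mul]
  have : (Matrix.charmatrix B).det = A.charpoly := by
    rw [← hc]; rfl
  rw [this, map_pow, map_neg, map_one]

end

end Cfsg.Agent.Lib.Helper19.AMO
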