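import Mathlib

/-!
# Project APF (S2276): small tools for permutation identities on `ZMod ℓ`

* `h20_via_swap`: `viaEmbeddingHom` sends swaps to swaps, so an identity between words in swaps
  on `n` distinct points follows from the same identity in `Perm (Fin n)` (checked by `decide`).
* `h20_nodup_map_window`: naturals in a window of length `ℓ` stay distinct in `ZMod ℓ`.
-/

set_option autoImplicit false

namespace Cfsg.Agent.Lib.Helper24.APF

open Equiv

theorem h20_via_swap {α β : Type*} [DecidableEq α] [DecidableEq β] (ι : α ↪ β) (i j : α) :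
    Equiv.Perm.viaEmbeddingHom ι (swap i j) = swap (ι i) (ι j) := by
  show Equiv.Perm.viaEmbedding (swap i j) ι = swap (ι i) (ι j)
  ext x
  by_cases hx : x ∈ Set.range ι
  · obtain ⟨y, rfl⟩ := hx
    rw [Equiv.Perm.viaEmbedding_apply]
    by_cases h1 : y = i
    · subst h1; simp
    by_cases h2 : y = j
    · subst h2; simp
    rw [swap_apply_of_ne_of_ne h1 h2,
      swap_apply_of_ne_of_ne (fun h => h1 (ι.injective h)) (fun h => h2 (ι.injective h))]
  · rw [Equiv.Perm.viaEmbedding_apply_of_notMem _ _ _ hx]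
    rw [swap_apply_of_ne_of_ne]
    · rintro rfl; exact hx ⟨i, rfl⟩
    · rintro rfl; exact hx ⟨j, rfl⟩

/-- the embedding `Fin l.length ↪ α` of a duplicate-free list -/
def h20_emb {α : Type*} (l : List α) (h : l.Nodup) : Fin l.length ↪ α :=
  ⟨l.get, List.nodup_iff_injective_get.mp h⟩

theorem h20_emb_apply {α : Type*} (l : List α) (h : l.Nodup) (i : Fin l.length) :
    h20_emb l h i = l.get i := rfl

theorem h20_natCast_inj_window (ℓ m a b : ℕ) (ha : m ≤ a ∧ a < m + ℓ) (hb : m ≤ b ∧ b < m + ℓ)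
    (h : ((a : ℕ) : ZMod ℓ) = (b : ℕ)) : a = b := by
  rw [ZMod.natCast_eq_natCast_iff'] at h
  rcases Nat.eq_zero_or_pos ℓ with h0 | hpos
  · subst h0; omega
  wlog hab : a ≤ b generalizing a b
  · exact (this b a hb ha h.symm (by omega)).symm
  have h1 : (b - a) % ℓ = 0 := by
    have : b % ℓ = (a + (b - a)) % ℓ := by congr 1; omega
    rw [this, Nat.add_mod] at h
    have hlt : (b - a) < ℓ := by omega
    by_contra hne
    have h2 : (b - a) % ℓ = b - a := Nat.mod_eq_of_lt hlt
    rw [h2] at h hne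
    have h3 : a % ℓ < ℓ := Nat.mod_lt _ hpos
    by_cases hc : a % ℓ + (b - a) < ℓ
    · rw [Nat.mod_eq_of_lt hc] at h; omega
    · have h4 : (a % ℓ + (b - a)) % ℓ = a % ℓ + (b - a) - ℓ := by
        rw [Nat.mod_eq_sub_mod (by omega), Nat.mod_eq_of_lt (by omega)]
      rw [h4] at h; omega
  have hlt : (b - a) < ℓ := by omega
  rw [Nat.mod_eq_of_lt hlt] at h1
  omega

theorem h20_nodup_map_window (ℓ m : ℕ) (L : List ℕ) (hL : L.Nodup)
    (hw : ∀ a ∈ L, m ≤ a ∧ a < m + ℓ) : (L.map (fun a : ℕ => ((a : ℕ) : ZMod ℓ))).Nodup := by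
  apply List.Nodup.map_on _ hL
  intro a ha b hb h
  exact h20_natCast_inj_window ℓ m a b (hw a ha) (hw b hb) h

theorem h20_addRight_conj_swap {ℓ : ℕ} (c a b : ZMod ℓ) :
    Equiv.addRight c * swap a b * (Equiv.addRight c)⁻¹ = swap (a + c) (b + c) := by
  rw [← Equiv.swap_apply_apply]
  rfl

theorem h20_isThreeCycle_swap_mul_swap {α : Type*} [Fintype α] [DecidableEq α] (a b c : α)
    (hab : a ≠ b) (hac : a ≠ c) (hbc : b ≠ c) :
    Equiv.Perm.IsThreeCycle (swap a b * swap b c) := by
  have h : Equiv.Perm.IsThreeCycle (swap b a * swap b c) :=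
    Equiv.Perm.isThreeCycle_swap_mul_swap_same hab.symm hbc hac
  rw [swap_comm a b]
  exact h

end Cfsg.Agent.Lib.Helper24.APF
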