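import Mathlib
import Cfsg.Agent.Lib.Helper24.APF.Defs
import Cfsg.Agent.Lib.Helper20.APFTool
import Cfsg.Agent.Lib.Helper13.APFCERT2

/-!
# Project APF (S2276), piece CD3: matched even case, `p = 3`
-/

set_option autoImplicit false
set_option maxRecDepth 100000

namespace Cfsg.Agent.Lib.Helper24.APF

open Equiv

theorem h20_conj_addRight_swap {ℓ : ℕ} (c a b : ZMod ℓ) :
    MulAut.conj (Equiv.addRight c) (swap a b) = swap (a + c) (b + c) := by
  rw [MulAut.conj_apply]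
  exact h20_addRight_conj_swap c a b

/-- transport of the hypotheses of `not_solvable_of_single_overlap` along an embedding -/
theorem h20_overlap_via {α : Type*} [Fintype α] [DecidableEq α] {n : ℕ} (ι : Fin n ↪ α)
    (s₀ t₀ : Perm (Fin n)) (x₀ : Fin n)
    (hov : ∀ i : Fin n, s₀ i ≠ i → t₀ i ≠ i → i = x₀)
    (hsx : s₀ x₀ ≠ x₀) (htx : t₀ x₀ ≠ x₀) (hs2 : s₀ (s₀ x₀) ≠ x₀) (ht2 : t₀ (t₀ x₀) ≠ x₀)
    (K : Subgroup (Perm α)) (hs : Equiv.Perm.viaEmbeddingHom ι s₀ ∈ K)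
    (ht : Equiv.Perm.viaEmbeddingHom ι t₀ ∈ K)
    (hcert : ∀ (K : Subgroup (Perm α)) (s t : Perm α), s ∈ K → t ∈ K → ∀ x : α,
      (∀ z : α, s z ≠ z → t z ≠ z → z = x) → s x ≠ x → t x ≠ x → s (s x) ≠ x → t (t x) ≠ x →
      ¬ Group.IsSolvable K) :
    ¬ Group.IsSolvable K := by
  have happ : ∀ (g : Perm (Fin n)) (i : Fin n),
      Equiv.Perm.viaEmbeddingHom ι g (ι i) = ι (g i) := fun g i =>
    Equiv.Perm.viaEmbedding_apply g ι i
  have hout : ∀ (g : Perm (Fin n)) (z : α), z ∉ Set.range ι →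
      Equiv.Perm.viaEmbeddingHom ι g z = z := fun g z hz =>
    Equiv.Perm.viaEmbedding_apply_of_notMem g ι z hz
  refine hcert K _ _ hs ht (ι x₀) ?_ ?_ ?_ ?_ ?_
  · intro z hsz htz
    by_cases hz : z ∈ Set.range ι
    · obtain ⟨i, rfl⟩ := hz
      rw [happ] at hsz htz
      rw [hov i (fun h => hsz (by rw [h])) (fun h => htz (by rw [h]))]
    · exact absurd (hout s₀ z hz) hsz
  · rw [happ]; exact fun h => hsx (ι.injective h)
  · rw [happ]; exact fun h => htx (ι.injective h)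
  · rw [happ, happ]; exact fun h => hs2 (ι.injective h)
  · rw [happ, happ]; exact fun h => ht2 (ι.injective h)

/-- the 5-cycle `1 → 3 → 5 → 4 → 2` in index form on `Fin 9` (point `k` has index `k - 1`) -/
def h20_cd3s : Perm (Fin 9) := swap 1 2 * swap 3 4 * (swap 0 1 * swap 2 3)⁻¹
/-- its translate by `4` -/
def h20_cd3t : Perm (Fin 9) := swap 5 6 * swap 7 8 * (swap 4 5 * swap 6 7)⁻¹

theorem good_matched_even_3 (ℓ : ℕ) [NeZero ℓ] (hℓ : Odd ℓ) (h9 : 9 ≤ ℓ) :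
    Good 3 (Equiv.addRight (1 : ZMod ℓ))
      ((swap 1 2 * swap 3 4) * (Equiv.addRight (1 : ZMod ℓ))⁻¹ *
        (swap (1 : ZMod ℓ) 2 * swap 3 4)⁻¹) := by
  have hnd : [(1 : ZMod ℓ), 2, 3, 4, 5, 6, 7, 8, 9].Nodup := by
    have := h20_nodup_map_window ℓ 1 [1, 2, 3, 4, 5, 6, 7, 8, 9] (by decide)
      (by intro a ha; simp at ha; omega)
    simpa using this
  obtain ⟨ι, hι⟩ : ∃ ι : Fin 9 ↪ ZMod ℓ, ι = h20_emb _ hnd := ⟨_, rfl⟩
  have hι0 : ι 0 = 1 := by rw [hι]; rfl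
  have hι1 : ι 1 = 2 := by rw [hι]; rfl
  have hι2 : ι 2 = 3 := by rw [hι]; rfl
  have hι3 : ι 3 = 4 := by rw [hι]; rfl
  have hι4 : ι 4 = 5 := by rw [hι]; rfl
  have hι5 : ι 5 = 6 := by rw [hι]; rfl
  have hι6 : ι 6 = 7 := by rw [hι]; rfl
  have hι7 : ι 7 = 8 := by rw [hι]; rfl
  have hι8 : ι 8 = 9 := by rw [hι]; rfl
  have e12 : (1 : ZMod ℓ) + 1 = 2 := by norm_num
  have e23 : (2 : ZMod ℓ) + 1 = 3 := by norm_num
  have e34 : (3 : ZMod ℓ) + 1 = 4 := by norm_num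
  have e45 : (4 : ZMod ℓ) + 1 = 5 := by norm_num
  have f1 : (1 : ZMod ℓ) + 4 = 5 := by norm_num
  have f2 : (2 : ZMod ℓ) + 4 = 6 := by norm_num
  have f3 : (3 : ZMod ℓ) + 4 = 7 := by norm_num
  have f4 : (4 : ZMod ℓ) + 4 = 8 := by norm_num
  have f5 : (5 : ZMod ℓ) + 4 = 9 := by norm_num
  -- `σ * W` is the transported 5-cycle
  have hs : Equiv.addRight (1 : ZMod ℓ) * ((swap 1 2 * swap 3 4) *
      (Equiv.addRight (1 : ZMod ℓ))⁻¹ * (swap (1 : ZMod ℓ) 2 * swap 3 4)⁻¹) =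
      Equiv.Perm.viaEmbeddingHom ι h20_cd3s := by
    have h1 : Equiv.addRight (1 : ZMod ℓ) * ((swap 1 2 * swap 3 4) *
        (Equiv.addRight (1 : ZMod ℓ))⁻¹ * (swap (1 : ZMod ℓ) 2 * swap 3 4)⁻¹) =
        MulAut.conj (Equiv.addRight (1 : ZMod ℓ)) (swap 1 2 * swap 3 4) *
        (swap (1 : ZMod ℓ) 2 * swap 3 4)⁻¹ := by
      rw [MulAut.conj_apply]; group
    rw [h1, map_mul, h20_conj_addRight_swap, h20_conj_addRight_swap, e12, e23, e34, e45]
    unfold h20_cd3s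
    simp only [map_mul, map_inv, h20_via_swap, hι0, hι1, hι2, hι3, hι4]
  have ht : MulAut.conj (Equiv.addRight (4 : ZMod ℓ)) (Equiv.Perm.viaEmbeddingHom ι h20_cd3s) =
      Equiv.Perm.viaEmbeddingHom ι h20_cd3t := by
    unfold h20_cd3s h20_cd3t
    simp only [map_mul, map_inv, h20_via_swap, hι0, hι1, hι2, hι3, hι4, hι5, hι6, hι7, hι8,
      h20_conj_addRight_swap, f1, f2, f3, f4, f5]
  have hσ4 : Equiv.addRight (4 : ZMod ℓ) = (Equiv.addRight (1 : ZMod ℓ)) ^ 4 := by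
    rw [Equiv.nsmul_addRight]; norm_num
  constructor
  · rintro ⟨k, hk⟩
    rw [hs, orderOf_injective _ (Equiv.Perm.viaEmbeddingHom_injective ι)] at hk
    have h5 : orderOf h20_cd3s = 5 := by
      have : Fact (Nat.Prime 5) := ⟨by norm_num⟩
      exact orderOf_eq_prime (by decide +kernel) (by decide +kernel)
    rw [h5] at hk
    rcases k with _ | _ | k
    · simp at hk
    · simp at hk
    · have : 3 ^ 2 ≤ 3 ^ (k + 2) := Nat.pow_le_pow_right (by norm_num) (by omega)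
      omega
  · have hσK : Equiv.addRight (1 : ZMod ℓ) ∈ Subgroup.closure
        ({Equiv.addRight (1 : ZMod ℓ), (swap 1 2 * swap 3 4) * (Equiv.addRight (1 : ZMod ℓ))⁻¹ *
        (swap (1 : ZMod ℓ) 2 * swap 3 4)⁻¹} : Set (Perm (ZMod ℓ))) :=
      Subgroup.subset_closure (by simp)
    have hWK : (swap 1 2 * swap 3 4) * (Equiv.addRight (1 : ZMod ℓ))⁻¹ *
        (swap (1 : ZMod ℓ) 2 * swap 3 4)⁻¹ ∈ Subgroup.closure
        ({Equiv.addRight (1 : ZMod ℓ), (swap 1 2 * swap 3 4) * (Equiv.addRight (1 : ZMod ℓ))⁻¹ *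
        (swap (1 : ZMod ℓ) 2 * swap 3 4)⁻¹} : Set (Perm (ZMod ℓ))) :=
      Subgroup.subset_closure (by simp)
    have hsK := Subgroup.mul_mem _ hσK hWK
    rw [hs] at hsK
    have hσ4K := Subgroup.pow_mem _ hσK 4
    rw [← hσ4] at hσ4K
    have htK : Equiv.Perm.viaEmbeddingHom ι h20_cd3t ∈ Subgroup.closure
        ({Equiv.addRight (1 : ZMod ℓ), (swap 1 2 * swap 3 4) * (Equiv.addRight (1 : ZMod ℓ))⁻¹ *
        (swap (1 : ZMod ℓ) 2 * swap 3 4)⁻¹} : Set (Perm (ZMod ℓ))) := by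
      rw [← ht, MulAut.conj_apply]
      exact Subgroup.mul_mem _ (Subgroup.mul_mem _ hσ4K hsK) (Subgroup.inv_mem _ hσ4K)
    exact h20_overlap_via ι h20_cd3s h20_cd3t 4 (by decide +kernel) (by decide +kernel)
      (by decide +kernel) (by decide +kernel) (by decide +kernel) _ hsK htK
      (fun K s t hs ht x hov hsx htx hs2 ht2 =>
        not_solvable_of_single_overlap K s t hs ht x hov hsx htx hs2 ht2)

end Cfsg.Agent.Lib.Helper24.APF
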