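import Mathlib
import Cfsg.Agent.Lib.Helper24.APF.Defs
import Cfsg.Agent.Lib.Helper20.APFTool
import Cfsg.Agent.Lib.Helper20.APFCD3
import Cfsg.Agent.Lib.Helper13.APFCERT1

/-!
# Project APF (S2276), piece C6e: the group generated by `σ` and `(2e 1)(0 1+e)` is not solvable
-/

set_option autoImplicit false
set_option maxRecDepth 100000

namespace Cfsg.Agent.Lib.Helper24.APF

open Equiv

theorem h20_swap_rot {α : Type*} [DecidableEq α] (x a y : α) (hxa : x ≠ a) (hxy : x ≠ y)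
    (hay : a ≠ y) : swap x a * swap a y = swap a y * swap y x := by
  have hnd : [x, a, y].Nodup := by
    simp only [List.nodup_cons, List.mem_cons, List.mem_singleton, List.not_mem_nil, not_or,
      List.nodup_nil, or_false, not_false_eq_true, and_true]
    exact ⟨⟨hxa, hxy⟩, hay⟩
  obtain ⟨ι, hι⟩ : ∃ ι : Fin 3 ↪ α, ι = h20_emb _ hnd := ⟨_, rfl⟩
  have hι0 : ι 0 = x := by rw [hι]; rfl
  have hι1 : ι 1 = a := by rw [hι]; rfl
  have hι2 : ι 2 = y := by rw [hι]; rfl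
  have key : (swap (0 : Fin 3) 1 * swap 1 2 : Perm (Fin 3)) = swap 1 2 * swap 2 0 := by
    decide +kernel
  have h2 := congrArg (Equiv.Perm.viaEmbeddingHom ι) key
  simp only [map_mul, h20_via_swap, hι0, hι1, hι2] at h2
  exact h2

theorem c6_not_solvable (ℓ e : ℕ) [NeZero ℓ] (hℓ : ℓ = 3 * e) (he : 3 ≤ e)
    (K : Subgroup (Perm (ZMod ℓ))) (hσ : Equiv.addRight (1 : ZMod ℓ) ∈ K)
    (ht : swap (2 * (e : ZMod ℓ)) 1 * swap (0 : ZMod ℓ) (1 + (e : ZMod ℓ)) ∈ K) :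
    ¬ Group.IsSolvable K := by
  -- the seven points 0, 1, 2, 1+e, 2+e, 2e, 2e+1
  have hnd7 : (List.map (fun a : ℕ => ((a : ℕ) : ZMod ℓ))
      [0, 1, 2, 1 + e, 2 + e, 2 * e, 2 * e + 1]).Nodup := by
    apply h20_nodup_map_window ℓ 0
    · simp only [List.nodup_cons, List.mem_cons, List.mem_singleton, List.not_mem_nil, not_or,
        List.nodup_nil, or_false, not_false_eq_true, and_true]
      omega
    · intro a ha
      simp only [List.mem_cons, List.mem_singleton, List.not_mem_nil, or_false] at ha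
      omega
  obtain ⟨ι, hι⟩ : ∃ ι : Fin 7 ↪ ZMod ℓ, ι = h20_emb _ hnd7 := ⟨_, rfl⟩
  have hι0 : ι 0 = ((0 : ℕ) : ZMod ℓ) := by rw [hι]; rfl
  have hι1 : ι 1 = ((1 : ℕ) : ZMod ℓ) := by rw [hι]; rfl
  have hι2 : ι 2 = ((2 : ℕ) : ZMod ℓ) := by rw [hι]; rfl
  have hι3 : ι 3 = ((1 + e : ℕ) : ZMod ℓ) := by rw [hι]; rfl
  have hι4 : ι 4 = ((2 + e : ℕ) : ZMod ℓ) := by rw [hι]; rfl
  have hι5 : ι 5 = ((2 * e : ℕ) : ZMod ℓ) := by rw [hι]; rfl
  have hι6 : ι 6 = ((2 * e + 1 : ℕ) : ZMod ℓ) := by rw [hι]; rfl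
  -- `t` and its `σ`-conjugate as transported permutations
  have htK : Equiv.Perm.viaEmbeddingHom ι (swap 5 1 * swap 0 3) ∈ K := by
    simp only [map_mul, h20_via_swap, hι0, hι1, hι3, hι5]
    have e1 : ((2 * e : ℕ) : ZMod ℓ) = 2 * (e : ZMod ℓ) := by push_cast; ring
    have e2 : ((1 + e : ℕ) : ZMod ℓ) = 1 + (e : ZMod ℓ) := by push_cast; ring
    rw [e1, e2, Nat.cast_one, Nat.cast_zero]
    exact ht
  have ht1K : Equiv.Perm.viaEmbeddingHom ι (swap 6 2 * swap 1 4) ∈ K := by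
    have h1 : MulAut.conj (Equiv.addRight (1 : ZMod ℓ))
        (Equiv.Perm.viaEmbeddingHom ι (swap 5 1 * swap 0 3)) =
        Equiv.Perm.viaEmbeddingHom ι (swap 6 2 * swap 1 4) := by
      simp only [map_mul, h20_via_swap, hι0, hι1, hι2, hι3, hι4, hι5, hι6,
        h20_conj_addRight_swap]
      have e1 : ((2 * e : ℕ) : ZMod ℓ) + 1 = ((2 * e + 1 : ℕ) : ZMod ℓ) := by push_cast; ring
      have e2 : ((1 : ℕ) : ZMod ℓ) + 1 = ((2 : ℕ) : ZMod ℓ) := by push_cast; ring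
      have e3 : ((0 : ℕ) : ZMod ℓ) + 1 = ((1 : ℕ) : ZMod ℓ) := by push_cast; ring
      have e4 : ((1 + e : ℕ) : ZMod ℓ) + 1 = ((2 + e : ℕ) : ZMod ℓ) := by push_cast; ring
      rw [e1, e2, e3, e4]
    rw [← h1, MulAut.conj_apply]
    exact K.mul_mem (K.mul_mem hσ htK) (K.inv_mem hσ)
  have key : ((swap (5 : Fin 7) 1 * swap 0 3) * (swap 6 2 * swap 1 4)) ^ 2 =
      (swap 5 4 * swap 4 1 : Perm (Fin 7)) := by decide +kernel
  have hρK : swap ((2 * e : ℕ) : ZMod ℓ) ((2 + e : ℕ) : ZMod ℓ) *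
      swap ((2 + e : ℕ) : ZMod ℓ) ((1 : ℕ) : ZMod ℓ) ∈ K := by
    have h2 := congrArg (Equiv.Perm.viaEmbeddingHom ι) key
    rw [map_pow, map_mul] at h2
    have h3 := K.pow_mem (K.mul_mem htK ht1K) 2
    rw [h2] at h3
    simpa only [map_mul, h20_via_swap, hι1, hι4, hι5] using h3
  -- conjugate by `σ ^ (e - 2)`
  have hcK : Equiv.addRight (((e - 2 : ℕ) : ℕ) : ZMod ℓ) ∈ K := by
    have := K.pow_mem hσ (e - 2)
    rw [Equiv.nsmul_addRight] at this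
    simpa using this
  have hρ'K : swap ((3 * e - 2 : ℕ) : ZMod ℓ) ((2 * e : ℕ) : ZMod ℓ) *
      swap ((2 * e : ℕ) : ZMod ℓ) ((e - 1 : ℕ) : ZMod ℓ) ∈ K := by
    have h1 := K.mul_mem (K.mul_mem hcK hρK) (K.inv_mem hcK)
    rw [← MulAut.conj_apply, map_mul, h20_conj_addRight_swap, h20_conj_addRight_swap] at h1
    have e1 : ((2 * e : ℕ) : ZMod ℓ) + ((e - 2 : ℕ) : ZMod ℓ) = ((3 * e - 2 : ℕ) : ZMod ℓ) := by
      rw [← Nat.cast_add]; congr 1; omega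
    have e2 : ((2 + e : ℕ) : ZMod ℓ) + ((e - 2 : ℕ) : ZMod ℓ) = ((2 * e : ℕ) : ZMod ℓ) := by
      rw [← Nat.cast_add]; congr 1; omega
    have e3 : ((1 : ℕ) : ZMod ℓ) + ((e - 2 : ℕ) : ZMod ℓ) = ((e - 1 : ℕ) : ZMod ℓ) := by
      rw [← Nat.cast_add]; congr 1; omega
    rw [e1, e2, e3] at h1
    exact h1
  have hnd5 : [((2 * e : ℕ) : ZMod ℓ), ((2 + e : ℕ) : ZMod ℓ), ((1 : ℕ) : ZMod ℓ),
      ((e - 1 : ℕ) : ZMod ℓ), ((3 * e - 2 : ℕ) : ZMod ℓ)].Nodup := by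
    have : (List.map (fun a : ℕ => ((a : ℕ) : ZMod ℓ))
        [2 * e, 2 + e, 1, e - 1, 3 * e - 2]).Nodup := by
      apply h20_nodup_map_window ℓ 0
      · simp only [List.nodup_cons, List.mem_cons, List.mem_singleton, List.not_mem_nil, not_or,
          List.nodup_nil, or_false, not_false_eq_true, and_true]
        omega
      · intro a ha
        simp only [List.mem_cons, List.mem_singleton, List.not_mem_nil, or_false] at ha
        omega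
    exact this
  have hne : ∀ i j : Fin 5, i ≠ j →
      [((2 * e : ℕ) : ZMod ℓ), ((2 + e : ℕ) : ZMod ℓ), ((1 : ℕ) : ZMod ℓ),
      ((e - 1 : ℕ) : ZMod ℓ), ((3 * e - 2 : ℕ) : ZMod ℓ)].get i ≠
      [((2 * e : ℕ) : ZMod ℓ), ((2 + e : ℕ) : ZMod ℓ), ((1 : ℕ) : ZMod ℓ),
      ((e - 1 : ℕ) : ZMod ℓ), ((3 * e - 2 : ℕ) : ZMod ℓ)].get j :=
    fun i j hij h => hij (List.nodup_iff_injective_get.mp hnd5 h)
  have hrot := h20_swap_rot ((3 * e - 2 : ℕ) : ZMod ℓ) ((2 * e : ℕ) : ZMod ℓ)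
    ((e - 1 : ℕ) : ZMod ℓ) (hne 4 0 (by decide)) (hne 4 3 (by decide)) (hne 0 3 (by decide))
  rw [hrot] at hρ'K
  exact not_solvable_of_threeCycles K _ _ _ _ _ hnd5 hρK hρ'K

end Cfsg.Agent.Lib.Helper24.APF
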