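import Mathlib
import Cfsg.Agent.Lib.Helper24.APF.Defs
import Cfsg.Agent.Lib.Helper20.APFTool
import Cfsg.Agent.Lib.Helper13.APFCERT1

/-!
# Project APF (S2276), piece CDne3: matched even case, `p ≠ 3`
-/

set_option autoImplicit false
set_option maxRecDepth 100000

namespace Cfsg.Agent.Lib.Helper24.APF

open Equiv

theorem h20_three_ne_pow (p : ℕ) (hp3 : p ≠ 3) (k : ℕ) : (3 : ℕ) ≠ p ^ k := by
  intro h
  rcases k with _ | k
  · simp at h
  · have hd : p ∣ 3 := by rw [h]; exact dvd_pow_self p (by omega)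
    rcases (Nat.dvd_prime Nat.prime_three).mp hd with h1 | h1
    · subst h1; simp at h
    · exact hp3 h1

theorem good_matched_even_ne3 (p ℓ : ℕ) [NeZero ℓ] (hp : Odd p) (hp3 : p ≠ 3) (hℓ : Odd ℓ)
    (h5 : 5 ≤ ℓ) :
    Good p (Equiv.addRight (1 : ZMod ℓ))
      ((swap 1 2 * swap 2 3) * (Equiv.addRight (1 : ZMod ℓ))⁻¹ *
        (swap (1 : ZMod ℓ) 2 * swap 2 3)⁻¹) := by
  have hnd : [(2 : ZMod ℓ), 1, 4, 5, 3].Nodup := by
    have := h20_nodup_map_window ℓ 1 [2, 1, 4, 5, 3] (by decide)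
      (by intro a ha; simp at ha; omega)
    simpa using this
  obtain ⟨ι, hι⟩ : ∃ ι : Fin 5 ↪ ZMod ℓ, ι = h20_emb _ hnd := ⟨_, rfl⟩
  have hι0 : ι 0 = 2 := by rw [hι]; rfl
  have hι1 : ι 1 = 1 := by rw [hι]; rfl
  have hι2 : ι 2 = 4 := by rw [hι]; rfl
  have hι3 : ι 3 = 5 := by rw [hι]; rfl
  have hι4 : ι 4 = 3 := by rw [hι]; rfl
  -- the product `σ * W`
  have e12 : (1 : ZMod ℓ) + 1 = 2 := by norm_num
  have e23 : (2 : ZMod ℓ) + 1 = 3 := by norm_num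
  have e34 : (3 : ZMod ℓ) + 1 = 4 := by norm_num
  have e45 : (4 : ZMod ℓ) + 1 = 5 := by norm_num
  have hconj : Equiv.addRight (1 : ZMod ℓ) * (swap 1 2 * swap 2 3) *
      (Equiv.addRight (1 : ZMod ℓ))⁻¹ = swap 2 3 * swap 3 4 := by
    have : Equiv.addRight (1 : ZMod ℓ) * (swap 1 2 * swap 2 3) * (Equiv.addRight (1 : ZMod ℓ))⁻¹ =
        (Equiv.addRight (1 : ZMod ℓ) * swap 1 2 * (Equiv.addRight (1 : ZMod ℓ))⁻¹) *
        (Equiv.addRight (1 : ZMod ℓ) * swap 2 3 * (Equiv.addRight (1 : ZMod ℓ))⁻¹) := by group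
    rw [this, h20_addRight_conj_swap, h20_addRight_conj_swap, e12, e23, e34]
  have key1 : (swap (0 : Fin 5) 4 * swap 4 2 * (swap 1 0 * swap 0 4)⁻¹ : Perm (Fin 5)) =
      swap 0 1 * swap 1 2 := by decide +kernel
  have key2 : (swap (4 : Fin 5) 0 * swap 0 3 : Perm (Fin 5)) = swap 0 3 * swap 3 4 := by
    decide +kernel
  have hρ : Equiv.addRight (1 : ZMod ℓ) * ((swap 1 2 * swap 2 3) *
      (Equiv.addRight (1 : ZMod ℓ))⁻¹ * (swap (1 : ZMod ℓ) 2 * swap 2 3)⁻¹) =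
      swap 2 1 * swap 1 4 := by
    have h1 : Equiv.addRight (1 : ZMod ℓ) * ((swap 1 2 * swap 2 3) *
        (Equiv.addRight (1 : ZMod ℓ))⁻¹ * (swap (1 : ZMod ℓ) 2 * swap 2 3)⁻¹) =
        (Equiv.addRight (1 : ZMod ℓ) * (swap 1 2 * swap 2 3) * (Equiv.addRight (1 : ZMod ℓ))⁻¹) *
        (swap (1 : ZMod ℓ) 2 * swap 2 3)⁻¹ := by group
    rw [h1, hconj]
    have h2 := congrArg (Equiv.Perm.viaEmbeddingHom ι) key1
    simp only [map_mul, map_inv, h20_via_swap, hι0, hι1, hι2, hι4] at h2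
    exact h2
  have hρ' : Equiv.addRight (1 : ZMod ℓ) * (swap 2 1 * swap 1 4) *
      (Equiv.addRight (1 : ZMod ℓ))⁻¹ = swap (2 : ZMod ℓ) 5 * swap 5 3 := by
    have : Equiv.addRight (1 : ZMod ℓ) * (swap 2 1 * swap 1 4) * (Equiv.addRight (1 : ZMod ℓ))⁻¹ =
        (Equiv.addRight (1 : ZMod ℓ) * swap 2 1 * (Equiv.addRight (1 : ZMod ℓ))⁻¹) *
        (Equiv.addRight (1 : ZMod ℓ) * swap 1 4 * (Equiv.addRight (1 : ZMod ℓ))⁻¹) := by group
    rw [this, h20_addRight_conj_swap, h20_addRight_conj_swap, e12, e23, e45]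
    have h2 := congrArg (Equiv.Perm.viaEmbeddingHom ι) key2
    simp only [map_mul, h20_via_swap, hι0, hι3, hι4] at h2
    exact h2
  have hne : ∀ i j : Fin 5, i ≠ j → ι i ≠ ι j := fun i j hij h => hij (ι.injective h)
  constructor
  · rintro ⟨k, hk⟩
    rw [hρ] at hk
    have h3 : Equiv.Perm.IsThreeCycle (swap (2 : ZMod ℓ) 1 * swap 1 4) := by
      have := h20_isThreeCycle_swap_mul_swap (ι 0) (ι 1) (ι 2) (hne _ _ (by decide))
        (hne _ _ (by decide)) (hne _ _ (by decide))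
      rwa [hι0, hι1, hι2] at this
    rw [h3.orderOf] at hk
    exact h20_three_ne_pow p hp3 k hk
  · have hσK : Equiv.addRight (1 : ZMod ℓ) ∈ Subgroup.closure
        ({Equiv.addRight (1 : ZMod ℓ), (swap 1 2 * swap 2 3) * (Equiv.addRight (1 : ZMod ℓ))⁻¹ *
        (swap (1 : ZMod ℓ) 2 * swap 2 3)⁻¹} : Set (Perm (ZMod ℓ))) :=
      Subgroup.subset_closure (by simp)
    have hWK : (swap 1 2 * swap 2 3) * (Equiv.addRight (1 : ZMod ℓ))⁻¹ *
        (swap (1 : ZMod ℓ) 2 * swap 2 3)⁻¹ ∈ Subgroup.closure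
        ({Equiv.addRight (1 : ZMod ℓ), (swap 1 2 * swap 2 3) * (Equiv.addRight (1 : ZMod ℓ))⁻¹ *
        (swap (1 : ZMod ℓ) 2 * swap 2 3)⁻¹} : Set (Perm (ZMod ℓ))) :=
      Subgroup.subset_closure (by simp)
    have hρK := Subgroup.mul_mem _ hσK hWK
    rw [hρ] at hρK
    have hρK' := Subgroup.mul_mem _ (Subgroup.mul_mem _ hσK hρK) (Subgroup.inv_mem _ hσK)
    rw [hρ'] at hρK'
    exact not_solvable_of_threeCycles _ (2 : ZMod ℓ) 1 4 5 3 hnd hρK hρK'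

end Cfsg.Agent.Lib.Helper24.APF
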