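import Mathlib
import Cfsg.Prelude.Def_GeometricClasses
import Cfsg.Agent.Lib.Helper27.ASC.Defs
import Cfsg.Agent.Lib.helper23.ASCO.Defs
import Cfsg.Agent.Lib.Helper19.ASG.Defs
import Cfsg.Agent.Lib.Helper9.ASGD2T.Defs
import Cfsg.Agent.Lib.Helper25.ASO.Defs
import Cfsg.Agent.Lib.Helper25.ASO.DefsD2T
import Cfsg.Agent.Lib.Helper25.ASOADJ
import Cfsg.Agent.Lib.Helper11.ASGD2TPTMUL
import Cfsg.Agent.Lib.Helper1.ASGD2TCENTSTD
import Cfsg.Agent.Lib.Helper20.ASGALG

set_option autoImplicit false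
set_option linter.unusedVariables false
set_option linter.unusedSectionVars false

/-!
# Project ASO, block D2T, piece GRAM1 : `opower_gram` (verbatim vs `Helper25/ASO/SkelD2T`)

If the adjoint preserves every tensor factor, the Gram matrix in tensor coordinates is a non-zero scalar multiple of a pure
tensor of invertible matrices.
-/

namespace Cfsg.Agent.Lib.Helper25.ASO

open Cfsg Cfsg.Geo Cfsg.Agent.Lib.Helper27.ASC Cfsg.Agent.Lib.helper23.ASCO Cfsg.Agent.Lib.Helper19.ASG
open scoped MatrixGroups Matrix Kronecker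

variable {n : ℕ} {F : Type*} [Field F] [Fintype F]

/-- transpose of a pure tensor -/
theorem asod2tgram1_transpose {m t : ℕ} (c : Fin t → Matrix (Fin m) (Fin m) F) :
    (ptMat c).transpose = ptMat (fun i => (c i).transpose) := by
  ext x y
  simp only [Matrix.transpose_apply, ptMat_apply]

theorem asod2tgram1_single_transpose {m t : ℕ} (i : Fin t) (a : Matrix (Fin m) (Fin m) F) :
    (ptMat (Pi.mulSingle i a)).transpose = ptMat (Pi.mulSingle i a.transpose) := by
  rw [asod2tgram1_transpose]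
  congr 1
  funext j
  by_cases h : j = i
  · subst h
    simp
  · simp [Pi.mulSingle_eq_of_ne h]

theorem asod2tgram1_single_mul {m t : ℕ} (i : Fin t) (a b : Matrix (Fin m) (Fin m) F) :
    ptMat (Pi.mulSingle i (a * b)) = ptMat (Pi.mulSingle i a) * ptMat (Pi.mulSingle i b) := by
  rw [← ptMat_mul, ← Pi.mulSingle_mul]

theorem asod2tgram1_single_one {m t : ℕ} (i : Fin t) :
    ptMat (Pi.mulSingle i (1 : Matrix (Fin m) (Fin m) F)) = 1 := by
  rw [Pi.mulSingle_one, ptMat_one]

/-- the abstract core: an invertible matrix `G'` in tensor coordinates with `P_i(a) G' = G' P_i(a')` for all factors is a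
non-zero scalar multiple of a pure tensor of invertible matrices -/
theorem asod2tgram1_core {m t : ℕ} (G' Gi : Matrix (Fin t → Fin m) (Fin t → Fin m) F)
    (h1 : G' * Gi = 1) (h2 : Gi * G' = 1)
    (hrel : ∀ (i : Fin t) (a : Matrix (Fin m) (Fin m) F), ∃ a' : Matrix (Fin m) (Fin m) F,
      ptMat (Pi.mulSingle i a) * G' = G' * ptMat (Pi.mulSingle i a')) :
    ∃ (A : Fin t → Matrix (Fin m) (Fin m) F) (c : F), c ≠ 0 ∧ (∀ i, IsUnit (A i).det) ∧
      G' = c • ptMat A := by
  classical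
  choose β hβ using hrel
  have hβ' : ∀ i a, ptMat (Pi.mulSingle i (β i a)) = Gi * ptMat (Pi.mulSingle i a) * G' := by
    intro i a
    rw [Matrix.mul_assoc, hβ i a, ← Matrix.mul_assoc, h2, Matrix.one_mul]
  have hmul : ∀ i a b, β i (a * b) = β i a * β i b := by
    intro i a b
    apply ptMat_single_injective i
    rw [asod2tgram1_single_mul, hβ', hβ', hβ', asod2tgram1_single_mul]
    calc Gi * (ptMat (Pi.mulSingle i a) * ptMat (Pi.mulSingle i b)) * G'
        = Gi * ptMat (Pi.mulSingle i a) * (1 * (ptMat (Pi.mulSingle i b) * G')) := by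
          rw [Matrix.one_mul]
          simp only [Matrix.mul_assoc]
      _ = Gi * ptMat (Pi.mulSingle i a) * ((G' * Gi) * (ptMat (Pi.mulSingle i b) * G')) := by rw [h1]
      _ = _ := by simp only [Matrix.mul_assoc]
  have hone : ∀ i, β i 1 = 1 := by
    intro i
    apply ptMat_single_injective i
    rw [hβ', asod2tgram1_single_one, Matrix.mul_one, h2]
  have hadd : ∀ i a b, β i (a + b) = β i a + β i b := by
    intro i a b
    apply ptMat_single_injective i
    rw [ptMat_single_add, hβ', hβ', hβ', ptMat_single_add, Matrix.mul_add, Matrix.add_mul]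
  have hsmul : ∀ i (r : F) a, β i (r • a) = r • β i a := by
    intro i r a
    apply ptMat_single_injective i
    rw [ptMat_single_smul, hβ', hβ', ptMat_single_smul, Matrix.mul_smul, Matrix.smul_mul]
  have hzero : ∀ i, β i 0 = 0 := by
    intro i
    have := hsmul i 0 0
    rw [zero_smul, zero_smul] at this
    exact this
  let φ : ∀ i : Fin t, Matrix (Fin m) (Fin m) F →ₐ[F] Matrix (Fin m) (Fin m) F := fun i =>
    { toFun := β i
      map_one' := hone i
      map_mul' := hmul i
      map_zero' := hzero i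
      map_add' := hadd i
      commutes' := fun r => by
        rw [Algebra.algebraMap_eq_smul_one]
        show β i (r • 1) = r • 1
        rw [hsmul, hone] }
  choose C hC using fun i => Cfsg.Agent.Lib.Helper20.ASGALG.asgalg_aut_inner (φ i)
  have hC' : ∀ i a, β i a = (C i : Matrix (Fin m) (Fin m) F) * a *
      (((C i)⁻¹ : GL (Fin m) F) : Matrix (Fin m) (Fin m) F) := fun i a => hC i a
  set Cm : Fin t → Matrix (Fin m) (Fin m) F := fun i => (C i : Matrix (Fin m) (Fin m) F) with hCm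
  set A : Fin t → Matrix (Fin m) (Fin m) F :=
    fun i => (((C i)⁻¹ : GL (Fin m) F) : Matrix (Fin m) (Fin m) F) with hA
  have hCA : ptMat Cm * ptMat A = 1 := by
    rw [← ptMat_mul]
    have : Cm * A = 1 := by
      funext i
      show (C i : Matrix (Fin m) (Fin m) F) * (((C i)⁻¹ : GL (Fin m) F) : Matrix (Fin m) (Fin m) F) = 1
      rw [← Units.val_mul, mul_inv_cancel, Units.val_one]
    rw [this, ptMat_one]
  have hX : ∀ (i : Fin t) (a : Matrix (Fin m) (Fin m) F),
      (G' * ptMat Cm) * ptMat (Pi.mulSingle i a) = ptMat (Pi.mulSingle i a) * (G' * ptMat Cm) := by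
    intro i a
    rw [Matrix.mul_assoc, ← ptMat_mul, ← Matrix.mul_assoc, hβ i a, Matrix.mul_assoc, ← ptMat_mul]
    congr 2
    funext j
    by_cases hj : j = i
    · subst hj
      show (C j : Matrix (Fin m) (Fin m) F) * (Pi.mulSingle j a : Fin t → Matrix (Fin m) (Fin m) F) j =
        (Pi.mulSingle j (β j a) : Fin t → Matrix (Fin m) (Fin m) F) j * (C j : Matrix (Fin m) (Fin m) F)
      rw [Pi.mulSingle_eq_same, Pi.mulSingle_eq_same, hC', Matrix.mul_assoc, ← Units.val_mul,
        inv_mul_cancel, Units.val_one, Matrix.mul_one]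
    · show (C j : Matrix (Fin m) (Fin m) F) * (Pi.mulSingle i a : Fin t → Matrix (Fin m) (Fin m) F) j =
        (Pi.mulSingle i (β i a) : Fin t → Matrix (Fin m) (Fin m) F) j * (C j : Matrix (Fin m) (Fin m) F)
      rw [Pi.mulSingle_eq_of_ne hj, Pi.mulSingle_eq_of_ne hj, Matrix.mul_one, Matrix.one_mul]
  obtain ⟨c, hc⟩ := ptMat_cent (G' * ptMat Cm) hX
  have hG' : G' = c • ptMat A := by
    calc G' = G' * (ptMat Cm * ptMat A) := by rw [hCA, Matrix.mul_one]
      _ = (G' * ptMat Cm) * ptMat A := by rw [Matrix.mul_assoc]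
      _ = c • ptMat A := by rw [hc, Matrix.smul_mul, Matrix.one_mul]
  have hAu : ∀ i, IsUnit (A i).det := by
    intro i
    rw [← Matrix.isUnit_iff_isUnit_det]
    exact ((C i)⁻¹).isUnit
  by_cases hc0 : c = 0
  · -- degenerate case: the index type is empty
    have h0 : G' = 0 := by rw [hG', hc0, zero_smul]
    have h01 : (0 : Matrix (Fin t → Fin m) (Fin t → Fin m) F) = 1 := by
      rw [← h1, h0, Matrix.zero_mul]
    have : Subsingleton (Matrix (Fin t → Fin m) (Fin t → Fin m) F) := subsingleton_of_zero_eq_one h01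
    exact ⟨A, 1, one_ne_zero, hAu, Subsingleton.elim _ _⟩
  · exact ⟨A, c, hc0, hAu, hG'⟩

/-- a bilinear expression read in tensor coordinates -/
theorem asod2tgram1_sum {m t : ℕ} (e : Fin n ≃ (Fin t → Fin m)) (H : Matrix (Fin n) (Fin n) F)
    (G' : Matrix (Fin t → Fin m) (Fin t → Fin m) F) (hH : ∀ i j, H i j = G' (e i) (e j))
    (x y : (Fin t → Fin m) → F) :
    (x ∘ e) ⬝ᵥ (H *ᵥ (y ∘ e)) = ∑ a, ∑ b, x a * G' a b * y b := by
  simp only [dotProduct, Matrix.mulVec, Function.comp]
  rw [← Equiv.sum_comp e]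
  apply Finset.sum_congr rfl
  intro i _
  rw [Finset.mul_sum, ← Equiv.sum_comp e]
  apply Finset.sum_congr rfl
  intro j _
  rw [hH]
  ring

/-- D2T-GRAM1 -/
theorem opower_gram (Q : QuadraticForm F (Fin n → F)) (hQ : (QuadraticMap.polarBilin Q).Nondegenerate)
    {m t : ℕ} (ht : 0 < t) (e : Fin n ≃ (Fin t → Fin m)) (B : GL (Fin n) F)
    (hstar : ∀ (i : Fin t) (a : Matrix (Fin m) (Fin m) F), ∃ a' : Matrix (Fin m) (Fin m) F,
      oadj (⇑Q) ((B : Matrix (Fin n) (Fin n) F) * Matrix.reindex e.symm e.symm (ptMat (Pi.mulSingle i a)) *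
          ((B⁻¹ : GL (Fin n) F) : Matrix (Fin n) (Fin n) F)) =
        (B : Matrix (Fin n) (Fin n) F) * Matrix.reindex e.symm e.symm (ptMat (Pi.mulSingle i a')) *
          ((B⁻¹ : GL (Fin n) F) : Matrix (Fin n) (Fin n) F)) :
    ∃ (A : Fin t → Matrix (Fin m) (Fin m) F) (c : F), c ≠ 0 ∧ (∀ i, IsUnit (A i).det) ∧
      IsPtGram (QuadraticMap.polar (⇑Q)) e B c A := by
  classical
  set G : Matrix (Fin n) (Fin n) F := gramMatrix (QuadraticMap.polar (⇑Q)) with hGdef
  set Bm : Matrix (Fin n) (Fin n) F := (B : Matrix (Fin n) (Fin n) F) with hBm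
  set Bi : Matrix (Fin n) (Fin n) F := ((B⁻¹ : GL (Fin n) F) : Matrix (Fin n) (Fin n) F) with hBi
  have hBBi : Bm * Bi = 1 := by rw [hBm, hBi, ← Units.val_mul, mul_inv_cancel, Units.val_one]
  have hBiB : Bi * Bm = 1 := by rw [hBm, hBi, ← Units.val_mul, inv_mul_cancel, Units.val_one]
  have hBBiT : Bm.transpose * Bi.transpose = 1 := by
    rw [← Matrix.transpose_mul, hBiB, Matrix.transpose_one]
  have hBiBT : Bi.transpose * Bm.transpose = 1 := by
    rw [← Matrix.transpose_mul, hBBi, Matrix.transpose_one]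
  have hGGi : G * G⁻¹ = 1 := asoadj_mul_inv Q hQ
  have hGiG : G⁻¹ * G = 1 := asoadj_inv_mul Q hQ
  set H : Matrix (Fin n) (Fin n) F := Bm.transpose * G * Bm with hH
  set ψ : Matrix (Fin t → Fin m) (Fin t → Fin m) F ≃ₐ[F] Matrix (Fin n) (Fin n) F :=
    Matrix.reindexAlgEquiv F F e.symm with hψ
  have hψapp : ∀ M : Matrix (Fin t → Fin m) (Fin t → Fin m) F, ψ M = Matrix.reindex e.symm e.symm M :=
    fun M => congrFun (Matrix.coe_reindexAlgEquiv F F e.symm) M
  have hψT : ∀ M : Matrix (Fin t → Fin m) (Fin t → Fin m) F, (ψ M).transpose = ψ M.transpose := by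
    intro M
    rw [hψapp, hψapp, Matrix.transpose_reindex]
  set G' : Matrix (Fin t → Fin m) (Fin t → Fin m) F := ψ.symm H with hG'
  set Gi' : Matrix (Fin t → Fin m) (Fin t → Fin m) F := ψ.symm (Bi * G⁻¹ * Bi.transpose) with hGi'
  have h1 : G' * Gi' = 1 := by
    rw [hG', hGi', ← map_mul, hH]
    have : Bm.transpose * G * Bm * (Bi * G⁻¹ * Bi.transpose) = 1 := by
      calc Bm.transpose * G * Bm * (Bi * G⁻¹ * Bi.transpose)
          = Bm.transpose * G * (Bm * Bi) * G⁻¹ * Bi.transpose := by simp only [Matrix.mul_assoc]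
        _ = Bm.transpose * (G * G⁻¹) * Bi.transpose := by
            rw [hBBi, Matrix.mul_one]
            simp only [Matrix.mul_assoc]
        _ = 1 := by rw [hGGi, Matrix.mul_one, hBBiT]
    rw [this, map_one]
  have h2 : Gi' * G' = 1 := by
    rw [hG', hGi', ← map_mul, hH]
    have : Bi * G⁻¹ * Bi.transpose * (Bm.transpose * G * Bm) = 1 := by
      calc Bi * G⁻¹ * Bi.transpose * (Bm.transpose * G * Bm)
          = Bi * G⁻¹ * (Bi.transpose * Bm.transpose) * G * Bm := by simp only [Matrix.mul_assoc]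
        _ = Bi * (G⁻¹ * G) * Bm := by
            rw [hBiBT, Matrix.mul_one]
            simp only [Matrix.mul_assoc]
        _ = 1 := by rw [hGiG, Matrix.mul_one, hBiB]
    rw [this, map_one]
  have hrel : ∀ (i : Fin t) (a : Matrix (Fin m) (Fin m) F), ∃ a' : Matrix (Fin m) (Fin m) F,
      ptMat (Pi.mulSingle i a) * G' = G' * ptMat (Pi.mulSingle i a') := by
    intro i a
    obtain ⟨a', ha'⟩ := hstar i a.transpose
    refine ⟨a', ?_⟩
    apply ψ.injective
    rw [map_mul, map_mul, hG', ψ.apply_symm_apply]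
    rw [← hψapp, ← hψapp] at ha'
    have h3 := asoadj_gram_mul Q hQ (Bm * ψ (ptMat (Pi.mulSingle i a.transpose)) * Bi)
    rw [ha'] at h3
    rw [Matrix.transpose_mul, Matrix.transpose_mul, hψT, asod2tgram1_single_transpose,
      Matrix.transpose_transpose] at h3
    -- h3 : G * (Bm * ψ P' * Bi) = Biᵀ * (ψ P * Bmᵀ) * G
    have h4 : Bm.transpose * (G * (Bm * ψ (ptMat (Pi.mulSingle i a')) * Bi)) * Bm =
        Bm.transpose * (Bi.transpose * (ψ (ptMat (Pi.mulSingle i a)) * Bm.transpose) * G) * Bm := by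
      rw [h3]
    have h5 : Bm.transpose * (G * (Bm * ψ (ptMat (Pi.mulSingle i a')) * Bi)) * Bm =
        H * ψ (ptMat (Pi.mulSingle i a')) := by
      calc Bm.transpose * (G * (Bm * ψ (ptMat (Pi.mulSingle i a')) * Bi)) * Bm
          = Bm.transpose * G * Bm * ψ (ptMat (Pi.mulSingle i a')) * (Bi * Bm) := by
            simp only [Matrix.mul_assoc]
        _ = H * ψ (ptMat (Pi.mulSingle i a')) := by rw [hBiB, Matrix.mul_one]
    have h6 : Bm.transpose * (Bi.transpose * (ψ (ptMat (Pi.mulSingle i a)) * Bm.transpose) * G) * Bm =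
        ψ (ptMat (Pi.mulSingle i a)) * H := by
      calc Bm.transpose * (Bi.transpose * (ψ (ptMat (Pi.mulSingle i a)) * Bm.transpose) * G) * Bm
          = (Bm.transpose * Bi.transpose) * ψ (ptMat (Pi.mulSingle i a)) * (Bm.transpose * G * Bm) := by
            simp only [Matrix.mul_assoc]
        _ = ψ (ptMat (Pi.mulSingle i a)) * H := by rw [hBBiT, Matrix.one_mul]
    rw [h5, h6] at h4
    exact h4.symm
  obtain ⟨A, c, hc, hA, hGA⟩ := asod2tgram1_core G' Gi' h1 h2 hrel
  refine ⟨A, c, hc, hA, ?_⟩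
  intro x y
  have hHG' : ∀ i j, H i j = G' (e i) (e j) := by
    intro i j
    have h7 : ψ G' = H := ψ.apply_symm_apply H
    rw [← h7, hψapp]
    simp [Matrix.reindex_apply, Matrix.submatrix_apply]
  have h8 : QuadraticMap.polar (⇑Q) (Bm *ᵥ (x ∘ e)) (Bm *ᵥ (y ∘ e)) = (x ∘ e) ⬝ᵥ (H *ᵥ (y ∘ e)) := by
    rw [asoadj_polar_eq, hH, ← Matrix.mulVec_mulVec, ← Matrix.mulVec_mulVec,
      Matrix.dotProduct_mulVec (x ∘ e) Bm.transpose, Matrix.vecMul_transpose]
  rw [h8, asod2tgram1_sum e H G' hHG' x y, hGA, Finset.mul_sum]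
  apply Finset.sum_congr rfl
  intro a _
  rw [Finset.mul_sum]
  apply Finset.sum_congr rfl
  intro b _
  rw [Matrix.smul_apply, ptMat_apply, smul_eq_mul]
  ring

end Cfsg.Agent.Lib.Helper25.ASO
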