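import Mathlib
import Cfsg.Prelude.Def_GeometricClasses
import Cfsg.Agent.Lib.Helper27.ASC.Defs
import Cfsg.Agent.Lib.Helper19.ASG.Defs
import Cfsg.Agent.Lib.Helper26.ASGD1.Defs
import Cfsg.Agent.Lib.Helper19.ASU.Defs

set_option autoImplicit false
set_option linter.unusedVariables false
set_option linter.unusedSectionVars false
set_option linter.style.haveILetI false

/-!
# Project ASU, block D1, piece D1-MIN : minimal field for the `z`-th roots of unity, or a proper subfield has them (verbatim)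
-/

namespace Cfsg.Agent.Lib.Helper19.ASU

open Cfsg Cfsg.Geo Cfsg.Agent.Lib.Helper27.ASC Cfsg.Agent.Lib.Helper19.ASG
open scoped MatrixGroups Matrix

variable {n : ℕ} {F : Type*} [Field F] [Fintype F]

/-- if `z ∣ p ^ j - 1` with `0 < j < e`, the subfield of order `p ^ j` is proper and contains the `z`-th roots of unity
(copy of `asgd1field4_sub` of helper24 with `z` for `4`) -/
theorem asud1min_sub (z p e j : ℕ) [hp : Fact p.Prime] [CharP F p] (hcard : Fintype.card F = p ^ e)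
    (hj : 0 < j) (hje : j < e) (hzj : z ∣ p ^ j - 1) :
    ∃ F₀ : Subfield F, F₀ ≠ ⊤ ∧ ∀ c : Fˣ, c ^ z = 1 → (c : F) ∈ F₀ := by
  classical
  have hp1 : 1 < p := hp.out.one_lt
  have hpj1 : 1 ≤ p ^ j := Nat.one_le_pow _ _ (by omega)
  refine ⟨(iterateFrobenius F p j).eqLocusField (RingHom.id F), ?_, ?_⟩
  · intro htop
    obtain ⟨g, hg⟩ := IsCyclic.exists_ofOrder_eq_natCard (α := Fˣ)
    have hgmem : (g : F) ∈ (iterateFrobenius F p j).eqLocusField (RingHom.id F) := by
      rw [htop]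
      trivial
    rw [RingHom.mem_eqLocusField, iterateFrobenius_def, RingHom.id_apply] at hgmem
    have h1 : g ^ (p ^ j - 1) = 1 := by
      apply Units.ext
      rw [Units.val_pow_eq_pow_val, Units.val_one]
      have h2 : (g : F) ^ (p ^ j - 1) * (g : F) = (g : F) := by
        rw [← pow_succ, Nat.sub_add_cancel hpj1, hgmem]
      exact mul_right_cancel₀ g.ne_zero (by rw [h2, one_mul])
    have h3 : orderOf g ∣ p ^ j - 1 := orderOf_dvd_of_pow_eq_one h1
    rw [hg, Nat.card_eq_fintype_card, Fintype.card_units, hcard] at h3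
    have h4 : p ^ j < p ^ e := Nat.pow_lt_pow_right hp1 hje
    have h5 : 1 < p ^ j := Nat.one_lt_pow (by omega) hp1
    have h6 : p ^ e - 1 ≤ p ^ j - 1 := Nat.le_of_dvd (by omega) h3
    omega
  · intro c hc
    rw [RingHom.mem_eqLocusField, iterateFrobenius_def, RingHom.id_apply]
    obtain ⟨t, ht⟩ := hzj
    have h1 : c ^ (p ^ j - 1) = 1 := by
      rw [ht, pow_mul, hc, one_pow]
    have h2 : (c : F) ^ (p ^ j - 1) = 1 := by
      rw [← Units.val_pow_eq_pow_val, h1, Units.val_one]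
    calc (c : F) ^ p ^ j = (c : F) ^ (p ^ j - 1) * (c : F) := by
          rw [← pow_succ, Nat.sub_add_cancel hpj1]
      _ = (c : F) := by rw [h2, one_mul]

/-- D1-MIN : `F` is the minimal field of its characteristic containing the `z`-th roots of unity, or they all lie in a proper
subfield.  `|F| = p ^ E`, `z ∣ p ^ E - 1`; `e₀ = Nat.find` of `0 < d ∧ z ∣ p ^ d - 1`; `e₀ = E`: minimal; `e₀ < E`: the subfield
`{x | x ^ (p ^ e₀) = x}` (copy of Helper24.ASGD1FIELD4 `asgd1field4_sub` with `z` for `4`). -/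
theorem ud1_min (z : ℕ) (ζ : Fˣ) (hζ : orderOf ζ = z) :
    (∃ p e : ℕ, IsMinimalFieldFor z p e F) ∨
    (∃ F₀ : Subfield F, F₀ ≠ ⊤ ∧ ∀ c : Fˣ, c ^ z = 1 → (c : F) ∈ F₀) := by
  classical
  obtain ⟨p, hp⟩ := CharP.exists F
  haveI := hp
  haveI : Fact p.Prime := ⟨CharP.char_is_prime F p⟩
  obtain ⟨e, hpp, hcard⟩ := FiniteField.card F p
  have he : 0 < (e : ℕ) := e.pos
  have hz : z ∣ p ^ (e : ℕ) - 1 := by
    rw [← hcard, ← Fintype.card_units, ← hζ]
    exact orderOf_dvd_card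
  have hex : ∃ d, 0 < d ∧ z ∣ p ^ d - 1 := ⟨e, he, hz⟩
  obtain ⟨h0, hz0⟩ := Nat.find_spec hex
  have hle : Nat.find hex ≤ (e : ℕ) := Nat.find_min' hex ⟨he, hz⟩
  rcases hle.lt_or_eq with hlt | heq
  · exact Or.inr (asud1min_sub z p e (Nat.find hex) hcard h0 hlt hz0)
  · refine Or.inl ⟨p, e, hpp, hp, hcard, hz, ?_⟩
    intro d hd0 hde hzd
    have := Nat.find_min' hex ⟨hd0, hzd⟩
    omega

end Cfsg.Agent.Lib.Helper19.ASU
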