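import Mathlib
import Cfsg.Prelude.Def_GeometricClasses
import Cfsg.Agent.Lib.Helper27.ASC.Defs
import Cfsg.Agent.Lib.Helper19.ASG.Defs
import Cfsg.Agent.Lib.Helper26.ASGD1.Defs
import Cfsg.Agent.Lib.Helper19.ASU.Defs

set_option autoImplicit false
set_option linter.unusedVariables false
set_option linter.unusedSectionVars false
set_option linter.style.haveILetI false

/-!
# Project ASU, block D1, piece D1-SIM : `R ≤ N ⊔ Z`, `N ≤ GU`, exponent `k` : similitudes with `k`-th roots of unity as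
multipliers (verbatim)
-/

namespace Cfsg.Agent.Lib.Helper19.ASU

open Cfsg Cfsg.Geo Cfsg.Agent.Lib.Helper27.ASC Cfsg.Agent.Lib.Helper19.ASG
open scoped MatrixGroups Matrix

variable {n : ℕ} {F : Type*} [Field F] [Fintype F]

omit [Fintype F] in
/-- the scalars are a normal subgroup of `GL_n` -/
theorem asud1sim_scalars_normal : (scalars (Fin n) F).Normal := by
  constructor
  intro s hs g
  obtain ⟨c, rfl⟩ := (mem_scalars_iff_d1scal s).1 hs
  rw [← d1scal_comm, mul_inv_cancel_right]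
  exact d1scal_mem c

omit [Fintype F] in
/-- the hermitian form on scalar multiples -/
theorem asud1sim_herm_smul (q : ℕ) (c : F) (u v : Fin n → F) :
    hermForm n F q (c • u) (c • v) = c ^ (q + 1) * hermForm n F q u v := by
  unfold hermForm
  rw [Finset.mul_sum]
  apply Finset.sum_congr rfl
  intro i _
  simp only [Pi.smul_apply, smul_eq_mul, mul_pow]
  ring

omit [Fintype F] in
/-- the hermitian norm of a standard basis vector is `1` -/
theorem asud1sim_herm_single (q : ℕ) (i₀ : Fin n) :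
    hermForm n F q (Pi.single i₀ 1) (Pi.single i₀ 1) = 1 := by
  unfold hermForm
  rw [Finset.sum_eq_single i₀]
  · simp
  · intro j _ hj
    rw [Pi.single_eq_of_ne hj, zero_mul]
  · intro h
    exact absurd (Finset.mem_univ i₀) h

omit [Fintype F] in
/-- the action of a scalar matrix -/
theorem asud1sim_d1scal_mulVec (c : Fˣ) (u : Fin n → F) :
    ((d1scal c : GL (Fin n) F) : Matrix (Fin n) (Fin n) F) *ᵥ u = (c : F) • u := by
  rw [d1scal_coe, Matrix.smul_mulVec, Matrix.one_mulVec]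

omit [Fintype F] in
/-- a scalar of `GU_n`, `0 < n`, has norm one -/
theorem asud1sim_scalar_GU (hn : 0 < n) (q : ℕ) (d : Fˣ) (hd : (d1scal d : GL (Fin n) F) ∈ GU n F q) :
    d ^ (q + 1) = 1 := by
  have h1 : hermForm n F q (((d1scal d : GL (Fin n) F) : Matrix (Fin n) (Fin n) F) *ᵥ (Pi.single ⟨0, hn⟩ 1))
      (((d1scal d : GL (Fin n) F) : Matrix (Fin n) (Fin n) F) *ᵥ (Pi.single ⟨0, hn⟩ 1)) =
      hermForm n F q (Pi.single ⟨0, hn⟩ 1) (Pi.single ⟨0, hn⟩ 1) := hd _ _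
  rw [asud1sim_d1scal_mulVec, asud1sim_herm_smul, asud1sim_herm_single, mul_one] at h1
  apply Units.ext
  rw [Units.val_pow_eq_pow_val, h1, Units.val_one]

omit [Fintype F] in
/-- the core of D1-SIM : every element of `R` is a similitude whose multiplier is a `k`-th root of unity -/
theorem asud1sim_core (hn : 0 < n) (q : ℕ) {N R : Subgroup (GL (Fin n) F)} (hNU : N ≤ GU n F q)
    (hRN : R ≤ N ⊔ scalars (Fin n) F) (k : ℕ) (hpow : ∀ y ∈ R, y ^ k = 1) (y : GL (Fin n) F) (hy : y ∈ R) :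
    ∃ μ : Fˣ, μ ^ k = 1 ∧ ∀ u v : Fin n → F,
      hermForm n F q ((y : Matrix (Fin n) (Fin n) F) *ᵥ u) ((y : Matrix (Fin n) (Fin n) F) *ᵥ v) =
        (μ : F) * hermForm n F q u v := by
  haveI := asud1sim_scalars_normal (n := n) (F := F)
  obtain ⟨x, hx, z, hz, hxz⟩ := Subgroup.mem_sup_of_normal_right.1 (hRN hy)
  obtain ⟨c, rfl⟩ := (mem_scalars_iff_d1scal z).1 hz
  have hxU : x ∈ GU n F q := hNU hx
  have hact : ∀ u : Fin n → F, (y : Matrix (Fin n) (Fin n) F) *ᵥ u =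
      (x : Matrix (Fin n) (Fin n) F) *ᵥ ((c : F) • u) := by
    intro u
    rw [← hxz, Units.val_mul, ← Matrix.mulVec_mulVec, asud1sim_d1scal_mulVec]
  refine ⟨c ^ (q + 1), ?_, ?_⟩
  · have h1 := hpow y hy
    have hcomm : Commute x (d1scal c) := (d1scal_comm c x).symm
    rw [← hxz, hcomm.mul_pow, ← d1scal_pow] at h1
    have h2 : x ^ k = d1scal ((c ^ k)⁻¹) := by
      rw [d1scal_inv]
      exact eq_inv_of_mul_eq_one_left h1
    have h3 : (d1scal ((c ^ k)⁻¹) : GL (Fin n) F) ∈ GU n F q := by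
      rw [← h2]
      exact (GU n F q).pow_mem hxU k
    have h4 := asud1sim_scalar_GU hn q _ h3
    rw [inv_pow, inv_eq_one] at h4
    rw [← pow_mul, mul_comm, pow_mul, h4]
  · intro u v
    rw [hact, hact]
    have h1 : hermForm n F q ((x : Matrix (Fin n) (Fin n) F) *ᵥ ((c : F) • u))
        ((x : Matrix (Fin n) (Fin n) F) *ᵥ ((c : F) • v)) = hermForm n F q ((c : F) • u) ((c : F) • v) := hxU _ _
    rw [h1, asud1sim_herm_smul, Units.val_pow_eq_pow_val]

/-- D1-SIM : `R ≤ N ⊔ Z` with `N ≤ GU` and `y ^ k = 1` on `R` consists of similitudes of `hermForm` whose multipliers are `k`-th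
roots of unity.  `y = x * d1scal c` with `x ∈ N` (`Z` is central: `N ⊔ Z = N * Z`, e.g. `Subgroup.mem_sup` for the normal `Z`, or
ASG `mem_scalars_iff_d1scal` + closure induction), multiplier `μ = c ^ (q + 1)`; `y ^ k = 1` gives `x ^ k = d1scal (c⁻¹ ^ k) ∈ GU`,
a scalar `d • 1` of `GU` has `d ^ (q + 1) = 1` (`0 < n`, `Cfsg.Agent.Lib.Lead.ASCU.mem_GU_iff`), so `μ ^ k = 1`. -/
theorem ud1_sim (hn : 0 < n) (q : ℕ) {N R : Subgroup (GL (Fin n) F)} (hNU : N ≤ GU n F q)
    (hRN : R ≤ N ⊔ scalars (Fin n) F) (k : ℕ) (hpow : ∀ y ∈ R, y ^ k = 1) :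
    R ≤ similarityGroup (hermForm n F q) ∧
      ∀ F₀ : Subfield F, (∀ c : Fˣ, c ^ k = 1 → (c : F) ∈ F₀) → UMult q F₀ R := by
  refine ⟨?_, ?_⟩
  · intro y hy
    obtain ⟨μ, _, h⟩ := asud1sim_core hn q hNU hRN k hpow y hy
    exact ⟨μ, h⟩
  · intro F₀ hF₀ y hy
    obtain ⟨μ, hμ, h⟩ := asud1sim_core hn q hNU hRN k hpow y hy
    exact ⟨(μ : F), hF₀ μ hμ, h⟩

end Cfsg.Agent.Lib.Helper19.ASU
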