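import Mathlib
import Cfsg.Agent.S0572
import Cfsg.Agent.S0564

set_option autoImplicit false

namespace Cfsg.Agent.Lib.Helper20.AbClassTwo

open scoped commutatorElement Pointwise

universe u

/-- A factorization with trivial intersection gives the product of the cardinalities. -/
theorem card_of_fact {G : Type*} [Group G] [Finite G] (H K : Subgroup G)
    (h : ∀ g : G, ∃ a ∈ H, ∃ b ∈ K, g = a * b) (hd : H ⊓ K = ⊥) :
    Nat.card G = Nat.card H * Nat.card K := by
  rw [← Nat.card_prod]
  symm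
  apply Nat.card_congr
  refine Equiv.ofBijective (fun x : H × K => (x.1 : G) * x.2) ⟨?_, ?_⟩
  · rintro ⟨a, b⟩ ⟨a', b'⟩ hab
    simp only at hab
    have h1 : (a' : G)⁻¹ * a = b' * (b : G)⁻¹ := by
      have : (a : G) = a' * b' * (b : G)⁻¹ := by rw [← hab]; group
      rw [this]; group
    have h2 : (a' : G)⁻¹ * a ∈ H ⊓ K :=
      ⟨H.mul_mem (H.inv_mem a'.2) a.2, h1 ▸ K.mul_mem b'.2 (K.inv_mem b.2)⟩
    rw [hd, Subgroup.mem_bot] at h2
    have h3 : (a : G) = a' := by
      have : (a : G) = a' * ((a' : G)⁻¹ * a) := by group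
      rw [this, h2, mul_one]
    have h4 : (b : G) = b' := by
      rw [h3] at hab
      exact mul_left_cancel hab
    exact Prod.ext (Subtype.ext h3) (Subtype.ext h4)
  · intro g
    obtain ⟨a, ha, b, hb, rfl⟩ := h g
    exact ⟨(⟨a, ha⟩, ⟨b, hb⟩), rfl⟩

theorem comm_of_gen {G : Type*} [Group G] (A Z : Subgroup G)
    (hA : ∀ x ∈ A, ∀ y ∈ A, x * y = y * x) (hZ : Z ≤ Subgroup.center G)
    (hgen : A ⊔ Z = ⊤) : ∀ x y : G, x * y = y * x := by
  have h1 : A ≤ Subgroup.centralizer (A : Set G) := fun x hx => by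
    rw [Subgroup.mem_centralizer_iff]; intro y hy; exact hA y hy x hx
  have h2 : Z ≤ Subgroup.centralizer (A : Set G) := fun z hz => by
    rw [Subgroup.mem_centralizer_iff]; intro y _
    exact (Subgroup.mem_center_iff.mp (hZ hz) y)
  have h3 : (⊤ : Subgroup G) ≤ Subgroup.centralizer (A : Set G) := hgen ▸ sup_le h1 h2
  have h4 : A ≤ Subgroup.center G := fun a ha => by
    rw [Subgroup.mem_center_iff]; intro g
    have := h3 (Subgroup.mem_top g)
    rw [Subgroup.mem_centralizer_iff] at this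
    exact (this a ha).symm
  have h5 : (⊤ : Subgroup G) ≤ Subgroup.center G := hgen ▸ sup_le h4 hZ
  intro x y
  have := h5 (Subgroup.mem_top y)
  exact (Subgroup.mem_center_iff.mp this x)


/-- The elements of order dividing `q` in an abelian normal subgroup form a normal subgroup. -/
theorem exp_of_min {G : Type*} [Group G] [Finite G] (N : Subgroup G) [hN : N.Normal]
    (hNab : ∀ x ∈ N, ∀ y ∈ N, x * y = y * x)
    (hmin : ∀ K : Subgroup G, K.Normal → K ≠ ⊥ → K ≤ N → N ≤ K)
    (q : ℕ) (hq : q.Prime) (hdvd : q ∣ Nat.card N) : ∀ x ∈ N, x ^ q = 1 := by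
  let Nq : Subgroup G :=
    { carrier := {x | x ∈ N ∧ x ^ q = 1}
      mul_mem' := by
        rintro x y ⟨hx, hx1⟩ ⟨hy, hy1⟩
        refine ⟨N.mul_mem hx hy, ?_⟩
        have hc : Commute x y := hNab x hx y hy
        rw [hc.mul_pow, hx1, hy1, mul_one]
      one_mem' := ⟨N.one_mem, one_pow q⟩
      inv_mem' := by
        rintro x ⟨hx, hx1⟩
        exact ⟨N.inv_mem hx, by rw [inv_pow, hx1, inv_one]⟩ }
  have hNqn : Nq.Normal := by
    constructor
    rintro x ⟨hx, hx1⟩ g
    refine ⟨hN.conj_mem x hx g, ?_⟩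
    rw [conj_pow, hx1, mul_one, mul_inv_cancel]
  have hNqle : Nq ≤ N := fun x hx => hx.1
  have hNqne : Nq ≠ ⊥ := by
    haveI : Fact q.Prime := ⟨hq⟩
    obtain ⟨x, hx⟩ := exists_prime_orderOf_dvd_card' (G := N) q hdvd
    intro hbot
    have hxm : (x : G) ∈ Nq := by
      refine ⟨x.2, ?_⟩
      have : x ^ q = 1 := by rw [← hx]; exact pow_orderOf_eq_one x
      have h2 : ((x ^ q : N) : G) = 1 := by rw [this]; rfl
      simpa using h2
    rw [hbot, Subgroup.mem_bot] at hxm
    have : x = 1 := Subtype.ext hxm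
    rw [this, orderOf_one] at hx
    exact hq.one_lt.ne hx
  intro x hx
  exact (hmin Nq hNqn hNqne hNqle hx).2


/-- An element of prime order `q` centralizes a nontrivial element of a normal subgroup of order
divisible by `q`. -/
theorem fix_exists {G : Type*} [Group G] [Finite G] (N : Subgroup G) [hN : N.Normal]
    (a : G) (q : ℕ) (hq : q.Prime) (ha : orderOf a = q) (hdvd : q ∣ Nat.card N) :
    ∃ v ∈ N, v ≠ 1 ∧ a * v = v * a := by
  haveI : Fact q.Prime := ⟨hq⟩
  let φ : Subgroup.zpowers a →* MulAut N :=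
    (MulAut.conjNormal (H := N)).comp (Subgroup.zpowers a).subtype
  letI : MulAction (Subgroup.zpowers a) N := MulAction.compHom N φ
  have hP : IsPGroup q (Subgroup.zpowers a) := by
    apply IsPGroup.of_card (n := 1)
    rw [Nat.card_zpowers, ha, pow_one]
  have hmod := hP.card_modEq_card_fixedPoints N
  have hdvd2 : q ∣ Nat.card (MulAction.fixedPoints (Subgroup.zpowers a) N) := by
    rw [← Nat.modEq_zero_iff_dvd]
    exact hmod.symm.trans ((Nat.modEq_zero_iff_dvd).mpr hdvd)
  have hone : (1 : N) ∈ MulAction.fixedPoints (Subgroup.zpowers a) N := by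
    intro g
    change φ g 1 = 1
    exact map_one _
  have hcard : 1 < Nat.card (MulAction.fixedPoints (Subgroup.zpowers a) N) := by
    have hpos : 0 < Nat.card (MulAction.fixedPoints (Subgroup.zpowers a) N) := by
      haveI : Nonempty (MulAction.fixedPoints (Subgroup.zpowers a) N) := ⟨⟨1, hone⟩⟩
      exact Nat.card_pos
    have := Nat.le_of_dvd hpos hdvd2
    exact lt_of_lt_of_le hq.one_lt this
  rw [Finite.one_lt_card_iff_nontrivial] at hcard
  obtain ⟨x, hx⟩ := exists_ne (⟨1, hone⟩ : MulAction.fixedPoints (Subgroup.zpowers a) N)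
  refine ⟨(x : N), (x : N).2, ?_, ?_⟩
  · intro h1
    apply hx
    apply Subtype.ext
    apply Subtype.ext
    exact h1
  · have h2 := x.2 ⟨a, Subgroup.mem_zpowers a⟩
    have h3 : φ ⟨a, Subgroup.mem_zpowers a⟩ (x : N) = (x : N) := h2
    have h4 : ((φ ⟨a, Subgroup.mem_zpowers a⟩ (x : N) : N) : G) = a * (x : N) * a⁻¹ := by
      simp [φ, MulAut.conjNormal_apply]
    rw [h3] at h4
    calc a * ((x : N) : G) = (a * (x : N) * a⁻¹) * a := by group
      _ = (x : N) * a := by rw [← h4]


theorem comm_bot_of_comm {G : Type*} [Group G] (B : Subgroup G)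
    (h : ∀ x ∈ B, ∀ y ∈ B, x * y = y * x) : ⁅B, B⁆ = ⊥ := by
  rw [Subgroup.commutator_eq_bot_iff_le_centralizer]
  intro x hx
  rw [Subgroup.mem_centralizer_iff]
  intro y hy
  exact h y hy x hx

theorem key_aux (n : ℕ) : ∀ (G : Type u) [Group G] [Finite G], Nat.card G = n →
    ∀ (A B Z : Subgroup G), (∀ x ∈ A, ∀ y ∈ A, x * y = y * x) → Group.IsNilpotent B →
    (∀ g : G, ∃ a ∈ A, ∃ b ∈ B, g = a * b) → Z ≤ B → (∀ z ∈ Z, ∀ b ∈ B, z * b = b * z) →
    A ⊔ Z = ⊤ → Z ≤ ⁅B, B⁆ → Z = ⊥ := by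
  induction n using Nat.strong_induction_on with
  | _ n ih =>
  intro G _ _ hn A B Z hA hB hAB hZB hZc hgen hZd
  by_contra hZ
  -- step 2 : `Z` lies in every nontrivial normal subgroup
  have step2 : ∀ K : Subgroup G, K.Normal → K ≠ ⊥ → Z ≤ K := by
    intro K hK hKne
    have hlt : Nat.card (G ⧸ K) < n := by
      rw [← hn, Subgroup.card_eq_card_quotient_mul_card_subgroup K]
      have h1 : 1 < Nat.card K := by
        rw [Subgroup.one_lt_card_iff_ne_bot]; exact hKne
      have hpos : 0 < Nat.card (G ⧸ K) := Nat.card_pos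
      nlinarith
    let π := QuotientGroup.mk' K
    have hπ : Function.Surjective π := QuotientGroup.mk'_surjective K
    have hnil : Group.IsNilpotent (B.map π) := by
      haveI := hB
      exact nilpotent_of_surjective (π.subgroupMap B) (MonoidHom.subgroupMap_surjective π B)
    have := ih _ hlt (G ⧸ K) rfl (A.map π) (B.map π) (Z.map π) ?_ hnil ?_ ?_ ?_ ?_ ?_
    · have h2 : Z ≤ π.ker := (Subgroup.map_eq_bot_iff _).mp this
      rwa [QuotientGroup.ker_mk'] at h2
    · rintro _ ⟨x, hx, rfl⟩ _ ⟨y, hy, rfl⟩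
      rw [← map_mul, ← map_mul, hA x hx y hy]
    · intro g
      obtain ⟨g, rfl⟩ := hπ g
      obtain ⟨a, ha, b, hb, rfl⟩ := hAB g
      exact ⟨π a, Subgroup.mem_map_of_mem π ha, π b, Subgroup.mem_map_of_mem π hb, map_mul π a b⟩
    · exact Subgroup.map_mono hZB
    · rintro _ ⟨z, hz, rfl⟩ _ ⟨b, hb, rfl⟩
      rw [← map_mul, ← map_mul, hZc z hz b hb]
    · rw [← Subgroup.map_sup, hgen, Subgroup.map_top_of_surjective π hπ]
    · rw [← Subgroup.map_commutator]; exact Subgroup.map_mono hZd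
  -- `G` is not commutative
  have hncomm : ¬ (∀ x y : G, x * y = y * x) := by
    intro hc
    have : ⁅B, B⁆ = ⊥ := comm_bot_of_comm B (fun x _ y _ => hc x y)
    rw [this] at hZd
    exact hZ (le_bot_iff.mp hZd)
  -- the centre is trivial
  have hcen : Subgroup.center G = ⊥ := by
    by_contra hne
    have hZcen : Z ≤ Subgroup.center G := step2 _ inferInstance hne
    exact hncomm (comm_of_gen A Z hA hZcen hgen)
  -- elements commuting with `A` and `Z` are trivial
  have hcentral : ∀ d : G, (∀ a ∈ A, a * d = d * a) → (∀ z ∈ Z, z * d = d * z) → d = 1 := by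
    intro d h1 h2
    have hA' : A ≤ Subgroup.centralizer ({d} : Set G) := fun a ha => by
      rw [Subgroup.mem_centralizer_iff]; intro y hy
      rw [Set.mem_singleton_iff] at hy; subst hy
      exact (h1 a ha).symm
    have hZ' : Z ≤ Subgroup.centralizer ({d} : Set G) := fun z hz => by
      rw [Subgroup.mem_centralizer_iff]; intro y hy
      rw [Set.mem_singleton_iff] at hy; subst hy
      exact (h2 z hz).symm
    have h3 : (⊤ : Subgroup G) ≤ Subgroup.centralizer ({d} : Set G) := hgen ▸ sup_le hA' hZ'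
    have h4 : d ∈ Subgroup.center G := by
      rw [Subgroup.mem_center_iff]; intro g
      have := h3 (Subgroup.mem_top g)
      rw [Subgroup.mem_centralizer_iff] at this
      exact (this d rfl).symm
    rw [hcen, Subgroup.mem_bot] at h4
    exact h4
  have hD : A ⊓ B = ⊥ := by
    rw [eq_bot_iff]
    rintro d ⟨hdA, hdB⟩
    rw [Subgroup.mem_bot]
    exact hcentral d (fun a ha => hA a ha d hdA) (fun z hz => hZc z hz d hdB)
  -- solvability
  have hAnil : Group.IsNilpotent A := by
    letI : CommGroup A :=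
      { (inferInstance : Group A) with mul_comm := fun x y => Subtype.ext (hA x x.2 y y.2) }
    exact CommGroup.isNilpotent
  have hsol : IsSolvable G := Cfsg.Agent.S0564.result A B hAnil hB hAB
  -- the normal closure of `Z`
  let N : Subgroup G := Subgroup.normalClosure (Z : Set G)
  have hNn : N.Normal := Subgroup.normalClosure_normal
  have hZN : Z ≤ N := Subgroup.le_normalClosure
  have hNne : N ≠ ⊥ := fun h => hZ (le_bot_iff.mp (h ▸ hZN))
  have hNmin : ∀ K : Subgroup G, K.Normal → K ≠ ⊥ → N ≤ K := by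
    intro K hK hKne
    haveI := hK
    exact Subgroup.normalClosure_le_normal (step2 K hK hKne)
  -- `N` is abelian
  have hNab : ∀ x ∈ N, ∀ y ∈ N, x * y = y * x := by
    obtain ⟨k, hk⟩ := hsol.solvable
    classical
    let m := Nat.find (⟨k, hk⟩ : ∃ k, derivedSeries G k = ⊥)
    have hm : derivedSeries G m = ⊥ := Nat.find_spec (⟨k, hk⟩ : ∃ k, derivedSeries G k = ⊥)
    have hm0 : m ≠ 0 := by
      intro h0
      rw [h0, derivedSeries_zero] at hm
      apply hNne
      rw [eq_bot_iff, ← hm]; exact le_top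
    obtain ⟨j, hj⟩ := Nat.exists_eq_succ_of_ne_zero hm0
    have hjne : derivedSeries G j ≠ ⊥ := by
      intro h
      have := Nat.find_min' (⟨k, hk⟩ : ∃ k, derivedSeries G k = ⊥) h
      change m ≤ j at this
      omega
    have hND : N ≤ derivedSeries G j := hNmin _ (derivedSeries_normal G j) hjne
    have hDD : ⁅derivedSeries G j, derivedSeries G j⁆ = ⊥ := by
      rw [← derivedSeries_succ, ← Nat.succ_eq_add_one, ← hj]; exact hm
    rw [Subgroup.commutator_eq_bot_iff_le_centralizer] at hDD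
    intro x hx y hy
    have := hDD (hND hy)
    rw [Subgroup.mem_centralizer_iff] at this
    exact this x (hND hx)
  -- `G = A N`
  have hAN : ∀ g : G, ∃ a ∈ A, ∃ v ∈ N, g = a * v := by
    intro g
    have h1 : A ⊔ N = ⊤ := by
      rw [eq_top_iff, ← hgen]; exact sup_le_sup_left hZN A
    have h2 : g ∈ ((A ⊔ N : Subgroup G) : Set G) := by rw [h1]; trivial
    rw [Subgroup.mul_normal, Set.mem_mul] at h2
    obtain ⟨a, ha, v, hv, rfl⟩ := h2
    exact ⟨a, ha, v, hv, rfl⟩
  -- `C_A(N) = 1`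
  have hCA : ∀ c ∈ A, (∀ v ∈ N, c * v = v * c) → c = 1 := by
    intro c hc hcv
    apply hcentral c (fun a ha => hA a ha c hc)
    intro z hz
    exact (hcv z (hZN hz)).symm
  have hAN0 : A ⊓ N = ⊥ := by
    rw [eq_bot_iff]
    rintro x ⟨hxA, hxN⟩
    rw [Subgroup.mem_bot]
    exact hCA x hxA (fun v hv => hNab x hxN v hv)
  have hcard1 : Nat.card G = Nat.card A * Nat.card N := card_of_fact A N hAN hAN0
  have hcard2 : Nat.card G = Nat.card A * Nat.card B := card_of_fact A B hAB hD
  have hApos : 0 < Nat.card A := Nat.card_pos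
  have hBN : Nat.card B = Nat.card N := by
    have : Nat.card A * Nat.card B = Nat.card A * Nat.card N := by rw [← hcard1, ← hcard2]
    exact Nat.eq_of_mul_eq_mul_left hApos this
  -- coprimality
  have hcop : Nat.Coprime (Nat.card N) (Nat.card A) := by
    by_contra hnc
    rw [Nat.Prime.not_coprime_iff_dvd] at hnc
    obtain ⟨q, hq, hqN, hqA⟩ := hnc
    haveI : Fact q.Prime := ⟨hq⟩
    obtain ⟨a, ha⟩ := exists_prime_orderOf_dvd_card' (G := A) q hqA
    have ha' : orderOf (a : G) = q := by rw [Subgroup.orderOf_coe]; exact ha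
    obtain ⟨v, hvN, hv1, hav⟩ := fix_exists N (a : G) q hq ha' hqN
    let W : Subgroup G := N ⊓ Subgroup.centralizer ({(a : G)} : Set G)
    have hWn : W.Normal := by
      constructor
      intro w hw g
      obtain ⟨hwN, hwa⟩ := Subgroup.mem_inf.mp hw
      obtain ⟨a', ha'A, v', hv', rfl⟩ := hAN g
      rw [Subgroup.mem_centralizer_iff] at hwa
      have hwa' : (a : G) * w = w * a := hwa _ rfl
      have h1 : v' * w * v'⁻¹ = w := by
        rw [hNab v' hv' w hwN]; group
      have h2 : a' * v' * w * (a' * v')⁻¹ = a' * w * a'⁻¹ := by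
        calc a' * v' * w * (a' * v')⁻¹ = a' * (v' * w * v'⁻¹) * a'⁻¹ := by group
          _ = a' * w * a'⁻¹ := by rw [h1]
      rw [h2]
      refine Subgroup.mem_inf.mpr ⟨hNn.conj_mem w hwN a', ?_⟩
      rw [Subgroup.mem_centralizer_iff]
      intro y hy
      rw [Set.mem_singleton_iff] at hy; subst hy
      have hc : (a : G) * a' = a' * a := hA a a.2 a' ha'A
      have hc' : a'⁻¹ * (a : G) = a * a'⁻¹ := by
        calc a'⁻¹ * (a : G) = a'⁻¹ * (a * a') * a'⁻¹ := by group
          _ = a'⁻¹ * (a' * a) * a'⁻¹ := by rw [hc]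
          _ = a * a'⁻¹ := by group
      calc (a : G) * (a' * w * a'⁻¹) = (a * a') * w * a'⁻¹ := by group
        _ = (a' * a) * w * a'⁻¹ := by rw [hc]
        _ = a' * (a * w) * a'⁻¹ := by group
        _ = a' * (w * a) * a'⁻¹ := by rw [hwa']
        _ = a' * w * (a * a'⁻¹) := by group
        _ = a' * w * (a'⁻¹ * a) := by rw [hc']
        _ = a' * w * a'⁻¹ * a := by group
    have hWne : W ≠ ⊥ := by
      intro h
      have : v ∈ W := by
        refine Subgroup.mem_inf.mpr ⟨hvN, ?_⟩
        rw [Subgroup.mem_centralizer_iff]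
        intro y hy
        rw [Set.mem_singleton_iff] at hy; subst hy
        exact hav
      rw [h, Subgroup.mem_bot] at this
      exact hv1 this
    have hNW : N ≤ W := hNmin W hWn hWne
    have ha1 : (a : G) = 1 := by
      apply hCA (a : G) a.2
      intro v hv
      have := (Subgroup.mem_inf.mp (hNW hv)).2
      rw [Subgroup.mem_centralizer_iff] at this
      exact this _ rfl
    rw [ha1, orderOf_one] at ha'
    exact hq.one_lt.ne ha'
  -- `B ≤ N`
  have hBleN : B ≤ N := by
    intro b hb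
    have hq1 : Nat.card (G ⧸ N) = Nat.card A := by
      have h1 := Subgroup.card_eq_card_quotient_mul_card_subgroup N
      rw [hcard1] at h1
      have hNpos : 0 < Nat.card N := Nat.card_pos
      exact (Nat.eq_of_mul_eq_mul_right hNpos h1).symm
    have hb1 : b ^ Nat.card N = 1 := by
      rw [← hBN]
      have : (⟨b, hb⟩ : B) ^ Nat.card B = 1 := pow_card_eq_one'
      have h2 : ((⟨b, hb⟩ : B) : G) ^ Nat.card B = 1 := by
        rw [← Subgroup.coe_pow, this]; rfl
      exact h2
    have hb2 : ((b : G) : G ⧸ N) ^ Nat.card N = 1 := by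
      rw [← QuotientGroup.mk_pow, hb1]; rfl
    have hb3 : ((b : G) : G ⧸ N) ^ Nat.card A = 1 := by
      rw [← hq1]; exact pow_card_eq_one'
    have hb4 : ((b : G) : G ⧸ N) ^ (Nat.gcd (Nat.card N) (Nat.card A)) = 1 :=
      pow_gcd_eq_one.mpr ⟨hb2, hb3⟩
    rw [hcop, pow_one] at hb4
    exact (QuotientGroup.eq_one_iff b).mp hb4
  have : ⁅B, B⁆ = ⊥ :=
    comm_bot_of_comm B (fun x hx y hy => hNab x (hBleN hx) y (hBleN hy))
  rw [this] at hZd
  exact hZ (le_bot_iff.mp hZd)


theorem key {G : Type u} [Group G] [Finite G] (A B Z : Subgroup G)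
    (hA : ∀ x ∈ A, ∀ y ∈ A, x * y = y * x) (hB : Group.IsNilpotent B)
    (hAB : ∀ g : G, ∃ a ∈ A, ∃ b ∈ B, g = a * b) (hZB : Z ≤ B)
    (hZc : ∀ z ∈ Z, ∀ b ∈ B, z * b = b * z) (hgen : A ⊔ Z = ⊤) (hZd : Z ≤ ⁅B, B⁆) : Z = ⊥ :=
  key_aux _ G rfl A B Z hA hB hAB hZB hZc hgen hZd

/-- class two implies nilpotent -/
theorem nilp_of_class_two {G : Type*} [Group G] (B : Subgroup G)
    (hB : ∀ t ∈ ⁅B, B⁆, ∀ b ∈ B, t * b = b * t) : Group.IsNilpotent B := by
  have h1 : (Abelianization.of : B →* Abelianization B).ker ≤ Subgroup.center B := by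
    rw [Abelianization.ker_of, commutator_def, Subgroup.commutator_le]
    intro x _ y _
    rw [Subgroup.mem_center_iff]
    intro g
    apply Subtype.ext
    have hm : ((⁅x, y⁆ : B) : G) ∈ ⁅B, B⁆ := by
      have : ((⁅x, y⁆ : B) : G) = ⁅(x : G), (y : G)⁆ := by
        simp [commutatorElement_def]
      rw [this]
      exact Subgroup.commutator_mem_commutator x.2 y.2
    have := hB _ hm g g.2
    simpa using this.symm
  exact isNilpotent_of_ker_le_center _ h1

/-- Ito's theorem, elementwise form. -/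
theorem ito_case {G : Type*} [Group G] (A B : Subgroup G)
    (hA : ∀ x ∈ A, ∀ y ∈ A, x * y = y * x) (hB : ⁅B, B⁆ = ⊥)
    (hAB : ∀ g : G, ∃ a ∈ A, ∃ b ∈ B, g = a * b) : derivedSeries G 2 = ⊥ := by
  have : IsMulCommutative A := ⟨⟨fun x y => Subtype.ext (hA x x.2 y y.2)⟩⟩
  have : IsMulCommutative B := by
    refine ⟨⟨fun x y => Subtype.ext ?_⟩⟩
    rw [Subgroup.commutator_eq_bot_iff_le_centralizer] at hB
    have := hB x.2
    rw [Subgroup.mem_centralizer_iff] at this
    exact (this y y.2).symm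
  exact Cfsg.Agent.S0572.result A B hAB

theorem derived_bot_of_le {G : Type*} [Group G] {m k : ℕ} (h : derivedSeries G m = ⊥)
    (hmk : m ≤ k) : derivedSeries G k = ⊥ := by
  rw [eq_bot_iff, ← h]
  exact derivedSeries_antitone G hmk

/-- top step: the second derived subgroup lies in `A ⊔ ⁅B,B⁆`. -/
theorem top_step {G : Type*} [Group G] (A B : Subgroup G)
    (hA : ∀ x ∈ A, ∀ y ∈ A, x * y = y * x)
    (hB : ∀ t ∈ ⁅B, B⁆, ∀ b ∈ B, t * b = b * t)
    (hAB : ∀ g : G, ∃ a ∈ A, ∃ b ∈ B, g = a * b) :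
    derivedSeries G 2 ≤ A ⊔ ⁅B, B⁆ := by
  let L : Subgroup G := Subgroup.normalClosure ((⁅B, B⁆ : Subgroup G) : Set G)
  have hTL : ⁅B, B⁆ ≤ L := Subgroup.le_normalClosure
  let π := QuotientGroup.mk' L
  have hπ : Function.Surjective π := QuotientGroup.mk'_surjective L
  have h1 : derivedSeries (G ⧸ L) 2 = ⊥ := by
    apply ito_case (A.map π) (B.map π)
    · rintro _ ⟨x, hx, rfl⟩ _ ⟨y, hy, rfl⟩
      rw [← map_mul, ← map_mul, hA x hx y hy]
    · rw [← Subgroup.map_commutator, Subgroup.map_eq_bot_iff, QuotientGroup.ker_mk']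
      exact hTL
    · intro g
      obtain ⟨g, rfl⟩ := hπ g
      obtain ⟨a, ha, b, hb, rfl⟩ := hAB g
      exact ⟨π a, Subgroup.mem_map_of_mem π ha, π b, Subgroup.mem_map_of_mem π hb, map_mul π a b⟩
  have h2 : derivedSeries G 2 ≤ L := by
    have := map_derivedSeries_eq (f := π) hπ 2
    rw [h1, Subgroup.map_eq_bot_iff, QuotientGroup.ker_mk'] at this
    exact this
  refine h2.trans ?_
  change Subgroup.closure (Group.conjugatesOfSet ((⁅B, B⁆ : Subgroup G) : Set G)) ≤ _
  rw [Subgroup.closure_le]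
  intro x hx
  rw [Group.mem_conjugatesOfSet_iff] at hx
  obtain ⟨t, ht, hconj⟩ := hx
  rw [isConj_iff] at hconj
  obtain ⟨c, rfl⟩ := hconj
  obtain ⟨a, ha, b, hb, rfl⟩ := hAB c
  have h3 : a * b * t * (a * b)⁻¹ = a * t * a⁻¹ := by
    have hbt : b * t = t * b := (hB t ht b hb).symm
    calc a * b * t * (a * b)⁻¹ = a * (b * t) * b⁻¹ * a⁻¹ := by group
      _ = a * (t * b) * b⁻¹ * a⁻¹ := by rw [hbt]
      _ = a * t * a⁻¹ := by group
  rw [h3]
  have haH : a ∈ A ⊔ ⁅B, B⁆ := (le_sup_left : A ≤ A ⊔ ⁅B, B⁆) ha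
  have htH : t ∈ A ⊔ ⁅B, B⁆ := (le_sup_right : ⁅B, B⁆ ≤ A ⊔ ⁅B, B⁆) ht
  exact Subgroup.mul_mem _ (Subgroup.mul_mem _ haH htH) (Subgroup.inv_mem _ haH)

/-- assembling derived series through a subgroup -/
theorem derived_through {G : Type*} [Group G] (H : Subgroup G) (m : ℕ)
    (hm : derivedSeries G m ≤ H) (k : ℕ) :
    derivedSeries G (m + k) ≤ (derivedSeries H k).map H.subtype := by
  induction k with
  | zero =>
    rw [add_zero, derivedSeries_zero, ← MonoidHom.range_eq_map, Subgroup.range_subtype]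
    exact hm
  | succ k ih =>
    rw [← add_assoc, derivedSeries_succ, derivedSeries_succ, Subgroup.map_commutator]
    exact Subgroup.commutator_mono ih ih

theorem omega_lt_of_dvd {a b : ℕ} (hab : a ∣ b) (hne : a ≠ b) (hb : b ≠ 0) :
    a.primeFactorsList.length < b.primeFactorsList.length := by
  obtain ⟨c, rfl⟩ := hab
  have ha : a ≠ 0 := fun h => hb (by rw [h, zero_mul])
  have hc : c ≠ 0 := fun h => hb (by rw [h, mul_zero])
  have hc1 : c ≠ 1 := fun h => hne (by rw [h, mul_one])
  have hperm := Nat.perm_primeFactorsList_mul ha hc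
  rw [hperm.length_eq, List.length_append]
  have : c.primeFactorsList ≠ [] := by
    rw [Ne, Nat.primeFactorsList_eq_nil]
    push Not
    exact ⟨hc, hc1⟩
  have := List.length_pos_iff.mpr this
  omega


theorem main_aux (n : ℕ) : ∀ (G : Type u) [Group G] [Finite G] (A B : Subgroup G),
    (∀ x ∈ A, ∀ y ∈ A, x * y = y * x) →
    (∀ t ∈ ⁅B, B⁆, ∀ b ∈ B, t * b = b * t) →
    (∀ g : G, ∃ a ∈ A, ∃ b ∈ B, g = a * b) →
    (Nat.card (⁅B, B⁆ : Subgroup G)).primeFactorsList.length ≤ n →
    derivedSeries G (2 * (1 + n)) = ⊥ := by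
  induction n with
  | zero =>
    intro G _ _ A B hA hB hAB hΩ
    have hT : ⁅B, B⁆ = ⊥ := by
      have h0 : (Nat.card (⁅B, B⁆ : Subgroup G)).primeFactorsList = [] :=
        List.length_eq_zero_iff.mp (Nat.le_zero.mp hΩ)
      rw [Nat.primeFactorsList_eq_nil] at h0
      rcases h0 with h0 | h0
      · exact absurd h0 (Nat.card_pos).ne'
      · exact (Subgroup.card_eq_one).mp h0
    exact ito_case A B hA hT hAB
  | succ n ih =>
    intro G _ _ A B hA hB hAB hΩ
    by_cases hT : ⁅B, B⁆ = ⊥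
    · exact derived_bot_of_le (ito_case A B hA hT hAB) (by omega)
    -- notation
    set T : Subgroup G := ⁅B, B⁆ with hTdef
    set H : Subgroup G := A ⊔ T with hHdef
    set B₁ : Subgroup G := H ⊓ B with hB₁def
    have hAH : A ≤ H := le_sup_left
    have hTH : T ≤ H := le_sup_right
    have hTB : T ≤ B := Subgroup.commutator_le.mpr (fun x hx y hy =>
      B.mul_mem (B.mul_mem (B.mul_mem hx hy) (B.inv_mem hx)) (B.inv_mem hy))
    have hB₁H : B₁ ≤ H := inf_le_left
    have hB₁B : B₁ ≤ B := inf_le_right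
    have hTB₁ : T ≤ B₁ := le_inf hTH hTB
    have hcomm_le : ⁅B₁, B₁⁆ ≤ T := Subgroup.commutator_mono hB₁B hB₁B
    -- the subgroups inside `H`
    let A' : Subgroup H := A.subgroupOf H
    let B' : Subgroup H := B₁.subgroupOf H
    let T' : Subgroup H := T.subgroupOf H
    have hmapB' : (⁅B', B'⁆ : Subgroup H).map H.subtype = ⁅B₁, B₁⁆ := by
      rw [Subgroup.map_commutator, Subgroup.map_subgroupOf_eq_of_le hB₁H]
    have hA' : ∀ x ∈ A', ∀ y ∈ A', x * y = y * x := by
      intro x hx y hy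
      apply Subtype.ext
      exact hA x hx y hy
    have hB' : ∀ t ∈ ⁅B', B'⁆, ∀ b ∈ B', t * b = b * t := by
      intro t ht b hb
      apply Subtype.ext
      have h1 : (t : G) ∈ ⁅B₁, B₁⁆ := by
        rw [← hmapB']
        exact Subgroup.mem_map_of_mem H.subtype ht
      exact hB (t : G) (hcomm_le h1) (b : G) (hB₁B hb)
    have hAB' : ∀ h : H, ∃ a ∈ A', ∃ b ∈ B', h = a * b := by
      intro h
      obtain ⟨a, ha, b, hb, hab⟩ := hAB (h : G)
      have hbH : b ∈ H := by
        have : b = a⁻¹ * (h : G) := by rw [hab]; group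
        rw [this]
        exact H.mul_mem (H.inv_mem (hAH ha)) h.2
      refine ⟨⟨a, hAH ha⟩, ha, ⟨b, hbH⟩, ⟨hbH, hb⟩, ?_⟩
      apply Subtype.ext
      exact hab
    -- the key lemma inside `H`
    have hnot : ¬ T ≤ ⁅B₁, B₁⁆ := by
      intro hle
      have hT'bot : T' = ⊥ := by
        apply key A' B' T' hA' (nilp_of_class_two B' hB') hAB'
        · intro x hx
          exact hTB₁ hx
        · intro z hz b hb
          apply Subtype.ext
          exact hB (z : G) hz (b : G) (hB₁B hb)
        · rw [← Subgroup.subgroupOf_sup hAH hTH, Subgroup.subgroupOf_self]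
        · intro x hx
          have h1 : (x : G) ∈ ⁅B₁, B₁⁆ := hle hx
          rw [← hmapB'] at h1
          obtain ⟨y, hy, hyx⟩ := h1
          have : y = x := Subtype.ext hyx
          rw [← this]; exact hy
      apply hT
      rw [Subgroup.subgroupOf_eq_bot, disjoint_iff, inf_eq_left.mpr hTH] at hT'bot
      exact hT'bot
    -- the number of prime factors decreases
    have hlt : (Nat.card (⁅B₁, B₁⁆ : Subgroup G)).primeFactorsList.length <
        (Nat.card T).primeFactorsList.length := by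
      apply omega_lt_of_dvd (Subgroup.card_dvd_of_le hcomm_le)
      · intro heq
        apply hnot
        have := Subgroup.eq_of_le_of_card_ge hcomm_le (le_of_eq heq.symm)
        rw [this]
      · exact Nat.card_pos.ne'
    have hΩ' : (Nat.card (⁅B', B'⁆ : Subgroup H)).primeFactorsList.length ≤ n := by
      have : Nat.card (⁅B', B'⁆ : Subgroup H) = Nat.card (⁅B₁, B₁⁆ : Subgroup G) := by
        rw [← hmapB']
        exact (Subgroup.card_map_of_injective H.subtype_injective).symm
      rw [this]; omega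
    have hH : derivedSeries H (2 * (1 + n)) = ⊥ := ih H A' B' hA' hB' hAB' hΩ'
    have htop : derivedSeries G 2 ≤ H := top_step A B hA hB hAB
    have := derived_through H 2 htop (2 * (1 + n))
    rw [hH, Subgroup.map_bot] at this
    have h2 : 2 * (1 + (n + 1)) = 2 + 2 * (1 + n) := by ring
    rw [h2]
    exact le_bot_iff.mp this

end Cfsg.Agent.Lib.Helper20.AbClassTwo
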