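import Mathlib
import Cfsg.Agent.Lib.helper15.AbelianPerm

set_option autoImplicit false

namespace Cfsg.Agent.Lib.Helper20.AbelAlt

open Cfsg.Agent.Lib.helper15

/-- the largest order of an abelian subgroup of the alternating group of degree `n` -/
def altProd : ℕ → ℕ
  | 0 => 1
  | 1 => 1
  | 2 => 1
  | 3 => 3
  | 4 => 4
  | 5 => 5
  | 6 => 9
  | 7 => 12
  | 8 => 16
  | (n + 9) => 3 * altProd (n + 6)

theorem altProd_add9 (n : ℕ) : altProd (n + 9) = 3 * altProd (n + 6) := by
  rw [altProd]

theorem altProd_pos (n : ℕ) : 1 ≤ altProd n := by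
  induction n using Nat.strong_induction_on with
  | _ n ih =>
    match n, ih with
    | 0, _ => decide
    | 1, _ => decide
    | 2, _ => decide
    | 3, _ => decide
    | 4, _ => decide
    | 5, _ => decide
    | 6, _ => decide
    | 7, _ => decide
    | 8, _ => decide
    | (m + 9), ih =>
      rw [altProd_add9]
      have := ih (m + 6) (by omega)
      omega

theorem three_mul_altProd_le (c : ℕ) : 3 * altProd c ≤ altProd (c + 3) := by
  match c with
  | 0 => decide
  | 1 => decide
  | 2 => decide
  | 3 => decide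
  | 4 => decide
  | 5 => decide
  | (m + 6) =>
    have e : m + 6 + 3 = m + 9 := by ring
    rw [e, altProd_add9]

theorem altProd_mul_le_aux (a : ℕ) (ha : a ≤ 8) (b : ℕ) :
    altProd a * altProd b ≤ altProd (a + b) := by
  induction b using Nat.strong_induction_on with
  | _ b ih =>
    by_cases hb : b ≤ 8
    · interval_cases a <;> interval_cases b <;> decide
    · obtain ⟨b', rfl⟩ : ∃ b', b = b' + 9 := ⟨b - 9, by omega⟩
      have h1 := ih (b' + 6) (by omega)
      have h2 := three_mul_altProd_le (a + (b' + 6))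
      have e : a + (b' + 6) + 3 = a + (b' + 9) := by ring
      rw [e] at h2
      rw [altProd_add9]
      calc altProd a * (3 * altProd (b' + 6)) = 3 * (altProd a * altProd (b' + 6)) := by ring
        _ ≤ 3 * altProd (a + (b' + 6)) := Nat.mul_le_mul_left _ h1
        _ ≤ altProd (a + (b' + 9)) := h2

theorem altProd_mul_le (a b : ℕ) : altProd a * altProd b ≤ altProd (a + b) := by
  induction a using Nat.strong_induction_on with
  | _ a ih =>
    by_cases ha : a ≤ 8
    · exact altProd_mul_le_aux a ha b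
    · obtain ⟨a', rfl⟩ : ∃ a', a = a' + 9 := ⟨a - 9, by omega⟩
      have h1 := ih (a' + 6) (by omega)
      have h2 := three_mul_altProd_le (a' + 6 + b)
      have e : a' + 6 + b + 3 = a' + 9 + b := by ring
      rw [e] at h2
      rw [altProd_add9]
      calc 3 * altProd (a' + 6) * altProd b = 3 * (altProd (a' + 6) * altProd b) := by ring
        _ ≤ 3 * altProd (a' + 6 + b) := Nat.mul_le_mul_left _ h1
        _ ≤ altProd (a' + 9 + b) := h2

theorem add_three_le_altProd (m : ℕ) (hm : 6 ≤ m) : m + 3 ≤ altProd m := by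
  induction m using Nat.strong_induction_on with
  | _ m ih =>
    by_cases h8 : m ≤ 8
    · interval_cases m <;> decide
    · obtain ⟨m', rfl⟩ : ∃ m', m = m' + 9 := ⟨m - 9, by omega⟩
      rw [altProd_add9]
      have := ih (m' + 6) (by omega) (by omega)
      omega

theorem le_altProd (m : ℕ) (hm : m % 2 = 1 ∨ m % 4 = 0) : m ≤ altProd m := by
  by_cases h6 : 6 ≤ m
  · have := add_three_le_altProd m h6
    omega
  · have h5 : m ≤ 5 := by omega
    interval_cases m <;> first | decide | omega

theorem altProd_mono_step (n : ℕ) : altProd n ≤ altProd (n + 1) := by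
  have := altProd_mul_le 1 n
  have e : altProd 1 = 1 := rfl
  rw [e, one_mul, add_comm] at this
  exact this

theorem maxProd_le_altProd (k : ℕ) : maxProd k ≤ altProd (k + 2) := by
  induction k using Nat.strong_induction_on with
  | _ k ih =>
    by_cases h6 : k ≤ 6
    · interval_cases k <;> decide
    · obtain ⟨k', rfl⟩ : ∃ k', k = k' + 7 := ⟨k - 7, by omega⟩
      have e1 : k' + 7 = (k' + 2) + 5 := by ring
      have e2 : k' + 7 + 2 = k' + 9 := by ring
      rw [e2, altProd_add9, e1, maxProd_add5]
      have := ih (k' + 4) (by omega)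
      have e3 : k' + 2 + 2 = k' + 4 := by ring
      have e4 : k' + 4 + 2 = k' + 6 := by ring
      rw [e3]
      rw [e4] at this
      omega

theorem two_maxProd_le_altProd (k : ℕ) : 2 * maxProd k ≤ altProd (k + 4) := by
  induction k using Nat.strong_induction_on with
  | _ k ih =>
    by_cases h4 : k ≤ 4
    · interval_cases k <;> decide
    · obtain ⟨k', rfl⟩ : ∃ k', k = k' + 5 := ⟨k - 5, by omega⟩
      have e2 : k' + 5 + 4 = k' + 9 := by ring
      rw [e2, altProd_add9, maxProd_add5]
      have := ih (k' + 2) (by omega)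
      have e4 : k' + 2 + 4 = k' + 6 := by ring
      rw [e4] at this
      omega

/-- peeling an orbit on which the group acts by even permutations -/
theorem peel_even (n m : ℕ) (hmn : m ≤ n) (hm : m % 2 = 1 ∨ m % 4 = 0) :
    m * altProd (n - m) ≤ altProd n := by
  calc m * altProd (n - m) ≤ altProd m * altProd (n - m) := Nat.mul_le_mul_right _ (le_altProd m hm)
    _ ≤ altProd (m + (n - m)) := altProd_mul_le _ _
    _ = altProd n := by congr 1; omega

/-- peeling an orbit on which some element acts as an odd permutation -/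
theorem peel_odd (n m : ℕ) (hmn : m ≤ n) (hm : m % 2 = 0) (hm2 : 2 ≤ m) :
    m * maxProd (n - m) ≤ 2 * altProd n := by
  obtain ⟨m', rfl⟩ : ∃ m', m = 2 * m' := ⟨m / 2, by omega⟩
  obtain ⟨k, rfl⟩ : ∃ k, n = 2 * m' + k := ⟨n - 2 * m', by omega⟩
  have ek : 2 * m' + k - 2 * m' = k := by omega
  rw [ek]
  by_cases h1 : m' = 1
  · subst h1
    have := maxProd_le_altProd k
    have e : 2 * 1 + k = k + 2 := by ring
    rw [e]; omega
  by_cases h2 : m' = 2
  · subst h2
    have := two_maxProd_le_altProd k
    have e : 2 * 2 + k = k + 4 := by ring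
    rw [e]; omega
  have h3 : 3 ≤ m' := by omega
  have h4 : m' ≤ altProd (2 * m' - 2) := by
    by_cases h : m' = 3
    · subst h; decide
    · have := add_three_le_altProd (2 * m' - 2) (by omega)
      omega
  have h5 := maxProd_le_altProd k
  have h6 := altProd_mul_le (2 * m' - 2) (k + 2)
  have e : 2 * m' - 2 + (k + 2) = 2 * m' + k := by omega
  rw [e] at h6
  calc 2 * m' * maxProd k = 2 * (m' * maxProd k) := by ring
    _ ≤ 2 * (altProd (2 * m' - 2) * altProd (k + 2)) :=
        Nat.mul_le_mul_left _ (Nat.mul_le_mul h4 h5)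
    _ ≤ 2 * altProd (2 * m' + k) := Nat.mul_le_mul_left _ h6

theorem altProd_three_mul (k : ℕ) (hk : 2 ≤ k) : altProd (3 * k) = 3 ^ k := by
  induction k, hk using Nat.le_induction with
  | base => rfl
  | succ k hk ih =>
    obtain ⟨j, rfl⟩ : ∃ j, k = j + 2 := ⟨k - 2, by omega⟩
    have e : 3 * (j + 2 + 1) = 3 * j + 9 := by ring
    have e2 : 3 * j + 6 = 3 * (j + 2) := by ring
    rw [e, altProd_add9, e2, ih, pow_succ]
    ring

theorem altProd_three_mul_add_one (k : ℕ) (hk : 2 ≤ k) :
    altProd (3 * k + 1) = 4 * 3 ^ (k - 1) := by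
  induction k, hk using Nat.le_induction with
  | base => rfl
  | succ k hk ih =>
    obtain ⟨j, rfl⟩ : ∃ j, k = j + 2 := ⟨k - 2, by omega⟩
    have e : 3 * (j + 2 + 1) + 1 = (3 * j + 1) + 9 := by ring
    have e2 : 3 * j + 1 + 6 = 3 * (j + 2) + 1 := by ring
    rw [e, altProd_add9, e2, ih]
    have e3 : j + 2 + 1 - 1 = (j + 2 - 1) + 1 := by omega
    rw [e3, pow_succ]
    ring

theorem altProd_three_mul_add_two (k : ℕ) (hk : 2 ≤ k) :
    altProd (3 * k + 2) = 16 * 3 ^ (k - 2) := by
  induction k, hk using Nat.le_induction with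
  | base => rfl
  | succ k hk ih =>
    obtain ⟨j, rfl⟩ : ∃ j, k = j + 2 := ⟨k - 2, by omega⟩
    have e : 3 * (j + 2 + 1) + 2 = (3 * j + 2) + 9 := by ring
    have e2 : 3 * j + 2 + 6 = 3 * (j + 2) + 2 := by ring
    rw [e, altProd_add9, e2, ih]
    have e3 : j + 2 + 1 - 2 = (j + 2 - 2) + 1 := by omega
    rw [e3, pow_succ]
    ring

end Cfsg.Agent.Lib.Helper20.AbelAlt
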