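import Mathlib

set_option autoImplicit false

namespace Cfsg.Agent.Lib.Helper20.NilpSym

open Nat

/-- the 2-adic valuation of `n!` -/
def v (n : ℕ) : ℕ := padicValNat 2 n.factorial

theorem v_zero : v 0 = 0 := by simp [v]

theorem v_one : v 1 = 0 := by simp [v]

theorem v_two_mul (m : ℕ) : v (2 * m) = m + v m := by
  unfold v
  rw [padicValNat_factorial_mul, add_comm]

theorem v_two_mul_add_one (m : ℕ) : v (2 * m + 1) = m + v m := by
  unfold v
  rw [padicValNat_factorial_mul_add m (by norm_num : 1 < 2), padicValNat_factorial_mul, add_comm]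

theorem v_mono {a b : ℕ} (h : a ≤ b) : v a ≤ v b := by
  unfold v
  have h1 : 2 ^ padicValNat 2 a.factorial ∣ b.factorial :=
    dvd_trans pow_padicValNat_dvd (Nat.factorial_dvd_factorial h)
  exact (padicValNat_dvd_iff_le (Nat.factorial_ne_zero b)).1 h1

theorem v_add (a b : ℕ) : v a + v b ≤ v (a + b) := by
  unfold v
  have h1 : 2 ^ (padicValNat 2 a.factorial + padicValNat 2 b.factorial) ∣ (a + b).factorial := by
    rw [pow_add]
    exact dvd_trans (mul_dvd_mul pow_padicValNat_dvd pow_padicValNat_dvd)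
      (Nat.factorial_mul_factorial_dvd_factorial_add a b)
  exact (padicValNat_dvd_iff_le (Nat.factorial_ne_zero _)).1 h1

theorem v_half (n : ℕ) : v n = n / 2 + v (n / 2) := by
  rcases Nat.even_or_odd' n with ⟨m, rfl | rfl⟩
  · rw [v_two_mul]; simp
  · rw [v_two_mul_add_one]
    have : (2 * m + 1) / 2 = m := by omega
    rw [this]

theorem half_le_v (n : ℕ) : n / 2 ≤ v n := by
  rw [v_half]; omega

theorem v_lt {n : ℕ} (hn : n ≠ 0) : v n < n := by
  have := sub_one_mul_padicValNat_factorial_lt_of_ne_zero (p := 2) hn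
  simpa [v] using this

theorem v_mul (t m : ℕ) : t * v m ≤ v (t * m) := by
  induction t with
  | zero => simp
  | succ t ih =>
    have := v_add (t * m) m
    have e : (t + 1) * m = t * m + m := by ring
    rw [e]
    calc (t + 1) * v m = t * v m + v m := by ring
      _ ≤ v (t * m) + v m := by omega
      _ ≤ v (t * m + m) := this

theorem v_four (j i : ℕ) (hi : i < 4) :
    v (4 * j + i) = 3 * j + v j + (if 2 ≤ i then 1 else 0) := by
  interval_cases i
  · have e : 4 * j + 0 = 2 * (2 * j) := by ring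
    rw [e, v_two_mul, v_two_mul]; simp; ring
  · have e : 4 * j + 1 = 2 * (2 * j) + 1 := by ring
    rw [e, v_two_mul_add_one, v_two_mul]; simp; ring
  · have e : 4 * j + 2 = 2 * (2 * j + 1) := by ring
    rw [e, v_two_mul, v_two_mul_add_one]; simp; ring
  · have e : 4 * j + 3 = 2 * (2 * j + 1) + 1 := by ring
    rw [e, v_two_mul_add_one, v_two_mul_add_one]; simp; ring

/-- correction factor -/
def β (i : ℕ) : ℕ := if i = 2 then 2 else if i = 3 then 3 else 1

/-- the bound for nilpotent subgroups of the symmetric group of degree `n` -/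
def Bd (n : ℕ) : ℕ := β (n % 4) * 2 ^ (3 * (n / 4) + v (n / 4))

theorem Bd_four (j i : ℕ) (hi : i < 4) : Bd (4 * j + i) = β i * 2 ^ (3 * j + v j) := by
  unfold Bd
  have h1 : (4 * j + i) % 4 = i := by omega
  have h2 : (4 * j + i) / 4 = j := by omega
  rw [h1, h2]

theorem two_pow_v_le_Bd (n : ℕ) : 2 ^ v n ≤ Bd n := by
  obtain ⟨j, i, hi, rfl⟩ : ∃ j i, i < 4 ∧ n = 4 * j + i := ⟨n / 4, n % 4, Nat.mod_lt _ (by norm_num), by omega⟩
  rw [Bd_four j i hi, v_four j i hi]
  interval_cases i <;> simp [β, pow_succ] <;> omega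

theorem Bd_eq {n : ℕ} (hn : n % 4 ≠ 3) : Bd n = 2 ^ v n := by
  obtain ⟨j, i, hi, rfl⟩ : ∃ j i, i < 4 ∧ n = 4 * j + i := ⟨n / 4, n % 4, Nat.mod_lt _ (by norm_num), by omega⟩
  rw [Bd_four j i hi, v_four j i hi]
  have h3 : i ≠ 3 := by omega
  interval_cases i <;> simp [β, pow_succ] <;> omega

theorem Bd_zero : Bd 0 = 1 := by
  simp [Bd, β, v_zero]

theorem Bd_mul_le (a b : ℕ) : Bd a * Bd b ≤ Bd (a + b) := by
  obtain ⟨a', i, hi, rfl⟩ : ∃ j i, i < 4 ∧ a = 4 * j + i := ⟨a / 4, a % 4, Nat.mod_lt _ (by norm_num), by omega⟩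
  obtain ⟨b', j, hj, rfl⟩ : ∃ j i, i < 4 ∧ b = 4 * j + i := ⟨b / 4, b % 4, Nat.mod_lt _ (by norm_num), by omega⟩
  rw [Bd_four a' i hi, Bd_four b' j hj]
  have hσ := v_add a' b'
  have hσ1 : v (a' + b') ≤ v (a' + b' + 1) := v_mono (by omega)
  set W := 3 * (a' + b') + v a' + v b' with hW
  have hL : β i * 2 ^ (3 * a' + v a') * (β j * 2 ^ (3 * b' + v b')) = β i * β j * 2 ^ W := by
    rw [hW]
    have : 3 * (a' + b') + v a' + v b' = (3 * a' + v a') + (3 * b' + v b') := by ring
    rw [this, pow_add]; ring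
  rw [hL]
  by_cases hij : i + j < 4
  · have e : 4 * a' + i + (4 * b' + j) = 4 * (a' + b') + (i + j) := by ring
    rw [e, Bd_four _ _ hij]
    have h1 : 2 ^ W ≤ 2 ^ (3 * (a' + b') + v (a' + b')) := Nat.pow_le_pow_right (by norm_num) (by omega)
    have h2 : β i * β j ≤ β (i + j) := by
      interval_cases i <;> interval_cases j <;> simp [β] at hij ⊢
    exact Nat.mul_le_mul h2 h1
  · have hij4 : i + j - 4 < 4 := by omega
    have e : 4 * a' + i + (4 * b' + j) = 4 * (a' + b' + 1) + (i + j - 4) := by omega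
    rw [e, Bd_four _ _ hij4]
    have h1 : 2 ^ (W + 3) ≤ 2 ^ (3 * (a' + b' + 1) + v (a' + b' + 1)) :=
      Nat.pow_le_pow_right (by norm_num) (by omega)
    have h2 : β i * β j ≤ 8 * β (i + j - 4) := by
      interval_cases i <;> interval_cases j <;> simp [β] at hij ⊢
    calc β i * β j * 2 ^ W ≤ 8 * β (i + j - 4) * 2 ^ W := Nat.mul_le_mul_right _ h2
      _ = β (i + j - 4) * 2 ^ (W + 3) := by rw [pow_add]; ring
      _ ≤ β (i + j - 4) * 2 ^ (3 * (a' + b' + 1) + v (a' + b' + 1)) := Nat.mul_le_mul_left _ h1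

theorem three_le_Bd {n : ℕ} (hn : 3 ≤ n) : 3 ≤ Bd n := by
  by_cases h3 : n = 3
  · subst h3
    simp [Bd, β, v_zero]
  · have h4 : 4 ≤ n := by omega
    have h1 : v 4 ≤ v n := v_mono h4
    have h2 : v 4 = 3 := by
      have := v_four 1 0 (by norm_num)
      simpa [v_one] using this
    have h5 : 2 ^ 3 ≤ 2 ^ v n := Nat.pow_le_pow_right (by norm_num) (by omega)
    have := two_pow_v_le_Bd n
    omega


/-- crude bound: a `p`-power dividing `q!` is at most `2^(q-1)` -/
theorem pp_crude {p : ℕ} [hp : Fact p.Prime] {q : ℕ} (hq : q ≠ 0) :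
    p ^ padicValNat p q.factorial ≤ 2 ^ (q - 1) := by
  have h1 := sub_one_mul_padicValNat_factorial_lt_of_ne_zero (p := p) hq
  have h2 : p ≤ 2 ^ (p - 1) := by
    have := Nat.lt_two_pow_self (n := p - 1)
    have hp2 := hp.out.two_le
    omega
  calc p ^ padicValNat p q.factorial ≤ (2 ^ (p - 1)) ^ padicValNat p q.factorial :=
        Nat.pow_le_pow_left h2 _
    _ = 2 ^ ((p - 1) * padicValNat p q.factorial) := by rw [← pow_mul]
    _ ≤ 2 ^ (q - 1) := Nat.pow_le_pow_right (by norm_num) (by omega)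

theorem two_k_add_one_le (k : ℕ) (hk : 3 ≤ k) : 2 * k + 1 ≤ 2 ^ k := by
  induction k, hk using Nat.le_induction with
  | base => norm_num
  | succ k hk ih => rw [pow_succ]; omega

/-- primes `≥ 7` -/
theorem pp_ge_seven {p : ℕ} [hp : Fact p.Prime] (h7 : 7 ≤ p) {q : ℕ} (hq : q ≠ 0) :
    p ^ padicValNat p q.factorial ≤ 2 ^ v q := by
  have h1 := sub_one_mul_padicValNat_factorial_lt_of_ne_zero (p := p) hq
  set ν := padicValNat p q.factorial with hν
  have hodd : p % 2 = 1 := by
    rcases hp.out.eq_two_or_odd with h | h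
    · omega
    · exact h
  obtain ⟨k, hk⟩ : ∃ k, p = 2 * k + 1 := ⟨p / 2, by omega⟩
  have hk3 : 3 ≤ k := by omega
  have h2 : p ≤ 2 ^ k := by rw [hk]; exact two_k_add_one_le k hk3
  have h3 : k * ν ≤ q / 2 := by
    have : (p - 1) * ν = 2 * (k * ν) := by rw [hk]; simp; ring
    omega
  calc p ^ ν ≤ (2 ^ k) ^ ν := Nat.pow_le_pow_left h2 _
    _ = 2 ^ (k * ν) := by rw [← pow_mul]
    _ ≤ 2 ^ v q := Nat.pow_le_pow_right (by norm_num) (h3.trans (half_le_v q))

theorem five_pow_mod (b : ℕ) : 5 ^ b % 4 = 1 := by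
  induction b with
  | zero => norm_num
  | succ b ih => rw [pow_succ, Nat.mul_mod, ih]

/-- the prime `5` -/
theorem pp_five (b : ℕ) : 5 ^ padicValNat 5 (5 ^ b).factorial ≤ 2 ^ v (5 ^ b) := by
  have : Fact (Nat.Prime 5) := ⟨by norm_num⟩
  have hq : 5 ^ b ≠ 0 := by positivity
  have h1 := sub_one_mul_padicValNat_factorial_lt_of_ne_zero (p := 5) hq
  have hmod := five_pow_mod b
  generalize 5 ^ b = q at *
  set ν := padicValNat 5 q.factorial with hν
  have h2 : v q = q / 2 + (q / 2 / 2 + v (q / 2 / 2)) := by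
    rw [v_half q, v_half (q / 2)]
  have h3 : 3 * ν ≤ v q := by
    rw [h2]
    norm_num at h1
    omega
  calc 5 ^ ν ≤ (2 ^ 3) ^ ν := Nat.pow_le_pow_left (by norm_num) _
    _ = 2 ^ (3 * ν) := by rw [← pow_mul]
    _ ≤ 2 ^ v q := Nat.pow_le_pow_right (by norm_num) h3

theorem three_val_succ (b : ℕ) :
    padicValNat 3 (3 ^ (b + 1)).factorial = padicValNat 3 (3 ^ b).factorial + 3 ^ b := by
  have : Fact (Nat.Prime 3) := ⟨by norm_num⟩
  rw [pow_succ, mul_comm, padicValNat_factorial_mul]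

/-- the prime `3`, from `9` on -/
theorem pp_three (b : ℕ) (hb : 2 ≤ b) :
    3 ^ padicValNat 3 (3 ^ b).factorial ≤ 2 ^ v (3 ^ b) := by
  induction b, hb using Nat.le_induction with
  | base =>
    have h1 : padicValNat 3 (3 ^ 2).factorial = 4 := by
      rw [three_val_succ, three_val_succ]
      simp
    have h2 : v (3 ^ 2) = 7 := by
      have e : 3 ^ 2 = 4 * 2 + 1 := by norm_num
      rw [e, v_four 2 1 (by norm_num)]
      have : v 2 = 1 := by
        have := v_two_mul 1
        simpa [v_one] using this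
      rw [this]; norm_num
    rw [h1, h2]; norm_num
  | succ b hb ih =>
    rw [three_val_succ, pow_add]
    set q := 3 ^ b with hq
    obtain ⟨t, ht⟩ : ∃ t, q = 9 * t := by
      obtain ⟨c, rfl⟩ : ∃ c, b = 2 + c := ⟨b - 2, by omega⟩
      exact ⟨3 ^ c, by rw [hq, pow_add]; norm_num⟩
    have h9 : v 9 = 7 := by
      have e : 9 = 4 * 2 + 1 := by norm_num
      rw [e, v_four 2 1 (by norm_num)]
      have : v 2 = 1 := by
        have := v_two_mul 1
        simpa [v_one] using this
      rw [this]; norm_num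
    have h1 : 7 * t ≤ v q := by
      have := v_mul t 9
      rw [h9] at this
      rw [ht, mul_comm 9 t]
      omega
    have h2 : (3 : ℕ) ^ q ≤ 2 ^ (q + v q) := by
      calc (3 : ℕ) ^ q = (3 ^ 9) ^ t := by rw [ht, pow_mul]
        _ ≤ (2 ^ 16) ^ t := Nat.pow_le_pow_left (by norm_num) _
        _ = 2 ^ (16 * t) := by rw [← pow_mul]
        _ ≤ 2 ^ (q + v q) := Nat.pow_le_pow_right (by norm_num) (by omega)
    have h3 : q + v q + v q ≤ v (3 ^ (b + 1)) := by
      have e : 3 ^ (b + 1) = 2 * q + q := by rw [pow_succ, hq]; ring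
      rw [e]
      have := v_add (2 * q) q
      rw [v_two_mul] at this
      omega
    calc 3 ^ padicValNat 3 q.factorial * 3 ^ q ≤ 2 ^ v q * 2 ^ (q + v q) := Nat.mul_le_mul ih h2
      _ = 2 ^ (q + v q + v q) := by rw [← pow_add]; ring_nf
      _ ≤ 2 ^ v (3 ^ (b + 1)) := Nat.pow_le_pow_right (by norm_num) h3

/-- odd prime powers other than `3` -/
theorem pp_odd {p : ℕ} [hp : Fact p.Prime] (hp2 : p ≠ 2) (b : ℕ) (h3 : p ^ b ≠ 3) :
    p ^ padicValNat p (p ^ b).factorial ≤ 2 ^ v (p ^ b) := by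
  have hq : p ^ b ≠ 0 := pow_ne_zero _ hp.out.ne_zero
  by_cases h7 : 7 ≤ p
  · exact pp_ge_seven h7 hq
  · have hp' := hp.out
    have hp2' := hp'.two_le
    have : p = 3 ∨ p = 5 := by
      have hlt : p < 7 := by omega
      interval_cases p <;> simp_all <;> norm_num at hp'
    rcases this with rfl | rfl
    · by_cases hb : 2 ≤ b
      · exact pp_three b hb
      · have : b = 0 ∨ b = 1 := by omega
        rcases this with rfl | rfl
        · simp [v_one]
        · simp at h3
    · exact pp_five b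

end Cfsg.Agent.Lib.Helper20.NilpSym
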