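import Mathlib
import Cfsg.Agent.Lib.Helper20.NilpSymArith

set_option autoImplicit false
set_option linter.unusedVariables false

namespace Cfsg.Agent.Lib.Helper20.NilpSym

open Nat

theorem half_add_one_le_v {n : ℕ} (hn : 4 ≤ n) : n / 2 + 1 ≤ v n := by
  rw [v_half n]
  have h1 : 1 ≤ v (n / 2) := by
    have := half_le_v (n / 2)
    have : 1 ≤ n / 2 / 2 := by omega
    omega
  omega

/-- primes `≥ 7`, sharpened -/
theorem pp_ge_seven' {p : ℕ} [hp : Fact p.Prime] (h7 : 7 ≤ p) {q : ℕ} (hq : 7 ≤ q) :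
    2 * p ^ padicValNat p q.factorial ≤ 2 ^ v q := by
  have hq0 : q ≠ 0 := by omega
  have h1 := sub_one_mul_padicValNat_factorial_lt_of_ne_zero (p := p) hq0
  set ν := padicValNat p q.factorial with hν
  have hodd : p % 2 = 1 := by
    rcases hp.out.eq_two_or_odd with h | h
    · omega
    · exact h
  obtain ⟨k, hk⟩ : ∃ k, p = 2 * k + 1 := ⟨p / 2, by omega⟩
  have hk3 : 3 ≤ k := by omega
  have h2 : p ≤ 2 ^ k := by rw [hk]; exact two_k_add_one_le k hk3
  have h3 : k * ν ≤ q / 2 := by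
    have : (p - 1) * ν = 2 * (k * ν) := by rw [hk]; simp; ring
    omega
  have h4 := half_add_one_le_v (n := q) (by omega)
  calc 2 * p ^ ν ≤ 2 * (2 ^ k) ^ ν := Nat.mul_le_mul_left _ (Nat.pow_le_pow_left h2 _)
    _ = 2 ^ (k * ν + 1) := by rw [← pow_mul, pow_succ]; ring
    _ ≤ 2 ^ v q := Nat.pow_le_pow_right (by norm_num) (by omega)

/-- the prime `5`, sharpened, from `25` on -/
theorem pp_five' (b : ℕ) (hb : 2 ≤ b) :
    2 * 5 ^ padicValNat 5 (5 ^ b).factorial ≤ 2 ^ v (5 ^ b) := by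
  have : Fact (Nat.Prime 5) := ⟨by norm_num⟩
  have hq : 5 ^ b ≠ 0 := by positivity
  have h1 := sub_one_mul_padicValNat_factorial_lt_of_ne_zero (p := 5) hq
  have hmod := five_pow_mod b
  have h25 : 25 ≤ 5 ^ b := by
    calc 25 = 5 ^ 2 := by norm_num
      _ ≤ 5 ^ b := Nat.pow_le_pow_right (by norm_num) hb
  generalize 5 ^ b = q at *
  set ν := padicValNat 5 q.factorial with hν
  have h2 : v q = q / 2 + (q / 2 / 2 + v (q / 2 / 2)) := by
    rw [v_half q, v_half (q / 2)]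
  have h2' : (q / 2 / 2) / 2 ≤ v (q / 2 / 2) := half_le_v _
  have h3 : 3 * ν + 1 ≤ v q := by
    rw [h2]
    norm_num at h1
    omega
  calc 2 * 5 ^ ν ≤ 2 * (2 ^ 3) ^ ν := Nat.mul_le_mul_left _ (Nat.pow_le_pow_left (by norm_num) _)
    _ = 2 ^ (3 * ν + 1) := by rw [← pow_mul, pow_succ]; ring
    _ ≤ 2 ^ v q := Nat.pow_le_pow_right (by norm_num) h3

theorem v_small : v 0 = 0 ∧ v 1 = 0 ∧ v 2 = 1 ∧ v 3 = 1 ∧ v 4 = 3 ∧ v 5 = 3 ∧ v 6 = 4 := by
  have h2 : v 2 = 1 := by have := v_two_mul 1; simpa [v_one] using this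
  have h3 : v 3 = 1 := by have := v_two_mul_add_one 1; simpa [v_one] using this
  have h4 : v 4 = 3 := by have := v_two_mul 2; rw [h2] at this; simpa using this
  have h5 : v 5 = 3 := by have := v_two_mul_add_one 2; rw [h2] at this; simpa using this
  have h6 : v 6 = 4 := by have := v_two_mul 3; rw [h3] at this; simpa using this
  exact ⟨v_zero, v_one, h2, h3, h4, h5, h6⟩

/-- the prime `3`, sharpened, from `27` on -/
theorem pp_three' (b : ℕ) (hb : 3 ≤ b) :
    2 * 3 ^ padicValNat 3 (3 ^ b).factorial ≤ 2 ^ v (3 ^ b) := by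
  induction b, hb using Nat.le_induction with
  | base =>
    have h1 : padicValNat 3 (3 ^ 3).factorial = 13 := by
      rw [three_val_succ, three_val_succ, three_val_succ]
      simp
    have h2 : v (3 ^ 3) = 23 := by
      obtain ⟨-, -, -, h3, -, -, h6⟩ := v_small
      have e : 3 ^ 3 = 2 * 13 + 1 := by norm_num
      rw [e, v_two_mul_add_one]
      have e2 : 13 = 2 * 6 + 1 := by norm_num
      rw [e2, v_two_mul_add_one, h6]
    rw [h1, h2]; norm_num
  | succ b hb ih =>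
    rw [three_val_succ, pow_add]
    set q := 3 ^ b with hq
    obtain ⟨t, ht⟩ : ∃ t, q = 9 * t := by
      obtain ⟨c, rfl⟩ : ∃ c, b = 2 + c := ⟨b - 2, by omega⟩
      exact ⟨3 ^ c, by rw [hq, pow_add]; norm_num⟩
    have h9 : v 9 = 7 := by
      have e : 9 = 4 * 2 + 1 := by norm_num
      rw [e, v_four 2 1 (by norm_num)]
      have : v 2 = 1 := v_small.2.2.1
      rw [this]; norm_num
    have h1 : 7 * t ≤ v q := by
      have := v_mul t 9
      rw [h9] at this
      rw [ht, mul_comm 9 t]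
      omega
    have h2 : (3 : ℕ) ^ q ≤ 2 ^ (q + v q) := by
      calc (3 : ℕ) ^ q = (3 ^ 9) ^ t := by rw [ht, pow_mul]
        _ ≤ (2 ^ 16) ^ t := Nat.pow_le_pow_left (by norm_num) _
        _ = 2 ^ (16 * t) := by rw [← pow_mul]
        _ ≤ 2 ^ (q + v q) := Nat.pow_le_pow_right (by norm_num) (by omega)
    have h3 : q + v q + v q ≤ v (3 ^ (b + 1)) := by
      have e : 3 ^ (b + 1) = 2 * q + q := by rw [pow_succ, hq]; ring
      rw [e]
      have := v_add (2 * q) q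
      rw [v_two_mul] at this
      omega
    calc 2 * (3 ^ padicValNat 3 q.factorial * 3 ^ q)
        = (2 * 3 ^ padicValNat 3 q.factorial) * 3 ^ q := by ring
      _ ≤ 2 ^ v q * 2 ^ (q + v q) := Nat.mul_le_mul ih h2
      _ = 2 ^ (q + v q + v q) := by rw [← pow_add]; ring_nf
      _ ≤ 2 ^ v (3 ^ (b + 1)) := Nat.pow_le_pow_right (by norm_num) h3

/-- odd prime powers other than `1, 3, 5, 9`, sharpened -/
theorem pp_odd' {p : ℕ} [hp : Fact p.Prime] (hp2 : p ≠ 2) (b : ℕ) (h1 : p ^ b ≠ 1) (h3 : p ^ b ≠ 3)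
    (h5 : p ^ b ≠ 5) (h9 : p ^ b ≠ 9) :
    2 * p ^ padicValNat p (p ^ b).factorial ≤ 2 ^ v (p ^ b) := by
  have hb : b ≠ 0 := by rintro rfl; simp at h1
  have hp' := hp.out
  have hp2' := hp'.two_le
  have hle : p ≤ p ^ b := by
    calc p = p ^ 1 := (pow_one p).symm
      _ ≤ p ^ b := Nat.pow_le_pow_right hp'.pos (by omega)
  by_cases h7 : 7 ≤ p
  · exact pp_ge_seven' h7 (by omega)
  · have : p = 3 ∨ p = 5 := by
      have hlt : p < 7 := by omega
      interval_cases p <;> simp_all <;> norm_num at hp'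
    rcases this with rfl | rfl
    · by_cases hb3 : 3 ≤ b
      · exact pp_three' b hb3
      · have : b = 1 ∨ b = 2 := by omega
        rcases this with rfl | rfl
        · simp at h3
        · simp at h9
    · by_cases hb2 : 2 ≤ b
      · exact pp_five' b hb2
      · have : b = 1 := by omega
        subst this
        simp at h5

/-- bound for even transitive nilpotent groups -/
def aB (m : ℕ) : ℕ :=
  if m = 1 then 1 else if m = 3 then 3 else if m = 5 then 5 else if m = 9 then 81 else Bd m / 2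

/-- bound for nilpotent subgroups of alternating groups -/
def αB (k : ℕ) : ℕ :=
  if k = 0 then 1 else if k = 1 then 1 else if k = 3 then 3 else if k = 5 then 5
  else if k = 6 then 9 else if k = 9 then 81 else Bd k / 2

theorem Bd_vals : Bd 0 = 1 ∧ Bd 1 = 1 ∧ Bd 2 = 2 ∧ Bd 3 = 3 ∧ Bd 4 = 8 ∧ Bd 5 = 8 ∧ Bd 6 = 16 ∧
    Bd 7 = 24 ∧ Bd 8 = 128 ∧ Bd 9 = 128 ∧ Bd 10 = 256 ∧ Bd 11 = 384 ∧ Bd 12 = 1024 ∧
    Bd 14 = 2048 ∧ Bd 15 = 3072 ∧ Bd 18 = 65536 := by
  obtain ⟨h0, h1, h2, h3, h4, h5, h6⟩ := v_small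
  have e : ∀ j i, i < 4 → Bd (4 * j + i) = β i * 2 ^ (3 * j + v j) := Bd_four
  refine ⟨?_, ?_, ?_, ?_, ?_, ?_, ?_, ?_, ?_, ?_, ?_, ?_, ?_, ?_, ?_, ?_⟩
  · have := e 0 0 (by norm_num); simpa [β, h0] using this
  · have := e 0 1 (by norm_num); simpa [β, h0] using this
  · have := e 0 2 (by norm_num); simpa [β, h0] using this
  · have := e 0 3 (by norm_num); simpa [β, h0] using this
  · have := e 1 0 (by norm_num); simpa [β, h1] using this
  · have := e 1 1 (by norm_num); simpa [β, h1] using this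
  · have := e 1 2 (by norm_num); simpa [β, h1] using this
  · have := e 1 3 (by norm_num); simpa [β, h1] using this
  · have := e 2 0 (by norm_num); simpa [β, h2] using this
  · have := e 2 1 (by norm_num); simpa [β, h2] using this
  · have := e 2 2 (by norm_num); simpa [β, h2] using this
  · have := e 2 3 (by norm_num); simpa [β, h2] using this
  · have := e 3 0 (by norm_num); simpa [β, h3] using this
  · have := e 3 2 (by norm_num); simpa [β, h3] using this
  · have := e 3 3 (by norm_num); simpa [β, h3] using this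
  · have := e 4 2 (by norm_num); simpa [β, h4] using this

theorem le_aB_of {m c : ℕ} (h : 2 * c ≤ Bd m) : c ≤ aB m := by
  obtain ⟨b0, b1, b2, b3, b4, b5, b6, b7, b8, b9, -⟩ := Bd_vals
  unfold aB
  split_ifs with h1 h3 h5 h9
  · subst h1; omega
  · subst h3; omega
  · subst h5; omega
  · subst h9; omega
  · omega

theorem le_αB_of {k c : ℕ} (h : 2 * c ≤ Bd k) : c ≤ αB k := by
  obtain ⟨b0, b1, b2, b3, b4, b5, b6, b7, b8, b9, -⟩ := Bd_vals
  unfold αB
  split_ifs with h0 h1 h3 h5 h6 h9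
  · subst h0; omega
  · subst h1; omega
  · subst h3; omega
  · subst h5; omega
  · subst h6; omega
  · subst h9; omega
  · omega

theorem aB_le_Bd (m : ℕ) : aB m ≤ Bd m := by
  obtain ⟨b0, b1, b2, b3, b4, b5, b6, b7, b8, b9, -⟩ := Bd_vals
  unfold aB
  split_ifs with h1 h3 h5 h9
  · subst h1; omega
  · subst h3; omega
  · subst h5; omega
  · subst h9; omega
  · omega

theorem αB_le_Bd (k : ℕ) : αB k ≤ Bd k := by
  obtain ⟨b0, b1, b2, b3, b4, b5, b6, b7, b8, b9, -⟩ := Bd_vals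
  unfold αB
  split_ifs with h0 h1 h3 h5 h6 h9
  · subst h0; omega
  · subst h1; omega
  · subst h3; omega
  · subst h5; omega
  · subst h6; omega
  · subst h9; omega
  · omega

theorem two_aB_le {m : ℕ} (h1 : m ≠ 1) (h3 : m ≠ 3) (h5 : m ≠ 5) (h9 : m ≠ 9) :
    2 * aB m ≤ Bd m := by
  unfold aB
  rw [if_neg h1, if_neg h3, if_neg h5, if_neg h9]
  omega

theorem two_αB_le {k : ℕ} (h0 : k ≠ 0) (h1 : k ≠ 1) (h3 : k ≠ 3) (h5 : k ≠ 5) (h6 : k ≠ 6)
    (h9 : k ≠ 9) : 2 * αB k ≤ Bd k := by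
  unfold αB
  rw [if_neg h0, if_neg h1, if_neg h3, if_neg h5, if_neg h6, if_neg h9]
  omega

theorem aB_mul_αB_le (m k : ℕ) (hm : 1 ≤ m) : aB m * αB k ≤ αB (m + k) := by
  by_cases hme : m ≠ 1 ∧ m ≠ 3 ∧ m ≠ 5 ∧ m ≠ 9
  · apply le_αB_of
    calc 2 * (aB m * αB k) = (2 * aB m) * αB k := by ring
      _ ≤ Bd m * Bd k := Nat.mul_le_mul (two_aB_le hme.1 hme.2.1 hme.2.2.1 hme.2.2.2) (αB_le_Bd k)
      _ ≤ Bd (m + k) := Bd_mul_le m k
  · by_cases hke : k ≠ 0 ∧ k ≠ 1 ∧ k ≠ 3 ∧ k ≠ 5 ∧ k ≠ 6 ∧ k ≠ 9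
    · apply le_αB_of
      calc 2 * (aB m * αB k) = aB m * (2 * αB k) := by ring
        _ ≤ Bd m * Bd k := Nat.mul_le_mul (aB_le_Bd m)
            (two_αB_le hke.1 hke.2.1 hke.2.2.1 hke.2.2.2.1 hke.2.2.2.2.1 hke.2.2.2.2.2)
        _ ≤ Bd (m + k) := Bd_mul_le m k
    · obtain ⟨b0, b1, b2, b3, b4, b5, b6, b7, b8, b9, b10, b11, b12, b14, b15, b18⟩ := Bd_vals
      have hm' : m = 1 ∨ m = 3 ∨ m = 5 ∨ m = 9 := by omega
      have hk' : k = 0 ∨ k = 1 ∨ k = 3 ∨ k = 5 ∨ k = 6 ∨ k = 9 := by omega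
      rcases hm' with rfl | rfl | rfl | rfl <;> rcases hk' with rfl | rfl | rfl | rfl | rfl | rfl <;>
        simp [aB, αB, *]

end Cfsg.Agent.Lib.Helper20.NilpSym
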