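import Mathlib
import Cfsg.Agent.Lib.Helper20.NilpSymArith
import Cfsg.Agent.Lib.helper4.MinNonNilp

set_option autoImplicit false

namespace Cfsg.Agent.Lib.Helper20.NilpSym

open MulAction

section fin

theorem sum_add_one_le_prod (s : Finset ℕ) (q : ℕ → ℕ) (hq : ∀ p ∈ s, 1 ≤ q p) :
    ∑ p ∈ s, (q p - 1) + 1 ≤ ∏ p ∈ s, q p := by
  classical
  induction s using Finset.induction_on with
  | empty => simp
  | insert x t hx ih =>
    rw [Finset.sum_insert hx, Finset.prod_insert hx]
    have h1 := ih (fun p hp => hq p (Finset.mem_insert_of_mem hp))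
    have h2 := hq x (Finset.mem_insert_self x t)
    have h3 : 1 ≤ ∏ p ∈ t, q p := by omega
    generalize q x = A at *
    generalize ∏ p ∈ t, q p = Pt at *
    generalize ∑ p ∈ t, (q p - 1) = St at *
    obtain ⟨a, rfl⟩ : ∃ a, A = a + 1 := ⟨A - 1, by omega⟩
    obtain ⟨c, rfl⟩ : ∃ c, Pt = c + 1 := ⟨Pt - 1, by omega⟩
    have : (a + 1) * (c + 1) = a * c + a + c + 1 := by ring
    rw [this, Nat.add_sub_cancel]
    omega

theorem two_sum_le_prod (s : Finset ℕ) (q : ℕ → ℕ) (hq : ∀ p ∈ s, 2 ≤ q p) (hs : 2 ≤ s.card) :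
    2 * ∑ p ∈ s, (q p - 1) ≤ ∏ p ∈ s, q p := by
  classical
  obtain ⟨x, hx⟩ : s.Nonempty := Finset.card_pos.1 (by omega)
  have hsx : s = insert x (s.erase x) := (Finset.insert_erase hx).symm
  set t := s.erase x with ht
  have hxt : x ∉ t := Finset.notMem_erase x s
  have htc : 1 ≤ t.card := by
    rw [ht, Finset.card_erase_of_mem hx]; omega
  obtain ⟨y, hy⟩ : t.Nonempty := Finset.card_pos.1 (by omega)
  rw [hsx, Finset.sum_insert hxt, Finset.prod_insert hxt]
  have hqt : ∀ p ∈ t, 2 ≤ q p := fun p hp => hq p (Finset.mem_of_mem_erase hp)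
  have h1 := sum_add_one_le_prod t q (fun p hp => by have := hqt p hp; omega)
  have h2 : 2 ≤ ∏ p ∈ t, q p := by
    have hyt : t = insert y (t.erase y) := (Finset.insert_erase hy).symm
    rw [hyt, Finset.prod_insert (Finset.notMem_erase y t)]
    have h3 : 1 ≤ ∏ p ∈ t.erase y, q p :=
      Finset.one_le_prod' (fun p hp => by have := hqt p (Finset.mem_of_mem_erase hp); omega)
    have h4 := hqt y hy
    nlinarith
  have h5 := hq x hx
  generalize q x = A at *
  generalize ∏ p ∈ t, q p = Pt at *
  generalize ∑ p ∈ t, (q p - 1) = St at *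
  obtain ⟨a, rfl⟩ : ∃ a, A = a + 2 := ⟨A - 2, by omega⟩
  obtain ⟨c, rfl⟩ : ∃ c, Pt = c + 2 := ⟨Pt - 2, by omega⟩
  have e1 : (a + 2) * (c + 2) = a * c + 2 * a + 2 * c + 4 := by ring
  have e2 : a + 2 - 1 = a + 1 := by omega
  rw [e1, e2]
  omega

theorem prod_dvd_of_pp (s : Finset ℕ) (q b : ℕ → ℕ) (hs : ∀ p ∈ s, p.Prime)
    (hq : ∀ p, q p = p ^ b p) (m : ℕ) (hdvd : ∀ p ∈ s, q p ∣ m) : ∏ p ∈ s, q p ∣ m := by
  classical
  induction s using Finset.induction_on with
  | empty => simp
  | insert x t hx ih =>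
    rw [Finset.prod_insert hx]
    apply Nat.Coprime.mul_dvd_of_dvd_of_dvd
    · apply Nat.Coprime.prod_right
      intro p hp
      rw [hq x, hq p]
      apply Nat.Coprime.pow
      rw [Nat.coprime_primes (hs x (Finset.mem_insert_self x t))
        (hs p (Finset.mem_insert_of_mem hp))]
      rintro rfl
      exact hx hp
    · exact hdvd x (Finset.mem_insert_self x t)
    · exact ih (fun p hp => hs p (Finset.mem_insert_of_mem hp))
        (fun p hp => hdvd p (Finset.mem_insert_of_mem hp))

end fin

section trans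

variable {H : Type*} [Group H] [Finite H] {X : Type*} [MulAction H X]

/-- a Sylow subgroup of a nilpotent group together with its centralizer generates the group -/
theorem sylow_sup_centralizer [hnil : Group.IsNilpotent H] (p : ℕ) [Fact p.Prime] (P : Sylow p H) :
    (P : Subgroup H) ⊔ Subgroup.centralizer ((P : Subgroup H) : Set H) = ⊤ := by
  apply Cfsg.Agent.Lib.helper4.eq_top_of_contains_sylows
  intro r hr
  by_cases hrp : r = p
  · subst hrp
    exact ⟨P, le_sup_left⟩
  · obtain ⟨S⟩ : Nonempty (Sylow r H) := inferInstance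
    refine ⟨S, le_trans ?_ le_sup_right⟩
    intro s hs
    rw [Subgroup.mem_centralizer_iff]
    intro x hx
    have hdis : Disjoint (S : Subgroup H) (P : Subgroup H) :=
      IsPGroup.disjoint_of_ne r p hrp _ _ S.2 P.2
    exact (Subgroup.commute_of_normal_of_disjoint _ _ inferInstance inferInstance hdis s x hs hx).eq.symm

/-- a Sylow subgroup of a transitive faithful nilpotent group acts faithfully on each orbit -/
theorem sylow_faithful_on_orbit [hnil : Group.IsNilpotent H] [FaithfulSMul H X]
    [IsPretransitive H X] (p : ℕ) [Fact p.Prime] (P : Sylow p H) (x₀ : X) (g : H)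
    (hg : g ∈ (P : Subgroup H))
    (hfix : ∀ u ∈ (P : Subgroup H), g • (u • x₀) = u • x₀) : g = 1 := by
  apply FaithfulSMul.eq_of_smul_eq_smul (α := X)
  intro y
  rw [one_smul]
  obtain ⟨h, rfl⟩ := exists_smul_eq H x₀ y
  have hmem : h ∈ (((P : Subgroup H) ⊔ Subgroup.centralizer ((P : Subgroup H) : Set H) :
      Subgroup H) : Set H) := by
    rw [sylow_sup_centralizer p P]; trivial
  rw [Subgroup.normal_mul] at hmem
  obtain ⟨u, hu, c, hc, rfl⟩ := hmem
  have hc' := Subgroup.mem_centralizer_iff.1 hc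
  have h1 : g * (u * c) = c * (g * u) := by
    have := hc' (g * u) ((P : Subgroup H).mul_mem hg hu)
    rw [← mul_assoc]; exact this
  have h2 : u * c = c * u := hc' u hu
  rw [smul_smul, h1, mul_smul, mul_smul, hfix u hu, ← mul_smul, ← h2]


/-- the data attached to a prime: the size `q = p^b` of an orbit of the Sylow `p`-subgroup -/
theorem sylow_bound [hnil : Group.IsNilpotent H] [FaithfulSMul H X] [IsPretransitive H X]
    [Finite X] (x₀ : X) (p : ℕ) :
    ∃ q b : ℕ, q = p ^ b ∧ q ∣ Nat.card X ∧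
      (p.Prime → p ^ (Nat.card H).factorization p ≤ p ^ padicValNat p q.factorial) := by
  by_cases hp : p.Prime
  · have : Fact p.Prime := ⟨hp⟩
    obtain ⟨P⟩ : Nonempty (Sylow p H) := inferInstance
    set O : Set X := orbit ↥(P : Subgroup H) x₀ with hO
    obtain ⟨b, hb⟩ := P.2.card_orbit x₀
    have hdvd : O.ncard ∣ Nat.card X :=
      (IsBlock.orbit_of_normal (N := (P : Subgroup H)) x₀).ncard_dvd_card ⟨x₀, mem_orbit_self x₀⟩
    have hcardO : Nat.card ↥O = O.ncard := Nat.card_coe_set_eq O
    refine ⟨O.ncard, b, ?_, hdvd, fun _ => ?_⟩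
    · rw [← hcardO]; exact hb
    · let φ : ↥(P : Subgroup H) →* Equiv.Perm ↥O := MulAction.toPermHom ↥(P : Subgroup H) ↥O
      have hinj : Function.Injective φ := by
        rw [injective_iff_map_eq_one]
        intro g hg
        apply Subtype.ext
        apply sylow_faithful_on_orbit p P x₀ (g : H) g.2
        intro u hu
        have hmem : u • x₀ ∈ O := ⟨⟨u, hu⟩, rfl⟩
        have h1 : φ g ⟨u • x₀, hmem⟩ = ⟨u • x₀, hmem⟩ := by rw [hg]; rfl
        have h2 := congrArg Subtype.val h1
        exact h2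
      have h1 : Nat.card ↥(P : Subgroup H) ∣ Nat.card (Equiv.Perm ↥O) :=
        Subgroup.card_dvd_of_injective φ hinj
      rw [Nat.card_perm, hcardO, P.card_eq_multiplicity] at h1
      exact Nat.pow_le_pow_right hp.pos
        ((padicValNat_dvd_iff_le (Nat.factorial_ne_zero _)).1 h1)
  · exact ⟨1, 0, by simp, one_dvd _, fun h => absurd h hp⟩


/-- the order of a nilpotent transitive permutation group of degree `m` is at most `Bd m` -/
theorem trans_bound [hnil : Group.IsNilpotent H] [FaithfulSMul H X] [IsPretransitive H X]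
    [Finite X] [Nonempty X] : Nat.card H ≤ Bd (Nat.card X) := by
  classical
  obtain ⟨x₀⟩ : Nonempty X := inferInstance
  choose q b hq1 hq2 hq3 using (sylow_bound (H := H) x₀)
  set n := Nat.card H with hn
  set m := Nat.card X with hm
  have hn0 : n ≠ 0 := Nat.card_pos.ne'
  have hm0 : m ≠ 0 := Nat.card_pos.ne'
  have hfac : n = ∏ p ∈ n.primeFactors, p ^ n.factorization p := by
    conv_lhs => rw [← Nat.prod_factorization_pow_eq_self hn0]
    rw [Nat.prod_factorization_eq_prod_primeFactors]
  have hq0 : ∀ p, p.Prime → q p ≠ 0 := by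
    intro p hp
    rw [hq1 p]
    exact pow_ne_zero _ hp.ne_zero
  have hBd : 2 ^ v m ≤ Bd m := two_pow_v_le_Bd m
  by_cases hcard : 2 ≤ n.primeFactors.card
  · -- at least two primes
    have hterm : ∀ p ∈ n.primeFactors, p ^ n.factorization p ≤ 2 ^ (q p - 1) := by
      intro p hp
      have hpp := Nat.prime_of_mem_primeFactors hp
      have : Fact p.Prime := ⟨hpp⟩
      exact (hq3 p hpp).trans (pp_crude (hq0 p hpp))
    have hq2' : ∀ p ∈ n.primeFactors, 2 ≤ q p := by
      intro p hp
      have hpp := Nat.prime_of_mem_primeFactors hp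
      have : Fact p.Prime := ⟨hpp⟩
      have hf : 1 ≤ n.factorization p :=
        hpp.factorization_pos_of_dvd hn0 (Nat.dvd_of_mem_primeFactors hp)
      have h1 := (Nat.pow_le_pow_iff_right hpp.one_lt).1 (hq3 p hpp)
      have hb : b p ≠ 0 := by
        intro h0
        rw [hq1 p, h0, pow_zero] at h1
        simp at h1
        omega
      rw [hq1 p]
      calc 2 ≤ p := hpp.two_le
        _ = p ^ 1 := (pow_one p).symm
        _ ≤ p ^ b p := Nat.pow_le_pow_right hpp.pos (by omega)
    have h1 : n ≤ 2 ^ ∑ p ∈ n.primeFactors, (q p - 1) := by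
      rw [← Finset.prod_pow_eq_pow_sum]
      conv_lhs => rw [hfac]
      exact Finset.prod_le_prod' hterm
    have h2 := two_sum_le_prod n.primeFactors q hq2' hcard
    have h3 : ∏ p ∈ n.primeFactors, q p ∣ m :=
      prod_dvd_of_pp n.primeFactors q b (fun p hp => Nat.prime_of_mem_primeFactors hp) hq1 m
        (fun p _ => hq2 p)
    have h4 : ∏ p ∈ n.primeFactors, q p ≤ m := Nat.le_of_dvd (Nat.pos_of_ne_zero hm0) h3
    have h5 : ∑ p ∈ n.primeFactors, (q p - 1) ≤ v m := by
      have := half_le_v m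
      omega
    exact h1.trans ((Nat.pow_le_pow_right (by norm_num) h5).trans hBd)
  · -- at most one prime
    push Not at hcard
    have hc : n.primeFactors.card = 0 ∨ n.primeFactors.card = 1 := by omega
    rcases hc with hc | hc
    · rw [Finset.card_eq_zero] at hc
      rw [hc, Finset.prod_empty] at hfac
      rw [hfac]
      exact (Nat.one_le_two_pow).trans hBd
    · obtain ⟨p, hp⟩ := Finset.card_eq_one.1 hc
      rw [hp, Finset.prod_singleton] at hfac
      have hpm : p ∈ n.primeFactors := by rw [hp]; exact Finset.mem_singleton_self p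
      have hpp := Nat.prime_of_mem_primeFactors hpm
      have : Fact p.Prime := ⟨hpp⟩
      have h1 : n ≤ p ^ padicValNat p (q p).factorial := by
        conv_lhs => rw [hfac]
        exact hq3 p hpp
      have hqm : q p ≤ m := Nat.le_of_dvd (Nat.pos_of_ne_zero hm0) (hq2 p)
      have hvm : 2 ^ v (q p) ≤ Bd m :=
        (Nat.pow_le_pow_right (by norm_num) (v_mono hqm)).trans hBd
      by_cases hp2 : p = 2
      · subst hp2
        exact h1.trans hvm
      · by_cases h3 : q p = 3
        · have hp3 : p = 3 := by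
            have hb : b p ≠ 0 := by
              intro h0
              rw [hq1 p, h0, pow_zero] at h3
              omega
            have hd : p ∣ 3 := by
              rw [← h3, hq1 p]
              exact dvd_pow_self p hb
            exact (Nat.prime_dvd_prime_iff_eq hpp (by norm_num)).1 hd
          subst hp3
          rw [h3] at h1
          have h4 : padicValNat 3 (Nat.factorial 3) = 1 := by
            have : Nat.factorial 3 = 3 * 2 := by norm_num [Nat.factorial]
            rw [this, padicValNat.mul (by norm_num) (by norm_num)]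
            simp
          rw [h4, pow_one] at h1
          have hm3 : 3 ≤ m := by omega
          exact h1.trans (three_le_Bd hm3)
        · have h4 := pp_odd (p := p) hp2 (b p) (by rw [← hq1 p]; exact h3)
          rw [← hq1 p] at h4
          exact h1.trans (h4.trans hvm)

end trans

theorem prod_Bd_le {ι : Type*} (s : Finset ι) (f : ι → ℕ) :
    ∏ i ∈ s, Bd (f i) ≤ Bd (∑ i ∈ s, f i) := by
  classical
  induction s using Finset.induction_on with
  | empty => simp [Bd_zero]
  | insert x t hx ih =>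
    rw [Finset.prod_insert hx, Finset.sum_insert hx]
    exact (Nat.mul_le_mul_left _ ih).trans (Bd_mul_le _ _)

/-- the order of a nilpotent permutation group of degree `n` is at most `Bd n` -/
theorem nilp_bound {X : Type*} [Finite X] (N : Subgroup (Equiv.Perm X))
    [hN : Group.IsNilpotent ↥N] : Nat.card N ≤ Bd (Nat.card X) := by
  classical
  haveI : Fintype X := Fintype.ofFinite X
  let Ω := orbitRel.Quotient ↥N X
  haveI : Fintype Ω := Fintype.ofFinite Ω
  let φ : ∀ ω : Ω, ↥N →* Equiv.Perm ↥ω.orbit := fun ω => MulAction.toPermHom ↥N ↥ω.orbit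
  let R : ∀ ω : Ω, Subgroup (Equiv.Perm ↥ω.orbit) := fun ω => (φ ω).range
  have hφ : ∀ (ω : Ω) (g : ↥N) (x : ↥ω.orbit), ((φ ω g) x : X) = (g : Equiv.Perm X) (x : X) :=
    fun ω g x => rfl
  -- each constituent is bounded
  have hR : ∀ ω : Ω, Nat.card (R ω) ≤ Bd (Nat.card ↥ω.orbit) := by
    intro ω
    haveI : Group.IsNilpotent ↥(R ω) :=
      Group.nilpotent_of_surjective (φ ω).rangeRestrict (φ ω).rangeRestrict_surjective
    haveI : FaithfulSMul ↥(R ω) ↥ω.orbit := ⟨by
      intro a b hab
      apply Subtype.ext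
      apply Equiv.ext
      intro x
      exact hab x⟩
    haveI : IsPretransitive ↥(R ω) ↥ω.orbit := ⟨by
      intro x y
      obtain ⟨g, hg⟩ := exists_smul_eq ↥N x y
      exact ⟨⟨φ ω g, ⟨g, rfl⟩⟩, hg⟩⟩
    haveI : Nonempty ↥ω.orbit := by
      induction ω using Quotient.inductionOn' with
      | h a => exact ⟨⟨a, orbitRel.Quotient.mem_orbit.2 rfl⟩⟩
    exact trans_bound
  -- injection into the product
  let Ψ : ↥N → ∀ ω : Ω, ↥(R ω) := fun g ω => ⟨φ ω g, ⟨g, rfl⟩⟩
  have hΨ : Function.Injective Ψ := by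
    intro g g' h
    apply Subtype.ext
    apply Equiv.ext
    intro x
    let ω₀ : Ω := Quotient.mk'' x
    have hx : x ∈ orbitRel.Quotient.orbit ω₀ := orbitRel.Quotient.mem_orbit.2 rfl
    have h1 := congrFun h ω₀
    have h2 := congrArg (fun r : ↥(R ω₀) =>
      ((r : Equiv.Perm ↥(orbitRel.Quotient.orbit ω₀)) ⟨x, hx⟩ : X)) h1
    exact h2
  have h1 : Nat.card ↥N ≤ ∏ ω : Ω, Nat.card (R ω) := by
    rw [← Nat.card_pi]
    exact Nat.card_le_card_of_injective Ψ hΨ
  have h2 : ∏ ω : Ω, Nat.card (R ω) ≤ ∏ ω : Ω, Bd (Nat.card ↥ω.orbit) :=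
    Finset.prod_le_prod' (fun ω _ => hR ω)
  have h3 : Nat.card X = ∑ ω : Ω, Nat.card ↥ω.orbit := by
    rw [Nat.card_congr (selfEquivSigmaOrbits' ↥N X), Nat.card_sigma]
  rw [h3]
  exact h1.trans (h2.trans (prod_Bd_le _ _))

end Cfsg.Agent.Lib.Helper20.NilpSym
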