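import Mathlib
import Cfsg.Agent.Lib.Helper20.NilpSym
import Cfsg.Agent.Lib.Helper20.NilpAltArith

set_option autoImplicit false

namespace Cfsg.Agent.Lib.Helper20.NilpSym

open MulAction

section trans

variable {H : Type*} [Group H] [Finite H] {X : Type*} [MulAction H X]

theorem prime_eq_of_pow_eq {p r : ℕ} (hp : p.Prime) (hr : r.Prime) {b c : ℕ} (hc : p ^ b = r ^ c)
    (h1 : r ^ c ≠ 1) : p = r := by
  have hb : b ≠ 0 := by
    rintro rfl
    rw [pow_zero] at hc
    exact h1 hc.symm
  have hd : p ∣ r ^ c := by
    rw [← hc]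
    exact dvd_pow_self p hb
  exact (Nat.prime_dvd_prime_iff_eq hp hr).1 (hp.dvd_of_dvd_pow hd)

/-- refined description of the order of a transitive nilpotent group -/
theorem trans_bound' [hnil : Group.IsNilpotent H] [FaithfulSMul H X] [IsPretransitive H X]
    [Finite X] [Nonempty X] :
    2 * Nat.card H ≤ 2 ^ v (Nat.card X) ∨ (∃ f, Nat.card H = 2 ^ f) ∨
      (Nat.card H ≤ 3 ∧ 3 ∣ Nat.card X) ∨ (Nat.card H ≤ 5 ∧ 5 ∣ Nat.card X) ∨
      (Nat.card H ≤ 81 ∧ 9 ∣ Nat.card X) := by
  classical
  obtain ⟨x₀⟩ : Nonempty X := inferInstance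
  choose q b hq1 hq2 hq3 using (sylow_bound (H := H) x₀)
  set n := Nat.card H with hn
  set m := Nat.card X with hm
  have hn0 : n ≠ 0 := Nat.card_pos.ne'
  have hm0 : m ≠ 0 := Nat.card_pos.ne'
  have hfac : n = ∏ p ∈ n.primeFactors, p ^ n.factorization p := by
    conv_lhs => rw [← Nat.prod_factorization_pow_eq_self hn0]
    rw [Nat.prod_factorization_eq_prod_primeFactors]
  have hq0 : ∀ p, p.Prime → q p ≠ 0 := by
    intro p hp
    rw [hq1 p]
    exact pow_ne_zero _ hp.ne_zero
  by_cases hcard : 2 ≤ n.primeFactors.card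
  · -- at least two primes
    left
    have hterm : ∀ p ∈ n.primeFactors, p ^ n.factorization p ≤ 2 ^ (q p - 1) := by
      intro p hp
      have hpp := Nat.prime_of_mem_primeFactors hp
      have : Fact p.Prime := ⟨hpp⟩
      exact (hq3 p hpp).trans (pp_crude (hq0 p hpp))
    have hq2' : ∀ p ∈ n.primeFactors, 2 ≤ q p := by
      intro p hp
      have hpp := Nat.prime_of_mem_primeFactors hp
      have : Fact p.Prime := ⟨hpp⟩
      have hf : 1 ≤ n.factorization p :=
        hpp.factorization_pos_of_dvd hn0 (Nat.dvd_of_mem_primeFactors hp)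
      have h1 := (Nat.pow_le_pow_iff_right hpp.one_lt).1 (hq3 p hpp)
      have hb : b p ≠ 0 := by
        intro h0
        rw [hq1 p, h0, pow_zero] at h1
        simp at h1
        omega
      rw [hq1 p]
      calc 2 ≤ p := hpp.two_le
        _ = p ^ 1 := (pow_one p).symm
        _ ≤ p ^ b p := Nat.pow_le_pow_right hpp.pos (by omega)
    have h1 : n ≤ 2 ^ ∑ p ∈ n.primeFactors, (q p - 1) := by
      rw [← Finset.prod_pow_eq_pow_sum]
      conv_lhs => rw [hfac]
      exact Finset.prod_le_prod' hterm
    have h2 := two_sum_le_prod n.primeFactors q hq2' hcard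
    have h3 : ∏ p ∈ n.primeFactors, q p ∣ m :=
      prod_dvd_of_pp n.primeFactors q b (fun p hp => Nat.prime_of_mem_primeFactors hp) hq1 m
        (fun p _ => hq2 p)
    have h4 : ∏ p ∈ n.primeFactors, q p ≤ m := Nat.le_of_dvd (Nat.pos_of_ne_zero hm0) h3
    have h6 : n.primeFactors.card • 1 ≤ ∑ p ∈ n.primeFactors, (q p - 1) :=
      Finset.card_nsmul_le_sum _ _ _ (fun p hp => by have := hq2' p hp; omega)
    rw [smul_eq_mul, mul_one] at h6
    have h5 : ∑ p ∈ n.primeFactors, (q p - 1) + 1 ≤ v m := by
      have := half_add_one_le_v (n := m) (by omega)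
      omega
    calc 2 * n ≤ 2 * 2 ^ ∑ p ∈ n.primeFactors, (q p - 1) := Nat.mul_le_mul_left _ h1
      _ = 2 ^ (∑ p ∈ n.primeFactors, (q p - 1) + 1) := by rw [pow_succ]; ring
      _ ≤ 2 ^ v m := Nat.pow_le_pow_right (by norm_num) h5
  · -- at most one prime
    push Not at hcard
    have hc : n.primeFactors.card = 0 ∨ n.primeFactors.card = 1 := by omega
    rcases hc with hc | hc
    · rw [Finset.card_eq_zero] at hc
      rw [hc, Finset.prod_empty] at hfac
      right; left
      exact ⟨0, by rw [hfac, pow_zero]⟩
    · obtain ⟨p, hp⟩ := Finset.card_eq_one.1 hc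
      rw [hp, Finset.prod_singleton] at hfac
      have hpm : p ∈ n.primeFactors := by rw [hp]; exact Finset.mem_singleton_self p
      have hpp := Nat.prime_of_mem_primeFactors hpm
      have : Fact p.Prime := ⟨hpp⟩
      have h1 : n ≤ p ^ padicValNat p (q p).factorial := by
        conv_lhs => rw [hfac]
        exact hq3 p hpp
      have hqm : q p ≤ m := Nat.le_of_dvd (Nat.pos_of_ne_zero hm0) (hq2 p)
      by_cases hp2 : p = 2
      · subst hp2
        right; left
        exact ⟨_, hfac⟩
      · by_cases hq1' : q p = 1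
        · right; left
          rw [hq1'] at h1
          simp at h1
          exact ⟨0, by rw [pow_zero]; omega⟩
        by_cases h3 : q p = 3
        · have hp3 : p = 3 := by
            apply prime_eq_of_pow_eq hpp (by norm_num : Nat.Prime 3) (b := b p) (c := 1)
            · rw [← hq1 p, h3]; norm_num
            · norm_num
          subst hp3
          rw [h3] at h1
          have h4 : padicValNat 3 (Nat.factorial 3) = 1 := by
            have := three_val_succ 0
            simpa using this
          rw [h4, pow_one] at h1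
          right; right; left
          exact ⟨h1, by rw [← h3]; exact hq2 3⟩
        by_cases h5 : q p = 5
        · have hp5 : p = 5 := by
            apply prime_eq_of_pow_eq hpp (by norm_num : Nat.Prime 5) (b := b p) (c := 1)
            · rw [← hq1 p, h5]; norm_num
            · norm_num
          subst hp5
          rw [h5] at h1
          have h4 : padicValNat 5 (Nat.factorial 5) = 1 := by
            have e : Nat.factorial 5 = 5 * 24 := by norm_num [Nat.factorial]
            rw [e, padicValNat.mul (by norm_num) (by norm_num)]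
            have : padicValNat 5 24 = 0 := padicValNat.eq_zero_of_not_dvd (by norm_num)
            rw [this]; simp
          rw [h4, pow_one] at h1
          right; right; right; left
          exact ⟨h1, by rw [← h5]; exact hq2 5⟩
        by_cases h9 : q p = 9
        · have hp3 : p = 3 := by
            apply prime_eq_of_pow_eq hpp (by norm_num : Nat.Prime 3) (b := b p) (c := 2)
            · rw [← hq1 p, h9]; norm_num
            · norm_num
          subst hp3
          rw [h9] at h1
          have h4 : padicValNat 3 (Nat.factorial 9) = 4 := by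
            have e : 9 = 3 ^ (1 + 1) := by norm_num
            rw [e, three_val_succ, three_val_succ]
            simp
          rw [h4] at h1
          right; right; right; right
          exact ⟨by norm_num at h1; exact h1, by rw [← h9]; exact hq2 3⟩
        · left
          have h4 := pp_odd' (p := p) hp2 (b p) (by rw [← hq1 p]; exact hq1')
            (by rw [← hq1 p]; exact h3) (by rw [← hq1 p]; exact h5) (by rw [← hq1 p]; exact h9)
          rw [← hq1 p] at h4
          calc 2 * n ≤ 2 * p ^ padicValNat p (q p).factorial := Nat.mul_le_mul_left _ h1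
            _ ≤ 2 ^ v (q p) := h4
            _ ≤ 2 ^ v m := Nat.pow_le_pow_right (by norm_num) (v_mono hqm)

end trans

section perm

variable {Y : Type*} [Finite Y]

theorem trans_bound_perm (R : Subgroup (Equiv.Perm Y)) [Group.IsNilpotent ↥R]
    [IsPretransitive ↥R Y] [Nonempty Y] : Nat.card R ≤ Bd (Nat.card Y) := by
  haveI : FaithfulSMul ↥R Y := ⟨by
    intro a b hab
    apply Subtype.ext
    apply Equiv.ext
    intro x
    exact hab x⟩
  exact trans_bound

theorem two_pow_v_ge {m k : ℕ} (h : k ≤ m) : 2 ^ v k ≤ Bd m :=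
  (Nat.pow_le_pow_right (by norm_num) (v_mono h)).trans (two_pow_v_le_Bd m)

theorem trans_bound_even [Fintype Y] [DecidableEq Y] (R : Subgroup (Equiv.Perm Y))
    [Group.IsNilpotent ↥R] [IsPretransitive ↥R Y] [Nonempty Y] (hR : R ≤ alternatingGroup Y) :
    Nat.card R ≤ aB (Nat.card Y) := by
  haveI : FaithfulSMul ↥R Y := ⟨by
    intro a b hab
    apply Subtype.ext
    apply Equiv.ext
    intro x
    exact hab x⟩
  have hm0 : 1 ≤ Nat.card Y := Nat.card_pos
  by_cases hm1 : Nat.card Y = 1
  · have := trans_bound_perm R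
    rw [hm1] at this ⊢
    have hb : Bd 1 = 1 := Bd_vals.2.1
    simp [aB]
    omega
  have hm2 : 2 ≤ Nat.card Y := by omega
  obtain ⟨-, -, -, -, -, -, v6⟩ := v_small
  rcases trans_bound' (H := ↥R) (X := Y) with h | ⟨f, hf⟩ | ⟨h, hd⟩ | ⟨h, hd⟩ | ⟨h, hd⟩
  · exact le_aB_of (h.trans (two_pow_v_le_Bd _))
  · apply le_aB_of
    haveI : Nontrivial Y := by
      rw [← Finite.one_lt_card_iff_nontrivial (α := Y)]
      omega
    have h1 : Nat.card R ∣ Nat.card (alternatingGroup Y) := Subgroup.card_dvd_of_le hR
    have h2 : 2 * Nat.card (alternatingGroup Y) = (Nat.card Y).factorial := by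
      rw [two_mul_nat_card_alternatingGroup (α := Y), Nat.card_perm]
    have h3 : 2 ^ (f + 1) ∣ (Nat.card Y).factorial := by
      rw [← h2, pow_succ, mul_comm, ← hf]
      exact Nat.mul_dvd_mul_left 2 h1
    have h4 : f + 1 ≤ v (Nat.card Y) :=
      (padicValNat_dvd_iff_le (Nat.factorial_ne_zero _)).1 h3
    calc 2 * Nat.card R = 2 ^ (f + 1) := by rw [hf, pow_succ]; ring
      _ ≤ 2 ^ v (Nat.card Y) := Nat.pow_le_pow_right (by norm_num) h4
      _ ≤ Bd _ := two_pow_v_le_Bd _
  · by_cases h3 : Nat.card Y = 3
    · rw [h3]; simp [aB]; exact h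
    · apply le_aB_of
      obtain ⟨c, hc⟩ := hd
      have h6 : 6 ≤ Nat.card Y := by omega
      have := two_pow_v_ge h6
      rw [v6] at this
      omega
  · by_cases h5 : Nat.card Y = 5
    · rw [h5]; simp [aB]; exact h
    · apply le_aB_of
      obtain ⟨c, hc⟩ := hd
      have h6 : 6 ≤ Nat.card Y := by omega
      have := two_pow_v_ge h6
      rw [v6] at this
      omega
  · by_cases h9 : Nat.card Y = 9
    · rw [h9]; simp [aB]; exact h
    · apply le_aB_of
      obtain ⟨c, hc⟩ := hd
      have h18 : 18 ≤ Nat.card Y := by omega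
      have := two_pow_v_ge h18
      have v18 : v 18 = 16 := by
        have e : 18 = 4 * 4 + 2 := by norm_num
        rw [e, v_four 4 2 (by norm_num)]
        have : v 4 = 3 := v_small.2.2.2.2.1
        rw [this]; norm_num
      rw [v18] at this
      omega

end perm

end Cfsg.Agent.Lib.Helper20.NilpSym
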