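import Mathlib
import Cfsg.Agent.Lib.Helper20.NilpAlt1

set_option autoImplicit false

namespace Cfsg.Agent.Lib.Helper20.NilpSym

open MulAction Equiv

section twoblock

variable {X : Type*} (N : Subgroup (Perm X)) (p : X → Prop)
  (hp : ∀ g ∈ N, ∀ x, p ((g : Perm X) x) ↔ p x)

/-- restriction to the invariant part -/
def resP : ↥N →* Perm {x // p x} :=
  MonoidHom.mk' (fun g => (g : Perm X).subtypePerm (hp g g.2)) (fun _ _ => rfl)

/-- restriction to the complement -/
def resN : ↥N →* Perm {x // ¬ p x} :=
  MonoidHom.mk' (fun g => (g : Perm X).subtypePerm (fun x => not_congr (hp g g.2 x)))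
    (fun _ _ => rfl)

theorem resP_apply (g : ↥N) (x : {x // p x}) : ((resP N p hp g x : {x // p x}) : X) = (g : Perm X) x :=
  rfl

theorem resN_apply (g : ↥N) (x : {x // ¬ p x}) :
    ((resN N p hp g x : {x // ¬ p x}) : X) = (g : Perm X) x :=
  rfl

variable [DecidablePred p]

theorem res_eq (g : ↥N) : (g : Perm X) = Perm.subtypeCongr (resP N p hp g) (resN N p hp g) := by
  ext x
  by_cases hx : p x
  · rw [Perm.subtypeCongr.left_apply _ _ hx]; rfl
  · rw [Perm.subtypeCongr.right_apply _ _ hx]; rfl

theorem res_inj (g g' : ↥N) (h1 : resP N p hp g = resP N p hp g')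
    (h2 : resN N p hp g = resN N p hp g') : g = g' := by
  apply Subtype.ext
  rw [res_eq N p hp g, res_eq N p hp g', h1, h2]

variable [Fintype X] [DecidableEq X]

theorem res_sign (g : ↥N) :
    Perm.sign (g : Perm X) = Perm.sign (resP N p hp g) * Perm.sign (resN N p hp g) := by
  conv_lhs => rw [res_eq N p hp g]
  exact Perm.sign_subtypeCongr _ _

theorem card_le_res : Nat.card N ≤ Nat.card (resP N p hp).range * Nat.card (resN N p hp).range := by
  rw [← Nat.card_prod]
  let Ψ : ↥N → ↥(resP N p hp).range × ↥(resN N p hp).range :=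
    fun g => (⟨resP N p hp g, ⟨g, rfl⟩⟩, ⟨resN N p hp g, ⟨g, rfl⟩⟩)
  apply Nat.card_le_card_of_injective Ψ
  intro g g' h
  have h1 := congrArg (fun z => (z.1 : Perm {x // p x})) h
  have h2 := congrArg (fun z => (z.2 : Perm {x // ¬ p x})) h
  exact res_inj N p hp g g' h1 h2

/-- if some element acts oddly on the invariant part, the order is at most half the product -/
theorem two_card_le_res (hN : N ≤ alternatingGroup X) (g₀ : ↥N)
    (hg₀ : Perm.sign (resP N p hp g₀) ≠ 1) :
    2 * Nat.card N ≤ Nat.card (resP N p hp).range * Nat.card (resN N p hp).range := by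
  set A := (resP N p hp).range with hA
  set B := (resN N p hp).range with hB
  let s : ↥A × ↥B →* ℤˣ := (Perm.sign.comp A.subtype).coprod (Perm.sign.comp B.subtype)
  let Ψ : ↥N →* ↥A × ↥B := ((resP N p hp).rangeRestrict).prod ((resN N p hp).rangeRestrict)
  have hΨ : Function.Injective Ψ := by
    intro g g' h
    have h1 := congrArg (fun z => (z.1 : Perm {x // p x})) h
    have h2 := congrArg (fun z => (z.2 : Perm {x // ¬ p x})) h
    exact res_inj N p hp g g' h1 h2
  have hs : ∀ g : ↥N, s (Ψ g) = 1 := by
    intro g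
    have h1 := res_sign N p hp g
    have h2 : Perm.sign (g : Perm X) = 1 := hN g.2
    rw [h2] at h1
    exact h1.symm
  have hle : Ψ.range ≤ s.ker := by
    rintro _ ⟨g, rfl⟩
    exact hs g
  have hne : s.ker ≠ ⊤ := by
    intro htop
    have hmem : ((⟨resP N p hp g₀, ⟨g₀, rfl⟩⟩, 1) : ↥A × ↥B) ∈ s.ker := by rw [htop]; trivial
    rw [MonoidHom.mem_ker] at hmem
    apply hg₀
    simpa [s] using hmem
  have hidx : 2 ≤ s.ker.index := by
    have h0 : s.ker.index ≠ 0 := Subgroup.index_ne_zero_of_finite
    have h1 : s.ker.index ≠ 1 := fun h => hne (Subgroup.index_eq_one.1 h)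
    omega
  have hcard : Nat.card N = Nat.card Ψ.range := Nat.card_congr (MonoidHom.ofInjective hΨ).toEquiv
  have h1 : Nat.card Ψ.range ≤ Nat.card s.ker := Subgroup.card_le_of_le hle
  have h2 := Subgroup.card_mul_index s.ker
  rw [Nat.card_prod] at h2
  rw [← h2, hcard]
  calc 2 * Nat.card Ψ.range = Nat.card Ψ.range * 2 := by ring
    _ ≤ Nat.card s.ker * s.ker.index := Nat.mul_le_mul h1 hidx

end twoblock

universe u

/-- the order of a nilpotent group of even permutations of degree `n` is at most `αB n` -/
theorem nilp_alt_bound_aux (n : ℕ) : ∀ {X : Type u} [Fintype X] [DecidableEq X]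
    (N : Subgroup (Perm X)) [Group.IsNilpotent ↥N], N ≤ alternatingGroup X → Nat.card X = n →
    Nat.card N ≤ αB n := by
  classical
  induction n using Nat.strong_induction_on with
  | _ n ih =>
    intro X _ _ N _ hN hcard
    rcases isEmpty_or_nonempty X with hX | ⟨⟨x₀⟩⟩
    · have h0 : n = 0 := by rw [← hcard]; exact Nat.card_of_isEmpty
      subst h0
      have : Nat.card N ≤ 1 := Finite.card_le_one_iff_subsingleton.2 inferInstance
      simpa [αB] using this
    · let p : X → Prop := fun x => x ∈ orbit ↥N x₀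
      have hp : ∀ g ∈ N, ∀ x, p ((g : Perm X) x) ↔ p x := by
        intro g hg x
        constructor
        · intro h
          have h1 : (⟨g, hg⟩ : ↥N)⁻¹ • ((g : Perm X) x) ∈ orbit ↥N x₀ :=
            mem_orbit_of_mem_orbit _ h
          have h2 : (⟨g, hg⟩ : ↥N)⁻¹ • ((g : Perm X) x) = x := by
            change g⁻¹ (g x) = x
            simp
          rw [h2] at h1
          exact h1
        · intro h
          exact mem_orbit_of_mem_orbit (⟨g, hg⟩ : ↥N) h
      set A := (resP N p hp).range with hA
      set B := (resN N p hp).range with hB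
      haveI : Group.IsNilpotent ↥A :=
        Group.nilpotent_of_surjective (resP N p hp).rangeRestrict
          (resP N p hp).rangeRestrict_surjective
      haveI : Group.IsNilpotent ↥B :=
        Group.nilpotent_of_surjective (resN N p hp).rangeRestrict
          (resN N p hp).rangeRestrict_surjective
      haveI : Nonempty {x // p x} := ⟨⟨x₀, mem_orbit_self x₀⟩⟩
      haveI : IsPretransitive ↥A {x // p x} := ⟨by
        rintro ⟨x, hx⟩ ⟨y, hy⟩
        obtain ⟨g, hg⟩ : ∃ g : ↥N, g • x = y := by
          have hx' : orbit ↥N x = orbit ↥N x₀ := orbit_eq_iff.2 hx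
          have hy' : y ∈ orbit ↥N x := by rw [hx']; exact hy
          exact hy'
        refine ⟨⟨resP N p hp g, ⟨g, rfl⟩⟩, ?_⟩
        apply Subtype.ext
        exact hg⟩
      set m := Nat.card {x // p x} with hm
      have hm1 : 1 ≤ m := Nat.card_pos
      have hcompl : Nat.card {x // ¬ p x} = n - m := by
        rw [hm, ← hcard, Nat.card_eq_fintype_card, Nat.card_eq_fintype_card,
          Nat.card_eq_fintype_card, Fintype.card_subtype_compl]
      have hmn : m ≤ n := by
        rw [hm, ← hcard]
        exact Finite.card_subtype_le p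
      by_cases hodd : ∃ g₀ : ↥N, Perm.sign (resP N p hp g₀) ≠ 1
      · obtain ⟨g₀, hg₀⟩ := hodd
        have h1 := two_card_le_res N p hp hN g₀ hg₀
        have h2 : Nat.card A ≤ Bd m := trans_bound_perm A
        have h3 : Nat.card B ≤ Bd (n - m) := by
          rw [← hcompl]
          exact nilp_bound B
        apply le_αB_of
        calc 2 * Nat.card N ≤ Nat.card A * Nat.card B := h1
          _ ≤ Bd m * Bd (n - m) := Nat.mul_le_mul h2 h3
          _ ≤ Bd (m + (n - m)) := Bd_mul_le _ _
          _ = Bd n := by congr 1; omega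
      · push Not at hodd
        have hA' : A ≤ alternatingGroup {x // p x} := by
          rintro _ ⟨g, rfl⟩
          exact hodd g
        have hB' : B ≤ alternatingGroup {x // ¬ p x} := by
          rintro _ ⟨g, rfl⟩
          have h1 := res_sign N p hp g
          have h2 : Perm.sign (g : Perm X) = 1 := hN g.2
          rw [h2, hodd g, one_mul] at h1
          exact h1.symm
        have h1 := card_le_res N p hp
        have h2 : Nat.card A ≤ aB m := trans_bound_even A hA'
        have h3 : Nat.card B ≤ αB (n - m) := ih (n - m) (by omega) B hB' hcompl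
        calc Nat.card N ≤ Nat.card A * Nat.card B := h1
          _ ≤ aB m * αB (n - m) := Nat.mul_le_mul h2 h3
          _ ≤ αB (m + (n - m)) := aB_mul_αB_le _ _ hm1
          _ = αB n := by congr 1; omega

theorem nilp_alt_bound {X : Type u} [Fintype X] [DecidableEq X]
    (N : Subgroup (Perm X)) [Group.IsNilpotent ↥N] (hN : N ≤ alternatingGroup X) :
    Nat.card N ≤ αB (Nat.card X) :=
  nilp_alt_bound_aux _ N hN rfl

theorem two_nilp_alt_bound {X : Type u} [Fintype X] [DecidableEq X]
    (N : Subgroup (Perm X)) [Group.IsNilpotent ↥N] (hN : N ≤ alternatingGroup X)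
    (h0 : Nat.card X ≠ 0) (h1 : Nat.card X ≠ 1) (h3 : Nat.card X ≠ 3) (h5 : Nat.card X ≠ 5)
    (h6 : Nat.card X ≠ 6) (h9 : Nat.card X ≠ 9) :
    2 * Nat.card N ≤ Bd (Nat.card X) :=
  (Nat.mul_le_mul_left 2 (nilp_alt_bound N hN)).trans (two_αB_le h0 h1 h3 h5 h6 h9)

end Cfsg.Agent.Lib.Helper20.NilpSym
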