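import Mathlib
import Cfsg.Agent.Lib.Helper20.AbelAlt1
import Cfsg.Agent.Lib.Helper20.NilpAlt2

set_option autoImplicit false
set_option linter.style.haveILetI false

namespace Cfsg.Agent.Lib.Helper20.AbelAlt

open MulAction Equiv Cfsg.Agent.Lib.helper15 Cfsg.Agent.Lib.Helper20.NilpSym

section regular

variable {Y : Type*} (R : Subgroup (Perm Y)) (hR : ∀ a ∈ R, ∀ b ∈ R, a * b = b * a)
  [IsPretransitive ↥R Y]

include hR in
/-- a transitive abelian group is regular -/
theorem abel_free (g : Perm Y) (hg : g ∈ R) (y : Y) (hy : g y = y) : g = 1 := by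
  ext z
  obtain ⟨h, rfl⟩ := exists_smul_eq ↥R y z
  change g ((h : Perm Y) y) = (h : Perm Y) y
  have h1 := hR g hg h h.2
  calc g ((h : Perm Y) y) = (g * (h : Perm Y)) y := rfl
    _ = ((h : Perm Y) * g) y := by rw [h1]
    _ = (h : Perm Y) (g y) := rfl
    _ = (h : Perm Y) y := by rw [hy]

include hR in
theorem abel_card (y₀ : Y) : Nat.card R = Nat.card Y := by
  let f : ↥R → Y := fun g => (g : Perm Y) y₀
  have hinj : Function.Injective f := by
    intro g g' h
    have h1 : ((g' : Perm Y)⁻¹ * (g : Perm Y)) y₀ = y₀ := by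
      change (g' : Perm Y)⁻¹ ((g : Perm Y) y₀) = y₀
      have : (g : Perm Y) y₀ = (g' : Perm Y) y₀ := h
      rw [this]; simp
    have h2 := abel_free R hR _ (R.mul_mem (R.inv_mem g'.2) g.2) y₀ h1
    apply Subtype.ext
    rw [inv_mul_eq_one] at h2
    exact h2.symm
  have hsurj : Function.Surjective f := by
    intro z
    obtain ⟨h, hh⟩ := exists_smul_eq ↥R y₀ z
    exact ⟨h, hh⟩
  exact Nat.card_congr (Equiv.ofBijective f ⟨hinj, hsurj⟩)

variable [Fintype Y] [DecidableEq Y]

include hR in
/-- an odd element forces even degree -/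
theorem even_card_of_odd (y₀ : Y) (g : Perm Y) (hg : g ∈ R) (hodd : Perm.sign g ≠ 1) :
    Nat.card Y % 2 = 0 := by
  by_contra hc
  apply hodd
  have hcard := abel_card R hR y₀
  have h1 := pow_card_eq_one' (G := ↥R) (x := ⟨g, hg⟩)
  have h2 : g ^ Nat.card R = 1 := congrArg Subtype.val h1
  have h3 : Perm.sign g ^ Nat.card R = 1 := by rw [← map_pow, h2, map_one]
  rcases Int.units_eq_one_or (Perm.sign g) with h | h
  · exact h
  · rw [h, hcard] at h3
    have hoddc : Odd (Nat.card Y) := Nat.odd_iff.2 (by omega)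
    rw [hoddc.neg_one_pow] at h3
    exact absurd h3 (by decide)

include hR in
/-- an even regular abelian group of even degree has degree divisible by four -/
theorem four_dvd_of_even (y₀ : Y) (hle : R ≤ alternatingGroup Y) (heven : Nat.card Y % 2 = 0) :
    Nat.card Y % 4 = 0 := by
  have hcard := abel_card R hR y₀
  haveI : Fact (Nat.Prime 2) := ⟨Nat.prime_two⟩
  have hdvd : 2 ∣ Nat.card ↥R := by rw [hcard]; omega
  obtain ⟨g, hg⟩ := exists_prime_orderOf_dvd_card' (G := ↥R) 2 hdvd
  have hg' : orderOf (g : Perm Y) = 2 := by rw [Subgroup.orderOf_coe, hg]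
  obtain ⟨k, hk⟩ := Perm.cycleType_prime_order (σ := (g : Perm Y)) (by rw [hg']; norm_num)
  rw [hg'] at hk
  have hne : (g : Perm Y) ≠ 1 := by
    intro h1
    rw [h1, orderOf_one] at hg'
    omega
  have hsupp : (g : Perm Y).support = Finset.univ := by
    ext y
    simp only [Perm.mem_support, Finset.mem_univ, iff_true]
    intro hy
    exact hne (abel_free R hR _ g.2 y hy)
  have hsum := Perm.sum_cycleType (g : Perm Y)
  rw [hk, Multiset.sum_replicate, smul_eq_mul, hsupp, Finset.card_univ] at hsum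
  have hsign : Perm.sign (g : Perm Y) = 1 := hle g.2
  rw [Perm.sign_of_cycleType, hk, Multiset.sum_replicate, Multiset.card_replicate,
    smul_eq_mul] at hsign
  have hkeven : Even (k + 1) := by
    by_contra hodd
    rw [Nat.not_even_iff_odd] at hodd
    have hodd3 : Odd ((k + 1) * 2 + (k + 1)) := by
      obtain ⟨i, hi⟩ := hodd
      exact ⟨3 * i + 1, by omega⟩
    rw [hodd3.neg_one_pow] at hsign
    exact absurd hsign (by decide)
  obtain ⟨j, hj⟩ := hkeven
  rw [Nat.card_eq_fintype_card]
  omega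

end regular

/-- the order of an abelian group of even permutations of degree `n` is at most `altProd n` -/
theorem abel_alt_bound_aux (n : ℕ) : ∀ {X : Type} [Fintype X] [DecidableEq X]
    (A : Subgroup (Perm X)), (∀ a ∈ A, ∀ b ∈ A, a * b = b * a) → A ≤ alternatingGroup X →
    Nat.card X = n → Nat.card A ≤ altProd n := by
  classical
  induction n using Nat.strong_induction_on with
  | _ n ih =>
    intro X _ _ A hA hle hcard
    rcases isEmpty_or_nonempty X with hX | ⟨⟨x₀⟩⟩
    · have h0 : n = 0 := by rw [← hcard]; exact Nat.card_of_isEmpty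
      subst h0
      have : Nat.card A ≤ 1 := Finite.card_le_one_iff_subsingleton.2 inferInstance
      simpa [altProd] using this
    · let p : X → Prop := fun x => x ∈ orbit ↥A x₀
      have hp : ∀ g ∈ A, ∀ x, p ((g : Perm X) x) ↔ p x := by
        intro g hg x
        constructor
        · intro h
          have h1 : (⟨g, hg⟩ : ↥A)⁻¹ • ((g : Perm X) x) ∈ orbit ↥A x₀ :=
            mem_orbit_of_mem_orbit _ h
          have h2 : (⟨g, hg⟩ : ↥A)⁻¹ • ((g : Perm X) x) = x := by
            change g⁻¹ (g x) = x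
            simp
          rw [h2] at h1
          exact h1
        · intro h
          exact mem_orbit_of_mem_orbit (⟨g, hg⟩ : ↥A) h
      set R := (resP A p hp).range with hRdef
      set B := (resN A p hp).range with hBdef
      have hRcomm : ∀ a ∈ R, ∀ b ∈ R, a * b = b * a := by
        rintro _ ⟨a, rfl⟩ _ ⟨b, rfl⟩
        rw [← map_mul, ← map_mul]
        congr 1
        apply Subtype.ext
        exact hA a a.2 b b.2
      have hBcomm : ∀ a ∈ B, ∀ b ∈ B, a * b = b * a := by
        rintro _ ⟨a, rfl⟩ _ ⟨b, rfl⟩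
        rw [← map_mul, ← map_mul]
        congr 1
        apply Subtype.ext
        exact hA a a.2 b b.2
      haveI : Nonempty {x // p x} := ⟨⟨x₀, mem_orbit_self x₀⟩⟩
      haveI : IsPretransitive ↥R {x // p x} := ⟨by
        rintro ⟨x, hx⟩ ⟨y, hy⟩
        obtain ⟨g, hg⟩ : ∃ g : ↥A, g • x = y := by
          have hx' : orbit ↥A x = orbit ↥A x₀ := orbit_eq_iff.2 hx
          have hy' : y ∈ orbit ↥A x := by rw [hx']; exact hy
          exact hy'
        refine ⟨⟨resP A p hp g, ⟨g, rfl⟩⟩, ?_⟩
        apply Subtype.ext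
        exact hg⟩
      let y₀ : {x // p x} := ⟨x₀, mem_orbit_self x₀⟩
      set m := Nat.card {x // p x} with hm
      have hm1 : 1 ≤ m := Nat.card_pos
      have hcompl : Nat.card {x // ¬ p x} = n - m := by
        rw [hm, ← hcard, Nat.card_eq_fintype_card, Nat.card_eq_fintype_card,
          Nat.card_eq_fintype_card, Fintype.card_subtype_compl]
      have hmn : m ≤ n := by
        rw [hm, ← hcard]
        exact Finite.card_subtype_le p
      have hRcard : Nat.card R = m := abel_card R hRcomm y₀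
      by_cases hodd : ∃ g₀ : ↥A, Perm.sign (resP A p hp g₀) ≠ 1
      · obtain ⟨g₀, hg₀⟩ := hodd
        have h1 := two_card_le_res A p hp hle g₀ hg₀
        have hmeven : m % 2 = 0 :=
          even_card_of_odd R hRcomm y₀ (resP A p hp g₀) ⟨g₀, rfl⟩ hg₀
        have hBc : IsMulCommutative ↥B := ⟨⟨fun a b => Subtype.ext (hBcomm a a.2 b b.2)⟩⟩
        have h3 : Nat.card B ≤ maxProd (n - m) :=
          abelian_perm_card_le (n - m) {x // ¬ p x} hcompl B hBc
        have h4 := peel_odd n m hmn hmeven (by omega)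
        have h5 : 2 * Nat.card A ≤ 2 * altProd n :=
          calc 2 * Nat.card A ≤ Nat.card R * Nat.card B := h1
            _ ≤ m * maxProd (n - m) := by rw [hRcard]; exact Nat.mul_le_mul_left _ h3
            _ ≤ 2 * altProd n := h4
        omega
      · push Not at hodd
        have hR' : R ≤ alternatingGroup {x // p x} := by
          rintro _ ⟨g, rfl⟩
          exact hodd g
        have hB' : B ≤ alternatingGroup {x // ¬ p x} := by
          rintro _ ⟨g, rfl⟩
          have h1 := res_sign A p hp g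
          have h2 : Perm.sign (g : Perm X) = 1 := hle g.2
          rw [h2, hodd g, one_mul] at h1
          exact h1.symm
        have h1 := card_le_res A p hp
        have h3 : Nat.card B ≤ altProd (n - m) := ih (n - m) (by omega) B hBcomm hB' hcompl
        have hmm : m % 2 = 1 ∨ m % 4 = 0 := by
          by_cases hme : m % 2 = 0
          · right
            exact four_dvd_of_even R hRcomm y₀ hR' hme
          · left; omega
        calc Nat.card A ≤ Nat.card R * Nat.card B := h1
          _ ≤ m * altProd (n - m) := by rw [hRcard]; exact Nat.mul_le_mul_left _ h3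
          _ ≤ altProd n := peel_even n m hmn hmm

theorem abel_alt_bound {X : Type} [Fintype X] [DecidableEq X]
    (A : Subgroup (Perm X)) (hA : ∀ a ∈ A, ∀ b ∈ A, a * b = b * a)
    (hle : A ≤ alternatingGroup X) : Nat.card A ≤ altProd (Nat.card X) :=
  abel_alt_bound_aux _ A hA hle rfl

/-- existence of an abelian group of even permutations of a given order -/
def HasAbelAlt (X : Type) [Fintype X] [DecidableEq X] (c : ℕ) : Prop :=
  ∃ A : Subgroup (Perm X), IsMulCommutative A ∧ A ≤ alternatingGroup X ∧ Nat.card A = c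

theorem HasAbelAlt.congr {X Y : Type} [Fintype X] [DecidableEq X] [Fintype Y] [DecidableEq Y]
    (e : X ≃ Y) {c : ℕ} (h : HasAbelAlt X c) : HasAbelAlt Y c := by
  obtain ⟨A, hA, hle, hc⟩ := h
  refine ⟨A.map e.permCongrHom.toMonoidHom, Subgroup.map_isMulCommutative A _, ?_, ?_⟩
  · rintro _ ⟨a, ha, rfl⟩
    rw [Perm.mem_alternatingGroup]
    change Perm.sign (e.permCongr a) = 1
    rw [Perm.sign_permCongr]
    exact hle ha
  · rw [Subgroup.card_map_of_injective e.permCongrHom.injective, hc]

theorem HasAbelAlt.sum {X Y : Type} [Fintype X] [DecidableEq X] [Fintype Y] [DecidableEq Y]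
    {c d : ℕ} (hX : HasAbelAlt X c) (hY : HasAbelAlt Y d) : HasAbelAlt (X ⊕ Y) (c * d) := by
  obtain ⟨A, hA, hleA, hc⟩ := hX
  obtain ⟨B, hB, hleB, hd⟩ := hY
  have hcomm : IsMulCommutative (A.prod B) := by
    refine ⟨⟨?_⟩⟩
    rintro ⟨⟨a, b⟩, ha, hb⟩ ⟨⟨a', b'⟩, ha', hb'⟩
    apply Subtype.ext
    show (a * a', b * b') = (a' * a, b' * b)
    have h1 : a * a' = a' * a :=
      congrArg Subtype.val (hA.is_comm.comm ⟨a, ha⟩ ⟨a', ha'⟩)
    have h2 : b * b' = b' * b :=
      congrArg Subtype.val (hB.is_comm.comm ⟨b, hb⟩ ⟨b', hb'⟩)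
    rw [h1, h2]
  refine ⟨(A.prod B).map (Equiv.Perm.sumCongrHom X Y), Subgroup.map_isMulCommutative _ _, ?_, ?_⟩
  · rintro _ ⟨⟨a, b⟩, ⟨ha, hb⟩, rfl⟩
    rw [Perm.mem_alternatingGroup]
    change Perm.sign (Perm.sumCongr a b) = 1
    rw [Perm.sign_sumCongr]
    have h1 : Perm.sign a = 1 := hleA ha
    have h2 : Perm.sign b = 1 := hleB hb
    rw [h1, h2, one_mul]
  · rw [Subgroup.card_map_of_injective Equiv.Perm.sumCongrHom_injective,
      Nat.card_congr (Subgroup.prodEquiv A B).toEquiv, Nat.card_prod, hc, hd]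

theorem hasAbelAlt_bot (X : Type) [Fintype X] [DecidableEq X] : HasAbelAlt X 1 :=
  ⟨⊥, inferInstance, bot_le, Subgroup.card_bot⟩

theorem hasAbelAlt_three : HasAbelAlt (Fin 3) 3 := by
  refine ⟨Subgroup.zpowers (finRotate 3), inferInstance, ?_, ?_⟩
  · rw [Subgroup.zpowers_le, Perm.mem_alternatingGroup, sign_finRotate]
    norm_num
  · rw [Nat.card_zpowers]
    have h1 : Equiv.Perm.cycleType (finRotate 3) = {3} := cycleType_finRotate (n := 1)
    rw [← Equiv.Perm.lcm_cycleType, h1]
    simp

theorem hasAbelAlt_four : HasAbelAlt (Fin 4) 4 := by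
  have h4 : Nat.card (Fin 4) = 4 := by simp
  haveI := alternatingGroup.kleinFour_isKleinFour (α := Fin 4) h4
  haveI : IsMulCommutative ↥(alternatingGroup.kleinFour (Fin 4)) := IsKleinFour.isMulCommutative
  refine ⟨(alternatingGroup.kleinFour (Fin 4)).map (alternatingGroup (Fin 4)).subtype,
    Subgroup.map_isMulCommutative _ _, ?_, ?_⟩
  · rintro _ ⟨g, _, rfl⟩
    exact g.2
  · rw [Subgroup.card_map_of_injective (alternatingGroup (Fin 4)).subtype_injective]
    exact alternatingGroup.kleinFour_card_of_card_eq_four h4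

theorem HasAbelAlt.toFin {X : Type} [Fintype X] [DecidableEq X] {c n : ℕ} (h : HasAbelAlt X c)
    (hn : Fintype.card X = n) : HasAbelAlt (Fin n) c :=
  h.congr (Fintype.equivFinOfCardEq hn)

theorem hasAbelAlt_three_mul (k : ℕ) : HasAbelAlt (Fin (3 * k)) (3 ^ k) := by
  induction k with
  | zero => exact hasAbelAlt_bot _
  | succ k ih =>
    have h := ih.sum hasAbelAlt_three
    rw [← pow_succ] at h
    exact h.toFin (by simp; ring)

theorem hasAbelAlt_three_mul_add_one (k : ℕ) (hk : 1 ≤ k) :
    HasAbelAlt (Fin (3 * k + 1)) (4 * 3 ^ (k - 1)) := by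
  have h := hasAbelAlt_four.sum (hasAbelAlt_three_mul (k - 1))
  exact h.toFin (by simp; omega)

theorem hasAbelAlt_three_mul_add_two (k : ℕ) (hk : 2 ≤ k) :
    HasAbelAlt (Fin (3 * k + 2)) (16 * 3 ^ (k - 2)) := by
  have h := hasAbelAlt_four.sum (hasAbelAlt_four.sum (hasAbelAlt_three_mul (k - 2)))
  have e : 4 * (4 * 3 ^ (k - 2)) = 16 * 3 ^ (k - 2) := by ring
  rw [e] at h
  exact h.toFin (by simp; omega)

/-- transfer to subgroups of the alternating group -/
theorem greatest_alt (n c : ℕ) (hex : HasAbelAlt (Fin n) c) (hc : altProd n = c) :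
    IsGreatest {c : ℕ | ∃ A : Subgroup (alternatingGroup (Fin n)),
      IsMulCommutative A ∧ Nat.card A = c} c := by
  constructor
  · obtain ⟨A', hA', hle, hcard⟩ := hex
    let e : ↥(A'.subgroupOf (alternatingGroup (Fin n))) ≃* ↥A' := Subgroup.subgroupOfEquivOfLe hle
    refine ⟨A'.subgroupOf (alternatingGroup (Fin n)), ⟨⟨fun a b => ?_⟩⟩, ?_⟩
    · apply e.injective
      rw [map_mul, map_mul]
      exact hA'.is_comm.comm _ _
    · rw [Nat.card_congr e.toEquiv, hcard]
  · rintro d ⟨A, hA, rfl⟩
    rw [← hc]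
    let A' : Subgroup (Perm (Fin n)) := A.map (alternatingGroup (Fin n)).subtype
    have hA' : ∀ a ∈ A', ∀ b ∈ A', a * b = b * a := by
      rintro _ ⟨a, ha, rfl⟩ _ ⟨b, hb, rfl⟩
      rw [← map_mul, ← map_mul]
      congr 1
      exact congrArg Subtype.val (hA.is_comm.comm ⟨a, ha⟩ ⟨b, hb⟩)
    have hle : A' ≤ alternatingGroup (Fin n) := by
      rintro _ ⟨g, _, rfl⟩
      exact g.2
    have h1 := abel_alt_bound A' hA' hle
    rw [Subgroup.card_map_of_injective (alternatingGroup (Fin n)).subtype_injective] at h1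
    simpa using h1

end Cfsg.Agent.Lib.Helper20.AbelAlt
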