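import Mathlib
import Cfsg.Agent.Lib.Helper20.AbelAlt1

set_option autoImplicit false

namespace Cfsg.Agent.Lib.Helper20.AbelAlt

open Cfsg.Agent.Lib.helper15

theorem maxProd_pos (n : ℕ) : 1 ≤ maxProd n := by
  induction n using Nat.strong_induction_on with
  | _ n ih =>
    match n, ih with
    | 0, _ => decide
    | 1, _ => decide
    | 2, _ => decide
    | 3, _ => decide
    | 4, _ => decide
    | (m + 5), ih =>
      rw [maxProd_add5]
      have := ih (m + 2) (by omega)
      omega

theorem maxProd_lt_altProd (k : ℕ) (hk : 1 ≤ k) : maxProd k < altProd (k + 2) := by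
  induction k using Nat.strong_induction_on with
  | _ k ih =>
    by_cases h6 : k ≤ 6
    · interval_cases k <;> decide
    · obtain ⟨k', rfl⟩ : ∃ k', k = k' + 7 := ⟨k - 7, by omega⟩
      have e1 : k' + 7 = (k' + 2) + 5 := by ring
      have e2 : k' + 7 + 2 = k' + 9 := by ring
      rw [e2, altProd_add9, e1, maxProd_add5]
      have := ih (k' + 4) (by omega) (by omega)
      have e3 : k' + 2 + 2 = k' + 4 := by ring
      have e4 : k' + 4 + 2 = k' + 6 := by ring
      rw [e3]
      rw [e4] at this
      omega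

theorem two_maxProd_lt_altProd (k : ℕ) : 2 * maxProd k < altProd (k + 4) := by
  induction k using Nat.strong_induction_on with
  | _ k ih =>
    by_cases h4 : k ≤ 4
    · interval_cases k <;> decide
    · obtain ⟨k', rfl⟩ : ∃ k', k = k' + 5 := ⟨k - 5, by omega⟩
      have e2 : k' + 5 + 4 = k' + 9 := by ring
      rw [e2, altProd_add9, maxProd_add5]
      have := ih (k' + 2) (by omega)
      have e4 : k' + 2 + 4 = k' + 6 := by ring
      rw [e4] at this
      omega

/-- strict version of `peel_odd` -/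
theorem peel_odd_strict (n m : ℕ) (hmn : m ≤ n) (hm : m % 2 = 0) (hm2 : 2 ≤ m) (hn : 3 ≤ n) :
    m * maxProd (n - m) < 2 * altProd n := by
  obtain ⟨m', rfl⟩ : ∃ m', m = 2 * m' := ⟨m / 2, by omega⟩
  obtain ⟨k, rfl⟩ : ∃ k, n = 2 * m' + k := ⟨n - 2 * m', by omega⟩
  have ek : 2 * m' + k - 2 * m' = k := by omega
  rw [ek]
  by_cases h1 : m' = 1
  · subst h1
    have := maxProd_lt_altProd k (by omega)
    have e : 2 * 1 + k = k + 2 := by ring
    rw [e]; omega
  by_cases h2 : m' = 2
  · subst h2
    have := two_maxProd_lt_altProd k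
    have e : 2 * 2 + k = k + 4 := by ring
    rw [e]; omega
  have h3 : 3 ≤ m' := by omega
  have h4 : m' < altProd (2 * m' - 2) := by
    by_cases h : m' = 3
    · subst h; decide
    · have := add_three_le_altProd (2 * m' - 2) (by omega)
      omega
  have h5 := maxProd_le_altProd k
  have h6 := altProd_mul_le (2 * m' - 2) (k + 2)
  have e : 2 * m' - 2 + (k + 2) = 2 * m' + k := by omega
  rw [e] at h6
  have h7 := maxProd_pos k
  have h8 : m' * maxProd k < altProd (2 * m' - 2) * maxProd k :=
    Nat.mul_lt_mul_of_pos_right h4 h7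
  have h9 : altProd (2 * m' - 2) * maxProd k ≤ altProd (2 * m' - 2) * altProd (k + 2) :=
    Nat.mul_le_mul_left _ h5
  calc 2 * m' * maxProd k = 2 * (m' * maxProd k) := by ring
    _ < 2 * altProd (2 * m' + k) := by omega

/-- the equality cases of `m * altProd k = altProd (m + k)` for small `m` -/
theorem eq_case (m k : ℕ) (hm : m = 1 ∨ m = 3 ∨ m = 4 ∨ m = 5) (h3 : 3 ≤ m + k) (h5 : m + k ≠ 5)
    (heq : m * altProd k = altProd (m + k)) :
    (m = 3 ∨ m = 4) ∧ k ≠ 1 ∧ k ≠ 2 ∧ k ≠ 5 ∧ ((m + k) % 3 = 0 → m = 3) := by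
  induction k using Nat.strong_induction_on with
  | _ k ih =>
    by_cases h8 : k ≤ 8
    · rcases hm with rfl | rfl | rfl | rfl <;> interval_cases k <;>
        first
          | (exfalso; revert heq; decide)
          | (exfalso; omega)
          | (refine ⟨by omega, by omega, by omega, by omega, by omega⟩)
    · obtain ⟨k', rfl⟩ : ∃ k', k = k' + 9 := ⟨k - 9, by omega⟩
      have e1 : m + (k' + 9) = (m + k') + 9 := by ring
      have e2 : m + k' + 6 = m + (k' + 6) := by ring
      rw [e1, altProd_add9, altProd_add9, e2] at heq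
      have heq' : m * altProd (k' + 6) = altProd (m + (k' + 6)) := by
        have : m * (3 * altProd (k' + 6)) = 3 * (m * altProd (k' + 6)) := by ring
        omega
      have := ih (k' + 6) (by omega) (by omega) (by omega) heq'
      obtain ⟨a, _, _, _, b⟩ := this
      refine ⟨a, by omega, by omega, by omega, ?_⟩
      intro h
      apply b
      omega

/-- equality analysis for peeling an even orbit -/
theorem peel_even_eq (n m : ℕ) (hmn : m ≤ n) (hm : m % 2 = 1 ∨ m % 4 = 0) (hm1 : 1 ≤ m)
    (hn : 3 ≤ n) (hn5 : n ≠ 5) (heq : m * altProd (n - m) = altProd n) :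
    (m = 3 ∨ m = 4) ∧ n - m ≠ 5 ∧ (n % 3 = 0 → m = 3) := by
  obtain ⟨k, rfl⟩ : ∃ k, n = m + k := ⟨n - m, by omega⟩
  have ek : m + k - m = k := by omega
  rw [ek] at heq ⊢
  have h1 := le_altProd m hm
  have h2 := altProd_mul_le m k
  have h3 := altProd_pos k
  have h4 : m * altProd k ≤ altProd m * altProd k := Nat.mul_le_mul_right _ h1
  have h5 : m * altProd k = altProd m * altProd k := by omega
  have h6 : m = altProd m := Nat.eq_of_mul_eq_mul_right (by omega) h5
  have h7 : m ≤ 5 := by
    by_contra hc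
    have := add_three_le_altProd m (by omega)
    omega
  have h8 : m = 1 ∨ m = 3 ∨ m = 4 ∨ m = 5 := by omega
  obtain ⟨a, _, _, b, c⟩ := eq_case m k h8 hn hn5 heq
  exact ⟨a, b, c⟩

theorem altProd_small : altProd 0 = 1 ∧ altProd 1 = 1 ∧ altProd 2 = 1 ∧ altProd 5 = 5 := by
  refine ⟨rfl, rfl, rfl, rfl⟩

end Cfsg.Agent.Lib.Helper20.AbelAlt
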