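import Mathlib
import Cfsg.Agent.Lib.Helper20.AbelAlt2
import Cfsg.Agent.Lib.Helper20.AbelAlt3

set_option autoImplicit false
set_option linter.style.haveILetI false

namespace Cfsg.Agent.Lib.Helper20.AbelAlt

open MulAction Equiv Cfsg.Agent.Lib.helper15 Cfsg.Agent.Lib.Helper20.NilpSym

theorem orb_inv {X : Type*} (A : Subgroup (Perm X)) (x₀ : X) :
    ∀ g ∈ A, ∀ x, ((g : Perm X) x ∈ orbit ↥A x₀) ↔ (x ∈ orbit ↥A x₀) := by
  intro g hg x
  constructor
  · intro h
    have h1 : (⟨g, hg⟩ : ↥A)⁻¹ • ((g : Perm X) x) ∈ orbit ↥A x₀ :=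
      mem_orbit_of_mem_orbit _ h
    have h2 : (⟨g, hg⟩ : ↥A)⁻¹ • ((g : Perm X) x) = x := by
      change g⁻¹ (g x) = x
      simp
    rw [h2] at h1
    exact h1
  · intro h
    exact mem_orbit_of_mem_orbit (⟨g, hg⟩ : ↥A) h

/-- structure of an abelian group of even permutations of the largest possible order,
relative to one of its orbits -/
theorem max_struct {X : Type} [Fintype X] [DecidableEq X] (A : Subgroup (Perm X))
    (hA : ∀ a ∈ A, ∀ b ∈ A, a * b = b * a) (hle : A ≤ alternatingGroup X) (n : ℕ)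
    (hcard : Nat.card X = n) (hn3 : 3 ≤ n) (hn5 : n ≠ 5) (hmax : Nat.card A = altProd n) (x₀ : X)
    (p : X → Prop) [DecidablePred p] (hpdef : ∀ x, p x ↔ x ∈ orbit ↥A x₀)
    (hp : ∀ g ∈ A, ∀ x, p ((g : Perm X) x) ↔ p x) :
    (Nat.card {x // p x} = 3 ∨ Nat.card {x // p x} = 4) ∧
    (n % 3 = 0 → Nat.card {x // p x} = 3) ∧
    n - Nat.card {x // p x} ≠ 5 ∧
    Nat.card {x // ¬ p x} = n - Nat.card {x // p x} ∧
    (resP A p hp).range ≤ alternatingGroup {x // p x} ∧
    Nat.card (resP A p hp).range = Nat.card {x // p x} ∧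
    (resN A p hp).range ≤ alternatingGroup {x // ¬ p x} ∧
    Nat.card (resN A p hp).range = altProd (n - Nat.card {x // p x}) ∧
    (∀ a ∈ (resN A p hp).range, ∀ b ∈ (resN A p hp).range, a * b = b * a) ∧
    A = ((resP A p hp).range.prod (resN A p hp).range).map (Perm.subtypeCongrHom p) := by
  set R := (resP A p hp).range with hRdef
  set B := (resN A p hp).range with hBdef
  have hRcomm : ∀ a ∈ R, ∀ b ∈ R, a * b = b * a := by
    rintro _ ⟨a, rfl⟩ _ ⟨b, rfl⟩
    rw [← map_mul, ← map_mul]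
    congr 1
    apply Subtype.ext
    exact hA a a.2 b b.2
  have hBcomm : ∀ a ∈ B, ∀ b ∈ B, a * b = b * a := by
    rintro _ ⟨a, rfl⟩ _ ⟨b, rfl⟩
    rw [← map_mul, ← map_mul]
    congr 1
    apply Subtype.ext
    exact hA a a.2 b b.2
  have hx₀ : p x₀ := (hpdef x₀).2 (mem_orbit_self x₀)
  haveI : Nonempty {x // p x} := ⟨⟨x₀, hx₀⟩⟩
  haveI : IsPretransitive ↥R {x // p x} := ⟨by
    rintro ⟨x, hx⟩ ⟨y, hy⟩
    obtain ⟨g, hg⟩ : ∃ g : ↥A, g • x = y := by
      have hx' : orbit ↥A x = orbit ↥A x₀ := orbit_eq_iff.2 ((hpdef x).1 hx)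
      have hy' : y ∈ orbit ↥A x := by rw [hx']; exact (hpdef y).1 hy
      exact hy'
    refine ⟨⟨resP A p hp g, ⟨g, rfl⟩⟩, ?_⟩
    apply Subtype.ext
    exact hg⟩
  let y₀ : {x // p x} := ⟨x₀, hx₀⟩
  set m := Nat.card {x // p x} with hm
  have hm1 : 1 ≤ m := Nat.card_pos
  have hcompl : Nat.card {x // ¬ p x} = n - m := by
    rw [hm, ← hcard, Nat.card_eq_fintype_card, Nat.card_eq_fintype_card,
      Nat.card_eq_fintype_card, Fintype.card_subtype_compl]
  have hmn : m ≤ n := by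
    rw [hm, ← hcard]
    exact Finite.card_subtype_le p
  have hRcard : Nat.card R = m := abel_card R hRcomm y₀
  have hnoodd : ∀ g₀ : ↥A, Perm.sign (resP A p hp g₀) = 1 := by
    by_contra hodd
    push Not at hodd
    obtain ⟨g₀, hg₀⟩ := hodd
    have h1 := two_card_le_res A p hp hle g₀ hg₀
    have hmeven : m % 2 = 0 :=
      even_card_of_odd R hRcomm y₀ (resP A p hp g₀) ⟨g₀, rfl⟩ hg₀
    have hBc : IsMulCommutative ↥B := ⟨⟨fun a b => Subtype.ext (hBcomm a a.2 b b.2)⟩⟩
    have h3 : Nat.card B ≤ maxProd (n - m) :=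
      abelian_perm_card_le (n - m) {x // ¬ p x} hcompl B hBc
    have h4 := peel_odd_strict n m hmn hmeven (by omega) hn3
    have h5 : 2 * Nat.card A < 2 * altProd n :=
      calc 2 * Nat.card A ≤ Nat.card R * Nat.card B := h1
        _ ≤ m * maxProd (n - m) := by rw [hRcard]; exact Nat.mul_le_mul_left _ h3
        _ < 2 * altProd n := h4
    omega
  have hR' : R ≤ alternatingGroup {x // p x} := by
    rintro _ ⟨g, rfl⟩
    exact hnoodd g
  have hB' : B ≤ alternatingGroup {x // ¬ p x} := by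
    rintro _ ⟨g, rfl⟩
    have h1 := res_sign A p hp g
    have h2 : Perm.sign (g : Perm X) = 1 := hle g.2
    rw [h2, hnoodd g, one_mul] at h1
    exact h1.symm
  have h1 := card_le_res A p hp
  have h3 : Nat.card B ≤ altProd (n - m) := by
    have := abel_alt_bound B hBcomm hB'
    rw [hcompl] at this
    exact this
  have hmm : m % 2 = 1 ∨ m % 4 = 0 := by
    by_cases hme : m % 2 = 0
    · right
      exact four_dvd_of_even R hRcomm y₀ hR' hme
    · left; omega
  have h4 := peel_even n m hmn hmm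
  have h5 : Nat.card A ≤ m * Nat.card B := by rw [← hRcard]; exact h1
  have h6 : m * Nat.card B ≤ m * altProd (n - m) := Nat.mul_le_mul_left _ h3
  have h7 : m * altProd (n - m) = altProd n := by omega
  have h8 : m * Nat.card B = m * altProd (n - m) := by omega
  have h9 : Nat.card B = altProd (n - m) := Nat.eq_of_mul_eq_mul_left (by omega) h8
  have h10 : Nat.card A = Nat.card R * Nat.card B := by rw [hRcard]; omega
  obtain ⟨c1, c2, c3⟩ := peel_even_eq n m hmn hmm hm1 hn3 hn5 h7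
  refine ⟨c1, c3, c2, hcompl, hR', hRcard, hB', h9, hBcomm, ?_⟩
  -- the full product
  let Ψ : ↥A → ↥R × ↥B :=
    fun g => (⟨resP A p hp g, ⟨g, rfl⟩⟩, ⟨resN A p hp g, ⟨g, rfl⟩⟩)
  have hΨinj : Function.Injective Ψ := by
    intro g g' h
    have h1 := congrArg (fun z => (z.1 : Perm {x // p x})) h
    have h2 := congrArg (fun z => (z.2 : Perm {x // ¬ p x})) h
    exact res_inj A p hp g g' h1 h2
  have hΨbij : Function.Bijective Ψ := by
    apply Function.Injective.bijective_of_nat_card_le hΨinj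
    rw [Nat.card_prod, h10]
  ext g
  constructor
  · intro hg
    refine ⟨(resP A p hp ⟨g, hg⟩, resN A p hp ⟨g, hg⟩), ⟨⟨⟨g, hg⟩, rfl⟩, ⟨⟨g, hg⟩, rfl⟩⟩, ?_⟩
    exact (res_eq A p hp ⟨g, hg⟩).symm
  · rintro ⟨⟨r, b⟩, ⟨hr, hb⟩, rfl⟩
    obtain ⟨a, ha⟩ := hΨbij.2 (⟨r, hr⟩, ⟨b, hb⟩)
    have h1 : resP A p hp a = r := congrArg (fun z => (z.1 : Perm {x // p x})) ha
    have h2 : resN A p hp a = b := congrArg (fun z => (z.2 : Perm {x // ¬ p x})) ha
    have h3 := res_eq A p hp a
    rw [h1, h2] at h3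
    change Perm.subtypeCongr r b ∈ A
    rw [← h3]
    exact a.2

/-- uniqueness of the regular abelian group of even permutations in degrees 3 and 4 -/
theorem reg_unique {Y : Type} [Fintype Y] [DecidableEq Y] (R₁ R₂ : Subgroup (Perm Y))
    (h₁ : R₁ ≤ alternatingGroup Y) (h₂ : R₂ ≤ alternatingGroup Y)
    (hY : Nat.card Y = 3 ∨ Nat.card Y = 4) (c₁ : Nat.card R₁ = Nat.card Y)
    (c₂ : Nat.card R₂ = Nat.card Y) : R₁ = R₂ := by
  have hnt : Nontrivial Y := by
    rw [← Finite.one_lt_card_iff_nontrivial (α := Y)]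
    omega
  have h2 : 2 * Nat.card (alternatingGroup Y) = (Nat.card Y).factorial := by
    rw [two_mul_nat_card_alternatingGroup (α := Y), Nat.card_perm]
  rcases hY with h3 | h4
  · have hc : Nat.card (alternatingGroup Y) = 3 := by
      rw [h3] at h2
      have : Nat.factorial 3 = 6 := rfl
      omega
    have e₁ : R₁ = alternatingGroup Y := Subgroup.eq_of_le_of_card_ge h₁ (by rw [c₁, hc, h3])
    have e₂ : R₂ = alternatingGroup Y := Subgroup.eq_of_le_of_card_ge h₂ (by rw [c₂, hc, h3])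
    rw [e₁, e₂]
  · have key : ∀ R : Subgroup (Perm Y), R ≤ alternatingGroup Y → Nat.card R = Nat.card Y →
        R = (alternatingGroup.kleinFour Y).map (alternatingGroup Y).subtype := by
      intro R hR hc
      have hK := alternatingGroup.kleinFour_card_of_card_eq_four h4
      have hle : R.subgroupOf (alternatingGroup Y) ≤ alternatingGroup.kleinFour Y := by
        intro g hg
        have hgR : (g : Perm Y) ∈ R := hg
        have hord : orderOf (g : Perm Y) ∣ 2 ^ 2 := by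
          have h1 := orderOf_dvd_natCard (G := ↥R) ⟨(g : Perm Y), hgR⟩
          rw [hc, h4, Subgroup.orderOf_mk] at h1
          exact h1
        have hct := alternatingGroup.mem_kleinFour_of_order_two_pow h4 g.2 hord
        rw [← SetLike.mem_coe, alternatingGroup.coe_kleinFour_of_card_eq_four h4]
        rcases hct with h0 | h22
        · left
          rw [Set.mem_singleton_iff]
          apply Subtype.ext
          exact Perm.cycleType_eq_zero.1 h0
        · right
          exact h22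
      have hcs : Nat.card (R.subgroupOf (alternatingGroup Y)) = 4 := by
        rw [Nat.card_congr (Subgroup.subgroupOfEquivOfLe hR).toEquiv, hc, h4]
      have heq : R.subgroupOf (alternatingGroup Y) = alternatingGroup.kleinFour Y :=
        Subgroup.eq_of_le_of_card_ge hle (by rw [hcs, hK])
      rw [← heq, Subgroup.map_subgroupOf_eq_of_le hR]
    rw [key R₁ h₁ c₁, key R₂ h₂ c₂]

section glue

variable {X₁ X₂ : Type} (p₁ : X₁ → Prop) (p₂ : X₂ → Prop) [DecidablePred p₁] [DecidablePred p₂]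
  (ep : {x // p₁ x} ≃ {x // p₂ x}) (en : {x // ¬ p₁ x} ≃ {x // ¬ p₂ x})

/-- gluing two equivalences along a partition -/
def glue : X₁ ≃ X₂ :=
  (Equiv.sumCompl p₁).symm.trans ((Equiv.sumCongr ep en).trans (Equiv.sumCompl p₂))

theorem glue_permCongr (r : Perm {x // p₁ x}) (b : Perm {x // ¬ p₁ x}) :
    (glue p₁ p₂ ep en).permCongr (Perm.subtypeCongr r b) =
      Perm.subtypeCongr (ep.permCongr r) (en.permCongr b) := by
  ext x
  by_cases hx : p₂ x
  · rw [Perm.subtypeCongr.left_apply _ _ hx]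
    simp only [glue, Equiv.permCongr_apply, Equiv.symm_trans_apply, Equiv.symm_symm,
      Equiv.trans_apply, Equiv.sumCompl_symm_apply_of_pos hx, Equiv.sumCongr_symm,
      Equiv.sumCongr_apply, Sum.map_inl, Equiv.sumCompl_apply_inl]
    rw [Perm.subtypeCongr.left_apply _ _ (ep.symm ⟨x, hx⟩).2]
    simp
  · rw [Perm.subtypeCongr.right_apply _ _ hx]
    simp only [glue, Equiv.permCongr_apply, Equiv.symm_trans_apply, Equiv.symm_symm,
      Equiv.trans_apply, Equiv.sumCompl_symm_apply_of_neg hx, Equiv.sumCongr_symm,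
      Equiv.sumCongr_apply, Sum.map_inr, Equiv.sumCompl_apply_inr]
    rw [Perm.subtypeCongr.right_apply _ _ (en.symm ⟨x, hx⟩).2]
    simp

theorem glue_map (A₁ : Subgroup (Perm X₁)) (A₂ : Subgroup (Perm X₂))
    (R₁ : Subgroup (Perm {x // p₁ x})) (B₁ : Subgroup (Perm {x // ¬ p₁ x}))
    (R₂ : Subgroup (Perm {x // p₂ x})) (B₂ : Subgroup (Perm {x // ¬ p₂ x}))
    (h₁ : A₁ = (R₁.prod B₁).map (Perm.subtypeCongrHom p₁))
    (h₂ : A₂ = (R₂.prod B₂).map (Perm.subtypeCongrHom p₂))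
    (hR : R₂ = R₁.map ep.permCongrHom.toMonoidHom)
    (hB : B₂ = B₁.map en.permCongrHom.toMonoidHom) :
    A₂ = A₁.map (glue p₁ p₂ ep en).permCongrHom.toMonoidHom := by
  rw [h₁, h₂, hR, hB]
  ext g
  constructor
  · rintro ⟨⟨r', b'⟩, ⟨⟨r, hr, hr'⟩, ⟨b, hb, hb'⟩⟩, rfl⟩
    refine ⟨Perm.subtypeCongr r b, ⟨(r, b), ⟨hr, hb⟩, rfl⟩, ?_⟩
    change (glue p₁ p₂ ep en).permCongr (Perm.subtypeCongr r b) = Perm.subtypeCongr r' b'
    rw [glue_permCongr]
    have e1 : ep.permCongr r = r' := hr'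
    have e2 : en.permCongr b = b' := hb'
    rw [e1, e2]
  · rintro ⟨_, ⟨⟨r, b⟩, ⟨hr, hb⟩, rfl⟩, rfl⟩
    refine ⟨(ep.permCongr r, en.permCongr b), ⟨⟨r, hr, rfl⟩, ⟨b, hb, rfl⟩⟩, ?_⟩
    change Perm.subtypeCongr (ep.permCongr r) (en.permCongr b) =
      (glue p₁ p₂ ep en).permCongr (Perm.subtypeCongr r b)
    rw [glue_permCongr]

end glue

end Cfsg.Agent.Lib.Helper20.AbelAlt
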