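import Mathlib
import Cfsg.Agent.Lib.Helper20.NilpSym

set_option autoImplicit false
set_option linter.style.haveILetI false

namespace Cfsg.Agent.Lib.Helper20.NilpSym


/-- structure of a nilpotent subgroup of order `3 * 2^e` -/
theorem nilp_decomp {G : Type*} [Group G] (N : Subgroup G) (hN : Group.IsNilpotent ↥N) (e : ℕ)
    (hcard : Nat.card N = 3 * 2 ^ e) :
    ∃ (c : G) (Q : Subgroup G), orderOf c = 3 ∧ Nat.card Q = 2 ^ e ∧ (∀ g ∈ Q, Commute g c) ∧
      N = Q ⊔ Subgroup.zpowers c := by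
  haveI : Finite ↥N := Nat.finite_of_card_ne_zero (by rw [hcard]; positivity)
  haveI : Group.IsNilpotent ↥N := hN
  haveI : Fact (Nat.Prime 2) := ⟨Nat.prime_two⟩
  haveI : Fact (Nat.Prime 3) := ⟨Nat.prime_three⟩
  obtain ⟨P₂⟩ : Nonempty (Sylow 2 ↥N) := inferInstance
  obtain ⟨c', hc'⟩ := exists_prime_orderOf_dvd_card' (G := ↥N) 3 (by rw [hcard]; exact dvd_mul_right _ _)
  have hz : IsPGroup 3 ↥(Subgroup.zpowers c') := by
    apply IsPGroup.of_card (n := 1)
    rw [Nat.card_zpowers, hc', pow_one]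
  obtain ⟨P₃, hP₃⟩ := hz.exists_le_sylow
  have hdis : Disjoint (P₂ : Subgroup ↥N) (P₃ : Subgroup ↥N) :=
    IsPGroup.disjoint_of_ne 2 3 (by norm_num) _ _ P₂.2 P₃.2
  have hcomm : ∀ g ∈ (P₂ : Subgroup ↥N), Commute g c' := fun g hg =>
    Subgroup.commute_of_normal_of_disjoint _ _ inferInstance inferInstance hdis g c' hg
      (hP₃ (Subgroup.mem_zpowers c'))
  have hP₂card : Nat.card (P₂ : Subgroup ↥N) = 2 ^ e := by
    rw [P₂.card_eq_multiplicity, hcard, Nat.factorization_def _ Nat.prime_two,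
      padicValNat.mul (by norm_num) (by positivity), padicValNat.prime_pow,
      padicValNat_primes (by norm_num), zero_add]
  refine ⟨(c' : G), (P₂ : Subgroup ↥N).map N.subtype, ?_, ?_, ?_, ?_⟩
  · rw [Subgroup.orderOf_coe, hc']
  · rw [Subgroup.card_map_of_injective N.subtype_injective, hP₂card]
  · rintro g ⟨g', hg', rfl⟩
    have := hcomm g' hg'
    have h2 := congrArg (Subtype.val) this.eq
    exact h2
  · have hle : (P₂ : Subgroup ↥N).map N.subtype ⊔ Subgroup.zpowers (c' : G) ≤ N := by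
      apply sup_le
      · exact Subgroup.map_subtype_le _
      · rw [Subgroup.zpowers_le]; exact c'.2
    symm
    apply Subgroup.eq_of_le_of_card_ge hle
    have h1 : Nat.card ((P₂ : Subgroup ↥N).map N.subtype) ∣
        Nat.card ↥((P₂ : Subgroup ↥N).map N.subtype ⊔ Subgroup.zpowers (c' : G)) :=
      Subgroup.card_dvd_of_le le_sup_left
    have h2 : Nat.card (Subgroup.zpowers (c' : G)) ∣
        Nat.card ↥((P₂ : Subgroup ↥N).map N.subtype ⊔ Subgroup.zpowers (c' : G)) :=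
      Subgroup.card_dvd_of_le le_sup_right
    rw [Subgroup.card_map_of_injective N.subtype_injective, hP₂card] at h1
    rw [Nat.card_zpowers, Subgroup.orderOf_coe, hc'] at h2
    have h3 : 3 * 2 ^ e ∣ Nat.card ↥((P₂ : Subgroup ↥N).map N.subtype ⊔ Subgroup.zpowers (c' : G)) := by
      apply Nat.Coprime.mul_dvd_of_dvd_of_dvd _ h2 h1
      apply Nat.Coprime.pow_right
      norm_num
    rw [hcard]
    haveI : Finite ↥((P₂ : Subgroup ↥N).map N.subtype ⊔ Subgroup.zpowers (c' : G)) :=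
      Finite.of_injective _ (Subgroup.inclusion_injective hle)
    exact Nat.le_of_dvd Nat.card_pos h3



open Nat in
theorem v_pred_lt (j k : ℕ) (hk : 1 ≤ k) (h3 : 3 * (k + 1) ≤ 4 * j + 3) :
    v (4 * j + 3 - 3 * (k + 1)) + v (k + 1) < v (4 * j) := by
  obtain ⟨j', rfl⟩ : ∃ j', j = j' + 1 := ⟨j - 1, by omega⟩
  have h1 := v_add (4 * (j' + 1) + 3 - 3 * (k + 1)) (k + 1)
  have h2 : v (4 * (j' + 1) + 3 - 3 * (k + 1) + (k + 1)) ≤ v (4 * j' + 3) := v_mono (by omega)
  have h3 := v_four j' 3 (by norm_num)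
  have h4 := v_four (j' + 1) 0 (by norm_num)
  have h5 : v j' ≤ v (j' + 1) := v_mono (by omega)
  simp at h3 h4
  omega

theorem isThreeCycle_of_centralized {X : Type*} [Fintype X] [DecidableEq X] (j : ℕ)
    (hX : Fintype.card X = 4 * j + 3)
    (c : Equiv.Perm X) (hc : orderOf c = 3) (Q : Subgroup (Equiv.Perm X))
    (hQ : Nat.card Q = 2 ^ v (4 * j))
    (hcomm : ∀ g ∈ Q, Commute g c) : c.IsThreeCycle := by
  obtain ⟨k, hk⟩ := Equiv.Perm.cycleType_prime_order (σ := c) (by rw [hc]; norm_num)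
  rw [hc] at hk
  have hle : Q ≤ Subgroup.centralizer {c} := by
    intro g hg
    rw [Subgroup.mem_centralizer_singleton_iff]
    exact (hcomm g hg).eq
  have hdvd : 2 ^ v (4 * j) ∣ Nat.card (Subgroup.centralizer {c}) := by
    rw [← hQ]; exact Subgroup.card_dvd_of_le hle
  have hsum : 3 * (k + 1) ≤ 4 * j + 3 := by
    have h1 := Equiv.Perm.sum_cycleType c
    rw [hk, Multiset.sum_replicate, smul_eq_mul] at h1
    have h2 := Finset.card_le_univ c.support
    rw [hX] at h2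
    omega
  rw [Equiv.Perm.nat_card_centralizer, hk, Multiset.sum_replicate, Multiset.prod_replicate,
    Multiset.toFinset_replicate, if_neg (by omega), Finset.prod_singleton,
    Multiset.count_replicate_self, hX, smul_eq_mul] at hdvd
  by_cases hk0 : k = 0
  · subst hk0
    exact hk
  · exfalso
    have h1 := v_pred_lt j k (by omega) hsum
    have h2 : 2 ^ v (4 * j) ∣ (4 * j + 3 - (k + 1) * 3).factorial * (k + 1).factorial := by
      have hcop : Nat.Coprime (2 ^ v (4 * j)) (3 ^ (k + 1)) := by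
        apply Nat.Coprime.pow; norm_num
      have e : (4 * j + 3 - (k + 1) * 3).factorial * 3 ^ (k + 1) * (k + 1).factorial =
          ((4 * j + 3 - (k + 1) * 3).factorial * (k + 1).factorial) * 3 ^ (k + 1) := by ring
      rw [e] at hdvd
      exact hcop.dvd_of_dvd_mul_right hdvd
    haveI : Fact (Nat.Prime 2) := ⟨Nat.prime_two⟩
    have h3 := (padicValNat_dvd_iff_le (p := 2)
      (Nat.mul_ne_zero (Nat.factorial_ne_zero _) (Nat.factorial_ne_zero _))).1 h2
    rw [padicValNat.mul (Nat.factorial_ne_zero _) (Nat.factorial_ne_zero _)] at h3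
    have e2 : (k + 1) * 3 = 3 * (k + 1) := by ring
    rw [e2] at h3
    unfold v at h1 h3
    omega



theorem fixes_support_of_commute {X : Type*} [Fintype X] [DecidableEq X] (c : Equiv.Perm X)
    (hc : c.IsThreeCycle) (g : Equiv.Perm X) (hg : Commute g c) (a : ℕ) (hga : g ^ (2 ^ a) = 1)
    (x : X) (hx : c x ≠ x) : g x = x := by
  have hcyc := hc.isCycle
  have hgc : ∀ y, c (g y) = g (c y) := fun y => by
    have := congrArg (fun f : Equiv.Perm X => f y) hg.eq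
    simpa using this.symm
  have hgx : c (g x) ≠ g x := by
    rw [hgc]
    intro h
    exact hx (g.injective h)
  obtain ⟨i, hi⟩ := hcyc.exists_pow_eq hx hgx
  have hpow : ∀ m : ℕ, (g ^ m) x = (c ^ (i * m)) x := by
    intro m
    induction m with
    | zero => simp
    | succ m ih =>
      have hcm : Commute g (c ^ (i * m)) := hg.pow_right _
      have h1 := congrArg (fun f : Equiv.Perm X => f x) hcm.eq
      simp only [Equiv.Perm.coe_mul, Function.comp_apply] at h1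
      rw [pow_succ', Equiv.Perm.coe_mul, Function.comp_apply, ih, h1, ← hi,
        ← Equiv.Perm.mul_apply, ← pow_add]
      congr 2
  have h1 := hpow (2 ^ a)
  rw [hga, Equiv.Perm.coe_one, id_eq] at h1
  have h2 : c ^ (i * 2 ^ a) = 1 := (hcyc.pow_eq_one_iff' hx).2 h1.symm
  have h3 : 3 ∣ i * 2 ^ a := by
    rw [← hc.orderOf]
    exact orderOf_dvd_of_pow_eq_one h2
  have h4 : 3 ∣ i := by
    have hcop : Nat.Coprime 3 (2 ^ a) := by
      apply Nat.Coprime.pow_right; norm_num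
    exact hcop.dvd_of_dvd_mul_right h3
  have h5 : c ^ i = 1 := by
    rw [← hc.orderOf] at h4
    exact orderOf_dvd_iff_pow_eq_one.1 h4
  rw [← hi, h5, Equiv.Perm.coe_one, id_eq]



theorem conj_of_fix {X : Type*} [Fintype X] [DecidableEq X] (c : Equiv.Perm X) (m : ℕ)
    (hm : Fintype.card {x // c x = x} = m)
    (Q₁ Q₂ : Subgroup (Equiv.Perm X)) (h₁ : Nat.card Q₁ = 2 ^ v m) (h₂ : Nat.card Q₂ = 2 ^ v m)
    (hf₁ : ∀ g ∈ Q₁, ∀ x, c x ≠ x → g x = x) (hf₂ : ∀ g ∈ Q₂, ∀ x, c x ≠ x → g x = x) :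
    ∃ h : Equiv.Perm X, Commute h c ∧ Q₂ = Q₁.map (MulAut.conj h).toMonoidHom := by
  haveI : Fact (Nat.Prime 2) := ⟨Nat.prime_two⟩
  let ι : Equiv.Perm {x // c x = x} →* Equiv.Perm X := Equiv.Perm.ofSubtype
  have hι : Function.Injective ι := Equiv.Perm.ofSubtype_injective
  have hrange : ∀ Q : Subgroup (Equiv.Perm X), (∀ g ∈ Q, ∀ x, c x ≠ x → g x = x) → Q ≤ ι.range := by
    intro Q hQ g hg
    rw [Equiv.Perm.mem_range_ofSubtype_iff]
    intro x hx
    by_contra hcx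
    exact (Equiv.Perm.mem_support.1 hx) (hQ g hg x hcx)
  have hmc : ∀ Q : Subgroup (Equiv.Perm X), Q ≤ ι.range → (Q.comap ι).map ι = Q :=
    fun Q hQ => Subgroup.map_comap_eq_self hQ
  have hcard : ∀ Q : Subgroup (Equiv.Perm X), Q ≤ ι.range → Nat.card Q = 2 ^ v m →
      Nat.card (Q.comap ι) = 2 ^ (Nat.card (Equiv.Perm {x // c x = x})).factorization 2 := by
    intro Q hQ hQc
    rw [← Subgroup.card_map_of_injective hι, hmc Q hQ, hQc, Nat.card_perm,
      Nat.card_eq_fintype_card, hm, Nat.factorization_def _ Nat.prime_two]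
    rfl
  have hr₁ := hrange Q₁ hf₁
  have hr₂ := hrange Q₂ hf₂
  let P₁ : Sylow 2 (Equiv.Perm {x // c x = x}) := Sylow.ofCard (Q₁.comap ι) (hcard Q₁ hr₁ h₁)
  let P₂ : Sylow 2 (Equiv.Perm {x // c x = x}) := Sylow.ofCard (Q₂.comap ι) (hcard Q₂ hr₂ h₂)
  obtain ⟨h', hh'⟩ := MulAction.exists_smul_eq (Equiv.Perm {x // c x = x}) P₁ P₂
  have hh'' : (Q₁.comap ι).map (MulAut.conj h').toMonoidHom = Q₂.comap ι := by
    have := congrArg (fun P : Sylow 2 (Equiv.Perm {x // c x = x}) => (P : Subgroup (Equiv.Perm {x // c x = x}))) hh'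
    simp only [Sylow.coe_subgroup_smul] at this
    rw [Subgroup.pointwise_smul_def] at this
    exact this
  refine ⟨ι h', ?_, ?_⟩
  · -- commutation
    apply Equiv.ext
    intro x
    simp only [Equiv.Perm.coe_mul, Function.comp_apply]
    by_cases hx : c x = x
    · rw [hx]
      have h1 : ι h' x = (h' ⟨x, hx⟩ : X) := Equiv.Perm.ofSubtype_apply_of_mem h' hx
      rw [h1]
      exact ((h' ⟨x, hx⟩).2).symm
    · have h1 : ι h' x = x := Equiv.Perm.ofSubtype_apply_of_not_mem h' hx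
      have hx' : ¬ c (c x) = c x := fun h => hx (c.injective h)
      have h2 : ι h' (c x) = c x := Equiv.Perm.ofSubtype_apply_of_not_mem h' hx'
      rw [h1, h2]
  · rw [← hmc Q₂ hr₂, ← hh'', Subgroup.map_map]
    conv_rhs => rw [← hmc Q₁ hr₁, Subgroup.map_map]
    congr 1
    ext g : 1
    simp [MulAut.conj_apply]


theorem card_fixed_of_isThreeCycle {X : Type*} [Fintype X] [DecidableEq X] (c : Equiv.Perm X)
    (hc : c.IsThreeCycle) (m : ℕ) (hX : Fintype.card X = m + 3) :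
    Fintype.card {x // c x = x} = m := by
  have h1 := Finset.card_filter_add_card_filter_not (s := (Finset.univ : Finset X))
    (fun x => c x = x)
  have h2 : (Finset.univ.filter fun x => ¬ c x = x) = c.support := by
    ext x; simp
  rw [h2, hc.card_support, Finset.card_univ, hX] at h1
  rw [Fintype.card_subtype]
  omega

theorem nilp_conj {X : Type*} [Fintype X] [DecidableEq X] (j : ℕ)
    (hX : Fintype.card X = 4 * j + 3) (N₁ N₂ : Subgroup (Equiv.Perm X))
    (hN₁ : Group.IsNilpotent ↥N₁) (hN₂ : Group.IsNilpotent ↥N₂)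
    (h₁ : Nat.card N₁ = 3 * 2 ^ v (4 * j)) (h₂ : Nat.card N₂ = 3 * 2 ^ v (4 * j)) :
    ∃ g : Equiv.Perm X, N₂ = N₁.map (MulAut.conj g).toMonoidHom := by
  obtain ⟨c₁, Q₁, hc₁, hQ₁, hcm₁, rfl⟩ := nilp_decomp N₁ hN₁ _ h₁
  obtain ⟨c₂, Q₂, hc₂, hQ₂, hcm₂, rfl⟩ := nilp_decomp N₂ hN₂ _ h₂
  have h3₁ := isThreeCycle_of_centralized j hX c₁ hc₁ Q₁ hQ₁ hcm₁
  have h3₂ := isThreeCycle_of_centralized j hX c₂ hc₂ Q₂ hQ₂ hcm₂
  have hconj : IsConj c₁ c₂ :=
    Equiv.Perm.isConj_iff_cycleType_eq.2 (h3₁.cycleType.trans h3₂.cycleType.symm)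
  obtain ⟨g₀, hg₀⟩ := isConj_iff.1 hconj
  have hQ₁' : Nat.card (Q₁.map (MulAut.conj g₀).toMonoidHom) = 2 ^ v (4 * j) := by
    rw [Subgroup.card_map_of_injective (MulAut.conj g₀).injective]; exact hQ₁
  have hcm₁' : ∀ g ∈ Q₁.map (MulAut.conj g₀).toMonoidHom, Commute g c₂ := by
    rintro g ⟨q, hq, rfl⟩
    rw [← hg₀]
    exact (Commute.conj_iff g₀).2 (hcm₁ q hq)
  have hfix : ∀ Q : Subgroup (Equiv.Perm X), Nat.card Q = 2 ^ v (4 * j) →
      (∀ g ∈ Q, Commute g c₂) → ∀ g ∈ Q, ∀ x, c₂ x ≠ x → g x = x := by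
    intro Q hQ hcm g hg x hx
    apply fixes_support_of_commute c₂ h3₂ g (hcm g hg) (v (4 * j)) _ x hx
    have := pow_card_eq_one' (G := ↥Q) (x := ⟨g, hg⟩)
    rw [hQ] at this
    exact congrArg Subtype.val this
  have hm := card_fixed_of_isThreeCycle c₂ h3₂ (4 * j) hX
  obtain ⟨h, hhc, hh⟩ := conj_of_fix c₂ (4 * j) hm _ Q₂ hQ₁' hQ₂ (hfix _ hQ₁' hcm₁')
    (hfix Q₂ hQ₂ hcm₂)
  refine ⟨h * g₀, ?_⟩
  rw [Subgroup.map_sup, MonoidHom.map_zpowers, hh, Subgroup.map_map]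
  congr 2
  have : h * c₂ * h⁻¹ = c₂ := by
    rw [hhc.eq, mul_assoc, mul_inv_cancel, mul_one]
  simp only [MulEquiv.coe_toMonoidHom, MulAut.conj_apply]
  rw [← this, ← hg₀]
  simp [mul_assoc]



theorem exists_prod_embed {A B X : Type*} (e : A ⊕ B ≃ X) (P : Subgroup (Equiv.Perm A))
    (C : Subgroup (Equiv.Perm B)) :
    ∃ M : Subgroup (Equiv.Perm X), Nonempty (↥M ≃* ↥P × ↥C) := by
  let Φ : Equiv.Perm A × Equiv.Perm B →* Equiv.Perm X :=
    (e.permCongrHom).toMonoidHom.comp (Equiv.Perm.sumCongrHom A B)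
  have hΦ : Function.Injective Φ :=
    (e.permCongrHom).injective.comp Equiv.Perm.sumCongrHom_injective
  refine ⟨(P.prod C).map Φ, ⟨?_⟩⟩
  exact ((P.prod C).equivMapOfInjective Φ hΦ).symm.trans (P.prodEquiv C)

theorem exists_max_nilp (n : ℕ) (hn : 3 ≤ n) (P : Sylow 2 (Equiv.Perm (Fin (n - 3)))) :
    ∃ M : Subgroup (Equiv.Perm (Fin n)), Group.IsNilpotent ↥M ∧ Nat.card M = 3 * Nat.card P ∧
      Nonempty (↥M ≃* (↥(P : Subgroup (Equiv.Perm (Fin (n - 3)))) × Multiplicative (ZMod 3))) := by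
  haveI : Fact (Nat.Prime 2) := ⟨Nat.prime_two⟩
  haveI : Fact (Nat.Prime 3) := ⟨Nat.prime_three⟩
  let e : Fin (n - 3) ⊕ Fin 3 ≃ Fin n := finSumFinEquiv.trans (finCongr (by omega))
  let C : Subgroup (Equiv.Perm (Fin 3)) := Subgroup.zpowers (finRotate 3)
  have hC : Nat.card ↥C = 3 := by
    rw [Nat.card_zpowers]
    have h1 : Equiv.Perm.cycleType (finRotate 3) = {3} := cycleType_finRotate (n := 1)
    rw [← Equiv.Perm.lcm_cycleType, h1]
    simp
  obtain ⟨M, ⟨f⟩⟩ := exists_prod_embed e (P : Subgroup (Equiv.Perm (Fin (n - 3)))) C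
  have hZ : Nat.card (Multiplicative (ZMod 3)) = 3 := by
    rw [Nat.card_eq_fintype_card, Fintype.card_multiplicative, ZMod.card]
  let f₂ : ↥C ≃* Multiplicative (ZMod 3) := mulEquivOfPrimeCardEq hC hZ
  let F : ↥M ≃* (↥(P : Subgroup (Equiv.Perm (Fin (n - 3)))) × Multiplicative (ZMod 3)) :=
    f.trans (MulEquiv.prodCongr (MulEquiv.refl _) f₂)
  refine ⟨M, ?_, ?_, ⟨F⟩⟩
  · haveI : Group.IsNilpotent ↥(P : Subgroup (Equiv.Perm (Fin (n - 3)))) := P.2.isNilpotent
    haveI : Group.IsNilpotent (Multiplicative (ZMod 3)) := CommGroup.isNilpotent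
    exact Group.nilpotent_of_mulEquiv F.symm
  · rw [Nat.card_congr F.toEquiv, Nat.card_prod, hZ, mul_comm]

end Cfsg.Agent.Lib.Helper20.NilpSym
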