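import Mathlib
import Cfsg.Agent.Lib.Helper20.NilpSym3
import Cfsg.Agent.Lib.Helper20.NilpAlt2

set_option autoImplicit false
set_option linter.style.haveILetI false

namespace Cfsg.Agent.Lib.Helper20.NilpSym

open Equiv

open Nat in
theorem v_pred_lt' (j k : ℕ) (hk : 1 ≤ k) (h3 : 3 * (k + 1) ≤ 4 * j + 3) :
    v (4 * j + 3 - 3 * (k + 1)) + v (k + 1) + 2 ≤ v (4 * j) := by
  obtain ⟨j', rfl⟩ : ∃ j', j = j' + 1 := ⟨j - 1, by omega⟩
  have h1 := v_add (4 * (j' + 1) + 3 - 3 * (k + 1)) (k + 1)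
  have h2 : v (4 * (j' + 1) + 3 - 3 * (k + 1) + (k + 1)) ≤ v (4 * j' + 3) := v_mono (by omega)
  have h3 := v_four j' 3 (by norm_num)
  have h4 := v_four (j' + 1) 0 (by norm_num)
  have h5 : v j' ≤ v (j' + 1) := v_mono (by omega)
  simp at h3 h4
  omega

theorem isThreeCycle_of_centralized' {X : Type*} [Fintype X] [DecidableEq X] (j : ℕ)
    (hX : Fintype.card X = 4 * j + 3)
    (c : Equiv.Perm X) (hc : orderOf c = 3) (Q : Subgroup (Equiv.Perm X)) (w : ℕ)
    (hw : v (4 * j) ≤ w + 1)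
    (hQ : Nat.card Q = 2 ^ w)
    (hcomm : ∀ g ∈ Q, Commute g c) : c.IsThreeCycle := by
  obtain ⟨k, hk⟩ := Equiv.Perm.cycleType_prime_order (σ := c) (by rw [hc]; norm_num)
  rw [hc] at hk
  have hle : Q ≤ Subgroup.centralizer {c} := by
    intro g hg
    rw [Subgroup.mem_centralizer_singleton_iff]
    exact (hcomm g hg).eq
  have hdvd : 2 ^ w ∣ Nat.card (Subgroup.centralizer {c}) := by
    rw [← hQ]; exact Subgroup.card_dvd_of_le hle
  have hsum : 3 * (k + 1) ≤ 4 * j + 3 := by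
    have h1 := Equiv.Perm.sum_cycleType c
    rw [hk, Multiset.sum_replicate, smul_eq_mul] at h1
    have h2 := Finset.card_le_univ c.support
    rw [hX] at h2
    omega
  rw [Equiv.Perm.nat_card_centralizer, hk, Multiset.sum_replicate, Multiset.prod_replicate,
    Multiset.toFinset_replicate, if_neg (by omega), Finset.prod_singleton,
    Multiset.count_replicate_self, hX, smul_eq_mul] at hdvd
  by_cases hk0 : k = 0
  · subst hk0
    exact hk
  · exfalso
    have h1 := v_pred_lt' j k (by omega) hsum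
    have h2 : 2 ^ w ∣ (4 * j + 3 - (k + 1) * 3).factorial * (k + 1).factorial := by
      have hcop : Nat.Coprime (2 ^ w) (3 ^ (k + 1)) := by
        apply Nat.Coprime.pow; norm_num
      have e : (4 * j + 3 - (k + 1) * 3).factorial * 3 ^ (k + 1) * (k + 1).factorial =
          ((4 * j + 3 - (k + 1) * 3).factorial * (k + 1).factorial) * 3 ^ (k + 1) := by ring
      rw [e] at hdvd
      exact hcop.dvd_of_dvd_mul_right hdvd
    haveI : Fact (Nat.Prime 2) := ⟨Nat.prime_two⟩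
    have h3 := (padicValNat_dvd_iff_le (p := 2)
      (Nat.mul_ne_zero (Nat.factorial_ne_zero _) (Nat.factorial_ne_zero _))).1 h2
    rw [padicValNat.mul (Nat.factorial_ne_zero _) (Nat.factorial_ne_zero _)] at h3
    have e2 : (k + 1) * 3 = 3 * (k + 1) := by ring
    rw [e2] at h3
    unfold v at h1 hw
    omega

theorem alt_factorization (Y : Type*) [Fintype Y] [DecidableEq Y] (hm : 2 ≤ Fintype.card Y) :
    (Nat.card (alternatingGroup Y)).factorization 2 + 1 = v (Fintype.card Y) := by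
  haveI : Nontrivial Y := Fintype.one_lt_card_iff_nontrivial.1 (by omega)
  have h2 : 2 * Nat.card (alternatingGroup Y) = (Fintype.card Y).factorial := by
    rw [two_mul_nat_card_alternatingGroup (α := Y), Nat.card_perm, Nat.card_eq_fintype_card]
  have h0 : Nat.card (alternatingGroup Y) ≠ 0 := Nat.card_pos.ne'
  unfold v
  rw [← h2, padicValNat.mul (by norm_num) h0, Nat.factorization_def _ Nat.prime_two]
  simp
  ring

theorem two_mul_card_sylow_alt (Y : Type*) [Fintype Y] [DecidableEq Y] (hm : 2 ≤ Fintype.card Y)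
    (P : Sylow 2 (alternatingGroup Y)) : 2 * Nat.card P = 2 ^ v (Fintype.card Y) := by
  haveI : Fact (Nat.Prime 2) := ⟨Nat.prime_two⟩
  rw [P.card_eq_multiplicity, ← alt_factorization Y hm, pow_succ]
  ring

theorem conj_of_fix_alt {X : Type*} [Fintype X] [DecidableEq X] (c : Equiv.Perm X) (m : ℕ)
    (hm : Fintype.card {x // c x = x} = m) (hm2 : 2 ≤ m) (w : ℕ) (hw : w + 1 = v m)
    (Q₁ Q₂ : Subgroup (Equiv.Perm X)) (ha₁ : Q₁ ≤ alternatingGroup X)
    (ha₂ : Q₂ ≤ alternatingGroup X) (h₁ : Nat.card Q₁ = 2 ^ w) (h₂ : Nat.card Q₂ = 2 ^ w)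
    (hf₁ : ∀ g ∈ Q₁, ∀ x, c x ≠ x → g x = x) (hf₂ : ∀ g ∈ Q₂, ∀ x, c x ≠ x → g x = x) :
    ∃ h : Equiv.Perm X, h ∈ alternatingGroup X ∧ Commute h c ∧
      Q₂ = Q₁.map (MulAut.conj h).toMonoidHom := by
  haveI : Fact (Nat.Prime 2) := ⟨Nat.prime_two⟩
  let ι : ↥(alternatingGroup {x // c x = x}) →* Equiv.Perm X :=
    (Equiv.Perm.ofSubtype).comp (alternatingGroup {x // c x = x}).subtype
  have hι : Function.Injective ι := Equiv.Perm.ofSubtype_injective.comp Subtype.val_injective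
  have hιsign : ∀ g, Perm.sign (ι g) = 1 := by
    intro g
    change Perm.sign (Perm.ofSubtype (g : Perm {x // c x = x})) = 1
    rw [Perm.sign_ofSubtype]
    exact g.2
  have hrange : ∀ Q : Subgroup (Equiv.Perm X), Q ≤ alternatingGroup X →
      (∀ g ∈ Q, ∀ x, c x ≠ x → g x = x) → Q ≤ ι.range := by
    intro Q hQa hQ g hg
    have h1 : g ∈ (Equiv.Perm.ofSubtype : Perm {x // c x = x} →* Perm X).range := by
      rw [Equiv.Perm.mem_range_ofSubtype_iff]
      intro x hx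
      by_contra hcx
      exact (Equiv.Perm.mem_support.1 hx) (hQ g hg x hcx)
    obtain ⟨g', rfl⟩ := h1
    have h2 : Perm.sign g' = 1 := by
      have := hQa hg
      rw [Perm.mem_alternatingGroup, Perm.sign_ofSubtype] at this
      exact this
    exact ⟨⟨g', h2⟩, rfl⟩
  have hmc : ∀ Q : Subgroup (Equiv.Perm X), Q ≤ ι.range → (Q.comap ι).map ι = Q :=
    fun Q hQ => Subgroup.map_comap_eq_self hQ
  have hfac : (Nat.card (alternatingGroup {x // c x = x})).factorization 2 = w := by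
    have := alt_factorization {x // c x = x} (by rw [hm]; exact hm2)
    rw [hm] at this
    omega
  have hcard : ∀ Q : Subgroup (Equiv.Perm X), Q ≤ ι.range → Nat.card Q = 2 ^ w →
      Nat.card (Q.comap ι) =
        2 ^ (Nat.card (alternatingGroup {x // c x = x})).factorization 2 := by
    intro Q hQ hQc
    rw [← Subgroup.card_map_of_injective hι, hmc Q hQ, hQc, hfac]
  have hr₁ := hrange Q₁ ha₁ hf₁
  have hr₂ := hrange Q₂ ha₂ hf₂
  let P₁ : Sylow 2 (alternatingGroup {x // c x = x}) :=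
    Sylow.ofCard (Q₁.comap ι) (hcard Q₁ hr₁ h₁)
  let P₂ : Sylow 2 (alternatingGroup {x // c x = x}) :=
    Sylow.ofCard (Q₂.comap ι) (hcard Q₂ hr₂ h₂)
  obtain ⟨h', hh'⟩ := MulAction.exists_smul_eq (alternatingGroup {x // c x = x}) P₁ P₂
  have hh'' : (Q₁.comap ι).map (MulAut.conj h').toMonoidHom = Q₂.comap ι := by
    have := congrArg (fun P : Sylow 2 (alternatingGroup {x // c x = x}) =>
      (P : Subgroup (alternatingGroup {x // c x = x}))) hh'
    simp only [Sylow.coe_subgroup_smul] at this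
    rw [Subgroup.pointwise_smul_def] at this
    exact this
  refine ⟨ι h', Perm.mem_alternatingGroup.2 (hιsign h'), ?_, ?_⟩
  · -- commutation
    apply Equiv.ext
    intro x
    simp only [Equiv.Perm.coe_mul, Function.comp_apply]
    by_cases hx : c x = x
    · rw [hx]
      have h1 : ι h' x = ((h' : Perm {x // c x = x}) ⟨x, hx⟩ : X) :=
        Equiv.Perm.ofSubtype_apply_of_mem (h' : Perm {x // c x = x}) hx
      rw [h1]
      exact (((h' : Perm {x // c x = x}) ⟨x, hx⟩).2).symm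
    · have h1 : ι h' x = x :=
        Equiv.Perm.ofSubtype_apply_of_not_mem (h' : Perm {x // c x = x}) hx
      have hx' : ¬ c (c x) = c x := fun h => hx (c.injective h)
      have h2 : ι h' (c x) = c x :=
        Equiv.Perm.ofSubtype_apply_of_not_mem (h' : Perm {x // c x = x}) hx'
      rw [h1, h2]
  · rw [← hmc Q₂ hr₂, ← hh'', Subgroup.map_map]
    conv_rhs => rw [← hmc Q₁ hr₁, Subgroup.map_map]
    congr 1
    ext g : 1
    simp [MulAut.conj_apply]

theorem nilp_conj_alt {X : Type*} [Fintype X] [DecidableEq X] (j : ℕ) (hj : 1 ≤ j)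
    (hX : Fintype.card X = 4 * j + 3) (N₁ N₂ : Subgroup (Equiv.Perm X))
    (hle₁ : N₁ ≤ alternatingGroup X) (hle₂ : N₂ ≤ alternatingGroup X)
    (hN₁ : Group.IsNilpotent ↥N₁) (hN₂ : Group.IsNilpotent ↥N₂) (w : ℕ) (hw : w + 1 = v (4 * j))
    (h₁ : Nat.card N₁ = 3 * 2 ^ w) (h₂ : Nat.card N₂ = 3 * 2 ^ w) :
    ∃ g : Equiv.Perm X, g ∈ alternatingGroup X ∧ N₂ = N₁.map (MulAut.conj g).toMonoidHom := by
  obtain ⟨c₁, Q₁, hc₁, hQ₁, hcm₁, rfl⟩ := nilp_decomp N₁ hN₁ _ h₁
  obtain ⟨c₂, Q₂, hc₂, hQ₂, hcm₂, rfl⟩ := nilp_decomp N₂ hN₂ _ h₂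
  have h3₁ := isThreeCycle_of_centralized' j hX c₁ hc₁ Q₁ w (by omega) hQ₁ hcm₁
  have h3₂ := isThreeCycle_of_centralized' j hX c₂ hc₂ Q₂ w (by omega) hQ₂ hcm₂
  have h5 : 5 ≤ Nat.card X := by rw [Nat.card_eq_fintype_card, hX]; omega
  have hconj : IsConj (⟨c₁, h3₁.mem_alternatingGroup⟩ : alternatingGroup X)
      ⟨c₂, h3₂.mem_alternatingGroup⟩ := alternatingGroup.isThreeCycle_isConj h5 h3₁ h3₂
  obtain ⟨g₀', hg₀'⟩ := isConj_iff.1 hconj
  obtain ⟨g₀, hg₀mem⟩ := g₀'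
  have hg₀ : g₀ * c₁ * g₀⁻¹ = c₂ := congrArg Subtype.val hg₀'
  have hQa₁ : Q₁ ≤ alternatingGroup X := le_sup_left.trans hle₁
  have hQa₂ : Q₂ ≤ alternatingGroup X := le_sup_left.trans hle₂
  have hQa₁' : Q₁.map (MulAut.conj g₀).toMonoidHom ≤ alternatingGroup X := by
    rintro g ⟨q, hq, rfl⟩
    exact (alternatingGroup X).mul_mem ((alternatingGroup X).mul_mem hg₀mem (hQa₁ hq))
      ((alternatingGroup X).inv_mem hg₀mem)
  have hQ₁' : Nat.card (Q₁.map (MulAut.conj g₀).toMonoidHom) = 2 ^ w := by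
    rw [Subgroup.card_map_of_injective (MulAut.conj g₀).injective]; exact hQ₁
  have hcm₁' : ∀ g ∈ Q₁.map (MulAut.conj g₀).toMonoidHom, Commute g c₂ := by
    rintro g ⟨q, hq, rfl⟩
    rw [← hg₀]
    exact (Commute.conj_iff g₀).2 (hcm₁ q hq)
  have hfix : ∀ Q : Subgroup (Equiv.Perm X), Nat.card Q = 2 ^ w →
      (∀ g ∈ Q, Commute g c₂) → ∀ g ∈ Q, ∀ x, c₂ x ≠ x → g x = x := by
    intro Q hQ hcm g hg x hx
    apply fixes_support_of_commute c₂ h3₂ g (hcm g hg) w _ x hx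
    have := pow_card_eq_one' (G := ↥Q) (x := ⟨g, hg⟩)
    rw [hQ] at this
    exact congrArg Subtype.val this
  have hm := card_fixed_of_isThreeCycle c₂ h3₂ (4 * j) hX
  obtain ⟨h, hhmem, hhc, hh⟩ := conj_of_fix_alt c₂ (4 * j) hm (by omega) w hw _ Q₂ hQa₁' hQa₂
    hQ₁' hQ₂ (hfix _ hQ₁' hcm₁') (hfix Q₂ hQ₂ hcm₂)
  refine ⟨h * g₀, (alternatingGroup X).mul_mem hhmem hg₀mem, ?_⟩
  rw [Subgroup.map_sup, MonoidHom.map_zpowers, hh, Subgroup.map_map]
  congr 2
  have : h * c₂ * h⁻¹ = c₂ := by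
    rw [hhc.eq, mul_assoc, mul_inv_cancel, mul_one]
  simp only [MulEquiv.coe_toMonoidHom, MulAut.conj_apply]
  rw [← this, ← hg₀]
  simp [mul_assoc]

theorem conj_transport {G : Type*} [Group G] (A : Subgroup G) (N₁ N₂ : Subgroup ↥A) (g : G)
    (hg : g ∈ A)
    (h : N₂.map A.subtype = (N₁.map A.subtype).map (MulAut.conj g).toMonoidHom) :
    N₂ = N₁.map (MulAut.conj (⟨g, hg⟩ : ↥A)).toMonoidHom := by
  apply Subgroup.map_injective A.subtype_injective
  rw [h, Subgroup.map_map, Subgroup.map_map]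
  congr 1

theorem exists_max_nilp_alt (n : ℕ) (hn : 3 ≤ n)
    (P : Sylow 2 (alternatingGroup (Fin (n - 3)))) :
    ∃ M : Subgroup (alternatingGroup (Fin n)), Group.IsNilpotent ↥M ∧
      Nat.card M = 3 * Nat.card P ∧
      Nonempty (↥M ≃* (↥(P : Subgroup (alternatingGroup (Fin (n - 3)))) ×
        Multiplicative (ZMod 3))) := by
  haveI : Fact (Nat.Prime 2) := ⟨Nat.prime_two⟩
  haveI : Fact (Nat.Prime 3) := ⟨Nat.prime_three⟩
  let e : Fin (n - 3) ⊕ Fin 3 ≃ Fin n := finSumFinEquiv.trans (finCongr (by omega))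
  let C : Subgroup (Equiv.Perm (Fin 3)) := Subgroup.zpowers (finRotate 3)
  have hC : Nat.card ↥C = 3 := by
    rw [Nat.card_zpowers]
    have h1 : Equiv.Perm.cycleType (finRotate 3) = {3} := cycleType_finRotate (n := 1)
    rw [← Equiv.Perm.lcm_cycleType, h1]
    simp
  have hCa : C ≤ alternatingGroup (Fin 3) := by
    rw [Subgroup.zpowers_le, Perm.mem_alternatingGroup, sign_finRotate]
    norm_num
  let P' : Subgroup (Perm (Fin (n - 3))) :=
    (P : Subgroup (alternatingGroup (Fin (n - 3)))).map (alternatingGroup (Fin (n - 3))).subtype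
  have hPa : P' ≤ alternatingGroup (Fin (n - 3)) := by
    rintro _ ⟨g, _, rfl⟩
    exact g.2
  let Φ : Equiv.Perm (Fin (n - 3)) × Equiv.Perm (Fin 3) →* Equiv.Perm (Fin n) :=
    (e.permCongrHom).toMonoidHom.comp (Equiv.Perm.sumCongrHom (Fin (n - 3)) (Fin 3))
  have hΦ : Function.Injective Φ :=
    (e.permCongrHom).injective.comp Equiv.Perm.sumCongrHom_injective
  have hsign : ∀ a b, Perm.sign (Φ (a, b)) = Perm.sign a * Perm.sign b := by
    intro a b
    change Perm.sign (e.permCongr (Perm.sumCongr a b)) = _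
    rw [Perm.sign_permCongr, Perm.sign_sumCongr]
  let M₀ : Subgroup (Perm (Fin n)) := (P'.prod C).map Φ
  have hM₀ : M₀ ≤ alternatingGroup (Fin n) := by
    rintro _ ⟨⟨a, b⟩, ⟨ha, hb⟩, rfl⟩
    rw [Perm.mem_alternatingGroup, hsign]
    have h1 : Perm.sign a = 1 := hPa ha
    have h2 : Perm.sign b = 1 := hCa hb
    rw [h1, h2, one_mul]
  let M : Subgroup (alternatingGroup (Fin n)) := M₀.subgroupOf (alternatingGroup (Fin n))
  let f1 : ↥M ≃* ↥M₀ := Subgroup.subgroupOfEquivOfLe hM₀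
  let f2 : ↥M₀ ≃* ↥(P'.prod C) := ((P'.prod C).equivMapOfInjective Φ hΦ).symm
  let f3 : ↥(P'.prod C) ≃* ↥P' × ↥C := P'.prodEquiv C
  let f4 : ↥P' ≃* ↥(P : Subgroup (alternatingGroup (Fin (n - 3)))) :=
    ((P : Subgroup (alternatingGroup (Fin (n - 3)))).equivMapOfInjective _
      (alternatingGroup (Fin (n - 3))).subtype_injective).symm
  have hZ : Nat.card (Multiplicative (ZMod 3)) = 3 := by
    rw [Nat.card_eq_fintype_card, Fintype.card_multiplicative, ZMod.card]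
  let f5 : ↥C ≃* Multiplicative (ZMod 3) := mulEquivOfPrimeCardEq hC hZ
  let F : ↥M ≃* (↥(P : Subgroup (alternatingGroup (Fin (n - 3)))) × Multiplicative (ZMod 3)) :=
    f1.trans (f2.trans (f3.trans (MulEquiv.prodCongr f4 f5)))
  refine ⟨M, ?_, ?_, ⟨F⟩⟩
  · haveI : Group.IsNilpotent ↥(P : Subgroup (alternatingGroup (Fin (n - 3)))) := P.2.isNilpotent
    haveI : Group.IsNilpotent (Multiplicative (ZMod 3)) := CommGroup.isNilpotent
    exact Group.nilpotent_of_mulEquiv F.symm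
  · rw [Nat.card_congr F.toEquiv, Nat.card_prod, hZ, mul_comm]

end Cfsg.Agent.Lib.Helper20.NilpSym
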