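import Mathlib
import Cfsg.Agent.Lib.Helper20.AbelAlt4
import Cfsg.Agent.Lib.Helper20.NilpAlt3

set_option autoImplicit false
set_option linter.style.haveILetI false

namespace Cfsg.Agent.Lib.Helper20.AbelAlt

open MulAction Equiv Cfsg.Agent.Lib.helper15 Cfsg.Agent.Lib.Helper20.NilpSym

/-- a point whose orbit has the size forced by the degree -/
theorem exists_orbit_size {X : Type} [Fintype X] [DecidableEq X] (A : Subgroup (Perm X))
    (hA : ∀ a ∈ A, ∀ b ∈ A, a * b = b * a) (hle : A ≤ alternatingGroup X) (n : ℕ)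
    (hcard : Nat.card X = n) (hn3 : 3 ≤ n) (hn5 : n ≠ 5) (hmax : Nat.card A = altProd n) :
    ∃ x₀ : X, Nat.card {x // x ∈ orbit ↥A x₀} = (if n % 3 = 0 then 3 else 4) := by
  classical
  have hne : Nonempty X := by
    rw [← Finite.card_pos_iff, hcard]; omega
  have hs : ∀ x₀ : X, (Nat.card {x // x ∈ orbit ↥A x₀} = 3 ∨ Nat.card {x // x ∈ orbit ↥A x₀} = 4) ∧
      (n % 3 = 0 → Nat.card {x // x ∈ orbit ↥A x₀} = 3) := by
    intro x₀
    obtain ⟨c1, c2, -⟩ := max_struct A hA hle n hcard hn3 hn5 hmax x₀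
      (fun x => x ∈ orbit ↥A x₀) (fun _ => Iff.rfl) (orb_inv A x₀)
    exact ⟨c1, c2⟩
  by_cases h3 : n % 3 = 0
  · obtain ⟨x₀⟩ := hne
    exact ⟨x₀, by rw [if_pos h3]; exact (hs x₀).2 h3⟩
  · rw [if_neg h3]
    by_contra hcon
    push Not at hcon
    have hall : ∀ x₀ : X, Nat.card {x // x ∈ orbit ↥A x₀} = 3 := by
      intro x₀
      rcases (hs x₀).1 with h | h
      · exact h
      · exact absurd h (hcon x₀)
    let Ω := orbitRel.Quotient ↥A X
    haveI : Fintype Ω := Fintype.ofFinite Ω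
    have hsum : Nat.card X = ∑ ω : Ω, Nat.card ↥ω.orbit := by
      rw [Nat.card_congr (selfEquivSigmaOrbits' ↥A X), Nat.card_sigma]
    have hω : ∀ ω : Ω, Nat.card ↥ω.orbit = 3 := by
      intro ω
      induction ω using Quotient.inductionOn' with
      | h a =>
        have : orbitRel.Quotient.orbit (Quotient.mk'' a : Ω) = orbit ↥A a :=
          orbitRel.Quotient.orbit_mk a
        rw [this]
        exact hall a
    rw [hcard] at hsum
    rw [hsum, Finset.sum_congr rfl (fun ω _ => hω ω), Finset.sum_const, smul_eq_mul] at h3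
    omega

theorem eq_bot_of_card_one {G : Type*} [Group G] (A : Subgroup G) (h : Nat.card A = 1) : A = ⊥ :=
  Subgroup.card_eq_one.1 h

/-- two abelian groups of even permutations of the largest possible order are isomorphic as
permutation groups -/
theorem conj_equiv (n : ℕ) : ∀ {X₁ X₂ : Type} [Fintype X₁] [DecidableEq X₁] [Fintype X₂]
    [DecidableEq X₂] (A₁ : Subgroup (Perm X₁)) (A₂ : Subgroup (Perm X₂)),
    (∀ a ∈ A₁, ∀ b ∈ A₁, a * b = b * a) → (∀ a ∈ A₂, ∀ b ∈ A₂, a * b = b * a) →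
    A₁ ≤ alternatingGroup X₁ → A₂ ≤ alternatingGroup X₂ →
    Nat.card X₁ = n → Nat.card X₂ = n → n ≠ 5 →
    Nat.card A₁ = altProd n → Nat.card A₂ = altProd n →
    ∃ e : X₁ ≃ X₂, A₂ = A₁.map e.permCongrHom.toMonoidHom := by
  classical
  induction n using Nat.strong_induction_on with
  | _ n ih =>
    intro X₁ X₂ _ _ _ _ A₁ A₂ hA₁ hA₂ hle₁ hle₂ hc₁ hc₂ hn5 hm₁ hm₂
    have e₀ : X₁ ≃ X₂ := by
      apply Fintype.equivOfCardEq
      rw [← Nat.card_eq_fintype_card, ← Nat.card_eq_fintype_card, hc₁, hc₂]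
    by_cases hn3 : 3 ≤ n
    · obtain ⟨x₁, hx₁⟩ := exists_orbit_size A₁ hA₁ hle₁ n hc₁ hn3 hn5 hm₁
      obtain ⟨x₂, hx₂⟩ := exists_orbit_size A₂ hA₂ hle₂ n hc₂ hn3 hn5 hm₂
      obtain ⟨p₁, hp₁⟩ : ∃ p : X₁ → Prop, ∀ x, p x ↔ x ∈ orbit ↥A₁ x₁ :=
        ⟨fun x => x ∈ orbit ↥A₁ x₁, fun _ => Iff.rfl⟩
      obtain ⟨p₂, hp₂⟩ : ∃ p : X₂ → Prop, ∀ x, p x ↔ x ∈ orbit ↥A₂ x₂ :=
        ⟨fun x => x ∈ orbit ↥A₂ x₂, fun _ => Iff.rfl⟩
      have hinv₁ : ∀ g ∈ A₁, ∀ x, p₁ ((g : Perm X₁) x) ↔ p₁ x := by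
        intro g hg x; rw [hp₁, hp₁]; exact orb_inv A₁ x₁ g hg x
      have hinv₂ : ∀ g ∈ A₂, ∀ x, p₂ ((g : Perm X₂) x) ↔ p₂ x := by
        intro g hg x; rw [hp₂, hp₂]; exact orb_inv A₂ x₂ g hg x
      have hx₁' : Nat.card {x // p₁ x} = (if n % 3 = 0 then 3 else 4) := by
        rw [← hx₁]; exact Nat.card_congr (Equiv.subtypeEquivRight hp₁)
      have hx₂' : Nat.card {x // p₂ x} = (if n % 3 = 0 then 3 else 4) := by
        rw [← hx₂]; exact Nat.card_congr (Equiv.subtypeEquivRight hp₂)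
      obtain ⟨a1, -, a3, a4, a5, a6, a7, a8, a9, a10⟩ :=
        max_struct A₁ hA₁ hle₁ n hc₁ hn3 hn5 hm₁ x₁ p₁ hp₁ hinv₁
      obtain ⟨b1, -, b3, b4, b5, b6, b7, b8, b9, b10⟩ :=
        max_struct A₂ hA₂ hle₂ n hc₂ hn3 hn5 hm₂ x₂ p₂ hp₂ hinv₂
      obtain ⟨m, hm⟩ : ∃ m, m = Nat.card {x // p₁ x} := ⟨_, rfl⟩
      have hmm : Nat.card {x // p₂ x} = m := by rw [hm, hx₁', hx₂']
      rw [← hm] at a1 a3 a4 a6 a8
      rw [hmm] at b1 b3 b4 b6 b8
      have ep : {x // p₁ x} ≃ {x // p₂ x} := by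
        apply Fintype.equivOfCardEq
        rw [← Nat.card_eq_fintype_card, ← Nat.card_eq_fintype_card, hmm, hm]
      set R₁ := (resP A₁ p₁ hinv₁).range with hR₁
      set B₁ := (resN A₁ p₁ hinv₁).range with hB₁
      set R₂ := (resP A₂ p₂ hinv₂).range with hR₂
      set B₂ := (resN A₂ p₂ hinv₂).range with hB₂
      -- the regular parts correspond
      have hR : R₂ = R₁.map ep.permCongrHom.toMonoidHom := by
        apply reg_unique R₂ _ b5 _ (by rw [hmm]; exact b1) (by rw [b6, hmm])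
        · rw [Subgroup.card_map_of_injective ep.permCongrHom.injective, a6, hmm]
        · rintro _ ⟨r, hr, rfl⟩
          rw [Perm.mem_alternatingGroup]
          change Perm.sign (ep.permCongr r) = 1
          rw [Perm.sign_permCongr]
          exact a5 hr
      -- the complements correspond by induction
      obtain ⟨en, hen⟩ := ih (n - m) (by omega) B₁ B₂ a9 b9 a7 b7 a4 b4 a3 a8 b8
      exact ⟨glue p₁ p₂ ep en, glue_map p₁ p₂ ep en A₁ A₂ R₁ B₁ R₂ B₂ a10 b10 hR hen⟩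
    · have h1 : altProd n = 1 := by
        have : n ≤ 2 := by omega
        interval_cases n <;> rfl
      rw [h1] at hm₁ hm₂
      refine ⟨e₀, ?_⟩
      rw [eq_bot_of_card_one A₁ hm₁, eq_bot_of_card_one A₂ hm₂, Subgroup.map_bot]

theorem permCongrHom_eq_conj {X : Type*} (e : Perm X) :
    e.permCongrHom.toMonoidHom = (MulAut.conj e).toMonoidHom := by
  ext σ x
  rfl

/-- an odd permutation normalising an abelian group of even permutations of largest order -/
theorem exists_odd_normalizer {X : Type} [Fintype X] [DecidableEq X] (A : Subgroup (Perm X))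
    (hA : ∀ a ∈ A, ∀ b ∈ A, a * b = b * a) (hle : A ≤ alternatingGroup X) (n : ℕ)
    (hcard : Nat.card X = n) (hn3 : 3 ≤ n) (hn5 : n ≠ 5) (hmax : Nat.card A = altProd n) :
    ∃ σ : Perm X, Perm.sign σ = -1 ∧ A.map (MulAut.conj σ).toMonoidHom = A := by
  classical
  have hne : Nonempty X := by
    rw [← Finite.card_pos_iff, hcard]; omega
  obtain ⟨x₀⟩ := hne
  obtain ⟨p, hp⟩ : ∃ p : X → Prop, ∀ x, p x ↔ x ∈ orbit ↥A x₀ :=
    ⟨fun x => x ∈ orbit ↥A x₀, fun _ => Iff.rfl⟩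
  have hinv : ∀ g ∈ A, ∀ x, p ((g : Perm X) x) ↔ p x := by
    intro g hg x; rw [hp, hp]; exact orb_inv A x₀ g hg x
  obtain ⟨a1, -, a3, a4, a5, a6, a7, a8, a9, a10⟩ :=
    max_struct A hA hle n hcard hn3 hn5 hmax x₀ p hp hinv
  set R := (resP A p hinv).range with hR
  set B := (resN A p hinv).range with hB
  -- two distinct points of the orbit
  have hnt : Nontrivial {x // p x} := by
    rw [← Finite.one_lt_card_iff_nontrivial]
    omega
  obtain ⟨y, z, hyz⟩ := exists_pair_ne {x // p x}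
  let τ : Perm {x // p x} := Equiv.swap y z
  have hτ : Perm.sign τ = -1 := Perm.sign_swap hyz
  have hRτ : R = R.map τ.permCongrHom.toMonoidHom := by
    apply reg_unique R _ a5 _ a1 a6
    · rw [Subgroup.card_map_of_injective τ.permCongrHom.injective, a6]
    · rintro _ ⟨r, hr, rfl⟩
      rw [Perm.mem_alternatingGroup]
      change Perm.sign (τ.permCongr r) = 1
      rw [Perm.sign_permCongr]
      exact a5 hr
  have hBid : B = B.map (Equiv.refl {x // ¬ p x}).permCongrHom.toMonoidHom := by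
    ext g
    constructor
    · intro hg
      exact ⟨g, hg, by ext x; rfl⟩
    · rintro ⟨g', hg', rfl⟩
      have : (Equiv.refl {x // ¬ p x}).permCongrHom.toMonoidHom g' = g' := by ext x; rfl
      rw [this]; exact hg'
  have hmap := glue_map p p τ (Equiv.refl _) A A R B R B a10 a10 hRτ hBid
  refine ⟨glue p p τ (Equiv.refl _), ?_, ?_⟩
  · have e : glue p p τ (Equiv.refl _) = Perm.subtypeCongr τ 1 := by
      ext x
      rfl
    rw [e, Perm.sign_subtypeCongr, hτ, map_one, mul_one]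
  · rw [← permCongrHom_eq_conj]
    exact hmap.symm

/-- conjugacy in the alternating group -/
theorem conj_alt {X : Type} [Fintype X] [DecidableEq X] (A₁ A₂ : Subgroup (Perm X))
    (hA₁ : ∀ a ∈ A₁, ∀ b ∈ A₁, a * b = b * a) (hA₂ : ∀ a ∈ A₂, ∀ b ∈ A₂, a * b = b * a)
    (hle₁ : A₁ ≤ alternatingGroup X) (hle₂ : A₂ ≤ alternatingGroup X) (n : ℕ)
    (hcard : Nat.card X = n) (hn3 : 3 ≤ n) (hn5 : n ≠ 5)
    (hm₁ : Nat.card A₁ = altProd n) (hm₂ : Nat.card A₂ = altProd n) :
    ∃ g : Perm X, g ∈ alternatingGroup X ∧ A₂ = A₁.map (MulAut.conj g).toMonoidHom := by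
  obtain ⟨e, he⟩ := conj_equiv n A₁ A₂ hA₁ hA₂ hle₁ hle₂ hcard hcard hn5 hm₁ hm₂
  rw [permCongrHom_eq_conj] at he
  rcases Int.units_eq_one_or (Perm.sign e) with h | h
  · exact ⟨e, Perm.mem_alternatingGroup.2 h, he⟩
  · obtain ⟨σ, hσ, hσA⟩ := exists_odd_normalizer A₁ hA₁ hle₁ n hcard hn3 hn5 hm₁
    refine ⟨e * σ, ?_, ?_⟩
    · rw [Perm.mem_alternatingGroup, map_mul, h, hσ]
      norm_num
    · have : (MulAut.conj (e * σ)).toMonoidHom =
          (MulAut.conj e).toMonoidHom.comp (MulAut.conj σ).toMonoidHom := by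
        ext g : 1
        simp [MulAut.conj_apply, mul_assoc]
      rw [this, ← Subgroup.map_map, hσA]
      exact he

theorem hasAbelAlt_five : HasAbelAlt (Fin 5) 5 := by
  refine ⟨Subgroup.zpowers (finRotate 5), inferInstance, ?_, ?_⟩
  · rw [Subgroup.zpowers_le, Perm.mem_alternatingGroup, sign_finRotate]
    norm_num
  · rw [Nat.card_zpowers, (isCycle_finRotate_of_le (by norm_num)).orderOf,
      support_finRotate_of_le (by norm_num), Finset.card_univ, Fintype.card_fin]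

theorem hasAbelAlt_all (n : ℕ) : HasAbelAlt (Fin n) (altProd n) := by
  obtain ⟨k, hk | hk | hk⟩ : ∃ k, n = 3 * k ∨ n = 3 * k + 1 ∨ n = 3 * k + 2 :=
    ⟨n / 3, by omega⟩
  · subst hk
    have h := hasAbelAlt_three_mul k
    by_cases hk2 : 2 ≤ k
    · rw [altProd_three_mul k hk2]; exact h
    · have : k = 0 ∨ k = 1 := by omega
      rcases this with rfl | rfl <;> exact h
  · subst hk
    by_cases hk2 : 2 ≤ k
    · rw [altProd_three_mul_add_one k hk2]
      exact hasAbelAlt_three_mul_add_one k (by omega)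
    · have : k = 0 ∨ k = 1 := by omega
      rcases this with rfl | rfl
      · exact hasAbelAlt_bot _
      · exact hasAbelAlt_three_mul_add_one 1 (by omega)
  · subst hk
    by_cases hk2 : 2 ≤ k
    · rw [altProd_three_mul_add_two k hk2]
      exact hasAbelAlt_three_mul_add_two k hk2
    · have : k = 0 ∨ k = 1 := by omega
      rcases this with rfl | rfl
      · exact hasAbelAlt_bot _
      · exact hasAbelAlt_five

end Cfsg.Agent.Lib.Helper20.AbelAlt
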