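import Mathlib
set_option autoImplicit false
set_option linter.style.haveILetI false

namespace Cfsg.Agent.Lib.Helper20

open scoped BigOperators

/-- Coordinates on a finite abelian group from the structure theorem. -/
theorem exists_coords (A : Type*) [CommGroup A] [Finite A] :
    ∃ (ι : Type) (_ : Fintype ι) (n : ι → ℕ) (g : ι → A),
      (∀ i, 1 < n i) ∧ (∀ i, orderOf (g i) = n i) ∧
      (∀ h : ι → A, (∀ i, h i ^ n i = 1) → ∃ π : A →* A, ∀ i, π (g i) = h i) ∧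
      (∀ a : A, ∃ c : ι → ℕ, a = ∏ i, g i ^ c i) := by
  classical
  obtain ⟨ι, hι, n, hn, ⟨Ψ⟩⟩ := CommGroup.equiv_prod_multiplicative_zmod_of_finite A
  refine ⟨ι, hι, n, fun i => Ψ.symm (Pi.mulSingle i (Multiplicative.ofAdd 1)), hn, ?_, ?_, ?_⟩
  · intro i
    rw [MulEquiv.orderOf_eq, orderOf_piMulSingle, orderOf_ofAdd_eq_addOrderOf, ZMod.addOrderOf_one]
  · intro h hh
    let f : ∀ i, Multiplicative (ZMod (n i)) →* A := fun i =>
      { toFun := fun c => h i ^ (Multiplicative.toAdd c).val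
        map_one' := by
          haveI : NeZero (n i) := ⟨by have := hn i; omega⟩
          simp
        map_mul' := by
          intro a b
          haveI : NeZero (n i) := ⟨by have := hn i; omega⟩
          rw [toAdd_mul, ZMod.val_add, ← pow_eq_pow_mod _ (hh i), pow_add] }
    refine ⟨(∏ i, (f i).comp (Pi.evalMonoidHom _ i)).comp Ψ.toMonoidHom, ?_⟩
    intro i
    rw [MonoidHom.comp_apply]
    change (∏ j, (f j).comp (Pi.evalMonoidHom _ j)) (Ψ (Ψ.symm _)) = _
    rw [MulEquiv.apply_symm_apply, MonoidHom.finsetProd_apply, Finset.prod_eq_single i]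
    · haveI : Fact (1 < n i) := ⟨hn i⟩
      simp [f, ZMod.val_one]
    · intro j _ hji
      simp [f, Pi.mulSingle_eq_of_ne hji]
    · intro hi
      exact absurd (Finset.mem_univ i) hi
  · intro a
    refine ⟨fun i => (Multiplicative.toAdd (Ψ a i)).val, ?_⟩
    apply Ψ.injective
    rw [map_prod]
    simp only [map_pow, MulEquiv.apply_symm_apply]
    conv_lhs => rw [← Finset.univ_prod_mulSingle (Ψ a)]
    apply Finset.prod_congr rfl
    intro i _
    rw [← Pi.mulSingle_pow]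
    congr 1
    haveI : NeZero (n i) := ⟨by have := hn i; omega⟩
    rw [← ofAdd_nsmul, nsmul_one, ZMod.natCast_zmod_val]
    rfl


theorem coords_indep {A : Type*} [CommGroup A] {ι : Type} [Fintype ι] (n : ι → ℕ) (g : ι → A)
    (hord : ∀ i, orderOf (g i) = n i)
    (huniv : ∀ h : ι → A, (∀ i, h i ^ n i = 1) → ∃ π : A →* A, ∀ i, π (g i) = h i)
    (c : ι → ℕ) (hc : ∏ i, g i ^ c i = 1) (j : ι) : n j ∣ c j := by
  classical
  obtain ⟨π, hπ⟩ := huniv (fun i => if i = j then g j else 1) (by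
    intro i
    by_cases hij : i = j
    · subst hij; simp only [if_true]; rw [← hord i]; exact pow_orderOf_eq_one _
    · simp [hij])
  have h1 := congrArg π hc
  rw [map_prod, map_one] at h1
  simp only [map_pow, hπ] at h1
  rw [Finset.prod_eq_single j] at h1
  · simp only [if_true] at h1
    rw [← hord j]
    exact orderOf_dvd_of_pow_eq_one h1
  · intro i _ hij
    simp [hij]
  · intro hj
    exact absurd (Finset.mem_univ j) hj

/-- the subgroup of elements of order dividing `p` in a commutative group -/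
def omega1 (p : ℕ) (A : Type*) [CommGroup A] : Subgroup A where
  carrier := {w | w ^ p = 1}
  one_mem' := one_pow p
  mul_mem' := by
    intro a b ha hb
    change (a * b) ^ p = 1
    rw [mul_pow, ha, hb, one_mul]
  inv_mem' := by
    intro a ha
    change (a⁻¹) ^ p = 1
    rw [inv_pow, ha, inv_one]

theorem mem_omega1 {p : ℕ} {A : Type*} [CommGroup A] (w : A) : w ∈ omega1 p A ↔ w ^ p = 1 := Iff.rfl


theorem exists_compl_of_exp_p {A : Type*} [CommGroup A] [Finite A] (p : ℕ) [hp : Fact p.Prime]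
    (E V : Subgroup A) (hE : ∀ x ∈ E, x ^ p = 1) (hV : V ≤ E) :
    ∃ W : Subgroup A, W ≤ E ∧ V ⊓ W = ⊥ ∧ V ⊔ W = E := by
  classical
  let S : Set (Subgroup A) := {W | W ≤ E ∧ V ⊓ W = ⊥}
  have hSfin : S.Finite := Set.toFinite S
  have hSne : S.Nonempty := ⟨⊥, bot_le, inf_bot_eq _⟩
  obtain ⟨W, hW⟩ := hSfin.exists_maximal hSne
  refine ⟨W, hW.prop.1, hW.prop.2, le_antisymm (sup_le hV hW.prop.1) ?_⟩
  intro u hu
  by_contra hnot
  have hW' : W ⊔ Subgroup.zpowers u ∉ S := fun hin => by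
    have := hW.le_of_ge hin le_sup_left
    exact hnot (Subgroup.mem_sup_right (this (Subgroup.mem_sup_right (Subgroup.mem_zpowers u))))
  have hne : V ⊓ (W ⊔ Subgroup.zpowers u) ≠ ⊥ := fun h =>
    hW' ⟨sup_le hW.prop.1 (by rw [Subgroup.zpowers_le]; exact hu), h⟩
  obtain ⟨v, hv1⟩ := (Subgroup.ne_bot_iff_exists_ne_one).mp hne
  obtain ⟨hvV, hvW⟩ := Subgroup.mem_inf.mp v.2
  obtain ⟨w, hw, z, hz, hwz⟩ := Subgroup.mem_sup.mp hvW
  have hzVW : z ∈ V ⊔ W := by
    have : z = w⁻¹ * v := by rw [← hwz]; group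
    rw [this]
    exact Subgroup.mul_mem _ (Subgroup.mem_sup_right (W.inv_mem hw)) (Subgroup.mem_sup_left hvV)
  by_cases hz1 : z = 1
  · have : (v : A) ∈ V ⊓ W := by
      refine ⟨hvV, ?_⟩
      rw [← hwz, hz1, mul_one]; exact hw
    rw [hW.prop.2, Subgroup.mem_bot] at this
    exact hv1 (Subtype.ext this)
  · obtain ⟨j, rfl⟩ := Subgroup.mem_zpowers_iff.mp hz
    have hup : u ^ (p : ℤ) = 1 := by rw [zpow_natCast]; exact hE u hu
    have hpj : ¬ (p : ℤ) ∣ j := fun ⟨t, ht⟩ => hz1 (by rw [ht, zpow_mul, hup, one_zpow])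
    have hcop : IsCoprime j p :=
      ((Nat.prime_iff_prime_int.mp hp.out).coprime_iff_not_dvd.mpr hpj).symm
    obtain ⟨a, b, hab⟩ := hcop
    have hu' : u = (u ^ j) ^ a := by
      have h1 : u ^ (a * j + b * p) = u := by rw [hab, zpow_one]
      rw [zpow_add, mul_comm b, zpow_mul u p b, hup, one_zpow, mul_one, mul_comm a, zpow_mul] at h1
      exact h1.symm
    apply hnot
    rw [hu']
    exact Subgroup.zpow_mem _ hzVW a


theorem exists_retract {A : Type*} [CommGroup A] [Finite A] (p : ℕ) [hp : Fact p.Prime]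
    (e : ℕ) (he : 1 ≤ e) (hexp : ∀ a : A, a ^ p ^ e = 1)
    (V : Subgroup A) (hV : ∀ v ∈ V, ∃ b : A, b ^ p ^ (e - 1) = v) :
    ∃ π : A →* A, (∀ v ∈ V, π v = v) ∧ (∀ w : A, w ^ p = 1 → π w ∈ V) := by
  classical
  obtain ⟨ι, hι, n, g, hn, hord, huniv, hgen⟩ := exists_coords A
  have hpe : p ^ (e - 1) * p = p ^ e := by rw [← pow_succ, Nat.sub_add_cancel he]
  have hndvd : ∀ i, ∃ j, j ≤ e ∧ n i = p ^ j := fun i =>
    (Nat.dvd_prime_pow hp.out).mp (by rw [← hord i]; exact orderOf_dvd_of_pow_eq_one (hexp _))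
  choose ei hei_le hei using hndvd
  have hei1 : ∀ i, 1 ≤ ei i := by
    intro i
    by_contra h
    have h0 : ei i = 0 := by omega
    have := hn i
    rw [hei i, h0, pow_zero] at this
    exact lt_irrefl _ this
  have hVE : V ≤ omega1 p A := by
    intro v hv
    obtain ⟨b, rfl⟩ := hV v hv
    rw [mem_omega1, ← pow_mul, hpe, hexp]
  obtain ⟨W, hWE, hVW, hVWE⟩ := exists_compl_of_exp_p p (omega1 p A) V (fun x hx => hx) hVE
  let u : ι → A := fun i => g i ^ p ^ (ei i - 1)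
  have hpei : ∀ i, p ^ (ei i - 1) * p = p ^ ei i := fun i => by
    rw [← pow_succ, Nat.sub_add_cancel (hei1 i)]
  have hu : ∀ i, u i ∈ omega1 p A := by
    intro i
    rw [mem_omega1, ← pow_mul, hpei, ← hei i, ← hord i]
    exact pow_orderOf_eq_one _
  have hdec : ∀ i, ∃ v ∈ V, ∃ w ∈ W, v * w = u i := fun i => by
    have := hu i
    rw [← hVWE] at this
    exact Subgroup.mem_sup.mp this
  choose vv hvv ww hww hvw using hdec
  choose bb hbb using fun i => hV (vv i) (hvv i)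
  obtain ⟨π, hπ⟩ := huniv (fun i => bb i ^ p ^ (e - ei i)) (by
    intro i
    rw [← pow_mul, hei i, ← pow_add, Nat.sub_add_cancel (hei_le i), hexp])
  have hπu : ∀ i, π (u i) = vv i := by
    intro i
    change π (g i ^ p ^ (ei i - 1)) = _
    rw [map_pow, hπ, ← pow_mul, ← pow_add, ← hbb i]
    congr 2
    have := hei_le i
    have := hei1 i
    omega
  have hrep : ∀ w : A, w ^ p = 1 → ∃ d : ι → ℕ, w = ∏ i, u i ^ d i := by
    intro w hw
    obtain ⟨c, hc⟩ := hgen w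
    have h1 : ∏ i, g i ^ (c i * p) = 1 := by
      rw [← hw, hc, ← Finset.prod_pow]
      exact Finset.prod_congr rfl (fun i _ => by rw [pow_mul])
    have h2 : ∀ i, p ^ (ei i - 1) ∣ c i := by
      intro i
      have h3 := coords_indep n g hord huniv (fun i => c i * p) h1 i
      rw [hei i, ← hpei i] at h3
      exact Nat.dvd_of_mul_dvd_mul_right hp.out.pos h3
    choose d hd using h2
    refine ⟨d, ?_⟩
    rw [hc]
    exact Finset.prod_congr rfl (fun i _ => by rw [← pow_mul, ← hd i])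
  refine ⟨π, ?_, ?_⟩
  · intro v hv
    obtain ⟨d, hd⟩ := hrep v (hVE hv)
    have hP : ∏ i, vv i ^ d i ∈ V := Subgroup.prod_mem _ (fun i _ => Subgroup.pow_mem _ (hvv i) _)
    have hR : ∏ i, ww i ^ d i ∈ W := Subgroup.prod_mem _ (fun i _ => Subgroup.pow_mem _ (hww i) _)
    have hsplit : v = (∏ i, vv i ^ d i) * (∏ i, ww i ^ d i) := by
      rw [hd, ← Finset.prod_mul_distrib]
      exact Finset.prod_congr rfl (fun i _ => by rw [← mul_pow, hvw])
    have hRV : ∏ i, ww i ^ d i ∈ V := by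
      have : ∏ i, ww i ^ d i = (∏ i, vv i ^ d i)⁻¹ * v := by rw [hsplit]; group
      rw [this]
      exact V.mul_mem (V.inv_mem hP) hv
    have hR1 : ∏ i, ww i ^ d i = 1 := by
      have : ∏ i, ww i ^ d i ∈ V ⊓ W := ⟨hRV, hR⟩
      rwa [hVW, Subgroup.mem_bot] at this
    have hπv : π v = ∏ i, vv i ^ d i := by
      rw [hd, map_prod]
      exact Finset.prod_congr rfl (fun i _ => by rw [map_pow, hπu])
    rw [hπv, hsplit, hR1, mul_one]
  · intro w hw
    obtain ⟨d, hd⟩ := hrep w hw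
    rw [hd, map_prod]
    exact Subgroup.prod_mem _ (fun i _ => by rw [map_pow, hπu]; exact Subgroup.pow_mem _ (hvv i) _)


theorem exists_idem_pow {A : Type*} [CommGroup A] [Finite A] (θ : Monoid.End A) :
    ∃ k : ℕ, 1 ≤ k ∧ θ ^ k * θ ^ k = θ ^ k := by
  haveI : Finite (Monoid.End A) :=
    Finite.of_injective (fun f : Monoid.End A => (f : A → A)) DFunLike.coe_injective
  obtain ⟨i, j, hij, h⟩ := Finite.exists_ne_map_eq_of_infinite (fun k : ℕ => θ ^ k)
  wlog hlt : i < j generalizing i j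
  · exact this j i (Ne.symm hij) h.symm (lt_of_le_of_ne (not_lt.mp hlt) (Ne.symm hij))
  obtain ⟨d, rfl⟩ : ∃ d, j = i + d := ⟨j - i, by omega⟩
  have hd : 1 ≤ d := by omega
  have h1 : ∀ m, i ≤ m → θ ^ (m + d) = θ ^ m := by
    intro m hm
    obtain ⟨t, rfl⟩ : ∃ t, m = t + i := ⟨m - i, by omega⟩
    rw [add_assoc, pow_add, ← h, ← pow_add]
  have h2 : ∀ t m, i ≤ m → θ ^ (m + t * d) = θ ^ m := by
    intro t
    induction t with
    | zero => intro m _; simp
    | succ t ih =>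
      intro m hm
      rw [Nat.succ_mul, ← add_assoc, h1 _ (by omega), ih m hm]
  refine ⟨(i + 1) * d, ?_, ?_⟩
  · exact Nat.one_le_iff_ne_zero.mpr (Nat.mul_ne_zero (by omega) (by omega))
  · rw [← pow_add]
    apply h2
    calc i ≤ (i + 1) * 1 := by omega
      _ ≤ (i + 1) * d := Nat.mul_le_mul_left _ hd

theorem idem_decomp {A : Type*} [CommGroup A] (ε : A →* A) (hε : ∀ a, ε (ε a) = ε a) :
    ε.ker ⊓ ε.range = ⊥ ∧ ε.ker ⊔ ε.range = ⊤ := by
  constructor
  · rw [eq_bot_iff]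
    rintro a ⟨h1, ⟨b, rfl⟩⟩
    rw [Subgroup.mem_bot]
    have : ε (ε b) = 1 := h1
    rwa [hε] at this
  · rw [eq_top_iff]
    intro a _
    have : a = (a * (ε a)⁻¹) * ε a := by group
    rw [this]
    refine Subgroup.mul_mem _ (Subgroup.mem_sup_left ?_) (Subgroup.mem_sup_right ⟨a, rfl⟩)
    rw [MonoidHom.mem_ker, map_mul, map_inv, hε, mul_inv_cancel]

theorem map_eq_of_closed {A : Type*} [CommGroup A] (X : Subgroup (MulAut A)) (B : Subgroup A)
    (h : ∀ x ∈ X, ∀ b ∈ B, x b ∈ B) : ∀ x ∈ X, B.map (x : MulAut A).toMonoidHom = B := by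
  intro x hx
  apply le_antisymm
  · rintro _ ⟨b, hb, rfl⟩
    exact h x hx b hb
  · intro b hb
    refine ⟨x⁻¹ b, h x⁻¹ (X.inv_mem hx) b hb, ?_⟩
    change x (x⁻¹ b) = b
    simp

theorem closed_of_map_eq {A : Type*} [CommGroup A] {X : Subgroup (MulAut A)} {B : Subgroup A}
    (h : ∀ x ∈ X, B.map (x : MulAut A).toMonoidHom = B) : ∀ x ∈ X, ∀ b ∈ B, x b ∈ B := by
  intro x hx b hb
  have : x b ∈ B.map (x : MulAut A).toMonoidHom := ⟨b, hb, rfl⟩
  rwa [h x hx] at this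

/-- the averaging operator -/
noncomputable def avg {A : Type*} [CommGroup A] [Finite A] (X : Subgroup (MulAut A)) (π : A →* A) : A →* A :=
  letI : Fintype X := Fintype.ofFinite X
  ∏ x : X, ((x : MulAut A).toMonoidHom).comp (π.comp ((x : MulAut A)⁻¹).toMonoidHom)

theorem avg_apply {A : Type*} [CommGroup A] [Finite A] (X : Subgroup (MulAut A)) (π : A →* A) (a : A) :
    letI : Fintype X := Fintype.ofFinite X
    avg X π a = ∏ x : X, (x : MulAut A) (π ((x : MulAut A)⁻¹ a)) := by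
  unfold avg
  rw [MonoidHom.finsetProd_apply]
  rfl

theorem avg_equivariant {A : Type*} [CommGroup A] [Finite A] (X : Subgroup (MulAut A)) (π : A →* A)
    (y : MulAut A) (hy : y ∈ X) (a : A) : avg X π (y a) = y (avg X π a) := by
  letI : Fintype X := Fintype.ofFinite X
  rw [avg_apply, avg_apply, map_prod]
  symm
  apply Fintype.prod_equiv (Equiv.mulLeft (⟨y, hy⟩ : X))
  intro x
  simp [MulAut.mul_apply, mul_inv_rev]


theorem avg_of_mem {A : Type*} [CommGroup A] [Finite A] (X : Subgroup (MulAut A)) (π : A →* A)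
    (V : Subgroup A) (hVinv : ∀ x ∈ X, ∀ b ∈ V, x b ∈ V) (hπV : ∀ v ∈ V, π v = v)
    (v : A) (hv : v ∈ V) : avg X π v = v ^ Nat.card X := by
  letI : Fintype X := Fintype.ofFinite X
  rw [avg_apply]
  have : ∀ x : X, (x : MulAut A) (π ((x : MulAut A)⁻¹ v)) = v := by
    intro x
    rw [hπV _ (hVinv _ (X.inv_mem x.2) v hv)]
    simp
  simp only [this]
  rw [Finset.prod_const, Finset.card_univ, Nat.card_eq_fintype_card]

theorem avg_mem {A : Type*} [CommGroup A] [Finite A] (X : Subgroup (MulAut A)) (π : A →* A) (p : ℕ)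
    (V : Subgroup A) (hVinv : ∀ x ∈ X, ∀ b ∈ V, x b ∈ V) (hπΩ : ∀ w : A, w ^ p = 1 → π w ∈ V)
    (w : A) (hw : w ^ p = 1) : avg X π w ∈ V := by
  letI : Fintype X := Fintype.ofFinite X
  rw [avg_apply]
  apply Subgroup.prod_mem
  intro x _
  apply hVinv _ x.2
  apply hπΩ
  rw [← map_pow, hw, map_one]

theorem decomp_of_V {A : Type*} [CommGroup A] [Finite A] {p : ℕ} [hp : Fact p.Prime]
    (X : Subgroup (MulAut A)) (hX : (Nat.card X).Coprime p)
    (e : ℕ) (he : 1 ≤ e) (hexp : ∀ a : A, a ^ p ^ e = 1)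
    (V : Subgroup A) (hVinv : ∀ x ∈ X, ∀ b ∈ V, x b ∈ V) (hVne : V ≠ ⊥)
    (hVp : ∀ v ∈ V, v ^ p = 1)
    (hVlt : ∃ w : A, w ^ p = 1 ∧ w ∉ V) (hVpow : ∀ v ∈ V, ∃ b : A, b ^ p ^ (e - 1) = v) :
    ∃ B C : Subgroup A, B ≠ ⊥ ∧ C ≠ ⊥ ∧ (∀ x ∈ X, B.map (x : MulAut A).toMonoidHom = B) ∧
      (∀ x ∈ X, C.map (x : MulAut A).toMonoidHom = C) ∧ B ⊓ C = ⊥ ∧ B ⊔ C = ⊤ := by
  obtain ⟨π, hπV, hπΩ⟩ := exists_retract p e he hexp V hVpow
  set θ : A →* A := avg X π with hθ
  have hθV : ∀ v ∈ V, θ v = v ^ Nat.card X := avg_of_mem X π V hVinv hπV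
  have hθΩ : ∀ w : A, w ^ p = 1 → θ w ∈ V := avg_mem X π p V hVinv hπΩ
  have hθeq : ∀ y ∈ X, ∀ a, θ (y a) = y (θ a) := fun y hy a => avg_equivariant X π y hy a
  let Θ : Monoid.End A := θ
  obtain ⟨k, hk1, hk⟩ := exists_idem_pow Θ
  have hΘ1 : ∀ a, Θ a = θ a := fun a => rfl
  have hpowsucc : ∀ (j : ℕ) (a : A), (Θ ^ (j + 1)) a = (Θ ^ j) (θ a) := by
    intro j a
    rw [pow_succ]
    rfl
  let ε : A →* A := Θ ^ k
  have hε : ∀ a, ε (ε a) = ε a := by
    intro a
    have := congrArg (fun f : Monoid.End A => f a) hk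
    exact this
  have hεeq : ∀ y ∈ X, ∀ a, ε (y a) = y (ε a) := by
    intro y hy
    have : ∀ (j : ℕ) (a : A), (Θ ^ j) (y a) = y ((Θ ^ j) a) := by
      intro j
      induction j with
      | zero => intro a; rfl
      | succ j ih => intro a; rw [hpowsucc, hpowsucc, hθeq y hy, ih]
    exact this k
  have hεV : ∀ v ∈ V, ε v = v ^ (Nat.card X ^ k) := by
    intro v hv
    have : ∀ (j : ℕ), (Θ ^ j) v = v ^ (Nat.card X ^ j) := by
      intro j
      induction j with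
      | zero => simp
      | succ j ih => rw [hpowsucc, hθV v hv, map_pow, ih, ← pow_mul, pow_succ]
    exact this k
  refine ⟨ε.range, ε.ker, ?_, ?_, ?_, ?_, ?_, ?_⟩
  · -- range ≠ ⊥
    obtain ⟨v, hv1⟩ := (Subgroup.ne_bot_iff_exists_ne_one).mp hVne
    intro hbot
    have h1 : ε v ∈ ε.range := ⟨v, rfl⟩
    rw [hbot, Subgroup.mem_bot, hεV v v.2] at h1
    have hord : orderOf (v : A) = p :=
      orderOf_eq_prime (hVp v v.2) (fun h => hv1 (Subtype.ext h))
    have hdvd := orderOf_dvd_of_pow_eq_one h1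
    rw [hord] at hdvd
    have := hp.out.dvd_of_dvd_pow hdvd
    have hcop := hX
    rw [Nat.coprime_comm, Nat.Prime.coprime_iff_not_dvd hp.out] at hcop
    exact hcop this
  · -- ker ≠ ⊥
    obtain ⟨w, hwp, hwV⟩ := hVlt
    obtain ⟨m, -, hm⟩ := Nat.exists_mul_mod_eq_one_of_coprime hX hp.out.one_lt
    have hv : θ w ∈ V := hθΩ w hwp
    have hv' : (θ w) ^ m ∈ V := Subgroup.pow_mem _ hv m
    have h1 : θ ((θ w) ^ m) = θ w := by
      rw [hθV _ hv', ← pow_mul, mul_comm, pow_eq_pow_mod _ (hVp _ hv), hm, pow_one]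
    have hz : θ (w * ((θ w) ^ m)⁻¹) = 1 := by
      rw [map_mul, map_inv, h1, mul_inv_cancel]
    have hz1 : w * ((θ w) ^ m)⁻¹ ≠ 1 := by
      intro h
      apply hwV
      have : w = (θ w) ^ m := by rw [mul_inv_eq_one] at h; exact h
      rw [this]; exact hv'
    intro hbot
    have : w * ((θ w) ^ m)⁻¹ ∈ ε.ker := by
      rw [MonoidHom.mem_ker]
      obtain ⟨k', rfl⟩ : ∃ k', k = k' + 1 := ⟨k - 1, by omega⟩
      change (Θ ^ (k' + 1)) _ = 1
      rw [hpowsucc, hz, map_one]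
    rw [hbot, Subgroup.mem_bot] at this
    exact hz1 this
  · apply map_eq_of_closed
    rintro x hx _ ⟨a, rfl⟩
    exact ⟨x a, hεeq x hx a⟩
  · apply map_eq_of_closed
    intro x hx a ha
    rw [MonoidHom.mem_ker] at ha ⊢
    rw [hεeq x hx, ha, map_one]
  · rw [inf_comm]; exact (idem_decomp ε hε).1
  · rw [sup_comm]; exact (idem_decomp ε hε).2


theorem exists_exp {A : Type*} [CommGroup A] [Finite A] {p : ℕ} [hp : Fact p.Prime]
    (hA : IsPGroup p A) : ∃ e : ℕ, ∀ a : A, a ^ p ^ e = 1 := by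
  obtain ⟨n, hn⟩ := IsPGroup.iff_card.mp hA
  exact ⟨n, fun a => by rw [← hn]; exact pow_card_eq_one'⟩

theorem decomp_of_reducible {A : Type*} [CommGroup A] [Finite A] {p : ℕ} [hp : Fact p.Prime]
    (hA : IsPGroup p A) (X : Subgroup (MulAut A)) (hX : (Nat.card X).Coprime p)
    (B₀ : Subgroup A) (hB₀inv : ∀ x ∈ X, B₀.map (x : MulAut A).toMonoidHom = B₀)
    (hB₀p : ∀ b ∈ B₀, b ^ p = 1) (hB₀ne : B₀ ≠ ⊥) (hB₀ne' : ¬ ∀ a : A, a ∈ B₀ ↔ a ^ p = 1) :
    ∃ B C : Subgroup A, B ≠ ⊥ ∧ C ≠ ⊥ ∧ (∀ x ∈ X, B.map (x : MulAut A).toMonoidHom = B) ∧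
      (∀ x ∈ X, C.map (x : MulAut A).toMonoidHom = C) ∧ B ⊓ C = ⊥ ∧ B ⊔ C = ⊤ := by
  classical
  have hex := exists_exp hA
  set e := Nat.find hex with he_def
  have hexp : ∀ a : A, a ^ p ^ e = 1 := Nat.find_spec hex
  have he : 1 ≤ e := by
    by_contra h
    have h0 : e = 0 := by omega
    apply hB₀ne
    rw [eq_bot_iff]
    intro b _
    have := hexp b
    rw [h0, pow_zero, pow_one] at this
    rw [Subgroup.mem_bot]; exact this
  have hmin : ¬ ∀ a : A, a ^ p ^ (e - 1) = 1 := Nat.find_min hex (by omega)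
  push Not at hmin
  obtain ⟨a₀, ha₀⟩ := hmin
  have hpe : p ^ (e - 1) * p = p ^ e := by rw [← pow_succ, Nat.sub_add_cancel he]
  have hw : ∃ w : A, w ^ p = 1 ∧ w ∉ B₀ := by
    by_contra hcon
    push Not at hcon
    exact hB₀ne' (fun a => ⟨hB₀p a, hcon a⟩)
  set S : Subgroup A := (powMonoidHom (p ^ (e - 1)) : A →* A).range with hS
  have hSmem : ∀ s, s ∈ S ↔ ∃ b : A, b ^ p ^ (e - 1) = s := fun s => Iff.rfl
  have hSp : ∀ s ∈ S, s ^ p = 1 := by
    rintro _ ⟨b, rfl⟩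
    rw [powMonoidHom_apply, ← pow_mul, hpe, hexp]
  by_cases hcase : ∀ w : A, w ^ p = 1 → w ∈ S
  · -- homocyclic case: use B₀
    refine decomp_of_V X hX e he hexp B₀ (closed_of_map_eq hB₀inv) hB₀ne hB₀p hw ?_
    intro v hv
    exact (hSmem v).mp (hcase v (hB₀p v hv))
  · push Not at hcase
    refine decomp_of_V X hX e he hexp S ?_ ?_ hSp hcase (fun v hv => (hSmem v).mp hv)
    · rintro x hx _ ⟨b, rfl⟩
      exact ⟨x b, by rw [powMonoidHom_apply, powMonoidHom_apply, map_pow]⟩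
    · intro hbot
      have : a₀ ^ p ^ (e - 1) ∈ S := ⟨a₀, rfl⟩
      rw [hbot, Subgroup.mem_bot] at this
      exact ha₀ this

/-- power of a `p`-element which has order exactly `p ^ (j+1)` -/
theorem exists_pow_exact {A : Type*} [Group A] {p : ℕ} (b : A) (hb : ∃ s : ℕ, b ^ p ^ s = 1)
    (j : ℕ) (hj : b ^ p ^ j ≠ 1) : ∃ t : ℕ, (b ^ p ^ t) ^ p ^ (j + 1) = 1 ∧ (b ^ p ^ t) ^ p ^ j ≠ 1 := by
  classical
  set s := Nat.find hb with hs
  have hs1 : b ^ p ^ s = 1 := Nat.find_spec hb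
  have hjs : j < s := by
    by_contra h
    push Not at h
    apply hj
    obtain ⟨d, rfl⟩ : ∃ d, j = s + d := ⟨j - s, by omega⟩
    rw [pow_add, pow_mul, hs1, one_pow]
  refine ⟨s - (j + 1), ?_, ?_⟩
  · rw [← pow_mul, ← pow_add, Nat.sub_add_cancel (by omega), hs1]
  · rw [← pow_mul, ← pow_add]
    have : s - (j + 1) + j = s - 1 := by omega
    rw [this]
    exact Nat.find_min hb (by omega)

theorem omega_le_of_irred {A : Type*} [CommGroup A] [Finite A] {p : ℕ} [Fact p.Prime]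
    (hA : IsPGroup p A) (X : Subgroup (MulAut A))
    (hirr : ∀ B : Subgroup A, (∀ x ∈ X, B.map (x : MulAut A).toMonoidHom = B) → (∀ b ∈ B, b ^ p = 1) →
      B = ⊥ ∨ ∀ a : A, a ∈ B ↔ a ^ p = 1)
    (j : ℕ) : ∀ B : Subgroup A, (∀ x ∈ X, B.map (x : MulAut A).toMonoidHom = B) →
      (∃ b ∈ B, b ^ p ^ j ≠ 1) → ∀ a : A, a ^ p ^ (j + 1) = 1 → a ∈ B := by
  induction j with
  | zero =>
    intro B hBinv ⟨b, hbB, hb1⟩ a ha
    obtain ⟨t, ht1, ht2⟩ := exists_pow_exact (p := p) b (hA b) 0 hb1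
    rw [pow_zero, pow_one] at ht2
    rw [zero_add, pow_one] at ht1 ha
    have hcl := closed_of_map_eq hBinv
    have h1 := hirr (B ⊓ omega1 p A) (map_eq_of_closed X _ (by
      rintro x hx c ⟨hc1, hc2⟩
      refine ⟨hcl x hx c hc1, ?_⟩
      have hc2' : c ^ p = 1 := hc2
      change (x c) ^ p = 1
      rw [← map_pow, hc2', map_one])) (fun c hc => hc.2)
    rcases h1 with h1 | h1
    · exfalso
      have : b ^ p ^ t ∈ B ⊓ omega1 p A := ⟨Subgroup.pow_mem _ hbB _, ht1⟩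
      rw [h1, Subgroup.mem_bot] at this
      exact ht2 this
    · exact ((h1 a).mpr ha).1
  | succ j ih =>
    intro B hBinv ⟨b, hbB, hb1⟩ a ha
    have hcl := closed_of_map_eq hBinv
    have hbj : b ^ p ^ j ≠ 1 := by
      intro h
      apply hb1
      rw [pow_succ, pow_mul, h, one_pow]
    have hih := ih B hBinv ⟨b, hbB, hbj⟩
    obtain ⟨t, ht1, ht2⟩ := exists_pow_exact (p := p) b (hA b) (j + 1) hb1
    -- the image of B ⊓ Ω_{j+2} under the p^(j+1) power map
    set K : Subgroup A := (B ⊓ (powMonoidHom (p ^ (j + 1 + 1)) : A →* A).ker) with hK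
    have hKmem : ∀ c, c ∈ K ↔ c ∈ B ∧ c ^ p ^ (j + 1 + 1) = 1 := fun c => Iff.rfl
    have h1 := hirr (K.map (powMonoidHom (p ^ (j + 1)) : A →* A)) (map_eq_of_closed X _ (by
      rintro x hx _ ⟨c, hc, rfl⟩
      have hc' := (hKmem c).mp hc
      exact ⟨x c, (hKmem _).mpr ⟨hcl x hx c hc'.1, by rw [← map_pow, hc'.2, map_one]⟩,
        by rw [powMonoidHom_apply, powMonoidHom_apply, map_pow]⟩)) (by
      rintro _ ⟨c, hc, rfl⟩
      rw [powMonoidHom_apply, ← pow_mul, ← pow_succ]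
      exact ((hKmem c).mp hc).2)
    rcases h1 with h1 | h1
    · exfalso
      have : (b ^ p ^ t) ^ p ^ (j + 1) ∈ K.map (powMonoidHom (p ^ (j + 1)) : A →* A) :=
        ⟨b ^ p ^ t, (hKmem _).mpr ⟨Subgroup.pow_mem _ hbB _, ht1⟩, rfl⟩
      rw [h1, Subgroup.mem_bot] at this
      exact ht2 this
    · have h2 : (a ^ p ^ (j + 1)) ^ p = 1 := by rw [← pow_mul, ← pow_succ]; exact ha
      obtain ⟨c, hc, hca⟩ := (h1 _).mpr h2
      rw [powMonoidHom_apply] at hca
      obtain ⟨hcB, -⟩ := (hKmem c).mp hc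
      have h3 : (a * c⁻¹) ^ p ^ (j + 1) = 1 := by
        rw [mul_pow, inv_pow, hca, mul_inv_cancel]
      have h4 := hih (a * c⁻¹) h3
      have : a = (a * c⁻¹) * c := by group
      rw [this]
      exact B.mul_mem h4 hcB


end Cfsg.Agent.Lib.Helper20
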