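import Mathlib

/-!
# 3-closures of affine groups over `ZMod p`

* `affine_of_triples`: for `p` odd, a permutation of `F_p^d` agreeing with some affine map on every
  triple of points is affine.
* `exists_dilation`: for `d ≥ 3`, a linear automorphism fixing two given vectors with prescribed
  non-zero determinant.
-/

set_option autoImplicit false

namespace Cfsg.Agent.Lib.Helper20

open Matrix

variable {p : ℕ} [Fact p.Prime] {d : ℕ}

theorem two_ne_zero_zmod (hp : p ≠ 2) : (2 : ZMod p) ≠ 0 := by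
  have hpp : p.Prime := Fact.out
  intro h
  have h2 : ((2 : ℕ) : ZMod p) = 0 := by exact_mod_cast h
  rw [ZMod.natCast_eq_zero_iff] at h2
  have := Nat.le_of_dvd (by norm_num) h2
  have := hpp.two_le
  omega

theorem affine_of_triples (hp : p ≠ 2) (σ : Equiv.Perm (Fin d → ZMod p))
    (h : ∀ t : Fin 3 → (Fin d → ZMod p),
      ∃ (A : (Fin d → ZMod p) ≃ₗ[ZMod p] (Fin d → ZMod p)) (b : Fin d → ZMod p),
        ∀ i, σ (t i) = A (t i) + b) :
    ∃ (A : (Fin d → ZMod p) ≃ₗ[ZMod p] (Fin d → ZMod p)) (b : Fin d → ZMod p),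
      ∀ x, σ x = A x + b := by
  have h2 := two_ne_zero_zmod hp
  have hsmul : ∀ (c : ZMod p) (x : Fin d → ZMod p), σ (c • x) - σ 0 = c • (σ x - σ 0) := by
    intro c x
    obtain ⟨A, b, hA⟩ := h ![0, x, c • x]
    have h0 : σ 0 = A 0 + b := hA 0
    have h1 : σ x = A x + b := hA 1
    have h2 : σ (c • x) = A (c • x) + b := hA 2
    rw [h2, h1, h0, map_smul, map_zero]
    module
  have hadd : ∀ x y : Fin d → ZMod p, σ (x + y) - σ 0 = (σ x - σ 0) + (σ y - σ 0) := by
    intro x y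
    obtain ⟨A, b, hA⟩ := h ![x, y, (2 : ZMod p)⁻¹ • (x + y)]
    have h0 : σ x = A x + b := hA 0
    have h1 : σ y = A y + b := hA 1
    have h3 : σ ((2 : ZMod p)⁻¹ • (x + y)) = A ((2 : ZMod p)⁻¹ • (x + y)) + b := hA 2
    have e : x + y = (2 : ZMod p) • ((2 : ZMod p)⁻¹ • (x + y)) := by
      rw [smul_smul, mul_inv_cancel₀ h2, one_smul]
    rw [e, hsmul, h3, h0, h1, map_smul, map_add]
    have e2 : (2 : ZMod p) • ((2 : ZMod p)⁻¹ • (A x + A y) + b - σ 0) =
        (A x + A y) + (2 : ZMod p) • b - (2 : ZMod p) • σ 0 := by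
      rw [smul_sub, smul_add, smul_smul, mul_inv_cancel₀ h2, one_smul]
    rw [e2, two_smul, two_smul]
    abel
  let fLin : (Fin d → ZMod p) →ₗ[ZMod p] (Fin d → ZMod p) :=
    { toFun := fun x => σ x - σ 0
      map_add' := hadd
      map_smul' := fun c x => hsmul c x }
  have hinj : Function.Injective fLin := by
    intro x y hxy
    have : σ x - σ 0 = σ y - σ 0 := hxy
    exact σ.injective (sub_left_injective this)
  have hsurj : Function.Surjective fLin := by
    intro y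
    refine ⟨σ.symm (y + σ 0), ?_⟩
    change σ (σ.symm (y + σ 0)) - σ 0 = y
    rw [Equiv.apply_symm_apply, add_sub_cancel_right]
  refine ⟨LinearEquiv.ofBijective fLin ⟨hinj, hsurj⟩, σ 0, ?_⟩
  intro x
  change σ x = (σ x - σ 0) + σ 0
  rw [sub_add_cancel]

theorem exists_dilation (hd : 3 ≤ d) (u1 u2 : Fin d → ZMod p) (δ : ZMod p) (hδ : δ ≠ 0) :
    ∃ D : (Fin d → ZMod p) ≃ₗ[ZMod p] (Fin d → ZMod p), D u1 = u1 ∧ D u2 = u2 ∧
      LinearMap.det (D : (Fin d → ZMod p) →ₗ[ZMod p] (Fin d → ZMod p)) = δ := by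
  -- a non-zero vector orthogonal to u1 and u2
  let M : Matrix (Fin 2) (Fin d) (ZMod p) := Matrix.of ![u1, u2]
  have hker : LinearMap.ker M.mulVecLin ≠ ⊥ := by
    apply LinearMap.ker_ne_bot_of_finrank_lt
    rw [Module.finrank_fin_fun, Module.finrank_fin_fun]
    omega
  obtain ⟨n, hn, hn0⟩ := (Submodule.ne_bot_iff _).mp hker
  have hn1 : u1 ⬝ᵥ n = 0 := by
    have := congrFun (LinearMap.mem_ker.mp hn) 0
    simpa [M, Matrix.mulVec] using this
  have hn2 : u2 ⬝ᵥ n = 0 := by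
    have := congrFun (LinearMap.mem_ker.mp hn) 1
    simpa [M, Matrix.mulVec] using this
  obtain ⟨j, hj⟩ : ∃ j, n j ≠ 0 := by
    by_contra hcon
    push Not at hcon
    exact hn0 (funext hcon)
  let w : Fin d → ZMod p := (δ - 1) • Pi.single j (n j)⁻¹
  have hnw : n ⬝ᵥ w = δ - 1 := by
    change n ⬝ᵥ ((δ - 1) • Pi.single j (n j)⁻¹) = δ - 1
    rw [dotProduct_smul, dotProduct_single, mul_inv_cancel₀ hj, smul_eq_mul, mul_one]
  let Dmat : Matrix (Fin d) (Fin d) (ZMod p) := 1 + vecMulVec w n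
  have hdet : Dmat.det = δ := by
    change (1 + vecMulVec w n).det = δ
    rw [vecMulVec_eq Unit, det_one_add_replicateCol_mul_replicateRow, hnw]
    ring
  have hdetL : LinearMap.det (Matrix.toLin' Dmat) = δ := by
    rw [LinearMap.det_toLin', hdet]
  have hunit : IsUnit (LinearMap.det (Matrix.toLin' Dmat)) := by
    rw [hdetL]; exact isUnit_iff_ne_zero.mpr hδ
  have happly : ∀ x : Fin d → ZMod p, Matrix.toLin' Dmat x = x + (n ⬝ᵥ x) • w := by
    intro x
    change Matrix.toLin' (1 + vecMulVec w n) x = _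
    rw [Matrix.toLin'_apply, add_mulVec, one_mulVec, vecMulVec_mulVec, op_smul_eq_smul]
  refine ⟨LinearMap.equivOfIsUnitDet hunit, ?_, ?_, ?_⟩
  · rw [LinearMap.equivOfIsUnitDet_apply, happly, dotProduct_comm, hn1, zero_smul, add_zero]
  · rw [LinearMap.equivOfIsUnitDet_apply, happly, dotProduct_comm, hn2, zero_smul, add_zero]
  · rw [LinearMap.coe_equivOfIsUnitDet, hdetL]

end Cfsg.Agent.Lib.Helper20
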