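import Cfsg.Agent.S1013
import Cfsg.Agent.S0675
import Cfsg.Prelude.Def_Perm

set_option autoImplicit false
set_option linter.style.haveILetI false
open scoped commutatorElement

namespace Cfsg.Agent.Lib.Helper20

open MulAction

variable {p : ℕ} [hp : Fact p.Prime]

/-- the affine permutation `x ↦ a * x + b` -/
def affPerm (a : (ZMod p)ˣ) (b : ZMod p) : Equiv.Perm (ZMod p) where
  toFun x := (a : ZMod p) * x + b
  invFun x := ((a⁻¹ : (ZMod p)ˣ) : ZMod p) * (x - b)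
  left_inv x := by
    simp only
    rw [add_sub_cancel_right, ← mul_assoc, Units.inv_mul, one_mul]
  right_inv x := by
    simp only
    rw [← mul_assoc, Units.mul_inv, one_mul, sub_add_cancel]

theorem affPerm_apply (a : (ZMod p)ˣ) (b x : ZMod p) : affPerm a b x = (a : ZMod p) * x + b := rfl

theorem affPerm_mem (a : (ZMod p)ˣ) (b : ZMod p) : affPerm a b ∈ Cfsg.affineGroup (ZMod p) :=
  ⟨a, b, fun _ => rfl⟩

/-- an affine permutation is determined by its values at `0` and `1` -/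
theorem affine_ext {g h : Equiv.Perm (ZMod p)} (hg : g ∈ Cfsg.affineGroup (ZMod p))
    (hh : h ∈ Cfsg.affineGroup (ZMod p)) (h0 : g 0 = h 0) (h1 : g 1 = h 1) : g = h := by
  obtain ⟨a, b, hab⟩ := hg
  obtain ⟨c, d, hcd⟩ := hh
  rw [hab, hcd, mul_zero, mul_zero, zero_add, zero_add] at h0
  rw [hab, hcd, mul_one, mul_one, h0] at h1
  have hac : (a : ZMod p) = c := add_right_cancel h1
  ext x
  rw [hab, hcd, hac, h0]

theorem shift_formula (γ : Equiv.Perm (ZMod p)) (k : ZMod p) (h : ∀ x, γ (x + 1) = γ x + k) :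
    ∀ x : ZMod p, γ x = k * x + γ 0 := by
  have hnat : ∀ n : ℕ, γ (n : ZMod p) = k * n + γ 0 := by
    intro n
    induction n with
    | zero => simp
    | succ n ih =>
      rw [Nat.cast_succ, h, ih]; ring
  intro x
  have hne : NeZero p := ⟨hp.out.ne_zero⟩
  have := hnat x.val
  rwa [ZMod.natCast_zmod_val] at this

/-- a permutation `γ` with `γ (x + 1) = γ x + k` is affine -/
theorem affine_of_shift (γ : Equiv.Perm (ZMod p)) (k : ZMod p) (h : ∀ x, γ (x + 1) = γ x + k) :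
    γ ∈ Cfsg.affineGroup (ZMod p) := by
  have hp1 : Fact (1 < p) := ⟨hp.out.one_lt⟩
  have hall := shift_formula γ k h
  have hk : k ≠ 0 := by
    intro hk
    have h1 := hall 1
    have h0 := hall 0
    rw [hk, zero_mul, zero_add] at h1
    have : (1 : ZMod p) = 0 := γ.injective h1
    exact one_ne_zero this
  exact ⟨Units.mk0 k hk, γ 0, hall⟩

/-- a solvable group of permutations of `ZMod p` containing the translations is affine -/
theorem le_affine_of_solvable (Γ : Subgroup (Equiv.Perm (ZMod p))) (hsolv : Group.IsSolvable ↥Γ)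
    (ht : ∀ b : ZMod p, ∃ g ∈ Γ, ∀ x, g x = x + b) : Γ ≤ Cfsg.affineGroup (ZMod p) := by
  have hp1 : Fact (1 < p) := ⟨hp.out.one_lt⟩
  have hne : NeZero p := ⟨hp.out.ne_zero⟩
  have hcardα : Nat.card (ZMod p) = p := by rw [Nat.card_eq_fintype_card, ZMod.card]
  have hprime : (Nat.card (ZMod p)).Prime := by rw [hcardα]; exact hp.out
  have hsmul : ∀ (g : ↥Γ) (x : ZMod p), g • x = (g : Equiv.Perm (ZMod p)) x := fun g x => rfl
  haveI htr : IsPretransitive ↥Γ (ZMod p) := by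
    refine ⟨fun x y => ?_⟩
    obtain ⟨g, hg, hgx⟩ := ht (y - x)
    refine ⟨⟨g, hg⟩, ?_⟩
    rw [hsmul]
    show g x = y
    rw [hgx]; ring
  obtain ⟨t₁, ht₁Γ, ht₁⟩ := ht 1
  set τ : ↥Γ := ⟨t₁, ht₁Γ⟩ with hτ
  have hτne : τ ≠ 1 := by
    intro h
    have h1 : t₁ = 1 := congrArg Subtype.val h
    have h2 := ht₁ 0
    rw [h1, Equiv.Perm.one_apply, zero_add] at h2
    exact one_ne_zero h2.symm
  -- the last non-trivial term of the derived series
  obtain ⟨n, hn⟩ := hsolv.solvable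
  classical
  have hex : ∃ n, derivedSeries ↥Γ n = ⊥ := ⟨n, hn⟩
  set n₀ := Nat.find hex with hn₀
  have hn₀spec : derivedSeries ↥Γ n₀ = ⊥ := Nat.find_spec hex
  have hn₀pos : n₀ ≠ 0 := by
    intro h0
    rw [h0, derivedSeries_zero] at hn₀spec
    have : τ ∈ (⊥ : Subgroup ↥Γ) := by rw [← hn₀spec]; exact Subgroup.mem_top _
    exact hτne (Subgroup.mem_bot.mp this)
  obtain ⟨n₁, hn₁⟩ : ∃ n₁, n₀ = n₁ + 1 := ⟨n₀ - 1, by omega⟩
  set D := derivedSeries ↥Γ n₁ with hD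
  have hDne : D ≠ ⊥ := Nat.find_min hex (by omega : n₁ < n₀)
  have hDcomm : ⁅D, D⁆ = ⊥ := by
    rw [hD, ← derivedSeries_succ, ← hn₁]; exact hn₀spec
  haveI hDn : D.Normal := derivedSeries_normal ↥Γ n₁
  haveI hDtr : IsPretransitive ↥D (ZMod p) := Cfsg.Agent.S1013.trans_of_normal hprime D hDne
  have hdvdD : p ∣ Nat.card ↥D := by
    have := Cfsg.Agent.S1013.card_dvd_of_trans (Γ := ↥D) (α := ZMod p)
    rwa [hcardα] at this
  have hdvdΓ : p ∣ Nat.card ↥Γ := by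
    have := Cfsg.Agent.S1013.card_dvd_of_trans (Γ := ↥Γ) (α := ZMod p)
    rwa [hcardα] at this
  have hsq : ¬ p ^ 2 ∣ Nat.card ↥Γ := Cfsg.Agent.S1013.not_sq_dvd (Γ := ↥Γ) (α := ZMod p) hp.out hcardα
  -- `τ` has order `p`
  have hτpow : ∀ (n : ℕ) (x : ZMod p), (t₁ ^ n) x = x + n := by
    intro n
    induction n with
    | zero => intro x; simp
    | succ n ih =>
      intro x
      rw [pow_succ, Equiv.Perm.mul_apply, ht₁, ih]; push_cast; ring
  have hτp : τ ^ p = 1 := by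
    apply Subtype.ext
    rw [Subgroup.coe_pow, Subgroup.coe_one]
    ext x
    rw [hτpow, Equiv.Perm.one_apply, ZMod.natCast_self, add_zero]
  have hpg : IsPGroup p ↥(Subgroup.zpowers τ) := by
    rintro ⟨g, hg⟩
    refine ⟨1, ?_⟩
    obtain ⟨i, rfl⟩ := Subgroup.mem_zpowers_iff.mp hg
    apply Subtype.ext
    rw [pow_one, Subgroup.coe_pow, Subgroup.coe_one, ← zpow_natCast, ← zpow_mul, mul_comm, zpow_mul,
      zpow_natCast, hτp, one_zpow]
  obtain ⟨P, hP⟩ := hpg.exists_le_sylow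
  have hPcard : Nat.card ↥(P : Subgroup ↥Γ) = p := Cfsg.Agent.S1013.sylow_card hdvdΓ hsq P
  have hPD : (P : Subgroup ↥Γ) ≤ D := Cfsg.Agent.S1013.le_normal_of_dvd P hPcard D hdvdD
  have hτD : τ ∈ D := hPD (hP (Subgroup.mem_zpowers τ))
  -- every element is affine
  intro γ hγ
  set γ' : ↥Γ := ⟨γ, hγ⟩ with hγ'
  have heD : γ' * τ * γ'⁻¹ ∈ D := hDn.conj_mem τ hτD γ'
  have hcomm : (γ' * τ * γ'⁻¹) * τ = τ * (γ' * τ * γ'⁻¹) := by
    have h1 : ⁅γ' * τ * γ'⁻¹, τ⁆ ∈ ⁅D, D⁆ := Subgroup.commutator_mem_commutator heD hτD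
    rw [hDcomm, Subgroup.mem_bot, commutatorElement_eq_one_iff_mul_comm] at h1
    exact h1
  set E : Equiv.Perm (ZMod p) := γ * t₁ * γ⁻¹ with hE
  have hEcomm : E * t₁ = t₁ * E := congrArg Subtype.val hcomm
  have hE1 : ∀ x, E (x + 1) = E x + 1 := by
    intro x
    have := congrArg (fun f : Equiv.Perm (ZMod p) => f x) hEcomm
    simp only [Equiv.Perm.mul_apply] at this
    rw [ht₁, ht₁] at this
    exact this
  have hEform := shift_formula E 1 hE1
  apply affine_of_shift γ (E 0)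
  intro y
  have h1 : E (γ y) = γ (y + 1) := by
    rw [hE, Equiv.Perm.mul_apply, Equiv.Perm.mul_apply, Equiv.Perm.inv_def, Equiv.symm_apply_apply, ht₁]
  rw [← h1, hEform, one_mul]


/-- the 2-closure of a permutation group -/
def twoClosure {α : Type*} (G : Subgroup (Equiv.Perm α)) : Subgroup (Equiv.Perm α) where
  carrier := {τ | ∀ t : Fin 2 → α, ∃ g ∈ G, ∀ i, τ (t i) = g (t i)}
  one_mem' := fun t => ⟨1, G.one_mem, fun i => rfl⟩
  mul_mem' := by
    intro τ₁ τ₂ h₁ h₂ t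
    obtain ⟨g₂, hg₂, h2⟩ := h₂ t
    obtain ⟨g₁, hg₁, h1⟩ := h₁ (fun i => g₂ (t i))
    refine ⟨g₁ * g₂, G.mul_mem hg₁ hg₂, fun i => ?_⟩
    rw [Equiv.Perm.mul_apply, Equiv.Perm.mul_apply, h2 i]
    exact h1 i
  inv_mem' := by
    intro τ h t
    obtain ⟨g, hg, h1⟩ := h (fun i => τ⁻¹ (t i))
    refine ⟨g⁻¹, G.inv_mem hg, fun i => ?_⟩
    have h2 : τ (τ⁻¹ (t i)) = g (τ⁻¹ (t i)) := h1 i
    have h3 : τ (τ⁻¹ (t i)) = t i := by simp
    rw [h3] at h2
    apply g.injective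
    rw [← h2]; simp

theorem mem_twoClosure {α : Type*} (G : Subgroup (Equiv.Perm α)) (τ : Equiv.Perm α) :
    τ ∈ twoClosure G ↔ ∀ t : Fin 2 → α, ∃ g ∈ G, ∀ i, τ (t i) = g (t i) := Iff.rfl

theorem le_twoClosure {α : Type*} (G : Subgroup (Equiv.Perm α)) : G ≤ twoClosure G :=
  fun g hg _ => ⟨g, hg, fun _ => rfl⟩

/-- proper subgroups of `AGL₁(p)` containing the translations are 2-closed -/
theorem twoClosed_of_ne (G : Subgroup (Equiv.Perm (ZMod p))) (hG : G ≤ Cfsg.affineGroup (ZMod p))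
    (htrans : ∀ b : ZMod p, ∃ g ∈ G, ∀ x, g x = x + b) (hne : G ≠ Cfsg.affineGroup (ZMod p))
    (σ : Equiv.Perm (ZMod p)) (hσ : ∀ t : Fin 2 → ZMod p, ∃ g ∈ G, ∀ i, σ (t i) = g (t i)) :
    σ ∈ G := by
  have hp1 : Fact (1 < p) := ⟨hp.out.one_lt⟩
  have hne0 : NeZero p := ⟨hp.out.ne_zero⟩
  set Γ := twoClosure G with hΓ
  have hσΓ : σ ∈ Γ := hσ
  have htΓ : ∀ b : ZMod p, ∃ g ∈ Γ, ∀ x, g x = x + b := by
    intro b
    obtain ⟨g, hg, h⟩ := htrans b
    exact ⟨g, le_twoClosure G hg, h⟩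
  haveI htr : IsPretransitive ↥Γ (ZMod p) := by
    refine ⟨fun x y => ?_⟩
    obtain ⟨g, hg, hgx⟩ := htΓ (y - x)
    refine ⟨⟨g, hg⟩, ?_⟩
    show g x = y
    rw [hgx]; ring
  have hprime : (Fintype.card (ZMod p)).Prime := by rw [ZMod.card]; exact hp.out
  -- an element of the 2-closure agreeing with an affine map at 0 and 1
  have hkey : ∀ τ ∈ Γ, τ ∈ Cfsg.affineGroup (ZMod p) → τ ∈ G := by
    intro τ hτ haff
    obtain ⟨g, hg, h⟩ := hτ ![0, 1]
    have h0 : τ 0 = g 0 := h 0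
    have h1 : τ 1 = g 1 := h 1
    rw [affine_ext haff (hG hg) h0 h1]
    exact hg
  rcases Cfsg.Agent.S0675.result hprime Γ with hsolv | h2t
  · exact hkey σ hσΓ (le_affine_of_solvable Γ hsolv htΓ hσΓ)
  · exfalso
    apply hne
    apply le_antisymm hG
    intro h hh
    have h01 : h 0 ≠ h 1 := fun e => zero_ne_one (h.injective e)
    let e₀ : Fin 2 ↪ ZMod p := ⟨![0, 1], by
      intro i j hij
      fin_cases i <;> fin_cases j <;> simp_all⟩
    let e₁ : Fin 2 ↪ ZMod p := ⟨![h 0, h 1], by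
      intro i j hij
      fin_cases i <;> fin_cases j <;> simp_all⟩
    obtain ⟨τ, hτ⟩ := MulAction.exists_smul_eq ↥Γ e₀ e₁
    have hτ0 : (τ : Equiv.Perm (ZMod p)) 0 = h 0 := by
      have := DFunLike.congr_fun hτ 0
      exact this
    have hτ1 : (τ : Equiv.Perm (ZMod p)) 1 = h 1 := by
      have := DFunLike.congr_fun hτ 1
      exact this
    obtain ⟨g, hg, hgt⟩ := τ.2 ![0, 1]
    have h0 : (τ : Equiv.Perm (ZMod p)) 0 = g 0 := hgt 0
    have h1 : (τ : Equiv.Perm (ZMod p)) 1 = g 1 := hgt 1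
    rw [affine_ext hh (hG hg) (by rw [← hτ0, h0]) (by rw [← hτ1, h1])]
    exact hg

end Cfsg.Agent.Lib.Helper20
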