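import Mathlib
import Cfsg.Agent.Lib.Lead.BCG.Defs
import Cfsg.Agent.Lib.helper15.S5972OS2CTX
import Cfsg.Agent.Lib.Helper24.S5972TRANSPORT
import Cfsg.Agent.Lib.Helper25.S5972TRANSPORTD
import Cfsg.Agent.Lib.helper15.S5972STDCTX
import Cfsg.Agent.Lib.Helper18.OmegaOdd
import Cfsg.Agent.Lib.helper15.BCGTRANSFER
import Cfsg.Agent.Lib.Helper24.S5972SPLIT
import Cfsg.Agent.Lib.Helper25.S5972OMEGAODD
import Cfsg.Agent.Lib.Helper20.BCGA17
import Cfsg.Agent.Lib.Helper11.BCGX3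
import Cfsg.Agent.Lib.helper15.BCGX1h15

set_option autoImplicit false

/-!
# Project BCG, row S4 (`sq_neg_build`), by the os2 route of the skeleton.

`t, y ∈ Sp_{2n}(q)` commuting, `t * t = -1`, `y` of order `s` with `c(s) = 2n`: on `OS2 F n 1` with the symmetric form
`altB stdB y' s ⟂ dot`, `T = t' ⊕ 1` is an isometry of order `4` commuting with `y' ⊕ 1`; transported to the standard
`(2n+1)`-space, `Z = M₂ * M₂` (`M₂` realising `T`) is an involution of `Ω` whose `(-1)`-eigenspace is `cycS s Y`.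
-/

namespace Cfsg.Agent.Lib.Lead.BCG

open Polynomial Module Matrix Cfsg.Agent.Lib.Helper13.S5955 Cfsg.Agent.Lib.helper15.S5972
  Cfsg.Agent.Lib.Helper18.ONE Cfsg.Agent.Lib.Lead.BCS


/-- intertwining maps intertwine polynomials -/
theorem bcgs4_intertwine {F : Type*} [Field F] {W V : Type*} [AddCommGroup W] [Module F W]
    [AddCommGroup V] [Module F V]
    (φ : W →ₗ[F] V) (S : Module.End F W) (T : Module.End F V) (h : ∀ w, φ (S w) = T (φ w))
    (P : F[X]) : ∀ w, φ (aeval S P w) = aeval T P (φ w) := by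
  induction P using Polynomial.induction_on with
  | C a => intro w; simp [Algebra.algebraMap_eq_smul_one]
  | add p q hp hq => intro w; simp [hp w, hq w]
  | monomial n a ih =>
    intro w
    have e1 : (C a * X ^ (n + 1) : F[X]) = (C a * X ^ n) * X := by rw [pow_succ, mul_assoc]
    have hS : aeval S (C a * X ^ (n + 1)) = aeval S (C a * X ^ n) * S := by
      rw [e1, map_mul, aeval_X]
    have hT : aeval T (C a * X ^ (n + 1)) = aeval T (C a * X ^ n) * T := by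
      rw [e1, map_mul, aeval_X]
    rw [hS, hT, Module.End.mul_apply, Module.End.mul_apply, ih, h]

/-- polynomials in a block-diagonal map -/
theorem bcgs4_aeval_prodMap {F : Type*} [Field F] {M M₂ : Type*} [AddCommGroup M] [Module F M]
    [AddCommGroup M₂] [Module F M₂] (a : Module.End F M) (b : Module.End F M₂) (P : F[X])
    (w : M × M₂) :
    aeval (LinearMap.prodMap a b : Module.End F (M × M₂)) P w = (aeval a P w.1, aeval b P w.2) := by
  have h1 : (LinearMap.prodMap a b : Module.End F (M × M₂)) =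
      LinearMap.prodMapAlgHom F M M₂ (a, b) := rfl
  rw [h1, aeval_algHom_apply, aeval_prod_apply]
  rfl

/-- powers through an intertwiner -/
theorem bcgs4_intertwine_pow {F : Type*} [Field F] {W V : Type*} [AddCommGroup W] [Module F W]
    [AddCommGroup V] [Module F V]
    (φ : W →ₗ[F] V) (S : Module.End F W) (T : Module.End F V) (h : ∀ w, φ (S w) = T (φ w))
    (k : ℕ) : ∀ w, φ ((S ^ k) w) = (T ^ k) (φ w) := by
  induction k with
  | zero => intro w; simp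
  | succ k ih =>
    intro w
    rw [pow_succ, pow_succ, Module.End.mul_apply, Module.End.mul_apply, ih, h]



/-- the abstract part: on `OS2 F n 1`, from a symplectic pair `t', y'` -/
theorem bcgs4_abs {F : Type*} [Field F] [Fintype F] {p : ℕ} [Fact p.Prime] [CharP F p]
    (h2 : (2 : F) ≠ 0) (n : ℕ) (s : ℕ) [Fact s.Prime] (hsp : s ≠ p) (hs2 : s ≠ 2)
    (t' y' : Module.End F (Fin n ⊕ Fin n → F)) (hy' : SCtx s (stdB n F) y')
    (htpres : ∀ u v, stdB n F (t' u) (t' v) = stdB n F u v) (htt : t' * t' = -1)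
    (hc : Commute t' y') (hfix : fixS y' = ⊥) (hcyc : cycS s y' = ⊤) :
    ∃ Z Y : GL (Unit ⊕ (Fin n ⊕ Fin n)) F, Z ∈ Cfsg.Geo.omegaGL (Cfsg.quadFormOdd n F) ∧
      Z ^ 2 = 1 ∧ Y ∈ Cfsg.isometryGroup F (Cfsg.quadFormOdd n F) ∧ Y ^ s = 1 ∧
      cycS 2 (Matrix.toLin'
        (Z : Matrix (Unit ⊕ (Fin n ⊕ Fin n)) (Unit ⊕ (Fin n ⊕ Fin n)) F)) =
      cycS s (Matrix.toLin'
        (Y : Matrix (Unit ⊕ (Fin n ⊕ Fin n)) (Unit ⊕ (Fin n ⊕ Fin n)) F)) ∧
      finrank F (cycS s (Matrix.toLin'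
        (Y : Matrix (Unit ⊕ (Fin n ⊕ Fin n)) (Unit ⊕ (Fin n ⊕ Fin n)) F))) = 2 * n := by
  have hsodd : Odd s := (Fact.out : s.Prime).odd_of_ne_two hs2
  have hs1 : 1 < s := (Fact.out : s.Prime).one_lt
  have hsF : (s : F) ≠ 0 := Cfsg.Agent.Lib.Helper24.el_cast_ne_zero (F := F) (p := p) s hsp
  obtain ⟨hO, hfin, hfixX, -⟩ := os2_ctx (F := F) s 1 hsodd hs1 y' hy' hfix
  obtain ⟨y₀, ψ, c, hc0, hO₀, hB, hx⟩ :=
    o_transport h2 (os2B y' s 1) (os2X y' 1) hO n hfin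
  -- the transported `T`
  let T : Module.End F (OS2 F n 1) := LinearMap.prodMap t' LinearMap.id
  let T₁ : Module.End F (Unit ⊕ (Fin n ⊕ Fin n) → F) :=
    (ψ.symm : OS2 F n 1 →ₗ[F] (Unit ⊕ (Fin n ⊕ Fin n) → F)) ∘ₗ T ∘ₗ
      (ψ : (Unit ⊕ (Fin n ⊕ Fin n) → F) →ₗ[F] OS2 F n 1)
  have hT₁ : ∀ u, ψ (T₁ u) = T (ψ u) := by
    intro u
    show ψ (ψ.symm (T (ψ u))) = T (ψ u)
    rw [LinearEquiv.apply_symm_apply]
  have hTapp : ∀ w : OS2 F n 1, T w = (t' w.1, w.2) := fun w => rfl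
  have hTpres : ∀ a b : OS2 F n 1, os2B y' s 1 (T a) (T b) = os2B y' s 1 a b := by
    intro a b
    rw [os2B_apply, os2B_apply, hTapp, hTapp]
    show altB (stdB n F) y' s (t' a.1) (t' b.1) + a.2 ⬝ᵥ b.2 = _
    rw [bcgtr_pres (stdB n F) t' y' hc s htpres]
  have hTT : ∀ w : OS2 F n 1, T (T w) = (-w.1, w.2) := by
    intro w
    rw [hTapp, hTapp]
    show (t' (t' w.1), w.2) = _
    have : t' (t' w.1) = (t' * t') w.1 := rfl
    rw [this, htt]
    rfl
  have hT4 : ∀ w : OS2 F n 1, T (T (T (T w))) = w := by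
    intro w
    rw [hTT, hTT]
    simp
  have hOT : OCtx 4 (stdO n F) T₁ := by
    refine ⟨hO₀.symm, hO₀.nd, ?_, ?_⟩
    · intro u v
      have h1 := hB (T₁ u) (T₁ v)
      rw [hT₁, hT₁, hTpres, hB] at h1
      exact (mul_left_cancel₀ hc0 h1).symm
    · apply LinearMap.ext
      intro u
      apply ψ.injective
      have h4 : (T₁ ^ 4) u = T₁ (T₁ (T₁ (T₁ u))) := rfl
      rw [h4, hT₁, hT₁, hT₁, hT₁, hT4]
      rfl
  obtain ⟨M₂, hM₂, hM₂lin, hM₂4⟩ := o_realize h2 n 4 T₁ hOT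
  obtain ⟨Y, hY, hYlin, hYs⟩ := o_realize h2 n s y₀ hO₀
  refine ⟨M₂ * M₂, Y, ?_, ?_, hY, hYs, ?_, ?_⟩
  · have h := Cfsg.Agent.Lib.Helper18.OmegaOdd.omegaodd_sq_mem h2 (Cfsg.Agent.Lib.Helper16.qfOdd n F)
      (Cfsg.Agent.Lib.Helper16.OA.qfOdd_nondeg n h2) M₂
      (by rw [Cfsg.Agent.Lib.Helper16.qfOdd_coe]; exact hM₂)
    rw [Cfsg.Agent.Lib.Helper16.qfOdd_coe] at h
    exact h
  · rw [← pow_two, ← pow_mul]
    exact hM₂4
  · have hZlin : Matrix.toLin' ((M₂ * M₂ : GL (Unit ⊕ (Fin n ⊕ Fin n)) F) :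
        Matrix (Unit ⊕ (Fin n ⊕ Fin n)) (Unit ⊕ (Fin n ⊕ Fin n)) F) = T₁ * T₁ := by
      rw [Units.val_mul, Matrix.toLin'_mul, hM₂lin]
      rfl
    rw [hZlin, hYlin]
    ext v
    rw [bcs_mem_cyc_two]
    have hkey1 : ψ ((T₁ * T₁) v) = (-(ψ v).1, (ψ v).2) := by
      rw [Module.End.mul_apply, hT₁, hT₁, hTT]
    have hkey2 : ψ (aeval y₀ (cyclotomic s F) v) = (0, (s : F) • (ψ v).2) := by
      refine (bcgs4_intertwine (ψ : (Unit ⊕ (Fin n ⊕ Fin n) → F) →ₗ[F] OS2 F n 1) y₀ (os2X y' 1) hx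
        (cyclotomic s F) v).trans ?_
      show aeval (LinearMap.prodMap y' LinearMap.id : Module.End F (OS2 F n 1)) (cyclotomic s F) (ψ v) = _
      rw [bcgs4_aeval_prodMap]
      congr 1
      · have : (ψ v).1 ∈ cycS s y' := by rw [hcyc]; exact Submodule.mem_top
        exact this
      · have : (LinearMap.id : Module.End F (Fin 1 → F)) = algebraMap F _ 1 := by
          rw [map_one]; rfl
        rw [this, aeval_algebraMap_apply, coe_aeval_eq_eval, eval_one_cyclotomic_prime,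
          Module.algebraMap_end_apply]
    have hmem : v ∈ cycS s y₀ ↔ aeval y₀ (cyclotomic s F) v = 0 := by
      unfold cycS
      exact LinearMap.mem_ker
    rw [hmem]
    constructor
    · intro h
      have h1 : (ψ v).2 = 0 := by
        have h3 := hkey1
        rw [h, map_neg] at h3
        have h4 := congrArg Prod.snd h3
        simp only [Prod.snd_neg] at h4
        have h5 : (2 : F) • (ψ v).2 = 0 := by
          rw [two_smul]
          nth_rewrite 1 [← h4]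
          simp
        exact (smul_eq_zero.mp h5).resolve_left h2
      apply ψ.injective
      rw [hkey2, h1, smul_zero, map_zero]
      rfl
    · intro h
      have h1 : (ψ v).2 = 0 := by
        have h3 := hkey2
        rw [h, map_zero] at h3
        have h4 := congrArg Prod.snd h3
        simp only [Prod.snd_zero] at h4
        exact (smul_eq_zero.mp h4.symm).resolve_left hsF
      apply ψ.injective
      rw [hkey1, map_neg, h1]
      ext <;> simp [h1]
  · rw [hYlin]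
    obtain ⟨-, hcompl, -, -⟩ := o_split (p := p) hsp hO₀
    have hsum := Submodule.finrank_add_eq_of_isCompl hcompl
    have hd := (o_transport_dims (stdO n F) y₀ (os2B y' s 1) (os2X y' 1) ψ c hc0 hB hx).2.1
    rw [hd, hfixX] at hsum
    have hV : finrank F (Unit ⊕ (Fin n ⊕ Fin n) → F) = 2 * n + 1 := by
      rw [Module.finrank_fintype_fun_eq_card]
      simp
      ring
    omega



theorem sq_neg_build {F : Type*} [Field F] [Fintype F] {p : ℕ} [Fact p.Prime] [CharP F p]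
    (hodd : Odd (Fintype.card F)) (n : ℕ) (hn : 1 ≤ n) (s : ℕ) [Fact s.Prime] (hsp : s ≠ p)
    (hs2 : s ≠ 2) (hc : cOf (Fintype.card F) s = 2 * n)
    (t y : Matrix.symplecticGroup (Fin n) F) (hty : Commute t y) (hy : orderOf y = s)
    (ht : t * t = Cfsg.Agent.S0246.negOne F n) :
    ∃ Z Y : GL (Unit ⊕ (Fin n ⊕ Fin n)) F, Z ∈ Cfsg.Geo.omegaGL (Cfsg.quadFormOdd n F) ∧
      Z ^ 2 = 1 ∧ Y ∈ Cfsg.isometryGroup F (Cfsg.quadFormOdd n F) ∧ Y ^ s = 1 ∧
      cycS 2 (Matrix.toLin'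
        (Z : Matrix (Unit ⊕ (Fin n ⊕ Fin n)) (Unit ⊕ (Fin n ⊕ Fin n)) F)) =
      cycS s (Matrix.toLin'
        (Y : Matrix (Unit ⊕ (Fin n ⊕ Fin n)) (Unit ⊕ (Fin n ⊕ Fin n)) F)) ∧
      finrank F (cycS s (Matrix.toLin'
        (Y : Matrix (Unit ⊕ (Fin n ⊕ Fin n)) (Unit ⊕ (Fin n ⊕ Fin n)) F))) = 2 * n := by
  have h2 : (2 : F) ≠ 0 := s5972omegaodd_two_ne hodd
  have hs1 : 1 < s := (Fact.out : s.Prime).one_lt
  have hys : y ^ s = 1 := by rw [← hy]; exact pow_orderOf_eq_one y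
  have hy' := bcgx1_h15 n y s hys
  have ht4 : t ^ 4 = 1 := by
    have h4 : t ^ 4 = (t * t) * (t * t) := by
      rw [show (4 : ℕ) = 2 + 2 from rfl, pow_add, pow_two]
    rw [h4, ht]
    apply Subtype.ext
    rw [Submonoid.coe_mul, Cfsg.Agent.S0246.negOne_coe, neg_mul_neg, one_mul]
    rfl
  have ht' := bcgx1_h15 n t 4 ht4
  have htt : Matrix.toLin' (t : Matrix (Fin n ⊕ Fin n) (Fin n ⊕ Fin n) F) *
      Matrix.toLin' (t : Matrix (Fin n ⊕ Fin n) (Fin n ⊕ Fin n) F) = -1 := by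
    have h1 : (t : Matrix (Fin n ⊕ Fin n) (Fin n ⊕ Fin n) F) *
        (t : Matrix (Fin n ⊕ Fin n) (Fin n ⊕ Fin n) F) = -1 := by
      rw [← Submonoid.coe_mul, ht, Cfsg.Agent.S0246.negOne_coe]
    have h3 := congrArg Matrix.toLin' h1
    rw [Matrix.toLin'_mul, map_neg, Matrix.toLin'_one] at h3
    exact h3
  have hcomm : Commute (Matrix.toLin' (t : Matrix (Fin n ⊕ Fin n) (Fin n ⊕ Fin n) F))
      (Matrix.toLin' (y : Matrix (Fin n ⊕ Fin n) (Fin n ⊕ Fin n) F)) := by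
    have h1 : (t : Matrix (Fin n ⊕ Fin n) (Fin n ⊕ Fin n) F) *
        (y : Matrix (Fin n ⊕ Fin n) (Fin n ⊕ Fin n) F) =
        (y : Matrix (Fin n ⊕ Fin n) (Fin n ⊕ Fin n) F) *
        (t : Matrix (Fin n ⊕ Fin n) (Fin n ⊕ Fin n) F) := by
      rw [← Submonoid.coe_mul, ← Submonoid.coe_mul, hty.eq]
    have h3 := congrArg Matrix.toLin' h1
    rw [Matrix.toLin'_mul, Matrix.toLin'_mul] at h3
    exact h3
  have hy1 : Matrix.toLin' (y : Matrix (Fin n ⊕ Fin n) (Fin n ⊕ Fin n) F) ≠ 1 := by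
    intro h1
    have h3 : y ^ 1 = 1 := (sp_same n y 1).mpr (by rw [pow_one]; exact h1)
    rw [pow_one] at h3
    rw [h3, orderOf_one] at hy
    omega
  obtain ⟨hpos, hdvd, hsum⟩ := s_cyc_dim (p := p) hsp hy' hy1
  have hV : finrank F (Fin n ⊕ Fin n → F) = 2 * n := by
    rw [Module.finrank_fintype_fun_eq_card]
    simp
    ring
  rw [hc] at hdvd
  rw [hV] at hsum
  obtain ⟨k, hk⟩ := hdvd
  have hk1 : k = 1 := by
    have hkpos : 0 < k := by
      rcases Nat.eq_zero_or_pos k with h0 | h0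
      · rw [h0, mul_zero] at hk; omega
      · exact h0
    by_contra hne1
    have h2k : 2 ≤ k := by omega
    have : 2 * n * 2 ≤ 2 * n * k := Nat.mul_le_mul_left _ h2k
    omega
  rw [hk1, mul_one] at hk
  have hfix : fixS (Matrix.toLin' (y : Matrix (Fin n ⊕ Fin n) (Fin n ⊕ Fin n) F)) = ⊥ := by
    apply Submodule.finrank_eq_zero.mp
    omega
  have hcyc : cycS s (Matrix.toLin' (y : Matrix (Fin n ⊕ Fin n) (Fin n ⊕ Fin n) F)) = ⊤ := by
    apply Submodule.eq_top_of_finrank_eq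
    rw [hk, hV]
  exact bcgs4_abs (p := p) h2 n s hsp hs2 _ _ hy' ht'.pres htt hcomm hfix hcyc

end Cfsg.Agent.Lib.Lead.BCG
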