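import Mathlib
import Cfsg.Agent.Lib.Lead.BCS.Defs
import Cfsg.Agent.Lib.helper3.PrimPartMain
import Cfsg.Agent.Lib.Helper25.Zsig2
import Cfsg.Agent.Lib.Helper24.ElH

set_option autoImplicit false

/-!
# BCS rows Z1 (`bcs_ppd`) and Z2 (`bcs_ppd_facts`): the prime `ℓ`.
-/

namespace Cfsg.Agent.Lib.Lead.BCS

open Polynomial Module Matrix Cfsg.Agent.Lib.Helper13.S5955 Cfsg.Agent.Lib.helper15.S5972
  Cfsg.Agent.Lib.Helper18.ONE

/-- a prime dividing `q^n - 1` and no `q^i - 1`, `1 ≤ i < n`, has `ord_r q = n` -/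
theorem bcsz1_ord (q n r : ℕ) (hq : 1 ≤ q) (hn : 1 ≤ n) (h1 : r ∣ q ^ n - 1)
    (h2 : ∀ i : ℕ, 1 ≤ i → i < n → ¬ r ∣ q ^ i - 1) : orderOf ((q : ℕ) : ZMod r) = n := by
  have hd : orderOf ((q : ℕ) : ZMod r) ∣ n := (Cfsg.Agent.Lib.Helper24.el_ord_dvd_iff q r n hq).mp h1
  have hle : orderOf ((q : ℕ) : ZMod r) ≤ n := Nat.le_of_dvd (by omega) hd
  have hpos : 1 ≤ orderOf ((q : ℕ) : ZMod r) := by
    rcases Nat.eq_zero_or_pos (orderOf ((q : ℕ) : ZMod r)) with h0 | h0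
    · rw [h0, zero_dvd_iff] at hd
      omega
    · exact h0
  by_contra hne
  have hlt : orderOf ((q : ℕ) : ZMod r) < n := lt_of_le_of_ne hle hne
  exact h2 _ hpos hlt ((Cfsg.Agent.Lib.Helper24.el_ord_dvd_iff q r _ hq).mpr dvd_rfl)

/-- a primitive prime divisor outside the exceptions -/
theorem bcsz1_prim (q n : ℕ) (hq : 2 ≤ q) (hn : 3 ≤ n)
    (hne : (q, n) ∉ Cfsg.Agent.Lib.helper3.zsExc) :
    ∃ ℓ : ℕ, ℓ.Prime ∧ orderOf ((q : ℕ) : ZMod ℓ) = n := by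
  rcases Cfsg.Agent.Lib.helper3.exists_prim_ge' q n hq hn with ⟨M, hM, hcop, hge⟩ | h
  · obtain ⟨r, hr, hr1, hr2⟩ :=
      Cfsg.Agent.Lib.Helper25.Zsig2.zsig_prime_of_dvd q n M hM hcop (by omega)
    exact ⟨r, hr, bcsz1_ord q n r (by omega) (by omega) hr1 hr2⟩
  · exact absurd h hne

/-- an odd number has square `≡ 1 (mod 4)` -/
theorem bcsz1_sq (x : ℕ) (hx : Odd x) : x * x % 4 = 1 := by
  obtain ⟨k, rfl⟩ := hx
  have h : (2 * k + 1) % 4 = 1 ∨ (2 * k + 1) % 4 = 3 := by omega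
  rw [Nat.mul_mod]
  rcases h with h | h <;> rw [h]

/-- Z1 [M]: existence of `ℓ`. -/
theorem bcs_ppd (q m : ℕ) (hq : Odd q) (hq3 : 3 ≤ q) (hm : 2 ≤ m) :
    ∃ ℓ : ℕ, ℓ.Prime ∧ PPD q m ℓ := by
  have hodd : Odd (q ^ m) := hq.pow
  have h13 : q ^ m % 4 = 1 ∨ q ^ m % 4 = 3 := by
    obtain ⟨k, hk⟩ := hodd
    omega
  rcases h13 with h1 | h3
  · -- `ord = 2m`
    by_cases hexc : (q, 2 * m) ∈ Cfsg.Agent.Lib.helper3.zsExc
    · simp only [Cfsg.Agent.Lib.helper3.zsExc, List.mem_cons, Prod.mk.injEq, List.mem_nil_iff,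
        or_false] at hexc
      have hcases : (q = 3 ∧ m = 2) ∨ (q = 3 ∧ m = 3) ∨ (q = 5 ∧ m = 3) := by
        obtain ⟨k, hk⟩ := hq
        omega
      rcases hcases with ⟨rfl, rfl⟩ | ⟨rfl, rfl⟩ | ⟨rfl, rfl⟩
      · refine ⟨5, by norm_num, Or.inl ⟨h1, ?_⟩⟩
        apply bcsz1_ord 3 (2 * 2) 5 (by norm_num) (by norm_num) (by norm_num)
        intro i hi1 hi2
        interval_cases i <;> norm_num
      · exfalso
        norm_num at h1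
      · refine ⟨7, by norm_num, Or.inl ⟨h1, ?_⟩⟩
        apply bcsz1_ord 5 (2 * 3) 7 (by norm_num) (by norm_num) (by norm_num)
        intro i hi1 hi2
        interval_cases i <;> norm_num
    · obtain ⟨ℓ, hℓ, hord⟩ := bcsz1_prim q (2 * m) (by omega) (by omega) hexc
      exact ⟨ℓ, hℓ, Or.inl ⟨h1, hord⟩⟩
  · -- `m` is odd, `ord = m`
    have hmodd : Odd m := by
      rcases Nat.even_or_odd m with he | ho
      · exfalso
        obtain ⟨k, rfl⟩ := he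
        have := bcsz1_sq (q ^ k) hq.pow
        rw [← pow_add] at this
        omega
      · exact ho
    have hm3 : 3 ≤ m := by
      obtain ⟨k, hk⟩ := hmodd
      omega
    have hexc : (q, m) ∉ Cfsg.Agent.Lib.helper3.zsExc := by
      intro hexc
      simp only [Cfsg.Agent.Lib.helper3.zsExc, List.mem_cons, Prod.mk.injEq, List.mem_nil_iff,
        or_false] at hexc
      obtain ⟨k, hk⟩ := hq
      obtain ⟨j, hj⟩ := hmodd
      omega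
    obtain ⟨ℓ, hℓ, hord⟩ := bcsz1_prim q m (by omega) hm3 hexc
    exact ⟨ℓ, hℓ, Or.inr ⟨h3, hord, hmodd⟩⟩

theorem bcsz2_zmod2 : ∀ x : ZMod 2, x = 0 ∨ x = 1 := by decide

/-- Z2 [S-M] -/
theorem bcs_ppd_facts (q m ℓ : ℕ) (hℓ : ℓ.Prime) (hm : 2 ≤ m) (h : OrdC q m ℓ) :
    ℓ ≠ 2 ∧ ¬ ℓ ∣ q ∧ ℓ ∣ q ^ (2 * m) - 1 := by
  have : Fact ℓ.Prime := ⟨hℓ⟩
  have ho2 : 2 ≤ orderOf ((q : ℕ) : ZMod ℓ) := by
    rcases h with h | ⟨h, _⟩ <;> omega
  have hod : orderOf ((q : ℕ) : ZMod ℓ) ∣ 2 * m := by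
    rcases h with h | ⟨h, _⟩
    · rw [h]
    · rw [h]; exact Dvd.intro_left 2 rfl
  have hpow : ((q : ℕ) : ZMod ℓ) ^ orderOf ((q : ℕ) : ZMod ℓ) = 1 := pow_orderOf_eq_one _
  obtain ⟨o, ho⟩ : ∃ o, o = orderOf ((q : ℕ) : ZMod ℓ) := ⟨_, rfl⟩
  rw [← ho] at ho2 hod hpow
  have hndvd : ¬ ℓ ∣ q := by
    intro hd
    have h0 : ((q : ℕ) : ZMod ℓ) = 0 := (ZMod.natCast_eq_zero_iff q ℓ).mpr hd
    rw [h0, zero_pow (by omega)] at hpow
    exact zero_ne_one hpow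
  have hq1 : 1 ≤ q := by
    rcases Nat.eq_zero_or_pos q with h0 | h0
    · exfalso
      apply hndvd
      rw [h0]
      exact dvd_zero _
    · exact h0
  refine ⟨?_, hndvd, ?_⟩
  · intro h2
    subst h2
    rcases bcsz2_zmod2 ((q : ℕ) : ZMod 2) with h0 | h1
    · rw [h0, zero_pow (by omega)] at hpow
      exact zero_ne_one hpow
    · rw [h1, orderOf_one] at ho
      omega
  · rw [ho] at hod
    exact (Cfsg.Agent.Lib.Helper24.el_ord_dvd_iff q ℓ (2 * m) hq1).mpr hod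

end Cfsg.Agent.Lib.Lead.BCS
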