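import Mathlib
import Cfsg.Agent.Lib.Helper28.BP2.Defs
import Cfsg.Agent.Lib.helper15.SL2Conj

/-!
# Project BP2 (S5736, designer helper28), row D4 (`prod_conj_char2`), verbatim vs `Helper28/BP2/Skel.lean.txt`.
-/

set_option autoImplicit false

namespace Cfsg.Agent.Lib.Helper28.BP2

open Cfsg.Agent.Lib.helper14

universe u v w

section StepD

variable {F : Type u} [Field F] [Fintype F]

/-- in characteristic 2 an element of `SL₂(F)` that is scalar or of trace zero squares to one -/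
theorem bp2d4_sq_eq_one [CharP F 2] (A : SL2 F)
    (h : (∃ c : F, (A : Matrix (Fin 2) (Fin 2) F) = c • (1 : Matrix (Fin 2) (Fin 2) F)) ∨
      (A : Matrix (Fin 2) (Fin 2) F).trace = 0) : A * A = 1 := by
  have h2 : (2 : F) = 0 := CharTwo.two_eq_zero
  have hdet : (A : Matrix (Fin 2) (Fin 2) F).det = 1 := A.2
  rw [Matrix.det_fin_two] at hdet
  apply Subtype.ext
  rw [Matrix.SpecialLinearGroup.coe_mul, Matrix.SpecialLinearGroup.coe_one]
  rcases h with ⟨c, hc⟩ | htr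
  · have h00 : (A : Matrix (Fin 2) (Fin 2) F) 0 0 = c := by rw [hc]; simp
    have h01 : (A : Matrix (Fin 2) (Fin 2) F) 0 1 = 0 := by rw [hc]; simp
    have h10 : (A : Matrix (Fin 2) (Fin 2) F) 1 0 = 0 := by rw [hc]; simp
    have h11 : (A : Matrix (Fin 2) (Fin 2) F) 1 1 = c := by rw [hc]; simp
    rw [h00, h01, h10, h11] at hdet
    rw [hc]
    ext i j
    fin_cases i <;> fin_cases j <;> simp [Matrix.mul_apply, Fin.sum_univ_two] <;>
      linear_combination hdet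
  · rw [Matrix.trace_fin_two] at htr
    ext i j
    fin_cases i <;> fin_cases j <;> simp [Matrix.mul_apply, Fin.sum_univ_two]
    · linear_combination ((A : Matrix (Fin 2) (Fin 2) F) 0 0) * htr - hdet - h2
    · linear_combination ((A : Matrix (Fin 2) (Fin 2) F) 0 1) * htr
    · linear_combination ((A : Matrix (Fin 2) (Fin 2) F) 1 0) * htr
    · linear_combination ((A : Matrix (Fin 2) (Fin 2) F) 1 1) * htr - hdet - h2

/-- the `SL₂` form of D4: a non-scalar element of nonzero trace is a product of two of its conjugates -/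
theorem bp2d4_sl [CharP F 2] (A : SL2 F)
    (hA : ∀ c : F, (A : Matrix (Fin 2) (Fin 2) F) ≠ c • (1 : Matrix (Fin 2) (Fin 2) F))
    (hτ : (A : Matrix (Fin 2) (Fin 2) F).trace ≠ 0) :
    ∃ U V : SL2 F, A = (U * A * U⁻¹) * (V * A * V⁻¹) := by
  have h2 : (2 : F) = 0 := CharTwo.two_eq_zero
  obtain ⟨s, hs⟩ := Cfsg.Agent.Lib.helper15.exists_sqrt_char2 ((A : Matrix (Fin 2) (Fin 2) F).trace)⁻¹
  set τ : F := (A : Matrix (Fin 2) (Fin 2) F).trace with hτdef
  have hsτ : τ * s ^ 2 = 1 := by rw [hs]; exact mul_inv_cancel₀ hτ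
  have hs0 : s ≠ 0 := by
    intro h0
    rw [h0] at hsτ
    simp at hsτ
  have huniv : ∀ n : F, n ≠ 0 → ∃ x : F × F, Cfsg.Agent.Lib.helper15.nrm τ x = n :=
    fun n _ => Cfsg.Agent.Lib.helper15.nrm_universal_char2 τ n
  -- the matrix `B`
  have hdB : (!![s, s; s + τ * s + τ, τ + s] : Matrix (Fin 2) (Fin 2) F).det = 1 := by
    rw [Matrix.det_fin_two_of]
    linear_combination (-1 : F) * hsτ - h2
  set B : SL2 F := Cfsg.Agent.Lib.helper15.mkSL _ hdB with hB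
  have hBc : (B : Matrix (Fin 2) (Fin 2) F) = !![s, s; s + τ * s + τ, τ + s] := rfl
  set C : SL2 F := Cfsg.Agent.Lib.helper15.compSL τ with hC
  have hCc : (C : Matrix (Fin 2) (Fin 2) F) = !![0, -1; 1, τ] := rfl
  have hBns : ∀ c : F, (B : Matrix (Fin 2) (Fin 2) F) ≠ c • (1 : Matrix (Fin 2) (Fin 2) F) := by
    intro c hc
    have := congrFun (congrFun hc 0) 1
    rw [hBc] at this
    simp at this
    exact hs0 this
  have hBtr : (B : Matrix (Fin 2) (Fin 2) F).trace = τ := by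
    rw [hBc, Matrix.trace_fin_two_of]
    linear_combination s * h2
  -- the matrix `B⁻¹ * C`
  have hDc : ((B⁻¹ * C : SL2 F) : Matrix (Fin 2) (Fin 2) F) =
      !![-s, -τ - s - s * τ; s, s + τ * s + τ + s * τ] := by
    rw [Matrix.SpecialLinearGroup.coe_mul, Matrix.SpecialLinearGroup.coe_inv, hBc, hCc,
      Matrix.adjugate_fin_two_of]
    ext i j
    fin_cases i <;> fin_cases j <;> simp [Matrix.mul_apply, Fin.sum_univ_two] <;> ring
  have hDns : ∀ c : F, ((B⁻¹ * C : SL2 F) : Matrix (Fin 2) (Fin 2) F) ≠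
      c • (1 : Matrix (Fin 2) (Fin 2) F) := by
    intro c hc
    have := congrFun (congrFun hc 1) 0
    rw [hDc] at this
    simp at this
    exact hs0 this
  have hDtr : ((B⁻¹ * C : SL2 F) : Matrix (Fin 2) (Fin 2) F).trace = τ := by
    rw [hDc, Matrix.trace_fin_two_of]
    linear_combination (τ * s) * h2
  have hCtr : (C : Matrix (Fin 2) (Fin 2) F).trace = τ := Cfsg.Agent.Lib.helper15.compSL_trace τ
  have hCns := Cfsg.Agent.Lib.helper15.compSL_nonscalar τ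
  obtain ⟨P, hP⟩ := Cfsg.Agent.Lib.helper15.conj_of_trace_eq A C hA hCns hCtr.symm huniv
  obtain ⟨Q₁, hQ₁⟩ := Cfsg.Agent.Lib.helper15.conj_of_trace_eq A B hA hBns hBtr.symm huniv
  obtain ⟨Q₂, hQ₂⟩ := Cfsg.Agent.Lib.helper15.conj_of_trace_eq A (B⁻¹ * C) hA hDns hDtr.symm huniv
  refine ⟨P⁻¹ * Q₁, P⁻¹ * Q₂, ?_⟩
  have h1 : (P⁻¹ * Q₁) * A * (P⁻¹ * Q₁)⁻¹ * ((P⁻¹ * Q₂) * A * (P⁻¹ * Q₂)⁻¹) =
      P⁻¹ * ((Q₁ * A * Q₁⁻¹) * (Q₂ * A * Q₂⁻¹)) * P := by group
  rw [h1, hQ₁, hQ₂, mul_inv_cancel_left, ← hP]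
  group

/-- **D4**.  char 2, lift `a'` of trace `τ ≠ 0`, WLOG the companion matrix `!![0,1;1,τ]`
(`Cfsg.Agent.Lib.helper15.conj_of_trace_eq`, `nrm_universal_char2`); with `s² = τ⁻¹`,
`b' := !![s, s; s + τ s + τ, τ + s]` has `det = 1`, `tr b' = τ`, `tr (b'⁻¹ a') = τ`. -/
theorem prod_conj_char2 [CharP F 2] (a : PSL2 F) (ha : a ^ 2 ≠ 1) :
    ∃ u v : PSL2 F, a = (u * a * u⁻¹) * (v * a * v⁻¹) := by
  obtain ⟨A, rfl⟩ := QuotientGroup.mk'_surjective (Subgroup.center (SL2 F)) a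
  have hsq : A * A ≠ 1 := by
    intro h
    apply ha
    rw [pow_two, ← map_mul, h, map_one]
  have hA : ∀ c : F, (A : Matrix (Fin 2) (Fin 2) F) ≠ c • (1 : Matrix (Fin 2) (Fin 2) F) :=
    fun c hc => hsq (bp2d4_sq_eq_one A (Or.inl ⟨c, hc⟩))
  have hτ : (A : Matrix (Fin 2) (Fin 2) F).trace ≠ 0 :=
    fun h => hsq (bp2d4_sq_eq_one A (Or.inr h))
  obtain ⟨U, V, hUV⟩ := bp2d4_sl A hA hτ
  refine ⟨QuotientGroup.mk' _ U, QuotientGroup.mk' _ V, ?_⟩
  rw [← map_inv, ← map_inv, ← map_mul, ← map_mul, ← map_mul, ← map_mul, ← map_mul, ← hUV]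

end StepD

end Cfsg.Agent.Lib.Helper28.BP2
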