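import Mathlib
import Cfsg.Agent.Lib.Helper28.BP2.Defs
import Cfsg.Agent.Lib.helper15.SL2Conj
import Cfsg.Agent.Lib.Helper26.BP2T3
import Cfsg.Agent.Lib.helper15.BP2T7
import Cfsg.Agent.Lib.helper4.BP2U2

/-!
# Project BP2 (S5736, designer helper28), row D7 (`not_binS_three_split`), verbatim vs `Helper28/BP2/Skel.lean.txt`.
-/

set_option autoImplicit false

namespace Cfsg.Agent.Lib.Helper28.BP2

open Cfsg.Agent.Lib.helper14

universe u v w

section StepD

variable {F : Type u} [Field F] [Fintype F]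

/-- the subgroup of diagonal matrices of `SL₂(F)` -/
def bp2d7_Dg (F : Type u) [Field F] : Subgroup (SL2 F) where
  carrier := {M | (M : Matrix (Fin 2) (Fin 2) F) 0 1 = 0 ∧ (M : Matrix (Fin 2) (Fin 2) F) 1 0 = 0}
  one_mem' := by simp
  mul_mem' := by
    rintro a b ⟨ha1, ha2⟩ ⟨hb1, hb2⟩
    simp only [Set.mem_ofPred_eq, Matrix.SpecialLinearGroup.coe_mul, Matrix.mul_apply,
      Fin.sum_univ_two]
    rw [ha1, ha2, hb1, hb2]
    simp
  inv_mem' := by
    rintro a ⟨ha1, ha2⟩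
    simp only [Set.mem_ofPred_eq, Matrix.SpecialLinearGroup.coe_inv, Matrix.adjugate_fin_two]
    simp [ha1, ha2]

theorem bp2d7_mem_Dg (M : SL2 F) : M ∈ bp2d7_Dg F ↔
    (M : Matrix (Fin 2) (Fin 2) F) 0 1 = 0 ∧ (M : Matrix (Fin 2) (Fin 2) F) 1 0 = 0 := Iff.rfl

/-- a diagonal matrix of determinant one whose diagonal entries agree is `1` in characteristic 2 -/
theorem bp2d7_diag_eq_one [CharP F 2] (M : SL2 F) (hM : M ∈ bp2d7_Dg F)
    (h : (M : Matrix (Fin 2) (Fin 2) F) 0 0 = (M : Matrix (Fin 2) (Fin 2) F) 1 1) : M = 1 := by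
  obtain ⟨h1, h2⟩ := hM
  have hdet : (M : Matrix (Fin 2) (Fin 2) F).det = 1 := M.2
  rw [Matrix.det_fin_two, h1, h2, ← h] at hdet
  have h00 : (M : Matrix (Fin 2) (Fin 2) F) 0 0 = 1 := by
    apply Cfsg.Agent.Lib.helper15.sq_eq_one_char2
    linear_combination hdet
  apply Subtype.ext
  rw [Matrix.SpecialLinearGroup.coe_one]
  ext i j
  fin_cases i <;> fin_cases j
  · simpa using h00
  · simpa using h1
  · simpa using h2
  · simpa using h ▸ h00

/-- the standard case: `H = ⟨diag(w, w + 1)⟩` with `w² + w + 1 = 0` in characteristic 2 -/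
theorem bp2d7_std [CharP F 2] (w : F) (hw : w ^ 2 + w + 1 = 0) (A₀ : SL2 F)
    (hA₀ : (A₀ : Matrix (Fin 2) (Fin 2) F) = !![w, 0; 0, w + 1]) :
    ¬ BinS (Subgroup.zpowers (pr F A₀)) := by
  have h2 : (2 : F) = 0 := CharTwo.two_eq_zero
  have hinj : Function.Injective (pr F) := pr_injective_char2
  have hw0 : w ≠ 0 := by
    intro h0
    rw [h0] at hw
    simp at hw
  -- the matrices
  have hdB : (!![w + 1, 1; 0, w] : Matrix (Fin 2) (Fin 2) F).det = 1 := by
    rw [Matrix.det_fin_two_of]; linear_combination hw - h2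
  have hdC : (!![w + 1, w + 1; 0, w] : Matrix (Fin 2) (Fin 2) F).det = 1 := by
    rw [Matrix.det_fin_two_of]; linear_combination hw - h2
  have hdX : (!![1, 1; 1, 0] : Matrix (Fin 2) (Fin 2) F).det = 1 := by
    rw [Matrix.det_fin_two_of]; linear_combination (-1 : F) * h2
  have hdY : (!![1, w + 1; w, 0] : Matrix (Fin 2) (Fin 2) F).det = 1 := by
    rw [Matrix.det_fin_two_of]; linear_combination (-1 : F) * hw
  set B : SL2 F := ⟨_, hdB⟩ with hB
  set C : SL2 F := ⟨_, hdC⟩ with hC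
  set X : SL2 F := ⟨_, hdX⟩ with hX
  set Y : SL2 F := ⟨_, hdY⟩ with hY
  have hBc : (B : Matrix (Fin 2) (Fin 2) F) = !![w + 1, 1; 0, w] := rfl
  have hCc : (C : Matrix (Fin 2) (Fin 2) F) = !![w + 1, w + 1; 0, w] := rfl
  have hXc : (X : Matrix (Fin 2) (Fin 2) F) = !![1, 1; 1, 0] := rfl
  have hYc : (Y : Matrix (Fin 2) (Fin 2) F) = !![1, w + 1; w, 0] := rfl
  -- relations
  have hBC : A₀ = B * C := by
    apply Subtype.ext
    rw [Matrix.SpecialLinearGroup.coe_mul, hA₀, hBc, hCc]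
    ext i j
    fin_cases i <;> fin_cases j <;> simp [Matrix.mul_apply, Fin.sum_univ_two]
    · linear_combination (-1 : F) * hw
    · linear_combination (-1 : F) * hw - w * h2
    · linear_combination hw - w ^ 2 * h2
  have hBX : B * X = X * A₀ := by
    apply Subtype.ext
    rw [Matrix.SpecialLinearGroup.coe_mul, Matrix.SpecialLinearGroup.coe_mul, hA₀, hBc, hXc]
    ext i j
    fin_cases i <;> fin_cases j <;> simp [Matrix.mul_apply, Fin.sum_univ_two]
    linear_combination h2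
  have hCY : C * Y = Y * A₀ := by
    apply Subtype.ext
    rw [Matrix.SpecialLinearGroup.coe_mul, Matrix.SpecialLinearGroup.coe_mul, hA₀, hCc, hYc]
    ext i j
    fin_cases i <;> fin_cases j <;> simp [Matrix.mul_apply, Fin.sum_univ_two]
    linear_combination hw
  -- elements of the cyclic group are images of diagonal matrices
  have hA₀D : A₀ ∈ bp2d7_Dg F := by
    rw [bp2d7_mem_Dg, hA₀]; simp
  have hle : Subgroup.zpowers (pr F A₀) ≤ (bp2d7_Dg F).map (pr F) := by
    rw [Subgroup.zpowers_le]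
    exact Subgroup.mem_map_of_mem _ hA₀D
  -- a diagonal `M` with `Z⁻¹ M Z` diagonal is `1`, for `Z = X, Y`
  have keyX : ∀ h₁ : PSL2 F, h₁ ∈ Subgroup.zpowers (pr F A₀) →
      (pr F X)⁻¹ * h₁ * pr F X ∈ Subgroup.zpowers (pr F A₀) → h₁ = 1 := by
    intro h₁ hh₁ hh₁'
    obtain ⟨M, hM, rfl⟩ := hle hh₁
    obtain ⟨M', hM', hMM'⟩ := hle hh₁'
    rw [← map_inv, ← map_mul, ← map_mul] at hMM'
    have hMM := hinj hMM'
    have hXM : X * M' = M * X := by rw [hMM]; group
    have hmat := congrArg (fun Z : SL2 F => (Z : Matrix (Fin 2) (Fin 2) F)) hXM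
    simp only [Matrix.SpecialLinearGroup.coe_mul, hXc] at hmat
    have e00 := congrFun (congrFun hmat 0) 0
    have e10 := congrFun (congrFun hmat 1) 0
    simp [Matrix.mul_apply, Fin.sum_univ_two, hM.1, hM.2, hM'.2] at e00 e10
    rw [bp2d7_diag_eq_one M hM (by rw [← e00, e10]), map_one]
  have keyY : ∀ h₁ : PSL2 F, h₁ ∈ Subgroup.zpowers (pr F A₀) →
      (pr F Y)⁻¹ * h₁ * pr F Y ∈ Subgroup.zpowers (pr F A₀) → h₁ = 1 := by
    intro h₁ hh₁ hh₁'
    obtain ⟨M, hM, rfl⟩ := hle hh₁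
    obtain ⟨M', hM', hMM'⟩ := hle hh₁'
    rw [← map_inv, ← map_mul, ← map_mul] at hMM'
    have hMM := hinj hMM'
    have hYM : Y * M' = M * Y := by rw [hMM]; group
    have hmat := congrArg (fun Z : SL2 F => (Z : Matrix (Fin 2) (Fin 2) F)) hYM
    simp only [Matrix.SpecialLinearGroup.coe_mul, hYc] at hmat
    have e00 := congrFun (congrFun hmat 0) 0
    have e10 := congrFun (congrFun hmat 1) 0
    simp [Matrix.mul_apply, Fin.sum_univ_two, hM.1, hM.2, hM'.2] at e00 e10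
    have e10' : (M' : Matrix (Fin 2) (Fin 2) F) 0 0 = (M : Matrix (Fin 2) (Fin 2) F) 1 1 :=
      mul_left_cancel₀ hw0 (by linear_combination e10)
    rw [bp2d7_diag_eq_one M hM (by rw [← e00, e10']), map_one]
  -- `A₀ ≠ 1`
  have hA₀1 : pr F A₀ ≠ 1 := by
    intro h
    rw [← map_one (pr F)] at h
    have h1 := hinj h
    have h00 := congrFun (congrFun (congrArg
      (fun Z : SL2 F => (Z : Matrix (Fin 2) (Fin 2) F)) h1) 0) 0
    simp only [hA₀, Matrix.SpecialLinearGroup.coe_one] at h00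
    simp at h00
    rw [h00] at hw
    apply one_ne_zero (α := F)
    linear_combination hw - h2
  refine not_binS_of_triple _ (pr F A₀) (pr F B) (pr F C) (pr F X) (pr F Y)
    (Subgroup.mem_zpowers _) ?_ ?_ ?_ ?_
  · have : (pr F X)⁻¹ * pr F B * pr F X = pr F A₀ := by
      rw [← map_inv, ← map_mul, ← map_mul, mul_assoc, hBX, inv_mul_cancel_left]
    rw [this]; exact Subgroup.mem_zpowers _
  · have : (pr F Y)⁻¹ * pr F C * pr F Y = pr F A₀ := by
      rw [← map_inv, ← map_mul, ← map_mul, mul_assoc, hCY, inv_mul_cancel_left]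
    rw [this]; exact Subgroup.mem_zpowers _
  · rw [hBC, map_mul]
  · intro h₁ h₂ hh₁ hh₁' hh₂ hh₂' heq
    rw [keyX h₁ hh₁ hh₁', keyY h₂ hh₂ hh₂', mul_one] at heq
    exact hA₀1 heq

/-- an element `A ≠ 1` of `SL₂(F)` with `A³ = 1` has trace `-1` -/
theorem bp2d7_trace (A : SL2 F) (h3 : A * A * A = 1) (h1 : A ≠ 1) :
    (A : Matrix (Fin 2) (Fin 2) F).trace + 1 = 0 := by
  have hdet : (A : Matrix (Fin 2) (Fin 2) F).det = 1 := A.2
  rw [Matrix.det_fin_two] at hdet
  have hAA : A * A = A⁻¹ := eq_inv_of_mul_eq_one_left h3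
  have hmat := congrArg (fun Z : SL2 F => (Z : Matrix (Fin 2) (Fin 2) F)) hAA
  simp only [Matrix.SpecialLinearGroup.coe_mul, Matrix.SpecialLinearGroup.coe_inv,
    Matrix.adjugate_fin_two] at hmat
  have E00 := congrFun (congrFun hmat 0) 0
  have E01 := congrFun (congrFun hmat 0) 1
  have E10 := congrFun (congrFun hmat 1) 0
  have E11 := congrFun (congrFun hmat 1) 1
  simp [Matrix.mul_apply, Fin.sum_univ_two] at E00 E01 E10 E11
  rw [Matrix.trace_fin_two]
  by_contra hτ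
  have e01 : (A : Matrix (Fin 2) (Fin 2) F) 0 1 *
      ((A : Matrix (Fin 2) (Fin 2) F) 0 0 + (A : Matrix (Fin 2) (Fin 2) F) 1 1 + 1) = 0 := by
    linear_combination E01
  have e10 : (A : Matrix (Fin 2) (Fin 2) F) 1 0 *
      ((A : Matrix (Fin 2) (Fin 2) F) 0 0 + (A : Matrix (Fin 2) (Fin 2) F) 1 1 + 1) = 0 := by
    linear_combination E10
  have e00 : ((A : Matrix (Fin 2) (Fin 2) F) 0 0 - 1) *
      ((A : Matrix (Fin 2) (Fin 2) F) 0 0 + (A : Matrix (Fin 2) (Fin 2) F) 1 1 + 1) = 0 := by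
    linear_combination E00 + hdet
  have e11 : ((A : Matrix (Fin 2) (Fin 2) F) 1 1 - 1) *
      ((A : Matrix (Fin 2) (Fin 2) F) 0 0 + (A : Matrix (Fin 2) (Fin 2) F) 1 1 + 1) = 0 := by
    linear_combination E11 + hdet
  have f01 := (mul_eq_zero.1 e01).resolve_right hτ
  have f10 := (mul_eq_zero.1 e10).resolve_right hτ
  have f00 := sub_eq_zero.1 ((mul_eq_zero.1 e00).resolve_right hτ)
  have f11 := sub_eq_zero.1 ((mul_eq_zero.1 e11).resolve_right hτ)
  apply h1
  apply Subtype.ext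
  rw [Matrix.SpecialLinearGroup.coe_one]
  ext i j
  fin_cases i <;> fin_cases j
  · simpa using f00
  · simpa using f01
  · simpa using f10
  · simpa using f11

/-- **D7**.  char 2 with `ω² + ω + 1 = 0` in `F`: WLOG `H = ⟨pr (dg ω)⟩`; `b' = !![ω⁻¹,1;0,ω]`,
`c' = b'⁻¹ * dg ω = !![ω⁻¹, ω⁻¹; 0, ω]`; T7. -/
theorem not_binS_three_split [CharP F 2] (h3 : 3 ∣ Fintype.card F - 1) (H : Subgroup (PSL2 F))
    (hH : Nat.card H = 3) : ¬ BinS H := by
  classical
  have h2 : (2 : F) = 0 := CharTwo.two_eq_zero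
  have hinj : Function.Injective (pr F) := pr_injective_char2
  -- a primitive cube root of unity
  obtain ⟨w, hw⟩ : ∃ w : F, w ^ 2 + w + 1 = 0 := by
    haveI : Fact (Nat.Prime 3) := ⟨by norm_num⟩
    have hc : 3 ∣ Fintype.card Fˣ := by rw [Fintype.card_units]; exact h3
    obtain ⟨ω, hω⟩ := exists_prime_orderOf_dvd_card 3 hc
    refine ⟨(ω : F), ?_⟩
    have h1 : ω ^ 3 = 1 := by rw [← hω]; exact pow_orderOf_eq_one ω
    have h1' : (ω : F) ^ 3 = 1 := by rw [← Units.val_pow_eq_pow_val, h1, Units.val_one]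
    have hne : (ω : F) - 1 ≠ 0 := by
      intro h0
      have : ω = 1 := Units.ext (by rw [Units.val_one]; exact sub_eq_zero.1 h0)
      rw [this, orderOf_one] at hω
      norm_num at hω
    have : ((ω : F) - 1) * ((ω : F) ^ 2 + (ω : F) + 1) = 0 := by linear_combination h1'
    exact (mul_eq_zero.1 this).resolve_left hne
  have hdA : (!![w, 0; 0, w + 1] : Matrix (Fin 2) (Fin 2) F).det = 1 := by
    rw [Matrix.det_fin_two_of]; linear_combination hw - h2
  set A₀ : SL2 F := ⟨_, hdA⟩ with hA₀def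
  have hA₀ : (A₀ : Matrix (Fin 2) (Fin 2) F) = !![w, 0; 0, w + 1] := rfl
  have hstd := bp2d7_std w hw A₀ hA₀
  -- a generator of `H`
  have hfin : Finite H := Nat.finite_of_card_ne_zero (by rw [hH]; norm_num)
  have hne : H ≠ ⊥ := by
    intro h
    rw [h, Subgroup.card_bot] at hH
    norm_num at hH
  obtain ⟨⟨h, hhH⟩, hh1'⟩ := Subgroup.ne_bot_iff_exists_ne_one.1 hne
  have hh1 : h ≠ 1 := fun e => hh1' (Subtype.ext e)
  have hord : orderOf h = 3 := by
    have hd : orderOf h ∣ 3 := by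
      have := orderOf_dvd_natCard (⟨h, hhH⟩ : H)
      rw [hH, Subgroup.orderOf_mk] at this
      exact this
    rcases (Nat.dvd_prime (by norm_num : Nat.Prime 3)).1 hd with h1 | h3
    · exact absurd (orderOf_eq_one_iff.1 h1) hh1
    · exact h3
  have hHz : Subgroup.zpowers h = H := by
    apply Subgroup.eq_of_le_of_card_ge (Subgroup.zpowers_le.2 hhH)
    rw [Nat.card_zpowers, hord, hH]
  obtain ⟨A, hA⟩ := QuotientGroup.mk'_surjective (Subgroup.center (SL2 F)) h
  have hA' : pr F A = h := hA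
  have hA3 : A * A * A = 1 := by
    apply hinj
    have : h ^ 3 = 1 := by rw [← hord]; exact pow_orderOf_eq_one h
    rw [map_mul, map_mul, map_one, hA', ← this, pow_succ, pow_two]
  have hA1 : A ≠ 1 := by
    intro e
    rw [e, map_one] at hA'
    exact hh1 hA'.symm
  have hτ := bp2d7_trace A hA3 hA1
  have hAns : ∀ c : F, (A : Matrix (Fin 2) (Fin 2) F) ≠ c • (1 : Matrix (Fin 2) (Fin 2) F) := by
    intro c hc
    apply hA1
    apply bp2d7_diag_eq_one A
    · rw [bp2d7_mem_Dg, hc]; simp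
    · rw [hc]; simp
  have hA₀ns : ∀ c : F, (A₀ : Matrix (Fin 2) (Fin 2) F) ≠ c • (1 : Matrix (Fin 2) (Fin 2) F) := by
    intro c hc
    have e00 := congrFun (congrFun hc 0) 0
    have e11 := congrFun (congrFun hc 1) 1
    rw [hA₀] at e00 e11
    simp at e00 e11
    apply one_ne_zero (α := F)
    linear_combination e11 - e00
  have htr : (A : Matrix (Fin 2) (Fin 2) F).trace = (A₀ : Matrix (Fin 2) (Fin 2) F).trace := by
    rw [hA₀, Matrix.trace_fin_two_of]
    linear_combination hτ - (w + 1) * h2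
  have huniv : ∀ n : F, n ≠ 0 → ∃ x : F × F,
      Cfsg.Agent.Lib.helper15.nrm (A : Matrix (Fin 2) (Fin 2) F).trace x = n :=
    fun n _ => Cfsg.Agent.Lib.helper15.nrm_universal_char2 _ n
  obtain ⟨P, hP⟩ := Cfsg.Agent.Lib.helper15.conj_of_trace_eq A A₀ hAns hA₀ns htr huniv
  intro hB
  apply hstd
  have hB' := (binS_conj H (pr F P)).2 hB
  have hmap : H.map (MulAut.conj (pr F P)).toMonoidHom = Subgroup.zpowers (pr F A₀) := by
    rw [← hHz, MonoidHom.map_zpowers]
    congr 1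
    show pr F P * h * (pr F P)⁻¹ = pr F A₀
    rw [← hA', ← map_inv, ← map_mul, ← map_mul, hP]
  rw [hmap] at hB'
  exact hB'

end StepD

end Cfsg.Agent.Lib.Helper28.BP2
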