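import Mathlib
import Cfsg.Agent.Lib.Helper28.BP2.Defs
import Cfsg.Agent.Lib.Helper11.BP2T1
import Cfsg.Agent.Lib.Helper16.BP2T8
import Cfsg.Agent.Lib.Helper20.BP2T9core

/-!
# Project BP2 (S5736, designer helper28), row T9 (`binS_mem_of_conj`), verbatim vs `Helper28/BP2/Skel.lean.txt`.
-/

set_option autoImplicit false

namespace Cfsg.Agent.Lib.Helper28.BP2

open Cfsg.Agent.Lib.helper14

universe u v w

section Toolbox

variable {G : Type u} [Group G]

/-- **T9**.  T8 on `G ⧸ H` at the base point. -/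
theorem binS_mem_of_conj [Finite G] (H : Subgroup G) (hB : BinS H) (p : ℕ) [Fact p.Prime]
    (g h : G) (hgH : g ∈ H) (hc : Commute g h) (hg : orderOf g = p)
    (hmax : ∀ f : G, orderOf f = p → fx H f ≤ fx H g) (hh : IsConj h g)
    (hk : IsConj (g * h⁻¹) g) : h ∈ H :=
  bp2t9_core H hB p g h hgH hc hg hmax hh hk (bin_iff_binS H).2
    (fun hB' hmax' hh' hk' => fix_eq_of_bin hB' p g h hc hg hmax' hh' hk')

end Toolbox

end Cfsg.Agent.Lib.Helper28.BP2
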