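import Mathlib
import Cfsg.Agent.Lib.Helper21.BSQ.Defs

/-!
# Project BSQ, row A1 (helper20): B* transfers along a `MulEquiv`.
-/

set_option autoImplicit false

namespace Cfsg.Agent.Lib.Helper21.BSQ

universe u

variable {G : Type u} [Group G]

theorem bsqa1_comm_map {G' : Type u} [Group G'] (f : G' ≃* G) (A : Subgroup G')
    (hA : IsMulCommutative ↥A) : IsMulCommutative ↥(A.map f.toMonoidHom) := by
  refine ⟨⟨?_⟩⟩
  rintro ⟨x, hx⟩ ⟨y, hy⟩
  obtain ⟨a, ha, rfl⟩ := hx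
  obtain ⟨b, hb, rfl⟩ := hy
  apply Subtype.ext
  show f.toMonoidHom a * f.toMonoidHom b = f.toMonoidHom b * f.toMonoidHom a
  have h := hA.is_comm.comm (⟨a, ha⟩ : ↥A) ⟨b, hb⟩
  have h' : a * b = b * a := congrArg Subtype.val h
  rw [← map_mul, ← map_mul, h']

theorem bsqa1_card_map {G' : Type u} [Group G'] (f : G' ≃* G) (A : Subgroup G') :
    Nat.card ↥(A.map f.toMonoidHom) = Nat.card ↥A :=
  (Nat.card_congr (A.equivMapOfInjective f.toMonoidHom f.injective).toEquiv).symm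

/-- A1 [S]. -/
theorem isBStar_of_mulEquiv {G' : Type u} [Group G'] (e : G ≃* G') (h : IsBStar G) : IsBStar G' := by
  intro A B hA hB hcard
  have hA' := bsqa1_comm_map e.symm A hA
  have hB' := bsqa1_comm_map e.symm B hB
  have hc : Nat.card ↥(A.map e.symm.toMonoidHom) = Nat.card ↥(B.map e.symm.toMonoidHom) := by
    rw [bsqa1_card_map, bsqa1_card_map, hcard]
  obtain ⟨g, hg⟩ := h _ _ hA' hB' hc
  refine ⟨e g, ?_⟩
  ext y
  constructor
  · intro hy
    have h1 : e.symm y ∈ B.map e.symm.toMonoidHom := ⟨y, hy, rfl⟩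
    rw [hg] at h1
    obtain ⟨x, ⟨a, ha, rfl⟩, hx⟩ := h1
    refine ⟨a, ha, ?_⟩
    have h2 : e (g * e.symm a * g⁻¹) = y := by
      have : (MulAut.conj g).toMonoidHom (e.symm.toMonoidHom a) = g * e.symm a * g⁻¹ := rfl
      rw [this] at hx
      rw [hx, MulEquiv.apply_symm_apply]
    show e g * a * (e g)⁻¹ = y
    rw [← h2, map_mul, map_mul, map_inv, MulEquiv.apply_symm_apply]
  · rintro ⟨a, ha, rfl⟩
    have h1 : g * e.symm a * g⁻¹ ∈ B.map e.symm.toMonoidHom := by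
      rw [hg]
      exact ⟨e.symm a, ⟨a, ha, rfl⟩, rfl⟩
    obtain ⟨b, hb, hb'⟩ := h1
    have h2 : b = e (g * e.symm a * g⁻¹) := by
      have : e.symm.toMonoidHom b = e.symm b := rfl
      rw [this] at hb'
      rw [← hb', MulEquiv.apply_symm_apply]
    show e g * a * (e g)⁻¹ ∈ B
    have h3 : e g * a * (e g)⁻¹ = b := by
      rw [h2, map_mul, map_mul, map_inv, MulEquiv.apply_symm_apply]
    rw [h3]
    exact hb

end Cfsg.Agent.Lib.Helper21.BSQ
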