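import Mathlib
import Cfsg.Agent.Lib.Helper21.BSQ.Defs

/-!
# Project BSQ, row A2 (helper20): conjugacy of the preimages descends to the quotient.
-/

set_option autoImplicit false

namespace Cfsg.Agent.Lib.Helper21.BSQ

universe u

variable {G : Type u} [Group G]

/-- A2 [S]. -/
theorem descent (N : Subgroup G) [N.Normal] (A' B' : Subgroup (G ⧸ N)) (g : G)
    (h : B'.comap (QuotientGroup.mk' N) =
      (A'.comap (QuotientGroup.mk' N)).map (MulAut.conj g).toMonoidHom) :
    B' = A'.map (MulAut.conj (QuotientGroup.mk' N g)).toMonoidHom := by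
  ext y
  obtain ⟨x, rfl⟩ := QuotientGroup.mk'_surjective N y
  constructor
  · intro hy
    have h1 : x ∈ B'.comap (QuotientGroup.mk' N) := hy
    rw [h] at h1
    obtain ⟨a, ha, rfl⟩ := h1
    refine ⟨QuotientGroup.mk' N a, ha, ?_⟩
    show QuotientGroup.mk' N g * QuotientGroup.mk' N a * (QuotientGroup.mk' N g)⁻¹ =
      QuotientGroup.mk' N (g * a * g⁻¹)
    rw [map_mul, map_mul, map_inv]
  · rintro ⟨a', ha', hy⟩
    obtain ⟨a, rfl⟩ := QuotientGroup.mk'_surjective N a'
    have h1 : g * a * g⁻¹ ∈ B'.comap (QuotientGroup.mk' N) := by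
      rw [h]
      exact ⟨a, ha', rfl⟩
    have h2 : QuotientGroup.mk' N (g * a * g⁻¹) ∈ B' := h1
    have h3 : QuotientGroup.mk' N (g * a * g⁻¹) = QuotientGroup.mk' N x := by
      rw [← hy]
      show _ = QuotientGroup.mk' N g * QuotientGroup.mk' N a * (QuotientGroup.mk' N g)⁻¹
      rw [map_mul, map_mul, map_inv]
    rw [← h3]
    exact h2

end Cfsg.Agent.Lib.Helper21.BSQ
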