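import Mathlib
import Cfsg.Agent.Lib.helper3.BSZ.Defs

set_option autoImplicit false

/-!
# Project BSZ, row C05: `f20_triangle` (a group identity in `F₂₀ = C₅ : C₄`).
-/

namespace Cfsg.Agent.Lib.helper3.BSZ

open Cfsg Cfsg.Agent.Lib.helper3

/-- C05 [S-M] group identity: `f * y = y^2 * f`, `(f*f) * y = y⁻¹ * (f*f)` (since `(f*f) * y * (f*f)⁻¹ = y^4 = y⁻¹`); then `f * y * f * y⁻¹ * y⁻¹ * f * f * y = y^2 * (f*f) * y⁻¹ * y⁻¹ * (f*f) * y = y^4 * (f*f)*(f*f) * y = y^5 = 1`. -/
theorem f20_triangle {G : Type*} [Group G] {f y : G} (hy : y ^ 5 = 1) (hf : (f * f) * (f * f) = 1)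
    (h : f * y * f⁻¹ = y ^ 2) : f * (y * f * y⁻¹) * (y⁻¹ * (f * f) * y) = 1 := by
  have hy' : y * y * y * y * y = 1 := by
    rw [← hy]
    simp only [pow_succ, pow_zero, one_mul]
  have h' : f * y * f⁻¹ = y * y := by rw [h, pow_two]
  have h1 : f * y = y * y * f := by
    calc f * y = (f * y * f⁻¹) * f := by group
      _ = y * y * f := by rw [h']
  have h2 : f * f * y = y * y * y * y * (f * f) := by
    calc f * f * y = f * (f * y) := by group
      _ = f * (y * y * f) := by rw [h1]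
      _ = (f * y) * y * f := by group
      _ = (y * y * f) * y * f := by rw [h1]
      _ = y * y * (f * y) * f := by group
      _ = y * y * (y * y * f) * f := by rw [h1]
      _ = y * y * y * y * (f * f) := by group
  have h3 : f * f * y⁻¹ = y * (f * f) := by
    calc f * f * y⁻¹ = (y * y * y * y * y) * (f * f) * y⁻¹ := by rw [hy', one_mul]
      _ = y * (y * y * y * y * (f * f)) * y⁻¹ := by group
      _ = y * (f * f * y) * y⁻¹ := by rw [h2]
      _ = y * (f * f) := by group
  calc f * (y * f * y⁻¹) * (y⁻¹ * (f * f) * y)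
      = (f * y) * f * y⁻¹ * y⁻¹ * (f * f) * y := by group
    _ = (y * y * f) * f * y⁻¹ * y⁻¹ * (f * f) * y := by rw [h1]
    _ = y * y * (f * f * y⁻¹) * y⁻¹ * (f * f) * y := by group
    _ = y * y * (y * (f * f)) * y⁻¹ * (f * f) * y := by rw [h3]
    _ = y * y * y * (f * f * y⁻¹) * (f * f) * y := by group
    _ = y * y * y * (y * (f * f)) * (f * f) * y := by rw [h3]
    _ = y * y * y * y * ((f * f) * (f * f)) * y := by group
    _ = y * y * y * y * 1 * y := by rw [hf]
    _ = y * y * y * y * y := by group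
    _ = 1 := hy'

end Cfsg.Agent.Lib.helper3.BSZ
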