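import Mathlib

set_option autoImplicit false

namespace Cfsg.Agent.Lib.Helper20

open scoped commutatorElement

section class2

variable {H : Type*} [Group H]

theorem c2_comm {z : H} (hz : z ∈ Subgroup.center H) (w : H) : z * w = w * z :=
  ((Subgroup.mem_center_iff.mp hz) w).symm

theorem c2_mul_left (hc : ∀ x y : H, ⁅x, y⁆ ∈ Subgroup.center H) (x y z : H) :
    ⁅x * y, z⁆ = ⁅x, z⁆ * ⁅y, z⁆ := by
  have h1 : ⁅x * y, z⁆ = x * ⁅y, z⁆ * x⁻¹ * ⁅x, z⁆ := by
    simp only [commutatorElement_def]; group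
  rw [h1, ← c2_comm (hc y z) x, mul_inv_cancel_right]
  exact c2_comm (hc y z) _

theorem c2_mul_right (hc : ∀ x y : H, ⁅x, y⁆ ∈ Subgroup.center H) (x y z : H) :
    ⁅x, y * z⁆ = ⁅x, y⁆ * ⁅x, z⁆ := by
  rw [← commutatorElement_inv (y * z) x, c2_mul_left hc, mul_inv_rev, commutatorElement_inv,
    commutatorElement_inv]
  exact (c2_comm (hc x y) _).symm

theorem c2_central_right (x : H) {z : H} (hz : z ∈ Subgroup.center H) : ⁅x, z⁆ = 1 := by
  rw [commutatorElement_eq_one_iff_commute]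
  exact (c2_comm hz x).symm

theorem c2_central_left (x : H) {z : H} (hz : z ∈ Subgroup.center H) : ⁅z, x⁆ = 1 := by
  rw [commutatorElement_eq_one_iff_commute]
  exact c2_comm hz x

/-- the Baer product on a class two group: `x ∘ y = x y [y, x]^n` -/
def bmul (n : ℕ) (x y : H) : H := x * y * ⁅y, x⁆ ^ n

theorem bmul_comm (hc : ∀ x y : H, ⁅x, y⁆ ∈ Subgroup.center H) (n : ℕ)
    (hn : ∀ z : H, z ^ (n + n) = z) (x y : H) : bmul n x y = bmul n y x := by
  unfold bmul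
  have e1 : ⁅y, x⁆ = ⁅x, y⁆⁻¹ := (commutatorElement_inv x y).symm
  have e2 : x * y = y * x * ⁅x, y⁆ := by
    rw [← c2_comm (hc x y) (y * x)]
    simp only [commutatorElement_def]; group
  rw [e1, inv_pow, e2, mul_assoc (y * x)]
  congr 1
  rw [mul_inv_eq_iff_eq_mul, ← pow_add, hn]

theorem bmul_assoc (hc : ∀ x y : H, ⁅x, y⁆ ∈ Subgroup.center H) (n : ℕ) (a b c : H) :
    bmul n (bmul n a b) c = bmul n a (bmul n b c) := by
  unfold bmul
  have hU : ⁅b, a⁆ ^ n ∈ Subgroup.center H := Subgroup.pow_mem _ (hc b a) n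
  have hV : ⁅c, a⁆ ^ n ∈ Subgroup.center H := Subgroup.pow_mem _ (hc c a) n
  have hW : ⁅c, b⁆ ^ n ∈ Subgroup.center H := Subgroup.pow_mem _ (hc c b) n
  have h1 : ⁅c, a * b * ⁅b, a⁆ ^ n⁆ = ⁅c, a⁆ * ⁅c, b⁆ := by
    rw [c2_mul_right hc, c2_mul_right hc, c2_central_right c hU, mul_one]
  have h2 : ⁅b * c * ⁅c, b⁆ ^ n, a⁆ = ⁅b, a⁆ * ⁅c, a⁆ := by
    rw [c2_mul_left hc, c2_mul_left hc, c2_central_left a hW, mul_one]
  have h3 : (⁅c, a⁆ * ⁅c, b⁆) ^ n = ⁅c, a⁆ ^ n * ⁅c, b⁆ ^ n :=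
    Commute.mul_pow (c2_comm (hc c a) _) n
  have h4 : (⁅b, a⁆ * ⁅c, a⁆) ^ n = ⁅b, a⁆ ^ n * ⁅c, a⁆ ^ n :=
    Commute.mul_pow (c2_comm (hc b a) _) n
  rw [h1, h2, h3, h4]
  -- a*b*U*c*(V*W) = a*(b*c*W)*(U*V)
  calc a * b * ⁅b, a⁆ ^ n * c * (⁅c, a⁆ ^ n * ⁅c, b⁆ ^ n)
      = a * b * (⁅b, a⁆ ^ n * c) * (⁅c, a⁆ ^ n * ⁅c, b⁆ ^ n) := by simp only [mul_assoc]
    _ = a * b * (c * ⁅b, a⁆ ^ n) * (⁅c, a⁆ ^ n * ⁅c, b⁆ ^ n) := by rw [c2_comm hU c]
    _ = a * b * c * (⁅b, a⁆ ^ n * (⁅c, a⁆ ^ n * ⁅c, b⁆ ^ n)) := by simp only [mul_assoc]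
    _ = a * b * c * (⁅c, b⁆ ^ n * (⁅b, a⁆ ^ n * ⁅c, a⁆ ^ n)) := by
      congr 1
      rw [← mul_assoc, c2_comm hW]
    _ = a * (b * c * ⁅c, b⁆ ^ n) * (⁅b, a⁆ ^ n * ⁅c, a⁆ ^ n) := by simp only [mul_assoc]

theorem bmul_one (n : ℕ) (x : H) : bmul n x 1 = x := by
  unfold bmul; simp

theorem one_bmul (n : ℕ) (x : H) : bmul n 1 x = x := by
  unfold bmul; simp

theorem inv_bmul (n : ℕ) (x : H) : bmul n x⁻¹ x = 1 := by
  unfold bmul
  have : ⁅x, x⁻¹⁆ = 1 := by simp only [commutatorElement_def]; group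
  rw [this]; simp

end class2

/-- data needed for the Baer trick on a class two group of odd order -/
structure BaerData (H : Type*) [Group H] where
  n : ℕ
  half : ∀ z : H, z ^ (n + n) = z
  central : ∀ x y : H, ⁅x, y⁆ ∈ Subgroup.center H

/-- the Baer abelian group associated with a class two group of odd order -/
@[ext]
structure Baer {H : Type*} [Group H] (d : BaerData H) where
  val : H

namespace Baer

variable {H : Type*} [Group H] (d : BaerData H)

instance : CommGroup (Baer d) where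
  mul a b := ⟨bmul d.n a.val b.val⟩
  mul_assoc a b c := Baer.ext (bmul_assoc d.central d.n a.val b.val c.val)
  one := ⟨1⟩
  one_mul a := Baer.ext (one_bmul d.n a.val)
  mul_one a := Baer.ext (bmul_one d.n a.val)
  inv a := ⟨a.val⁻¹⟩
  inv_mul_cancel a := Baer.ext (inv_bmul d.n a.val)
  mul_comm a b := Baer.ext (bmul_comm d.central d.n d.half a.val b.val)

theorem mul_val (a b : Baer d) : (a * b).val = a.val * b.val * ⁅b.val, a.val⁆ ^ d.n := rfl

theorem one_val : (1 : Baer d).val = 1 := rfl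

theorem inv_val (a : Baer d) : (a⁻¹).val = a.val⁻¹ := rfl

/-- the underlying bijection -/
def equiv : Baer d ≃ H where
  toFun a := a.val
  invFun h := ⟨h⟩
  left_inv _ := rfl
  right_inv _ := rfl

instance [Finite H] : Finite (Baer d) := Finite.of_equiv H (equiv d).symm

theorem card_eq : Nat.card (Baer d) = Nat.card H := Nat.card_congr (equiv d)

theorem pow_val (a : Baer d) (k : ℕ) : (a ^ k).val = a.val ^ k := by
  induction k with
  | zero => rw [pow_zero, pow_zero, one_val]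
  | succ k ih =>
    rw [pow_succ, mul_val, ih, pow_succ]
    have : ⁅a.val, a.val ^ k⁆ = 1 := by
      rw [commutatorElement_eq_one_iff_commute]
      exact (Commute.refl a.val).pow_right k
    rw [this, one_pow, mul_one]

/-- automorphisms of `H` are automorphisms of the Baer group -/
def mapAut (σ : H ≃* H) : Baer d ≃* Baer d where
  toFun a := ⟨σ a.val⟩
  invFun a := ⟨σ.symm a.val⟩
  left_inv a := Baer.ext (by simp)
  right_inv a := Baer.ext (by simp)
  map_mul' a b := Baer.ext (by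
    show σ (a.val * b.val * ⁅b.val, a.val⁆ ^ d.n) = σ a.val * σ b.val * ⁅σ b.val, σ a.val⁆ ^ d.n
    rw [map_mul, map_mul, map_pow, map_commutatorElement])

theorem mapAut_val (σ : H ≃* H) (a : Baer d) : (mapAut d σ a).val = σ a.val := rfl

/-- the homomorphism `Aut H → Aut (Baer H)` -/
def autHom : MulAut H →* MulAut (Baer d) where
  toFun σ := mapAut d σ
  map_one' := by
    apply MulEquiv.ext
    intro a
    exact Baer.ext rfl
  map_mul' σ τ := by
    apply MulEquiv.ext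
    intro a
    exact Baer.ext rfl

theorem autHom_val (σ : MulAut H) (a : Baer d) : (autHom d σ a).val = σ a.val := rfl

end Baer

end Cfsg.Agent.Lib.Helper20
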