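import Mathlib
import Cfsg.Agent.Lib.helper7.Br.Defs

/-!
Project Brandt (S4607), piece DIM (helper20): `dim_F (ē_B FG) = |G| · blockCoeff B 1`.
-/

set_option autoImplicit false
set_option linter.unusedSectionVars false
set_option linter.unusedVariables false

namespace Cfsg.Agent.Lib.Helper20.Br

open Cfsg.Agent.Lib.helper7 Cfsg.Agent.Lib.helper7.Br

variable {G : Type*} [Group G] [Fintype G]
variable {M : Ideal Cfsg.AlgInt}

/-- the matrix `E g h = c (g * h⁻¹)` of left convolution by `c` -/
def convMat {R : Type*} (c : G → R) : Matrix G G R := Matrix.of fun g h => c (g * h⁻¹)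

theorem convMat_apply {R : Type*} (c : G → R) (g h : G) : convMat c g h = c (g * h⁻¹) := rfl

theorem convMat_mul [DecidableEq G] (a b : G → ℂ) :
    convMat a * convMat b = convMat (h7_conv a b) := by
  ext g h
  rw [Matrix.mul_apply, convMat_apply, h7_conv_apply]
  refine Fintype.sum_bijective (fun k => g * k⁻¹) ?_ _ _ fun k => ?_
  · refine ⟨fun x y hxy => ?_, fun y => ⟨y⁻¹ * g, by group⟩⟩
    exact inv_injective (mul_left_cancel hxy)
  · rw [convMat_apply, convMat_apply]
    congr 2
    group

/-- rank = trace for an idempotent complex matrix -/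
theorem rank_eq_trace_of_idem {ι : Type*} [Fintype ι] [DecidableEq ι] (E : Matrix ι ι ℂ)
    (hE : E * E = E) : (E.rank : ℂ) = E.trace := by
  have hproj : LinearMap.IsProj (LinearMap.range E.toLin') E.toLin' := by
    refine ⟨fun x => LinearMap.mem_range_self _ x, ?_⟩
    rintro _ ⟨y, rfl⟩
    rw [← LinearMap.comp_apply, ← Matrix.toLin'_mul, hE]
  have h1 := hproj.trace
  rw [Matrix.trace_toLin'_eq] at h1
  rw [h1]
  rfl

variable (hMp : M.IsPrime)

theorem map_convMat (B : Set (Cfsg.IrrCharacter G)) :
    (convMat (Cfsg.blockCoeff B)).map (h7_res M hMp) =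
      convMat (fun g => eBar hMp B g) := by
  ext g h
  rfl

/-- the rank of the convolution matrix of `ē_B` is the dimension of the block algebra -/
theorem rank_convMat_eBar [DecidableEq G] (B : Set (Cfsg.IrrCharacter G))
    (hB : Cfsg.IsPBlock M B) :
    (convMat (fun g => eBar hMp B g)).rank =
      Module.finrank (h7_resRing M hMp) (BlockAlg hMp B hB) := by
  set F := h7_resRing M hMp
  set E := convMat (fun g => eBar hMp B g) with hEdef
  -- left multiplication by ē on the group algebra
  let L : GA F G →ₗ[F] GA F G := LinearMap.mulLeft F (eBar hMp B)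
  -- the block algebra has the dimension of range L
  have h1 : Module.finrank F (BlockAlg hMp B hB) = Module.finrank F (LinearMap.range L) := by
    have hk : LinearMap.ker (toBlock hMp B hB) = LinearMap.ker L := by
      ext x
      rw [LinearMap.mem_ker, LinearMap.mem_ker]
      constructor
      · intro h
        have := congrArg (cval (eBar_idem hMp B hB)) h
        rwa [cval_toBlock] at this
      · intro h
        apply cval_injective
        rw [cval_toBlock]
        exact h
    have e1 := LinearMap.finrank_range_add_finrank_ker (toBlock hMp B hB)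
    have e2 := LinearMap.finrank_range_add_finrank_ker L
    have e3 : Module.finrank F (LinearMap.range (toBlock hMp B hB)) =
        Module.finrank F (BlockAlg hMp B hB) := by
      rw [LinearMap.range_eq_top.mpr (toBlock_surjective hMp B hB), finrank_top]
    rw [hk] at e1
    rw [e3] at e1
    have e4 : Module.finrank F (BlockAlg hMp B hB) + Module.finrank F (LinearMap.ker L) =
        Module.finrank F (LinearMap.range L) + Module.finrank F (LinearMap.ker L) := e1.trans e2.symm
    exact Nat.add_right_cancel e4
  -- the matrix E is L in the coordinates `toFun'`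
  have h2 : E.mulVecLin =
      (GA.toFun' (F := F) (G := G)).toLinearMap ∘ₗ L ∘ₗ (GA.toFun' (F := F) (G := G)).symm.toLinearMap := by
    apply LinearMap.ext
    intro x
    funext g
    show (E.mulVec x) g = (eBar hMp B * ((GA.toFun' (F := F) (G := G)).symm x)) g
    rw [GA.mul_apply', Matrix.mulVec, dotProduct]
    rfl
  have h3 : LinearMap.range E.mulVecLin =
      (LinearMap.range L).map (GA.toFun' (F := F) (G := G)).toLinearMap := by
    rw [h2, LinearMap.range_comp, LinearMap.range_comp,
      LinearMap.range_eq_top.mpr (GA.toFun' (F := F) (G := G)).symm.surjective, Submodule.map_top]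
  rw [h1]
  show Module.finrank F (LinearMap.range E.mulVecLin) = _
  rw [h3]
  exact LinearEquiv.finrank_map_eq (GA.toFun' (F := F) (G := G)) _

/-- DIM : `dim_F (ē_B FG) = |G| · (coefficient of 1 in e_B) = Σ_{χ ∈ B} χ(1)²`. -/
theorem finrank_blockAlg [DecidableEq G] (hMp : M.IsPrime) (B : Set (Cfsg.IrrCharacter G))
    (hB : Cfsg.IsPBlock M B)
    (hRK : ∀ E : Matrix G G ℂ, E * E = E → (∀ i j, Cfsg.MemLocalRing M (E i j)) →
      (E.map (h7_res M hMp)).rank = E.rank) :
    (Module.finrank (h7_resRing M hMp) (BlockAlg hMp B hB) : ℂ) =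
      (Nat.card G : ℂ) * Cfsg.blockCoeff B 1 := by
  have hE : convMat (Cfsg.blockCoeff B) * convMat (Cfsg.blockCoeff B) =
      convMat (Cfsg.blockCoeff B) := by
    rw [convMat_mul, blockCoeff_conv]
  have hloc : ∀ i j, Cfsg.MemLocalRing M (convMat (Cfsg.blockCoeff B) i j) :=
    fun i j => blockCoeff_mem hMp B hB _
  have h1 := hRK _ hE hloc
  rw [map_convMat hMp B, rank_convMat_eBar hMp B hB] at h1
  rw [h1, rank_eq_trace_of_idem _ hE, Matrix.trace]
  simp only [Matrix.diag_apply, convMat_apply, mul_inv_cancel]
  rw [Finset.sum_const, Finset.card_univ, Nat.card_eq_fintype_card, nsmul_eq_mul]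

end Cfsg.Agent.Lib.Helper20.Br
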