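import Mathlib
import Cfsg.Agent.Lib.helper7.Br.Defs

/-!
Project Brandt (S4607), pieces MD2, MD3, MD4 (helper20): the centralizer `C` of a full system of
matrix units `u i j` in an algebra `A`:
* `matUnits_center` : `Z(C) ≃ Z(A)` (equal dimensions),
* `matUnits_form`   : `c ↦ lam (u₀₀ c)` is a symmetrizing form on `C`,
* `matUnits_local`  : modulo `J` (with `A/J` a full matrix algebra whose matrix units are the
  images of the `u i j`) every element of `C` is a scalar.
-/

set_option autoImplicit false
set_option linter.unusedSectionVars false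
set_option linter.unusedVariables false

namespace Cfsg.Agent.Lib.Helper20.Br

open Cfsg.Agent.Lib.helper7 Cfsg.Agent.Lib.helper7.Br

variable {F A : Type*} [Field F] [Ring A] [Algebra F A]

/-- the `(i,j)` coefficient of `a` with respect to the matrix units: `∑ k, u k i * a * u j k` -/
def mdCoef {n : ℕ} (u : Fin n → Fin n → A) (i j : Fin n) (a : A) : A :=
  ∑ k, u k i * a * u j k

theorem mdCoef_mem {n : ℕ} (u : Fin n → Fin n → A) (hu : IsMatUnits u) (i j : Fin n) (a : A) :
    mdCoef u i j a ∈ cenU F u := by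
  rw [mem_cenU]
  intro p q
  unfold mdCoef
  rw [Finset.mul_sum, Finset.sum_mul]
  have h1 : ∀ k, u p q * (u k i * a * u j k) = if q = k then u p i * a * u j k else 0 := by
    intro k
    rw [← mul_assoc, ← mul_assoc, hu.1 p q k i]
    split_ifs <;> simp
  have h2 : ∀ k, (u k i * a * u j k) * u p q = if k = p then u k i * a * u j q else 0 := by
    intro k
    rw [mul_assoc, hu.1 j k p q]
    split_ifs <;> simp
  simp only [h1, h2]
  rw [Finset.sum_ite_eq, Finset.sum_ite_eq']
  simp

theorem mdCoef_sum {n : ℕ} (u : Fin n → Fin n → A) (hu : IsMatUnits u) (a : A) :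
    ∑ i, ∑ j, mdCoef u i j a * u i j = a := by
  unfold mdCoef
  have h1 : ∀ i j, (∑ k, u k i * a * u j k) * u i j = u i i * a * u j j := by
    intro i j
    rw [Finset.sum_mul]
    have : ∀ k, u k i * a * u j k * u i j = if k = i then u k i * a * u j j else 0 := by
      intro k
      rw [mul_assoc, hu.1 j k i j]
      split_ifs <;> simp
    simp only [this]
    rw [Finset.sum_ite_eq']
    simp
  simp only [h1]
  have h2 : ∀ i, ∑ j, u i i * a * u j j = u i i * a := by
    intro i
    rw [← Finset.mul_sum, hu.2, mul_one]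
  simp only [h2]
  rw [← Finset.sum_mul, hu.2, one_mul]

/-- an element commuting with the centralizer of the matrix units and with the matrix units is
central -/
theorem central_of_comm {n : ℕ} (u : Fin n → Fin n → A) (hu : IsMatUnits u) (z : A)
    (hz1 : ∀ c ∈ cenU F u, z * c = c * z) (hz2 : ∀ i j, z * u i j = u i j * z) (a : A) :
    z * a = a * z := by
  conv_lhs => rw [← mdCoef_sum u hu a]
  conv_rhs => rw [← mdCoef_sum u hu a]
  rw [Finset.mul_sum, Finset.sum_mul]
  refine Finset.sum_congr rfl fun i _ => ?_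
  rw [Finset.mul_sum, Finset.sum_mul]
  refine Finset.sum_congr rfl fun j _ => ?_
  rw [← mul_assoc, hz1 _ (mdCoef_mem (F := F) u hu i j a), mul_assoc, hz2, ← mul_assoc]

/-- MD2 : the centre of the centralizer of the matrix units is the centre of `A`. -/
theorem matUnits_center [FiniteDimensional F A] {n : ℕ} (u : Fin n → Fin n → A)
    (hu : IsMatUnits u) :
    Module.finrank F (Subalgebra.center F ↥(cenU F u)) =
      Module.finrank F (Subalgebra.center F A) := by
  have hmem : ∀ z : ↥(Subalgebra.center F ↥(cenU F u)),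
      ((z : ↥(cenU F u)) : A) ∈ Subalgebra.center F A := by
    intro z
    rw [Subalgebra.mem_center_iff]
    intro a
    have hzc : ∀ c ∈ cenU F u, ((z : ↥(cenU F u)) : A) * c = c * ((z : ↥(cenU F u)) : A) := by
      intro c hc
      have := (Subalgebra.mem_center_iff.mp z.2) ⟨c, hc⟩
      have h2 := congrArg Subtype.val this
      simpa using h2.symm
    have hzu : ∀ i j, ((z : ↥(cenU F u)) : A) * u i j = u i j * ((z : ↥(cenU F u)) : A) := by
      intro i j
      exact ((mem_cenU (F := F) u _).mp (z : ↥(cenU F u)).2 i j).symm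
    exact (central_of_comm (F := F) u hu _ hzc hzu a).symm
  let f : ↥(Subalgebra.center F ↥(cenU F u)) →ₗ[F] ↥(Subalgebra.center F A) :=
    { toFun := fun z => ⟨((z : ↥(cenU F u)) : A), hmem z⟩
      map_add' := fun _ _ => rfl
      map_smul' := fun _ _ => rfl }
  have hinj : Function.Injective f := by
    intro z w h
    have : ((z : ↥(cenU F u)) : A) = ((w : ↥(cenU F u)) : A) :=
      congrArg (fun t : ↥(Subalgebra.center F A) => (t : A)) h
    exact Subtype.ext (Subtype.ext this)
  have hsurj : Function.Surjective f := by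
    intro z
    have hzA := Subalgebra.mem_center_iff.mp z.2
    have hzC : (z : A) ∈ cenU F u := by
      rw [mem_cenU]
      intro i j
      exact hzA (u i j)
    refine ⟨⟨⟨(z : A), hzC⟩, ?_⟩, Subtype.ext rfl⟩
    rw [Subalgebra.mem_center_iff]
    intro c
    exact Subtype.ext (hzA (c : A))
  exact (LinearEquiv.ofBijective f ⟨hinj, hsurj⟩).finrank_eq

/-- MD3 : `c ↦ lam (u₀₀ c)` is a symmetrizing form on the centralizer of the matrix units. -/
theorem matUnits_form {n : ℕ} (u : Fin (n + 1) → Fin (n + 1) → A) (hu : IsMatUnits u)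
    (lam : A →ₗ[F] F) (hlam : IsSymForm lam) : IsSymForm (lamC u lam) := by
  have hcomm : ∀ c : ↥(cenU F u), ∀ i j, u i j * (c : A) = (c : A) * u i j :=
    fun c => (mem_cenU (F := F) u _).mp c.2
  refine ⟨?_, ?_⟩
  · intro c c'
    rw [lamC_apply, lamC_apply]
    show lam (u 0 0 * ((c : A) * (c' : A))) = lam (u 0 0 * ((c' : A) * (c : A)))
    rw [← mul_assoc, hcomm c 0 0, mul_assoc, hlam.1, mul_assoc]
  · intro c hc
    have hc' : ∀ c' : ↥(cenU F u), lam (u 0 0 * ((c : A) * (c' : A))) = 0 := by
      intro c'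
      have := hc c'
      rwa [lamC_apply] at this
    have hzero : (c : A) = 0 := by
      apply hlam.2
      intro a
      conv_lhs => rw [← mdCoef_sum u hu a]
      rw [Finset.mul_sum, map_sum]
      refine Finset.sum_eq_zero fun i _ => ?_
      rw [Finset.mul_sum, map_sum]
      refine Finset.sum_eq_zero fun j _ => ?_
      -- x := c * c_ij ∈ C
      set x : ↥(cenU F u) := c * ⟨mdCoef u i j a, mdCoef_mem (F := F) u hu i j a⟩ with hx
      have hxv : (x : A) = (c : A) * mdCoef u i j a := rfl
      rw [← mul_assoc, ← hxv]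
      by_cases hij : i = j
      · subst hij
        -- lam (x u i i) = lam (x u i 0 u 0 i) = lam (u 0 i x u i 0) = lam (x u 0 0) = lam (u00 x)
        have h1 : u i i = u i 0 * u 0 i := by rw [hu.1 i 0 0 i]; simp
        rw [h1, ← mul_assoc, hlam.1, ← mul_assoc, hcomm x 0 i, mul_assoc, hu.1 0 i i 0]
        simp only [if_true]
        rw [← hcomm x 0 0, hxv]
        exact hc' ⟨mdCoef u i i a, mdCoef_mem (F := F) u hu i i a⟩
      · -- lam (x u i j) = lam (x u i j u j j) = lam (u j j x u i j) = lam (x u j j u i j) = 0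
        have h1 : u i j = u i j * u j j := by rw [hu.1 i j j j]; simp
        rw [h1, ← mul_assoc, hlam.1, ← mul_assoc, hcomm x j j, mul_assoc, hu.1 j j i j]
        have : ¬ j = i := fun h => hij h.symm
        simp [this]
    exact Subtype.ext hzero

/-- MD4 : modulo `J` the centralizer of the matrix units consists of scalars. -/
theorem matUnits_local (J : Ideal A) [J.IsTwoSided] (n : ℕ)
    (φ : (A ⧸ J) ≃ₐ[F] Matrix (Fin n) (Fin n) F) (u : Fin n → Fin n → A)
    (hφ : ∀ i j, φ (Ideal.Quotient.mk J (u i j)) = Matrix.single i j 1)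
    (c : A) (hc : c ∈ cenU F u) : ∃ α : F, c - algebraMap F A α ∈ J := by
  have hcu := (mem_cenU (F := F) u c).mp hc
  have hX : (φ (Ideal.Quotient.mk J c)) ∈ Set.range (Matrix.scalar (Fin n) (α := F)) := by
    apply Matrix.mem_range_scalar_of_commute_single
    intro i j _
    show Matrix.single i j 1 * φ (Ideal.Quotient.mk J c) = φ (Ideal.Quotient.mk J c) * Matrix.single i j 1
    rw [← hφ i j, ← map_mul, ← map_mul, ← map_mul, ← map_mul, hcu i j]
  obtain ⟨α, hα⟩ := hX
  refine ⟨α, ?_⟩
  rw [← Ideal.Quotient.eq_zero_iff_mem]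
  apply φ.injective
  rw [map_zero, map_sub, map_sub, ← hα]
  have : φ (Ideal.Quotient.mk J (algebraMap F A α)) = algebraMap F _ α := by
    have h1 : Ideal.Quotient.mk J (algebraMap F A α) = algebraMap F (A ⧸ J) α := rfl
    rw [h1, AlgEquiv.commutes]
  rw [this, Matrix.algebraMap_eq_diagonal]
  simp [Matrix.scalar_apply]

end Cfsg.Agent.Lib.Helper20.Br
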