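import Mathlib
import Cfsg.Agent.Lib.helper3.C6U.Defs
import Cfsg.Agent.Lib.helper7.C6PWCZ
import Cfsg.Agent.Lib.helper7.C6PWSMUL

set_option autoImplicit false
set_option linter.unusedVariables false
set_option linter.unusedSectionVars false

/-!
# C6U row W4 (`wit_five_u`), second copy by helper20 under its own name `c6uw4_h20`:
`y = (2 i)⁻¹ • Y5 i` is a unitary witness of order 5 in the normalizer of a standard `R`.
-/

namespace Cfsg.Agent.Lib.helper3.C6U

open Polynomial Matrix
open Cfsg.Agent.Lib.Helper10.C6P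
open scoped MatrixGroups

variable {F : Type*} [Field F]

/-- `Y5(i)ᵀ * Y5(-i) = 4` -/
theorem c6uw4_h20_gram (i : F) (hi : i * i = -1) :
    (Y5 i).transpose * Y5 (-i) = (4 : F) • (1 : M4 F) := by
  ext a b
  fin_cases a <;> fin_cases b <;>
    simp [Y5, Matrix.mul_apply, Fin.sum_univ_four] <;>
    first
      | linear_combination (0 : F) * hi
      | linear_combination (-2 : F) * hi
      | linear_combination (2 : F) * hi
      | linear_combination (-4 : F) * hi

/-- `(Y5 i).map (· ^ p) = Y5 (-i)` when `i ^ p = -i` and `p` is odd -/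
theorem c6uw4_h20_map (p : ℕ) (i : F) (hodd : Odd p) (hip : i ^ p = -i) :
    (Y5 i).map (fun a => a ^ p) = Y5 (-i) := by
  ext a b
  fin_cases a <;> fin_cases b <;> simp [Y5, hip, hodd.neg_pow]

section fin

variable [Fintype F] {p : ℕ} [Fact p.Prime] [CharP F p]

/-- W4 (same statement as `wit_five_u`). -/
theorem c6uw4_h20 {i : F} {R : Subgroup (GL (Fin 4) F)} (h : IsStd i R) (h2 : (2 : F) ≠ 0) (hip : i ^ p = -i) :
    ∃ y : M4 F, NrmU p R y ∧ y ^ 5 = 1 ∧ y ≠ 1 := by
  have hi : i * i = -1 := h.1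
  have hi0 : i ≠ 0 := by
    rintro rfl
    rw [mul_zero] at hi
    exact one_ne_zero (neg_eq_zero.mp hi.symm)
  have hp2 : p ≠ 2 := by
    intro hp
    apply h2
    have : ((p : ℕ) : F) = 0 := CharP.cast_eq_zero F p
    rw [hp] at this
    exact_mod_cast this
  have hodd : Odd p := (Fact.out : p.Prime).odd_of_ne_two hp2
  obtain ⟨hN, h5, hns⟩ := nrm_Y5 h h2
  have hc : (2 * i : F) ≠ 0 := mul_ne_zero h2 hi0
  have h2p : (2 : F) ^ p = 2 := by
    have := map_natCast (frobenius F p) 2
    simpa [frobenius_def] using this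
  have hi4 : i ^ 4 = 1 := by
    have : i ^ 4 = (i * i) * (i * i) := by ring
    rw [this, hi]; ring
  refine ⟨(2 * i)⁻¹ • Y5 i, ⟨nrm_smul R _ hN _ (inv_ne_zero hc), ?_⟩, ?_, ?_⟩
  · unfold IsU gram
    have hmap : ((2 * i)⁻¹ • Y5 i).map (fun a => a ^ p) = ((2 * i)⁻¹) ^ p • Y5 (-i) := by
      rw [← c6uw4_h20_map p i hodd hip]
      ext a b
      simp [mul_pow]
    rw [hmap, Matrix.transpose_smul, Matrix.smul_mul, Matrix.mul_smul, c6uw4_h20_gram i hi,
      smul_smul, smul_smul]
    have hs : (2 * i)⁻¹ * (2 * i)⁻¹ ^ p * 4 = 1 := by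
      rw [inv_pow, mul_pow, h2p, hip]
      have h4 : (4 : F) ≠ 0 := by
        have : (4 : F) = 2 * 2 := by norm_num
        rw [this]; exact mul_ne_zero h2 h2
      have h44 : (2 * i) * (2 * -i) = (4 : F) := by linear_combination (-4 : F) * hi
      rw [← mul_inv, h44]
      exact inv_mul_cancel₀ h4
    rw [hs, one_smul]
  · rw [_root_.smul_pow, h5, smul_smul]
    have hs : (2 * i)⁻¹ ^ 5 * (32 * i) = 1 := by
      rw [inv_pow]
      have : (2 * i) ^ 5 = 32 * i := by
        have : (2 * i) ^ 5 = 32 * (i ^ 4 * i) := by ring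
        rw [this, hi4, one_mul]
      rw [this]
      have h32 : (32 * i : F) ≠ 0 := by
        have : (32 : F) = 2 * 2 * 2 * 2 * 2 := by norm_num
        rw [this]
        exact mul_ne_zero (mul_ne_zero (mul_ne_zero (mul_ne_zero (mul_ne_zero h2 h2) h2) h2) h2) hi0
      exact inv_mul_cancel₀ h32
    rw [hs, one_smul]
  · intro hy
    apply hns (2 * i)
    have : Y5 i = (2 * i) • ((2 * i)⁻¹ • Y5 i) := by
      rw [smul_smul, mul_inv_cancel₀ hc, one_smul]
    rw [this, hy]

end fin

end Cfsg.Agent.Lib.helper3.C6U
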