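import Mathlib
import Cfsg.Agent.Lib.helper3.C6U.Defs
import Cfsg.Agent.Lib.Helper20.C6UW4h20

set_option autoImplicit false
set_option linter.unusedVariables false
set_option linter.unusedSectionVars false

/-!
# C6U row W4 (`wit_five_u`), verbatim wrapper of `c6uw4_h20`.
-/

namespace Cfsg.Agent.Lib.helper3.C6U

open Polynomial Matrix
open Cfsg.Agent.Lib.Helper10.C6P
open scoped MatrixGroups

variable {F : Type*} [Field F]

section fin

variable [Fintype F] {p : ℕ} [Fact p.Prime] [CharP F p]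

/-- W4 [M] : `y = (2 i)⁻¹ • Y5 i` is unitary (`Y5(i)ᵀ Y5(-i) = 4`), normalizes a standard `R`, `y^5 = 1` (`Y5^5 = 32 i`, `(2i)^5 = 32 i`), `y ≠ 1` (helper7 `nrm_Y5`). -/
theorem wit_five_u {i : F} {R : Subgroup (GL (Fin 4) F)} (h : IsStd i R) (h2 : (2 : F) ≠ 0) (hip : i ^ p = -i) :
    ∃ y : M4 F, NrmU p R y ∧ y ^ 5 = 1 ∧ y ≠ 1 :=
  c6uw4_h20 h h2 hip

end fin

end Cfsg.Agent.Lib.helper3.C6U
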