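import Mathlib
import Cfsg.Agent.Lib.Helper28.CD3.Defs
import Cfsg.Agent.Lib.Helper25.CharOrth

/-!
# Project CD3, piece FROB2 (the counting argument of Isaacs Theorem 12.4)
-/

set_option autoImplicit false
open scoped commutatorElement

namespace Cfsg.Agent.Lib.Helper28.CD3

universe u

/-- abstract counting lemma behind Isaacs 12.4: a finite abelian group `L` acts on `Ω` (`tws`),
`G` acts on `L` (right action `act`, every `g ∉ N` fixed point freely) and on `Ω` (`cj`)
compatibly.  If every point of the `L`-orbit of `ψ` is fixed by some `g ∉ N`, the orbit is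
a single point. -/
theorem cd3frob2_abstract {G L Ω : Type*} [Group G] [Finite G] [CommGroup L] [Finite L]
    (N : Subgroup G) (act : G → L →* L)
    (act_one : ∀ l, act 1 l = l)
    (act_mul : ∀ g h l, act (g * h) l = act h (act g l))
    (tws : L → Ω → Ω) (cj : G → Ω → Ω)
    (tws_one : ∀ ω, tws 1 ω = ω)
    (tws_mul : ∀ a b ω, tws (a * b) ω = tws a (tws b ω))
    (cj_mul : ∀ g h ω, cj (g * h) ω = cj h (cj g ω))
    (cj_tws : ∀ g l ω, cj g (tws l ω) = tws (act g l) (cj g ω))
    (ψ : Ω) (cj_N : ∀ n ∈ N, ∀ l, cj n (tws l ψ) = tws l ψ)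
    (hfpf : ∀ g, g ∉ N → ∀ l, act g l = l → l = 1)
    (hall : ∀ l, ∃ g, g ∉ N ∧ cj g (tws l ψ) = tws l ψ) :
    ∀ l, tws l ψ = ψ := by
  classical
  have : Fintype G := Fintype.ofFinite G
  have : Fintype L := Fintype.ofFinite L
  -- the stabilizer `S` of `ψ` in `L`
  let S : Subgroup L :=
    { carrier := {l | tws l ψ = ψ}
      one_mem' := tws_one ψ
      mul_mem' := by
        intro a b ha hb
        show tws (a * b) ψ = ψ
        rw [tws_mul, (hb : tws b ψ = ψ), (ha : tws a ψ = ψ)]
      inv_mem' := by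
        intro a ha
        show tws a⁻¹ ψ = ψ
        have h1 : tws a⁻¹ (tws a ψ) = ψ := by rw [← tws_mul, inv_mul_cancel, tws_one]
        rwa [(ha : tws a ψ = ψ)] at h1 }
  have hS : ∀ l, l ∈ S ↔ tws l ψ = ψ := fun l => Iff.rfl
  have stab : ∀ m l, tws l (tws m ψ) = tws m ψ ↔ l ∈ S := by
    intro m l
    rw [hS, ← tws_mul, mul_comm, tws_mul]
    constructor
    · intro h
      have h1 := congrArg (tws m⁻¹) h
      rwa [← tws_mul m⁻¹ m, ← tws_mul m⁻¹ m, inv_mul_cancel, tws_one, tws_one] at h1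
    · intro h
      rw [h]
  have cj_one : cj 1 ψ = ψ := by
    have h1 := cj_N 1 N.one_mem 1
    rwa [tws_one] at h1
  -- the setwise stabilizer `T` of the orbit
  let T : Subgroup G :=
    { carrier := {g | ∃ μ, cj g ψ = tws μ ψ}
      one_mem' := ⟨1, by rw [cj_one, tws_one]⟩
      mul_mem' := by
        rintro g h ⟨μ, hμ⟩ ⟨ν, hν⟩
        exact ⟨act h μ * ν, by rw [cj_mul, hμ, cj_tws, hν, tws_mul]⟩
      inv_mem' := by
        rintro g ⟨μ, hμ⟩
        refine ⟨(act g⁻¹ μ)⁻¹, ?_⟩
        have h1 : cj g⁻¹ (cj g ψ) = ψ := by rw [← cj_mul, mul_inv_cancel, cj_one]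
        rw [hμ, cj_tws] at h1
        have h2 := congrArg (tws (act g⁻¹ μ)⁻¹) h1
        rw [← tws_mul, inv_mul_cancel, tws_one] at h2
        exact h2 }
  have hT : ∀ g, g ∈ T ↔ ∃ μ, cj g ψ = tws μ ψ := fun g => Iff.rfl
  have hNT : N ≤ T := by
    intro n hn
    refine ⟨1, ?_⟩
    have h1 := cj_N n hn 1
    rwa [tws_one] at h1 ⊢
  have fixT : ∀ g l, cj g (tws l ψ) = tws l ψ → g ∈ T := by
    intro g l h
    rw [cj_tws] at h
    refine ⟨(act g l)⁻¹ * l, ?_⟩
    have h2 := congrArg (tws (act g l)⁻¹) h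
    rw [← tws_mul, inv_mul_cancel, tws_one, ← tws_mul] at h2
    exact h2
  have Sinv : ∀ g ∈ T, ∀ s ∈ S, act g s ∈ S := by
    rintro g ⟨μ, hμ⟩ s hs
    have h1 : cj g (tws s ψ) = cj g ψ := by rw [(hS s).1 hs]
    rw [cj_tws, hμ] at h1
    exact (stab μ _).1 h1
  have act_inv_cancel : ∀ g l, act g⁻¹ (act g l) = l := by
    intro g l
    rw [← act_mul, mul_inv_cancel, act_one]
  -- the map `d ↦ d^g d⁻¹` for `g ∈ T \ N`
  have key : ∀ g ∈ T, g ∉ N → ∀ d, act g d * d⁻¹ ∈ S → d ∈ S := by
    intro g hgT hgN d hd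
    let β : L →* L := act g * (MonoidHom.id L)⁻¹
    have hβ : ∀ l, β l = act g l * l⁻¹ := fun l => rfl
    have βinj : Function.Injective β := by
      rw [injective_iff_map_eq_one]
      intro a ha
      rw [hβ, mul_inv_eq_one] at ha
      exact hfpf g hgN a ha
    let βS : S → S := fun s => ⟨β s, by
      rw [hβ]
      exact S.mul_mem (Sinv g hgT s s.2) (S.inv_mem s.2)⟩
    have βSinj : Function.Injective βS := by
      intro a b hab
      exact Subtype.ext (βinj (congrArg Subtype.val hab))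
    obtain ⟨s, hs⟩ := (Finite.injective_iff_surjective.mp βSinj) ⟨β d, by rw [hβ]; exact hd⟩
    have h1 : β s = β d := congrArg Subtype.val hs
    rw [← βinj h1]
    exact s.2
  -- suppose the orbit is not a point
  by_contra hcon
  push Not at hcon
  obtain ⟨d, hd⟩ := hcon
  have hdS : d ∉ S := hd
  set Tf : Finset G := Finset.univ.filter (fun g => g ∈ T) with hTf
  set Nf : Finset G := Tf.filter (fun g => g ∈ N) with hNf
  set TN : Finset G := Tf.filter (fun g => ¬ g ∈ N) with hTN
  set Sf : Finset L := Finset.univ.filter (fun l => l ∈ S) with hSf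
  set Sc : Finset L := Finset.univ.filter (fun l => ¬ l ∈ S) with hSc
  have hcardT : Nf.card + TN.card = Tf.card :=
    Finset.card_filter_add_card_filter_not (s := Tf) (fun g => g ∈ N)
  have hcardL : Sf.card + Sc.card = (Finset.univ : Finset L).card :=
    Finset.card_filter_add_card_filter_not (s := Finset.univ) (fun l => l ∈ S)
  have hN1 : 0 < Nf.card := Finset.card_pos.mpr ⟨1, by
    simp only [hNf, hTf, Finset.mem_filter, Finset.mem_univ, true_and]
    exact ⟨T.one_mem, N.one_mem⟩⟩
  have hS1 : 0 < Sf.card := Finset.card_pos.mpr ⟨1, by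
    simp only [hSf, Finset.mem_filter, Finset.mem_univ, true_and]
    exact S.one_mem⟩
  have memNf : ∀ g, g ∈ Nf ↔ g ∈ N := by
    intro g
    simp only [hNf, hTf, Finset.mem_filter, Finset.mem_univ, true_and]
    exact ⟨fun h => h.2, fun h => ⟨hNT h, h⟩⟩
  have memTN : ∀ g, g ∈ TN ↔ g ∈ T ∧ g ∉ N := by
    intro g
    simp only [hTN, hTf, Finset.mem_filter, Finset.mem_univ, true_and]
  have memTf : ∀ g, g ∈ Tf ↔ g ∈ T := by
    intro g
    simp only [hTf, Finset.mem_filter, Finset.mem_univ, true_and]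
  have memSf : ∀ l, l ∈ Sf ↔ l ∈ S := by
    intro l
    simp only [hSf, Finset.mem_filter, Finset.mem_univ, true_and]
  have memSc : ∀ l, l ∈ Sc ↔ l ∉ S := by
    intro l
    simp only [hSc, Finset.mem_filter, Finset.mem_univ, true_and]
  -- first count
  have count1 : (Finset.univ : Finset L).card * Nf.card ≤ TN.card * Sf.card := by
    refine Finset.card_mul_le_card_mul (fun (l : L) (g : G) => cj g (tws l ψ) = tws l ψ) ?_ ?_
    · intro l _
      obtain ⟨g₀, hg₀N, hg₀⟩ := hall l
      refine Finset.card_le_card_of_injOn (fun n => g₀ * n) ?_ ?_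
      · intro n hn
        have hn' : n ∈ N := (memNf n).1 (Finset.mem_coe.mp hn)
        simp only [Finset.bipartiteAbove, Finset.coe_filter, Set.mem_ofPred_eq, memTN]
        refine ⟨⟨T.mul_mem (fixT g₀ l hg₀) (hNT hn'), ?_⟩, ?_⟩
        · intro h
          exact hg₀N ((Subgroup.mul_mem_cancel_right N hn').mp h)
        · rw [cj_mul, hg₀, cj_N n hn' l]
      · intro a _ b _ hab
        exact mul_left_cancel hab
    · intro g hg
      obtain ⟨hgT, hgN⟩ := (memTN g).1 hg
      rcases (Finset.univ.bipartiteBelow (fun (l : L) (g : G) => cj g (tws l ψ) = tws l ψ)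
        g).eq_empty_or_nonempty with he | ⟨l₀, hl₀⟩
      · rw [he]
        simp
      · have hl₀' : cj g (tws l₀ ψ) = tws l₀ ψ := by
          simpa [Finset.bipartiteBelow] using hl₀
        refine Finset.card_le_card_of_injOn (fun l => l * l₀⁻¹) ?_ ?_
        · intro l hl
          have hl' : cj g (tws l ψ) = tws l ψ := by
            simpa [Finset.bipartiteBelow] using hl
          simp only [Finset.coe_filter, Set.mem_ofPred_eq, Finset.mem_univ, true_and, hSf]
          apply key g hgT hgN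
          -- write l = d' * l₀
          set d' := l * l₀⁻¹ with hd'
          have hl2 : l = d' * l₀ := by rw [hd', inv_mul_cancel_right]
          rw [hl2, tws_mul, cj_tws, hl₀'] at hl'
          have h2 := congrArg (tws d'⁻¹) hl'
          rw [← tws_mul d'⁻¹ (act g d'), ← tws_mul d'⁻¹ d', inv_mul_cancel, tws_one] at h2
          have h3 := (stab l₀ _).1 h2
          rwa [mul_comm] at h3
        · intro a _ b _ hab
          exact mul_right_cancel hab
  -- second count
  have count2 : Tf.card * Sf.card ≤ Sc.card * Nf.card := by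
    refine Finset.card_mul_le_card_mul (fun (g : G) (l : L) => (act g d)⁻¹ * l ∈ S) ?_ ?_
    · intro g hg
      have hgT : g ∈ T := (memTf g).1 hg
      refine Finset.card_le_card_of_injOn (fun s => act g d * s) ?_ ?_
      · intro s hs
        have hs' : s ∈ S := (memSf s).1 (Finset.mem_coe.mp hs)
        simp only [Finset.bipartiteAbove, Finset.coe_filter, Set.mem_ofPred_eq, memSc]
        refine ⟨?_, ?_⟩
        · intro h
          have h1 : act g d ∈ S := (Subgroup.mul_mem_cancel_right S hs').mp h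
          have h2 := Sinv g⁻¹ (T.inv_mem hgT) _ h1
          rw [act_inv_cancel] at h2
          exact hdS h2
        · rw [inv_mul_cancel_left]
          exact hs'
      · intro a _ b _ hab
        exact mul_left_cancel hab
    · intro l hl
      rcases (Tf.bipartiteBelow (fun (g : G) (l : L) => (act g d)⁻¹ * l ∈ S)
        l).eq_empty_or_nonempty with he | ⟨h₀, hh₀⟩
      · rw [he]
        simp
      · have hh₀' : h₀ ∈ T ∧ (act h₀ d)⁻¹ * l ∈ S := by
          simpa [Finset.bipartiteBelow, memTf] using hh₀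
        refine Finset.card_le_card_of_injOn (fun g => g * h₀⁻¹) ?_ ?_
        · intro g hg
          have hg' : g ∈ T ∧ (act g d)⁻¹ * l ∈ S := by
            simpa [Finset.bipartiteBelow, memTf] using hg
          rw [Finset.mem_coe, memNf]
          by_contra hk
          have hkT : g * h₀⁻¹ ∈ T := T.mul_mem hg'.1 (T.inv_mem hh₀'.1)
          have h1 : act g d * (act h₀ d)⁻¹ ∈ S := by
            have h2 := S.mul_mem (S.inv_mem hg'.2) hh₀'.2
            have h3 : ((act g d)⁻¹ * l)⁻¹ * ((act h₀ d)⁻¹ * l) = act g d * (act h₀ d)⁻¹ := by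
              rw [mul_inv_rev, inv_inv, mul_comm l⁻¹ (act g d), mul_assoc,
                mul_comm ((act h₀ d)⁻¹) l, inv_mul_cancel_left]
            rwa [h3] at h2
          have h4 : act g d = act h₀ (act (g * h₀⁻¹) d) := by
            rw [← act_mul, inv_mul_cancel_right]
          rw [h4, ← map_inv, ← map_mul] at h1
          have h5 := Sinv h₀⁻¹ (T.inv_mem hh₀'.1) _ h1
          rw [act_inv_cancel] at h5
          exact hdS (key _ hkT hk d h5)
        · intro a _ b _ hab
          exact mul_right_cancel hab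
  have hpos := Nat.mul_pos hS1 hN1
  nlinarith [count1, count2, hcardT, hcardL, hpos]

/-- the linear characters of `N` which are trivial on `K` -/
def cd3frob2_Lam {G : Type u} [Group G] (K N : Subgroup G) : Subgroup (N →* ℂˣ) where
  carrier := {l | ∀ x : N, (x : G) ∈ K → l x = 1}
  one_mem' := fun _ _ => rfl
  mul_mem' := by
    intro a b ha hb x hx
    rw [MonoidHom.mul_apply, ha x hx, hb x hx, one_mul]
  inv_mem' := by
    intro a ha x hx
    rw [MonoidHom.inv_apply, ha x hx, inv_one]

theorem cd3frob2_mem_Lam {G : Type u} [Group G] (K N : Subgroup G) (l : N →* ℂˣ) :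
    l ∈ cd3frob2_Lam K N ↔ ∀ x : N, (x : G) ∈ K → l x = 1 := Iff.rfl

/-- the (right) action of `G` on the linear characters of `N` trivial on `K` -/
def cd3frob2_act {G : Type u} [Group G] (K N : Subgroup G) [hK : K.Normal] [hN : N.Normal]
    (g : G) : cd3frob2_Lam K N →* cd3frob2_Lam K N where
  toFun l := ⟨l.1.comp (MulAut.conjNormal g : N ≃* N).toMonoidHom, by
    intro x hx
    show l.1 (MulAut.conjNormal g x) = 1
    apply l.2
    rw [MulAut.conjNormal_apply]
    exact hK.conj_mem _ hx g⟩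
  map_one' := by
    apply Subtype.ext
    ext x
    rfl
  map_mul' := by
    intro a b
    apply Subtype.ext
    ext x
    rfl

theorem cd3frob2_act_apply {G : Type u} [Group G] (K N : Subgroup G) [hK : K.Normal]
    [hN : N.Normal] (g : G) (l : cd3frob2_Lam K N) (x : N) :
    (cd3frob2_act K N g l).1 x = l.1 ⟨g * x * g⁻¹, hN.conj_mem x x.2 g⟩ := rfl

section partA
variable {G : Type u} [Group G] [Finite G]

/-- an element outside `N` fixes no nontrivial linear character of `N / K` -/
theorem cd3frob2_fpf (K N : Subgroup G) [hK : K.Normal] [hN : N.Normal]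
    (hab : ∀ x ∈ N, ∀ y ∈ N, ⁅x, y⁆ ∈ K)
    (hfpf : ∀ g : G, g ∉ N → ∀ x ∈ N, ⁅g, x⁆ ∈ K → x ∈ K)
    (g : G) (hg : g ∉ N) (l : N →* ℂˣ) (hl : ∀ x : N, (x : G) ∈ K → l x = 1)
    (hfix : ∀ x : N, l ⟨g * x * g⁻¹, hN.conj_mem x x.2 g⟩ = l x) : l = 1 := by
  classical
  set K' : Subgroup N := K.subgroupOf N with hK'
  have : K'.Normal := Subgroup.normal_subgroupOf
  let c : N → N := fun x => ⟨g * x * g⁻¹, hN.conj_mem x x.2 g⟩
  have hc : ∀ x : N, ((c x : N) : G) = g * x * g⁻¹ := fun x => rfl
  let mk : N →* N ⧸ K' := QuotientGroup.mk' K'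
  have hmk1 : ∀ x : N, mk x = 1 ↔ (x : G) ∈ K := by
    intro x
    show (QuotientGroup.mk x : N ⧸ K') = 1 ↔ _
    rw [QuotientGroup.eq_one_iff, hK', Subgroup.mem_subgroupOf]
  let φ : N →* N ⧸ K' := MonoidHom.mk' (fun x => mk (c x * x⁻¹)) (by
    intro x y
    show mk _ = mk _ * mk _
    rw [← map_mul, ← mul_inv_eq_one, ← map_inv, ← map_mul, hmk1]
    have hw : ⁅g, (y : G)⁆ ∈ N := by
      rw [commutatorElement_def]
      exact N.mul_mem (hN.conj_mem _ y.2 g) (N.inv_mem y.2)
    have h3 := hab ⁅g, (y : G)⁆ hw (x : G)⁻¹ (N.inv_mem x.2)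
    have h4 := hK.conj_mem _ h3 (g * x * g⁻¹)
    convert h4 using 1
    simp only [Subgroup.coe_mul, Subgroup.coe_inv, hc, commutatorElement_def]
    group)
  have hφ : ∀ x : N, φ x = mk (c x * x⁻¹) := fun x => rfl
  have hker : ∀ x : N, φ x = 1 → (x : G) ∈ K := by
    intro x hx
    rw [hφ, hmk1] at hx
    apply hfpf g hg x x.2
    rw [commutatorElement_def]
    exact hx
  have hK'φ : ∀ x ∈ K', φ x = 1 := by
    intro x hx
    rw [hφ, hmk1]
    rw [hK', Subgroup.mem_subgroupOf] at hx
    exact K.mul_mem (hK.conj_mem _ hx g) (K.inv_mem hx)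
  let φ' : N ⧸ K' →* N ⧸ K' := QuotientGroup.lift K' φ hK'φ
  have hφ' : ∀ x : N, φ' (mk x) = φ x := fun x => rfl
  have inj : Function.Injective φ' := by
    rw [injective_iff_map_eq_one]
    intro q hq
    induction q using QuotientGroup.induction_on with
    | H x =>
      have h1 : φ x = 1 := hq
      exact (hmk1 x).mpr (hker x h1)
  have surj := Finite.injective_iff_surjective.mp inj
  ext y
  obtain ⟨q, hq⟩ := surj (mk y)
  induction q using QuotientGroup.induction_on with
  | H x =>
    have h1 : mk (c x * x⁻¹) = mk y := hq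
    have h2 : mk ((c x * x⁻¹)⁻¹ * y) = 1 := by
      rw [map_mul, map_inv, h1, inv_mul_cancel]
    rw [hmk1] at h2
    have h3 := hl _ h2
    rw [map_mul, map_inv, map_mul, map_inv, hfix x, mul_inv_cancel, inv_one, one_mul] at h3
    rw [h3]
    rfl

-- piece FROB2 (the counting argument of Isaacs 12.4, see PLAN)
theorem frob_all_fix (K N : Subgroup G) [K.Normal] [N.Normal] (hKN : K ≤ N)
    (hab : ∀ x ∈ N, ∀ y ∈ N, ⁅x, y⁆ ∈ K)
    (hfpf : ∀ g : G, g ∉ N → ∀ x ∈ N, ⁅g, x⁆ ∈ K → x ∈ K)
    (ψ : Cfsg.IrrCharacter N)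
    (hall : ∀ l : N →* ℂˣ, (∀ x : N, (x : G) ∈ K → l x = 1) →
      ∃ g : G, g ∉ N ∧ cjf N (tw N l (ψ : N → ℂ)) g = tw N l (ψ : N → ℂ)) :
    ∀ l : N →* ℂˣ, (∀ x : N, (x : G) ∈ K → l x = 1) → tw N l (ψ : N → ℂ) = (ψ : N → ℂ) := by
  intro l hl
  have hN : N.Normal := inferInstance
  have h := cd3frob2_abstract (G := G) (L := cd3frob2_Lam K N) (Ω := N → ℂ) N
    (cd3frob2_act K N)
    (by
      intro l
      apply Subtype.ext
      ext x
      rw [cd3frob2_act_apply]
      refine congrArg (fun y => ((l.1 y : ℂˣ) : ℂ)) (Subtype.ext ?_)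
      simp)
    (by
      intro g h l
      apply Subtype.ext
      ext x
      rw [cd3frob2_act_apply, cd3frob2_act_apply, cd3frob2_act_apply]
      refine congrArg (fun y => ((l.1 y : ℂˣ) : ℂ)) (Subtype.ext ?_)
      simp [mul_assoc])
    (fun l ω => tw N l.1 ω) (fun g ω => cjf N ω g)
    (by
      intro ω
      funext x
      simp [tw])
    (by
      intro a b ω
      funext x
      simp [tw, mul_assoc])
    (by
      intro g h ω
      funext x
      simp only [cjf]
      congr 1
      apply Subtype.ext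
      simp [mul_assoc])
    (by
      intro g l ω
      funext x
      simp only [cjf, tw]
      rw [cd3frob2_act_apply])
    (ψ : N → ℂ)
    (by
      intro n hn l
      funext x
      simp only [cjf, tw]
      have e1 : (⟨n * x * n⁻¹, hN.conj_mem x x.2 n⟩ : N) = ⟨n, hn⟩ * x * ⟨n, hn⟩⁻¹ := rfl
      rw [e1, Cfsg.Agent.Lib.Helper25.irr_conj_invariant ψ x ⟨n, hn⟩, map_mul, map_mul, map_inv,
        mul_comm (l.1 ⟨n, hn⟩), mul_inv_cancel_right])
    (by
      intro g hg l hgl
      apply Subtype.ext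
      apply cd3frob2_fpf K N hab hfpf g hg l.1 l.2
      intro x
      have := congrArg (fun m : cd3frob2_Lam K N => m.1 x) hgl
      simpa [cd3frob2_act_apply] using this)
    (by
      intro l
      exact hall l.1 l.2)
  exact h ⟨l, hl⟩

end partA

end Cfsg.Agent.Lib.Helper28.CD3
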