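import Mathlib
import Cfsg.Agent.Lib.Helper28.CD3.Defs
import Cfsg.Agent.Lib.Helper11.Clifford
import Cfsg.Agent.Lib.Helper25.CharAbelian
import Cfsg.Agent.Lib.Helper25.CharOrth
import Cfsg.Agent.Lib.helper2.CharNat

/-!
# Project CD3, piece FROB3: a fully ramified character has `|N:K|` dividing `ψ(1)^2`
-/

set_option autoImplicit false
open scoped commutatorElement ComplexConjugate

namespace Cfsg.Agent.Lib.Helper28.CD3

universe u

section partA
variable {G : Type u} [Group G] [Finite G]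

/-- if `l ψ = ψ` for all linear characters `l` of `N / K`, then `ψ` vanishes off `K` -/
theorem cd3frob3_vanish (K N : Subgroup G) [hK : K.Normal] [hN : N.Normal]
    (hab : ∀ x ∈ N, ∀ y ∈ N, ⁅x, y⁆ ∈ K) (ψ : N → ℂ)
    (hfix : ∀ l : N →* ℂˣ, (∀ x : N, (x : G) ∈ K → l x = 1) → tw N l ψ = ψ)
    (x : N) (hx : (x : G) ∉ K) : ψ x = 0 := by
  classical
  set K' : Subgroup N := K.subgroupOf N with hK'
  have hK'n : K'.Normal := Subgroup.normal_subgroupOf
  have hmk1 : ∀ y : N, (QuotientGroup.mk y : N ⧸ K') = 1 ↔ (y : G) ∈ K := by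
    intro y
    rw [QuotientGroup.eq_one_iff, hK', Subgroup.mem_subgroupOf]
  let _ : CommGroup (N ⧸ K') :=
    { (QuotientGroup.Quotient.group K') with
      mul_comm := by
        intro a b
        induction a using QuotientGroup.induction_on with
        | H a =>
          induction b using QuotientGroup.induction_on with
          | H b =>
            show (QuotientGroup.mk (a * b) : N ⧸ K') = QuotientGroup.mk (b * a)
            rw [QuotientGroup.eq, hK', Subgroup.mem_subgroupOf]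
            have h1 := hab ((b : G)⁻¹) (N.inv_mem b.2) ((a : G)⁻¹) (N.inv_mem a.2)
            convert h1 using 1
            simp [commutatorElement_def, mul_assoc] }
  have : NeZero (Monoid.exponent (N ⧸ K')) := ⟨Monoid.exponent_ne_zero_of_finite⟩
  have hne : (QuotientGroup.mk x : N ⧸ K') ≠ 1 := by
    rw [Ne, hmk1]
    exact hx
  obtain ⟨φ, hφ⟩ := CommGroup.exists_apply_ne_one_of_hasEnoughRootsOfUnity (N ⧸ K') ℂ hne
  let l : N →* ℂˣ := φ.comp (QuotientGroup.mk' K')
  have hlx : ∀ y : N, l y = φ (QuotientGroup.mk y) := fun y => rfl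
  have hl : ∀ y : N, (y : G) ∈ K → l y = 1 := by
    intro y hy
    rw [hlx, (hmk1 y).mpr hy, map_one]
  have h1 := congrFun (hfix l hl) x
  simp only [tw] at h1
  have h2 : ((l x : ℂˣ) : ℂ) ≠ 1 := by
    intro h
    apply hφ
    rw [← hlx]
    exact Units.ext h
  have h3 : (((l x : ℂˣ) : ℂ) - 1) * ψ x = 0 := by
    rw [sub_mul, h1, one_mul, sub_self]
  rcases mul_eq_zero.mp h3 with h | h
  · exact absurd (sub_eq_zero.mp h) h2
  · exact h

open Cfsg.Agent.Lib.Helper11 Cfsg.Agent.Lib.Helper25 Cfsg.Agent.Lib.helper2 in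
-- piece FROB3 (psi vanishes off K => |N:K| divides psi(1)^2)
theorem dvd_sq_of_all_fix (K N : Subgroup G) [K.Normal] [N.Normal] (hKN : K ≤ N)
    (hab : ∀ x ∈ N, ∀ y ∈ N, ⁅x, y⁆ ∈ K) (ψ : Cfsg.IrrCharacter N)
    (hfix : ∀ l : N →* ℂˣ, (∀ x : N, (x : G) ∈ K → l x = 1) →
      tw N l (ψ : N → ℂ) = (ψ : N → ℂ)) :
    K.relIndex N ∣ Cfsg.charDegree (ψ : N → ℂ) ^ 2 := by
  classical
  have : Fintype N := Fintype.ofFinite N
  set K' : Subgroup N := K.subgroupOf N with hK'
  have hK'n : K'.Normal := Subgroup.normal_subgroupOf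
  have : Fintype K' := Fintype.ofFinite K'
  have : Fintype (Cfsg.IrrCharacter K') := Fintype.ofFinite _
  have hvan : ∀ x : N, (x : G) ∉ K → (ψ : N → ℂ) x = 0 :=
    fun x hx => cd3frob3_vanish K N hab (ψ : N → ℂ) hfix x hx
  set res : K' → ℂ := fun k => (ψ : N → ℂ) k with hres
  have hresC : Cfsg.IsCharacter K' res := isCharacter_restrict (isCharacter_of_irr ψ) K'
  have hclψ : Cfsg.IsClassFunction N (ψ : N → ℂ) :=
    isCharacter_isClassFunction (isCharacter_of_irr ψ)
  -- the norm of the restriction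
  have hnorm : Cfsg.classInner res res = (K.relIndex N : ℂ) := by
    have h1 := irr_classInner ψ ψ
    rw [if_pos rfl] at h1
    unfold Cfsg.classInner at h1 ⊢
    have hsum : ∑ k : K', res k * conj (res k) =
        ∑ x : N, (ψ : N → ℂ) x * conj ((ψ : N → ℂ) x) := by
      rw [← Finset.sum_subtype (Finset.univ.filter (fun x : N => x ∈ K'))
        (fun x => by simp) (fun x : N => (ψ : N → ℂ) x * conj ((ψ : N → ℂ) x)),
        Finset.sum_filter]
      refine Finset.sum_congr rfl fun x _ => ?_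
      split_ifs with h
      · rfl
      · rw [hK', Subgroup.mem_subgroupOf] at h
        rw [hvan x h, zero_mul]
    have hN0 : (Nat.card N : ℂ) ≠ 0 := by exact_mod_cast Nat.card_pos.ne'
    have hK0 : (Nat.card K' : ℂ) ≠ 0 := by exact_mod_cast Nat.card_pos.ne'
    have h2 : ∑ x : N, (ψ : N → ℂ) x * conj ((ψ : N → ℂ) x) = (Nat.card N : ℂ) := by
      field_simp at h1
      exact h1
    rw [hsum, h2]
    have h3 : K.relIndex N * Nat.card K' = Nat.card N := K'.index_mul_card
    rw [← h3]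
    push_cast
    field_simp
  obtain ⟨m, hm, hexp⟩ := isCharacter_expansion hresC
  have hd : ∀ φ : Cfsg.IrrCharacter K', ∃ d : ℕ, (φ : K' → ℂ) 1 = (d : ℂ) := by
    intro φ
    obtain ⟨n, _, h⟩ := irr_one_eq_finrank φ
    exact ⟨n, h⟩
  choose d hd using hd
  have hpar := classInner_parseval res (isCharacter_isClassFunction hresC)
  rw [hnorm] at hpar
  simp only [hm, Complex.conj_natCast] at hpar
  have hpar' : K.relIndex N = ∑ μ : Cfsg.IrrCharacter K', m μ * m μ := by
    exact_mod_cast hpar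
  obtain ⟨n, hn0, hn⟩ := irr_one_eq_finrank ψ
  have hdeg : Cfsg.charDegree (ψ : N → ℂ) = n := by
    unfold Cfsg.charDegree
    rw [hn]
    simp
  have hn' : n = ∑ μ : Cfsg.IrrCharacter K', m μ * d μ := by
    have h3 : (n : ℂ) = ((∑ μ : Cfsg.IrrCharacter K', m μ * d μ : ℕ) : ℂ) := by
      rw [← hn]
      have h4 := congrFun hexp 1
      have h5 : res 1 = (ψ : N → ℂ) 1 := rfl
      rw [← h5, h4]
      simp only [Finset.sum_apply, Pi.smul_apply, smul_eq_mul, hd]
      push_cast
      rfl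
    exact_mod_cast h3
  -- Clifford
  have hconj : ∀ φ φ' : Cfsg.IrrCharacter K', m φ ≠ 0 → m φ' ≠ 0 → m φ' = m φ ∧ d φ' = d φ := by
    intro φ φ' h1 h2
    have h1' : Cfsg.classInner (fun k : K' => (ψ : N → ℂ) k) (φ : K' → ℂ) ≠ 0 := by
      have := hm φ
      rw [hres] at this
      rw [this]
      exact_mod_cast h1
    have h2' : Cfsg.classInner (fun k : K' => (ψ : N → ℂ) k) (φ' : K' → ℂ) ≠ 0 := by
      have := hm φ'
      rw [hres] at this
      rw [this]
      exact_mod_cast h2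
    obtain ⟨k, hk⟩ := clifford_conj K' (ψ : N → ℂ) ψ.2 (φ : K' → ℂ) (φ' : K' → ℂ) φ.2 φ'.2 h1' h2'
    constructor
    · have h3 := hm φ'
      rw [hk, hres, ← cj_res_of_classFunction K' (ψ : N → ℂ) hclψ k, classInner_cj_cj] at h3
      have h4 := hm φ
      rw [hres, h3] at h4
      exact_mod_cast h4
    · have h3 := hd φ'
      rw [hk, cj_apply] at h3
      have e3 : (⟨k * ((1 : K') : N) * k⁻¹, hK'n.conj_mem _ (1 : K').2 k⟩ : K') = 1 := by
        apply Subtype.ext
        simp
      rw [e3, hd φ] at h3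
      exact_mod_cast h3.symm
  rw [hdeg]
  by_cases hex : ∃ φ₀ : Cfsg.IrrCharacter K', m φ₀ ≠ 0
  · obtain ⟨φ₀, h0⟩ := hex
    set O : Finset (Cfsg.IrrCharacter K') := Finset.univ.filter (fun μ => m μ ≠ 0) with hO
    have hs1 : ∑ μ : Cfsg.IrrCharacter K', m μ * m μ = O.card * (m φ₀ * m φ₀) := by
      rw [← Finset.sum_subset (Finset.subset_univ O) (fun μ _ hμ => by
        have : m μ = 0 := by simpa [hO] using hμ
        rw [this, zero_mul])]
      rw [Finset.sum_congr rfl (fun μ hμ => by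
        rw [(hconj φ₀ μ h0 (Finset.mem_filter.mp hμ).2).1]), Finset.sum_const, smul_eq_mul]
    have hs2 : ∑ μ : Cfsg.IrrCharacter K', m μ * d μ = O.card * (m φ₀ * d φ₀) := by
      rw [← Finset.sum_subset (Finset.subset_univ O) (fun μ _ hμ => by
        have : m μ = 0 := by simpa [hO] using hμ
        rw [this, zero_mul])]
      rw [Finset.sum_congr rfl (fun μ hμ => by
        rw [(hconj φ₀ μ h0 (Finset.mem_filter.mp hμ).2).1,
          (hconj φ₀ μ h0 (Finset.mem_filter.mp hμ).2).2]), Finset.sum_const, smul_eq_mul]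
    rw [hpar', hn', hs1, hs2]
    exact ⟨O.card * (d φ₀ * d φ₀), by ring⟩
  · push Not at hex
    have h0 : n = 0 := by
      rw [hn']
      exact Finset.sum_eq_zero fun μ _ => by rw [hex μ, zero_mul]
    rw [h0]
    exact ⟨0, by ring⟩

end partA

end Cfsg.Agent.Lib.Helper28.CD3
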