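import Mathlib
import Cfsg.Agent.Lib.Helper28.CD3.Defs
import Cfsg.Agent.Lib.helper2.CD3FROB1
import Cfsg.Agent.Lib.helper2.CD3TW
import Cfsg.Agent.Lib.Helper20.CD3FROB2
import Cfsg.Agent.Lib.Helper20.CD3FROB3

/-!
# Project CD3, piece FROB (Isaacs Theorem 12.4): assembly of FROB1, FROB2, FROB3 and TW
-/

set_option autoImplicit false
open scoped commutatorElement

namespace Cfsg.Agent.Lib.Helper28.CD3

universe u

section partA
variable {G : Type u} [Group G] [Finite G]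

-- piece FROB (Isaacs Theorem 12.4; assembly of FROB1-3 + TW)
theorem frob_degree (K N : Subgroup G) [K.Normal] [N.Normal] (hKN : K ≤ N)
    (hab : ∀ x ∈ N, ∀ y ∈ N, ⁅x, y⁆ ∈ K)
    (hfpf : ∀ g : G, g ∉ N → ∀ x ∈ N, ⁅g, x⁆ ∈ K → x ∈ K)
    (ψ : Cfsg.IrrCharacter N) :
    N.index * Cfsg.charDegree (ψ : N → ℂ) ∈ Cfsg.charDegrees G ∨
      K.relIndex N ∣ Cfsg.charDegree (ψ : N → ℂ) ^ 2 := by
  by_cases hex : ∃ l : N →* ℂˣ, (∀ x : N, (x : G) ∈ K → l x = 1) ∧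
      ∀ g : G, cjf N (tw N l (ψ : N → ℂ)) g = tw N l (ψ : N → ℂ) → g ∈ N
  · obtain ⟨l, hl, hstab⟩ := hex
    left
    obtain ⟨hirr, hdeg⟩ := tw_irr N l ψ
    have := ind_irr_of_stab N (⟨tw N l (ψ : N → ℂ), hirr⟩ : Cfsg.IrrCharacter N) hstab
    rw [hdeg] at this
    exact this
  · right
    push Not at hex
    have hall : ∀ l : N →* ℂˣ, (∀ x : N, (x : G) ∈ K → l x = 1) →
        ∃ g : G, g ∉ N ∧ cjf N (tw N l (ψ : N → ℂ)) g = tw N l (ψ : N → ℂ) := by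
      intro l hl
      obtain ⟨g, hg1, hg2⟩ := hex l hl
      exact ⟨g, hg2, hg1⟩
    exact dvd_sq_of_all_fix K N hKN hab ψ (frob_all_fix K N hKN hab hfpf ψ hall)

end partA

end Cfsg.Agent.Lib.Helper28.CD3
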