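import Mathlib
import Cfsg.Agent.Lib.helper6.CEB.Defs
import Cfsg.Agent.Lib.Helper20.STCR1
import Cfsg.Agent.Lib.Helper20.STBX3
import Cfsg.Agent.Lib.Helper12.SPBT4

/-!
# Project CEB (designer helper6), rows M1 + M2 + M3 (M3, M4) + M10a + M10 (VERBATIM from `helper6/CEB/Skel.lean.txt`): functoriality facts, the spin element `S.hs a (-1)`.
-/

set_option autoImplicit false
set_option linter.unusedSectionVars false

namespace Cfsg.Agent.Lib.helper6.CEB

open Cfsg.Agent.Lib.helper15.St2 Cfsg.Agent.Lib.helper7.Ce Cfsg.Agent.Lib.helper3.STC Cfsg.Agent.Lib.Lead.STD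
  Cfsg.Agent.Lib.helper7.CED Cfsg.Agent.Lib.Lead.STB
open Cfsg.Agent.Lib.helper7.CEC (I2 I3 I4 U3)

universe v w w'

section M

/-- M1 [S]  the torus elements of the restriction (`rfl`, or `unfold SysB.hs SysB.ws` and `Subgroup.coe_mul`; model CED M1 `zz_restrict`, `Helper29.CEDM1`). -/
theorem hs_restrict {K : Type*} [Field K] {ι : Type*} {G : Type*} [Group G] (S : SysB K ι G) (L : Subgroup G) (hL : ∀ a b t, S.x a b t ∈ L)
    (hLs : ∀ a t, S.xs a t ∈ L) (a : ι ⊕ ι) (t : K) : (((S.restrict L hL hLs).hs a t : L) : G) = S.hs a t := by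
  rfl

/-- M1 [S-M]  the image of a generated system under a surjective homomorphism is generated: `⊤ = map f ⊤ = map f (closure _)` (`Subgroup.map_top_of_surjective`, `MonoidHom.map_closure`), and the image of each generator is a generator
(`SysB.map_x`, `SysB.map_xs`; `Subgroup.closure_mono`).  (Model: the corresponding step in CED M5, `Helper16.CEDM5`.) -/
theorem XQ_map_top {K : Type*} [Field K] {ι : Type*} {G H : Type*} [Group G] [Group H] (S : SysB K ι G) (f : G →* H) (hf : Function.Surjective f)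
    (hgen : S.XQ (fun _ _ => True) (fun _ => True) = ⊤) : (S.map f).XQ (fun _ _ => True) (fun _ => True) = ⊤ := by
  rw [SysB.XQ_map, hgen]
  exact Subgroup.map_top_of_surjective f hf

/-- M1 [S-M]  the restriction of a system to the subgroup generated by its root elements is generated (`Subgroup.closure_closure_coe_preimage`-type argument; model: the corresponding step in CED M6 / CEC M1, `Helper18.CEDM6`, `Helper18.CECM1`). -/
theorem XQ_restrict_top {K : Type*} [Field K] {ι : Type*} {G : Type*} [Group G] (S : SysB K ι G)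
    (hL : ∀ a b t, S.x a b t ∈ S.XQ (fun _ _ => True) (fun _ => True)) (hLs : ∀ a t, S.xs a t ∈ S.XQ (fun _ _ => True) (fun _ => True)) :
    (S.restrict (S.XQ (fun _ _ => True) (fun _ => True)) hL hLs).XQ (fun _ _ => True) (fun _ => True) = ⊤ := by
  rw [eq_top_iff]
  rintro ⟨x, hx⟩ -
  have hmap : S.XQ (fun _ _ => True) (fun _ => True) ≤
      ((S.restrict (S.XQ (fun _ _ => True) (fun _ => True)) hL hLs).XQ (fun _ _ => True) (fun _ => True)).map
        (S.XQ (fun _ _ => True) (fun _ => True)).subtype := by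
    conv_lhs => unfold SysB.XQ
    rw [Subgroup.closure_le]
    rintro _ (⟨a, b, t, hab, hab', -, rfl⟩ | ⟨a, t, -, rfl⟩)
    · refine ⟨(S.restrict (S.XQ (fun _ _ => True) (fun _ => True)) hL hLs).x a b t, ?_, rfl⟩
      exact Subgroup.subset_closure (Or.inl ⟨a, b, t, hab, hab', trivial, rfl⟩)
    · refine ⟨(S.restrict (S.XQ (fun _ _ => True) (fun _ => True)) hL hLs).xs a t, ?_, rfl⟩
      exact Subgroup.subset_closure (Or.inr ⟨a, t, trivial, rfl⟩)
  obtain ⟨x', hx', hxx⟩ := hmap hx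
  have : x' = ⟨x, hx⟩ := Subtype.ext hxx
  rw [← this]
  exact hx'

variable {K : Type*} [Field K] [Finite K] {ι : Type*} {G : Type*} [Group G] (S : SysB K ι G)

/-- M2 [M]  the spin element acts trivially on the root elements: `S.isMon_hs a (-1)` (permutation `1`, coefficients `dhb a (-1)`, all equal to `1`: `(-1) ^ 2 = 1`, `((-1)⁻¹) ^ 2 = 1`; `d0 = 1`), so `cj (hs a (-1))` fixes every `x k l t` (`k ≠ l`)
and every `xs k t`.  With `hgen`: central (`Subgroup.closure_induction` on the generators of `S.XQ _ _`; model CED M2 `zz_central`, `helper23.CEDM2`). -/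
theorem hs_neg_one_central [DecidableEq ι] (hgen : S.XQ (fun _ _ => True) (fun _ => True) = ⊤) (a : ι ⊕ ι) (g : G) :
    S.hs a (-1) * g = g * S.hs a (-1) :=
  (S.hs_neg_one_comm hgen a g).symm

/-- M3 [S]  `S.hs_mul a (-1) (-1)`, `S.hs_one` (`(-1) * (-1) = 1`). -/
theorem hs_neg_one_sq (a : ι ⊕ ι) : S.hs a (-1) * S.hs a (-1) = 1 :=
  SysB.hs_neg_one_sq S a

/-- M4 [S-M]  the spin element does not depend on the index: `b = a`; `b = ng a`: `S.hs_swap` (`(-1)⁻¹ = -1`); else STB H6 `S.hs_neg_one_eq`. -/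
theorem hs_neg_one_indep [DecidableEq ι] (a b : ι ⊕ ι) : S.hs a (-1) = S.hs b (-1) :=
  S.hs_neg_one_eq_all a b

/-- M10a [M]  a pure matrix identity.  On the coordinates `(i0, A, ng A)` the matrices are `TbS A t = [[1,0,t],[-2t,1,-t²],[0,0,1]]`, `TbS (ng A) s = [[1,s,0],[0,1,0],[-2s,-s²,1]]`, the identity elsewhere;
`W := TbS A (-1) * TbS (ng A) (-1) * TbS A (-1) = [[-1,0,0],[0,0,-1],[0,-1,0]]` (`e_0 ↦ -e_0`, `e_A ↦ -e_{-A}`, `e_{-A} ↦ -e_A`), `W * W = 1`.  Expand the products of the `1 + single …` with `Matrix.single_mul_single_same`,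
`Matrix.single_mul_single_of_ne` (`i0 ≠ Sum.inr _`, `A ≠ ng A`: `ne_ng`), or compute entrywise (`ext i j`, `Matrix.mul_apply`, `Fintype.sum_sum_type`).  (Cf. STD R5, `Helper18.STDR5`, and the lead's STB part 3 if it has the matrix of `ws`.) -/
theorem TbS_ws_sq {K : Type*} [Field K] {l : Type*} [Fintype l] [DecidableEq l] (A : l ⊕ l) :
    (TbS A (-1 : K) * TbS (ng A) (-1) * TbS A (-1)) * (TbS A (-1 : K) * TbS (ng A) (-1) * TbS A (-1)) = 1 := by
  have h := Cfsg.Agent.Lib.helper3.SPB.TbS_ws_sq A (-1 : K) (neg_ne_zero.2 one_ne_zero)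
  rw [inv_neg, inv_one] at h
  exact h

/-- M10 [S-M]  a representation kills the spin element: `hs a (-1) = ws a (-1) * ws a (-1)` (`SysB.hs`), `ws` unfolded, `map_mul`, `R.hφs` (`Units.ext`; `Em R.e (ng a) = ng (Em R.e a)`), `TbS_ws_sq`.  (Model CED M10 `rep_zz`, `Helper29.CEDM10`.) -/
theorem rep_hs {l : Type*} [Fintype l] [DecidableEq l] (R : S.Rep l) (a : ι ⊕ ι) : R.φ (S.hs a (-1)) = 1 := by
  apply Units.ext
  have hw : ((R.φ (S.ws a (-1)) : Matrix.GeneralLinearGroup (Ix l) K) : Matrix (Ix l) (Ix l) K) =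
      TbS (Em R.e a) (-1 : K) * TbS (ng (Em R.e a)) (-1) * TbS (Em R.e a) (-1) := by
    unfold SysB.ws
    rw [map_mul, map_mul, Units.val_mul, Units.val_mul, R.hφs, R.hφs, Em_ng, inv_neg, inv_one]
  unfold SysB.hs
  rw [map_mul, Units.val_mul, hw, TbS_ws_sq, Units.val_one]

end M

end Cfsg.Agent.Lib.helper6.CEB
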