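import Mathlib
import Cfsg.Agent.Lib.helper7.CEC.Defs
import Cfsg.Agent.Lib.Helper24.STCI1
import Cfsg.Agent.Lib.Helper22.STCF1

/-!
# Project CEC (designer helper7), rows L5 `Dl_scale` and L6 `Dl_flip`: cores

The statements of the rows L3 (`Dl_map`, `Dl_zero`), L4 (`Dl_cj`), G1 (`cj_eq_of_CL`), G2 (`CL_h`, `CL_w`) are hypotheses.
-/

set_option autoImplicit false

namespace Cfsg.Agent.Lib.helper7.CEC

open Cfsg.Agent.Lib.helper15.St2 Cfsg.Agent.Lib.helper7.Ce Cfsg.Agent.Lib.helper3.STC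

section L

variable {K : Type*} [Field K] {ι : Type*} {Γ G : Type*} [Group Γ] [Group G] {S : SysC K ι G} {σ : Γ →* G} {h : IsCE σ}

/-- unpacking `ab a ≠ ab b` -/
theorem cecl5_ne {a b : ι ⊕ ι} (hab : ab a ≠ ab b) : a ≠ b ∧ a ≠ ng b ∧ ng a ≠ b ∧ ng a ≠ ng b := by
  have h1 : a ≠ b := fun e => hab (by rw [e])
  have h2 : a ≠ ng b := fun e => hab (ab_eq_iff.2 (Or.inr e))
  refine ⟨h1, h2, ?_, ?_⟩
  · intro e
    exact h2 (ng_eq_iff.1 e)
  · intro e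
    exact h1 (ng_inj.1 e)

/-- lifts of the long root elements of `a` commute with lifts of the long root elements `(ng b, b)` -/
theorem cecl5_CL_long (hC : HC S σ) {a b : ι ⊕ ι} (hab : ab a ≠ ab b) (t s : K) :
    CL σ (S.x a (ng a) t) (S.x (ng b) b s) ∧ CL σ (S.x (ng a) a t) (S.x (ng b) b s) := by
  obtain ⟨h1, h2, h3, h4⟩ := cecl5_ne hab
  constructor
  · refine hC a (ng a) (ng b) b (ne_ng a) (ng_ne b) h4 h1 h4 ?_ t s
    rw [ng_ng]; exact h1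
  · refine hC (ng a) a (ng b) b (ng_ne a) (ng_ne b) h2 h3 h2 ?_ t s
    rw [ng_ng]; exact h3

theorem cecl5_core [DecidableEq ι] (hC : HC S σ) (hH : S.HH) (L : ShortLift S h)
    (hDl_map : ∀ {a b : ι ⊕ ι} (_ : ab a ≠ ab b) (t u : K),
      σ (Dl L a b t u) = S.x (ng b) b (sg a * sg b * t * u ^ 2))
    (hDl_zero : ∀ {a b : ι ⊕ ι} (_ : ab a ≠ ab b) (t u : K), Dl L a b 0 u = 1 ∧ Dl L a b t 0 = 1)
    (hDl_cj : ∀ {g : G} {π : Equiv.Perm (ι ⊕ ι)} {d : ι ⊕ ι → K} (_ : S.IsMon g π d)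
      (_ : ∀ k, π (ng k) = ng (π k)) {e : Γ} (_ : σ e = g) {a b : ι ⊕ ι} (_ : ab a ≠ ab b) (t u : K),
      cj e (Dl L a b t u) = Dl L (π a) (π b) (d a * (d (ng a))⁻¹ * t) (d (ng a) * (d b)⁻¹ * u))
    (hcj_eq : ∀ {g y : G} (_ : CL σ g y) {e X : Γ} (_ : σ e = g) (_ : σ X = y), cj e X = X)
    (hCL_h : ∀ {c d : ι ⊕ ι} {y : G} (_ : ∀ t, CL σ (S.x c d t) y) (_ : ∀ t, CL σ (S.x d c t) y) (u : K),
      CL σ (S.h c d u) y)
    {a b : ι ⊕ ι} (hab : ab a ≠ ab b) (t u : K) :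
    Dl L a b t u = Dl L a b (t * u ^ 2) 1 := by
  obtain ⟨h1, h2, h3, h4⟩ := cecl5_ne hab
  by_cases hu : u = 0
  · subst hu
    rw [(hDl_zero hab t 0).2]
    have : t * (0 : K) ^ 2 = 0 := by ring
    rw [this, (hDl_zero hab 0 1).1]
  · have hg := SysC.HH.long S hH a u hu
    have he : σ (lf h (S.h a (ng a) u)) = S.h a (ng a) u := map_lf h _
    have hcj := hDl_cj hg (fun k => rfl) he hab t u
    have hCL : CL σ (S.h a (ng a) u) (σ (Dl L a b t u)) := by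
      rw [hDl_map hab]
      exact hCL_h (fun t' => (cecl5_CL_long hC hab t' _).1) (fun t' => (cecl5_CL_long hC hab t' _).2) u
    have hinv : cj (lf h (S.h a (ng a) u)) (Dl L a b t u) = Dl L a b t u := hcj_eq hCL he rfl
    rw [hinv] at hcj
    rw [hcj]
    have hb1 : b ≠ a := fun e => h1 e.symm
    have hb2 : b ≠ ng a := fun e => h3 e.symm
    have d1 : dhl a u a = u := by simp [dhl]
    have d2 : dhl a u (ng a) = u⁻¹ := by simp [dhl, ng_ne a]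
    have d3 : dhl a u b = 1 := by simp [dhl, hb1, hb2]
    rw [d1, d2, d3]
    simp only [Equiv.Perm.one_apply]
    congr 1
    · field_simp
    · field_simp

theorem cecl6_core [DecidableEq ι] (hC : HC S σ) (hW : S.HW) (L : ShortLift S h)
    (hDl_map : ∀ {a b : ι ⊕ ι} (_ : ab a ≠ ab b) (t u : K),
      σ (Dl L a b t u) = S.x (ng b) b (sg a * sg b * t * u ^ 2))
    (hDl_cj : ∀ {g : G} {π : Equiv.Perm (ι ⊕ ι)} {d : ι ⊕ ι → K} (_ : S.IsMon g π d)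
      (_ : ∀ k, π (ng k) = ng (π k)) {e : Γ} (_ : σ e = g) {a b : ι ⊕ ι} (_ : ab a ≠ ab b) (t u : K),
      cj e (Dl L a b t u) = Dl L (π a) (π b) (d a * (d (ng a))⁻¹ * t) (d (ng a) * (d b)⁻¹ * u))
    (hcj_eq : ∀ {g y : G} (_ : CL σ g y) {e X : Γ} (_ : σ e = g) (_ : σ X = y), cj e X = X)
    (hCL_w : ∀ {c d : ι ⊕ ι} {y : G} (_ : ∀ t, CL σ (S.x c d t) y) (_ : ∀ t, CL σ (S.x d c t) y) (u : K),
      CL σ (S.w c d u) y)
    {a b : ι ⊕ ι} (hab : ab a ≠ ab b) (t : K) :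
    Dl L a b t 1 = Dl L (ng a) b (-t) 1 := by
  obtain ⟨h1, h2, h3, h4⟩ := cecl5_ne hab
  have hg := SysC.HW.long S hW a 1 one_ne_zero
  have he : σ (lf h (S.w a (ng a) 1)) = S.w a (ng a) 1 := map_lf h _
  have hπ : ∀ k, (Equiv.swap a (ng a)) (ng k) = ng ((Equiv.swap a (ng a)) k) := by
    intro k
    by_cases hk : k = a
    · subst hk
      rw [Equiv.swap_apply_right, Equiv.swap_apply_left, ng_ng]
    · by_cases hk' : k = ng a
      · subst hk'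
        rw [ng_ng, Equiv.swap_apply_left, Equiv.swap_apply_right]
      · have e1 : ng k ≠ a := fun e => hk' (ng_eq_iff.1 e)
        have e2 : ng k ≠ ng a := fun e => hk (ng_inj.1 e)
        rw [Equiv.swap_apply_of_ne_of_ne e1 e2, Equiv.swap_apply_of_ne_of_ne hk hk']
  have hcj := hDl_cj hg hπ he hab t 1
  have hCL : CL σ (S.w a (ng a) 1) (σ (Dl L a b t 1)) := by
    rw [hDl_map hab]
    exact hCL_w (fun t' => (cecl5_CL_long hC hab t' _).1) (fun t' => (cecl5_CL_long hC hab t' _).2) 1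
  have hinv : cj (lf h (S.w a (ng a) 1)) (Dl L a b t 1) = Dl L a b t 1 := hcj_eq hCL he rfl
  rw [hinv] at hcj
  rw [hcj]
  have hb1 : b ≠ a := fun e => h1 e.symm
  have hb2 : b ≠ ng a := fun e => h3 e.symm
  have d1 : dwl a (1 : K) a = -1 := by simp [dwl]
  have d2 : dwl a (1 : K) (ng a) = 1 := by simp [dwl, ng_ne a]
  have d3 : dwl a (1 : K) b = 1 := by simp [dwl, hb1, hb2]
  rw [d1, d2, d3, Equiv.swap_apply_left, Equiv.swap_apply_of_ne_of_ne hb1 hb2]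
  congr 1
  · simp
  · simp

end L

end Cfsg.Agent.Lib.helper7.CEC
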