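import Mathlib
import Cfsg.Agent.Lib.helper14.CTE.Defs
import Cfsg.Agent.Lib.Helper20.CTEEDGEcore
import Cfsg.Agent.Lib.helper4.CTEEDGE0
import Cfsg.Agent.Lib.Helper21.CTEAUTU
import Cfsg.Agent.Lib.Helper29.CTEAUTcore

/-!
# Project CTE, piece EDGE (verbatim): extend a good identification of `L a` along the edge `a — b`
(`cteedge_core` fed with `edge0` of helper4 and `cteaut_core` of helper29 + `aut_U` of helper21)
-/

set_option autoImplicit false

namespace Cfsg.Agent.Lib.helper14.CTE

open Matrix

universe u v w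

variable {F : Type u} [Field F] {G : Type v} [Group G] {ι : Type w}

/-- EDGE: extend a good identification of `L a` along the edge `a — b`. -/
theorem edge [Fintype F] [Finite G] (h2 : (2 : F) ≠ 0) (A : Amalgam F G ι) (a b : ι) (hab : A.Adj a b)
    (ψa : SL2 F →* G) (hψ : Good A a ψa) :
    ∃ Θ : SL3 F →* G, Θ.comp blk12 = ψa ∧ Good A b (Θ.comp blk23) :=
  cteedge_core A a b hab ψa hψ (edge0 h2 A a b hab)
    (fun α h => cteaut_core h2 α (aut_U h2 α h))

end Cfsg.Agent.Lib.helper14.CTE
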