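import Mathlib

/-!
# Critical groups with spectrum `{1, r, q}`

We build, for distinct primes `r q`, a finite group with element orders `{1, r, q}` in which the
elements with `x ^ r = 1` are closed under multiplication, and show that such groups have a
critical section with the same properties.
-/

namespace Cfsg.Agent.Lib.Helper20.Crit

/-- The affine maps `x ↦ u x + v` with `u ^ q = 1`. -/
@[ext]
structure Aff (K : Type) [Field K] (q : ℕ) where
  u : K
  hu : u ^ q = 1
  v : K

namespace Aff

variable {K : Type} [Field K] {q : ℕ}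

theorem u_ne_zero (hq : q ≠ 0) (a : Aff K q) : a.u ≠ 0 := by
  intro h
  have := a.hu
  rw [h, zero_pow hq] at this
  exact zero_ne_one this

instance instMul : Mul (Aff K q) :=
  ⟨fun a b => ⟨a.u * b.u, by rw [mul_pow, a.hu, b.hu, mul_one], a.v + a.u * b.v⟩⟩

instance instOne : One (Aff K q) := ⟨⟨1, one_pow q, 0⟩⟩

instance instInv : Inv (Aff K q) :=
  ⟨fun a => ⟨a.u⁻¹, by rw [inv_pow, a.hu, inv_one], -(a.u⁻¹ * a.v)⟩⟩

@[simp] theorem mul_u (a b : Aff K q) : (a * b).u = a.u * b.u := rfl
@[simp] theorem mul_v (a b : Aff K q) : (a * b).v = a.v + a.u * b.v := rfl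
@[simp] theorem one_u : (1 : Aff K q).u = 1 := rfl
@[simp] theorem one_v : (1 : Aff K q).v = 0 := rfl
@[simp] theorem inv_u (a : Aff K q) : (a⁻¹).u = a.u⁻¹ := rfl
@[simp] theorem inv_v (a : Aff K q) : (a⁻¹).v = -(a.u⁻¹ * a.v) := rfl

instance instGroup [hq : NeZero q] : Group (Aff K q) where
  mul_assoc a b c := by
    ext
    · simp [mul_assoc]
    · simp; ring
  one_mul a := by ext <;> simp
  mul_one a := by ext <;> simp
  inv_mul_cancel a := by
    have h := u_ne_zero hq.out a
    ext
    · simp [h]
    · simp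

variable [hq : NeZero q]

theorem pow_u (a : Aff K q) (n : ℕ) : (a ^ n).u = a.u ^ n := by
  induction n with
  | zero => simp
  | succ n ih => rw [pow_succ, mul_u, ih, pow_succ]

theorem pow_v (a : Aff K q) (n : ℕ) : (a ^ n).v = a.v * ∑ i ∈ Finset.range n, a.u ^ i := by
  induction n with
  | zero => simp
  | succ n ih =>
    rw [pow_succ, mul_v, ih, pow_u, Finset.sum_range_succ]
    ring

theorem pow_q_of_ne (a : Aff K q) (h : a.u ≠ 1) : a ^ q = 1 := by
  ext
  · rw [pow_u, a.hu, one_u]
  · rw [pow_v, one_v]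
    have h1 : (∑ i ∈ Finset.range q, a.u ^ i) * (a.u - 1) = 0 := by
      rw [geom_sum_mul, a.hu, sub_self]
    rcases mul_eq_zero.1 h1 with h2 | h2
    · rw [h2, mul_zero]
    · exact absurd (sub_eq_zero.1 h2) h

theorem pow_r_of_eq (r : ℕ) [CharP K r] (a : Aff K q) (h : a.u = 1) : a ^ r = 1 := by
  ext
  · rw [pow_u, h, one_pow, one_u]
  · rw [pow_v, one_v, h]
    simp

theorem u_eq_one_of_pow_r (r : ℕ) (hrq : Nat.Coprime r q) (a : Aff K q) (h : a ^ r = 1) :
    a.u = 1 := by
  by_contra hne
  have h2 := pow_q_of_ne a hne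
  have h3 : orderOf a ∣ r := orderOf_dvd_of_pow_eq_one h
  have h4 : orderOf a ∣ q := orderOf_dvd_of_pow_eq_one h2
  have h5 : orderOf a ∣ 1 := by
    have := Nat.dvd_gcd h3 h4
    rwa [hrq.gcd_eq_one] at this
  have h6 : a = 1 := orderOf_eq_one_iff.1 (Nat.dvd_one.1 h5)
  rw [h6] at hne
  exact hne rfl

noncomputable instance instFintype [Fintype K] : Fintype (Aff K q) :=
  Fintype.ofInjective (fun a : Aff K q => (a.u, a.v)) (by
    intro a b h
    simp only [Prod.mk.injEq] at h
    exact Aff.ext h.1 h.2)

end Aff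

/-- The "good" property: all elements have `x ^ r = 1` or `x ^ q = 1`, and the `r`-torsion
elements are closed under multiplication. -/
def Good (r q : ℕ) (F : Type) [Group F] : Prop :=
  (∀ x : F, x ^ r = 1 ∨ x ^ q = 1) ∧ (∀ x y : F, x ^ r = 1 → y ^ r = 1 → (x * y) ^ r = 1)

theorem Good.subgroup {r q : ℕ} {F : Type} [Group F] (h : Good r q F) (H : Subgroup F) :
    Good r q ↥H := by
  constructor
  · intro x
    rcases h.1 (x : F) with h1 | h1
    · left; apply Subtype.ext; simpa using h1
    · right; apply Subtype.ext; simpa using h1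
  · intro x y hx hy
    have hx' : (x : F) ^ r = 1 := by
      have := congrArg Subtype.val hx
      simpa using this
    have hy' : (y : F) ^ r = 1 := by
      have := congrArg Subtype.val hy
      simpa using this
    apply Subtype.ext
    have := h.2 _ _ hx' hy'
    simpa using this

theorem Good.quotient {r q : ℕ} (hrq : Nat.Coprime r q) {F : Type} [Group F] (h : Good r q F)
    (N : Subgroup F) [N.Normal] : Good r q (F ⧸ N) := by
  -- every `r`-torsion element of the quotient has an `r`-torsion representative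
  have key : ∀ z : F ⧸ N, z ^ r = 1 → ∃ x : F, (x : F ⧸ N) = z ∧ x ^ r = 1 := by
    intro z hz
    induction z using QuotientGroup.induction_on with
    | H x =>
      rcases h.1 x with h1 | h1
      · exact ⟨x, rfl, h1⟩
      · refine ⟨1, ?_, one_pow r⟩
        -- `x ∈ N`
        have hxr : x ^ r ∈ N := by
          rw [← QuotientGroup.eq_one_iff]
          rw [QuotientGroup.mk_pow]
          exact hz
        have hx : x ∈ N := by
          have hb := Nat.gcd_eq_gcd_ab r q
          rw [hrq.gcd_eq_one] at hb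
          have : x = (x ^ r) ^ (Nat.gcdA r q) * (x ^ q) ^ (Nat.gcdB r q) := by
            rw [← zpow_natCast x r, ← zpow_natCast x q, ← zpow_mul, ← zpow_mul, ← zpow_add, ← hb]
            simp
          rw [this, h1, one_zpow, mul_one]
          exact N.zpow_mem hxr _
        rw [QuotientGroup.mk_one]
        symm
        rwa [QuotientGroup.eq_one_iff]
  constructor
  · intro z
    induction z using QuotientGroup.induction_on with
    | H x =>
      rcases h.1 x with h1 | h1
      · left; rw [← QuotientGroup.mk_pow, h1, QuotientGroup.mk_one]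
      · right; rw [← QuotientGroup.mk_pow, h1, QuotientGroup.mk_one]
  · intro z w hz hw
    obtain ⟨x, rfl, hx⟩ := key z hz
    obtain ⟨y, rfl, hy⟩ := key w hw
    rw [← QuotientGroup.mk_mul, ← QuotientGroup.mk_pow, h.2 x y hx hy, QuotientGroup.mk_one]

/-- no group is good both ways and has elements of orders `r` and `q` -/
theorem Good.not_both {r q : ℕ} (hr : r.Prime) (hq : q.Prime) (hrq : r ≠ q) {F : Type} [Group F]
    (h1 : Good r q F) (h2 : Good q r F) (x y : F) (hx : orderOf x = r) (hy : orderOf y = q) :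
    False := by
  have hcop : Nat.Coprime r q := (Nat.coprime_primes hr hq).2 hrq
  have hxr : x ^ r = 1 := by rw [← hx]; exact pow_orderOf_eq_one x
  have hyq : y ^ q = 1 := by rw [← hy]; exact pow_orderOf_eq_one y
  -- conjugates of torsion elements
  have conj_r : ∀ g z : F, z ^ r = 1 → (g * z * g⁻¹) ^ r = 1 := by
    intro g z hz
    rw [conj_pow, hz, mul_one, mul_inv_cancel]
  have conj_q : ∀ g z : F, z ^ q = 1 → (g * z * g⁻¹) ^ q = 1 := by
    intro g z hz
    rw [conj_pow, hz, mul_one, mul_inv_cancel]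
  -- the commutator
  set c : F := x * y * x⁻¹ * y⁻¹ with hc
  have hcr : c ^ r = 1 := by
    have e : c = x * (y * x⁻¹ * y⁻¹) := by rw [hc]; group
    rw [e]
    apply h1.2 _ _ hxr
    apply conj_r
    rw [inv_pow, hxr, inv_one]
  have hcq : c ^ q = 1 := by
    have e : c = (x * y * x⁻¹) * y⁻¹ := by rw [hc]
    rw [e]
    apply h2.2
    · exact conj_q _ _ hyq
    · rw [inv_pow, hyq, inv_one]
  have hc1 : c = 1 := by
    have h3 : orderOf c ∣ r := orderOf_dvd_of_pow_eq_one hcr
    have h4 : orderOf c ∣ q := orderOf_dvd_of_pow_eq_one hcq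
    have h5 : orderOf c ∣ 1 := by
      have := Nat.dvd_gcd h3 h4
      rwa [hcop.gcd_eq_one] at this
    exact orderOf_eq_one_iff.1 (Nat.dvd_one.1 h5)
  have hcomm : Commute x y := by
    change x * y = y * x
    have : x * y * x⁻¹ * y⁻¹ = 1 := hc1
    calc x * y = (x * y * x⁻¹ * y⁻¹) * (y * x) := by group
      _ = y * x := by rw [this, one_mul]
  have hord : orderOf (x * y) = r * q := by
    rw [hcomm.orderOf_mul_eq_mul_orderOf_of_coprime (by rw [hx, hy]; exact hcop), hx, hy]
  rcases h1.1 (x * y) with h | h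
  · have := orderOf_dvd_of_pow_eq_one h
    rw [hord] at this
    have h6 : q ∣ r := (dvd_mul_left q r).trans this
    rw [Nat.prime_dvd_prime_iff_eq hq hr] at h6
    exact hrq h6.symm
  · have := orderOf_dvd_of_pow_eq_one h
    rw [hord] at this
    have h6 : r ∣ q := (dvd_mul_right r q).trans this
    rw [Nat.prime_dvd_prime_iff_eq hr hq] at h6
    exact hrq h6

/-- the critical property -/
def IsCrit (S : Set ℕ) (F : Type) [Group F] : Prop :=
  ∀ (H : Subgroup F) (N : Subgroup ↥H) [N.Normal], (H ≠ ⊤ ∨ N ≠ ⊥) →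
    Set.range (orderOf : (↥H ⧸ N) → ℕ) ≠ S

theorem exists_base (r q : ℕ) (hr : r.Prime) (hq : q.Prime) (hrq : r ≠ q) :
    ∃ (F : Type) (_ : Group F) (_ : Fintype F), Good r q F ∧ (∃ x : F, orderOf x = r) ∧
      (∃ y : F, orderOf y = q) := by
  haveI : Fact r.Prime := ⟨hr⟩
  haveI : Fact q.Prime := ⟨hq⟩
  haveI : NeZero q := ⟨hq.ne_zero⟩
  have hcop : Nat.Coprime r q := (Nat.coprime_primes hr hq).2 hrq
  let K := GaloisField r (q - 1)
  haveI : Fintype K := Fintype.ofFinite K
  refine ⟨Aff K q, inferInstance, inferInstance, ⟨?_, ?_⟩, ?_, ?_⟩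
  · intro a
    by_cases h : a.u = 1
    · left; exact Aff.pow_r_of_eq r a h
    · right; exact Aff.pow_q_of_ne a h
  · intro a b ha hb
    apply Aff.pow_r_of_eq r
    rw [Aff.mul_u, Aff.u_eq_one_of_pow_r r hcop a ha, Aff.u_eq_one_of_pow_r r hcop b hb, one_mul]
  · refine ⟨⟨1, one_pow q, 1⟩, ?_⟩
    apply orderOf_eq_prime
    · exact Aff.pow_r_of_eq r _ rfl
    · intro h
      have := congrArg Aff.v h
      simp at this
  · -- an element of order `q` in `Kˣ`
    have hq1 : q - 1 ≠ 0 := by have := hq.two_le; omega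
    have hcard : Nat.card Kˣ = r ^ (q - 1) - 1 := by
      rw [Nat.card_units, GaloisField.card r (q - 1) hq1]
    have hdvd : q ∣ Nat.card Kˣ := by
      rw [hcard]
      have h1 : ((r : ZMod q)) ^ (q - 1) = 1 := by
        apply ZMod.pow_card_sub_one_eq_one
        intro h0
        rw [ZMod.natCast_eq_zero_iff] at h0
        rw [Nat.prime_dvd_prime_iff_eq hq hr] at h0
        exact hrq h0.symm
      have h2 : ((r ^ (q - 1) : ℕ) : ZMod q) = ((1 : ℕ) : ZMod q) := by
        push_cast
        exact h1
      rw [ZMod.natCast_eq_natCast_iff] at h2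
      exact (Nat.modEq_iff_dvd' (Nat.one_le_pow _ _ hr.pos)).1 h2.symm
    obtain ⟨ζ, hζ⟩ := exists_prime_orderOf_dvd_card' q hdvd
    have hζq : (ζ : K) ^ q = 1 := by
      have := pow_orderOf_eq_one ζ
      rw [hζ] at this
      have := congrArg Units.val this
      simpa using this
    have hζ1 : (ζ : K) ≠ 1 := by
      intro h
      have : ζ = 1 := Units.ext h
      rw [this, orderOf_one] at hζ
      have := hq.two_le
      omega
    refine ⟨⟨(ζ : K), hζq, 0⟩, ?_⟩
    apply orderOf_eq_prime
    · exact Aff.pow_q_of_ne _ hζ1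
    · intro h
      have := congrArg Aff.u h
      exact hζ1 this

theorem spectrum_of_good {r q : ℕ} (hr : r.Prime) (hq : q.Prime) {F : Type} [Group F]
    (h : Good r q F) (hx : ∃ x : F, orderOf x = r) (hy : ∃ y : F, orderOf y = q) :
    Set.range (orderOf : F → ℕ) = {1, r, q} := by
  ext m
  constructor
  · rintro ⟨x, rfl⟩
    rcases h.1 x with h1 | h1
    · have := orderOf_dvd_of_pow_eq_one h1
      rcases (Nat.dvd_prime hr).1 this with h2 | h2
      · rw [h2]; simp
      · rw [h2]; simp
    · have := orderOf_dvd_of_pow_eq_one h1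
      rcases (Nat.dvd_prime hq).1 this with h2 | h2
      · rw [h2]; simp
      · rw [h2]; simp
  · intro hm
    simp only [Set.mem_insert_iff, Set.mem_singleton_iff] at hm
    rcases hm with rfl | rfl | rfl
    · exact ⟨1, orderOf_one⟩
    · exact hx
    · exact hy

theorem exists_crit_aux (r q : ℕ) (hr : r.Prime) (hq : q.Prime) (hrq : r ≠ q) :
    ∀ n : ℕ, ∀ (F : Type) [Group F] [Fintype F], Nat.card F = n → Good r q F →
      Set.range (orderOf : F → ℕ) = {1, r, q} →
      ∃ (X : Type) (_ : Group X) (_ : Fintype X), Good r q X ∧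
        Set.range (orderOf : X → ℕ) = {1, r, q} ∧ IsCrit {1, r, q} X := by
  have hcop : Nat.Coprime r q := (Nat.coprime_primes hr hq).2 hrq
  intro n
  induction n using Nat.strong_induction_on with
  | _ n ih =>
    intro F _ _ hn hgood hspec
    by_cases hcrit : IsCrit {1, r, q} F
    · exact ⟨F, inferInstance, inferInstance, hgood, hspec, hcrit⟩
    · unfold IsCrit at hcrit
      push Not at hcrit
      obtain ⟨H, N, hN, hne, hrange⟩ := hcrit
      haveI : Fintype (↥H ⧸ N) := Fintype.ofFinite _
      have hlt : Nat.card (↥H ⧸ N) < n := by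
        have h1 : Nat.card (↥H ⧸ N) * Nat.card N = Nat.card H :=
          (Subgroup.card_eq_card_quotient_mul_card_subgroup N).symm
        have h2 : Nat.card H ≤ Nat.card F := Subgroup.card_le_card_group H
        have hNpos : 0 < Nat.card N := Nat.card_pos
        have hQpos : 0 < Nat.card (↥H ⧸ N) := Nat.card_pos
        rcases hne with hH | hNb
        · have h3 : Nat.card H ≠ Nat.card F := fun h => hH ((Subgroup.card_eq_iff_eq_top H).1 h)
          have h4 : Nat.card (↥H ⧸ N) ≤ Nat.card H := by
            rw [← h1]; exact Nat.le_mul_of_pos_right _ hNpos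
          omega
        · have h3 : 1 < Nat.card N := by
            by_contra hle
            push Not at hle
            have : Nat.card N = 1 := by omega
            exact hNb ((Subgroup.card_eq_one).1 this)
          have h4 : Nat.card (↥H ⧸ N) < Nat.card H := by
            rw [← h1]
            exact lt_mul_of_one_lt_right hQpos h3
          omega
      exact ih _ hlt (↥H ⧸ N) rfl ((hgood.subgroup H).quotient hcop N) hrange

theorem exists_crit (r q : ℕ) (hr : r.Prime) (hq : q.Prime) (hrq : r ≠ q) :
    ∃ (X : Type) (_ : Group X) (_ : Fintype X), Good r q X ∧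
      Set.range (orderOf : X → ℕ) = {1, r, q} ∧ IsCrit {1, r, q} X := by
  obtain ⟨F, hG, hF, hgood, hx, hy⟩ := exists_base r q hr hq hrq
  exact exists_crit_aux r q hr hq hrq _ F rfl hgood (spectrum_of_good hr hq hgood hx hy)

end Cfsg.Agent.Lib.Helper20.Crit
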