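import Mathlib
import Cfsg.Agent.Lib.Helper20.Crit1

/-!
# Products of critical groups of pairwise coprime orders
-/

namespace Cfsg.Agent.Lib.Helper20.Crit

section Prod

variable {ι : Type} [Fintype ι] [DecidableEq ι] {Y : ι → Type} [∀ i, Group (Y i)]
  [∀ i, Fintype (Y i)]

theorem exists_pow_eq_mulSingle
    (hcop : ∀ i j, i ≠ j → Nat.Coprime (Nat.card (Y i)) (Nat.card (Y j)))
    (g : ∀ i, Y i) (j : ι) :
    ∃ e : ℕ, g ^ e = Pi.mulSingle j (g j) ∧ e ≡ 1 [MOD Nat.card (Y j)] := by
  set M := ∏ i ∈ Finset.univ.erase j, Nat.card (Y i) with hM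
  have hMc : Nat.Coprime M (Nat.card (Y j)) := by
    rw [hM]
    apply Nat.Coprime.prod_left
    intro i hi
    exact hcop i j (Finset.ne_of_mem_erase hi)
  haveI : NeZero (Nat.card (Y j)) := ⟨Nat.card_pos.ne'⟩
  obtain ⟨t, ht⟩ : ∃ t, M * t ≡ 1 [MOD Nat.card (Y j)] := by
    refine ⟨((ZMod.unitOfCoprime M hMc)⁻¹ : (ZMod (Nat.card (Y j)))ˣ).val.val, ?_⟩
    rw [← ZMod.natCast_eq_natCast_iff]
    push_cast
    rw [ZMod.natCast_zmod_val, ← ZMod.coe_unitOfCoprime M hMc, ← Units.val_mul, mul_inv_cancel]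
    simp
  refine ⟨M * t, ?_, ht⟩
  funext i
  rw [Pi.pow_apply]
  by_cases hij : i = j
  · subst hij
    rw [Pi.mulSingle_eq_same]
    have : (g i) ^ (M * t) = (g i) ^ 1 := by
      rw [pow_eq_pow_iff_modEq]
      exact ht.of_dvd (orderOf_dvd_natCard (g i))
    rw [this, pow_one]
  · rw [Pi.mulSingle_eq_of_ne hij]
    have hd : Nat.card (Y i) ∣ M * t := by
      apply dvd_mul_of_dvd_left
      rw [hM]
      exact Finset.dvd_prod_of_mem _ (Finset.mem_erase.2 ⟨hij, Finset.mem_univ _⟩)
    obtain ⟨k, hk⟩ := hd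
    rw [hk, pow_mul, pow_card_eq_one', one_pow]

theorem orderOf_pi_eq_prod
    (hcop : ∀ i j, i ≠ j → Nat.Coprime (Nat.card (Y i)) (Nat.card (Y j)))
    (g : ∀ i, Y i) : orderOf g = ∏ i, orderOf (g i) := by
  apply Nat.dvd_antisymm
  · apply orderOf_dvd_of_pow_eq_one
    funext i
    rw [Pi.pow_apply, Pi.one_apply]
    obtain ⟨k, hk⟩ := Finset.dvd_prod_of_mem (fun i => orderOf (g i)) (Finset.mem_univ i)
    rw [hk, pow_mul, pow_orderOf_eq_one, one_pow]
  · apply Finset.prod_dvd_of_isRelPrime
    · intro i _ j _ hij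
      rw [Function.onFun, ← Nat.coprime_iff_isRelPrime]
      exact Nat.Coprime.coprime_dvd_left (orderOf_dvd_natCard _)
        (Nat.Coprime.coprime_dvd_right (orderOf_dvd_natCard _) (hcop i j hij))
    · intro i _
      exact orderOf_apply_dvd_orderOf i

theorem isCrit_pi
    (hcop : ∀ i j, i ≠ j → Nat.Coprime (Nat.card (Y i)) (Nat.card (Y j)))
    (S : ι → Set ℕ) (Ω : Set ℕ)
    (hS : ∀ i, Set.range (orderOf : Y i → ℕ) = S i)
    (hdiv : ∀ i, ∀ m ∈ S i, ∀ d, d ∣ m → d ∈ S i)
    (hΩ : ∀ i, ∀ m ∈ S i, m ∈ Ω)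
    (hcrit : ∀ i, IsCrit (S i) (Y i)) : IsCrit Ω (∀ i, Y i) := by
  intro H N hN hne hrange
  -- the sections of the factors
  have key : ∀ j : ι, (H.comap (MonoidHom.mulSingle Y j) = ⊤) ∧
      (N.comap ((MonoidHom.mulSingle Y j).subgroupComap H) = ⊥) := by
    intro j
    set f := MonoidHom.mulSingle Y j with hf
    set Hj := H.comap f with hHj
    set ιj : ↥Hj →* ↥H := f.subgroupComap H with hιj
    set Nj := N.comap ιj with hNj
    have hιval : ∀ y : ↥Hj, ((ιj y : ↥H) : ∀ i, Y i) = Pi.mulSingle j (y : Y j) := fun y => rfl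
    -- orders in the two quotients agree
    have hA : ∀ y : ↥Hj, orderOf ((y : ↥Hj ⧸ Nj)) = orderOf (((ιj y : ↥H)) : ↥H ⧸ N) := by
      intro y
      rw [orderOf_eq_orderOf_iff]
      intro n
      rw [← QuotientGroup.mk_pow, ← QuotientGroup.mk_pow, QuotientGroup.eq_one_iff,
        QuotientGroup.eq_one_iff, hNj, Subgroup.mem_comap, map_pow]
    have hsub : Set.range (orderOf : (↥Hj ⧸ Nj) → ℕ) = S j := by
      ext m
      constructor
      · rintro ⟨z, rfl⟩
        induction z using QuotientGroup.induction_on with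
        | H y =>
          have h1 : orderOf ((y : ↥Hj ⧸ Nj)) ∣ orderOf (y : Y j) := by
            apply orderOf_dvd_of_pow_eq_one
            rw [← QuotientGroup.mk_pow]
            have : y ^ orderOf (y : Y j) = 1 := by
              apply Subtype.ext
              rw [Subgroup.coe_pow, pow_orderOf_eq_one, Subgroup.coe_one]
            rw [this, QuotientGroup.mk_one]
          have h2 : orderOf (y : Y j) ∈ S j := by
            rw [← hS j]; exact ⟨_, rfl⟩
          exact hdiv j _ h2 _ h1
      · intro hm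
        have hmΩ : m ∈ Ω := hΩ j m hm
        rw [← hrange] at hmΩ
        obtain ⟨z, hz⟩ := hmΩ
        induction z using QuotientGroup.induction_on with
        | H h =>
          obtain ⟨e, he, hemod⟩ := exists_pow_eq_mulSingle hcop (h : ∀ i, Y i) j
          have hmem : ((h : ∀ i, Y i) j) ∈ Hj := by
            rw [hHj, Subgroup.mem_comap, hf, MonoidHom.mulSingle_apply, ← he]
            exact H.pow_mem h.2 e
          refine ⟨((⟨_, hmem⟩ : ↥Hj) : ↥Hj ⧸ Nj), ?_⟩
          rw [hA]
          have hι : ιj ⟨_, hmem⟩ = h ^ e := by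
            apply Subtype.ext
            rw [hιval, Subgroup.coe_pow, he]
          rw [hι, QuotientGroup.mk_pow]
          -- `(hN) ^ e = hN` since `e ≡ 1 mod m`
          have hmdvd : m ∣ Nat.card (Y j) := by
            rw [← hS j] at hm
            obtain ⟨y, rfl⟩ := hm
            exact orderOf_dvd_natCard y
          have hem : e ≡ 1 [MOD orderOf ((h : ↥H ⧸ N))] := by
            rw [hz]
            exact hemod.of_dvd hmdvd
          have : ((h : ↥H ⧸ N)) ^ e = ((h : ↥H ⧸ N)) ^ 1 := by
            rw [pow_eq_pow_iff_modEq]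
            exact hem
          rw [this, pow_one, hz]
    have := hcrit j Hj Nj
    by_contra hcon
    apply this ?_ hsub
    by_contra hcon2
    push Not at hcon2
    exact hcon hcon2
  -- conclude
  have hHtop : H = ⊤ := by
    rw [eq_top_iff]
    intro g _
    rw [← Finset.noncommProd_mulSingle g]
    apply Subgroup.noncommProd_mem
    intro j _
    have : g j ∈ H.comap (MonoidHom.mulSingle Y j) := by
      rw [(key j).1]; exact Subgroup.mem_top _
    exact this
  have hNbot : N = ⊥ := by
    rw [eq_bot_iff]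
    intro n hn
    rw [Subgroup.mem_bot]
    apply Subtype.ext
    funext j
    obtain ⟨e, he, _⟩ := exists_pow_eq_mulSingle hcop (n : ∀ i, Y i) j
    have hmem : ((n : ∀ i, Y i) j) ∈ H.comap (MonoidHom.mulSingle Y j) := by
      rw [Subgroup.mem_comap, MonoidHom.mulSingle_apply, ← he]
      exact H.pow_mem n.2 e
    have h2 : (⟨_, hmem⟩ : ↥(H.comap (MonoidHom.mulSingle Y j))) ∈
        N.comap ((MonoidHom.mulSingle Y j).subgroupComap H) := by
      rw [Subgroup.mem_comap]
      have : ((MonoidHom.mulSingle Y j).subgroupComap H) ⟨_, hmem⟩ = n ^ e := by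
        apply Subtype.ext
        rw [Subgroup.coe_pow, he]
        rfl
      rw [this]
      exact N.pow_mem hn e
    rw [(key j).2, Subgroup.mem_bot] at h2
    have := congrArg Subtype.val h2
    simpa using this
  rcases hne with h | h
  · exact h hHtop
  · exact h hNbot

theorem pi_closure_iff (r : ℕ) (j : ι)
    (hrj : ∀ i, i ≠ j → Nat.Coprime r (Nat.card (Y i))) :
    (∀ x y : ∀ i, Y i, x ^ r = 1 → y ^ r = 1 → (x * y) ^ r = 1) ↔
      (∀ x y : Y j, x ^ r = 1 → y ^ r = 1 → (x * y) ^ r = 1) := by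
  constructor
  · intro h x y hx hy
    have h1 := h (Pi.mulSingle j x) (Pi.mulSingle j y)
      (by rw [← Pi.mulSingle_pow, hx, Pi.mulSingle_one])
      (by rw [← Pi.mulSingle_pow, hy, Pi.mulSingle_one])
    rw [← Pi.mulSingle_mul, ← Pi.mulSingle_pow] at h1
    have := congrFun h1 j
    simpa using this
  · intro h x y hx hy
    have triv : ∀ z : ∀ i, Y i, z ^ r = 1 → ∀ i, i ≠ j → z i = 1 := by
      intro z hz i hij
      have h1 : (z i) ^ r = 1 := by
        have := congrFun hz i
        simpa using this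
      have h2 : orderOf (z i) ∣ r := orderOf_dvd_of_pow_eq_one h1
      have h3 : orderOf (z i) ∣ Nat.card (Y i) := orderOf_dvd_natCard _
      have h4 : orderOf (z i) ∣ 1 := by
        have := Nat.dvd_gcd h2 h3
        rwa [(hrj i hij).gcd_eq_one] at this
      exact orderOf_eq_one_iff.1 (Nat.dvd_one.1 h4)
    funext i
    rw [Pi.pow_apply, Pi.mul_apply, Pi.one_apply]
    by_cases hij : i = j
    · subst hij
      apply h
      · have := congrFun hx i; simpa using this
      · have := congrFun hy i; simpa using this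
    · rw [triv x hx i hij, triv y hy i hij, one_mul, one_pow]

end Prod

end Cfsg.Agent.Lib.Helper20.Crit
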