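import Mathlib
import Cfsg.Agent.Lib.Helper20.CycNormC

set_option autoImplicit false

namespace Cfsg.Agent.Lib.Helper20.CycNorm

universe u

variable {G : Type u} [Group G] [Finite G] {p : ℕ} [Fact p.Prime]

/-- stabilizer of the chain `R ≥ W`. -/
def stab (R W : Subgroup G) : Subgroup G where
  carrier := {u | u ∈ Subgroup.normalizer (W : Set G) ∧ ∀ r ∈ R, u * r * u⁻¹ * r⁻¹ ∈ W}
  one_mem' := ⟨Subgroup.one_mem _, by intro r _; simp⟩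
  mul_mem' := by
    rintro u v ⟨hu1, hu2⟩ ⟨hv1, hv2⟩
    refine ⟨Subgroup.mul_mem _ hu1 hv1, ?_⟩
    intro r hr
    have e : u * v * r * (u * v)⁻¹ * r⁻¹ = (u * (v * r * v⁻¹ * r⁻¹) * u⁻¹) * (u * r * u⁻¹ * r⁻¹) := by
      group
    rw [e]
    exact W.mul_mem ((Subgroup.mem_normalizer_iff.mp hu1 _).mp (hv2 r hr)) (hu2 r hr)
  inv_mem' := by
    rintro u ⟨hu1, hu2⟩
    refine ⟨Subgroup.inv_mem _ hu1, ?_⟩
    intro r hr
    have h1 := hu2 r hr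
    have h2 : u⁻¹ * (u * r * u⁻¹ * r⁻¹)⁻¹ * u⁻¹⁻¹ ∈ W :=
      (Subgroup.mem_normalizer_iff.mp (Subgroup.inv_mem _ hu1) _).mp (W.inv_mem h1)
    have e : u⁻¹ * r * u⁻¹⁻¹ * r⁻¹ = u⁻¹ * (u * r * u⁻¹ * r⁻¹)⁻¹ * u⁻¹⁻¹ := by group
    rw [e]
    exact h2

omit [Finite G] [Fact p.Prime] in
theorem mem_stab {R W : Subgroup G} {u : G} :
    u ∈ stab R W ↔ u ∈ Subgroup.normalizer (W : Set G) ∧ ∀ r ∈ R, u * r * u⁻¹ * r⁻¹ ∈ W := Iff.rfl

/-- facts about a pair `b, b'`. -/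
theorem pair_facts (hS : Setting p G) {b b' : G} (hb : BData p b) (hb' : BData p b') :
    ∃ (hc : Commute (b ^ p) (b' ^ p)) (l k : ℤ),
      b * b' ^ p * b⁻¹ = (b ^ p) ^ l * b' ^ p ∧ b' * b ^ p * b'⁻¹ = (b' ^ p) ^ k * b ^ p ∧
      span2 (b ^ p) (b' ^ p) hc ≤ Cfsg.pCore p G ∧
      b ∈ stab (Cfsg.pCore p G) (span2 (b ^ p) (b' ^ p) hc) ∧
      b' ∈ stab (Cfsg.pCore p G) (span2 (b ^ p) (b' ^ p) hc) := by
  have hc : Commute (b ^ p) (b' ^ p) := hS.comm _ hb.powMem _ hb'.powMem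
  obtain ⟨l, hl⟩ := Subgroup.mem_zpowers_iff.mp (hb.comm _ hb'.powMem)
  obtain ⟨k, hk⟩ := Subgroup.mem_zpowers_iff.mp (hb'.comm _ hb.powMem)
  have h1 : b * b' ^ p * b⁻¹ = (b ^ p) ^ l * b' ^ p := by
    rw [hl]; group
  have h2 : b' * b ^ p * b'⁻¹ = (b' ^ p) ^ k * b ^ p := by
    rw [hk]; group
  have hW : span2 (b ^ p) (b' ^ p) hc ≤ Cfsg.pCore p G := by
    rintro _ ⟨m, n, rfl⟩
    exact Subgroup.mul_mem _ (Subgroup.zpow_mem _ hb.powMem m) (Subgroup.zpow_mem _ hb'.powMem n)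
  refine ⟨hc, l, k, h1, h2, hW, ?_, ?_⟩
  · refine ⟨?_, ?_⟩
    · apply Subgroup.mem_normalizer_fintype
      rintro _ ⟨m, n, rfl⟩
      exact ⟨m + l * n, n, conj_span2 hc b l hb.comm_self h1 m n⟩
    · intro r hr
      obtain ⟨n, hn⟩ := Subgroup.mem_zpowers_iff.mp (hb.comm r hr)
      exact ⟨n, 0, by rw [hn]; simp⟩
  · refine ⟨?_, ?_⟩
    · apply Subgroup.mem_normalizer_fintype
      rintro _ ⟨m, n, rfl⟩
      exact ⟨m, n + k * m, conj_span2' hc b' k hb'.comm_self h2 m n⟩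
    · intro r hr
      obtain ⟨n, hn⟩ := Subgroup.mem_zpowers_iff.mp (hb'.comm r hr)
      exact ⟨0, n, by rw [hn]; simp⟩

/-- case (b): if `b` centralizes `z'` then `b⁻¹ b' ∈ R` (given it lies in `kk`). -/
theorem mem_of_centralizes (hS : Setting p G) {b b' : G} (hb : BData p b) (hb' : BData p b')
    (hy : b⁻¹ * b' ∈ kk p G) (hcz : b * b' ^ p * b⁻¹ = b' ^ p) :
    b⁻¹ * b' ∈ Cfsg.pCore p G := by
  obtain ⟨hc, l, k, h1, h2, hW, hbs, hb's⟩ := pair_facts hS hb hb'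
  set z := b ^ p with hz
  set z' := b' ^ p with hz'
  have h1' : b * z' * b⁻¹ = z ^ (0 : ℤ) * z' := by rw [zpow_zero, one_mul]; exact hcz
  have hbW : ∀ m n : ℤ, b * (z ^ m * z' ^ n) * b⁻¹ = z ^ m * z' ^ n := by
    intro m n
    rw [conj_span2 hc b 0 hb.comm_self h1' m n]
    simp
  have hbW' : ∀ m n : ℤ, b⁻¹ * (z ^ m * z' ^ n) * b = z ^ m * z' ^ n := by
    intro m n
    have := hbW m n
    calc b⁻¹ * (z ^ m * z' ^ n) * b = b⁻¹ * (b * (z ^ m * z' ^ n) * b⁻¹) * b := by rw [this]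
      _ = z ^ m * z' ^ n := by group
  have hyW : ∀ m n : ℤ, (b⁻¹ * b') * (z ^ m * z' ^ n) * (b⁻¹ * b')⁻¹ = z ^ m * z' ^ (n + k * m) := by
    intro m n
    have e : (b⁻¹ * b') * (z ^ m * z' ^ n) * (b⁻¹ * b')⁻¹ =
        b⁻¹ * (b' * (z ^ m * z' ^ n) * b'⁻¹) * b := by group
    rw [e, conj_span2' hc b' k hb'.comm_self h2 m n, hbW']
  apply mem_pCore_of_three_step hS.cent hy (span2 z z' hc) (Subgroup.zpowers z') hW
  · rw [Subgroup.zpowers_le]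
    exact right_mem_span2 hc
  · rw [Subgroup.mem_centralizer_iff]
    intro h hh
    obtain ⟨n, rfl⟩ := Subgroup.mem_zpowers_iff.mp hh
    have := hyW 0 n
    simp only [zpow_zero, one_mul, mul_zero, add_zero] at this
    calc z' ^ n * (b⁻¹ * b') = ((b⁻¹ * b') * z' ^ n * (b⁻¹ * b')⁻¹) * (b⁻¹ * b') := by rw [this]
      _ = (b⁻¹ * b') * z' ^ n := by group
  · rintro _ ⟨m, n, rfl⟩
    rw [hyW m n, Subgroup.mem_zpowers_iff]
    refine ⟨k * m, ?_⟩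
    rw [mul_inv_rev, zpow_add]
    have h4 : Commute (z ^ m) (z' ^ (k * m)) := hc.zpow_zpow m _
    have h5 : z' ^ n * z' ^ (k * m) = z' ^ (k * m) * z' ^ n := by
      rw [← zpow_add, ← zpow_add, add_comm]
    calc z' ^ (k * m) = z' ^ (k * m) * z ^ m * (z ^ m)⁻¹ := by group
      _ = z ^ m * z' ^ (k * m) * (z ^ m)⁻¹ := by rw [h4.eq]
      _ = z ^ m * (z' ^ (k * m) * z' ^ n) * ((z' ^ n)⁻¹ * (z ^ m)⁻¹) := by group
      _ = z ^ m * (z' ^ n * z' ^ (k * m)) * ((z' ^ n)⁻¹ * (z ^ m)⁻¹) := by rw [h5]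
  · exact ((stab _ _).mul_mem ((stab _ _).inv_mem hbs) hb's).2

end Cfsg.Agent.Lib.Helper20.CycNorm
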