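import Mathlib
import Cfsg.Agent.Lib.Helper20.CycNormD

set_option autoImplicit false

namespace Cfsg.Agent.Lib.Helper20.CycNorm

universe u

variable {G : Type u} [Group G] [Finite G] {p : ℕ} [Fact p.Prime]

theorem exists_j (l k : ℤ) (hl : ¬ (p : ℤ) ∣ l) (hk : ¬ (p : ℤ) ∣ k) :
    ∃ (j : ℕ) (s : ℤ), l * ((j : ℤ) * k) + 1 = (p : ℤ) * s := by
  have hl' : (l : ZMod p) ≠ 0 := by
    intro h; exact hl ((ZMod.intCast_zmod_eq_zero_iff_dvd l p).mp h)
  have hk' : (k : ZMod p) ≠ 0 := by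
    intro h; exact hk ((ZMod.intCast_zmod_eq_zero_iff_dvd k p).mp h)
  set a : ZMod p := (l : ZMod p) * (k : ZMod p) with ha
  have ha0 : a ≠ 0 := mul_ne_zero hl' hk'
  set j : ℕ := (-a⁻¹).val with hj
  have h1 : ((l * ((j : ℤ) * k) + 1 : ℤ) : ZMod p) = 0 := by
    push_cast
    rw [hj, ZMod.natCast_zmod_val]
    have : (l : ZMod p) * (-a⁻¹ * (k : ZMod p)) = -(a * a⁻¹) := by rw [ha]; ring
    rw [this, mul_inv_cancel₀ ha0]
    ring
  obtain ⟨s, hs⟩ := (ZMod.intCast_zmod_eq_zero_iff_dvd _ p).mp h1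
  exact ⟨j, s, hs⟩

omit [Finite G] [Fact p.Prime] in
theorem not_dvd_of_zpow_ne_one {z : G} (hz : z ^ p = 1) {l : ℤ} (h : z ^ l ≠ 1) : ¬ (p : ℤ) ∣ l := by
  rintro ⟨s, rfl⟩
  apply h
  rw [zpow_mul, zpow_natCast, hz, one_zpow]

/-- the odd case: contradiction. -/
theorem odd_contra (hS : Setting p G) (hp2 : p ≠ 2) {b b' : G} (hb : BData p b)
    (hb' : BData p b') (hy : b⁻¹ * b' ∈ kk p G)
    (h1 : b * b' ^ p * b⁻¹ ≠ b' ^ p) (h2 : b' * b ^ p * b'⁻¹ ≠ b ^ p) : False := by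
  have hp : p.Prime := Fact.out
  obtain ⟨hc, l, k, hl, hk, hW, hbs, hb's⟩ := pair_facts hS hb hb'
  have hzp : (b ^ p) ^ p = 1 := hS.exp _ hb.powMem
  have hz'p : (b' ^ p) ^ p = 1 := hS.exp _ hb'.powMem
  have hl1 : (b ^ p) ^ l ≠ 1 := by
    intro h
    apply h1
    rw [hl, h, one_mul]
  have hk1 : (b' ^ p) ^ k ≠ 1 := by
    intro h
    apply h2
    rw [hk, h, one_mul]
  obtain ⟨j, s, hjs⟩ := exists_j (p := p) l k (not_dvd_of_zpow_ne_one hzp hl1)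
    (not_dvd_of_zpow_ne_one hz'p hk1)
  set g := b * b' ^ j * b with hg
  set t := g * g with ht
  have hinv : ∀ m n : ℤ, t * ((b ^ p) ^ m * (b' ^ p) ^ n) * t⁻¹ =
      (b ^ p) ^ (-m) * (b' ^ p) ^ (-n) :=
    conj_gg_span2 hc hzp hz'p b b' l k hb.comm_self hl hb'.comm_self hk j s hjs
  have hinvW : ∀ w ∈ span2 (b ^ p) (b' ^ p) hc, t * w * t⁻¹ = w⁻¹ := by
    rintro _ ⟨m, n, rfl⟩
    rw [hinv, mul_inv_rev, zpow_neg, zpow_neg]
    exact ((hc.zpow_zpow m n).inv_inv).eq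
  have hinvW' : ∀ w ∈ span2 (b ^ p) (b' ^ p) hc, t⁻¹ * w * t = w⁻¹ := by
    intro w hw
    have := hinvW w⁻¹ (Subgroup.inv_mem _ hw)
    rw [inv_inv] at this
    calc t⁻¹ * w * t = t⁻¹ * (t * w⁻¹ * t⁻¹) * t := by rw [this]
      _ = w⁻¹ := by group
  have hgs : g ∈ stab (Cfsg.pCore p G) (span2 (b ^ p) (b' ^ p) hc) :=
    Subgroup.mul_mem _ (Subgroup.mul_mem _ hbs (Subgroup.pow_mem _ hb's j)) hbs
  have hts : t ∈ stab (Cfsg.pCore p G) (span2 (b ^ p) (b' ^ p) hc) := Subgroup.mul_mem _ hgs hgs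
  set c := t * b * t⁻¹ * b⁻¹ with hcdef
  have hcs : c ∈ stab (Cfsg.pCore p G) (span2 (b ^ p) (b' ^ p) hc) :=
    Subgroup.mul_mem _ (Subgroup.mul_mem _ (Subgroup.mul_mem _ hts hbs) (Subgroup.inv_mem _ hts))
      (Subgroup.inv_mem _ hbs)
  -- c ∈ kk
  have hcK : c ∈ kk p G := by
    set πK := QuotientGroup.mk' (kk p G) with hπK
    have e1 : πK b' = πK b := by
      have : πK (b⁻¹ * b') = 1 := (QuotientGroup.eq_one_iff _).mpr hy
      rw [map_mul, map_inv] at this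
      calc πK b' = πK b * ((πK b)⁻¹ * πK b') := by group
        _ = πK b := by rw [this, mul_one]
    have e2 : πK t = (πK b) ^ (2 * (j + 2)) := by
      rw [ht, hg]
      simp only [map_mul, map_pow, e1]
      have e3 : πK b * πK b ^ j * πK b = πK b ^ (j + 1 + 1) := by
        rw [← pow_succ', ← pow_succ]
      rw [e3, ← pow_add]
      congr 1
      ring
    apply (QuotientGroup.eq_one_iff c).mp
    show πK c = 1
    rw [hcdef]
    simp only [map_mul, map_inv, e2]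
    have : (πK b) ^ (2 * (j + 2)) * πK b = πK b * (πK b) ^ (2 * (j + 2)) := by
      rw [← pow_succ, ← pow_succ']
    rw [this]
    group
  -- c centralizes W
  have hbn := hbs.1
  have hcW : c ∈ Subgroup.centralizer ((span2 (b ^ p) (b' ^ p) hc : Subgroup G) : Set G) := by
    rw [Subgroup.mem_centralizer_iff]
    intro w hw
    have hw1 : b⁻¹ * w * b ∈ span2 (b ^ p) (b' ^ p) hc := by
      have := (Subgroup.mem_normalizer_iff.mp (Subgroup.inv_mem _ hbn) w).mp hw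
      rwa [inv_inv] at this
    have e1 : t⁻¹ * (b⁻¹ * w * b) * t = (b⁻¹ * w * b)⁻¹ := hinvW' _ hw1
    have e2 : c * w * c⁻¹ = t * (b * (t⁻¹ * (b⁻¹ * w * b) * t) * b⁻¹) * t⁻¹ := by
      rw [hcdef]; group
    have e3 : c * w * c⁻¹ = w := by
      rw [e2, e1]
      have : b * (b⁻¹ * w * b)⁻¹ * b⁻¹ = w⁻¹ := by group
      rw [this, hinvW _ (Subgroup.inv_mem _ hw), inv_inv]
    calc w * c = (c * w * c⁻¹) * c := by rw [e3]
      _ = c * w := by group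
  have hcR : c ∈ Cfsg.pCore p G := mem_pCore_of_two_step hS.cent hcK _ hW hcW hcs.2
  -- power computation
  set w := b * c * b⁻¹ * c⁻¹ with hwdef
  have hwz : w ∈ Subgroup.zpowers (b ^ p) := hb.comm c hcR
  have hwR : w ∈ Cfsg.pCore p G := by
    obtain ⟨n, hn⟩ := Subgroup.mem_zpowers_iff.mp hwz
    rw [← hn]
    exact Subgroup.zpow_mem _ hb.powMem n
  have hpow : (c * b) ^ p = b ^ p :=
    mul_pow_prime_of_conj hp hp2 b c w (by rw [hwdef]; group) (hb.comm_zpowers hwz)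
      (hS.comm c hcR w hwR) (hS.exp c hcR) (hS.exp w hwR)
  have hcb : c * b = t * b * t⁻¹ := by rw [hcdef]; group
  have hpow2 : (t * b * t⁻¹) ^ p = (b ^ p)⁻¹ := by
    rw [conj_pow]
    have := hinv 1 0
    simpa using this
  rw [hcb, hpow2] at hpow
  -- z⁻¹ = z
  have hz2 : (b ^ p) ^ 2 = 1 := by
    rw [pow_two]
    nth_rewrite 1 [← hpow]
    exact inv_mul_cancel _
  have ho : orderOf (b ^ p) ∣ Nat.gcd 2 p :=
    Nat.dvd_gcd (orderOf_dvd_of_pow_eq_one hz2) (orderOf_dvd_of_pow_eq_one hzp)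
  have hgcd : Nat.gcd 2 p = 1 := by
    rw [Nat.gcd_comm]
    exact (Nat.Prime.coprime_iff_not_dvd hp).mpr (fun h => hp2 ((Nat.prime_dvd_prime_iff_eq hp Nat.prime_two).mp h))
  rw [hgcd, Nat.dvd_one, orderOf_eq_one_iff] at ho
  exact hb.pow_ne_one hS ho

end Cfsg.Agent.Lib.Helper20.CycNorm
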