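import Mathlib
import Cfsg.Agent.Lib.Helper1.GNPC2.S4Rec
import Cfsg.Agent.Lib.Lead.Coprime
import Cfsg.Agent.Lib.Helper20.CycNormD

set_option autoImplicit false

namespace Cfsg.Agent.Lib.Helper20.CycNorm

open scoped Pointwise

universe u

variable {G : Type u} [Group G] [Finite G]

omit [Finite G] in
theorem zpow_of_sq_eq_one {z : G} (hz : z ^ 2 = 1) (l : ℤ) : z ^ l = 1 ∨ z ^ l = z := by
  rcases Int.even_or_odd l with ⟨m, hm⟩ | ⟨m, hm⟩
  · left
    rw [hm, ← two_mul, zpow_mul, zpow_ofNat, hz, one_zpow]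
  · right
    rw [hm, zpow_add, zpow_mul, zpow_ofNat, hz, one_zpow, one_mul, zpow_one]

omit [Finite G] in
theorem span2_cases {z z' : G} (hc : Commute z z') (hz : z ^ 2 = 1) (hz' : z' ^ 2 = 1) {w : G}
    (hw : w ∈ span2 z z' hc) : w = 1 ∨ w = z ∨ w = z' ∨ w = z * z' := by
  obtain ⟨m, n, rfl⟩ := hw
  rcases zpow_of_sq_eq_one hz m with h1 | h1 <;> rcases zpow_of_sq_eq_one hz' n with h2 | h2 <;>
    rw [h1, h2] <;> simp

theorem card_span2 {z z' : G} (hc : Commute z z') (hz : z ^ 2 = 1) (hz' : z' ^ 2 = 1)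
    (h1 : z ≠ 1) (h2 : z' ≠ 1) (h3 : z ≠ z') : Nat.card (span2 z z' hc) = 4 := by
  classical
  have hzz : z * z = 1 := by rw [← pow_two]; exact hz
  have hzz' : z' * z' = 1 := by rw [← pow_two]; exact hz'
  have hset : ((span2 z z' hc : Subgroup G) : Set G) = ↑({1, z, z', z * z'} : Finset G) := by
    ext w
    constructor
    · intro hw
      rcases span2_cases hc hz hz' hw with h | h | h | h <;> rw [h] <;> simp
    · intro hw
      simp only [Finset.coe_insert, Finset.coe_singleton, Set.mem_insert_iff,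
        Set.mem_singleton_iff] at hw
      rcases hw with h | h | h | h <;> rw [h]
      · exact Subgroup.one_mem _
      · exact left_mem_span2 hc
      · exact right_mem_span2 hc
      · exact Subgroup.mul_mem _ (left_mem_span2 hc) (right_mem_span2 hc)
  have h4 : z * z' ≠ 1 := by
    intro h
    apply h3
    calc z = z * (z' * z') := by rw [hzz', mul_one]
      _ = (z * z') * z' := by group
      _ = z' := by rw [h, one_mul]
  have h5 : z * z' ≠ z := by
    intro h
    apply h2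
    calc z' = z⁻¹ * (z * z') := by group
      _ = 1 := by rw [h]; group
  have h6 : z * z' ≠ z' := by
    intro h
    apply h1
    calc z = (z * z') * z'⁻¹ := by group
      _ = 1 := by rw [h]; group
  have hcard : ({1, z, z', z * z'} : Finset G).card = 4 := by
    rw [Finset.card_insert_of_notMem, Finset.card_insert_of_notMem, Finset.card_insert_of_notMem,
      Finset.card_singleton]
    · simp only [Finset.mem_singleton]
      exact fun h => h6 h.symm
    · simp only [Finset.mem_insert, Finset.mem_singleton, not_or]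
      exact ⟨h3, fun h => h5 h.symm⟩
    · simp only [Finset.mem_insert, Finset.mem_singleton, not_or]
      exact ⟨fun h => h1 h.symm, fun h => h2 h.symm, fun h => h4 h.symm⟩
  have : Nat.card (span2 z z' hc) = ((span2 z z' hc : Subgroup G) : Set G).ncard := by
    rw [← Nat.card_coe_set_eq]; rfl
  rw [this, hset, Set.ncard_coe_finset, hcard]

/-- the even case: `S₄` is involved. -/
theorem even_involves (hS : Setting 2 G) {b b' : G} (hb : BData 2 b) (hb' : BData 2 b')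
    (hy : b⁻¹ * b' ∈ kk 2 G) (h1 : b * b' ^ 2 * b⁻¹ ≠ b' ^ 2) (h2 : b' * b ^ 2 * b'⁻¹ ≠ b ^ 2) :
    Cfsg.Involves (Equiv.Perm (Fin 4)) G := by
  obtain ⟨hc, l, k, hl, hk, hW, hbs, hb's⟩ := pair_facts hS hb hb'
  have hRn : (Cfsg.pCore 2 G).Normal := Cfsg.pCore_normal 2 G
  set z := b ^ 2 with hzdef
  set z' := b' ^ 2 with hz'def
  have hzR : z ∈ Cfsg.pCore 2 G := hb.powMem
  have hz'R : z' ∈ Cfsg.pCore 2 G := hb'.powMem
  have hz2 : z ^ 2 = 1 := hS.exp _ hzR
  have hz'2 : z' ^ 2 = 1 := hS.exp _ hz'R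
  have hzz : z * z = 1 := by rw [← pow_two]; exact hz2
  have hz'z' : z' * z' = 1 := by rw [← pow_two]; exact hz'2
  have hcz : z * z' = z' * z := hc.eq
  have hz1 : z ≠ 1 := hb.pow_ne_one hS
  have hz'1 : z' ≠ 1 := hb'.pow_ne_one hS
  have hbz : b * z * b⁻¹ = z := hb.comm_self
  have hb'z' : b' * z' * b'⁻¹ = z' := hb'.comm_self
  have hbz' : b * z' * b⁻¹ = z * z' := by
    rcases zpow_of_sq_eq_one hz2 l with h | h
    · exfalso; apply h1; rw [hl, h, one_mul]
    · rw [hl, h]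
  have hb'z : b' * z * b'⁻¹ = z' * z := by
    rcases zpow_of_sq_eq_one hz'2 k with h | h
    · exfalso; apply h2; rw [hk, h, one_mul]
    · rw [hk, h]
  have hzne : z ≠ z' := by
    intro h
    apply h1
    rw [← h]; exact hbz
  set U := span2 z z' hc with hUdef
  have hU : Nat.card U = 4 := card_span2 hc hz2 hz'2 hz1 hz'1 hzne
  have hzU : z ∈ U := left_mem_span2 hc
  have hz'U : z' ∈ U := right_mem_span2 hc
  have hUR : U ≤ Cfsg.pCore 2 G := hW
  -- inverse conjugation by b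
  have hbiz : b⁻¹ * z * b = z := by
    calc b⁻¹ * z * b = b⁻¹ * (b * z * b⁻¹) * b := by rw [hbz]
      _ = z := by group
  have hbiz' : b⁻¹ * z' * b = z * z' := by
    have e : b * (z * z') * b⁻¹ = z' := by
      have : b * (z * z') * b⁻¹ = (b * z * b⁻¹) * (b * z' * b⁻¹) := by group
      rw [this, hbz, hbz', ← mul_assoc, hzz, one_mul]
    calc b⁻¹ * z' * b = b⁻¹ * (b * (z * z') * b⁻¹) * b := by rw [e]
      _ = z * z' := by group
  set y := b⁻¹ * b' with hydef
  have hyz : y * z * y⁻¹ = z' := by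
    have e : y * z * y⁻¹ = b⁻¹ * (b' * z * b'⁻¹) * b := by rw [hydef]; group
    rw [e, hb'z]
    have : b⁻¹ * (z' * z) * b = (b⁻¹ * z' * b) * (b⁻¹ * z * b) := by group
    rw [this, hbiz, hbiz', hcz, mul_assoc, hzz, mul_one]
  have hyz' : y * z' * y⁻¹ = z * z' := by
    have e : y * z' * y⁻¹ = b⁻¹ * (b' * z' * b'⁻¹) * b := by rw [hydef]; group
    rw [e, hb'z', hbiz']
  have hyzz' : y * (z * z') * y⁻¹ = z := by
    have e : y * (z * z') * y⁻¹ = (y * z * y⁻¹) * (y * z' * y⁻¹) := by group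
    rw [e, hyz, hyz', hcz, ← mul_assoc, hz'z', one_mul]
  have hys : y ∈ stab (Cfsg.pCore 2 G) U :=
    Subgroup.mul_mem _ (Subgroup.inv_mem _ hbs) hb's
  have hcases : ∀ u ∈ U, u = 1 ∨ u = z ∨ u = z' ∨ u = z * z' :=
    fun u hu => span2_cases hc hz2 hz'2 hu
  -- y^3 centralizes U
  have hy3conj : ∀ v : G, y ^ 3 * v * (y ^ 3)⁻¹ = y * (y * (y * v * y⁻¹) * y⁻¹) * y⁻¹ := by
    intro v
    rw [pow_succ, pow_two]; group
  have hy3U : ∀ u ∈ U, y ^ 3 * u * (y ^ 3)⁻¹ = u := by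
    intro u hu
    rw [hy3conj]
    rcases hcases u hu with h | h | h | h <;> rw [h]
    · group
    · rw [hyz, hyz', hyzz']
    · rw [hyz', hyzz', hyz]
    · rw [hyzz', hyz, hyz']
  have hy3R : y ^ 3 ∈ Cfsg.pCore 2 G := by
    apply mem_pCore_of_two_step hS.cent (Subgroup.pow_mem _ hy 3) U hUR
    · rw [Subgroup.mem_centralizer_iff]
      intro u hu
      have := hy3U u hu
      calc u * y ^ 3 = (y ^ 3 * u * (y ^ 3)⁻¹) * y ^ 3 := by rw [this]
        _ = y ^ 3 * u := by group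
    · exact ((stab _ _).pow_mem hys 3).2
  set y₃ := y ^ 4 with hy₃def
  have hy₃3 : y₃ ^ 3 = 1 := by
    have h6 : (y ^ 3) ^ 2 = 1 := hS.exp _ hy3R
    rw [hy₃def, ← pow_mul]
    have : y ^ (4 * 3) = ((y ^ 3) ^ 2) ^ 2 := by rw [← pow_mul, ← pow_mul]
    rw [this, h6, one_pow]
  have hy₃conj : ∀ u ∈ U, y₃ * u * y₃⁻¹ = y * u * y⁻¹ := by
    intro u hu
    have e : y₃ * u * y₃⁻¹ = y * (y ^ 3 * u * (y ^ 3)⁻¹) * y⁻¹ := by
      rw [hy₃def, pow_succ' y 3]; group
    rw [e, hy3U u hu]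
  have hy₃U : y₃ ∈ Subgroup.normalizer (U : Set G) := Subgroup.pow_mem _ hys.1 4
  have hfix : ∀ u ∈ U, y₃ * u * y₃⁻¹ = u → u = 1 := by
    intro u hu hfx
    rw [hy₃conj u hu] at hfx
    rcases hcases u hu with h | h | h | h
    · exact h
    · exfalso
      rw [h, hyz] at hfx
      exact hzne hfx.symm
    · exfalso
      rw [h, hyz'] at hfx
      apply hz1
      calc z = (z * z') * z'⁻¹ := by group
        _ = 1 := by rw [hfx]; group
    · exfalso
      rw [h, hyzz'] at hfx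
      apply hz'1
      calc z' = z⁻¹ * (z * z') := by group
        _ = 1 := by rw [← hfx]; group
  -- the element t
  set A₃ := Subgroup.zpowers y₃ with hA₃
  have hAK : A₃ ≤ Subgroup.normalizer ((Cfsg.pCore 2 G : Subgroup G) : Set G) := by
    rw [Subgroup.normalizer_eq_top_iff.mpr hRn]; exact le_top
  have hcardA : Nat.card A₃ ∣ 3 := by
    rw [hA₃, Nat.card_zpowers]
    exact orderOf_dvd_of_pow_eq_one hy₃3
  have hcop : (Nat.card A₃).Coprime (Nat.card (Cfsg.pCore 2 G)) := by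
    obtain ⟨n, hn⟩ := (Cfsg.Agent.Lib.Helper1.pCore_isPGroup (G := G) 2).exists_card_eq
    rw [hn]
    apply Nat.Coprime.pow_right
    exact Nat.Coprime.coprime_dvd_left hcardA (by norm_num)
  have hsolv : Group.IsSolvable A₃ :=
    Group.isSolvable_of_comm (fun a b =>
      (inferInstance : IsMulCommutative (Subgroup.zpowers y₃)).is_comm.comm a b)
  -- b y₃ b⁻¹ ∈ R y₃⁻¹
  have hbyb : b * y₃ * b⁻¹ * y₃ ∈ Cfsg.pCore 2 G := by
    set π := QuotientGroup.mk' (Cfsg.pCore 2 G) with hπ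
    apply (QuotientGroup.eq_one_iff _).mp
    show π (b * y₃ * b⁻¹ * y₃) = 1
    have e1 : π (b ^ 2) = 1 := (QuotientGroup.eq_one_iff _).mpr hzR
    have e2 : π (b' ^ 2) = 1 := (QuotientGroup.eq_one_iff _).mpr hz'R
    rw [map_pow] at e1 e2
    have e3 : (π b)⁻¹ = π b := by
      rw [inv_eq_iff_mul_eq_one, ← pow_two]; exact e1
    have e4 : (π b')⁻¹ = π b' := by
      rw [inv_eq_iff_mul_eq_one, ← pow_two]; exact e2
    have e5 : π y = π b * π b' := by rw [hydef, map_mul, map_inv, e3]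
    have e6 : π b * π y * (π b)⁻¹ = (π y)⁻¹ := by
      rw [e5, mul_inv_rev, e3, e4]
      have : π b * π b = 1 := by rw [← pow_two]; exact e1
      calc π b * (π b * π b') * π b = (π b * π b) * π b' * π b := by group
        _ = π b' * π b := by rw [this, one_mul]
    rw [hy₃def]
    simp only [map_mul, map_inv, map_pow]
    have e7 : π b * π y ^ 4 * (π b)⁻¹ = (π b * π y * (π b)⁻¹) ^ 4 := by
      rw [← MulAut.conj_apply, ← MulAut.conj_apply, map_pow]
    rw [e7, e6, inv_pow, inv_mul_cancel]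
  have hB : MulAut.conj b • A₃ ≤ A₃ ⊔ Cfsg.pCore 2 G := by
    intro v hv
    rw [Subgroup.mem_pointwise_smul_iff_inv_smul_mem] at hv
    simp only [MulAut.smul_def, MulAut.conj_inv_apply] at hv
    obtain ⟨n, hn⟩ := Subgroup.mem_zpowers_iff.mp hv
    have hv' : v = (b * y₃ * b⁻¹) ^ n := by
      have : (b * y₃ * b⁻¹) ^ n = b * y₃ ^ n * b⁻¹ := by
        rw [← MulAut.conj_apply, ← MulAut.conj_apply, map_zpow]
      rw [this, hn]; group
    rw [hv']
    apply Subgroup.zpow_mem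
    have : b * y₃ * b⁻¹ = (b * y₃ * b⁻¹ * y₃) * y₃⁻¹ := by group
    rw [this]
    exact Subgroup.mul_mem _ (Subgroup.mem_sup_right hbyb)
      (Subgroup.mem_sup_left (Subgroup.inv_mem _ (Subgroup.mem_zpowers y₃)))
  obtain ⟨k₀, hk₀R, hk₀⟩ := Cfsg.Agent.Lib.Lead.hall_conj A₃ (Cfsg.pCore 2 G) hAK hcop (Or.inl hsolv)
    (MulAut.conj b • A₃) hB (Cfsg.Agent.S0001.card_conj A₃ b)
  set t := k₀⁻¹ * b with htdef
  have hty : t ∈ Subgroup.normalizer ((Subgroup.zpowers y₃ : Subgroup G) : Set G) := by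
    rw [← Cfsg.Agent.Lib.Lead.conj_smul_eq_iff]
    rw [htdef, map_mul, mul_smul, ← hk₀, ← mul_smul, ← map_mul, inv_mul_cancel, map_one, one_smul]
  have hk₀U : ∀ u ∈ U, k₀⁻¹ * u * k₀ = u := by
    intro u hu
    have := hS.comm k₀⁻¹ (Subgroup.inv_mem _ hk₀R) u (hUR hu)
    rw [this]; group
  have hbU : b ∈ Subgroup.normalizer (U : Set G) := hbs.1
  have htU : t ∈ Subgroup.normalizer (U : Set G) := by
    apply Subgroup.mem_normalizer_fintype
    intro u hu
    have h3 : b * u * b⁻¹ ∈ U := (Subgroup.mem_normalizer_iff.mp hbU u).mp hu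
    have e : t * u * t⁻¹ = k₀⁻¹ * (b * u * b⁻¹) * k₀ := by rw [htdef]; group
    show t * u * t⁻¹ ∈ U
    rw [e, hk₀U _ h3]
    exact h3
  have htne : ∃ u ∈ U, t * u * t⁻¹ ≠ u := by
    refine ⟨z', hz'U, ?_⟩
    have e : t * z' * t⁻¹ = k₀⁻¹ * (b * z' * b⁻¹) * k₀ := by rw [htdef]; group
    rw [e, hbz', hk₀U _ (Subgroup.mul_mem _ hzU hz'U)]
    intro h
    apply hz1
    calc z = (z * z') * z'⁻¹ := by group
      _ = 1 := by rw [h]; group
  have ht2 : ∀ u ∈ U, (t * t) * u * (t * t)⁻¹ = u := by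
    intro u hu
    have httR : t * t ∈ Cfsg.pCore 2 G := by
      have e : t * t = k₀⁻¹ * (b * k₀⁻¹ * b⁻¹) * b ^ 2 := by rw [htdef, pow_two]; group
      rw [e]
      exact Subgroup.mul_mem _ (Subgroup.mul_mem _ (Subgroup.inv_mem _ hk₀R)
        (hRn.conj_mem _ (Subgroup.inv_mem _ hk₀R) b)) hzR
    have := hS.comm (t * t) httR u (hUR hu)
    rw [this]; group
  exact Cfsg.Agent.Lib.Helper1.GNPC2.s4_involved U hU y₃ t hy₃U hy₃3 hfix htU hty htne ht2

end Cfsg.Agent.Lib.Helper20.CycNorm
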