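import Mathlib
import Cfsg.Prelude.Def_LocalEven
import Cfsg.Agent.Lib.Helper20.CycNormE
import Cfsg.Agent.Lib.Helper20.CycNormF

set_option autoImplicit false

namespace Cfsg.Agent.Lib.Helper20.CycNorm

universe u

variable {G : Type u} [Group G] [Finite G] {p : ℕ} [Fact p.Prime]

/-- from a cyclic normal subgroup of a Sylow subgroup not inside `O_p(G)`: an element with `BData`. -/
theorem exists_bdata (P : Sylow p G) (A : Subgroup G)
    (hAP : A ≤ (P : Subgroup G)) (hAn : (P : Subgroup G) ≤ Subgroup.normalizer (A : Set G))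
    (hA : IsCyclic A) (hnot : ¬ A ≤ Cfsg.pCore p G) : ∃ b : G, BData p b := by
  have hp : p.Prime := Fact.out
  have hRn : (Cfsg.pCore p G).Normal := Cfsg.pCore_normal p G
  obtain ⟨⟨a, haA⟩, hgen⟩ := hA.exists_generator
  have hgen' : ∀ x ∈ A, ∃ n : ℤ, a ^ n = x := by
    intro x hx
    obtain ⟨n, hn⟩ := Subgroup.mem_zpowers_iff.mp (hgen ⟨x, hx⟩)
    refine ⟨n, ?_⟩
    have := congrArg Subtype.val hn
    rwa [Subgroup.coe_zpow] at this
  have haR : a ∉ Cfsg.pCore p G := by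
    intro h
    apply hnot
    intro x hx
    obtain ⟨n, rfl⟩ := hgen' x hx
    exact Subgroup.zpow_mem _ h n
  obtain ⟨n₀, hn₀⟩ := (IsPGroup.iff_orderOf.mp P.2) ⟨a, hAP haA⟩
  have hapow : a ^ (p ^ n₀) = 1 := by
    have h1 : orderOf a = p ^ n₀ := by
      rw [← hn₀]; exact (Subgroup.orderOf_mk a (hAP haA)).symm
    rw [← h1]; exact pow_orderOf_eq_one a
  have hex : ∃ j : ℕ, a ^ (p ^ j) ∈ Cfsg.pCore p G := ⟨n₀, by rw [hapow]; exact Subgroup.one_mem _⟩
  classical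
  set j := Nat.find hex with hj
  have hjspec : a ^ (p ^ j) ∈ Cfsg.pCore p G := Nat.find_spec hex
  have hj0 : j ≠ 0 := by
    intro h0
    rw [h0, pow_zero, pow_one] at hjspec
    exact haR hjspec
  obtain ⟨j', hj'⟩ := Nat.exists_eq_succ_of_ne_zero hj0
  set b := a ^ (p ^ j') with hb
  have hbR : b ∉ Cfsg.pCore p G := by
    have : j' < j := by omega
    exact Nat.find_min hex this
  have hbp : b ^ p = a ^ (p ^ j) := by
    rw [hb, ← pow_mul, hj', pow_succ]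
  have hbpR : b ^ p ∈ Cfsg.pCore p G := by rw [hbp]; exact hjspec
  have hbpow : b ^ (p ^ n₀) = 1 := by
    rw [hb, ← pow_mul, mul_comm, pow_mul, hapow, one_pow]
  refine ⟨b, hbR, hbpR, ?_⟩
  intro r hr
  have hrP : r ∈ (P : Subgroup G) := Cfsg.Agent.Lib.Helper1.pCore_le_sylow p P hr
  have hra : r * a * r⁻¹ ∈ A := (Subgroup.mem_normalizer_iff.mp (hAn hrP) a).mp haA
  obtain ⟨i, hi⟩ := hgen' _ hra
  have hrb : r * b * r⁻¹ = b ^ i := by
    have e1 : r * b * r⁻¹ = (r * a * r⁻¹) ^ (p ^ j') := by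
      rw [hb, ← MulAut.conj_apply, ← MulAut.conj_apply, map_pow]
    rw [e1, ← hi, hb, ← zpow_natCast, ← zpow_natCast, ← zpow_mul, ← zpow_mul, mul_comm]
  have hm : r * b * r⁻¹ * b⁻¹ = b ^ (i - 1) := by
    rw [hrb, zpow_sub, zpow_one]
  have hmR : b ^ (i - 1) ∈ Cfsg.pCore p G := by
    rw [← hm]
    have e : r * b * r⁻¹ * b⁻¹ = r * (b * r⁻¹ * b⁻¹) := by group
    rw [e]
    exact Subgroup.mul_mem _ hr (hRn.conj_mem _ (Subgroup.inv_mem _ hr) b)
  have hdvd : (p : ℤ) ∣ i - 1 := by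
    by_contra hnd
    apply hbR
    have hprime : Prime (p : ℤ) := Nat.prime_iff_prime_int.mp hp
    have hcop : IsCoprime (i - 1) ((p : ℤ) ^ n₀) := by
      apply IsCoprime.pow_right
      exact ((Prime.coprime_iff_not_dvd hprime).mpr hnd).symm
    obtain ⟨u, v, huv⟩ := hcop
    have : b = (b ^ (i - 1)) ^ u := by
      have e1 : b = b ^ (u * (i - 1) + v * (p : ℤ) ^ n₀) := by rw [huv, zpow_one]
      have e2 : b ^ ((p : ℤ) ^ n₀) = 1 := by
        have : ((p : ℤ) ^ n₀) = ((p ^ n₀ : ℕ) : ℤ) := by push_cast; rfl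
        rw [this, zpow_natCast, hbpow]
      rw [zpow_add, mul_comm u, zpow_mul, mul_comm v, zpow_mul, e2, one_zpow, mul_one] at e1
      exact e1
    rw [this]
    exact Subgroup.zpow_mem _ hmR u
  obtain ⟨s, hs⟩ := hdvd
  have e : b * r * b⁻¹ * r⁻¹ = (r * b * r⁻¹ * b⁻¹)⁻¹ := by group
  rw [e, hm, hs, Subgroup.mem_zpowers_iff]
  refine ⟨-s, ?_⟩
  rw [zpow_neg, zpow_mul, zpow_natCast]

/-- main theorem in the reduced setting. -/
theorem main_reduced (hS : Setting p G) (P : Sylow p G) (A : Subgroup G)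
    (hAP : A ≤ (P : Subgroup G)) (hAn : (P : Subgroup G) ≤ Subgroup.normalizer (A : Set G))
    (hA : IsCyclic A) (h : p ≠ 2 ∨ ¬ Cfsg.Involves (Equiv.Perm (Fin 4)) G) :
    A ≤ Cfsg.pCore p G := by
  by_contra hnot
  obtain ⟨b, hb⟩ := exists_bdata P A hAP hAn hA hnot
  obtain ⟨x, hxK, hyR⟩ := hb.exists_x hS
  have hb' := hb.conj x
  have hKn : (kk p G).Normal := kk_normal
  have hy : b⁻¹ * (x * b * x⁻¹) ∈ kk p G := by
    have e : b⁻¹ * (x * b * x⁻¹) = (b⁻¹ * x * b⁻¹⁻¹) * x⁻¹ := by group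
    rw [e]
    exact Subgroup.mul_mem _ (hKn.conj_mem _ hxK b⁻¹) (Subgroup.inv_mem _ hxK)
  by_cases h1 : b * (x * b * x⁻¹) ^ p * b⁻¹ = (x * b * x⁻¹) ^ p
  · exact hyR (mem_of_centralizes hS hb hb' hy h1)
  by_cases h2 : (x * b * x⁻¹) * b ^ p * (x * b * x⁻¹)⁻¹ = b ^ p
  · have hy' : (x * b * x⁻¹)⁻¹ * b ∈ kk p G := by
      have := Subgroup.inv_mem _ hy
      rwa [mul_inv_rev, inv_inv] at this
    have := mem_of_centralizes hS hb' hb hy' h2
    apply hyR
    have h3 := Subgroup.inv_mem _ this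
    rwa [mul_inv_rev, inv_inv] at h3
  by_cases hp2 : p = 2
  · subst hp2
    rcases h with h | h
    · exact h rfl
    · exact h (even_involves hS hb hb' hy h1 h2)
  · exact odd_contra hS hp2 hb hb' hy h1 h2

end Cfsg.Agent.Lib.Helper20.CycNorm
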