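import Mathlib
import Cfsg.Agent.Lib.Helper1.Frat
import Cfsg.Agent.Lib.Helper1.FrattiniFaithful
import Cfsg.Agent.Lib.Helper1.PLength
import Cfsg.Agent.Lib.Helper1.GNPC2.TJA
import Cfsg.Agent.Lib.Helper20.CycNormG

set_option autoImplicit false

namespace Cfsg.Agent.Lib.Helper20.CycNorm

universe u

variable {G : Type u} [Group G] [Finite G] {p : ℕ} [Fact p.Prime]

/-- transfer of the hypotheses to a quotient. -/
theorem quotient_data (N : Subgroup G) [N.Normal] (P : Sylow p G) (A : Subgroup G)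
    (hAP : A ≤ (P : Subgroup G)) (hAn : (P : Subgroup G) ≤ Subgroup.normalizer (A : Set G))
    (hA : IsCyclic A) :
    A.map (QuotientGroup.mk' N) ≤
        ((P.mapSurjective (QuotientGroup.mk'_surjective N) : Sylow p (G ⧸ N)) : Subgroup (G ⧸ N)) ∧
      ((P.mapSurjective (QuotientGroup.mk'_surjective N) : Sylow p (G ⧸ N)) : Subgroup (G ⧸ N)) ≤
        Subgroup.normalizer ((A.map (QuotientGroup.mk' N) : Subgroup (G ⧸ N)) : Set (G ⧸ N)) ∧
      IsCyclic (A.map (QuotientGroup.mk' N)) := by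
  refine ⟨?_, ?_, ?_⟩
  · rw [Sylow.coe_mapSurjective]
    exact Subgroup.map_mono hAP
  · rw [Sylow.coe_mapSurjective]
    exact le_trans (Subgroup.map_mono hAn) (Subgroup.le_normalizer_map _)
  · haveI := hA
    exact isCyclic_of_surjective ((QuotientGroup.mk' N).subgroupMap A)
      ((QuotientGroup.mk' N).subgroupMap_surjective A)

/-- the case `O_{p'}(G) = 1`. -/
theorem main_core_free (hsolv : Cfsg.IsPSolvable p G) (hO : Cfsg.pPrimeCore p G = ⊥)
    (P : Sylow p G) (A : Subgroup G)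
    (hAP : A ≤ (P : Subgroup G)) (hAn : (P : Subgroup G) ≤ Subgroup.normalizer (A : Set G))
    (hA : IsCyclic A) (h : p ≠ 2 ∨ ¬ Cfsg.Involves (Equiv.Perm (Fin 4)) G) :
    A ≤ Cfsg.pCore p G := by
  have hRn : (Cfsg.pCore p G).Normal := Cfsg.pCore_normal p G
  have hRp : IsPGroup p (Cfsg.pCore p G) := Cfsg.Agent.Lib.Helper1.pCore_isPGroup p
  have hC : Subgroup.centralizer (Cfsg.pCore p G : Set G) ≤ Cfsg.pCore p G :=
    Cfsg.Agent.Lib.Helper5.h5_centralizer_pCore_le hsolv hO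
  obtain ⟨F, hF⟩ : ∃ F : Subgroup G, F = (frattini (Cfsg.pCore p G)).map (Cfsg.pCore p G).subtype :=
    ⟨_, rfl⟩
  have hFn : F.Normal := by
    rw [hF]
    exact Cfsg.Agent.Lib.Helper5.h5_normal_map_of_characteristic (Cfsg.pCore p G)
      (frattini (Cfsg.pCore p G))
  have hFR : F ≤ Cfsg.pCore p G := by
    rw [hF]
    rintro _ ⟨x, _, rfl⟩
    exact x.2
  have hFp : IsPGroup p F := hRp.to_le hFR
  set π := QuotientGroup.mk' F with hπ
  have hπs : Function.Surjective π := QuotientGroup.mk'_surjective F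
  have hcore : Cfsg.pCore p (G ⧸ F) = (Cfsg.pCore p G).map π :=
    Cfsg.Agent.Lib.helper17.pCore_quotient F hFp
  have hmemF : ∀ x : Cfsg.pCore p G, x ∈ frattini (Cfsg.pCore p G) → (x : G) ∈ F := by
    intro x hx
    rw [hF]
    exact ⟨x, hx, rfl⟩
  have hS : Setting p (G ⧸ F) := by
    refine ⟨Cfsg.Agent.Lib.Helper5.h5_isPSolvable_of_surjective π hπs hsolv, ?_, ?_, ?_⟩
    · rw [hcore]
      rintro _ ⟨r, hr, rfl⟩ _ ⟨s, hs, rfl⟩
      have h1 : (⟨r, hr⟩ : Cfsg.pCore p G) * ⟨s, hs⟩ * (⟨r, hr⟩)⁻¹ * (⟨s, hs⟩)⁻¹ ∈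
          frattini (Cfsg.pCore p G) := by
        apply Cfsg.Agent.Lib.Helper1.pgroup_commutator_le_frattini hRp
        rw [← commutatorElement_def]
        exact Subgroup.commutator_mem_commutator (Subgroup.mem_top _) (Subgroup.mem_top _)
      have h2 : r * s * r⁻¹ * s⁻¹ ∈ F := hmemF _ h1
      have h3 : π (r * s * r⁻¹ * s⁻¹) = 1 := (QuotientGroup.eq_one_iff _).mpr h2
      simp only [map_mul, map_inv] at h3
      calc π r * π s = (π r * π s * (π r)⁻¹ * (π s)⁻¹) * (π s * π r) := by group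
        _ = π s * π r := by rw [h3, one_mul]
    · rw [hcore]
      rintro _ ⟨r, hr, rfl⟩
      have h1 : (⟨r, hr⟩ : Cfsg.pCore p G) ^ p ∈ frattini (Cfsg.pCore p G) :=
        Cfsg.Agent.Lib.Helper1.pgroup_pow_mem_frattini hRp _
      have h2 : r ^ p ∈ F := hmemF _ h1
      rw [← map_pow]
      exact (QuotientGroup.eq_one_iff _).mpr h2
    · rw [hcore]
      intro gb hgb
      obtain ⟨g, rfl⟩ := hπs gb
      rw [Subgroup.mem_centralizer_iff] at hgb
      have hk : ∀ x ∈ Cfsg.pCore p G, g * x * g⁻¹ * x⁻¹ ∈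
          (frattini (Cfsg.pCore p G)).map (Cfsg.pCore p G).subtype := by
        intro x hx
        rw [← hF]
        apply (QuotientGroup.eq_one_iff _).mp
        show π (g * x * g⁻¹ * x⁻¹) = 1
        have h1 := hgb (π x) ⟨x, hx, rfl⟩
        simp only [map_mul, map_inv]
        rw [← h1]
        group
      have := Cfsg.Agent.Lib.Helper1.mem_pCore_of_trivial_on_frattini_quotient
        (Cfsg.pCore p G) hRp hC g hk
      exact ⟨g, this, rfl⟩
  obtain ⟨q1, q2, q3⟩ := quotient_data F P A hAP hAn hA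
  have hinv : p ≠ 2 ∨ ¬ Cfsg.Involves (Equiv.Perm (Fin 4)) (G ⧸ F) := by
    rcases h with h | h
    · exact Or.inl h
    · exact Or.inr (fun hh => h (Cfsg.Agent.Lib.Helper1.GNPC2.involves_of_quotient' F hh))
  have key := main_reduced hS (P.mapSurjective hπs) (A.map π) q1 q2 q3 hinv
  rw [hcore, Subgroup.map_le_map_iff, QuotientGroup.ker_mk', sup_eq_left.mpr hFR] at key
  exact key

/-- the general statement. -/
theorem main_general (hsolv : Cfsg.IsPSolvable p G)
    (P : Sylow p G) (A : Subgroup G)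
    (hAP : A ≤ (P : Subgroup G)) (hAn : (P : Subgroup G) ≤ Subgroup.normalizer (A : Set G))
    (hA : IsCyclic A) (h : p ≠ 2 ∨ ¬ Cfsg.Involves (Equiv.Perm (Fin 4)) G) :
    A ≤ Cfsg.pPrimePCore p G := by
  have hNn : (Cfsg.pPrimeCore p G).Normal := Cfsg.pPrimeCore_normal p G
  set π := QuotientGroup.mk' (Cfsg.pPrimeCore p G) with hπ
  have hπs : Function.Surjective π := QuotientGroup.mk'_surjective _
  have hO : Cfsg.pPrimeCore p (G ⧸ Cfsg.pPrimeCore p G) = ⊥ :=
    Cfsg.Agent.Lib.Helper1.pPrimeCore_quotient_eq_bot p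
  obtain ⟨q1, q2, q3⟩ := quotient_data (Cfsg.pPrimeCore p G) P A hAP hAn hA
  have hinv : p ≠ 2 ∨ ¬ Cfsg.Involves (Equiv.Perm (Fin 4)) (G ⧸ Cfsg.pPrimeCore p G) := by
    rcases h with h | h
    · exact Or.inl h
    · exact Or.inr (fun hh => h (Cfsg.Agent.Lib.Helper1.GNPC2.involves_of_quotient' _ hh))
  have key := main_core_free
    (Cfsg.Agent.Lib.Helper5.h5_isPSolvable_of_surjective π hπs hsolv) hO
    (P.mapSurjective hπs) (A.map π) q1 q2 q3 hinv
  unfold Cfsg.pPrimePCore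
  rw [← Subgroup.map_le_iff_le_comap]
  exact key

end Cfsg.Agent.Lib.Helper20.CycNorm
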