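import Mathlib
import Cfsg.Agent.S0713

set_option autoImplicit false

/-! Project D11 (S0679), piece C (helper20): no small cycles and the order bound. -/

namespace Cfsg.Agent.Lib.Helper20.D11

open MulAction Equiv

variable {α : Type*} [Fintype α] [DecidableEq α]

theorem no_small_cycle (hα : Fintype.card α = 11) (G : Subgroup (Perm α))
    (hprim : IsPreprimitive G α) (hA : ¬ alternatingGroup α ≤ G) {g : Perm α} (hg : g ∈ G)
    (hc : g.IsCycle) :
    g.support.card ≠ 2 ∧ g.support.card ≠ 3 ∧ g.support.card ≠ 5 ∧ g.support.card ≠ 7 := by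
  have key : ∀ p : ℕ, p.Prime → p + 3 ≤ 11 → g.support.card ≠ p := by
    intro p hp hp3 h
    exact hA (Cfsg.Agent.S0713.result G hprim hp (by rw [hα]; norm_num) (by rw [hα]; exact hp3)
      hc h hg)
  exact ⟨key 2 (by norm_num) (by norm_num), key 3 (by norm_num) (by norm_num),
    key 5 (by norm_num) (by norm_num), key 7 (by norm_num) (by norm_num)⟩

/-- an element of prime order `p` with `2 * p > 11`, `p ≤ 11`, is a `p`-cycle -/
theorem isCycle_of_prime_order (hα : Fintype.card α = 11) {g : Perm α} {p : ℕ}
    (hp : p.Prime) (hg : orderOf g = p) (h2 : 11 < 2 * p) :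
    g.IsCycle ∧ g.support.card = p := by
  have hpo : (orderOf g).Prime := by rw [hg]; exact hp
  obtain ⟨n, hn⟩ := Equiv.Perm.cycleType_prime_order hpo
  have hsum : g.cycleType.sum = g.support.card := Equiv.Perm.sum_cycleType g
  have hle : g.support.card ≤ 11 := by
    rw [← hα]; exact Finset.card_le_univ _
  rw [hn, Multiset.sum_replicate, hg, smul_eq_mul] at hsum
  have hn0 : n = 0 := by
    by_contra h
    have : 2 ≤ n + 1 := by omega
    have : 2 * p ≤ (n + 1) * p := Nat.mul_le_mul_right p this
    omega
  subst hn0
  refine ⟨?_, by simpa using hsum.symm⟩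
  rw [← Equiv.Perm.card_cycleType_eq_one, hn]
  simp

theorem seven_not_dvd (hα : Fintype.card α = 11) (G : Subgroup (Perm α))
    (hprim : IsPreprimitive G α) (hA : ¬ alternatingGroup α ≤ G) : ¬ 7 ∣ Nat.card G := by
  intro h7
  haveI : Fact (Nat.Prime 7) := ⟨by norm_num⟩
  obtain ⟨g, hg⟩ := exists_prime_orderOf_dvd_card' 7 h7
  have hg' : orderOf (g : Perm α) = 7 := by rw [Subgroup.orderOf_coe]; exact hg
  obtain ⟨hc, hs⟩ := isCycle_of_prime_order hα (by norm_num) hg' (by norm_num)
  exact (no_small_cycle hα G hprim hA g.2 hc).2.2.2 hs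

/-- an element of order `5` in `G` has exactly one fixed point -/
theorem fix_of_order_five (hα : Fintype.card α = 11) (G : Subgroup (Perm α))
    (hprim : IsPreprimitive G α) (hA : ¬ alternatingGroup α ≤ G) {g : Perm α} (hg : g ∈ G)
    (h5 : orderOf g = 5) : g.support.card = 10 := by
  have hpo : (orderOf g).Prime := by rw [h5]; norm_num
  obtain ⟨n, hn⟩ := Equiv.Perm.cycleType_prime_order hpo
  have hsum : g.cycleType.sum = g.support.card := Equiv.Perm.sum_cycleType g
  have hle : g.support.card ≤ 11 := by
    rw [← hα]; exact Finset.card_le_univ _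
  rw [hn, Multiset.sum_replicate, h5, smul_eq_mul] at hsum
  have hn1 : n = 0 ∨ n = 1 := by omega
  rcases hn1 with h | h
  · subst h
    exfalso
    have hc : g.IsCycle := by
      rw [← Equiv.Perm.card_cycleType_eq_one, hn]; simp
    exact (no_small_cycle hα G hprim hA hg hc).2.2.1 (by omega)
  · subst h
    omega

theorem twentyfive_not_dvd (hα : Fintype.card α = 11) (G : Subgroup (Perm α))
    (hprim : IsPreprimitive G α) (hA : ¬ alternatingGroup α ≤ G) : ¬ 25 ∣ Nat.card G := by
  intro h25
  haveI : Fact (Nat.Prime 5) := ⟨by norm_num⟩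
  obtain ⟨Q, hQ⟩ := Sylow.exists_subgroup_card_pow_prime (G := G) 5 (n := 2) (by simpa using h25)
  have hQ25 : Nat.card Q = 25 := by rw [hQ]; norm_num
  -- `Q` is commutative
  have hcomm : ∀ a b : Q, a * b = b * a := by
    have := IsPGroup.commutative_of_card_eq_prime_sq (p := 5) (G := Q) (by rw [hQ])
    exact this
  -- every non-trivial element of `Q` has order 5
  have hord : ∀ a : Q, a ≠ 1 → orderOf ((a : G) : Perm α) = 5 := by
    intro a ha
    have h1 : orderOf a ∣ 25 := by rw [← hQ25]; exact orderOf_dvd_natCard a
    have h2 : orderOf ((a : G) : Perm α) = orderOf a := by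
      rw [Subgroup.orderOf_coe, Subgroup.orderOf_coe]
    rw [h2]
    have h3 : orderOf a ≠ 1 := by rwa [Ne, orderOf_eq_one_iff]
    have hdiv : orderOf a ∈ Nat.divisors 25 := by
      rw [Nat.mem_divisors]; exact ⟨h1, by norm_num⟩
    have hd : Nat.divisors 25 = {1, 5, 25} := by decide
    rw [hd] at hdiv
    simp only [Finset.mem_insert, Finset.mem_singleton] at hdiv
    rcases hdiv with h | h | h
    · exact absurd h h3
    · exact h
    · -- order 25 impossible in `Perm α`, `card α = 11`
      exfalso
      have h4 : orderOf ((a : G) : Perm α) = 25 := by rw [h2, h]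
      have hlcm := Equiv.Perm.lcm_cycleType ((a : G) : Perm α)
      rw [h4] at hlcm
      -- some cycle length is divisible by 25
      have : ∃ m ∈ ((a : G) : Perm α).cycleType, 25 ∣ m := by
        by_contra hcon
        push Not at hcon
        have hall : ∀ m ∈ ((a : G) : Perm α).cycleType, m ∣ 5 := by
          intro m hm
          have hm25 : m ∣ 25 := by
            rw [← hlcm]; exact Multiset.dvd_lcm hm
          have hmd : m ∈ Nat.divisors 25 := by
            rw [Nat.mem_divisors]; exact ⟨hm25, by norm_num⟩
          rw [hd] at hmd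
          simp only [Finset.mem_insert, Finset.mem_singleton] at hmd
          rcases hmd with h' | h' | h'
          · rw [h']; norm_num
          · rw [h']
          · exact absurd (by rw [h']) (hcon m hm)
        have : ((a : G) : Perm α).cycleType.lcm ∣ 5 := Multiset.lcm_dvd.mpr hall
        rw [hlcm] at this
        norm_num at this
      obtain ⟨m, hm, hm25⟩ := this
      have hmle : m ≤ ((a : G) : Perm α).cycleType.sum := Multiset.le_sum_of_mem hm
      rw [Equiv.Perm.sum_cycleType] at hmle
      have hle : ((a : G) : Perm α).support.card ≤ 11 := by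
        rw [← hα]; exact Finset.card_le_univ _
      have hmpos : 0 < m := by
        have := Equiv.Perm.two_le_of_mem_cycleType hm
        omega
      have := Nat.le_of_dvd hmpos hm25
      omega
  -- a non-trivial element
  haveI : Finite Q := Nat.finite_of_card_ne_zero (by rw [hQ25]; norm_num)
  obtain ⟨a, ha⟩ : ∃ a : Q, a ≠ 1 := by
    by_contra hcon
    push Not at hcon
    haveI : Subsingleton Q := ⟨fun x y => by rw [hcon x, hcon y]⟩
    have : Nat.card Q = 1 := Nat.card_unique
    omega
  -- the fixed point of `a`
  have hsa := fix_of_order_five hα G hprim hA (a : G).2 (hord a ha)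
  have hfix : ∃ z : α, ((a : G) : Perm α) z = z := by
    by_contra hcon
    push Not at hcon
    have : ((a : G) : Perm α).support = Finset.univ := by
      ext x; simp [Equiv.Perm.mem_support, hcon x]
    rw [this, Finset.card_univ, hα] at hsa
    omega
  obtain ⟨z, hz⟩ := hfix
  -- uniqueness of fixed points of non-trivial elements
  have huniq : ∀ b : Q, b ≠ 1 → ∀ x y : α, ((b : G) : Perm α) x = x → ((b : G) : Perm α) y = y →
      x = y := by
    intro b hb x y hx hy
    by_contra hxy
    have hsb := fix_of_order_five hα G hprim hA (b : G).2 (hord b hb)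
    have hsub : ((b : G) : Perm α).support ⊆ (Finset.univ.erase x).erase y := by
      intro w hw
      rw [Equiv.Perm.mem_support] at hw
      rw [Finset.mem_erase, Finset.mem_erase]
      refine ⟨?_, ?_, Finset.mem_univ _⟩
      · rintro rfl; exact hw hy
      · rintro rfl; exact hw hx
    have hc := Finset.card_le_card hsub
    rw [Finset.card_erase_of_mem (by
      rw [Finset.mem_erase]; exact ⟨fun h => hxy h.symm, Finset.mem_univ _⟩),
      Finset.card_erase_of_mem (Finset.mem_univ _), Finset.card_univ, hα] at hc
    omega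
  -- `Q` fixes `z`
  have hQz : ∀ b : Q, ((b : G) : Perm α) z = z := by
    intro b
    have hcz : ((a : G) : Perm α) (((b : G) : Perm α) z) = ((b : G) : Perm α) z := by
      have h1 : (a : G) * (b : G) = (b : G) * (a : G) := by
        have := congrArg (fun q : Q => (q : G)) (hcomm a b)
        simpa using this
      have h2 : ((a : G) : Perm α) * ((b : G) : Perm α) = ((b : G) : Perm α) * ((a : G) : Perm α) := by
        have := congrArg (fun q : G => (q : Perm α)) h1
        simpa using this
      have := congrArg (fun σ : Perm α => σ z) h2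
      simp only [Perm.mul_apply] at this
      rw [this, hz]
    exact huniq a ha _ _ hcz hz
  -- another point
  obtain ⟨x, hx⟩ : ∃ x : α, x ≠ z := by
    by_contra hcon
    push Not at hcon
    have : Fintype.card α ≤ 1 := by
      rw [Fintype.card_le_one_iff]
      intro u v; rw [hcon u, hcon v]
    omega
  -- the map `Q → α`, `b ↦ b x` is injective
  have hinj : Function.Injective (fun b : Q => ((b : G) : Perm α) x) := by
    intro b c hbc
    simp only at hbc
    by_contra hne
    have hne' : b⁻¹ * c ≠ 1 := by
      intro h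
      apply hne
      have := eq_of_inv_mul_eq_one h
      exact this
    have hfx : (((b⁻¹ * c : Q) : G) : Perm α) x = x := by
      have : (((b⁻¹ * c : Q) : G) : Perm α) = (((b : G) : Perm α))⁻¹ * ((c : G) : Perm α) := by
        simp
      rw [this, Perm.mul_apply, ← hbc]
      simp
    exact hx (huniq _ hne' _ _ hfx (hQz _))
  have := Nat.card_le_card_of_injective _ hinj
  rw [hQ25, Nat.card_eq_fintype_card, hα] at this
  omega

theorem card_dvd (hα : Fintype.card α = 11) (G : Subgroup (Perm α))
    (hprim : IsPreprimitive G α) (hA : ¬ alternatingGroup α ≤ G)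
    (heven : G ≤ alternatingGroup α) : Nat.card G ∣ 570240 := by
  have h7 := seven_not_dvd hα G hprim hA
  have h25 := twentyfive_not_dvd hα G hprim hA
  have hA11 : Nat.card (alternatingGroup α) * 2 = 39916800 := by
    have h1 : Nat.card (alternatingGroup α) * 2 = Nat.card (Perm α) := by
      have hnt : Nontrivial α := by
        rw [← Fintype.one_lt_card_iff_nontrivial, hα]; norm_num
      rw [Nat.card_eq_fintype_card, Nat.card_eq_fintype_card, mul_comm]
      exact two_mul_card_alternatingGroup
    rw [h1, Nat.card_eq_fintype_card, Fintype.card_perm, hα]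
    rfl
  have hdvd : Nat.card G ∣ Nat.card (alternatingGroup α) := by
    have := Subgroup.card_dvd_of_le heven
    exact this
  have hdvd2 : Nat.card G ∣ 19958400 := by
    have : Nat.card (alternatingGroup α) = 19958400 := by omega
    rwa [this] at hdvd
  -- 19958400 = 570240 * 35
  have h1 : Nat.card G ∣ 2851200 * 7 := by norm_num; exact hdvd2
  have hc7 : Nat.Coprime (Nat.card G) 7 := by
    rw [Nat.coprime_comm]
    exact (Nat.Prime.coprime_iff_not_dvd (by norm_num)).mpr h7
  have h2 : Nat.card G ∣ 2851200 := hc7.dvd_of_dvd_mul_right h1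
  -- 2851200 = 570240 * 5 = 114048 * 25
  by_cases h5 : 5 ∣ Nat.card G
  · obtain ⟨m, hm⟩ := h5
    have hm5 : ¬ 5 ∣ m := by
      rintro ⟨k, hk⟩
      apply h25
      exact ⟨k, by rw [hm, hk]; ring⟩
    have h3 : m ∣ 114048 * 5 := by
      have : 5 * m ∣ 5 * 570240 := by rw [← hm]; norm_num; exact h2
      have := Nat.dvd_of_mul_dvd_mul_left (by norm_num) this
      norm_num; exact this
    have hcm : Nat.Coprime m 5 := by
      rw [Nat.coprime_comm]
      exact (Nat.Prime.coprime_iff_not_dvd (by norm_num)).mpr hm5
    have h4 : m ∣ 114048 := hcm.dvd_of_dvd_mul_right h3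
    rw [hm]
    have : (570240 : ℕ) = 5 * 114048 := by norm_num
    rw [this]
    exact Nat.mul_dvd_mul_left 5 h4
  · have hc5 : Nat.Coprime (Nat.card G) 5 := by
      rw [Nat.coprime_comm]
      exact (Nat.Prime.coprime_iff_not_dvd (by norm_num)).mpr h5
    have : Nat.card G ∣ 570240 * 5 := by norm_num; exact h2
    exact hc5.dvd_of_dvd_mul_right this

end Cfsg.Agent.Lib.Helper20.D11
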