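import Mathlib
import Cfsg.Agent.Lib.Helper20.D11C

set_option autoImplicit false

/-! Project D11 (S0679), piece D (helper20): the Sylow 5 count. -/

namespace Cfsg.Agent.Lib.Helper20.D11

open MulAction Equiv

variable {α : Type*} [Fintype α] [DecidableEq α]

/-- if `c` commutes with `μ`, `μ ^ 5 = 1` and `c` fixes every fixed point of `μ`, then
`5 ∣ |supp c|`. -/
theorem five_dvd_support {μ c : Perm α} (hcomm : μ * c = c * μ) (h5 : μ ^ 5 = 1)
    (hfix : ∀ w, μ w = w → c w = w) : 5 ∣ c.support.card := by
  have hinv : ∀ x, (μ x ∈ c.support) ↔ x ∈ c.support := by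
    intro x
    rw [Perm.mem_support, Perm.mem_support]
    have : c (μ x) = μ (c x) := by
      have := congrArg (fun σ : Perm α => σ x) hcomm
      simp only [Perm.mul_apply] at this
      exact this.symm
    rw [this]
    exact μ.injective.ne_iff
  obtain ⟨τ, hτ⟩ : ∃ τ : Perm {x // x ∈ c.support}, τ = μ.subtypePerm hinv := ⟨_, rfl⟩
  have hτ5 : τ ^ 5 ^ 1 = 1 := by
    rw [pow_one, hτ, Perm.subtypePerm_pow]
    ext x
    simp [h5]
  haveI : Fact (Nat.Prime 5) := ⟨by norm_num⟩
  have hmod := Perm.card_compl_support_modEq hτ5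
  have hsupp : τ.support = Finset.univ := by
    ext x
    simp only [Finset.mem_univ, iff_true, Perm.mem_support]
    intro hx
    have h1 : μ (x : α) = x := by
      have := congrArg Subtype.val hx
      rw [hτ] at this
      simpa using this
    exact (Perm.mem_support.mp x.2) (hfix _ h1)
  rw [hsupp, Finset.compl_univ, Finset.card_empty, Fintype.card_coe] at hmod
  exact (Nat.modEq_zero_iff_dvd.mp hmod.symm)

theorem fix_unique (hα : Fintype.card α = 11) {g : Perm α} (hg : g.support.card = 10) {a b : α}
    (ha : g a = a) (hb : g b = b) : a = b := by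
  by_contra hab
  have hsub : g.support ⊆ (Finset.univ.erase a).erase b := by
    intro w hw
    rw [Perm.mem_support] at hw
    rw [Finset.mem_erase, Finset.mem_erase]
    refine ⟨?_, ?_, Finset.mem_univ _⟩
    · rintro rfl; exact hw hb
    · rintro rfl; exact hw ha
  have hc := Finset.card_le_card hsub
  rw [Finset.card_erase_of_mem (by
    rw [Finset.mem_erase]; exact ⟨fun h => hab h.symm, Finset.mem_univ _⟩),
    Finset.card_erase_of_mem (Finset.mem_univ _), Finset.card_univ, hα] at hc
  omega

theorem exists_fix (hα : Fintype.card α = 11) {g : Perm α} (hg : g.support.card = 10) :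
    ∃ z, g z = z := by
  by_contra hcon
  push Not at hcon
  have : g.support = Finset.univ := by
    ext x; simp [Perm.mem_support, hcon x]
  rw [this, Finset.card_univ, hα] at hg
  omega

/-- an element of `G` commuting with an element `μ` of order 5 and fixing a point moved by `μ`
is trivial -/
theorem eq_one_of_fix (hα : Fintype.card α = 11) (G : Subgroup (Perm α))
    (hprim : IsPreprimitive G α) (hA : ¬ alternatingGroup α ≤ G) {μ c : Perm α} (hμ : μ ∈ G)
    (hμ5 : orderOf μ = 5) (hc : c ∈ G) (hcomm : μ * c = c * μ) {x : α} (hx : μ x ≠ x)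
    (hcx : c x = x) : c = 1 := by
  by_contra hc1
  have hsμ := fix_of_order_five hα G hprim hA hμ hμ5
  obtain ⟨z, hz⟩ := exists_fix hα hsμ
  have hμ5' : μ ^ 5 = 1 := by rw [← hμ5]; exact pow_orderOf_eq_one μ
  -- the order of `c`
  have hoc : orderOf c ≠ 1 := by rwa [Ne, orderOf_eq_one_iff]
  have hoc0 : 0 < orderOf c := orderOf_pos c
  obtain ⟨r, hr, hrd⟩ := Nat.exists_prime_and_dvd hoc
  obtain ⟨c', hc'⟩ : ∃ c' : Perm α, c' = c ^ (orderOf c / r) := ⟨_, rfl⟩
  have hoc' : orderOf c' = r := by
    rw [hc']; exact orderOf_pow_orderOf_div hoc0.ne' hrd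
  have hc'G : c' ∈ G := by rw [hc']; exact G.pow_mem hc _
  have hcomm' : μ * c' = c' * μ := by
    rw [hc']
    exact ((Commute.pow_right (show Commute μ c from hcomm) _)).eq
  have hc'x : c' x = x := by
    rw [hc']
    exact (Perm.pow_apply_eq_self_of_apply_eq_self hcx _)
  have hfix : ∀ w, μ w = w → c' w = w := by
    intro w hw
    have h1 : μ (c' w) = c' w := by
      have := congrArg (fun σ : Perm α => σ w) hcomm'
      simp only [Perm.mul_apply] at this
      rw [this, hw]
    exact fix_unique hα hsμ h1 hw
  have hdvd := five_dvd_support hcomm' hμ5' hfix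
  have hxz : x ≠ z := by
    rintro rfl; exact hx hz
  have hle : c'.support.card ≤ 9 := by
    have hsub : c'.support ⊆ (Finset.univ.erase x).erase z := by
      intro w hw
      rw [Perm.mem_support] at hw
      rw [Finset.mem_erase, Finset.mem_erase]
      refine ⟨?_, ?_, Finset.mem_univ _⟩
      · rintro rfl; exact hw (hfix _ hz)
      · rintro rfl; exact hw hc'x
    have hcd := Finset.card_le_card hsub
    rw [Finset.card_erase_of_mem (by
      rw [Finset.mem_erase]; exact ⟨fun h => hxz h.symm, Finset.mem_univ _⟩),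
      Finset.card_erase_of_mem (Finset.mem_univ _), Finset.card_univ, hα] at hcd
    omega
  have hc'1 : c' ≠ 1 := by
    intro h
    rw [h, orderOf_one] at hoc'
    exact hr.one_lt.ne hoc'
  have hpos : 0 < c'.support.card := by
    rw [Finset.card_pos]
    by_contra hne
    rw [Finset.not_nonempty_iff_eq_empty, Perm.support_eq_empty_iff] at hne
    exact hc'1 hne
  have hcard5 : c'.support.card = 5 := by
    obtain ⟨k, hk⟩ := hdvd
    omega
  have hpo : (orderOf c').Prime := by rw [hoc']; exact hr
  obtain ⟨n, hn⟩ := Perm.cycleType_prime_order hpo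
  have hsum : c'.cycleType.sum = c'.support.card := Perm.sum_cycleType c'
  rw [hn, Multiset.sum_replicate, hoc', smul_eq_mul, hcard5] at hsum
  have hr5 : r = 5 := by
    have : r ∣ 5 := ⟨n + 1, by rw [← hsum]; ring⟩
    exact (Nat.prime_dvd_prime_iff_eq hr (by norm_num)).mp this
  have := fix_of_order_five hα G hprim hA hc'G (by rw [hoc', hr5])
  omega

theorem sylow5_count (hα : Fintype.card α = 11) (G : Subgroup (Perm α))
    (hprim : IsPreprimitive G α) (hA : ¬ alternatingGroup α ≤ G) (hsimple : IsSimpleGroup G)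
    (hns : ¬ IsSolvable G) (heven : G ≤ alternatingGroup α) (h5 : 5 ∣ Nat.card G) :
    (10 ∣ Nat.card G ∧ (Nat.card G / 10) % 5 = 1) ∨
      (20 ∣ Nat.card G ∧ (Nat.card G / 20) % 5 = 1) := by
  classical
  haveI : Fact (Nat.Prime 5) := ⟨by norm_num⟩
  have h25 := twentyfive_not_dvd hα G hprim hA
  have hG0 : Nat.card G ≠ 0 := Nat.card_pos.ne'
  obtain ⟨P⟩ : Nonempty (Sylow 5 G) := inferInstance
  have hPcard : Nat.card (P : Subgroup G) = 5 := by
    rw [P.card_eq_multiplicity]
    have h1 : 1 ≤ (Nat.card G).factorization 5 := by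
      rw [← Nat.Prime.pow_dvd_iff_le_factorization (by norm_num) hG0]; simpa using h5
    have h2 : ¬ 2 ≤ (Nat.card G).factorization 5 := by
      rw [← Nat.Prime.pow_dvd_iff_le_factorization (by norm_num) hG0]; simpa using h25
    have : (Nat.card G).factorization 5 = 1 := by omega
    rw [this, pow_one]
  haveI hcyc : IsCyclic (P : Subgroup G) := isCyclic_of_prime_card hPcard
  obtain ⟨g, hg⟩ := IsCyclic.exists_generator (α := (P : Subgroup G))
  have hog : orderOf g = 5 := by
    rw [orderOf_eq_card_of_forall_mem_zpowers hg, hPcard]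
  obtain ⟨μ, hμdef⟩ : ∃ μ : Perm α, μ = ((g : G) : Perm α) := ⟨_, rfl⟩
  have hμG : μ ∈ G := by rw [hμdef]; exact (g : G).2
  have hμ5 : orderOf μ = 5 := by
    rw [hμdef, Subgroup.orderOf_coe, Subgroup.orderOf_coe, hog]
  have hsμ := fix_of_order_five hα G hprim hA hμG hμ5
  obtain ⟨z, hz⟩ := exists_fix hα hsμ
  -- the centralizer
  obtain ⟨C, hC⟩ : ∃ C : Subgroup G, C = Subgroup.centralizer ((P : Subgroup G) : Set G) := ⟨_, rfl⟩
  have hCcomm : ∀ c ∈ C, μ * (c : Perm α) = (c : Perm α) * μ := by
    intro c hc
    rw [hC, Subgroup.mem_centralizer_iff] at hc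
    have h1 := hc (g : G) g.2
    rw [hμdef]
    have := congrArg (fun q : G => (q : Perm α)) h1
    simpa using this
  have hCsupp : ∀ c ∈ C, c ≠ 1 → (c : Perm α).support.card = 10 := by
    intro c hc hc1
    have hc1' : (c : Perm α) ≠ 1 := by
      intro h; apply hc1; exact Subtype.ext h
    have hsub : μ.support ⊆ (c : Perm α).support := by
      intro x hx
      rw [Perm.mem_support] at hx ⊢
      intro hcx
      exact hc1' (eq_one_of_fix hα G hprim hA hμG hμ5 c.2 (hCcomm c hc) hx hcx)
    have h1 := Finset.card_le_card hsub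
    have hcz : (c : Perm α) z = z := by
      have h2 : μ ((c : Perm α) z) = (c : Perm α) z := by
        have := congrArg (fun σ : Perm α => σ z) (hCcomm c hc)
        simp only [Perm.mul_apply] at this
        rw [this, hz]
      exact fix_unique hα hsμ h2 hz
    have h3 : (c : Perm α).support ⊆ Finset.univ.erase z := by
      intro w hw
      rw [Perm.mem_support] at hw
      rw [Finset.mem_erase]
      refine ⟨?_, Finset.mem_univ _⟩
      rintro rfl; exact hw hcz
    have h4 := Finset.card_le_card h3
    rw [Finset.card_erase_of_mem (Finset.mem_univ _), Finset.card_univ, hα] at h4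
    omega
  -- primes dividing `|C|`
  have hCprime : ∀ {r : ℕ}, r.Prime → r ∣ Nat.card C → r = 5 := by
    intro r hr hrd
    haveI : Fact r.Prime := ⟨hr⟩
    obtain ⟨c, hc⟩ := exists_prime_orderOf_dvd_card' r hrd
    have hc1 : (c : G) ≠ 1 := by
      intro h
      have : c = 1 := Subtype.ext h
      rw [this, orderOf_one] at hc
      exact hr.one_lt.ne hc
    have hs := hCsupp (c : G) c.2 hc1
    have hoc : orderOf ((c : G) : Perm α) = r := by
      rw [Subgroup.orderOf_coe, Subgroup.orderOf_coe, hc]
    have hpo : (orderOf ((c : G) : Perm α)).Prime := by rw [hoc]; exact hr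
    obtain ⟨n, hn⟩ := Perm.cycleType_prime_order hpo
    have hsum : ((c : G) : Perm α).cycleType.sum = ((c : G) : Perm α).support.card :=
      Perm.sum_cycleType _
    rw [hn, Multiset.sum_replicate, hoc, smul_eq_mul, hs] at hsum
    have hr10 : r ∣ 10 := ⟨n + 1, by rw [← hsum]; ring⟩
    have hr25 : r = 2 ∨ r = 5 := by
      have : r ∣ 2 * 5 := by simpa using hr10
      rcases (Nat.Prime.dvd_mul hr).mp this with h | h
      · exact Or.inl ((Nat.prime_dvd_prime_iff_eq hr (by norm_num)).mp h)
      · exact Or.inr ((Nat.prime_dvd_prime_iff_eq hr (by norm_num)).mp h)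
    rcases hr25 with h2 | h5'
    · exfalso
      subst h2
      have hn5 : n + 1 = 5 := by omega
      have hsign := Perm.sign_of_cycleType ((c : G) : Perm α)
      rw [hn, hoc, Multiset.sum_replicate, Multiset.card_replicate, hn5] at hsign
      have hev : ((c : G) : Perm α) ∈ alternatingGroup α := heven (c : G).2
      rw [Perm.mem_alternatingGroup] at hev
      rw [hev] at hsign
      norm_num at hsign
    · exact h5'
  have hCfin : Nat.card C ≠ 0 := Nat.card_pos.ne'
  have hCpow := Nat.eq_prime_pow_of_unique_prime_dvd hCfin (fun {d} => hCprime)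
  have hPC : (P : Subgroup G) ≤ C := by
    rw [hC]
    intro a ha
    rw [Subgroup.mem_centralizer_iff]
    intro b hb
    -- `P` is cyclic hence commutative
    obtain ⟨i, hi⟩ := Subgroup.mem_zpowers_iff.mp (hg ⟨a, ha⟩)
    obtain ⟨j, hj⟩ := Subgroup.mem_zpowers_iff.mp (hg ⟨b, hb⟩)
    have ha' : a = (g : G) ^ i := by
      have := congrArg Subtype.val hi; simpa using this.symm
    have hb' : b = (g : G) ^ j := by
      have := congrArg Subtype.val hj; simpa using this.symm
    rw [ha', hb']
    exact (Commute.zpow_zpow_self (g : G) j i).eq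
  have hCcard : Nat.card C = 5 := by
    obtain ⟨k, hk⟩ : ∃ k, Nat.card C = 5 ^ k := ⟨_, hCpow⟩
    have hle : 5 ≤ Nat.card C := by
      rw [← hPcard]; exact Subgroup.card_le_of_le hPC
    have hdv : Nat.card C ∣ Nat.card G := Subgroup.card_subgroup_dvd_card C
    rcases k with _ | _ | k
    · rw [hk] at hle; norm_num at hle
    · rw [hk]; norm_num
    · exfalso
      apply h25
      refine Dvd.dvd.trans ?_ hdv
      rw [hk]
      exact ⟨5 ^ k, by ring⟩
  -- the normalizer
  obtain ⟨N, hN⟩ : ∃ N : Subgroup G, N = Subgroup.normalizer ((P : Subgroup G) : Set G) := ⟨_, rfl⟩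
  have hCN : C ≤ N := by
    rw [hC, hN]; exact Subgroup.centralizer_le_normalizer _
  have key : C.relIndex N ∣ 4 := by
    have key := Subgroup.card_dvd_of_injective _
      (QuotientGroup.kerLift_injective (P : Subgroup G).normalizerMonoidHom)
    rw [Subgroup.normalizerMonoidHom_ker, ← Subgroup.index, ← Subgroup.relIndex] at key
    rw [hcyc.card_mulAut, hPcard] at key
    have h4 : Nat.totient 5 = 4 := by
      rw [Nat.totient_prime (by norm_num)]
    rw [h4] at key
    rw [hC, hN]
    exact key
  have hNcard : Nat.card N = C.relIndex N * 5 := by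
    have h1 := Subgroup.card_mul_index (C.subgroupOf N)
    have h2 : Nat.card (C.subgroupOf N) = Nat.card C :=
      Nat.card_congr (Subgroup.subgroupOfEquivOfLe hCN).toEquiv
    rw [h2, hCcard] at h1
    rw [Subgroup.relIndex, ← h1, mul_comm]
  have hidx : N.index % 5 = 1 := by
    have h1 := card_sylow_modEq_one 5 G
    rw [Sylow.card_eq_index_normalizer P] at h1
    rw [hN]
    exact h1
  have hGN : Nat.card N * N.index = Nat.card G := Subgroup.card_mul_index N
  have hj : C.relIndex N ∈ Nat.divisors 4 := by
    rw [Nat.mem_divisors]; exact ⟨key, by norm_num⟩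
  have hd4 : Nat.divisors 4 = {1, 2, 4} := by decide
  rw [hd4] at hj
  simp only [Finset.mem_insert, Finset.mem_singleton] at hj
  rcases hj with hj | hj | hj
  · -- `|N| = 5`: transfer
    exfalso
    rw [hj] at hNcard
    have hNC : N = C := by
      symm
      apply Subgroup.eq_of_le_of_card_ge hCN
      rw [hNcard, hCcard]
    have hle : Subgroup.normalizer ((P : Subgroup G) : Set G) ≤
        Subgroup.centralizer ((P : Subgroup G) : Set G) := by
      rw [← hN, ← hC, hNC]
    have hcompl := MonoidHom.ker_transferSylow_isComplement' P hle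
    have hcm := hcompl.card_mul_card
    rcases (MonoidHom.normal_ker (MonoidHom.transferSylow P hle)).eq_bot_or_eq_top with h | h
    · rw [h, Subgroup.card_bot, one_mul, hPcard] at hcm
      have hcycG : IsCyclic G := isCyclic_of_prime_card hcm.symm
      let _i := IsCyclic.commGroup (α := G)
      exact hns (Group.isSolvable_of_comm (fun a b => mul_comm a b))
    · rw [h, Subgroup.card_top, hPcard] at hcm
      have : 0 < Nat.card G := Nat.card_pos
      nlinarith
  · left
    rw [hj] at hNcard
    rw [← hGN, hNcard]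
    norm_num
    exact hidx
  · right
    rw [hj] at hNcard
    rw [← hGN, hNcard]
    norm_num
    exact hidx

end Cfsg.Agent.Lib.Helper20.D11
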