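import Mathlib
import Cfsg.Prelude.Def_DegreeGraph
import Cfsg.Prelude.Def_Classical
import Cfsg.Agent.Lib.Helper1.U35D
import Cfsg.Agent.Lib.helper14.DegGraph

set_option autoImplicit false

/-! Project DGU (S3670), piece T. -/

namespace Cfsg.Agent.Lib.Helper21.DGU

/-- DGU-T: transfer of the degree set along an isomorphism, and the field of nine elements. -/
theorem charDegrees_psu_of_card_nine {F : Type*} [Field F] [Fintype F] (hF : Fintype.card F = 9)
    {K : Type*} [Field K] [Fintype K] (hK : Fintype.card K = 9) :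
    Cfsg.charDegrees (Cfsg.PSU 3 F 3) = Cfsg.charDegrees (Cfsg.PSU 3 K 3) ∧
      Nat.card (Cfsg.PSU 3 F 3) = Nat.card (Cfsg.PSU 3 K 3) := by
  have φ : F ≃+* K := FiniteField.ringEquivOfCardEq (hF.trans hK.symm)
  obtain ⟨e⟩ := Cfsg.Agent.Lib.Helper1.U35.psu_congr φ 3 3
  exact ⟨Cfsg.Agent.Lib.helper14.charDegrees_congr e, Nat.card_congr e.toEquiv⟩

end Cfsg.Agent.Lib.Helper21.DGU
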