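import Mathlib

set_option autoImplicit false

/-!
# Derangement classes (part A)

* `IsDer g`: `g` has no fixed point.
* `card_classes_eq_one_iff`: the number of conjugacy classes of derangements is one iff a
  derangement exists and any two are conjugate.
* `exists_isDer`: Jordan's lemma.
* `oneClass_of_sharp`: sharply 2-transitive groups have a single class of derangements.
-/

namespace Cfsg.Agent.Lib.Helper20.Der

open MulAction

variable {G Ω : Type*} [Group G] [MulAction G Ω]

/-- `g` is a derangement. -/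
def IsDer (Ω : Type*) [MulAction G Ω] (g : G) : Prop := ∀ ω : Ω, g • ω ≠ ω

theorem IsDer.conj {g : G} (h : IsDer Ω g) (k : G) : IsDer Ω (k * g * k⁻¹) := by
  intro ω hω
  apply h (k⁻¹ • ω)
  rw [mul_smul, mul_smul] at hω
  have := congrArg (fun x => k⁻¹ • x) hω
  simpa using this

theorem IsDer.ne_one [Nonempty Ω] {g : G} (h : IsDer Ω g) : g ≠ 1 := by
  rintro rfl
  obtain ⟨ω⟩ := ‹Nonempty Ω›
  exact h ω (one_smul _ _)

/-- one class of derangements -/
def OneClass (G Ω : Type*) [Group G] [MulAction G Ω] : Prop :=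
  (∃ g : G, IsDer Ω g) ∧ ∀ g h : G, IsDer Ω g → IsDer Ω h → IsConj g h

theorem card_classes_eq_one_iff :
    Nat.card {c : ConjClasses G // ∃ g : G, ConjClasses.mk g = c ∧ ∀ ω : Ω, g • ω ≠ ω} = 1 ↔
      OneClass G Ω := by
  rw [Nat.card_eq_one_iff_unique]
  constructor
  · rintro ⟨hsub, ⟨c, g, hgc, hg⟩⟩
    refine ⟨⟨g, hg⟩, fun x y hx hy => ?_⟩
    have := @Subsingleton.elim _ hsub
      (⟨ConjClasses.mk x, x, rfl, hx⟩ :
        {c : ConjClasses G // ∃ g : G, ConjClasses.mk g = c ∧ ∀ ω : Ω, g • ω ≠ ω})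
      ⟨ConjClasses.mk y, y, rfl, hy⟩
    exact ConjClasses.mk_eq_mk_iff_isConj.mp (congrArg Subtype.val this)
  · rintro ⟨⟨g, hg⟩, hall⟩
    refine ⟨⟨?_⟩, ⟨⟨ConjClasses.mk g, g, rfl, hg⟩⟩⟩
    rintro ⟨c, x, rfl, hx⟩ ⟨d, y, rfl, hy⟩
    apply Subtype.ext
    exact ConjClasses.mk_eq_mk_iff_isConj.mpr (hall x y hx hy)

section Burnside

variable [Finite G] [Finite Ω]

/-- Burnside's lemma for a transitive action, `Nat.card` form with an explicit fixed-point
counting function. -/
theorem sum_fixed_eq_card [IsPretransitive G Ω] [Nonempty Ω] [Fintype G] [Fintype Ω]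
    [DecidableEq Ω] :
    ∑ g : G, (Finset.univ.filter (fun ω : Ω => g • ω = ω)).card = Fintype.card G := by
  classical
  have h := MulAction.sum_card_fixedBy_eq_card_orbits_mul_card_group G Ω
  have hone : Fintype.card (orbitRel.Quotient G Ω) = 1 := by
    haveI : Unique (orbitRel.Quotient G Ω) :=
      (pretransitive_iff_unique_quotient_of_nonempty (G := G) (α := Ω)).mp inferInstance |>.some
    exact Fintype.card_unique
  rw [hone, one_mul] at h
  rw [← h]
  apply Finset.sum_congr rfl
  intro g _
  rw [Fintype.card_subtype]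
  rfl

/-- **Jordan's lemma**: a finite transitive group of degree at least two contains a
derangement. -/
theorem exists_isDer [IsPretransitive G Ω] (hΩ : 2 ≤ Nat.card Ω) : ∃ g : G, IsDer Ω g := by
  classical
  haveI := Fintype.ofFinite G
  haveI := Fintype.ofFinite Ω
  haveI : Nonempty Ω := by
    have : 0 < Nat.card Ω := by omega
    exact (Nat.card_pos_iff.mp this).1
  by_contra hcon
  push Not at hcon
  have hfix : ∀ g : G, 1 ≤ (Finset.univ.filter (fun ω : Ω => g • ω = ω)).card := by
    intro g
    have : ¬ IsDer Ω g := hcon g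
    unfold IsDer at this
    push Not at this
    obtain ⟨ω, hω⟩ := this
    exact Finset.card_pos.mpr ⟨ω, by simp [hω]⟩
  have hsum := sum_fixed_eq_card (G := G) (Ω := Ω)
  have h1 : (Finset.univ.filter (fun ω : Ω => (1 : G) • ω = ω)).card = Fintype.card Ω := by
    simp
  have hlt : Fintype.card G < ∑ g : G, (Finset.univ.filter (fun ω : Ω => g • ω = ω)).card := by
    calc Fintype.card G = ∑ _g : G, 1 := by simp
      _ < ∑ g : G, (Finset.univ.filter (fun ω : Ω => g • ω = ω)).card := by
        apply Finset.sum_lt_sum (fun g _ => hfix g)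
        refine ⟨1, Finset.mem_univ _, ?_⟩
        rw [h1, ← Nat.card_eq_fintype_card]
        omega
  omega

end Burnside

end Cfsg.Agent.Lib.Helper20.Der
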