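import Mathlib
import Cfsg.Agent.Lib.Helper20.DerA

set_option autoImplicit false

/-!
# Derangement classes (part B): sharply 2-transitive groups have one class of derangements
-/

namespace Cfsg.Agent.Lib.Helper20.Der

open MulAction

variable {G Ω : Type*} [Group G] [MulAction G Ω]

section Sharp

variable [Finite G] [Finite Ω]

/-- In a sharply 2-transitive group of degree `n` there are exactly `n - 1` derangements. -/
theorem card_der_of_sharp (hΩ : 2 ≤ Nat.card Ω) [IsPretransitive G Ω]
    (hfix : ∀ g : G, g ≠ 1 → ∀ a b : Ω, a ≠ b → g • a = a → g • b ≠ b) :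
    Nat.card {g : G // IsDer Ω g} + 1 = Nat.card Ω := by
  classical
  haveI := Fintype.ofFinite G
  haveI := Fintype.ofFinite Ω
  haveI : Nonempty Ω := by
    have : 0 < Nat.card Ω := by omega
    exact (Nat.card_pos_iff.mp this).1
  have hsum := sum_fixed_eq_card (G := G) (Ω := Ω)
  have hpt : ∀ g : G, (Finset.univ.filter (fun ω : Ω => g • ω = ω)).card +
      (if IsDer Ω g then 1 else 0) = if g = 1 then Fintype.card Ω else 1 := by
    intro g
    by_cases hg : g = 1
    · subst hg
      have : ¬ IsDer Ω (1 : G) := fun h => IsDer.ne_one h rfl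
      simp [this]
    · rw [if_neg hg]
      by_cases hd : IsDer Ω g
      · rw [if_pos hd]
        have : Finset.univ.filter (fun ω : Ω => g • ω = ω) = ∅ := by
          rw [Finset.filter_eq_empty_iff]
          intro ω _
          exact hd ω
        rw [this]; rfl
      · rw [if_neg hd, add_zero]
        unfold IsDer at hd
        push Not at hd
        obtain ⟨a, ha⟩ := hd
        have : Finset.univ.filter (fun ω : Ω => g • ω = ω) = {a} := by
          ext b
          simp only [Finset.mem_filter, Finset.mem_univ, true_and, Finset.mem_singleton]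
          constructor
          · intro hb
            by_contra hne
            exact hfix g hg a b (Ne.symm hne) ha hb
          · rintro rfl; exact ha
        rw [this]; rfl
  have h1 : ∑ g : G, ((Finset.univ.filter (fun ω : Ω => g • ω = ω)).card +
      (if IsDer Ω g then 1 else 0)) = ∑ g : G, (if g = 1 then Fintype.card Ω else 1) :=
    Finset.sum_congr rfl (fun g _ => hpt g)
  rw [Finset.sum_add_distrib, hsum] at h1
  have h2 : ∑ g : G, (if IsDer Ω g then 1 else 0) = Nat.card {g : G // IsDer Ω g} := by
    rw [Nat.card_eq_fintype_card, Fintype.card_subtype, Finset.card_filter]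
  have h3 : ∑ g : G, (if g = 1 then Fintype.card Ω else 1) =
      Fintype.card Ω + (Fintype.card G - 1) := by
    rw [← Finset.add_sum_erase Finset.univ _ (Finset.mem_univ (1 : G))]
    rw [if_pos rfl]
    congr 1
    rw [Finset.sum_congr rfl (g := fun _ => 1)]
    · simp
    · intro g hg
      rw [if_neg (Finset.ne_of_mem_erase hg)]
  rw [h2, h3] at h1
  have hG : 1 ≤ Fintype.card G := Fintype.card_pos
  rw [Nat.card_eq_fintype_card (α := Ω)]
  omega

/-- The point stabiliser of a sharply 2-transitive group of degree `n` has order `n - 1`. -/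
theorem card_stabilizer_of_sharp (hΩ : 2 ≤ Nat.card Ω) (h2 : IsMultiplyPretransitive G Ω 2)
    (hfix : ∀ g : G, g ≠ 1 → ∀ a b : Ω, a ≠ b → g • a = a → g • b ≠ b) (a : Ω) :
    Nat.card (stabilizer G a) + 1 = Nat.card Ω := by
  classical
  by_cases hex : ∃ b : Ω, b ≠ a
  · obtain ⟨b₀, hb₀⟩ := hex
    have hbij : Function.Bijective (fun g : stabilizer G a =>
        (⟨(g : G) • b₀, by
          intro h
          have h1 : (g : G) • b₀ = (g : G) • a := by rw [h, mem_stabilizer_iff.mp g.2]
          exact hb₀ (MulAction.injective (g : G) h1)⟩ : {b : Ω // b ≠ a})) := by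
      constructor
      · intro g h hgh
        have hgh' : (g : G) • b₀ = (h : G) • b₀ := congrArg Subtype.val hgh
        by_contra hne
        have hk : (h : G)⁻¹ * (g : G) ≠ 1 := by
          intro h1
          apply hne
          apply Subtype.ext
          have := inv_mul_eq_one.mp h1
          exact this.symm
        refine hfix _ hk a b₀ (Ne.symm hb₀) ?_ ?_
        · rw [mul_smul, mem_stabilizer_iff.mp g.2, inv_smul_eq_iff, mem_stabilizer_iff.mp h.2]
        · rw [mul_smul, hgh', inv_smul_smul]
      · rintro ⟨c, hc⟩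
        obtain ⟨g, hg1, hg2⟩ := (is_two_pretransitive_iff.mp h2) (Ne.symm hb₀) (Ne.symm hc)
        exact ⟨⟨g, mem_stabilizer_iff.mpr hg1⟩, Subtype.ext hg2⟩
    rw [Nat.card_eq_of_bijective _ hbij]
    have : Nat.card {b : Ω // b ≠ a} = Nat.card Ω - 1 := by
      haveI := Fintype.ofFinite Ω
      rw [Nat.card_eq_fintype_card, Nat.card_eq_fintype_card, Fintype.card_subtype_compl,
        Fintype.card_subtype_eq]
    rw [this]
    have : 0 < Nat.card Ω := Nat.card_pos_iff.mpr ⟨⟨a⟩, inferInstance⟩
    omega
  · push Not at hex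
    exfalso
    haveI : Subsingleton Ω := ⟨fun x y => (hex x).trans (hex y).symm⟩
    have : Nat.card Ω ≤ 1 := Finite.card_le_one_iff_subsingleton.mpr inferInstance
    omega

/-- A sharply 2-transitive group has exactly one class of derangements. -/
theorem oneClass_of_sharp (hΩ : 2 ≤ Nat.card Ω) (h2 : IsMultiplyPretransitive G Ω 2)
    (hfix : ∀ g : G, g ≠ 1 → ∀ a b : Ω, a ≠ b → g • a = a → g • b ≠ b) : OneClass G Ω := by
  classical
  haveI : IsPretransitive G Ω := isPretransitive_of_is_two_pretransitive
  haveI : Nonempty Ω := by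
    have : 0 < Nat.card Ω := by omega
    exact (Nat.card_pos_iff.mp this).1
  obtain ⟨a⟩ := ‹Nonempty Ω›
  have hD := card_der_of_sharp (G := G) hΩ hfix
  have hS := card_stabilizer_of_sharp hΩ h2 hfix a
  obtain ⟨x₀, hx₀⟩ := exists_isDer (G := G) (Ω := Ω) hΩ
  refine ⟨⟨x₀, hx₀⟩, ?_⟩
  -- every derangement is conjugate to `x₀`
  have key : ∀ y : G, IsDer Ω y → IsConj x₀ y := by
    let φ : stabilizer G a → {g : G // IsDer Ω g} :=
      fun g => ⟨(g : G) * x₀ * (g : G)⁻¹, hx₀.conj _⟩
    have hinj : Function.Injective φ := by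
      intro g h hgh
      have hgh' : (g : G) * x₀ * (g : G)⁻¹ = (h : G) * x₀ * (h : G)⁻¹ :=
        congrArg Subtype.val hgh
      by_contra hne
      have hk : (h : G)⁻¹ * (g : G) ≠ 1 := by
        intro h1
        apply hne
        apply Subtype.ext
        exact (inv_mul_eq_one.mp h1).symm
      have hcomm : (h : G)⁻¹ * (g : G) * x₀ = x₀ * ((h : G)⁻¹ * (g : G)) := by
        have h3 : (g : G) * x₀ = (h : G) * x₀ * (h : G)⁻¹ * (g : G) := by
          rw [← hgh']; group
        calc (h : G)⁻¹ * (g : G) * x₀ = (h : G)⁻¹ * ((g : G) * x₀) := by group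
          _ = (h : G)⁻¹ * ((h : G) * x₀ * (h : G)⁻¹ * (g : G)) := by rw [h3]
          _ = x₀ * ((h : G)⁻¹ * (g : G)) := by group
      have hka : ((h : G)⁻¹ * (g : G)) • a = a := by
        rw [mul_smul, mem_stabilizer_iff.mp g.2, inv_smul_eq_iff, mem_stabilizer_iff.mp h.2]
      refine hfix _ hk a (x₀ • a) (Ne.symm (hx₀ a)) hka ?_
      rw [← mul_smul, hcomm, mul_smul, hka]
    have hbij : Function.Bijective φ := by
      apply hinj.bijective_of_nat_card_le
      omega
    intro y hy
    obtain ⟨g, hg⟩ := hbij.2 ⟨y, hy⟩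
    have : (g : G) * x₀ * (g : G)⁻¹ = y := congrArg Subtype.val hg
    exact isConj_iff.mpr ⟨(g : G), this⟩
  intro g h hg hh
  exact (key g hg).symm.trans (key h hh)

end Sharp

end Cfsg.Agent.Lib.Helper20.Der
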