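import Mathlib
import Cfsg.Agent.Lib.Helper20.DerA

set_option autoImplicit false

/-!
# Derangement classes (part C): the affine case

If all derangements are conjugate and lie in an abelian transitive normal subgroup `N`, then
`G` is sharply 2-transitive.
-/

namespace Cfsg.Agent.Lib.Helper20.Der

open MulAction

variable {G Ω : Type*} [Group G] [MulAction G Ω]

section Affine

variable [Finite G] [FaithfulSMul G Ω] (N : Subgroup G) [N.Normal]

omit [Finite G] [N.Normal] in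
/-- An abelian transitive subgroup of a faithful action is regular. -/
theorem eq_one_of_fix (hNab : ∀ x ∈ N, ∀ y ∈ N, x * y = y * x)
    (hNtr : ∀ a b : Ω, ∃ m ∈ N, m • a = b) {x : G} (hx : x ∈ N) {a : Ω} (hxa : x • a = a) :
    x = 1 := by
  apply FaithfulSMul.eq_of_smul_eq_smul (α := Ω)
  intro b
  obtain ⟨m, hm, rfl⟩ := hNtr a b
  rw [one_smul, ← mul_smul, hNab x hx m hm, mul_smul, hxa]

omit [Finite G] [N.Normal] in
theorem eq_of_smul_eq (hNab : ∀ x ∈ N, ∀ y ∈ N, x * y = y * x)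
    (hNtr : ∀ a b : Ω, ∃ m ∈ N, m • a = b) {x y : G} (hx : x ∈ N) (hy : y ∈ N) {a : Ω}
    (hxy : x • a = y • a) : x = y := by
  have h1 : (y⁻¹ * x) • a = a := by rw [mul_smul, hxy, inv_smul_smul]
  have h2 := eq_one_of_fix N hNab hNtr (N.mul_mem (N.inv_mem hy) hx) h1
  exact (inv_mul_eq_one.mp h2).symm

omit [Finite G] [N.Normal] in
theorem isDer_of_mem (hNab : ∀ x ∈ N, ∀ y ∈ N, x * y = y * x)
    (hNtr : ∀ a b : Ω, ∃ m ∈ N, m • a = b) {x : G} (hx : x ∈ N) (hx1 : x ≠ 1) : IsDer Ω x :=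
  fun _ hω => hx1 (eq_one_of_fix N hNab hNtr hx hω)

omit [Finite G] in
/-- the point stabiliser is transitive on the other points -/
theorem stab_trans (hNab : ∀ x ∈ N, ∀ y ∈ N, x * y = y * x)
    (hNtr : ∀ a b : Ω, ∃ m ∈ N, m • a = b)
    (hconj : ∀ g h : G, IsDer Ω g → IsDer Ω h → IsConj g h) {a b c : Ω} (hb : b ≠ a)
    (hc : c ≠ a) : ∃ h : G, h • a = a ∧ h • b = c := by
  obtain ⟨x, hx, rfl⟩ := hNtr a b
  obtain ⟨y, hy, rfl⟩ := hNtr a c
  have hx1 : x ≠ 1 := by rintro rfl; exact hb (one_smul _ _)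
  have hy1 : y ≠ 1 := by rintro rfl; exact hc (one_smul _ _)
  obtain ⟨g, hg⟩ := isConj_iff.mp (hconj x y (isDer_of_mem N hNab hNtr hx hx1)
    (isDer_of_mem N hNab hNtr hy hy1))
  obtain ⟨m, hm, hma⟩ := hNtr a (g • a)
  refine ⟨m⁻¹ * g, by rw [mul_smul, ← hma, inv_smul_smul], ?_⟩
  -- `y = h x h⁻¹` with `h = m⁻¹ g`
  have hnx : (m⁻¹ * g) * x * (m⁻¹ * g)⁻¹ = y := by
    have h1 : g * x * g⁻¹ ∈ N := ‹N.Normal›.conj_mem x hx g
    have h2 : m⁻¹ * (g * x * g⁻¹) = (g * x * g⁻¹) * m⁻¹ :=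
      hNab _ (N.inv_mem hm) _ h1
    calc (m⁻¹ * g) * x * (m⁻¹ * g)⁻¹ = m⁻¹ * (g * x * g⁻¹) * m := by group
      _ = (g * x * g⁻¹) * m⁻¹ * m := by rw [h2]
      _ = y := by rw [hg]; group
  have hfix : (m⁻¹ * g) • a = a := by rw [mul_smul, ← hma, inv_smul_smul]
  calc (m⁻¹ * g) • x • a = ((m⁻¹ * g) * x * (m⁻¹ * g)⁻¹) • ((m⁻¹ * g) • a) := by
        rw [← mul_smul, ← mul_smul]; congr 1; group
    _ = y • a := by rw [hnx, hfix]

/-- The affine case. -/
theorem sharp_of_abelian_normal (hNab : ∀ x ∈ N, ∀ y ∈ N, x * y = y * x)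
    (hNtr : ∀ a b : Ω, ∃ m ∈ N, m • a = b)
    (hconj : ∀ g h : G, IsDer Ω g → IsDer Ω h → IsConj g h)
    (hCN : ∀ g : G, IsDer Ω g → g ∈ N) :
    IsMultiplyPretransitive G Ω 2 ∧
      ∀ g : G, g ≠ 1 → ∀ a b : Ω, a ≠ b → g • a = a → g • b ≠ b := by
  constructor
  · rw [is_two_pretransitive_iff]
    intro a b c d hab hcd
    obtain ⟨m, hm, hma⟩ := hNtr a c
    have hmb : m • b ≠ c := by
      rw [← hma]; intro h; exact hab (MulAction.injective m h).symm
    obtain ⟨h, hh1, hh2⟩ := stab_trans N hNab hNtr hconj hmb (Ne.symm hcd)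
    exact ⟨h * m, by rw [mul_smul, hma, hh1], by rw [mul_smul, hh2]⟩
  · intro g hg1 a b hab hga hgb
    obtain ⟨x, hx, rfl⟩ := hNtr a b
    have hx1 : x ≠ 1 := by rintro rfl; exact hab (one_smul _ _).symm
    -- `g` centralises `x`
    have hgx : g * x * g⁻¹ = x := by
      apply eq_of_smul_eq N hNab hNtr (‹N.Normal›.conj_mem x hx g) hx (a := a)
      rw [mul_smul, mul_smul, inv_smul_eq_iff.mpr hga.symm, hgb]
    -- the map `m ↦ m (g m g⁻¹)⁻¹` on `N` is not injective, hence not surjective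
    let φ : N → N := fun m => ⟨(m : G) * (g * (m : G) * g⁻¹)⁻¹,
      N.mul_mem m.2 (N.inv_mem (‹N.Normal›.conj_mem _ m.2 g))⟩
    have hninj : ¬ Function.Injective φ := by
      intro hinj
      have h1 : φ ⟨x, hx⟩ = φ 1 := by
        apply Subtype.ext
        show x * (g * x * g⁻¹)⁻¹ = (1 : G) * (g * 1 * g⁻¹)⁻¹
        rw [hgx]; group
      have := hinj h1
      exact hx1 (congrArg Subtype.val this)
    have hnsurj : ¬ Function.Surjective φ := fun hs =>
      hninj (Finite.injective_iff_surjective.mpr hs)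
    unfold Function.Surjective at hnsurj
    push Not at hnsurj
    obtain ⟨n, hn⟩ := hnsurj
    have hder : IsDer Ω ((n : G) * g) := by
      intro c hc
      obtain ⟨m, hm, rfl⟩ := hNtr a c
      apply hn ⟨m, hm⟩
      apply Subtype.ext
      show m * (g * m * g⁻¹)⁻¹ = (n : G)
      have h1 : ((n : G) * (g * m * g⁻¹)) • a = m • a := by
        calc ((n : G) * (g * m * g⁻¹)) • a = ((n : G) * g) • m • (g⁻¹ • a) := by
              simp only [mul_smul]
          _ = ((n : G) * g) • m • a := by rw [inv_smul_eq_iff.mpr hga.symm]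
          _ = m • a := hc
      have h2 := eq_of_smul_eq N hNab hNtr
        (N.mul_mem n.2 (‹N.Normal›.conj_mem m hm g)) hm h1
      exact (eq_mul_inv_iff_mul_eq.mpr h2).symm
    have hgN : g ∈ N := by
      have h1 := hCN _ hder
      have h2 : g = (n : G)⁻¹ * ((n : G) * g) := by group
      rw [h2]
      exact N.mul_mem (N.inv_mem n.2) h1
    exact hg1 (eq_one_of_fix N hNab hNtr hgN hga)

end Affine

end Cfsg.Agent.Lib.Helper20.Der
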