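import Mathlib
import Cfsg.Agent.Lib.Helper20.DerA
import Cfsg.Agent.Lib.Helper9.OS8

set_option autoImplicit false

/-!
# Derangement classes (part D): the non-abelian socle case

If all derangements are conjugate, a non-abelian transitive minimal normal subgroup of a
primitive group is simple.
-/

namespace Cfsg.Agent.Lib.Helper20.Der

open MulAction

section Simple

/-- a finite non-abelian simple group has trivial centre -/
theorem center_eq_bot_of_simple {T : Type*} [Group T] [IsSimpleGroup T]
    (hT : ¬ IsMulCommutative T) : Subgroup.center T = ⊥ := by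
  rcases (inferInstance : (Subgroup.center T).Normal).eq_bot_or_eq_top with h | h
  · exact h
  · exfalso
    apply hT
    refine ⟨⟨fun a b => ?_⟩⟩
    have : a ∈ Subgroup.center T := by rw [h]; trivial
    exact (Subgroup.mem_center_iff.mp this b).symm

theorem exists_not_commute {T : Type*} [Group T] [IsSimpleGroup T]
    (hT : ¬ IsMulCommutative T) {s : T} (hs : s ≠ 1) : ∃ u : T, u * s ≠ s * u := by
  by_contra hcon
  push Not at hcon
  have : s ∈ Subgroup.center T := Subgroup.mem_center_iff.mpr hcon
  rw [center_eq_bot_of_simple hT, Subgroup.mem_bot] at this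
  exact hs this

/-- a finite non-abelian simple group has elements of two different prime orders -/
theorem exists_two_orders {T : Type*} [Group T] [Finite T] [IsSimpleGroup T]
    (hT : ¬ IsMulCommutative T) : ∃ t t' : T, t ≠ 1 ∧ t' ≠ 1 ∧ orderOf t ≠ orderOf t' := by
  classical
  have hcard1 : Nat.card T ≠ 1 := by
    intro h
    haveI : Subsingleton T := (Nat.card_eq_one_iff_unique.mp h).1
    apply hT
    exact ⟨⟨fun a b => Subsingleton.elim _ _⟩⟩
  have hcard0 : Nat.card T ≠ 0 := Nat.card_pos.ne'
  set p := (Nat.card T).minFac with hp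
  have hpp : p.Prime := Nat.minFac_prime hcard1
  haveI : Fact p.Prime := ⟨hpp⟩
  have hpd : p ∣ Nat.card T := Nat.minFac_dvd _
  -- another prime
  have hex : ∃ q, q.Prime ∧ q ∣ Nat.card T ∧ q ≠ p := by
    by_contra hcon
    push Not at hcon
    have hpow := Nat.eq_prime_pow_of_unique_prime_dvd hcard0
      (fun {d} hd hdvd => hcon d hd hdvd)
    have hPG : IsPGroup p T := IsPGroup.of_card hpow
    haveI : Nontrivial T := by
      rw [← Finite.one_lt_card_iff_nontrivial]
      omega
    have hc := hPG.center_nontrivial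
    have hcb : Subgroup.center T ≠ ⊥ := by
      intro hb
      rw [hb] at hc
      exact not_nontrivial _ hc
    exact hcb (center_eq_bot_of_simple hT)
  obtain ⟨q, hq, hqd, hqp⟩ := hex
  haveI : Fact q.Prime := ⟨hq⟩
  obtain ⟨t, ht⟩ := exists_prime_orderOf_dvd_card' p hpd
  obtain ⟨t', ht'⟩ := exists_prime_orderOf_dvd_card' q hqd
  refine ⟨t, t', ?_, ?_, ?_⟩
  · rintro rfl; rw [orderOf_one] at ht; exact hpp.one_lt.ne ht
  · rintro rfl; rw [orderOf_one] at ht'; exact hq.one_lt.ne ht'
  · rw [ht, ht']; exact hqp.symm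

/-- a proper subgroup of a finite group misses some conjugacy class -/
theorem exists_not_mem_conj {T : Type*} [Group T] [Finite T] (R : Subgroup T) (hR : R ≠ ⊤) :
    ∃ t : T, ∀ s : T, s⁻¹ * t * s ∉ R := by
  have hidx : 2 ≤ Nat.card (T ⧸ R) := by
    have h1 : R.index ≠ 1 := fun h => hR (Subgroup.index_eq_one.mp h)
    have h0 : R.index ≠ 0 := Subgroup.index_ne_zero_of_finite
    have : Nat.card (T ⧸ R) = R.index := rfl
    omega
  obtain ⟨t, ht⟩ := exists_isDer (G := T) (Ω := T ⧸ R) hidx
  refine ⟨t, fun s hs => ht (s : T ⧸ R) ?_⟩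
  rw [MulAction.Quotient.smul_mk, QuotientGroup.eq, smul_eq_mul]
  have : (t * s)⁻¹ * s = (s⁻¹ * t * s)⁻¹ := by group
  rw [this]
  exact R.inv_mem hs

end Simple

section Main

variable {G Ω : Type*} [Group G] [MulAction G Ω]

theorem isDer_of_conj_not_mem (N : Subgroup G) (a : Ω) (hNtr : ∀ b : Ω, ∃ m ∈ N, m • a = b)
    {x : G} (h : ∀ n ∈ N, n⁻¹ * x * n ∉ stabilizer G a) : IsDer Ω x := by
  intro b hb
  obtain ⟨n, hn, rfl⟩ := hNtr b
  apply h n hn
  rw [mem_stabilizer_iff, mul_smul, mul_smul, hb, inv_smul_smul]

/-- coordinates of a conjugate -/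
theorem coord_conj_apply {N : Subgroup G} {T : Type*} [Group T] {m : ℕ}
    (e : N ≃* (Fin m → T)) (f : Fin m → T) (n : N) (i : Fin m) :
    e (n⁻¹ * e.symm f * n) i = (e n i)⁻¹ * f i * e n i := by
  rw [map_mul, map_mul, map_inv, MulEquiv.apply_symm_apply]
  rfl

theorem orderOf_coord {N : Subgroup G} {T : Type*} [Group T] {m : ℕ}
    (e : N ≃* (Fin m → T)) (i : Fin m) (t : T) :
    orderOf ((e.symm (Pi.mulSingle i t) : N) : G) = orderOf t := by
  classical
  rw [Subgroup.orderOf_coe, MulEquiv.orderOf_eq]
  exact orderOf_injective (MonoidHom.mulSingle (fun _ : Fin m => T) i)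
    (Pi.mulSingle_injective (M := fun _ : Fin m => T) i) t

variable [Finite G]

/-- The non-abelian case: if all derangements are conjugate then a transitive non-abelian
minimal normal subgroup not contained in the (maximal) point stabiliser is simple. -/
theorem simple_of_nonabelian (N : Subgroup G) [N.Normal] (hN : N ≠ ⊥)
    (hmin : ∀ M : Subgroup G, M.Normal → M ≤ N → M = ⊥ ∨ M = N)
    (hnab : ¬ IsMulCommutative N) (a : Ω) (hK : IsCoatom (stabilizer G a))
    (hNtr : ∀ b : Ω, ∃ m ∈ N, m • a = b) (hNK : ¬ N ≤ stabilizer G a)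
    (hconj : ∀ g h : G, IsDer Ω g → IsDer Ω h → IsConj g h) : IsSimpleGroup N := by
  classical
  obtain ⟨T, instT, m, e, hTs, hTna, hm, hcase⟩ :=
    Cfsg.Agent.Lib.Helper9.os_final N hN hmin hnab _ hK hNK
  let i0 : Fin m := ⟨0, hm⟩
  haveI : Finite T := by
    haveI : Finite (Fin m → T) := Finite.of_equiv N e.toEquiv
    exact Finite.of_injective (fun t : T => (Pi.mulSingle i0 t : Fin m → T))
      (Pi.mulSingle_injective (M := fun _ : Fin m => T) i0)
  rcases hcase with ⟨R, hR, hmem⟩ | ⟨k, c, hk, hfib, hmem⟩
  · -- product case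
    obtain ⟨t, ht⟩ := exists_not_mem_conj (R i0) (hR i0)
    -- any `f` with `f i0 = t` gives a derangement
    have hder : ∀ f : Fin m → T, f i0 = t → IsDer Ω ((e.symm f : N) : G) := by
      intro f hf
      apply isDer_of_conj_not_mem N a hNtr
      intro n hn hmemK
      have h1 : (((⟨n, hn⟩ : N)⁻¹ * e.symm f * ⟨n, hn⟩ : N) : G) ∈ stabilizer G a := hmemK
      have h2 := (hmem _).mp h1 i0
      rw [coord_conj_apply, hf] at h2
      exact ht _ h2
    by_cases hm1 : m = 1
    · subst hm1
      exact (e.trans (MulEquiv.funUnique (Fin 1) T)).isSimpleGroup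
    · exfalso
      have hm2 : 1 < m := by omega
      let i1 : Fin m := ⟨1, hm2⟩
      have hi01 : i0 ≠ i1 := by
        intro h; have := congrArg Fin.val h; simp [i0, i1] at this
      obtain ⟨s, hs⟩ := exists_ne (1 : T)
      obtain ⟨u, hu⟩ := exists_not_commute hTna hs
      obtain ⟨fx, hfx⟩ : ∃ f : Fin m → T, f = Pi.mulSingle i0 t := ⟨_, rfl⟩
      obtain ⟨fy, hfy⟩ : ∃ f : Fin m → T, f = Pi.mulSingle i0 t * Pi.mulSingle i1 s :=
        ⟨_, rfl⟩
      have hfx0 : fx i0 = t := by simp [hfx]
      have hfxne : ∀ i, i ≠ i0 → fx i = 1 := fun i hi => by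
        rw [hfx, Pi.mulSingle_eq_of_ne hi]
      have hfy0 : fy i0 = t := by
        simp [hfy, Pi.mulSingle_eq_of_ne hi01]
      have hfy1 : fy i1 = s := by
        simp [hfy, Pi.mulSingle_eq_of_ne hi01.symm]
      have hdx := hder fx hfx0
      have hdy := hder fy hfy0
      obtain ⟨g, hg⟩ := isConj_iff.mp (hconj _ _ hdx hdy)
      -- centralisers in `N`
      let SX : Set N := {n | n * e.symm fx = e.symm fx * n}
      let SY : Set N := {n | n * e.symm fy = e.symm fy * n}
      have hSX : ∀ n : N, n ∈ SX ↔ ∀ i, e n i * fx i = fx i * e n i := by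
        intro n
        constructor
        · intro h i
          have h' : n * e.symm fx = e.symm fx * n := h
          have := congrArg e h'
          rw [map_mul, map_mul, MulEquiv.apply_symm_apply] at this
          exact congrFun this i
        · intro h
          show n * e.symm fx = e.symm fx * n
          apply e.injective
          rw [map_mul, map_mul, MulEquiv.apply_symm_apply]
          funext i; exact h i
      have hSY : ∀ n : N, n ∈ SY ↔ ∀ i, e n i * fy i = fy i * e n i := by
        intro n
        constructor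
        · intro h i
          have h' : n * e.symm fy = e.symm fy * n := h
          have := congrArg e h'
          rw [map_mul, map_mul, MulEquiv.apply_symm_apply] at this
          exact congrFun this i
        · intro h
          show n * e.symm fy = e.symm fy * n
          apply e.injective
          rw [map_mul, map_mul, MulEquiv.apply_symm_apply]
          funext i; exact h i
      have hsub : SY ⊂ SX := by
        refine ⟨fun n hn => ?_, fun hle => ?_⟩
        · rw [hSY] at hn
          rw [hSX]
          intro i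
          by_cases hi0 : i = i0
          · subst hi0
            have := hn i0
            rwa [hfy0, ← hfx0] at this
          · rw [hfxne i hi0, mul_one, one_mul]
        · -- `e.symm (mulSingle i1 u)` centralises `x` but not `y`
          have h1 : e.symm (Pi.mulSingle i1 u) ∈ SX := by
            rw [hSX]
            intro i
            rw [MulEquiv.apply_symm_apply]
            by_cases hi0 : i = i0
            · subst hi0
              rw [Pi.mulSingle_eq_of_ne hi01, one_mul, mul_one]
            · rw [hfxne i hi0, mul_one, one_mul]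
          have h2 := (hSY _).mp (hle h1) i1
          rw [MulEquiv.apply_symm_apply, Pi.mulSingle_eq_same, hfy1] at h2
          exact hu h2
      have hlt : SY.ncard < SX.ncard := Set.ncard_lt_ncard hsub (Set.toFinite _)
      -- conjugation by `g` maps `SX` onto `SY`
      have hgx : ((e.symm fy : N) : G) = g * ((e.symm fx : N) : G) * g⁻¹ := hg.symm
      let ψ : N → N := fun n => ⟨g * (n : G) * g⁻¹, ‹N.Normal›.conj_mem _ n.2 g⟩
      have hψinj : Function.Injective ψ := by
        intro n n' h
        have : g * (n : G) * g⁻¹ = g * (n' : G) * g⁻¹ := congrArg Subtype.val h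
        exact Subtype.ext (mul_left_cancel (mul_right_cancel this))
      have himg : ψ '' SX ⊆ SY := by
        rintro _ ⟨n, hn, rfl⟩
        have hn' : (n : G) * ((e.symm fx : N) : G) = ((e.symm fx : N) : G) * (n : G) :=
          congrArg Subtype.val hn
        show ψ n * e.symm fy = e.symm fy * ψ n
        apply Subtype.ext
        show g * (n : G) * g⁻¹ * ((e.symm fy : N) : G) = ((e.symm fy : N) : G) * (g * (n : G) * g⁻¹)
        rw [hgx]
        calc g * (n : G) * g⁻¹ * (g * ((e.symm fx : N) : G) * g⁻¹)
            = g * ((n : G) * ((e.symm fx : N) : G)) * g⁻¹ := by group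
          _ = g * (((e.symm fx : N) : G) * (n : G)) * g⁻¹ := by rw [hn']
          _ = g * ((e.symm fx : N) : G) * g⁻¹ * (g * (n : G) * g⁻¹) := by group
      have hle : SX.ncard ≤ SY.ncard := by
        rw [← Set.ncard_image_of_injective SX hψinj]
        exact Set.ncard_le_ncard himg (Set.toFinite _)
      omega
  · -- diagonal case
    exfalso
    have hfib0 : Nat.card {i : Fin m // c i = c i0} = k := by
      rcases hfib (c i0) with h | h
      · exact h
      · exfalso
        have : Nonempty {i : Fin m // c i = c i0} := ⟨⟨i0, rfl⟩⟩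
        have hpos : 0 < Nat.card {i : Fin m // c i = c i0} := Nat.card_pos
        omega
    have hnt : Nontrivial {i : Fin m // c i = c i0} := by
      rw [← Finite.one_lt_card_iff_nontrivial]
      omega
    obtain ⟨⟨j0, hj0⟩, hne⟩ := exists_ne (⟨i0, rfl⟩ : {i : Fin m // c i = c i0})
    have hj0i0 : j0 ≠ i0 := fun h => hne (Subtype.ext h)
    have hder : ∀ t : T, t ≠ 1 → IsDer Ω ((e.symm (Pi.mulSingle i0 t) : N) : G) := by
      intro t ht
      apply isDer_of_conj_not_mem N a hNtr
      intro n hn hmemK
      have h1 : (((⟨n, hn⟩ : N)⁻¹ * e.symm (Pi.mulSingle i0 t) * ⟨n, hn⟩ : N) : G) ∈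
          stabilizer G a := hmemK
      have h2 := (hmem _).mp h1 j0 i0 hj0
      rw [coord_conj_apply, coord_conj_apply, Pi.mulSingle_eq_same,
        Pi.mulSingle_eq_of_ne hj0i0] at h2
      apply ht
      have h3 : (e ⟨n, hn⟩ i0)⁻¹ * t * e ⟨n, hn⟩ i0 = 1 := by
        rw [← h2]; group
      have h4 : t = e ⟨n, hn⟩ i0 * 1 * (e ⟨n, hn⟩ i0)⁻¹ := by
        rw [← h3]; group
      rw [h4]; group
    obtain ⟨t, t', ht, ht', hord⟩ := exists_two_orders hTna
    obtain ⟨g, hg⟩ := isConj_iff.mp (hconj _ _ (hder t ht) (hder t' ht'))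
    apply hord
    rw [← orderOf_coord e i0 t, ← orderOf_coord e i0 t', ← hg]
    exact ((MulAut.conj g).orderOf_eq _).symm

end Main

end Cfsg.Agent.Lib.Helper20.Der
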