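import Mathlib
import Cfsg.Agent.Lib.Helper20.DerB
import Cfsg.Agent.Lib.Helper20.DerC
import Cfsg.Agent.Lib.Helper20.DerD

set_option autoImplicit false

/-!
# Derangement classes (part E): primitive groups that are not almost simple
-/

namespace Cfsg.Agent.Lib.Helper20.Der

open MulAction

variable {G Ω : Type*} [Group G] [MulAction G Ω]

/-- In a faithful primitive action a nontrivial normal subgroup is transitive. -/
theorem normal_trans [FaithfulSMul G Ω] [IsPreprimitive G Ω] (M : Subgroup G) [M.Normal]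
    (hM : M ≠ ⊥) (a b : Ω) : ∃ m ∈ M, m • a = b := by
  have hfix : fixedPoints M Ω ≠ Set.univ := by
    intro h
    apply hM
    rw [eq_bot_iff]
    intro x hx
    rw [Subgroup.mem_bot]
    apply FaithfulSMul.eq_of_smul_eq_smul (α := Ω)
    intro ω
    have : ω ∈ fixedPoints M Ω := by rw [h]; trivial
    rw [one_smul]
    exact this ⟨x, hx⟩
  haveI : IsPretransitive M Ω := IsQuasiPreprimitive.isPretransitive_of_normal hfix
  obtain ⟨m, hm⟩ := exists_smul_eq M a b
  exact ⟨m, m.2, hm⟩

theorem main [Finite G] [Finite Ω] [FaithfulSMul G Ω] (hΩ : 2 ≤ Nat.card Ω)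
    (hprim : IsPreprimitive G Ω)
    (hnas : ¬ ∃ T : Subgroup G, T.Normal ∧ IsSimpleGroup T ∧ ¬ IsMulCommutative T ∧
      Subgroup.centralizer (T : Set G) = ⊥) :
    OneClass G Ω ↔ (IsMultiplyPretransitive G Ω 2 ∧
      ∀ g : G, g ≠ 1 → ∀ a b : Ω, a ≠ b → g • a = a → g • b ≠ b) := by
  classical
  constructor
  · rintro ⟨⟨d₀, hd₀⟩, hconj⟩
    haveI : Nonempty Ω := by
      have : 0 < Nat.card Ω := by omega
      exact (Nat.card_pos_iff.mp this).1
    haveI : Nontrivial Ω := by
      rw [← Finite.one_lt_card_iff_nontrivial]; omega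
    set N : Subgroup G := Subgroup.normalClosure {d₀} with hNdef
    have hd₀N : d₀ ∈ N := Subgroup.subset_normalClosure (Set.mem_singleton d₀)
    have hN : N ≠ ⊥ := by
      intro h
      rw [h, Subgroup.mem_bot] at hd₀N
      exact hd₀.ne_one hd₀N
    -- `N` lies in every nontrivial normal subgroup
    have hle : ∀ M : Subgroup G, M.Normal → M ≠ ⊥ → N ≤ M := by
      intro M hMn hM
      haveI := hMn
      haveI : IsPretransitive M Ω := ⟨fun a b => by
        obtain ⟨m, hm, hmab⟩ := normal_trans M hM a b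
        exact ⟨⟨m, hm⟩, hmab⟩⟩
      obtain ⟨d, hd⟩ := exists_isDer (G := M) (Ω := Ω) hΩ
      have hd' : IsDer Ω (d : G) := fun ω => hd ω
      obtain ⟨g, hg⟩ := isConj_iff.mp (hconj _ _ hd' hd₀)
      apply Subgroup.normalClosure_le_normal
      rw [Set.singleton_subset_iff, ← hg]
      exact hMn.conj_mem _ d.2 g
    have hmin : ∀ M : Subgroup G, M.Normal → M ≤ N → M = ⊥ ∨ M = N := by
      intro M hMn hMN
      by_cases hM : M = ⊥
      · exact Or.inl hM
      · exact Or.inr (le_antisymm hMN (hle M hMn hM))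
    have hCN : ∀ g : G, IsDer Ω g → g ∈ N := by
      intro g hg
      obtain ⟨c, hc⟩ := isConj_iff.mp (hconj _ _ hd₀ hg)
      rw [← hc]
      exact (inferInstance : N.Normal).conj_mem _ hd₀N c
    have hNtr : ∀ a b : Ω, ∃ m ∈ N, m • a = b := normal_trans N hN
    by_cases hab : IsMulCommutative N
    · have hNab : ∀ x ∈ N, ∀ y ∈ N, x * y = y * x := by
        intro x hx y hy
        have := hab.is_comm.comm (⟨x, hx⟩ : N) ⟨y, hy⟩
        exact congrArg Subtype.val this
      exact sharp_of_abelian_normal N hNab hNtr hconj hCN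
    · exfalso
      obtain ⟨a⟩ := ‹Nonempty Ω›
      have hK : IsCoatom (stabilizer G a) :=
        IsPreprimitive.isCoatom_stabilizer_of_isPreprimitive (G := G) (X := Ω) a
      have hNK : ¬ N ≤ stabilizer G a := by
        intro h
        obtain ⟨b, hb⟩ := exists_ne a
        obtain ⟨m, hm, hmab⟩ := hNtr a b
        exact hb (hmab.symm.trans (mem_stabilizer_iff.mp (h hm)))
      have hsimple := simple_of_nonabelian N hN hmin hab a hK (hNtr a) hNK hconj
      apply hnas
      refine ⟨N, inferInstance, hsimple, hab, ?_⟩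
      by_contra hC
      have h1 : N ≤ Subgroup.centralizer (N : Set G) := hle _ inferInstance hC
      apply hab
      refine ⟨⟨fun x y => ?_⟩⟩
      apply Subtype.ext
      have := Subgroup.mem_centralizer_iff.mp (h1 x.2) y y.2
      exact this.symm
  · rintro ⟨h2, hfix⟩
    exact oneClass_of_sharp hΩ h2 hfix

end Cfsg.Agent.Lib.Helper20.Der
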