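import Mathlib
import Cfsg.Agent.Lib.Helper20.DerD

set_option autoImplicit false

/-!
# Derangements in a non-abelian socle (part F): reusable coordinate lemmas
-/

namespace Cfsg.Agent.Lib.Helper20.Der

open MulAction

variable {G Ω : Type*} [Group G] [MulAction G Ω]

/-- Product case: an element whose `i0`-coordinate avoids all conjugates of `R i0` is a
derangement. -/
theorem isDer_of_product {N : Subgroup G} {T : Type*} [Group T] {m : ℕ}
    (e : N ≃* (Fin m → T)) (a : Ω) (hNtr : ∀ b : Ω, ∃ n ∈ N, n • a = b)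
    (R : Fin m → Subgroup T)
    (hmem : ∀ n : N, (n : G) ∈ stabilizer G a → ∀ i, e n i ∈ R i)
    (i0 : Fin m) {t : T} (ht : ∀ s : T, s⁻¹ * t * s ∉ R i0) (f : Fin m → T) (hf : f i0 = t) :
    IsDer Ω ((e.symm f : N) : G) := by
  apply isDer_of_conj_not_mem N a hNtr
  intro n hn hmemK
  have h1 : (((⟨n, hn⟩ : N)⁻¹ * e.symm f * ⟨n, hn⟩ : N) : G) ∈ stabilizer G a := hmemK
  have h2 := hmem _ h1 i0
  rw [coord_conj_apply, hf] at h2
  exact ht _ h2

/-- Diagonal case: an element supported on one coordinate of a block of size at least two is a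
derangement. -/
theorem isDer_of_diagonal {N : Subgroup G} {T : Type*} [Group T] {m : ℕ}
    (e : N ≃* (Fin m → T)) (a : Ω) (hNtr : ∀ b : Ω, ∃ n ∈ N, n • a = b)
    (c : Fin m → Fin m)
    (hmem : ∀ n : N, (n : G) ∈ stabilizer G a → ∀ i j, c i = c j → e n i = e n j)
    {i0 j0 : Fin m} (hne : j0 ≠ i0) (hc : c j0 = c i0) {t : T} (ht : t ≠ 1) :
    IsDer Ω ((e.symm (Pi.mulSingle i0 t) : N) : G) := by
  classical
  apply isDer_of_conj_not_mem N a hNtr
  intro n hn hmemK
  have h1 : (((⟨n, hn⟩ : N)⁻¹ * e.symm (Pi.mulSingle i0 t) * ⟨n, hn⟩ : N) : G) ∈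
      stabilizer G a := hmemK
  have h2 := hmem _ h1 j0 i0 hc
  rw [coord_conj_apply, coord_conj_apply, Pi.mulSingle_eq_same,
    Pi.mulSingle_eq_of_ne hne] at h2
  apply ht
  have h3 : (e ⟨n, hn⟩ i0)⁻¹ * t * e ⟨n, hn⟩ i0 = 1 := by
    rw [← h2]; group
  have h4 : t = e ⟨n, hn⟩ i0 * 1 * (e ⟨n, hn⟩ i0)⁻¹ := by
    rw [← h3]; group
  rw [h4]; group

/-- in the diagonal case the block of `i0` contains another index -/
theorem exists_block_mate {m k : ℕ} (c : Fin m → Fin m) (hk : 2 ≤ k)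
    (hfib : ∀ j : Fin m, Nat.card {i : Fin m // c i = j} = k ∨
      Nat.card {i : Fin m // c i = j} = 0) (i0 : Fin m) : ∃ j0 : Fin m, j0 ≠ i0 ∧ c j0 = c i0 := by
  have hfib0 : Nat.card {i : Fin m // c i = c i0} = k := by
    rcases hfib (c i0) with h | h
    · exact h
    · exfalso
      have : Nonempty {i : Fin m // c i = c i0} := ⟨⟨i0, rfl⟩⟩
      have hpos : 0 < Nat.card {i : Fin m // c i = c i0} := Nat.card_pos
      omega
  have hnt : Nontrivial {i : Fin m // c i = c i0} := by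
    rw [← Finite.one_lt_card_iff_nontrivial]
    omega
  obtain ⟨⟨j0, hj0⟩, hne⟩ := exists_ne (⟨i0, rfl⟩ : {i : Fin m // c i = c i0})
  exact ⟨j0, fun h => hne (Subtype.ext h), hj0⟩

/-- a finite non-abelian simple group is not a `p`-group -/
theorem not_isPGroup_of_simple {T : Type*} [Group T] [Finite T] [IsSimpleGroup T]
    (hT : ¬ IsMulCommutative T) (p : ℕ) [Fact p.Prime] : ¬ IsPGroup p T := by
  intro hPG
  have hc := hPG.center_nontrivial
  have hcb : Subgroup.center T ≠ ⊥ := by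
    intro hb
    rw [hb] at hc
    exact not_nontrivial _ hc
  exact hcb (center_eq_bot_of_simple hT)

/-- powers in coordinates -/
theorem coord_pow_eq_one {N : Subgroup G} {T : Type*} [Group T] {m : ℕ}
    (e : N ≃* (Fin m → T)) (f : Fin m → T) (k : ℕ)
    (h : ((e.symm f : N) : G) ^ k = 1) (i : Fin m) : f i ^ k = 1 := by
  have h1 : (e.symm f : N) ^ k = 1 := by
    apply Subtype.ext
    rw [Subgroup.coe_pow]; exact h
  have h2 : f ^ k = 1 := by
    have := congrArg e h1
    rwa [map_pow, MulEquiv.apply_symm_apply, map_one] at this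
  have := congrFun h2 i
  simpa using this

end Cfsg.Agent.Lib.Helper20.Der
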