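import Mathlib
import Cfsg.Agent.Lib.Helper20.DerC
import Cfsg.Agent.Lib.Helper20.DerE
import Cfsg.Agent.Lib.Helper20.DerF
import Cfsg.Agent.Lib.Helper1.MinNormal
import Cfsg.Prelude.Def_Transfer

set_option autoImplicit false

/-!
# Primitive groups all of whose derangements are `p`-elements are affine or almost simple
-/

namespace Cfsg.Agent.Lib.Helper20.Der

open MulAction

variable {G Ω : Type*} [Group G] [MulAction G Ω]

/-- an abelian minimal normal subgroup of a finite group has prime exponent -/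
theorem exponent_of_minimal_abelian [Finite G] (N : Subgroup G) [N.Normal] (hN : N ≠ ⊥)
    (hmin : ∀ M : Subgroup G, M.Normal → M ≤ N → M = ⊥ ∨ M = N)
    (hab : ∀ x ∈ N, ∀ y ∈ N, x * y = y * x) : ∃ r : ℕ, r.Prime ∧ ∀ a ∈ N, a ^ r = 1 := by
  have hcard1 : Nat.card N ≠ 1 := fun h => hN (Subgroup.card_eq_one.mp h)
  set r := (Nat.card N).minFac with hr
  have hrp : r.Prime := Nat.minFac_prime hcard1
  haveI : Fact r.Prime := ⟨hrp⟩
  obtain ⟨x, hx⟩ := exists_prime_orderOf_dvd_card' r (Nat.minFac_dvd (Nat.card N))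
  let M : Subgroup G :=
    { carrier := {a | a ∈ N ∧ a ^ r = 1}
      one_mem' := ⟨N.one_mem, one_pow r⟩
      mul_mem' := by
        rintro a b ⟨ha, ha'⟩ ⟨hb, hb'⟩
        refine ⟨N.mul_mem ha hb, ?_⟩
        have hc : Commute a b := hab a ha b hb
        rw [hc.mul_pow, ha', hb', one_mul]
      inv_mem' := by
        rintro a ⟨ha, ha'⟩
        exact ⟨N.inv_mem ha, by rw [inv_pow, ha', inv_one]⟩ }
  have hMn : M.Normal := ⟨fun a ⟨ha, ha'⟩ g =>
    ⟨‹N.Normal›.conj_mem a ha g, by rw [conj_pow, ha', mul_one, mul_inv_cancel]⟩⟩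
  have hMN : M ≤ N := fun a ha => ha.1
  have hM : M ≠ ⊥ := by
    intro h
    have hxM : (x : G) ∈ M := ⟨x.2, by
      rw [← Subgroup.coe_pow, ← hx, pow_orderOf_eq_one]; rfl⟩
    rw [h, Subgroup.mem_bot] at hxM
    have : x = 1 := Subtype.ext hxM
    rw [this, orderOf_one] at hx
    exact hrp.one_lt.ne hx
  rcases hmin M hMn hMN with h | h
  · exact absurd h hM
  · exact ⟨r, hrp, fun a ha => by
      have : a ∈ M := by rw [h]; exact ha
      exact this.2⟩

theorem pder_main [Finite G] [Finite Ω] [FaithfulSMul G Ω] (hprim : IsPreprimitive G Ω)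
    (hΩ : 2 ≤ Nat.card Ω) (p : ℕ) (hp : p.Prime)
    (hder : ∀ g : G, (∀ ω : Ω, g • ω ≠ ω) → ∃ k : ℕ, orderOf g = p ^ k) :
    (∃ (N : Subgroup G) (r : ℕ), r.Prime ∧ N.Normal ∧ Cfsg.IsElementaryAbelian r N ∧
      MulAction.IsPretransitive N Ω ∧ ∀ a : Ω, MulAction.stabilizer N a = ⊥) ∨
    (∃ T : Subgroup G, T.Normal ∧ IsSimpleGroup ↥T ∧ ¬ IsMulCommutative ↥T ∧
      Subgroup.centralizer (T : Set G) = ⊥) := by
  classical
  haveI : Fact p.Prime := ⟨hp⟩
  haveI : Nonempty Ω := by
    have : 0 < Nat.card Ω := by omega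
    exact (Nat.card_pos_iff.mp this).1
  haveI : Nontrivial Ω := by
    rw [← Finite.one_lt_card_iff_nontrivial]; omega
  haveI : IsPretransitive G Ω := hprim.toIsPretransitive
  obtain ⟨d, hd⟩ := exists_isDer (G := G) (Ω := Ω) hΩ
  haveI : Nontrivial G := ⟨⟨d, 1, hd.ne_one⟩⟩
  obtain ⟨N, hNn, hN, hmin⟩ := Cfsg.Agent.Lib.Helper1.exists_minimal_normal (G := G)
  haveI := hNn
  have hNtr : ∀ a b : Ω, ∃ m ∈ N, m • a = b := normal_trans N hN
  -- derangements in `N` are `p`-elements
  have hpow : ∀ g : G, IsDer Ω g → ∃ k : ℕ, g ^ (p ^ k) = 1 := by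
    intro g hg
    obtain ⟨k, hk⟩ := hder g hg
    exact ⟨k, by rw [← hk, pow_orderOf_eq_one]⟩
  by_cases hab : IsMulCommutative N
  · left
    have hNab : ∀ x ∈ N, ∀ y ∈ N, x * y = y * x := by
      intro x hx y hy
      have := hab.is_comm.comm (⟨x, hx⟩ : N) ⟨y, hy⟩
      exact congrArg Subtype.val this
    obtain ⟨r, hr, hexp⟩ := exponent_of_minimal_abelian N hN hmin hNab
    refine ⟨N, r, hr, hNn, ⟨hab, hexp⟩, ⟨fun a b => ?_⟩, fun a => ?_⟩
    · obtain ⟨m, hm, hmab⟩ := hNtr a b
      exact ⟨⟨m, hm⟩, hmab⟩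
    · rw [eq_bot_iff]
      intro x hx
      rw [Subgroup.mem_bot]
      apply Subtype.ext
      exact eq_one_of_fix N hNab hNtr x.2 (mem_stabilizer_iff.mp hx)
  · obtain ⟨a⟩ := ‹Nonempty Ω›
    have hK : IsCoatom (stabilizer G a) :=
      IsPreprimitive.isCoatom_stabilizer_of_isPreprimitive (G := G) (X := Ω) a
    have hNK : ¬ N ≤ stabilizer G a := by
      intro h
      obtain ⟨b, hb⟩ := exists_ne a
      obtain ⟨m, hm, hmab⟩ := hNtr a b
      exact hb (hmab.symm.trans (mem_stabilizer_iff.mp (h hm)))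
    obtain ⟨T, instT, m, e, hTs, hTna, hm, hcase⟩ :=
      Cfsg.Agent.Lib.Helper9.os_final N hN hmin hab _ hK hNK
    let i0 : Fin m := ⟨0, hm⟩
    haveI : Finite T := by
      haveI : Finite (Fin m → T) := Finite.of_equiv N e.toEquiv
      exact Finite.of_injective (fun t : T => (Pi.mulSingle i0 t : Fin m → T))
        (Pi.mulSingle_injective (M := fun _ : Fin m => T) i0)
    have hTp : ¬ ∀ s : T, ∃ k : ℕ, s ^ (p ^ k) = 1 := fun h =>
      not_isPGroup_of_simple hTna p h
    rcases hcase with ⟨R, hR, hmem⟩ | ⟨k, c, hk, hfib, hmem⟩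
    · obtain ⟨t, ht⟩ := exists_not_mem_conj (R i0) (hR i0)
      have hderf := isDer_of_product e a (hNtr a) R (fun n hn => (hmem n).mp hn) i0 ht
      by_cases hm1 : m = 1
      · right
        subst hm1
        have hsimple : IsSimpleGroup N := (e.trans (MulEquiv.funUnique (Fin 1) T)).isSimpleGroup
        refine ⟨N, hNn, hsimple, hab, ?_⟩
        by_contra hC
        -- the centraliser is transitive, so `N` is semiregular
        have hCtr : ∀ a b : Ω, ∃ z ∈ Subgroup.centralizer (N : Set G), z • a = b :=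
          normal_trans _ hC
        have hNder : ∀ n ∈ N, n ≠ 1 → IsDer Ω n := by
          intro n hn hn1 b hb
          apply hn1
          apply FaithfulSMul.eq_of_smul_eq_smul (α := Ω)
          intro b'
          obtain ⟨z, hz, rfl⟩ := hCtr b b'
          rw [one_smul, ← mul_smul, Subgroup.mem_centralizer_iff.mp hz n hn, mul_smul, hb]
        have hPG : IsPGroup p N := by
          intro n
          by_cases hn1 : (n : G) = 1
          · exact ⟨0, by apply Subtype.ext; simpa using hn1⟩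
          · obtain ⟨k, hk⟩ := hpow _ (hNder n n.2 hn1)
            exact ⟨k, by apply Subtype.ext; rw [Subgroup.coe_pow]; exact hk⟩
        exact not_isPGroup_of_simple hab p hPG
      · exfalso
        have hm2 : 1 < m := by omega
        let i1 : Fin m := ⟨1, hm2⟩
        have hi01 : i0 ≠ i1 := by
          intro h; have := congrArg Fin.val h; simp [i0, i1] at this
        apply hTp
        intro s
        have hf0 : (Pi.mulSingle i0 t * Pi.mulSingle i1 s : Fin m → T) i0 = t := by
          simp [Pi.mulSingle_eq_of_ne hi01]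
        have hf1 : (Pi.mulSingle i0 t * Pi.mulSingle i1 s : Fin m → T) i1 = s := by
          simp [Pi.mulSingle_eq_of_ne hi01.symm]
        obtain ⟨k, hk⟩ := hpow _ (hderf _ hf0)
        refine ⟨k, ?_⟩
        have := coord_pow_eq_one e _ _ hk i1
        rwa [hf1] at this
    · exfalso
      obtain ⟨j0, hj0, hcj0⟩ := exists_block_mate c hk hfib i0
      apply hTp
      intro t
      by_cases ht : t = 1
      · exact ⟨0, by rw [ht]; simp⟩
      · have hdt := isDer_of_diagonal e a (hNtr a) c (fun n hn => (hmem n).mp hn) hj0 hcj0 ht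
        obtain ⟨k, hk⟩ := hpow _ hdt
        refine ⟨k, ?_⟩
        have := coord_pow_eq_one e _ _ hk i0
        rwa [Pi.mulSingle_eq_same] at this

end Cfsg.Agent.Lib.Helper20.Der
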