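import Mathlib
import Cfsg.Agent.Lib.Helper20.DerF

set_option autoImplicit false

/-!
# Derangement classes (part H): at most two classes, centraliser counts
-/

namespace Cfsg.Agent.Lib.Helper20.Der

open MulAction

variable {G Ω : Type*} [Group G] [MulAction G Ω]

/-- at most two classes of derangements: among three derangements two are conjugate -/
def AtMostTwo (G Ω : Type*) [Group G] [MulAction G Ω] : Prop :=
  ∀ g₁ g₂ g₃ : G, IsDer Ω g₁ → IsDer Ω g₂ → IsDer Ω g₃ →
    IsConj g₁ g₂ ∨ IsConj g₁ g₃ ∨ IsConj g₂ g₃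

theorem atMostTwo_of_card
    (h : Nat.card {c : ConjClasses G // ∃ g : G, ConjClasses.mk g = c ∧ ∀ ω : Ω, g • ω ≠ ω} = 2) :
    AtMostTwo G Ω := by
  obtain ⟨x, y, _, huniv⟩ := Nat.card_eq_two_iff.mp h
  intro g₁ g₂ g₃ h₁ h₂ h₃
  have key : ∀ c : {c : ConjClasses G // ∃ g : G, ConjClasses.mk g = c ∧ ∀ ω : Ω, g • ω ≠ ω},
      c = x ∨ c = y := by
    intro c
    have : c ∈ ({x, y} : Set _) := by rw [huniv]; trivial
    simpa using this
  have hc : ∀ (a b : G) (ha : IsDer Ω a) (hb : IsDer Ω b),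
      (⟨ConjClasses.mk a, a, rfl, ha⟩ :
        {c : ConjClasses G // ∃ g : G, ConjClasses.mk g = c ∧ ∀ ω : Ω, g • ω ≠ ω}) =
        ⟨ConjClasses.mk b, b, rfl, hb⟩ → IsConj a b := by
    intro a b ha hb hab
    exact ConjClasses.mk_eq_mk_iff_isConj.mp (congrArg Subtype.val hab)
  rcases key ⟨ConjClasses.mk g₁, g₁, rfl, h₁⟩ with e₁ | e₁ <;>
  rcases key ⟨ConjClasses.mk g₂, g₂, rfl, h₂⟩ with e₂ | e₂ <;>
  rcases key ⟨ConjClasses.mk g₃, g₃, rfl, h₃⟩ with e₃ | e₃
  · exact Or.inl (hc _ _ h₁ h₂ (e₁.trans e₂.symm))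
  · exact Or.inl (hc _ _ h₁ h₂ (e₁.trans e₂.symm))
  · exact Or.inr (Or.inl (hc _ _ h₁ h₃ (e₁.trans e₃.symm)))
  · exact Or.inr (Or.inr (hc _ _ h₂ h₃ (e₂.trans e₃.symm)))
  · exact Or.inr (Or.inr (hc _ _ h₂ h₃ (e₂.trans e₃.symm)))
  · exact Or.inr (Or.inl (hc _ _ h₁ h₃ (e₁.trans e₃.symm)))
  · exact Or.inl (hc _ _ h₁ h₂ (e₁.trans e₂.symm))
  · exact Or.inl (hc _ _ h₁ h₂ (e₁.trans e₂.symm))

/-- the number of elements of `N` commuting with `w` -/
noncomputable def cN (N : Subgroup G) (w : G) : ℕ := Set.ncard {n : N | (n : G) * w = w * n}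

theorem cN_conj_le [Finite G] (N : Subgroup G) [N.Normal] (g w : G) :
    cN N w ≤ cN N (g * w * g⁻¹) := by
  let ψ : N → N := fun n => ⟨g * (n : G) * g⁻¹, ‹N.Normal›.conj_mem _ n.2 g⟩
  have hψinj : Function.Injective ψ := by
    intro n n' h
    have : g * (n : G) * g⁻¹ = g * (n' : G) * g⁻¹ := congrArg Subtype.val h
    exact Subtype.ext (mul_left_cancel (mul_right_cancel this))
  have himg : ψ '' {n : N | (n : G) * w = w * n} ⊆
      {n : N | (n : G) * (g * w * g⁻¹) = (g * w * g⁻¹) * n} := by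
    rintro _ ⟨n, hn, rfl⟩
    have hn' : (n : G) * w = w * (n : G) := hn
    show g * (n : G) * g⁻¹ * (g * w * g⁻¹) = (g * w * g⁻¹) * (g * (n : G) * g⁻¹)
    calc g * (n : G) * g⁻¹ * (g * w * g⁻¹) = g * ((n : G) * w) * g⁻¹ := by group
      _ = g * (w * (n : G)) * g⁻¹ := by rw [hn']
      _ = (g * w * g⁻¹) * (g * (n : G) * g⁻¹) := by group
  unfold cN
  rw [← Set.ncard_image_of_injective _ hψinj]
  exact Set.ncard_le_ncard himg (Set.toFinite _)

theorem cN_conj [Finite G] (N : Subgroup G) [N.Normal] (g w : G) :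
    cN N (g * w * g⁻¹) = cN N w := by
  apply le_antisymm
  · have := cN_conj_le N g⁻¹ (g * w * g⁻¹)
    have h2 : g⁻¹ * (g * w * g⁻¹) * g⁻¹⁻¹ = w := by group
    rwa [h2] at this
  · exact cN_conj_le N g w

theorem cN_eq_of_isConj [Finite G] (N : Subgroup G) [N.Normal] {v w : G} (h : IsConj v w) :
    cN N v = cN N w := by
  obtain ⟨g, hg⟩ := isConj_iff.mp h
  rw [← hg, cN_conj]

theorem mem_cN_iff {N : Subgroup G} {T : Type*} [Group T] {m : ℕ}
    (e : N ≃* (Fin m → T)) (f : Fin m → T) (n : N) :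
    (n : G) * ((e.symm f : N) : G) = ((e.symm f : N) : G) * n ↔
      ∀ i, e n i * f i = f i * e n i := by
  constructor
  · intro h i
    have h' : n * e.symm f = e.symm f * n := Subtype.ext h
    have := congrArg e h'
    rw [map_mul, map_mul, MulEquiv.apply_symm_apply] at this
    exact congrFun this i
  · intro h
    have : n * e.symm f = e.symm f * n := by
      apply e.injective
      rw [map_mul, map_mul, MulEquiv.apply_symm_apply]
      funext i; exact h i
    exact congrArg Subtype.val this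

/-- multiplying by a non-trivial element on a coordinate where `f` is trivial strictly
decreases the centraliser count -/
theorem cN_lt [Finite G] {N : Subgroup G} {T : Type*} [Group T] [IsSimpleGroup T]
    (hT : ¬ IsMulCommutative T) {m : ℕ} (e : N ≃* (Fin m → T)) (f : Fin m → T) (i1 : Fin m)
    (hf : f i1 = 1) {s : T} (hs : s ≠ 1) :
    cN N ((e.symm (f * Pi.mulSingle i1 s) : N) : G) < cN N ((e.symm f : N) : G) := by
  classical
  obtain ⟨u, hu⟩ := exists_not_commute hT hs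
  unfold cN
  apply Set.ncard_lt_ncard _ (Set.toFinite _)
  refine ⟨fun n hn => ?_, fun hle => ?_⟩
  · have hn' := (mem_cN_iff e _ n).mp hn
    apply (mem_cN_iff e f n).mpr
    intro i
    by_cases hi : i = i1
    · subst hi
      rw [hf, mul_one, one_mul]
    · have := hn' i
      rwa [Pi.mul_apply, Pi.mulSingle_eq_of_ne hi, mul_one] at this
  · have h1 : e.symm (Pi.mulSingle i1 u) ∈ {n : N | (n : G) * ((e.symm f : N) : G) =
        ((e.symm f : N) : G) * n} := by
      apply (mem_cN_iff e f _).mpr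
      intro i
      rw [MulEquiv.apply_symm_apply]
      by_cases hi : i = i1
      · subst hi
        rw [hf, mul_one, one_mul]
      · rw [Pi.mulSingle_eq_of_ne hi, one_mul, mul_one]
    have h2 := (mem_cN_iff e _ _).mp (hle h1) i1
    rw [MulEquiv.apply_symm_apply, Pi.mulSingle_eq_same, Pi.mul_apply, hf, one_mul,
      Pi.mulSingle_eq_same] at h2
    exact hu h2

end Cfsg.Agent.Lib.Helper20.Der
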