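import Mathlib
import Cfsg.Agent.Lib.Helper20.DerH
import Cfsg.Agent.Lib.Helper20.DerE

set_option autoImplicit false

/-!
# Derangement classes (part I): two classes of derangements, the non-abelian socle is impossible
-/

namespace Cfsg.Agent.Lib.Helper20.Der

open MulAction

/-- a finite non-abelian simple group has elements of two different prime orders -/
theorem exists_two_prime_orders {T : Type*} [Group T] [Finite T] [IsSimpleGroup T]
    (hT : ¬ IsMulCommutative T) : ∃ (p q : ℕ) (t t' : T), p.Prime ∧ q.Prime ∧ p ≠ q ∧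
      orderOf t = p ∧ orderOf t' = q := by
  classical
  have hcard1 : Nat.card T ≠ 1 := by
    intro h
    haveI : Subsingleton T := (Nat.card_eq_one_iff_unique.mp h).1
    apply hT
    exact ⟨⟨fun a b => Subsingleton.elim _ _⟩⟩
  have hcard0 : Nat.card T ≠ 0 := Nat.card_pos.ne'
  set p := (Nat.card T).minFac with hp
  have hpp : p.Prime := Nat.minFac_prime hcard1
  haveI : Fact p.Prime := ⟨hpp⟩
  have hpd : p ∣ Nat.card T := Nat.minFac_dvd _
  have hex : ∃ q, q.Prime ∧ q ∣ Nat.card T ∧ q ≠ p := by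
    by_contra hcon
    push Not at hcon
    have hpow := Nat.eq_prime_pow_of_unique_prime_dvd hcard0
      (fun {d} hd hdvd => hcon d hd hdvd)
    have hPG : IsPGroup p T := IsPGroup.of_card hpow
    exact not_isPGroup_of_simple hT p hPG
  obtain ⟨q, hq, hqd, hqp⟩ := hex
  haveI : Fact q.Prime := ⟨hq⟩
  obtain ⟨t, ht⟩ := exists_prime_orderOf_dvd_card' p hpd
  obtain ⟨t', ht'⟩ := exists_prime_orderOf_dvd_card' q hqd
  exact ⟨p, q, t, t', hpp, hq, hqp.symm, ht, ht'⟩

theorem orderOf_eq_of_isConj {H : Type*} [Group H] {a b : H} (h : IsConj a b) :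
    orderOf a = orderOf b := by
  obtain ⟨g, hg⟩ := isConj_iff.mp h
  rw [← hg]
  exact ((MulAut.conj g).orderOf_eq a).symm

theorem orderOf_inv_conj {H : Type*} [Group H] (a t : H) :
    orderOf (a⁻¹ * t * a) = orderOf t := by
  have := (MulAut.conj a⁻¹).orderOf_eq t
  rw [MulAut.conj_apply, inv_inv] at this
  exact this

theorem pow_ne_one_of_prime_orders {H : Type*} [Group H] {p q : ℕ} (hp : p.Prime)
    (hq : q.Prime) (hpq : p ≠ q) {s : H} (hs : orderOf s = q) : s ^ p ≠ 1 := by
  intro h
  have h1 : q ∣ p := by rw [← hs]; exact orderOf_dvd_of_pow_eq_one h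
  rcases (Nat.dvd_prime hp).mp h1 with h2 | h2
  · exact hq.one_lt.ne' h2
  · exact hpq h2.symm

variable {G Ω : Type*} [Group G] [MulAction G Ω]

theorem coe_symm_pow {N : Subgroup G} {T : Type*} [Group T] {m : ℕ}
    (e : N ≃* (Fin m → T)) (f : Fin m → T) (k : ℕ) :
    ((e.symm f : N) : G) ^ k = ((e.symm (f ^ k) : N) : G) := by
  rw [map_pow, Subgroup.coe_pow]

theorem nonabelian_false [Finite G] [Finite Ω] [FaithfulSMul G Ω] [IsPreprimitive G Ω]
    (hΩ : 2 ≤ Nat.card Ω)
    (hnas : ¬ ∃ T : Subgroup G, T.Normal ∧ IsSimpleGroup T ∧ ¬ IsMulCommutative T ∧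
      Subgroup.centralizer (T : Set G) = ⊥)
    (h2 : AtMostTwo G Ω)
    (N : Subgroup G) [N.Normal] (hN : N ≠ ⊥)
    (hmin : ∀ M : Subgroup G, M.Normal → M ≤ N → M = ⊥ ∨ M = N)
    (hnab : ¬ IsMulCommutative N) : False := by
  classical
  haveI : Nonempty Ω := by
    have : 0 < Nat.card Ω := by omega
    exact (Nat.card_pos_iff.mp this).1
  haveI : Nontrivial Ω := by
    rw [← Finite.one_lt_card_iff_nontrivial]; omega
  have hNtr : ∀ a b : Ω, ∃ m ∈ N, m • a = b := normal_trans N hN
  obtain ⟨a⟩ := ‹Nonempty Ω›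
  have hK : IsCoatom (stabilizer G a) :=
    IsPreprimitive.isCoatom_stabilizer_of_isPreprimitive (G := G) (X := Ω) a
  have hNK : ¬ N ≤ stabilizer G a := by
    intro h
    obtain ⟨b, hb⟩ := exists_ne a
    obtain ⟨m, hm, hmab⟩ := hNtr a b
    exact hb (hmab.symm.trans (mem_stabilizer_iff.mp (h hm)))
  obtain ⟨T, instT, m, e, hTs, hTna, hm, hcase⟩ :=
    Cfsg.Agent.Lib.Helper9.os_final N hN hmin hnab _ hK hNK
  let i0 : Fin m := ⟨0, hm⟩
  haveI : Finite T := by
    haveI : Finite (Fin m → T) := Finite.of_equiv N e.toEquiv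
    exact Finite.of_injective (fun t : T => (Pi.mulSingle i0 t : Fin m → T))
      (Pi.mulSingle_injective (M := fun _ : Fin m => T) i0)
  obtain ⟨p, q, s₁, s₂, hp, hq, hpq, hs₁, hs₂⟩ := exists_two_prime_orders hTna
  have hs₁1 : s₁ ≠ 1 := by
    rintro rfl; rw [orderOf_one] at hs₁; exact hp.one_lt.ne hs₁
  have hs₂1 : s₂ ≠ 1 := by
    rintro rfl; rw [orderOf_one] at hs₂; exact hq.one_lt.ne hs₂
  -- first: the centraliser of `N` is trivial
  have hC : Subgroup.centralizer (N : Set G) = ⊥ := by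
    by_contra hC
    have hCtr : ∀ a b : Ω, ∃ z ∈ Subgroup.centralizer (N : Set G), z • a = b :=
      normal_trans _ hC
    have hNder : ∀ n ∈ N, n ≠ 1 → IsDer Ω n := by
      intro n hn hn1 b hb
      apply hn1
      apply FaithfulSMul.eq_of_smul_eq_smul (α := Ω)
      intro b'
      obtain ⟨z, hz, rfl⟩ := hCtr b b'
      rw [one_smul, ← mul_smul, Subgroup.mem_centralizer_iff.mp hz n hn, mul_smul, hb]
    have hCder : ∀ z ∈ Subgroup.centralizer (N : Set G), z ≠ 1 → IsDer Ω z := by
      intro z hz hz1 b hb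
      apply hz1
      apply FaithfulSMul.eq_of_smul_eq_smul (α := Ω)
      intro b'
      obtain ⟨n, hn, rfl⟩ := hNtr b b'
      rw [one_smul, ← mul_smul, ← Subgroup.mem_centralizer_iff.mp hz n hn, mul_smul, hb]
    have hNC : ∀ z ∈ Subgroup.centralizer (N : Set G), z ∈ N → z = 1 := by
      intro z hz hzN
      have hnorm : (N ⊓ Subgroup.centralizer (N : Set G)).Normal := inferInstance
      rcases hmin (N ⊓ Subgroup.centralizer (N : Set G)) hnorm inf_le_left with h | h
      · have : z ∈ N ⊓ Subgroup.centralizer (N : Set G) := ⟨hzN, hz⟩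
        rw [h, Subgroup.mem_bot] at this
        exact this
      · exfalso
        apply hnab
        have hle : N ≤ Subgroup.centralizer (N : Set G) := by
          intro x hx
          have hx' : x ∈ N ⊓ Subgroup.centralizer (N : Set G) := by rw [h]; exact hx
          exact hx'.2
        refine ⟨⟨fun x y => ?_⟩⟩
        apply Subtype.ext
        have := Subgroup.mem_centralizer_iff.mp (hle x.2) y y.2
        exact this.symm
    obtain ⟨z, hz, hz1⟩ : ∃ z ∈ Subgroup.centralizer (N : Set G), z ≠ 1 := by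
      by_contra hcon
      push Not at hcon
      apply hC
      rw [eq_bot_iff]
      intro z hz
      rw [Subgroup.mem_bot]
      exact hcon z hz
    have hx₁ : ((e.symm (Pi.mulSingle i0 s₁) : N) : G) ≠ 1 := by
      intro h
      have := orderOf_coord e i0 s₁
      rw [h, orderOf_one, hs₁] at this
      exact hp.one_lt.ne this
    have hx₂ : ((e.symm (Pi.mulSingle i0 s₂) : N) : G) ≠ 1 := by
      intro h
      have := orderOf_coord e i0 s₂
      rw [h, orderOf_one, hs₂] at this
      exact hq.one_lt.ne this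
    have hd₁ := hNder _ (e.symm (Pi.mulSingle i0 s₁) : N).2 hx₁
    have hd₂ := hNder _ (e.symm (Pi.mulSingle i0 s₂) : N).2 hx₂
    have hd₃ := hCder z hz hz1
    have hzN : ∀ n : N, ¬ IsConj (n : G) z := by
      intro n hconj
      obtain ⟨g, hg⟩ := isConj_iff.mp hconj
      apply hz1
      apply hNC z hz
      rw [← hg]
      exact ‹N.Normal›.conj_mem _ n.2 g
    rcases h2 _ _ _ hd₁ hd₂ hd₃ with h | h | h
    · have := orderOf_eq_of_isConj h
      rw [orderOf_coord, orderOf_coord, hs₁, hs₂] at this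
      exact hpq this
    · exact hzN _ h
    · exact hzN _ h
  rcases hcase with ⟨R, hR, hmem⟩ | ⟨k, c, hk, hfib, hmem⟩
  · -- product case
    by_cases hm1 : m = 1
    · subst hm1
      have hsimple : IsSimpleGroup N := (e.trans (MulEquiv.funUnique (Fin 1) T)).isSimpleGroup
      exact hnas ⟨N, inferInstance, hsimple, hnab, hC⟩
    · have hm2 : 1 < m := by omega
      let i1 : Fin m := ⟨1, hm2⟩
      have hi01 : i0 ≠ i1 := by
        intro h; have := congrArg Fin.val h; simp [i0, i1] at this
      obtain ⟨t, ht⟩ := exists_not_mem_conj (R i0) (hR i0)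
      have hderf := isDer_of_product e a (hNtr a) R (fun n hn => (hmem n).mp hn) i0 ht
      obtain ⟨fx, hfx⟩ : ∃ f : Fin m → T, f = Pi.mulSingle i0 t := ⟨_, rfl⟩
      have hfx0 : fx i0 = t := by simp [hfx]
      have hfx1 : fx i1 = 1 := by rw [hfx, Pi.mulSingle_eq_of_ne hi01.symm]
      have hfy0 : ∀ s : T, (fx * Pi.mulSingle i1 s : Fin m → T) i0 = t := by
        intro s
        rw [Pi.mul_apply, hfx0, Pi.mulSingle_eq_of_ne hi01, mul_one]
      have hdx := hderf fx hfx0
      have hdy₁ := hderf _ (hfy0 s₁)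
      have hdy₂ := hderf _ (hfy0 s₂)
      rcases h2 _ _ _ hdx hdy₁ hdy₂ with h | h | h
      · have h1 := cN_eq_of_isConj N h
        have h3 := cN_lt hTna e fx i1 hfx1 hs₁1
        omega
      · have h1 := cN_eq_of_isConj N h
        have h3 := cN_lt hTna e fx i1 hfx1 hs₂1
        omega
      · -- compare `p`-th powers
        obtain ⟨g, hg⟩ := isConj_iff.mp h
        have hpow : g * ((e.symm (fx * Pi.mulSingle i1 s₁) : N) : G) ^ p * g⁻¹ =
            ((e.symm (fx * Pi.mulSingle i1 s₂) : N) : G) ^ p := by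
          rw [← hg, conj_pow]
        rw [coe_symm_pow, coe_symm_pow] at hpow
        have e1 : (fx * Pi.mulSingle i1 s₁) ^ p = fx ^ p := by
          funext i
          rw [Pi.pow_apply, Pi.pow_apply, Pi.mul_apply]
          by_cases hi : i = i1
          · subst hi
            rw [hfx1, one_mul, Pi.mulSingle_eq_same, one_pow, ← hs₁, pow_orderOf_eq_one]
          · rw [Pi.mulSingle_eq_of_ne hi, mul_one]
        have e2 : (fx * Pi.mulSingle i1 s₂) ^ p = fx ^ p * Pi.mulSingle i1 (s₂ ^ p) := by
          funext i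
          rw [Pi.pow_apply, Pi.mul_apply, Pi.mul_apply, Pi.pow_apply]
          by_cases hi : i = i1
          · subst hi
            rw [hfx1, one_mul, Pi.mulSingle_eq_same, one_pow, one_mul, Pi.mulSingle_eq_same]
          · rw [Pi.mulSingle_eq_of_ne hi, mul_one, Pi.mulSingle_eq_of_ne hi, mul_one]
        rw [e1, e2] at hpow
        have h1 : cN N ((e.symm (fx ^ p * Pi.mulSingle i1 (s₂ ^ p)) : N) : G) =
            cN N ((e.symm (fx ^ p) : N) : G) := by
          rw [← hpow, cN_conj]
        have h3 := cN_lt hTna e (fx ^ p) i1 (by rw [Pi.pow_apply, hfx1, one_pow])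
          (pow_ne_one_of_prime_orders hp hq hpq hs₂)
        omega
  · -- diagonal case
    obtain ⟨j0, hj0, hcj0⟩ := exists_block_mate c hk hfib i0
    have hdx := isDer_of_diagonal e a (hNtr a) c (fun n hn => (hmem n).mp hn) hj0 hcj0 hs₁1
    have hdy := isDer_of_diagonal e a (hNtr a) c (fun n hn => (hmem n).mp hn) hj0 hcj0 hs₂1
    obtain ⟨fz, hfz⟩ : ∃ f : Fin m → T, f = Pi.mulSingle i0 s₁ * Pi.mulSingle j0 s₂ := ⟨_, rfl⟩
    have hfz0 : fz i0 = s₁ := by
      rw [hfz, Pi.mul_apply, Pi.mulSingle_eq_same, Pi.mulSingle_eq_of_ne hj0.symm, mul_one]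
    have hfz1 : fz j0 = s₂ := by
      rw [hfz, Pi.mul_apply, Pi.mulSingle_eq_same, Pi.mulSingle_eq_of_ne hj0, one_mul]
    have hdz : IsDer Ω ((e.symm fz : N) : G) := by
      apply isDer_of_conj_not_mem N a (hNtr a)
      intro n hn hmemK
      have h1 : (((⟨n, hn⟩ : N)⁻¹ * e.symm fz * ⟨n, hn⟩ : N) : G) ∈ stabilizer G a := hmemK
      have h3 := (hmem _).mp h1 j0 i0 hcj0
      rw [coord_conj_apply, coord_conj_apply, hfz0, hfz1] at h3
      have h4 := congrArg orderOf h3
      rw [orderOf_inv_conj, orderOf_inv_conj, hs₁, hs₂] at h4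
      exact hpq h4.symm
    have hzp : orderOf ((e.symm fz : N) : G) ≠ p := by
      intro h
      have h1 : ((e.symm fz : N) : G) ^ p = 1 := by rw [← h, pow_orderOf_eq_one]
      have h3 := coord_pow_eq_one e fz p h1 j0
      rw [hfz1] at h3
      exact pow_ne_one_of_prime_orders hp hq hpq hs₂ h3
    have hzq : orderOf ((e.symm fz : N) : G) ≠ q := by
      intro h
      have h1 : ((e.symm fz : N) : G) ^ q = 1 := by rw [← h, pow_orderOf_eq_one]
      have h3 := coord_pow_eq_one e fz q h1 i0
      rw [hfz0] at h3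
      exact pow_ne_one_of_prime_orders hq hp hpq.symm hs₁ h3
    rcases h2 _ _ _ hdx hdy hdz with h | h | h
    · have := orderOf_eq_of_isConj h
      rw [orderOf_coord, orderOf_coord, hs₁, hs₂] at this
      exact hpq this
    · have := orderOf_eq_of_isConj h
      rw [orderOf_coord, hs₁] at this
      exact hzp this.symm
    · have := orderOf_eq_of_isConj h
      rw [orderOf_coord, hs₂] at this
      exact hzq this.symm

end Cfsg.Agent.Lib.Helper20.Der
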