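import Mathlib
import Cfsg.Agent.Lib.Helper20.Derangement

set_option autoImplicit false

namespace Cfsg.Agent.Lib.Helper20

open MulAction

section General

variable {H X : Type*} [Group H] [MulAction H X]

theorem dvd_card_sub_one_of_orbits_dvd [Finite X] (i : ℕ) (a : X) (ha : ∀ h : H, h • a = a)
    (hdvd : ∀ x : X, x ≠ a → i ∣ (orbit H x).ncard) : i ∣ Nat.card X - 1 := by
  classical
  have : Fintype (orbitRel.Quotient H X) := Fintype.ofFinite _
  have hcard : Nat.card X = ∑ ω : orbitRel.Quotient H X, Nat.card (orbit H ω.out) := by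
    rw [Nat.card_congr (selfEquivSigmaOrbits H X), Nat.card_sigma]
  set q0 : orbitRel.Quotient H X := Quotient.mk'' a with hq0
  have horb_a : orbit H a = {a} := by
    ext y
    simp only [mem_orbit_iff, Set.mem_singleton_iff]
    constructor
    · rintro ⟨h, rfl⟩; exact ha h
    · rintro rfl; exact ⟨1, one_smul _ _⟩
  have hout : q0.out = a := by
    have h1 : q0.out ∈ orbit H a := by
      have : (Quotient.mk'' q0.out : orbitRel.Quotient H X) = Quotient.mk'' a := Quotient.out_eq' q0
      exact Quotient.exact' this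
    rw [horb_a] at h1
    exact h1
  have h0 : Nat.card (orbit H q0.out) = 1 := by
    rw [hout, horb_a]
    simp
  rw [hcard, ← Finset.add_sum_erase Finset.univ _ (Finset.mem_univ q0), h0, Nat.add_sub_cancel_left]
  apply Finset.dvd_sum
  intro ω hω
  rw [Finset.mem_erase] at hω
  have hne : ω.out ≠ a := by
    intro h
    apply hω.1
    rw [hq0, ← h]
    exact (Quotient.out_eq' ω).symm
  rw [Nat.card_coe_set_eq]
  exact hdvd _ hne

end General

section Der

variable {G Ω : Type*} [Group G] [MulAction G Ω]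

theorem derSub_normal : (derSub G Ω).Normal := by
  rw [← Subgroup.normalizer_eq_top_iff]
  have h : Subgroup.normalizer {g : G | ∀ ω : Ω, g • ω ≠ ω} = ⊤ := by
    rw [Subgroup.eq_top_iff']
    intro g
    rw [Subgroup.mem_set_normalizer_iff]
    intro h
    simp only [Set.mem_ofPred_eq]
    constructor
    · intro hh ω hω
      apply hh (g⁻¹ • ω)
      rw [mul_smul, mul_smul] at hω
      have := congrArg (fun z => g⁻¹ • z) hω
      simpa using this
    · intro hh ω hω
      apply hh (g • ω)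
      rw [mul_smul, mul_smul, inv_smul_smul, hω]
  exact top_le_iff.mp (h ▸ Subgroup.normalizer_le_normalizer_closure _)

theorem stab_inf_stab_le_derSub [Finite G] [Finite Ω] [IsPretransitive G Ω] (α ω : Ω)
    (h : ω ≠ α) : stabilizer G α ⊓ stabilizer G ω ≤ derSub G Ω := by
  intro g hg
  by_contra hgD
  have : Nonempty Ω := ⟨α⟩
  have h1 := (derangement_main (G := G) (Ω := Ω)).2 g hgD
  rw [Nat.card_eq_one_iff_unique] at h1
  obtain ⟨hs, _⟩ := h1
  have : (⟨α, hg.1⟩ : fixedBy Ω g) = ⟨ω, hg.2⟩ := Subsingleton.elim _ _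
  exact h (congrArg Subtype.val this).symm

theorem derSub_pretransitive [Finite G] [Finite Ω] [IsPretransitive G Ω] [Nonempty Ω] :
    IsPretransitive (derSub G Ω) Ω :=
  pretransitive_of_card_orbits_eq_one (derangement_main).1

theorem derSub_sup_stabilizer [Finite G] [Finite Ω] [IsPretransitive G Ω] (α : Ω) :
    derSub G Ω ⊔ stabilizer G α = ⊤ := by
  have : Nonempty Ω := ⟨α⟩
  have htr : IsPretransitive (derSub G Ω) Ω := derSub_pretransitive
  rw [Subgroup.eq_top_iff']
  intro g
  obtain ⟨d, hd⟩ := htr.exists_smul_eq α (g • α)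
  have hd' : (d : G) • α = g • α := hd
  have h1 : (d : G)⁻¹ * g ∈ stabilizer G α := by
    rw [mem_stabilizer_iff, mul_smul, ← hd', inv_smul_smul]
  have h2 : g = d * ((d : G)⁻¹ * g) := by group
  rw [h2]
  exact Subgroup.mul_mem_sup d.2 h1

theorem relIndex_derSub_stabilizer [Finite G] [Finite Ω] [IsPretransitive G Ω] (α : Ω) :
    (derSub G Ω).relIndex (stabilizer G α) = (derSub G Ω).index := by
  have := derSub_normal (G := G) (Ω := Ω)
  rw [← Subgroup.relIndex_sup_left, derSub_sup_stabilizer, Subgroup.relIndex_top_right]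

theorem stabilizer_stabilizer_eq (α ω : Ω) :
    stabilizer (stabilizer G α) ω = (stabilizer G ω).subgroupOf (stabilizer G α) := by
  ext x
  rw [Subgroup.mem_subgroupOf, mem_stabilizer_iff, mem_stabilizer_iff]
  rfl

theorem index_dvd_orbit_stabilizer [Finite G] [Finite Ω] [IsPretransitive G Ω] (α ω : Ω)
    (h : ω ≠ α) : (derSub G Ω).index ∣ (orbit (stabilizer G α) ω).ncard := by
  rw [← MulAction.index_stabilizer, stabilizer_stabilizer_eq]
  change (derSub G Ω).index ∣ (stabilizer G ω).relIndex (stabilizer G α)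
  rw [← relIndex_derSub_stabilizer α, ← Subgroup.inf_relIndex_right (derSub G Ω),
    ← Subgroup.inf_relIndex_right (stabilizer G ω)]
  apply Subgroup.relIndex_dvd_of_le_left
  refine le_inf ?_ inf_le_right
  rw [inf_comm]
  exact stab_inf_stab_le_derSub α ω h

theorem index_dvd_card_sub_one [Finite G] [Finite Ω] [IsPretransitive G Ω] [Nonempty Ω] :
    (derSub G Ω).index ∣ Nat.card Ω - 1 := by
  obtain ⟨α⟩ := ‹Nonempty Ω›
  apply dvd_card_sub_one_of_orbits_dvd (H := stabilizer G α) _ α
  · intro h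
    exact h.2
  · intro x hx
    exact index_dvd_orbit_stabilizer α x hx

theorem orbit_stabilizer_eq_compl [Finite G] [Finite Ω] [IsPretransitive G Ω] (α ω : Ω)
    (h : ω ≠ α) (hΩ : 2 ≤ Nat.card Ω) (heq : (derSub G Ω).index = Nat.card Ω - 1) :
    orbit (stabilizer G α) ω = {α}ᶜ := by
  have hsub : orbit (stabilizer G α) ω ⊆ {α}ᶜ := by
    rintro x ⟨⟨g, hg⟩, rfl⟩ hx
    have hx' : g • ω = α := hx
    apply h
    have hgα : g • α = α := hg
    have h3 : g • ω = g • α := by rw [hx', hgα]
    exact smul_left_cancel g h3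
  have hcompl : ({α}ᶜ : Set Ω).ncard = Nat.card Ω - 1 := by
    rw [Set.ncard_compl, Set.ncard_singleton]
  apply Set.eq_of_subset_of_ncard_le hsub
  rw [hcompl]
  have hdvd := index_dvd_orbit_stabilizer (G := G) α ω h
  rw [heq] at hdvd
  apply Nat.le_of_dvd _ hdvd
  rw [Set.ncard_pos]
  exact ⟨ω, mem_orbit_self ω⟩

theorem derSub_inf_stabilizer_eq_bot [Finite G] [Finite Ω] [IsPretransitive G Ω]
    [FaithfulSMul G Ω] (α : Ω) (hΩ : 2 ≤ Nat.card Ω)
    (heq : (derSub G Ω).index = Nat.card Ω - 1) : derSub G Ω ⊓ stabilizer G α = ⊥ := by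
  rw [Subgroup.eq_bot_iff_forall]
  intro d hd
  apply FaithfulSMul.eq_of_smul_eq_smul (α := Ω)
  intro ω
  rw [one_smul]
  by_cases hω : ω = α
  · rw [hω]; exact hd.2
  · have h1 : (stabilizer G ω ⊓ stabilizer G α).relIndex (stabilizer G α) = Nat.card Ω - 1 := by
      rw [Subgroup.inf_relIndex_right]
      have := MulAction.index_stabilizer (stabilizer G α) ω
      rw [stabilizer_stabilizer_eq] at this
      change (stabilizer G ω).relIndex (stabilizer G α) = _ at this
      rw [this, orbit_stabilizer_eq_compl α ω hω hΩ heq, Set.ncard_compl, Set.ncard_singleton]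
    have h2 : (derSub G Ω ⊓ stabilizer G α).relIndex (stabilizer G α) = Nat.card Ω - 1 := by
      rw [Subgroup.inf_relIndex_right, relIndex_derSub_stabilizer, heq]
    have hle : stabilizer G ω ⊓ stabilizer G α ≤ derSub G Ω ⊓ stabilizer G α := by
      refine le_inf ?_ inf_le_right
      rw [inf_comm]
      exact stab_inf_stab_le_derSub α ω hω
    have h3 := Subgroup.relIndex_mul_relIndex _ _ _ hle (inf_le_right : derSub G Ω ⊓ stabilizer G α ≤ stabilizer G α)
    rw [h1, h2] at h3
    have hpos : 0 < Nat.card Ω - 1 := by omega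
    have h4 : (stabilizer G ω ⊓ stabilizer G α).relIndex (derSub G Ω ⊓ stabilizer G α) = 1 := by
      have : (stabilizer G ω ⊓ stabilizer G α).relIndex (derSub G Ω ⊓ stabilizer G α) * (Nat.card Ω - 1)
          = 1 * (Nat.card Ω - 1) := by rw [h3, one_mul]
      exact Nat.eq_of_mul_eq_mul_right hpos this
    rw [Subgroup.relIndex_eq_one] at h4
    exact (h4 hd).1

theorem isPrimePow_of_index_eq [Finite G] [Finite Ω] [IsPretransitive G Ω] [FaithfulSMul G Ω]
    (hΩ : 2 ≤ Nat.card Ω) (heq : (derSub G Ω).index = Nat.card Ω - 1) :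
    IsPrimePow (Nat.card Ω) := by
  have hne : Nonempty Ω := by
    by_contra h
    rw [not_nonempty_iff] at h
    rw [Nat.card_of_isEmpty] at hΩ
    omega
  obtain ⟨α⟩ := hne
  have : Nonempty Ω := ⟨α⟩
  set D := derSub G Ω with hD
  have hDn : D.Normal := derSub_normal
  have hDα : D ⊓ stabilizer G α = ⊥ := derSub_inf_stabilizer_eq_bot α hΩ heq
  have htr : IsPretransitive D Ω := derSub_pretransitive
  have hmove : ∀ d ∈ D, d ≠ 1 → d • α ≠ α := by
    intro d hd hd1 hfix
    apply hd1
    have : d ∈ D ⊓ stabilizer G α := ⟨hd, hfix⟩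
    rw [hDα] at this
    exact this
  have hconj : ∀ d1 ∈ D, ∀ d2 ∈ D, d1 ≠ 1 → d2 ≠ 1 → orderOf d1 = orderOf d2 := by
    intro d1 hd1 d2 hd2 h1 h2
    have hm1 := hmove d1 hd1 h1
    have hm2 := hmove d2 hd2 h2
    have horb := orbit_stabilizer_eq_compl (G := G) α (d1 • α) hm1 hΩ heq
    have hmem : d2 • α ∈ orbit (stabilizer G α) (d1 • α) := by
      rw [horb]; exact hm2
    obtain ⟨⟨g, hg⟩, hgeq⟩ := hmem
    have hgeq' : g • (d1 • α) = d2 • α := hgeq
    have hgα : g • α = α := hg
    have hginv : g⁻¹ • α = α := by rw [inv_smul_eq_iff, hgα]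
    have hmemD : d2⁻¹ * (g * d1 * g⁻¹) ∈ D := D.mul_mem (D.inv_mem hd2) (hDn.conj_mem d1 hd1 g)
    have hfix : (d2⁻¹ * (g * d1 * g⁻¹)) • α = α := by
      rw [mul_smul, mul_smul, mul_smul, hginv, hgeq', inv_smul_smul]
    have h1' : d2⁻¹ * (g * d1 * g⁻¹) ∈ D ⊓ stabilizer G α := ⟨hmemD, hfix⟩
    rw [hDα, Subgroup.mem_bot] at h1'
    have h3 : d2 = g * d1 * g⁻¹ := by
      have := congrArg (fun z => d2 * z) h1'
      simpa using this.symm
    rw [h3]
    have : g * d1 * g⁻¹ = MulAut.conj g d1 := rfl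
    rw [this, MulEquiv.orderOf_eq]
  have hcardD : Nat.card D = Nat.card Ω := by
    apply Nat.card_congr
    apply Equiv.ofBijective (fun d : D => (d : G) • α)
    constructor
    · intro d1 d2 h
      have h' : (d1 : G) • α = (d2 : G) • α := h
      have hmem : (d2 : G)⁻¹ * d1 ∈ D ⊓ stabilizer G α := by
        refine ⟨D.mul_mem (D.inv_mem d2.2) d1.2, ?_⟩
        change ((d2 : G)⁻¹ * d1) • α = α
        rw [mul_smul, h', inv_smul_smul]
      rw [hDα, Subgroup.mem_bot] at hmem
      apply Subtype.ext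
      have := congrArg (fun z => (d2 : G) * z) hmem
      simpa using this
    · intro ω
      obtain ⟨d, hd⟩ := htr.exists_smul_eq α ω
      exact ⟨d, hd⟩
  have hn1 : Nat.card D ≠ 1 := by omega
  obtain ⟨p, hp, hpd⟩ := Nat.exists_prime_and_dvd hn1
  have : Fact p.Prime := ⟨hp⟩
  obtain ⟨d0, hd0⟩ := exists_prime_orderOf_dvd_card' (G := D) p hpd
  have hd0' : orderOf (d0 : G) = p := by rw [Subgroup.orderOf_coe]; exact hd0
  have hd0ne : (d0 : G) ≠ 1 := by
    intro h
    rw [h, orderOf_one] at hd0'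
    exact hp.ne_one hd0'.symm
  have hpg : IsPGroup p D := by
    intro d
    by_cases hd1 : (d : G) = 1
    · refine ⟨0, ?_⟩
      apply Subtype.ext
      simpa using hd1
    · refine ⟨1, ?_⟩
      have ho : orderOf (d : G) = p := by
        rw [hconj d d.2 d0 d0.2 hd1 hd0ne, hd0']
      apply Subtype.ext
      rw [pow_one]
      have : (d : G) ^ p = 1 := by rw [← ho]; exact pow_orderOf_eq_one _
      simpa using this
  obtain ⟨k, hk⟩ := hpg.exists_card_eq
  rw [isPrimePow_nat_iff]
  refine ⟨p, k, hp, ?_, ?_⟩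
  · rcases Nat.eq_zero_or_pos k with h0 | h0
    · rw [h0, pow_zero] at hk
      exact absurd hk hn1
    · exact h0
  · rw [← hk, hcardD]

end Der

end Cfsg.Agent.Lib.Helper20
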