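import Mathlib
import Cfsg.Agent.Lib.Helper20.DerIndex

set_option autoImplicit false

namespace Cfsg.Agent.Lib.Helper20

open MulAction

open scoped Pointwise

theorem mul_sub_one_eq (b m : ℕ) (hb : 1 ≤ b) (hm : 1 ≤ m) :
    b * m - 1 = b * (m - 1) + (b - 1) := by
  obtain ⟨m', rfl⟩ : ∃ m', m = m' + 1 := ⟨m - 1, by omega⟩
  obtain ⟨b', rfl⟩ : ∃ b', b = b' + 1 := ⟨b - 1, by omega⟩
  simp only [Nat.add_sub_cancel]
  have : (b' + 1) * (m' + 1) = (b' + 1) * m' + b' + 1 := by ring
  rw [this]
  omega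

section General

variable {H X : Type*} [Group H] [MulAction H X]

theorem dvd_ncard_sub_one_of_orbits_dvd [Finite X] (i : ℕ) (S : Set X)
    (hS : ∀ h : H, ∀ x ∈ S, h • x ∈ S) (a : X) (haS : a ∈ S) (ha : ∀ h : H, h • a = a)
    (hdvd : ∀ x ∈ S, x ≠ a → i ∣ (orbit H x).ncard) : i ∣ S.ncard - 1 := by
  let p : SubMulAction H X := { carrier := S, smul_mem' := fun h x hx => hS h x hx }
  have key := dvd_card_sub_one_of_orbits_dvd (H := H) (X := p) i ⟨a, haS⟩
    (fun h => Subtype.ext (ha h)) ?_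
  · have hc : Nat.card p = S.ncard := Nat.card_coe_set_eq S
    rwa [hc] at key
  · intro x hx
    have hx' : (x : X) ≠ a := fun h => hx (Subtype.ext h)
    have := hdvd x x.2 hx'
    rw [← SubMulAction.val_image_orbit, Set.ncard_image_of_injective _ Subtype.val_injective]
      at this
    exact this

end General

section Der

variable {G Ω : Type*} [Group G] [MulAction G Ω]

theorem index_dvd_block_sub_one [Finite G] [Finite Ω] [IsPretransitive G Ω] (B : Set Ω)
    (hB : IsBlock G B) (α : Ω) (hα : α ∈ B) : (derSub G Ω).index ∣ B.ncard - 1 := by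
  apply dvd_ncard_sub_one_of_orbits_dvd (H := stabilizer G α) _ B _ α hα
  · intro h
    exact h.2
  · intro x _ hx
    exact index_dvd_orbit_stabilizer α x hx
  · intro h x hx
    have h1 : (h : G) ∈ stabilizer G B := hB.stabilizer_le hα h.2
    rw [mem_stabilizer_iff] at h1
    change (h : G) • x ∈ B
    rw [← h1]
    exact Set.smul_mem_smul_set hx

theorem index_le_sqrt_of_not_preprimitive [Finite G] [Finite Ω] [IsPretransitive G Ω]
    (himp : ¬ IsPreprimitive G Ω) :
    ((derSub G Ω).index : ℝ) ≤ Real.sqrt (Nat.card Ω) - 1 := by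
  have hex : ∃ B : Set Ω, IsBlock G B ∧ ¬ IsTrivialBlock B := by
    by_contra h
    apply himp
    refine ⟨fun {B} hB => ?_⟩
    by_contra hnt
    exact h ⟨B, hB, hnt⟩
  obtain ⟨B, hB, hBnt⟩ := hex
  rw [IsTrivialBlock, not_or] at hBnt
  obtain ⟨hBns, hBnu⟩ := hBnt
  rw [Set.not_subsingleton_iff] at hBns
  obtain ⟨α, hα⟩ := hBns.nonempty
  have : Nonempty Ω := ⟨α⟩
  set i := (derSub G Ω).index with hi
  set b := B.ncard with hb
  have hb2 : 2 ≤ b := by
    have := (Set.one_lt_ncard (Set.toFinite B)).mpr hBns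
    omega
  have hbn : b ∣ Nat.card Ω := hB.ncard_dvd_card ⟨α, hα⟩
  obtain ⟨m, hm⟩ := hbn
  have hblt : b < Nat.card Ω := by
    have h1 : B.ncard < (Set.univ : Set Ω).ncard :=
      Set.ncard_lt_ncard (Set.ssubset_univ_iff.mpr hBnu) (Set.toFinite _)
    rwa [Set.ncard_univ] at h1
  have hm2 : 2 ≤ m := by
    by_contra h
    have h : m < 2 := by omega
    interval_cases m
    · omega
    · omega
  have h1 : i ∣ b - 1 := index_dvd_block_sub_one B hB α hα
  have h2 : i ∣ Nat.card Ω - 1 := index_dvd_card_sub_one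
  have h3 : i ∣ m - 1 := by
    have hcop : Nat.Coprime i b := by
      have hb1 : b = (b - 1) + 1 := by omega
      have : Nat.Coprime (b - 1) b := by
        conv_rhs => rw [hb1]
        simp
      exact Nat.Coprime.coprime_dvd_left h1 this
    have h4 : i ∣ b * (m - 1) := by
      have e : Nat.card Ω - 1 = b * (m - 1) + (b - 1) := by
        rw [hm]
        exact mul_sub_one_eq b m (by omega) (by omega)
      rw [e] at h2
      exact (Nat.dvd_add_left h1).mp h2
    exact hcop.dvd_of_dvd_mul_left h4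
  have hib : i + 1 ≤ b := by
    have := Nat.le_of_dvd (by omega) h1
    omega
  have him : i + 1 ≤ m := by
    have := Nat.le_of_dvd (by omega) h3
    omega
  have hsq : (i + 1) ^ 2 ≤ Nat.card Ω := by
    rw [hm, pow_two]
    exact Nat.mul_le_mul hib him
  have hsq' : ((i : ℝ) + 1) ^ 2 ≤ (Nat.card Ω : ℝ) := by
    exact_mod_cast hsq
  have := Real.le_sqrt_of_sq_le hsq'
  linarith

end Der

end Cfsg.Agent.Lib.Helper20
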