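import Mathlib
import Cfsg.Agent.Lib.Helper20.DerI
import Cfsg.Agent.Lib.Helper20.DerB
import Cfsg.Agent.Lib.Helper20.DerC
import Cfsg.Agent.Lib.Helper1.MinNormal

set_option autoImplicit false

/-!
# Derangement classes (part J): primitive groups with two classes of derangements that are not
almost simple
-/

namespace Cfsg.Agent.Lib.Helper20.Der

open MulAction

variable {G Ω : Type*} [Group G] [MulAction G Ω]

section Affine

variable [Finite G] [FaithfulSMul G Ω] (N : Subgroup G) [N.Normal]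

/-- If all derangements lie in the abelian regular normal subgroup `N`, non-identity elements
fix at most one point. -/
theorem fix_le_one_of_der_mem (hNab : ∀ x ∈ N, ∀ y ∈ N, x * y = y * x)
    (hNtr : ∀ a b : Ω, ∃ m ∈ N, m • a = b)
    (hCN : ∀ g : G, IsDer Ω g → g ∈ N) :
    ∀ g : G, g ≠ 1 → ∀ a b : Ω, a ≠ b → g • a = a → g • b ≠ b := by
  intro g hg1 a b hab hga hgb
  obtain ⟨x, hx, rfl⟩ := hNtr a b
  have hx1 : x ≠ 1 := by rintro rfl; exact hab (one_smul _ _).symm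
  have hgx : g * x * g⁻¹ = x := by
    apply eq_of_smul_eq N hNab hNtr (‹N.Normal›.conj_mem x hx g) hx (a := a)
    rw [mul_smul, mul_smul, inv_smul_eq_iff.mpr hga.symm, hgb]
  let φ : N → N := fun m => ⟨(m : G) * (g * (m : G) * g⁻¹)⁻¹,
    N.mul_mem m.2 (N.inv_mem (‹N.Normal›.conj_mem _ m.2 g))⟩
  have hninj : ¬ Function.Injective φ := by
    intro hinj
    have h1 : φ ⟨x, hx⟩ = φ 1 := by
      apply Subtype.ext
      show x * (g * x * g⁻¹)⁻¹ = (1 : G) * (g * 1 * g⁻¹)⁻¹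
      rw [hgx]; group
    have := hinj h1
    exact hx1 (congrArg Subtype.val this)
  have hnsurj : ¬ Function.Surjective φ := fun hs =>
    hninj (Finite.injective_iff_surjective.mpr hs)
  unfold Function.Surjective at hnsurj
  push Not at hnsurj
  obtain ⟨n, hn⟩ := hnsurj
  have hder : IsDer Ω ((n : G) * g) := by
    intro c hc
    obtain ⟨m, hm, rfl⟩ := hNtr a c
    apply hn ⟨m, hm⟩
    apply Subtype.ext
    show m * (g * m * g⁻¹)⁻¹ = (n : G)
    have h1 : ((n : G) * (g * m * g⁻¹)) • a = m • a := by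
      calc ((n : G) * (g * m * g⁻¹)) • a = ((n : G) * g) • m • (g⁻¹ • a) := by
            simp only [mul_smul]
        _ = ((n : G) * g) • m • a := by rw [inv_smul_eq_iff.mpr hga.symm]
        _ = m • a := hc
    have h2 := eq_of_smul_eq N hNab hNtr
      (N.mul_mem n.2 (‹N.Normal›.conj_mem m hm g)) hm h1
    exact (eq_mul_inv_iff_mul_eq.mpr h2).symm
  have hgN : g ∈ N := by
    have h1 := hCN _ hder
    have h2 : g = (n : G)⁻¹ * ((n : G) * g) := by group
    rw [h2]
    exact N.mul_mem (N.inv_mem n.2) h1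
  exact hg1 (eq_one_of_fix N hNab hNtr hgN hga)

omit [Finite G] in
/-- conjugacy in `G` of elements of `N` is realised by the point stabiliser -/
theorem conj_by_stab (hNab : ∀ x ∈ N, ∀ y ∈ N, x * y = y * x)
    (hNtr : ∀ a b : Ω, ∃ m ∈ N, m • a = b) {x y : G} (hx : x ∈ N) (hxy : IsConj x y) (a : Ω) :
    ∃ h : G, h • a = a ∧ h * x * h⁻¹ = y := by
  obtain ⟨g, hg⟩ := isConj_iff.mp hxy
  obtain ⟨m, hm, hma⟩ := hNtr a (g • a)
  refine ⟨m⁻¹ * g, by rw [mul_smul, ← hma, inv_smul_smul], ?_⟩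
  have h1 : g * x * g⁻¹ ∈ N := ‹N.Normal›.conj_mem x hx g
  have h2 : m⁻¹ * (g * x * g⁻¹) = (g * x * g⁻¹) * m⁻¹ :=
    hNab _ (N.inv_mem hm) _ h1
  calc (m⁻¹ * g) * x * (m⁻¹ * g)⁻¹ = m⁻¹ * (g * x * g⁻¹) * m := by group
    _ = (g * x * g⁻¹) * m⁻¹ * m := by rw [h2]
    _ = y := by rw [hg]; group

omit [Finite G] [FaithfulSMul G Ω] [N.Normal] in
theorem smul_smul_of_stab {h x : G} {a : Ω} (ha : h • a = a) :
    h • x • a = (h * x * h⁻¹) • a := by
  rw [mul_smul, mul_smul, inv_smul_eq_iff.mpr ha.symm]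

omit [Finite G] in
/-- the point stabiliser is transitive on the other points, if all non-identity elements of `N`
are conjugate -/
theorem stab_trans' (hNab : ∀ x ∈ N, ∀ y ∈ N, x * y = y * x)
    (hNtr : ∀ a b : Ω, ∃ m ∈ N, m • a = b)
    (hconjN : ∀ x ∈ N, ∀ y ∈ N, x ≠ 1 → y ≠ 1 → IsConj x y) {a b c : Ω} (hb : b ≠ a)
    (hc : c ≠ a) : ∃ h : G, h • a = a ∧ h • b = c := by
  obtain ⟨x, hx, rfl⟩ := hNtr a b
  obtain ⟨y, hy, rfl⟩ := hNtr a c
  have hx1 : x ≠ 1 := by rintro rfl; exact hb (one_smul _ _)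
  have hy1 : y ≠ 1 := by rintro rfl; exact hc (one_smul _ _)
  obtain ⟨h, hha, hh⟩ := conj_by_stab N hNab hNtr hx (hconjN x hx y hy hx1 hy1) a
  exact ⟨h, hha, by rw [smul_smul_of_stab hha, hh]⟩

omit [Finite G] in
theorem two_trans_of_conj (hNab : ∀ x ∈ N, ∀ y ∈ N, x * y = y * x)
    (hNtr : ∀ a b : Ω, ∃ m ∈ N, m • a = b)
    (hconjN : ∀ x ∈ N, ∀ y ∈ N, x ≠ 1 → y ≠ 1 → IsConj x y) :
    IsMultiplyPretransitive G Ω 2 := by
  rw [is_two_pretransitive_iff]
  intro a b c d hab hcd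
  obtain ⟨m, hm, hma⟩ := hNtr a c
  have hmb : m • b ≠ c := by
    rw [← hma]; intro h; exact hab (MulAction.injective m h).symm
  obtain ⟨h, hh1, hh2⟩ := stab_trans' N hNab hNtr hconjN hmb (Ne.symm hcd)
  exact ⟨h * m, by rw [mul_smul, hma, hh1], by rw [mul_smul, hh2]⟩

/-- two classes in `N`, fixity one: the stabiliser has order `(n - 1) / 2` -/
theorem card_stab_of_two [Finite Ω] (hNab : ∀ x ∈ N, ∀ y ∈ N, x * y = y * x)
    (hNtr : ∀ a b : Ω, ∃ m ∈ N, m • a = b)
    (hfix : ∀ g : G, g ≠ 1 → ∀ a b : Ω, a ≠ b → g • a = a → g • b ≠ b)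
    {x y : G} (hx : x ∈ N) (hy : y ∈ N) (hx1 : x ≠ 1) (hy1 : y ≠ 1) (hxy : ¬ IsConj x y)
    (hall : ∀ n ∈ N, n ≠ 1 → IsConj x n ∨ IsConj y n) (α : Ω) :
    2 * Nat.card (stabilizer G α) + 1 = Nat.card Ω := by
  classical
  let w : Bool → G := fun b => if b then x else y
  have hwN : ∀ b, w b ∈ N := by
    intro b; cases b
    · exact hy
    · exact hx
  have hw1 : ∀ b, w b ≠ 1 := by
    intro b; cases b
    · exact hy1
    · exact hx1
  have hwconj : ∀ b b', IsConj (w b) (w b') → b = b' := by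
    intro b b' h
    cases b <;> cases b'
    · rfl
    · exact absurd h.symm hxy
    · exact absurd h hxy
    · rfl
  have hwall : ∀ n ∈ N, n ≠ 1 → ∃ b, IsConj (w b) n := by
    intro n hn hn1
    rcases hall n hn hn1 with h | h
    · exact ⟨true, h⟩
    · exact ⟨false, h⟩
  have hne : ∀ (g : stabilizer G α) (b : Bool), (g : G) • w b • α ≠ α := by
    intro g b h
    have h1 : w b • α = α := by
      have := congrArg (fun z => (g : G)⁻¹ • z) h
      simp only [inv_smul_smul] at this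
      rw [this, inv_smul_eq_iff, mem_stabilizer_iff.mp g.2]
    exact hw1 b (eq_one_of_fix N hNab hNtr (hwN b) h1)
  let Φ : stabilizer G α × Bool → {c : Ω // c ≠ α} :=
    fun gb => ⟨(gb.1 : G) • w gb.2 • α, hne gb.1 gb.2⟩
  have hbij : Function.Bijective Φ := by
    constructor
    · rintro ⟨g, b⟩ ⟨h, b'⟩ hΦ
      have hΦ' : (g : G) • w b • α = (h : G) • w b' • α := congrArg Subtype.val hΦ
      have hg := mem_stabilizer_iff.mp g.2
      have hh := mem_stabilizer_iff.mp h.2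
      rw [smul_smul_of_stab hg, smul_smul_of_stab hh] at hΦ'
      have heq : (g : G) * w b * (g : G)⁻¹ = (h : G) * w b' * (h : G)⁻¹ :=
        eq_of_smul_eq N hNab hNtr (‹N.Normal›.conj_mem _ (hwN b) _)
          (‹N.Normal›.conj_mem _ (hwN b') _) hΦ'
      have hk : ((h : G)⁻¹ * g) * w b * ((h : G)⁻¹ * g)⁻¹ = w b' := by
        calc ((h : G)⁻¹ * g) * w b * ((h : G)⁻¹ * g)⁻¹
            = (h : G)⁻¹ * ((g : G) * w b * (g : G)⁻¹) * h := by group
          _ = (h : G)⁻¹ * ((h : G) * w b' * (h : G)⁻¹) * h := by rw [heq]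
          _ = w b' := by group
      have hbb : b = b' := hwconj b b' (isConj_iff.mpr ⟨_, hk⟩)
      subst hbb
      have hka : ((h : G)⁻¹ * g) • α = α := by
        rw [mul_smul, hg, inv_smul_eq_iff, hh]
      have hkw : ((h : G)⁻¹ * g) • (w b • α) = w b • α := by
        rw [smul_smul_of_stab hka, hk]
      have hk1 : (h : G)⁻¹ * g = 1 := by
        by_contra hk1
        have hwa : α ≠ w b • α := fun h' =>
          hw1 b (eq_one_of_fix N hNab hNtr (hwN b) h'.symm)
        exact hfix _ hk1 α (w b • α) hwa hka hkw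
      have : g = h := by
        apply Subtype.ext
        exact (inv_mul_eq_one.mp hk1).symm
      rw [this]
    · rintro ⟨c, hc⟩
      obtain ⟨n, hn, rfl⟩ := hNtr α c
      have hn1 : n ≠ 1 := by rintro rfl; exact hc (one_smul _ _)
      obtain ⟨b, hb⟩ := hwall n hn hn1
      obtain ⟨h, hha, hh⟩ := conj_by_stab N hNab hNtr (hwN b) hb α
      refine ⟨(⟨h, mem_stabilizer_iff.mpr hha⟩, b), ?_⟩
      apply Subtype.ext
      show h • w b • α = n • α
      rw [smul_smul_of_stab hha, hh]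
  have hcard := Nat.card_eq_of_bijective Φ hbij
  rw [Nat.card_prod, Nat.card_eq_fintype_card (α := Bool), Fintype.card_bool] at hcard
  have h1 : Nat.card {c : Ω // c ≠ α} = Nat.card Ω - 1 := by
    haveI := Fintype.ofFinite Ω
    rw [Nat.card_eq_fintype_card, Nat.card_eq_fintype_card, Fintype.card_subtype_compl,
      Fintype.card_subtype_eq]
  have h0 : 0 < Nat.card Ω := Nat.card_pos_iff.mpr ⟨⟨α⟩, inferInstance⟩
  omega

end Affine

theorem two_main [Finite G] [Finite Ω] [FaithfulSMul G Ω] (hΩ : 2 ≤ Nat.card Ω)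
    (hprim : IsPreprimitive G Ω)
    (hnas : ¬ ∃ T : Subgroup G, T.Normal ∧ IsSimpleGroup T ∧ ¬ IsMulCommutative T ∧
      Subgroup.centralizer (T : Set G) = ⊥)
    (hκ : Nat.card {c : ConjClasses G // ∃ g : G, ConjClasses.mk g = c ∧
      ∀ ω : Ω, g • ω ≠ ω} = 2) (α : Ω) :
    ((∃ N : Subgroup G, N.Normal ∧ N ≠ ⊥ ∧ IsMulCommutative N ∧
        ∀ ω : Ω, MulAction.stabilizer N ω = ⊥) ∧
      (∀ g : G, g ≠ 1 → Nat.card (MulAction.fixedBy Ω g) ≤ 1) ∧ ¬ 2 ∣ Nat.card Ω ∧
        2 * Nat.card (MulAction.stabilizer G α) = Nat.card Ω - 1) ∨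
    ((∃ N : Subgroup G, N.Normal ∧ N ≠ ⊥ ∧ IsMulCommutative N ∧
        ∀ ω : Ω, MulAction.stabilizer N ω = ⊥) ∧
      MulAction.IsMultiplyPretransitive G Ω 2 ∧
        ∃ g : G, g ≠ 1 ∧ 2 ≤ Nat.card (MulAction.fixedBy Ω g)) := by
  classical
  haveI : Nonempty Ω := ⟨α⟩
  haveI : Nontrivial Ω := by
    rw [← Finite.one_lt_card_iff_nontrivial]; omega
  haveI : IsPretransitive G Ω := hprim.toIsPretransitive
  have h2 := atMostTwo_of_card hκ
  have hnot1 : ¬ OneClass G Ω := by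
    intro h
    have := card_classes_eq_one_iff.mpr h
    omega
  obtain ⟨d, hd⟩ := exists_isDer (G := G) (Ω := Ω) hΩ
  haveI : Nontrivial G := ⟨⟨d, 1, hd.ne_one⟩⟩
  obtain ⟨N, hNn, hN, hmin⟩ := Cfsg.Agent.Lib.Helper1.exists_minimal_normal (G := G)
  haveI := hNn
  have hNtr : ∀ a b : Ω, ∃ m ∈ N, m • a = b := normal_trans N hN
  by_cases hab : IsMulCommutative N
  swap
  · exact (nonabelian_false hΩ hnas h2 N hN hmin hab).elim
  have hNab : ∀ x ∈ N, ∀ y ∈ N, x * y = y * x := by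
    intro x hx y hy
    have := hab.is_comm.comm (⟨x, hx⟩ : N) ⟨y, hy⟩
    exact congrArg Subtype.val this
  have hreg : ∀ ω : Ω, MulAction.stabilizer N ω = ⊥ := by
    intro a
    rw [eq_bot_iff]
    intro x hx
    rw [Subgroup.mem_bot]
    apply Subtype.ext
    exact eq_one_of_fix N hNab hNtr x.2 (mem_stabilizer_iff.mp hx)
  have hex : ∃ N : Subgroup G, N.Normal ∧ N ≠ ⊥ ∧ IsMulCommutative N ∧
      ∀ ω : Ω, MulAction.stabilizer N ω = ⊥ := ⟨N, hNn, hN, hab, hreg⟩
  by_cases hcN : ∀ x ∈ N, ∀ y ∈ N, x ≠ 1 → y ≠ 1 → IsConj x y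
  · right
    have h2t := two_trans_of_conj N hNab hNtr hcN
    refine ⟨hex, h2t, ?_⟩
    by_contra hcon
    push Not at hcon
    apply hnot1
    apply oneClass_of_sharp hΩ h2t
    intro g hg a b hab' hga hgb
    have := hcon g hg
    have h1 : Nat.card (fixedBy Ω g) = (fixedBy Ω g).ncard := Nat.card_coe_set_eq _
    rw [h1] at this
    have h3 : 1 < (fixedBy Ω g).ncard :=
      (Set.one_lt_ncard_iff (Set.toFinite _)).mpr ⟨a, b, hga, hgb, hab'⟩
    omega
  · left
    push Not at hcN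
    obtain ⟨x, hx, y, hy, hx1, hy1, hxy⟩ := hcN
    have hdx := isDer_of_mem N hNab hNtr hx hx1
    have hdy := isDer_of_mem N hNab hNtr hy hy1
    have hall : ∀ g : G, IsDer Ω g → IsConj x g ∨ IsConj y g := by
      intro g hg
      rcases h2 x y g hdx hdy hg with h | h | h
      · exact absurd h hxy
      · exact Or.inl h
      · exact Or.inr h
    have hCN : ∀ g : G, IsDer Ω g → g ∈ N := by
      intro g hg
      rcases hall g hg with h | h
      · obtain ⟨k, hk⟩ := isConj_iff.mp h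
        rw [← hk]; exact hNn.conj_mem x hx k
      · obtain ⟨k, hk⟩ := isConj_iff.mp h
        rw [← hk]; exact hNn.conj_mem y hy k
    have hfix := fix_le_one_of_der_mem N hNab hNtr hCN
    have hcard := card_stab_of_two N hNab hNtr hfix hx hy hx1 hy1 hxy
      (fun n hn hn1 => hall n (isDer_of_mem N hNab hNtr hn hn1)) α
    refine ⟨hex, ?_, ?_, ?_⟩
    · intro g hg
      have h1 : Nat.card (fixedBy Ω g) = (fixedBy Ω g).ncard := Nat.card_coe_set_eq _
      rw [h1, Set.ncard_le_one_iff (Set.toFinite _)]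
      intro a b ha hb
      by_contra hne
      exact hfix g hg a b hne ha hb
    · omega
    · omega

end Cfsg.Agent.Lib.Helper20.Der
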