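import Mathlib
import Cfsg.Prelude.Def_GeometricClasses
import Cfsg.Agent.Lib.Helper27.ASC.Defs
import Cfsg.Agent.Lib.helper23.ASCO.Defs
import Cfsg.Agent.Lib.Helper19.ASG.Defs
import Cfsg.Agent.Lib.Helper1.ASGCLIF3
import Cfsg.Agent.Lib.Helper25.ASO.Defs
import Cfsg.Agent.Lib.helper23.ASE.Defs
import Cfsg.Agent.Lib.Helper20.ASE10M.Defs
import Cfsg.Agent.Lib.Helper20.E10MF5HALF
import Cfsg.Agent.Lib.Helper20.E10MFTWO
import Cfsg.Agent.Lib.Helper22.E10MFODDSA
import Cfsg.Agent.Lib.Helper27.E10MF5ISO2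

set_option autoImplicit false
set_option linter.unusedVariables false
set_option linter.unusedSectionVars false

/-!
# Project E10M / E10P, FIELD block (helper20) : `efield_half` with the REFINED first alternative (for the plus row S5847).
`e10mf5halfp_pair` : `n = 2 r`, `K` self-adjoint of degree `r`, normalised by an irreducible group `G` of isometries: `G` stabilises a
pair of complementary totally singular `r`-spaces (helper27's `efield_iso_pair`) OR normalises an `oadj`-closed field of degree 2.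
`e10mf5halfp_odd` : the same for `r` odd and `K` only adjoint-closed (`IsAdjointClosedFor`), conclusion in the `IsAdjointClosedFor`
language (= `Helper27.E10P.field5_case` for `n = 10`, `r = 5`).
-/

namespace Cfsg.Agent.Lib.Helper16.E10M

open Cfsg Cfsg.Geo Cfsg.Agent.Lib.Helper27.ASC Cfsg.Agent.Lib.helper23.ASCO Cfsg.Agent.Lib.Helper19.ASG
  Cfsg.Agent.Lib.Helper25.ASO
open scoped MatrixGroups Matrix Kronecker

variable {n : ℕ} {F : Type*} [Field F] [Fintype F]

/-- `efield_half` with the pair of totally singular `K`-lines as first alternative -/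
theorem e10mf5halfp_pair {r : ℕ} (hn : n = 2 * r) (hr : 0 < r) (Q : QuadraticForm F (Fin n → F))
    (hQ : (QuadraticMap.polarBilin Q).Nondegenerate) {G : Subgroup (GL (Fin n) F)} (hG : Irr G)
    (hGO : G ≤ isometryGroup F (⇑Q)) (K : Subalgebra F (Matrix (Fin n) (Fin n) F)) (hK : IsFieldSubalgebra r K)
    (hsa : ∀ k ∈ K, oadj (⇑Q) k = k) (hGK : G ≤ subalgebraNormalizer K) :
    (∃ D : Fin 2 → Submodule F (Fin n → F), IsMDecomposition r D ∧ (∀ i, IsTotallySingularQuad (⇑Q) (D i)) ∧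
        G ≤ decompositionStabilizer D) ∨
      ∃ K₂ : Subalgebra F (Matrix (Fin n) (Fin n) F), IsFieldSubalgebra 2 K₂ ∧ (∀ k ∈ K₂, oadj (⇑Q) k ∈ K₂) ∧
        G ≤ subalgebraNormalizer K₂ := by
  classical
  have hstar : ∀ k ∈ K, oadj (⇑Q) k ∈ K := fun k hk => by rw [hsa k hk]; exact hk
  obtain ⟨ℓ, v, w, s, β, hc⟩ : ∃ (ℓ : Matrix (Fin n) (Fin n) F →ₗ[F] F) (v w : Fin n → F)
      (s β : Matrix (Fin n) (Fin n) F), EFieldCoord (⇑Q) K ℓ v w s β := by
    by_cases h2 : (2 : F) = 0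
    · have halt := efield_sa_alt h2 Q hQ hG hGO (by omega : r < n) K hK hsa hGK
      exact efield_coord_even h2 hn hr Q hQ K hK hsa halt
    · exact efield_coord_odd h2 hn hr Q hQ K hK hsa
  by_cases haniso : ∀ a ∈ K, ∀ b ∈ K, a * a + s * a * b + β * b * b = 0 → a = 0 ∧ b = 0
  swap
  · left
    push Not at haniso
    obtain ⟨a, ha, b, hb, h0, hab⟩ := haniso
    have hab' : a ≠ 0 ∨ b ≠ 0 := by
      by_contra hcon
      push Not at hcon
      exact hab hcon.1 hcon.2
    exact efield_iso_pair hn hr Q hQ K hK hc a b ha hb hab' h0 hGO hGK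
  · right
    obtain ⟨j, hjK, hj⟩ := efield_j Q K hK hc
    have hjsq := efield_j_sq Q K hK hc j hjK hj
    obtain ⟨L, hL, hKL, hjL, hLmem⟩ := efield_L Q K hK hc haniso j hjK hj hjsq
    have hgen := efield_gen_mem hr Q K hK hc haniso j hjK hj
    have hgj := efield_gen_j hr Q K hK hc haniso j hjK hj
    obtain ⟨hGL, hLstar⟩ := efield_L_norm Q hQ K hstar L hKL j hjL hLmem hgen hgj hGO hGK
    obtain ⟨K₂, hK₂, -, hnorm, hK₂star⟩ := efield_sub Q hQ L hL (by omega) hLstar 2 ⟨r, rfl⟩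
    exact ⟨K₂, hK₂, hK₂star, hGL.trans hnorm⟩

/-- the same for `r` odd, hypotheses and conclusion in the `IsAdjointClosedFor` language -/
theorem e10mf5halfp_odd {r : ℕ} (hn : n = 2 * r) (hr : Odd r) (Q : QuadraticForm F (Fin n → F))
    (hQ : (QuadraticMap.polarBilin Q).Nondegenerate) {G : Subgroup (GL (Fin n) F)} (hG : Irr G)
    (hGO : G ≤ isometryGroup F (⇑Q)) (K : Subalgebra F (Matrix (Fin n) (Fin n) F)) (hK : IsFieldSubalgebra r K)
    (hadj : IsAdjointClosedFor (QuadraticMap.polar (⇑Q)) K) (hGK : G ≤ subalgebraNormalizer K) :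
    (∃ D : Fin 2 → Submodule F (Fin n → F), IsMDecomposition r D ∧ (∀ i, IsTotallySingularQuad (⇑Q) (D i)) ∧
        G ≤ decompositionStabilizer D) ∨
      ∃ K₂ : Subalgebra F (Matrix (Fin n) (Fin n) F), IsFieldSubalgebra 2 K₂ ∧
        IsAdjointClosedFor (QuadraticMap.polar (⇑Q)) K₂ ∧ G ≤ subalgebraNormalizer K₂ := by
  have hstar : ∀ k ∈ K, oadj (⇑Q) k ∈ K := by
    intro k hk
    obtain ⟨k', hk', h⟩ := hadj k hk
    rw [← oadj_unique Q hQ k k' h]
    exact hk'
  have hsa := efield_odd_sa Q hQ hr K hK hstar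
  have hr0 : 0 < r := hr.pos
  rcases e10mf5halfp_pair hn hr0 Q hQ hG hGO K hK hsa hGK with h | ⟨K₂, hK₂, hK₂star, hGK₂⟩
  · exact Or.inl h
  · exact Or.inr ⟨K₂, hK₂, e10mftwo_adjClosed Q hQ K₂ hK₂star, hGK₂⟩

end Cfsg.Agent.Lib.Helper16.E10M
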