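import Mathlib
import Cfsg.Prelude.Def_GeometricClasses
import Cfsg.Agent.Lib.Helper27.ASC.Defs
import Cfsg.Agent.Lib.helper23.ASCO.Defs
import Cfsg.Agent.Lib.Helper19.ASG.Defs
import Cfsg.Agent.Lib.Helper1.ASGCLIF3
import Cfsg.Agent.Lib.Helper25.ASO.Defs
import Cfsg.Agent.Lib.helper23.ASE.Defs
import Cfsg.Agent.Lib.Helper20.ASE10M.Defs
import Cfsg.Agent.Lib.Helper20.E10MFSUB
import Cfsg.Agent.Lib.Helper20.E10MFTWO
import Cfsg.Agent.Lib.Helper22.E10MFODDSA
import Cfsg.Agent.Lib.Helper18.ASCSCHURB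
import Cfsg.Agent.Lib.Helper20.E10MF5HALF

set_option autoImplicit false
set_option linter.unusedVariables false
set_option linter.unusedSectionVars false

/-!
# Project E10M, FIELD block (helper20) : `efield_twice_prime`, the one-call interface of the field block for the rows in dimension
`n = 2 p` (`n = 10`: S5850, S5847).
-/

namespace Cfsg.Agent.Lib.Helper16.E10M

open Cfsg Cfsg.Geo Cfsg.Agent.Lib.Helper27.ASC Cfsg.Agent.Lib.helper23.ASCO Cfsg.Agent.Lib.Helper19.ASG
  Cfsg.Agent.Lib.Helper25.ASO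
open scoped MatrixGroups Matrix Kronecker

variable {n : ℕ} {F : Type*} [Field F] [Fintype F]

/-- FIELD block, interface for the rows in dimension `n = 2 p`, `p` an odd prime (`n = 10`): an adjoint-closed field subalgebra `Z` of
degree `≥ 2` normalised by an irreducible group of isometries: plus type, or `G` normalises a field of degree 2 which is self-adjoint
(`|F|` odd) or unitary with the elements of the field acting as similitudes. -/
theorem efield_twice_prime {p : ℕ} (hp : p.Prime) (hp2 : p ≠ 2) (hn : n = 2 * p) (Q : QuadraticForm F (Fin n → F))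
    (hQ : (QuadraticMap.polarBilin Q).Nondegenerate) {G : Subgroup (GL (Fin n) F)} (hG : Irr G)
    (hGO : G ≤ isometryGroup F (⇑Q)) {b : ℕ} (Z : Subalgebra F (Matrix (Fin n) (Fin n) F))
    (hZ : IsFieldSubalgebra b Z) (hb : 2 ≤ b) (hstar : ∀ k ∈ Z, oadj (⇑Q) k ∈ Z)
    (hGZ : G ≤ subalgebraNormalizer Z) :
    IsPlusTypeOn (⇑Q) ⊤ ∨
      ∃ K : Subalgebra F (Matrix (Fin n) (Fin n) F), IsFieldSubalgebra 2 K ∧ G ≤ subalgebraNormalizer K ∧
        ((Odd (Fintype.card F) ∧ IsSelfAdjointFor (QuadraticMap.polar (⇑Q)) K) ∨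
         (IsAdjointClosedFor (QuadraticMap.polar (⇑Q)) K ∧ ¬ IsSelfAdjointFor (QuadraticMap.polar (⇑Q)) K ∧
            ∀ k ∈ K, ∃ c : F, ∀ v : Fin n → F, Q (k *ᵥ v) = c * Q v)) := by
  have hpodd : Odd p := hp.odd_of_ne_two hp2
  have hp3 : 3 ≤ p := by
    have := hp.two_le
    omega
  have hn3 : 3 ≤ n := by omega
  have h4 : ¬ 4 ∣ n := by
    rintro ⟨c, hc⟩
    obtain ⟨j, hj⟩ := hpodd
    omega
  have hbn : b ∣ n := field_finrank_dvd (by omega) Z hZ
  -- a field of degree 2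
  have key : ∀ K : Subalgebra F (Matrix (Fin n) (Fin n) F), IsFieldSubalgebra 2 K →
      (∀ k ∈ K, oadj (⇑Q) k ∈ K) → G ≤ subalgebraNormalizer K →
      ∃ K : Subalgebra F (Matrix (Fin n) (Fin n) F), IsFieldSubalgebra 2 K ∧ G ≤ subalgebraNormalizer K ∧
        ((Odd (Fintype.card F) ∧ IsSelfAdjointFor (QuadraticMap.polar (⇑Q)) K) ∨
         (IsAdjointClosedFor (QuadraticMap.polar (⇑Q)) K ∧ ¬ IsSelfAdjointFor (QuadraticMap.polar (⇑Q)) K ∧
            ∀ k ∈ K, ∃ c : F, ∀ v : Fin n → F, Q (k *ᵥ v) = c * Q v)) :=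
    fun K hK hKstar hGK => ⟨K, hK, hGK, efield_two hn3 h4 Q hQ hG hGO K hK hKstar hGK⟩
  by_cases h2b : 2 ∣ b
  · right
    obtain ⟨K, hK, -, hnorm, hKstar⟩ := efield_sub Q hQ Z hZ (by omega) hstar 2 h2b
    exact key K hK hKstar (hGZ.trans hnorm)
  · -- `b = p`
    have hbp : b = p := by
      rw [hn] at hbn
      have hcop : Nat.Coprime b 2 := by
        rw [Nat.coprime_comm]
        exact (Nat.Prime.coprime_iff_not_dvd Nat.prime_two).mpr h2b
      have hbp' : b ∣ p := hcop.dvd_of_dvd_mul_left hbn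
      rcases (Nat.dvd_prime hp).mp hbp' with h | h
      · omega
      · exact h
    subst hbp
    have hsa := efield_odd_sa Q hQ hpodd Z hZ hstar
    rcases efield_half hn hp.pos Q hQ hG hGO Z hZ hsa hGZ with h | ⟨K, hK, hKstar, hGK⟩
    · exact Or.inl h
    · exact Or.inr (key K hK hKstar hGK)

end Cfsg.Agent.Lib.Helper16.E10M
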