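import Mathlib
import Cfsg.Prelude.Def_GeometricClasses
import Cfsg.Agent.Lib.Helper27.ASC.Defs
import Cfsg.Agent.Lib.helper23.ASCO.Defs
import Cfsg.Agent.Lib.Helper19.ASG.Defs
import Cfsg.Agent.Lib.Helper1.ASGCLIF3
import Cfsg.Agent.Lib.Helper25.ASO.Defs
import Cfsg.Agent.Lib.helper23.ASE.Defs
import Cfsg.Agent.Lib.Helper25.ASOADJ

set_option autoImplicit false
set_option linter.unusedVariables false
set_option linter.unusedSectionVars false

/-!
# Project E10M, FIELD block, piece F-UNISIM (helper20) : the core, with the conclusions of F-NORM and F-KER as hypotheses.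
-/

namespace Cfsg.Agent.Lib.Helper16.E10M

open Cfsg Cfsg.Geo Cfsg.Agent.Lib.Helper27.ASC Cfsg.Agent.Lib.helper23.ASCO Cfsg.Agent.Lib.Helper19.ASG
  Cfsg.Agent.Lib.Helper25.ASO
open scoped MatrixGroups Matrix Kronecker

variable {n : ℕ} {F : Type*} [Field F] [Fintype F]

/-- `f (k u) (k v) = c f u v` when `oadj k * k = c • 1` -/
theorem e10mfunisim_polar (Q : QuadraticForm F (Fin n → F)) (hQ : (QuadraticMap.polarBilin Q).Nondegenerate)
    (k : Matrix (Fin n) (Fin n) F) (c : F) (hc : oadj (⇑Q) k * k = c • (1 : Matrix (Fin n) (Fin n) F))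
    (u v : Fin n → F) :
    QuadraticMap.polar (⇑Q) (k *ᵥ u) (k *ᵥ v) = c * QuadraticMap.polar (⇑Q) u v := by
  rw [oadj_spec Q hQ, Matrix.mulVec_mulVec, hc, Matrix.smul_mulVec, Matrix.one_mulVec,
    QuadraticMap.polar_smul_right, smul_eq_mul]

/-- `D v = Q (k v) - c Q v` is additive -/
theorem e10mfunisim_D_add (Q : QuadraticForm F (Fin n → F)) (hQ : (QuadraticMap.polarBilin Q).Nondegenerate)
    (k : Matrix (Fin n) (Fin n) F) (c : F) (hc : oadj (⇑Q) k * k = c • (1 : Matrix (Fin n) (Fin n) F))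
    (u v : Fin n → F) :
    Q (k *ᵥ (u + v)) - c * Q (u + v) = (Q (k *ᵥ u) - c * Q u) + (Q (k *ᵥ v) - c * Q v) := by
  have h1 := e10mfunisim_polar Q hQ k c hc u v
  unfold QuadraticMap.polar at h1
  rw [← Matrix.mulVec_add] at h1
  linear_combination h1

/-- `D (a v) = a² D v` -/
theorem e10mfunisim_D_smul (Q : QuadraticForm F (Fin n → F)) (k : Matrix (Fin n) (Fin n) F) (c a : F)
    (v : Fin n → F) :
    Q (k *ᵥ (a • v)) - c * Q (a • v) = a ^ 2 * (Q (k *ᵥ v) - c * Q v) := by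
  rw [Matrix.mulVec_smul, QuadraticMap.map_smul, QuadraticMap.map_smul, smul_eq_mul, smul_eq_mul]
  ring

/-- the core of F-UNISIM -/
theorem e10mfunisim_core (hn : 3 ≤ n) (Q : QuadraticForm F (Fin n → F))
    (hQ : (QuadraticMap.polarBilin Q).Nondegenerate) {G : Subgroup (GL (Fin n) F)}
    (hGO : G ≤ isometryGroup F (⇑Q)) (K : Subalgebra F (Matrix (Fin n) (Fin n) F)) (hK : IsFieldSubalgebra 2 K)
    (hstar : ∀ k ∈ K, oadj (⇑Q) k ∈ K) (hGK : G ≤ subalgebraNormalizer K)
    (hnorm : ∀ k ∈ K, ∃ c : F, oadj (⇑Q) k * k = c • (1 : Matrix (Fin n) (Fin n) F))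
    (hker : ∀ W : Submodule F (Fin n → F), (∀ g ∈ G, ∀ v ∈ W, (g : Matrix (Fin n) (Fin n) F) *ᵥ v ∈ W) →
      ∀ Φ : (Fin n → F) →+ F × F, (∀ v, v ∈ W ↔ Φ v = 0) → Fintype.card (F × F) < Fintype.card F ^ n → W = ⊤) :
    ∀ k ∈ K, ∃ c : F, ∀ v : Fin n → F, Q (k *ᵥ v) = c * Q v := by
  classical
  intro k hk
  obtain ⟨c, hc⟩ := hnorm k hk
  refine ⟨c, ?_⟩
  by_cases h2 : (2 : F) = 0
  swap
  · -- odd characteristic
    intro v
    have h1 := e10mfunisim_polar Q hQ k c hc v v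
    rw [QuadraticMap.polar_self, QuadraticMap.polar_self, two_smul, two_smul] at h1
    have h3 : (2 : F) * (Q (k *ᵥ v) - c * Q v) = 0 := by linear_combination h1
    rcases mul_eq_zero.mp h3 with h | h
    · exact absurd h h2
    · exact sub_eq_zero.mp h
  -- characteristic 2
  set k' := oadj (⇑Q) k with hk'def
  have hk' : k' ∈ K := hstar k hk
  have hkk' : k * k' = c • (1 : Matrix (Fin n) (Fin n) F) := by
    rw [hK.comm k hk k' hk']; exact hc
  have hc' : oadj (⇑Q) k' * k' = c • (1 : Matrix (Fin n) (Fin n) F) := by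
    rw [hk'def, oadj_oadj Q hQ]; exact hkk'
  -- the trace `k + k'` is a scalar
  obtain ⟨t, ht⟩ : ∃ t : F, k + k' = t • (1 : Matrix (Fin n) (Fin n) F) := by
    obtain ⟨c₁, hc₁⟩ := hnorm (1 + k) (K.add_mem K.one_mem hk)
    refine ⟨c₁ - 1 - c, ?_⟩
    rw [oadj_add, oadj_one Q hQ, ← hk'def] at hc₁
    have e : (1 + k') * (1 + k) = 1 + (k + k') + k' * k := by
      rw [add_mul, mul_add, mul_add, one_mul, one_mul, mul_one]; abel
    rw [e, hc] at hc₁
    have e2 : k + k' = c₁ • (1 : Matrix (Fin n) (Fin n) F) - 1 - c • (1 : Matrix (Fin n) (Fin n) F) := by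
      rw [← hc₁]; abel
    rw [e2, sub_smul, sub_smul, one_smul]
  -- a conjugate of `k` or `k'` is `k` or `k'`
  have hroot : ∀ x ∈ K, x * x - t • x + c • (1 : Matrix (Fin n) (Fin n) F) = 0 → x = k ∨ x = k' := by
    intro x hx h
    have e : (x - k) * (x - k') = 0 := by
      have : (x - k) * (x - k') = x * x - x * k' - k * x + k * k' := by
        rw [sub_mul, mul_sub, mul_sub]; abel
      rw [this, hkk', hK.comm k hk x hx]
      have e3 : x * x - x * k' - x * k = x * x - x * (k + k') := by rw [mul_add]; abel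
      rw [e3, ht, mul_smul_comm, mul_one]
      exact h
    by_cases hxk : x - k = 0
    · exact Or.inl (sub_eq_zero.mp hxk)
    · right
      obtain ⟨y, hy, hxy⟩ := hK.inv (x - k) (K.sub_mem hx hk) hxk
      have : x - k' = 0 := by
        calc x - k' = (y * (x - k)) * (x - k') := by
              rw [hK.comm y hy _ (K.sub_mem hx hk), hxy, one_mul]
          _ = y * ((x - k) * (x - k')) := mul_assoc _ _ _
          _ = 0 := by rw [e, mul_zero]
      exact sub_eq_zero.mp this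
  have hpolyk : k * k - t • k + c • (1 : Matrix (Fin n) (Fin n) F) = 0 := by
    have : t • k = (k + k') * k := by rw [ht, smul_mul_assoc, one_mul]
    rw [this, add_mul, ← hc]; abel
  have hpolyk' : k' * k' - t • k' + c • (1 : Matrix (Fin n) (Fin n) F) = 0 := by
    have : t • k' = (k + k') * k' := by rw [ht, smul_mul_assoc, one_mul]
    rw [this, add_mul, ← hkk']; abel
  have hconj : ∀ g ∈ G, ∀ x ∈ K, x * x - t • x + c • (1 : Matrix (Fin n) (Fin n) F) = 0 →
      ((g⁻¹ : GL (Fin n) F) : Matrix (Fin n) (Fin n) F) * x * (g : Matrix (Fin n) (Fin n) F) = k ∨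
      ((g⁻¹ : GL (Fin n) F) : Matrix (Fin n) (Fin n) F) * x * (g : Matrix (Fin n) (Fin n) F) = k' := by
    intro g hg x hx hpoly
    have hginv : g⁻¹ ∈ subalgebraNormalizer K := (subalgebraNormalizer K).inv_mem (hGK hg)
    have hmem : ((g⁻¹ : GL (Fin n) F) : Matrix (Fin n) (Fin n) F) * x * (g : Matrix (Fin n) (Fin n) F) ∈ K := by
      have := (hginv x).mp hx
      rwa [inv_inv] at this
    apply hroot _ hmem
    have hgg : (g : Matrix (Fin n) (Fin n) F) * ((g⁻¹ : GL (Fin n) F) : Matrix (Fin n) (Fin n) F) = 1 := by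
      rw [← Units.val_mul, mul_inv_cancel, Units.val_one]
    have hgg' : ((g⁻¹ : GL (Fin n) F) : Matrix (Fin n) (Fin n) F) * (g : Matrix (Fin n) (Fin n) F) = 1 := by
      rw [← Units.val_mul, inv_mul_cancel, Units.val_one]
    have e : ((g⁻¹ : GL (Fin n) F) : Matrix (Fin n) (Fin n) F) * x * (g : Matrix (Fin n) (Fin n) F) *
        (((g⁻¹ : GL (Fin n) F) : Matrix (Fin n) (Fin n) F) * x * (g : Matrix (Fin n) (Fin n) F)) -
        t • (((g⁻¹ : GL (Fin n) F) : Matrix (Fin n) (Fin n) F) * x * (g : Matrix (Fin n) (Fin n) F)) +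
        c • (1 : Matrix (Fin n) (Fin n) F) =
        ((g⁻¹ : GL (Fin n) F) : Matrix (Fin n) (Fin n) F) *
          (x * x - t • x + c • (1 : Matrix (Fin n) (Fin n) F)) * (g : Matrix (Fin n) (Fin n) F) := by
      have e1 : ((g⁻¹ : GL (Fin n) F) : Matrix (Fin n) (Fin n) F) * x * (g : Matrix (Fin n) (Fin n) F) *
          (((g⁻¹ : GL (Fin n) F) : Matrix (Fin n) (Fin n) F) * x * (g : Matrix (Fin n) (Fin n) F)) =
          ((g⁻¹ : GL (Fin n) F) : Matrix (Fin n) (Fin n) F) * (x * x) * (g : Matrix (Fin n) (Fin n) F) := by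
        calc _ = ((g⁻¹ : GL (Fin n) F) : Matrix (Fin n) (Fin n) F) * x *
              ((g : Matrix (Fin n) (Fin n) F) * ((g⁻¹ : GL (Fin n) F) : Matrix (Fin n) (Fin n) F)) * x *
              (g : Matrix (Fin n) (Fin n) F) := by simp only [mul_assoc]
          _ = _ := by rw [hgg, mul_one]; simp only [mul_assoc]
      rw [e1, mul_add, mul_sub, add_mul, sub_mul, mul_smul_comm, smul_mul_assoc, mul_smul_comm, smul_mul_assoc,
        mul_one, hgg']
    rw [e, hpoly, mul_zero, zero_mul]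
  -- the common kernel of `D₁`, `D₂`
  let Φ : (Fin n → F) →+ F × F :=
    { toFun := fun v => (Q (k *ᵥ v) - c * Q v, Q (k' *ᵥ v) - c * Q v)
      map_zero' := by simp
      map_add' := by
        intro u v
        rw [e10mfunisim_D_add Q hQ k c hc, e10mfunisim_D_add Q hQ k' c hc']
        rfl }
  let W : Submodule F (Fin n → F) :=
    { carrier := {v | Q (k *ᵥ v) - c * Q v = 0 ∧ Q (k' *ᵥ v) - c * Q v = 0}
      add_mem' := by
        intro u v hu hv
        refine ⟨?_, ?_⟩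
        · rw [e10mfunisim_D_add Q hQ k c hc, hu.1, hv.1, add_zero]
        · rw [e10mfunisim_D_add Q hQ k' c hc', hu.2, hv.2, add_zero]
      zero_mem' := by
        refine ⟨?_, ?_⟩ <;> simp
      smul_mem' := by
        intro a v hv
        refine ⟨?_, ?_⟩
        · rw [e10mfunisim_D_smul, hv.1, mul_zero]
        · rw [e10mfunisim_D_smul, hv.2, mul_zero] }
  have hWmem : ∀ v, v ∈ W ↔ Φ v = 0 := by
    intro v
    constructor
    · intro hv
      exact Prod.ext hv.1 hv.2
    · intro hv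
      exact ⟨congrArg Prod.fst hv, congrArg Prod.snd hv⟩
  have hmove : ∀ g ∈ G, ∀ x : Matrix (Fin n) (Fin n) F, ∀ v : Fin n → F,
      Q (x *ᵥ ((g : Matrix (Fin n) (Fin n) F) *ᵥ v)) =
        Q ((((g⁻¹ : GL (Fin n) F) : Matrix (Fin n) (Fin n) F) * x * (g : Matrix (Fin n) (Fin n) F)) *ᵥ v) := by
    intro g hg x v
    have hiso := (hGO hg) ((((g⁻¹ : GL (Fin n) F) : Matrix (Fin n) (Fin n) F) * x *
      (g : Matrix (Fin n) (Fin n) F)) *ᵥ v) 0
    have e : (g : Matrix (Fin n) (Fin n) F) *ᵥ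
        ((((g⁻¹ : GL (Fin n) F) : Matrix (Fin n) (Fin n) F) * x * (g : Matrix (Fin n) (Fin n) F)) *ᵥ v) =
        x *ᵥ ((g : Matrix (Fin n) (Fin n) F) *ᵥ v) := by
      rw [Matrix.mulVec_mulVec, Matrix.mulVec_mulVec, ← mul_assoc, ← mul_assoc, ← Units.val_mul, mul_inv_cancel,
        Units.val_one, one_mul]
    rw [← e]
    exact hiso
  have hinv : ∀ g ∈ G, ∀ v ∈ W, (g : Matrix (Fin n) (Fin n) F) *ᵥ v ∈ W := by
    intro g hg v hv
    have hQg : Q ((g : Matrix (Fin n) (Fin n) F) *ᵥ v) = Q v := (hGO hg) v 0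
    refine ⟨?_, ?_⟩
    · rw [hmove g hg, hQg]
      rcases hconj g hg k hk hpolyk with h | h <;> rw [h]
      · exact hv.1
      · exact hv.2
    · rw [hmove g hg, hQg]
      rcases hconj g hg k' hk' hpolyk' with h | h <;> rw [h]
      · exact hv.1
      · exact hv.2
  have hcard : Fintype.card (F × F) < Fintype.card F ^ n := by
    rw [Fintype.card_prod, ← pow_two]
    exact Nat.pow_lt_pow_right Fintype.one_lt_card (by omega)
  have htop := hker W hinv Φ hWmem hcard
  intro v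
  have hv : v ∈ W := by rw [htop]; exact Submodule.mem_top
  exact sub_eq_zero.mp hv.1

end Cfsg.Agent.Lib.Helper16.E10M
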