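import Mathlib
import Cfsg.Prelude.Def_GeometricClasses
import Cfsg.Agent.Lib.Helper27.ASC.Defs
import Cfsg.Agent.Lib.helper23.ASCO.Defs
import Cfsg.Agent.Lib.Helper19.ASG.Defs
import Cfsg.Agent.Lib.Helper1.ASGCLIF3
import Cfsg.Agent.Lib.Helper25.ASO.Defs
import Cfsg.Agent.Lib.helper23.ASE.Defs
import Cfsg.Agent.Lib.Helper27.E10P.Defs
import Cfsg.Agent.Lib.Helper25.ASOADJ
import Cfsg.Agent.Lib.Helper11.E10MFSADVD
import Cfsg.Agent.Lib.Helper20.E10MFTWO

set_option autoImplicit false
set_option linter.unusedVariables false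
set_option linter.unusedSectionVars false

/-!
# Project E10P (leader helper27), piece FLD2SA (helper20) : `field2_selfadj_char2` VERBATIM vs `Helper27/E10P/Skel.lean.txt`.
Characteristic 2: every `k ∈ K` is a square `s * s` (`e10pfld2sa_sq_bij`, = helper23's `e10mf5coorde_sq_bij`, copied here so that this
file does not import `helper23.E10MF5COORDE`, whose `efield_coord_even` clashes with `Helper11.E10MF5COORDE`), so by self-adjointness
`f (k v) v = f (s v) (s v) = 0` (`e10pfld2sa_alt`, no group needed); then `Helper11.E10MFSADVD` `efield_sa_dvd`: `2 * 2 ∣ n = 2 m`.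
-/

namespace Cfsg.Agent.Lib.Helper27.E10P

open Cfsg Cfsg.Geo Cfsg.Agent.Lib.Helper27.ASC Cfsg.Agent.Lib.helper23.ASCO Cfsg.Agent.Lib.Helper19.ASG
  Cfsg.Agent.Lib.Helper25.ASO Cfsg.Agent.Lib.helper23.ASE
open scoped MatrixGroups Matrix Kronecker

variable {n : ℕ} {F : Type*} [Field F] [Fintype F]

open scoped IsMulCommutative in
/-- squaring is bijective on a finite field subalgebra in characteristic 2 (copy of helper23's `e10mf5coorde_sq_bij`) -/
theorem e10pfld2sa_sq_bij (h2 : (2 : F) = 0) {r : ℕ} (K : Subalgebra F (Matrix (Fin n) (Fin n) F))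
    (hK : IsFieldSubalgebra r K) : Function.Bijective (fun a : K => a * a) := by
  classical
  haveI : IsMulCommutative K := ⟨⟨fun x y => Subtype.ext (hK.comm x x.2 y y.2)⟩⟩
  have hdbl : ∀ z : K, z + z = 0 := fun z => by rw [← two_smul F z, h2, zero_smul]
  have hinj : Function.Injective (fun a : K => a * a) := by
    intro a b hab
    have hab' : a * a = b * b := hab
    have h0 : (a - b) * (a - b) = 0 := by
      have e : (a - b) * (a - b) = a * a + b * b - (a * b + a * b) := by ring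
      rw [e, hab', hdbl, hdbl, sub_zero]
    by_contra hne
    have hne' : ((a - b : K) : Matrix (Fin n) (Fin n) F) ≠ 0 := by
      intro h0'
      apply hne
      have : a - b = 0 := Subtype.ext h0'
      exact sub_eq_zero.mp this
    obtain ⟨y', hy', hy1⟩ := hK.inv _ (a - b).2 hne'
    apply hne'
    have h0m : ((a - b : K) : Matrix (Fin n) (Fin n) F) * ((a - b : K) : Matrix (Fin n) (Fin n) F) = 0 :=
      congrArg Subtype.val h0
    calc ((a - b : K) : Matrix (Fin n) (Fin n) F)
        = ((a - b : K) : Matrix (Fin n) (Fin n) F) * (((a - b : K) : Matrix (Fin n) (Fin n) F) * y') := by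
          rw [hy1, mul_one]
      _ = 0 := by rw [← mul_assoc, h0m, zero_mul]
  exact ⟨hinj, Finite.injective_iff_surjective.mp hinj⟩

/-- characteristic 2: the polar form alternates along a self-adjoint field subalgebra (any degree, no group) -/
theorem e10pfld2sa_alt (h2 : (2 : F) = 0) (Q : QuadraticForm F (Fin n → F))
    (hQ : (QuadraticMap.polarBilin Q).Nondegenerate) {r : ℕ} (K : Subalgebra F (Matrix (Fin n) (Fin n) F))
    (hK : IsFieldSubalgebra r K) (hsa : IsSelfAdjointFor (QuadraticMap.polar (⇑Q)) K) :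
    ∀ k ∈ K, ∀ v : Fin n → F, QuadraticMap.polar (⇑Q) (k *ᵥ v) v = 0 := by
  intro k hk v
  obtain ⟨s, hs⟩ := (e10pfld2sa_sq_bij h2 K hK).2 ⟨k, hk⟩
  have hs' : (s : Matrix (Fin n) (Fin n) F) * (s : Matrix (Fin n) (Fin n) F) = k := congrArg Subtype.val hs
  rw [← hs', ← Matrix.mulVec_mulVec, hsa (s : Matrix (Fin n) (Fin n) F) s.2]
  rw [QuadraticMap.polar_self, two_smul, ← two_mul, h2, zero_mul]

/-- FLD2SA -/
theorem field2_selfadj_char2 {m : ℕ} (hn : n = 2 * m) (hm : Odd m) (h2 : (2 : F) = 0) (Q : QuadraticForm F (Fin n → F))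
    (hQ : (QuadraticMap.polarBilin Q).Nondegenerate) {H : Subgroup (GL (Fin n) F)} (hH : Irr H)
    (hHO : H ≤ isometryGroup F (⇑Q)) (K : Subalgebra F (Matrix (Fin n) (Fin n) F)) (hK : IsFieldSubalgebra 2 K)
    (hsa : IsSelfAdjointFor (QuadraticMap.polar (⇑Q)) K) (hle : H ≤ subalgebraNormalizer K) : False := by
  have halt := e10pfld2sa_alt h2 Q hQ K hK hsa
  have hdvd := Cfsg.Agent.Lib.Helper16.E10M.efield_sa_dvd Q hQ K hK
    ((Cfsg.Agent.Lib.Helper16.E10M.e10mftwo_sa_iff Q hQ K).mp hsa) halt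
  obtain ⟨c, hc⟩ := hdvd
  obtain ⟨j, hj⟩ := hm
  omega

end Cfsg.Agent.Lib.Helper27.E10P
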