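import Mathlib
import Cfsg.Prelude.Def_GeometricClasses
import Cfsg.Agent.Lib.Helper27.ASC.Defs
import Cfsg.Agent.Lib.helper23.ASCO.Defs
import Cfsg.Agent.Lib.Helper19.ASG.Defs
import Cfsg.Agent.Lib.Helper1.ASGCLIF3
import Cfsg.Agent.Lib.Helper25.ASO.Defs
import Cfsg.Agent.Lib.helper23.ASE.Defs
import Cfsg.Agent.Lib.Helper27.E10P.Defs
import Cfsg.Agent.Lib.Helper25.ASOADJ
import Cfsg.Agent.Lib.Helper20.E10MFUNISIM
import Cfsg.Agent.Lib.Helper20.E10MFTWO

set_option autoImplicit false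
set_option linter.unusedVariables false
set_option linter.unusedSectionVars false

/-!
# Project E10P (leader helper27), piece FLD2U (helper20) : `field2_unitary_sim` VERBATIM vs `Helper27/E10P/Skel.lean.txt`.
Wrapper of `Helper16.E10M.efield_unitary_sim` (E10M FIELD block).  Extra: `e10pfld2u_star`
(`IsAdjointClosedFor (polar Q) K → ∀ k ∈ K, oadj Q k ∈ K`).
-/

namespace Cfsg.Agent.Lib.Helper27.E10P

open Cfsg Cfsg.Geo Cfsg.Agent.Lib.Helper27.ASC Cfsg.Agent.Lib.helper23.ASCO Cfsg.Agent.Lib.Helper19.ASG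
  Cfsg.Agent.Lib.Helper25.ASO Cfsg.Agent.Lib.helper23.ASE
open scoped MatrixGroups Matrix Kronecker

variable {n : ℕ} {F : Type*} [Field F] [Fintype F]

/-- adjoint-closedness in the `oadj` language -/
theorem e10pfld2u_star (Q : QuadraticForm F (Fin n → F)) (hQ : (QuadraticMap.polarBilin Q).Nondegenerate)
    (K : Subalgebra F (Matrix (Fin n) (Fin n) F)) (hadj : IsAdjointClosedFor (QuadraticMap.polar (⇑Q)) K) :
    ∀ k ∈ K, oadj (⇑Q) k ∈ K := by
  intro k hk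
  obtain ⟨k', hk', h⟩ := hadj k hk
  rw [← oadj_unique Q hQ k k' h]
  exact hk'

/-- FLD2U -/
theorem field2_unitary_sim (hn : 3 ≤ n) (Q : QuadraticForm F (Fin n → F))
    (hQ : (QuadraticMap.polarBilin Q).Nondegenerate) {H : Subgroup (GL (Fin n) F)} (hH : Irr H)
    (hHO : H ≤ isometryGroup F (⇑Q)) (K : Subalgebra F (Matrix (Fin n) (Fin n) F)) (hK : IsFieldSubalgebra 2 K)
    (hadj : IsAdjointClosedFor (QuadraticMap.polar (⇑Q)) K)
    (hnsa : ¬ IsSelfAdjointFor (QuadraticMap.polar (⇑Q)) K) (hle : H ≤ subalgebraNormalizer K) :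
    ∀ k ∈ K, ∃ c : F, ∀ v : Fin n → F, Q (k *ᵥ v) = c * Q v :=
  Cfsg.Agent.Lib.Helper16.E10M.efield_unitary_sim hn Q hQ hH hHO K hK (e10pfld2u_star Q hQ K hadj)
    (fun h => hnsa ((Cfsg.Agent.Lib.Helper16.E10M.e10mftwo_sa_iff Q hQ K).mpr h)) hle

end Cfsg.Agent.Lib.Helper27.E10P
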