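import Mathlib
import Cfsg.Prelude.Def_GeometricClasses
import Cfsg.Agent.Lib.Helper27.ASC.Defs
import Cfsg.Agent.Lib.helper23.ASCO.Defs
import Cfsg.Agent.Lib.Helper19.ASG.Defs
import Cfsg.Agent.Lib.Helper1.ASGCLIF3
import Cfsg.Agent.Lib.Helper25.ASO.Defs
import Cfsg.Agent.Lib.helper23.ASE.Defs
import Cfsg.Agent.Lib.Helper27.E10P.Defs
import Cfsg.Agent.Lib.Helper1.ASGCLIF4
import Cfsg.Agent.Lib.Helper25.ASOADJ
import Cfsg.Agent.Lib.Helper20.ASOSTAR
import Cfsg.Agent.Lib.Helper20.E10MFSUB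

set_option autoImplicit false
set_option linter.unusedVariables false
set_option linter.unusedSectionVars false
set_option linter.style.haveILetI false

/-!
# Project E10P (leader helper27), piece FLDADJ (helper20) : `primesub_adjoint_closed` VERBATIM vs `Helper27/E10P/Skel.lean.txt`.
Extras (any degree `r`, no divisibility needed): `e10pfldadj_pow` (`x ∈ K' → x ^ (|F| ^ r) = x`), `e10pfldadj_mem` (a field
subalgebra `K'` of degree `r` inside a field subalgebra `Z` is the set of ALL roots of `X ^ (|F| ^ r) - X` in `Z`),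
`e10pfldadj_closed` (`K' ≤ Z`, `Z` a field subalgebra closed under `oadj` ⟹ `K'` closed under `oadj`).
-/

namespace Cfsg.Agent.Lib.Helper27.E10P

open Cfsg Cfsg.Geo Cfsg.Agent.Lib.Helper27.ASC Cfsg.Agent.Lib.helper23.ASCO Cfsg.Agent.Lib.Helper19.ASG
  Cfsg.Agent.Lib.Helper25.ASO Cfsg.Agent.Lib.helper23.ASE
open scoped MatrixGroups Matrix Kronecker

variable {n : ℕ} {F : Type*} [Field F] [Fintype F]

/-- Fermat in a field subalgebra of degree `r` -/
theorem e10pfldadj_pow {r : ℕ} (K' : Subalgebra F (Matrix (Fin n) (Fin n) F)) (hK' : IsFieldSubalgebra r K')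
    (hr : 0 < r) (x : Matrix (Fin n) (Fin n) F) (hx : x ∈ K') : x ^ (Fintype.card F ^ r) = x := by
  classical
  letI : Field K' := (asgclif_isField K' hK' hr).toField
  haveI : Module.Finite F K' := Module.finite_of_finrank_pos (by rw [hK'.finrank_eq]; exact hr)
  haveI : Finite K' := Module.finite_of_finite F
  haveI : Fintype K' := Fintype.ofFinite K'
  have hcard : Fintype.card K' = Fintype.card F ^ r := by
    rw [Module.card_eq_pow_finrank (K := F) (V := K'), hK'.finrank_eq]
  have h1 : (⟨x, hx⟩ : K') ^ (Fintype.card F ^ r) = ⟨x, hx⟩ := by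
    rw [← hcard]
    exact FiniteField.pow_card _
  have h2 := congrArg (fun y : K' => (y : Matrix (Fin n) (Fin n) F)) h1
  simpa using h2

/-- a field subalgebra of degree `r` inside a field subalgebra `Z` consists of all roots of `X ^ (|F| ^ r) - X` in `Z` -/
theorem e10pfldadj_mem {b r : ℕ} (Z K' : Subalgebra F (Matrix (Fin n) (Fin n) F)) (hZ : IsFieldSubalgebra b Z)
    (hb : 0 < b) (hK' : IsFieldSubalgebra r K') (hr : 0 < r) (hle : K' ≤ Z) (y : Matrix (Fin n) (Fin n) F)
    (hy : y ∈ Z) (hpow : y ^ (Fintype.card F ^ r) = y) : y ∈ K' := by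
  classical
  letI : Field Z := (asgclif_isField Z hZ hb).toField
  haveI : Module.Finite F K' := Module.finite_of_finrank_pos (by rw [hK'.finrank_eq]; exact hr)
  haveI : Finite K' := Module.finite_of_finite F
  haveI : Fintype K' := Fintype.ofFinite K'
  have hcard : Fintype.card K' = Fintype.card F ^ r := by
    rw [Module.card_eq_pow_finrank (K := F) (V := K'), hK'.finrank_eq]
  have hq : 1 < Fintype.card F := Fintype.one_lt_card
  have hr0 : r ≠ 0 := hr.ne'
  let p : Polynomial Z := Polynomial.X ^ (Fintype.card F) ^ r - Polynomial.X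
  have hp0 : p ≠ 0 := FiniteField.X_pow_card_pow_sub_X_ne_zero Z hr0 hq
  have hpdeg : p.natDegree = Fintype.card F ^ r := FiniteField.X_pow_card_pow_sub_X_natDegree_eq Z hr0 hq
  have hisroot : ∀ z : Z, (z : Matrix (Fin n) (Fin n) F) ^ (Fintype.card F ^ r) = z → z ∈ p.roots.toFinset := by
    intro z hz
    rw [Multiset.mem_toFinset, Polynomial.mem_roots hp0]
    show Polynomial.IsRoot (Polynomial.X ^ (Fintype.card F) ^ r - Polynomial.X) z
    rw [Polynomial.IsRoot.def, Polynomial.eval_sub, Polynomial.eval_pow, Polynomial.eval_X, sub_eq_zero]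
    apply Subtype.ext
    rw [← hz]
    rfl
  let ι : K' → Z := fun x => ⟨x, hle x.2⟩
  have hι : Function.Injective ι := by
    intro a c hac
    apply Subtype.ext
    exact congrArg (fun z : Z => (z : Matrix (Fin n) (Fin n) F)) hac
  have hsub : Finset.univ.image ι ⊆ p.roots.toFinset := by
    intro z hz
    obtain ⟨x, -, rfl⟩ := Finset.mem_image.mp hz
    exact hisroot _ (e10pfldadj_pow K' hK' hr x x.2)
  have hcardle : p.roots.toFinset.card ≤ (Finset.univ.image ι).card := by
    rw [Finset.card_image_of_injective _ hι, Finset.card_univ, hcard, ← hpdeg]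
    exact (Multiset.toFinset_card_le _).trans (Polynomial.card_roots' p)
  have heq := Finset.eq_of_subset_of_card_le hsub hcardle
  have hmem : (⟨y, hy⟩ : Z) ∈ Finset.univ.image ι := by
    rw [heq]
    exact hisroot _ hpow
  obtain ⟨x, -, hx⟩ := Finset.mem_image.mp hmem
  have : (x : Matrix (Fin n) (Fin n) F) = y := congrArg (fun z : Z => (z : Matrix (Fin n) (Fin n) F)) hx
  rw [← this]
  exact x.2

/-- a field subalgebra inside an `oadj`-closed field subalgebra is `oadj`-closed -/
theorem e10pfldadj_closed (Q : QuadraticForm F (Fin n → F)) (hQ : (QuadraticMap.polarBilin Q).Nondegenerate)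
    {b r : ℕ} (Z K' : Subalgebra F (Matrix (Fin n) (Fin n) F)) (hZ : IsFieldSubalgebra b Z)
    (hK' : IsFieldSubalgebra r K') (hle : K' ≤ Z) (hstar : ∀ z ∈ Z, oadj (⇑Q) z ∈ Z) :
    ∀ k ∈ K', oadj (⇑Q) k ∈ K' := by
  intro k hk
  rcases Nat.eq_zero_or_pos n with hn0 | hn0
  · subst hn0
    have : oadj (⇑Q) k = k := Subsingleton.elim _ _
    rw [this]
    exact hk
  · haveI : Nonempty (Fin n) := ⟨⟨0, hn0⟩⟩
    have hpos : ∀ {c : ℕ} (L : Subalgebra F (Matrix (Fin n) (Fin n) F)), IsFieldSubalgebra c L → 0 < c := by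
      intro c L hL
      rw [← hL.finrank_eq]
      haveI : Nontrivial L := ⟨⟨0, 1, fun h => zero_ne_one (congrArg (fun z : L => (z : Matrix (Fin n) (Fin n) F)) h)⟩⟩
      exact Module.finrank_pos
    have hr := hpos K' hK'
    have hb := hpos Z hZ
    refine e10pfldadj_mem Z K' hZ hb hK' hr hle _ (hstar k (hle hk)) ?_
    rw [← Cfsg.Agent.Lib.Helper16.E10M.e10mfsub_oadj_pow Q hQ, e10pfldadj_pow K' hK' hr k hk]

/-- FLDADJ -/
theorem primesub_adjoint_closed (Q : QuadraticForm F (Fin n → F)) (hQ : (QuadraticMap.polarBilin Q).Nondegenerate)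
    {G M : Subgroup (GL (Fin n) F)} (hGO : G ≤ isometryGroup F (⇑Q)) (hM : NormalIn M G)
    (hZ : IsFieldSubalgebra (Module.finrank F (asgZ M)) (asgZ M)) {r : ℕ}
    (K' : Subalgebra F (Matrix (Fin n) (Fin n) F)) (hK' : IsFieldSubalgebra r K') (hle : K' ≤ asgZ M) :
    IsAdjointClosedFor (QuadraticMap.polar (⇑Q)) K' := by
  have hstar : ∀ z ∈ asgZ M, oadj (⇑Q) z ∈ asgZ M :=
    fun z hz => star_mem_Z Q hQ (hM.1.trans hGO) z hz
  have hcl := e10pfldadj_closed Q hQ (asgZ M) K' hZ hK' hle hstar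
  exact fun k hk => ⟨oadj (⇑Q) k, hcl k hk, fun u v => oadj_spec Q hQ k u v⟩

end Cfsg.Agent.Lib.Helper27.E10P
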