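import Mathlib
import Cfsg.Agent.S0022
import Cfsg.Agent.S0026
import Cfsg.Agent.S0029
import Cfsg.Agent.Lib.Helper1.Frat
import Cfsg.Agent.Lib.Helper1.FPF.Main2
import Cfsg.Agent.Lib.Helper1.FrobPQ.Props
import Cfsg.Agent.Lib.Helper11.NilpCoprime

set_option autoImplicit false
set_option linter.unusedSectionVars false

/-!
Common part of the bridges P7 (`GoodF.tower`) and P8 (`GoodF.tower2`) of helper1's S4305 plan:
from the ambient configuration `GoodF p q A F G` to the module form on `M = V / Φ(V)`.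
-/

namespace Cfsg.Agent.Lib.Helper20.FrobBridge

open Cfsg.Agent.Lib.Helper1.FrobPQ Cfsg.Agent.Lib.Helper1.Ward
open scoped commutatorElement

universe u

section Lift

variable {Γ : Type*} [Group Γ] [Finite Γ] {H : Type*} [Group H]

/-- Coprime lifting of fixed points through an arbitrary homomorphism. -/
theorem hom_lift_fixed (Ψ : Γ →* H) {B K : Subgroup Γ}
    (hBK : B ≤ Subgroup.normalizer (K : Set Γ)) (hcop : (Nat.card B).Coprime (Nat.card K))
    (hsolv : Group.IsSolvable B ∨ Group.IsSolvable K) {k : Γ} (hk : k ∈ K)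
    (hcomm : ∀ b ∈ B, Ψ b * Ψ k = Ψ k * Ψ b) :
    ∃ c ∈ K, (∀ b ∈ B, b * c = c * b) ∧ Ψ c = Ψ k := by
  have hkn : ∀ E : Subgroup Γ, E ≤ Subgroup.normalizer ((Ψ.ker : Subgroup Γ) : Set Γ) := by
    intro E
    rw [Subgroup.normalizer_eq_top]
    exact le_top
  have h22 := Cfsg.Agent.S0022.result B K hBK hcop hsolv (K ⊓ Ψ.ker) inf_le_left
    (normalizer_inf Subgroup.le_normalizer (hkn K)) (normalizer_inf hBK (hkn B)) k hk
    (by
      intro a ha
      refine Subgroup.mem_inf.mpr ⟨mul_mem (nmem (hBK ha) hk) (inv_mem hk), ?_⟩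
      rw [MonoidHom.mem_ker, map_mul, map_mul, map_mul, map_inv, map_inv, hcomm a ha]
      group)
  obtain ⟨c, hc, hkc⟩ := h22
  refine ⟨c, hc.1, fun b hb => Subgroup.mem_centralizer_iff.mp hc.2 b hb, ?_⟩
  have h1 := MonoidHom.mem_ker.mp hkc.2
  rw [map_mul, map_inv, inv_mul_eq_one] at h1
  exact h1.symm

theorem map_norm' (f : Γ →* H) {E K : Subgroup Γ}
    (h : E ≤ Subgroup.normalizer (K : Set Γ)) :
    E.map f ≤ Subgroup.normalizer ((K.map f : Subgroup H) : Set H) :=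
  (Subgroup.map_mono h).trans (Subgroup.le_normalizer_map f)

theorem card_map_inj_on (f : Γ →* H) (A : Subgroup Γ)
    (h : ∀ a ∈ A, f a = 1 → a = 1) : Nat.card (A.map f) = Nat.card A := by
  have hsurj : Function.Surjective (f.subgroupMap A) := f.subgroupMap_surjective A
  have hinj : Function.Injective (f.subgroupMap A) := by
    rw [injective_iff_map_eq_one]
    intro a ha
    have h1 : f (a : Γ) = 1 := congrArg Subtype.val ha
    exact Subtype.ext (h a.1 a.2 h1)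
  exact (Nat.card_congr (Equiv.ofBijective _ ⟨hinj, hsurj⟩)).symm

end Lift

/-- The data produced by P7a `exists_quot_module`, bundled. -/
structure QMod {Γ : Type*} [Group Γ] (V V₀ : Subgroup Γ) (M : Type*) [CommGroup M]
    (Ψ : Γ →* MulAut M) (π : ↥V →* M) : Prop where
  surj : Function.Surjective π
  ker : ∀ v : ↥V, π v = 1 ↔ (v : Γ) ∈ V₀
  act : ∀ (g : Γ) (v : ↥V) (h : g * (v : Γ) * g⁻¹ ∈ V), Ψ g (π v) = π ⟨g * v * g⁻¹, h⟩

namespace QMod

variable {Γ : Type*} [Group Γ] {V V₀ : Subgroup Γ} {M : Type*} [CommGroup M]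
  {Ψ : Γ →* MulAut M} {π : ↥V →* M}

theorem of_normal (hV : V.Normal) (h1 : Function.Surjective π)
    (h2 : ∀ v : ↥V, π v = 1 ↔ (v : Γ) ∈ V₀)
    (h3 : ∀ (g : Γ) (v : ↥V), Ψ g (π v) = π ⟨g * v * g⁻¹, hV.conj_mem v v.2 g⟩) :
    QMod V V₀ M Ψ π :=
  ⟨h1, h2, fun g v _ => h3 g v⟩

theorem comm_mem_iff (Q : QMod V V₀ M Ψ π) (hV : V.Normal) (g : Γ) (v : ↥V) :
    Ψ g (π v) = π v ↔ g * (v : Γ) * g⁻¹ * (v : Γ)⁻¹ ∈ V₀ := by
  rw [Q.act g v (hV.conj_mem v v.2 g)]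
  have h1 := Q.ker (⟨g * v * g⁻¹, hV.conj_mem v v.2 g⟩ * v⁻¹)
  rw [map_mul, map_inv, mul_inv_eq_one] at h1
  exact h1

theorem comm_mem (Q : QMod V V₀ M Ψ π) (hV : V.Normal) {g : Γ} (hg : Ψ g = 1) {v : Γ}
    (hv : v ∈ V) : g * v * g⁻¹ * v⁻¹ ∈ V₀ := by
  have := (Q.comm_mem_iff hV g ⟨v, hv⟩).mp (by rw [hg]; rfl)
  exact this

theorem le_centralizer [Finite Γ] (Q : QMod V ((frattini ↥V).map V.subtype) M Ψ π)
    (hVn : V.Normal) {ℓ : ℕ} (hℓ : ℓ.Prime) (hV : IsPGroup ℓ V) {K : Subgroup Γ}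
    (hcop : (Nat.card K).Coprime ℓ) (h : ∀ k ∈ K, Ψ k = 1) :
    K ≤ Subgroup.centralizer (V : Set Γ) := by
  have := Fact.mk hℓ
  apply Cfsg.Agent.S0029.result K V
  · rw [Subgroup.normalizer_eq_top]; exact le_top
  · obtain ⟨n, hn⟩ := (IsPGroup.iff_card).mp hV
    have h2 : Nat.card ↥(frattini ↥V) ∣ ℓ ^ n := by
      rw [← hn]; exact Subgroup.card_subgroup_dvd_card _
    exact Nat.Coprime.coprime_dvd_right h2 (Nat.Coprime.pow_right n hcop)
  · intro a ha k hk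
    exact Q.comm_mem hVn (h a ha) hk

theorem expM [Finite Γ] (Q : QMod V ((frattini ↥V).map V.subtype) M Ψ π)
    {ℓ : ℕ} (hℓ : ℓ.Prime) (hV : IsPGroup ℓ V) : ∀ m : M, m ^ ℓ = 1 := by
  have := Fact.mk hℓ
  intro m
  obtain ⟨v, rfl⟩ := Q.surj m
  rw [← map_pow, Q.ker]
  exact ⟨v ^ ℓ, Cfsg.Agent.Lib.Helper1.pgroup_pow_mem_frattini hV v, rfl⟩

end QMod


section Good

variable {Γ : Type u} [Group Γ] [Finite Γ] {p q : ℕ} {A F G : Subgroup Γ}

theorem norm_top (hG : GoodF p q A F G) (E : Subgroup Γ) :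
    E ≤ Subgroup.normalizer (G : Set Γ) := by
  have := hG.normal
  rw [Subgroup.normalizer_eq_top]
  exact le_top

theorem cop_sub (hG : GoodF p q A F G) {K : Subgroup Γ} (hKG : K ≤ G) :
    (Nat.card K).Coprime (p * q) :=
  Nat.Coprime.coprime_dvd_left (Subgroup.card_dvd_of_le hKG) hG.cop

theorem copA (hG : GoodF p q A F G) {B K : Subgroup Γ} (hBA : B ≤ A) (hKG : K ≤ G) :
    (Nat.card B).Coprime (Nat.card K) := by
  have h1 : Nat.card B ∣ p * q := hG.frob.card ▸ Subgroup.card_dvd_of_le hBA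
  exact (Nat.Coprime.coprime_dvd_right h1 (cop_sub hG hKG)).symm

theorem solv_sub (hG : GoodF p q A F G) {K : Subgroup Γ} (hKG : K ≤ G) :
    Group.IsSolvable K := by
  have := hG.solv
  exact Group.isSolvable_of_isSolvable_injective (Subgroup.inclusion_injective hKG)

theorem eq_one_of_pow (hG : GoodF p q A F G) {s : ℕ} (hs : s = p ∨ s = q) {y : Γ} (hy : y ∈ G)
    {i : ℕ} (hi : y ^ (s ^ i) = 1) : y = 1 := by
  have h1 : orderOf y ∣ s ^ i := orderOf_dvd_of_pow_eq_one hi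
  have h2 : orderOf y ∣ Nat.card G := by
    have := orderOf_dvd_natCard (⟨y, hy⟩ : ↥G)
    rwa [Subgroup.orderOf_mk] at this
  have h3 : (Nat.card G).Coprime (s ^ i) := by
    apply Nat.Coprime.pow_right
    rcases hs with rfl | rfl
    · exact Nat.Coprime.coprime_dvd_right (Dvd.intro _ rfl) hG.cop
    · exact Nat.Coprime.coprime_dvd_right (Dvd.intro_left _ rfl) hG.cop
  have h4 := Nat.dvd_gcd h2 h1
  rw [h3] at h4
  exact orderOf_eq_one_iff.mp (Nat.dvd_one.mp h4)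

/-- A `p`- or `q`-subgroup of `G` is trivial. -/
theorem pgroup_bot (hG : GoodF p q A F G) {s : ℕ} (hs : s = p ∨ s = q) {S : Subgroup Γ}
    (hSG : S ≤ G) (hS : IsPGroup s S) : S = ⊥ := by
  rw [eq_bot_iff]
  intro y hy
  rw [Subgroup.mem_bot]
  obtain ⟨i, hi⟩ := hS ⟨y, hy⟩
  exact eq_one_of_pow hG hs (hSG hy) (congrArg Subtype.val hi)

theorem fpf_of_F_of_x (hG : GoodF p q A F G) {x : Γ} (hx : x ∈ A) (hxF : x ∉ F) {c : Γ}
    (hc : c ∈ G) (hcF : ∀ f ∈ F, f * c = c * f) (hcx : x * c = c * x) : c = 1 := by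
  apply hG.fpf c hc
  intro g hg
  have hsup := hG.frob.sup_zpowers_eq hx hxF
  have h5 : F ⊔ Subgroup.zpowers x ≤ Subgroup.centralizer ({c} : Set Γ) := by
    apply sup_le
    · intro f hf
      rw [Subgroup.mem_centralizer_singleton_iff]
      exact hcF f hf
    · rw [Subgroup.zpowers_le, Subgroup.mem_centralizer_singleton_iff]; exact hcx
  rw [hsup] at h5
  exact Subgroup.mem_centralizer_singleton_iff.mp (h5 hg)

/-- Thompson: `C_G(F)` is nilpotent. -/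
theorem centF_nilpotent (hG : GoodF p q A F G) :
    Group.IsNilpotent ↥(G ⊓ Subgroup.centralizer (F : Set Γ)) := by
  obtain ⟨x, hx, hxF⟩ := hG.frob.exists_out
  have hAC : A ≤ Subgroup.normalizer
      ((G ⊓ Subgroup.centralizer (F : Set Γ) : Subgroup Γ) : Set Γ) :=
    normalizer_inf (norm_top hG A) (normalizer_centralizer hG.frob.AF)
  obtain ⟨φ, hφ⟩ : ∃ φ : MulAut ↥(G ⊓ Subgroup.centralizer (F : Set Γ)),
      φ = (G ⊓ Subgroup.centralizer (F : Set Γ)).normalizerMonoidHom ⟨x, hAC hx⟩ := ⟨_, rfl⟩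
  have happ : ∀ c : ↥(G ⊓ Subgroup.centralizer (F : Set Γ)),
      ((φ c : ↥(G ⊓ Subgroup.centralizer (F : Set Γ))) : Γ) = x * (c : Γ) * x⁻¹ := by
    intro c; rw [hφ]; rfl
  have hfree : MonoidHom.FixedPointFree ((φ : ↥(G ⊓ Subgroup.centralizer (F : Set Γ)) ≃* _) :
      ↥(G ⊓ Subgroup.centralizer (F : Set Γ)) →* _) := by
    intro c hc
    have h1 : x * (c : Γ) * x⁻¹ = (c : Γ) := by
      rw [← happ]; exact congrArg Subtype.val hc
    have h2 : x * (c : Γ) = (c : Γ) * x := by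
      calc x * (c : Γ) = x * (c : Γ) * x⁻¹ * x := by group
        _ = (c : Γ) * x := by rw [h1]
    have h3 : ∀ f ∈ F, f * (c : Γ) = (c : Γ) * f := fun f hf =>
      Subgroup.mem_centralizer_iff.mp c.2.2 f hf
    exact Subtype.ext (fpf_of_F_of_x hG hx hxF c.2.1 h3 h2)
  have hpow : φ ^ q = 1 := by
    rw [hφ, ← map_pow]
    have : (⟨x, hAC hx⟩ : ↥(Subgroup.normalizer
        ((G ⊓ Subgroup.centralizer (F : Set Γ) : Subgroup Γ) : Set Γ))) ^ q = 1 := by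
      apply Subtype.ext
      simp [hG.frob.pow_q_eq_one hx hxF]
    rw [this, map_one]
  exact Cfsg.Agent.Lib.Helper1.FPF.fpf_nilpotent φ hfree hG.frob.hq hpow

theorem commute_of_centF (hG : GoodF p q A F G) {x y : Γ} (hx : x ∈ G) (hy : y ∈ G)
    (hxF : ∀ f ∈ F, f * x = x * f) (hyF : ∀ f ∈ F, f * y = y * f)
    (hcop : (orderOf x).Coprime (orderOf y)) : x * y = y * x := by
  have hnil := centF_nilpotent hG
  have hxC : x ∈ G ⊓ Subgroup.centralizer (F : Set Γ) :=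
    ⟨hx, Subgroup.mem_centralizer_iff.mpr hxF⟩
  have hyC : y ∈ G ⊓ Subgroup.centralizer (F : Set Γ) :=
    ⟨hy, Subgroup.mem_centralizer_iff.mpr hyF⟩
  have h1 : Commute (⟨x, hxC⟩ : ↥(G ⊓ Subgroup.centralizer (F : Set Γ))) ⟨y, hyC⟩ := by
    apply Cfsg.Agent.Lib.Helper11.commute_of_coprime_orderOf
    rw [Subgroup.orderOf_mk, Subgroup.orderOf_mk]
    exact hcop
  exact congrArg Subtype.val h1.eq

theorem orderOf_coprime_of_pgroups' {S R : Subgroup Γ} {s r : ℕ} (hs : s.Prime) (hr : r.Prime)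
    (hsr : s ≠ r) (hS : IsPGroup s S) (hR : IsPGroup r R) {x y : Γ} (hx : x ∈ S) (hy : y ∈ R) :
    (orderOf x).Coprime (orderOf y) := by
  obtain ⟨i, hi⟩ := hS ⟨x, hx⟩
  obtain ⟨j, hj⟩ := hR ⟨y, hy⟩
  have hi' : x ^ (s ^ i) = 1 := congrArg Subtype.val hi
  have hj' : y ^ (r ^ j) = 1 := congrArg Subtype.val hj
  have h1 : orderOf x ∣ s ^ i := orderOf_dvd_of_pow_eq_one hi'
  have h2 : orderOf y ∣ r ^ j := orderOf_dvd_of_pow_eq_one hj'
  exact Nat.Coprime.coprime_dvd_left h1 (Nat.Coprime.coprime_dvd_right h2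
    (Nat.Coprime.pow i j ((Nat.coprime_primes hs hr).mpr hsr)))


/-- Case 1: if `F` centralizes the normal `ℓ`-subgroup `V ≤ G`, then so does every `F`-invariant
`s`-subgroup of `G`, `s ≠ ℓ`. -/
theorem case1 (hG : GoodF p q A F G) {ℓ : ℕ} (hℓ : ℓ.Prime) {V : Subgroup Γ} (hVn : V.Normal)
    (hVG : V ≤ G) (hV : IsPGroup ℓ V) (hFV : F ≤ Subgroup.centralizer (V : Set Γ))
    {s : ℕ} (hs : s.Prime) (hsℓ : s ≠ ℓ) {S : Subgroup Γ} (hSG : S ≤ G) (hS : IsPGroup s S)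
    (hFS : F ≤ Subgroup.normalizer (S : Set Γ)) :
    S ≤ Subgroup.centralizer (V : Set Γ) := by
  have h26 := Cfsg.Agent.S0026.result F S hFS (copA hG hG.frob.FA hSG)
    (Or.inr (solv_sub hG hSG))
  rw [← h26]
  apply sup_le
  · -- three subgroups lemma
    have hVF : ⁅F, V⁆ = ⊥ := Subgroup.commutator_eq_bot_iff_le_centralizer.mpr hFV
    have h1 : ⁅⁅F, V⁆, S⁆ = ⊥ := by rw [hVF, Subgroup.commutator_bot_left]
    have h2 : ⁅⁅V, S⁆, F⁆ = ⊥ := by
      rw [eq_bot_iff]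
      have h3 : ⁅V, S⁆ ≤ V := Subgroup.commutator_le_left V S
      have h4 : ⁅V, F⁆ = ⊥ := by rw [Subgroup.commutator_comm]; exact hVF
      rw [← h4]
      exact Subgroup.commutator_mono h3 (le_refl F)
    have h5 : ⁅⁅S, F⁆, V⁆ = ⊥ := Subgroup.commutator_commutator_eq_bot_of_rotate h1 h2
    exact Subgroup.commutator_eq_bot_iff_le_centralizer.mp h5
  · intro y hy
    rw [Subgroup.mem_centralizer_iff]
    intro v hv
    have hyF : ∀ f ∈ F, f * y = y * f := fun f hf => Subgroup.mem_centralizer_iff.mp hy.2 f hf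
    have hvF : ∀ f ∈ F, f * v = v * f := fun f hf =>
      (Subgroup.mem_centralizer_iff.mp (hFV hf) v hv).symm
    exact commute_of_centF hG (hVG hv) (hSG hy.1) hvF hyF
      (orderOf_coprime_of_pgroups' hℓ hs (Ne.symm hsℓ) hV hS hv hy.1)

/-- Case 2: if `Ψ` is not trivial on `F` then it is injective on `A` and the image is again a
Frobenius group of the same shape. -/
theorem frob_map (hA : FrobA p q A F) {H : Type*} [Group H] [Finite H] (Ψ : Γ →* H)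
    (hF : ∃ f ∈ F, Ψ f ≠ 1) :
    (∀ a ∈ A, Ψ a = 1 → a = 1) ∧ FrobA p q (A.map Ψ) (F.map Ψ) := by
  have hkn : ∀ E : Subgroup Γ, E ≤ Subgroup.normalizer ((Ψ.ker : Subgroup Γ) : Set Γ) := by
    intro E
    rw [Subgroup.normalizer_eq_top]
    exact le_top
  have hN : A ⊓ Ψ.ker = ⊥ := by
    apply hA.normal_sub_bot inf_le_left (normalizer_inf Subgroup.le_normalizer (hkn A))
    intro hle
    obtain ⟨f, hf, hf1⟩ := hF
    exact hf1 (MonoidHom.mem_ker.mp (hle hf).2)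
  have hinj : ∀ a ∈ A, Ψ a = 1 → a = 1 := by
    intro a ha h1
    have : a ∈ A ⊓ Ψ.ker := ⟨ha, MonoidHom.mem_ker.mpr h1⟩
    rw [hN] at this
    exact Subgroup.mem_bot.mp this
  refine ⟨hinj, ?_⟩
  refine { hp := hA.hp, hq := hA.hq, card := ?_, nonab := ?_, FA := Subgroup.map_mono hA.FA,
           cardF := ?_, AF := map_norm' Ψ hA.AF }
  · rw [card_map_inj_on Ψ A hinj, hA.card]
  · intro hcomm
    apply hA.nonab
    intro a ha b hb
    have h1 := hcomm _ (Subgroup.mem_map_of_mem Ψ ha) _ (Subgroup.mem_map_of_mem Ψ hb)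
    have h2 : Ψ (a * b * (b * a)⁻¹) = 1 := by
      rw [map_mul, map_inv, map_mul, map_mul, h1, mul_inv_cancel]
    have h3 := hinj _ (mul_mem (mul_mem ha hb) (inv_mem (mul_mem hb ha))) h2
    exact mul_inv_eq_one.mp h3
  · rw [card_map_inj_on Ψ F (fun a ha => hinj a (hA.FA ha)), hA.cardF]

/-- `A` has no fixed points on `M = V / V₀`. -/
theorem fpfM (hG : GoodF p q A F G) {V V₀ : Subgroup Γ} {M : Type*} [CommGroup M]
    {Ψ : Γ →* MulAut M} {π : ↥V →* M} (Q : QMod V V₀ M Ψ π) (hVn : V.Normal) (hV₀n : V₀.Normal)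
    (hV₀V : V₀ ≤ V) (hVG : V ≤ G) :
    ∀ m : M, (∀ a ∈ A.map Ψ, a m = m) → m = 1 := by
  intro m hm
  obtain ⟨v, rfl⟩ := Q.surj m
  have hnV : ∀ E : Subgroup Γ, E ≤ Subgroup.normalizer (V : Set Γ) := by
    intro E; rw [Subgroup.normalizer_eq_top]; exact le_top
  have hnV₀ : ∀ E : Subgroup Γ, E ≤ Subgroup.normalizer (V₀ : Set Γ) := by
    intro E; rw [Subgroup.normalizer_eq_top]; exact le_top
  have h22 := Cfsg.Agent.S0022.result A V (hnV A) (copA hG (le_refl A) hVG)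
    (Or.inr (solv_sub hG hVG)) V₀ hV₀V (hnV₀ V) (hnV₀ A) v v.2
    (by
      intro a ha
      exact (Q.comm_mem_iff hVn a v).mp (hm _ (Subgroup.mem_map_of_mem Ψ ha)))
  obtain ⟨c, hc, hvc⟩ := h22
  have hc1 : c = 1 := hG.fpf c (hVG hc.1)
    (fun a ha => Subgroup.mem_centralizer_iff.mp hc.2 a ha)
  rw [hc1, mul_one] at hvc
  rw [Q.ker]
  have := inv_mem hvc
  rwa [inv_inv] at this

/-- `A.map Ψ` has no fixed points on `S.map Ψ` for every `A`-invariant `S ≤ G`. -/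
theorem fpf_map (hG : GoodF p q A F G) {H : Type*} [Group H] (Ψ : Γ →* H) {S : Subgroup Γ}
    (hSG : S ≤ G) (hAS : A ≤ Subgroup.normalizer (S : Set Γ)) :
    ∀ y ∈ S.map Ψ, (∀ a ∈ A.map Ψ, a * y = y * a) → y = 1 := by
  rintro _ ⟨y, hy, rfl⟩ hfix
  obtain ⟨c, hc, hcA, hce⟩ := hom_lift_fixed Ψ hAS (copA hG (le_refl A) hSG)
    (Or.inr (solv_sub hG hSG)) hy (fun b hb => hfix _ (Subgroup.mem_map_of_mem Ψ hb))
  rw [← hce, hG.fpf c (hSG hc) hcA, map_one]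

/-- The images of the centralizers of `F` in an `s`- and an `r`-subgroup of `G` commute. -/
theorem nil_map (hG : GoodF p q A F G) {H : Type*} [Group H] (Ψ : Γ →* H) {s r : ℕ}
    (hs : s.Prime) (hr : r.Prime) (hsr : s ≠ r) {S R : Subgroup Γ} (hSG : S ≤ G) (hRG : R ≤ G)
    (hS : IsPGroup s S) (hR : IsPGroup r R) (hFS : F ≤ Subgroup.normalizer (S : Set Γ))
    (hFR : F ≤ Subgroup.normalizer (R : Set Γ)) :
    ∀ y ∈ S.map Ψ, (∀ f ∈ F.map Ψ, f * y = y * f) → ∀ x ∈ R.map Ψ,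
      (∀ f ∈ F.map Ψ, f * x = x * f) → y * x = x * y := by
  rintro _ ⟨y, hy, rfl⟩ hyf _ ⟨x, hx, rfl⟩ hxf
  obtain ⟨cy, hcy, hcyF, hcye⟩ := hom_lift_fixed Ψ hFS (copA hG hG.frob.FA hSG)
    (Or.inr (solv_sub hG hSG)) hy (fun b hb => hyf _ (Subgroup.mem_map_of_mem Ψ hb))
  obtain ⟨cx, hcx, hcxF, hcxe⟩ := hom_lift_fixed Ψ hFR (copA hG hG.frob.FA hRG)
    (Or.inr (solv_sub hG hRG)) hx (fun b hb => hxf _ (Subgroup.mem_map_of_mem Ψ hb))
  have h1 := commute_of_centF hG (hSG hcy) (hRG hcx) hcyF hcxF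
    (orderOf_coprime_of_pgroups' hs hr hsr hS hR hcy hcx)
  rw [← hcye, ← hcxe, ← map_mul, ← map_mul, h1]

end Good

end Cfsg.Agent.Lib.Helper20.FrobBridge
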