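import Mathlib
import Cfsg.Agent.S0026
import Cfsg.Agent.Lib.Helper11.FrobFourTerm2
import Cfsg.Agent.Lib.Helper1.Ward.StabMod
import Cfsg.Agent.Lib.Helper1.FrobPQ.PQ

set_option autoImplicit false
set_option linter.unusedSectionVars false

/-!
Steps (a), (b), (c) of helper1's "Theorem X" (S4306, `ExcOneProp`): the count
`|Q : Z(Q)| = (|C_Q(x)| / |C_{Z(Q)}(x)|) ^ q` and `|C_Q(x) : C_{Z(Q)}(x)| ≥ 4` for non-abelian `Q`.
-/

namespace Cfsg.Agent.Lib.Helper20.FrobExcCount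

open Cfsg.Agent.Lib.Helper1.Ward Cfsg.Agent.Lib.Helper1.FrobPQ
open scoped commutatorElement

universe u

section Sgn

variable {W : Type u} [CommGroup W]

/-- `c` is the identity or the inversion of `W` -/
def IsSgn (c : MulAut W) : Prop := c = 1 ∨ ∀ w : W, c w = w⁻¹

theorem IsSgn.comm {c : MulAut W} (h : IsSgn c) (a : MulAut W) : a * c = c * a := by
  rcases h with rfl | h
  · simp
  · ext w
    simp only [MulAut.mul_apply]
    rw [h, h, map_inv]

theorem IsSgn.conj {c : MulAut W} (h : IsSgn c) (a : MulAut W) : a * c * a⁻¹ = c := by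
  rw [h.comm a, mul_assoc, mul_inv_cancel, mul_one]

variable {Q : Subgroup (MulAut W)}

theorem comm_mul_right (hcomm : ∀ y ∈ Q, ∀ z ∈ Q, IsSgn (y * z * y⁻¹ * z⁻¹)) {y z z' : MulAut W}
    (hy : y ∈ Q) (hz' : z' ∈ Q) :
    y * (z * z') * y⁻¹ * (z * z')⁻¹ = (y * z * y⁻¹ * z⁻¹) * (y * z' * y⁻¹ * z'⁻¹) := by
  have e : y * (z * z') * y⁻¹ * (z * z')⁻¹ =
      (y * z * y⁻¹ * z⁻¹) * (z * (y * z' * y⁻¹ * z'⁻¹) * z⁻¹) := by group
  rw [e, (hcomm y hy z' hz').conj z]

/-- an element of `Q` commuting with `D` commutes with `⁅Q, D⁆` -/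
theorem commute_commutator (hcomm : ∀ y ∈ Q, ∀ z ∈ Q, IsSgn (y * z * y⁻¹ * z⁻¹))
    {D : Subgroup (MulAut W)} (hD : D ≤ Subgroup.normalizer (Q : Set (MulAut W)))
    {y : MulAut W} (hy : y ∈ Q) (hyD : ∀ d ∈ D, d * y = y * d) :
    ∀ z ∈ ⁅Q, D⁆, y * z = z * y := by
  have hle : ⁅Q, D⁆ ≤ Subgroup.centralizer ({y} : Set (MulAut W)) := by
    rw [Subgroup.commutator_le]
    intro u hu d hd
    rw [Subgroup.mem_centralizer_singleton_iff, commutatorElement_def]
    have hu' : d * u⁻¹ * d⁻¹ ∈ Q := nmem (hD hd) (inv_mem hu)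
    have hyd : y * d = d * y := (hyD d hd).symm
    have hyd' : d⁻¹ * y⁻¹ = y⁻¹ * d⁻¹ := by rw [← mul_inv_rev, ← mul_inv_rev, hyd]
    have h1 : y * (d * u⁻¹ * d⁻¹) * y⁻¹ * (d * u⁻¹ * d⁻¹)⁻¹ = y * u⁻¹ * y⁻¹ * u⁻¹⁻¹ := by
      have e1 : y * (d * u⁻¹ * d⁻¹) * y⁻¹ * (d * u⁻¹ * d⁻¹)⁻¹ =
          (y * d) * u⁻¹ * (d⁻¹ * y⁻¹) * (d * u * d⁻¹) := by group
      have e2 : (d * y) * u⁻¹ * (y⁻¹ * d⁻¹) * (d * u * d⁻¹) =
          d * (y * u⁻¹ * y⁻¹ * u⁻¹⁻¹) * d⁻¹ := by group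
      rw [e1, hyd, hyd', e2, (hcomm y hy _ (inv_mem hu)).conj d]
    have h2 : y * (u * (d * u⁻¹ * d⁻¹)) * y⁻¹ * (u * (d * u⁻¹ * d⁻¹))⁻¹ = 1 := by
      rw [comm_mul_right hcomm hy hu', h1, ← comm_mul_right hcomm hy (inv_mem hu)]
      group
    have h3 : u * d * u⁻¹ * d⁻¹ = u * (d * u⁻¹ * d⁻¹) := by group
    rw [h3]
    have h4 : y * (u * (d * u⁻¹ * d⁻¹)) * y⁻¹ = u * (d * u⁻¹ * d⁻¹) := by
      have := mul_inv_eq_one.mp h2
      exact this
    calc u * (d * u⁻¹ * d⁻¹) * y = (y * (u * (d * u⁻¹ * d⁻¹)) * y⁻¹) * y := by rw [h4]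
      _ = y * (u * (d * u⁻¹ * d⁻¹)) := by group
  intro z hz
  exact (Subgroup.mem_centralizer_singleton_iff.mp (hle hz)).symm

end Sgn

section Main

variable {W : Type u} [CommGroup W] [Finite W] {q r : ℕ} {Q B : Subgroup (MulAut W)}
  {x : MulAut W}

theorem centralizer_zpowers_eq (x : MulAut W) :
    Subgroup.centralizer ((Subgroup.zpowers x : Subgroup (MulAut W)) : Set (MulAut W)) =
      Subgroup.centralizer ({x} : Set (MulAut W)) := by
  ext g
  rw [Subgroup.mem_centralizer_iff, Subgroup.mem_centralizer_singleton_iff]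
  constructor
  · intro h
    exact (h x (Subgroup.mem_zpowers x)).symm
  · rintro h _ ⟨k, rfl⟩
    exact ((show Commute x g from h.symm).zpow_left k).eq

/-- (a): `C_Q(B) ≤ Z(Q)` -/
theorem cent_B_le (hBQ : B ≤ Subgroup.normalizer (Q : Set (MulAut W)))
    (hcomm : ∀ y ∈ Q, ∀ z ∈ Q, y * z * y⁻¹ * z⁻¹ = 1 ∨ ∀ w : W, (y * z * y⁻¹ * z⁻¹) w = w⁻¹)
    (hQB : ⁅Q, B⁆ = Q) :
    ∀ y ∈ Q, (∀ b ∈ B, b * y = y * b) → ∀ z ∈ Q, y * z = z * y := by
  intro y hy hyB z hz
  rw [← hQB] at hz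
  exact commute_commutator hcomm hBQ hy hyB z hz

theorem pgroup_coprime_card {Γ : Type*} [Group Γ] [Finite Γ] {H K : Subgroup Γ} {s t : ℕ}
    (hs : s.Prime) (ht : t.Prime) (hst : s ≠ t) (hH : IsPGroup s H) (hK : IsPGroup t K) :
    (Nat.card H).Coprime (Nat.card K) := by
  have := Fact.mk hs
  have := Fact.mk ht
  obtain ⟨n, hn⟩ := (IsPGroup.iff_card).mp hH
  obtain ⟨m, hm⟩ := (IsPGroup.iff_card).mp hK
  rw [hn, hm]
  exact Nat.Coprime.pow n m ((Nat.coprime_primes hs ht).mpr hst)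

/-- (b): the count -/
theorem count (hq : q.Prime) (hr : r.Prime) (hq2 : q ≠ 2) (hr2 : r ≠ 2)
    (hQ : IsPGroup 2 Q) (hB : IsPGroup r B) (hxq : x ^ q = 1)
    (hxQ : x ∈ Subgroup.normalizer (Q : Set (MulAut W)))
    (hxB : x ∈ Subgroup.normalizer (B : Set (MulAut W)))
    (hBQ : B ≤ Subgroup.normalizer (Q : Set (MulAut W)))
    (hfpfW : ∀ w : W, x w = w → w = 1) (hfpfB : ∀ b ∈ B, x * b = b * x → b = 1)
    (hcomm : ∀ y ∈ Q, ∀ z ∈ Q, y * z * y⁻¹ * z⁻¹ = 1 ∨ ∀ w : W, (y * z * y⁻¹ * z⁻¹) w = w⁻¹)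
    (hQB : ⁅Q, B⁆ = Q) :
    Nat.card ↥Q * Nat.card ↥((Q ⊓ Subgroup.centralizer (Q : Set (MulAut W))) ⊓
        Subgroup.centralizer ({x} : Set (MulAut W))) ^ q =
      Nat.card ↥(Q ⊓ Subgroup.centralizer (Q : Set (MulAut W))) *
        Nat.card ↥(Q ⊓ Subgroup.centralizer ({x} : Set (MulAut W))) ^ q := by
  by_cases hx1 : x = 1
  · -- degenerate: `W` is trivial
    have hW : Subsingleton W := by
      constructor
      intro a b
      rw [hfpfW a (by rw [hx1]; rfl), hfpfW b (by rw [hx1]; rfl)]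
    have hA : Subsingleton (MulAut W) := by
      constructor
      intro a b
      ext w
      exact Subsingleton.elim _ _
    have h1 : ∀ H : Subgroup (MulAut W), Nat.card H = 1 := by
      intro H
      exact Nat.card_unique
    rw [h1, h1, h1, h1]
  have hf2 := Fact.mk Nat.prime_two
  have hfr := Fact.mk hr
  have hfq := Fact.mk hq
  obtain ⟨E, hE⟩ : ∃ E : Subgroup (MulAut W), E = Subgroup.zpowers x := ⟨_, rfl⟩
  obtain ⟨Z, hZ⟩ : ∃ Z : Subgroup (MulAut W),
      Z = Q ⊓ Subgroup.centralizer (Q : Set (MulAut W)) := ⟨_, rfl⟩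
  have hcardE : Nat.card E = q := by
    rw [hE, Nat.card_zpowers]
    exact orderOf_eq_prime hxq hx1
  have hEQ : E ≤ Subgroup.normalizer (Q : Set (MulAut W)) := by
    rw [hE, Subgroup.zpowers_le]; exact hxQ
  have hEB : E ≤ Subgroup.normalizer (B : Set (MulAut W)) := by
    rw [hE, Subgroup.zpowers_le]; exact hxB
  have hBZ : B ≤ Subgroup.normalizer (Z : Set (MulAut W)) := by
    rw [hZ]; exact normalizer_inf hBQ (normalizer_centralizer hBQ)
  have hEZ : E ≤ Subgroup.normalizer (Z : Set (MulAut W)) := by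
    rw [hZ]; exact normalizer_inf hEQ (normalizer_centralizer hEQ)
  have hfpf : ∀ e ∈ E, e ≠ 1 → B ⊓ Subgroup.centralizer ({e} : Set (MulAut W)) = ⊥ := by
    intro e he he1
    rw [eq_bot_iff]
    intro b hb
    rw [Subgroup.mem_bot]
    apply hfpfB b hb.1
    have hb2 : b ∈ Subgroup.centralizer ({e} : Set (MulAut W)) := hb.2
    have hbe : e * b = b * e := (Subgroup.mem_centralizer_singleton_iff.mp hb2).symm
    -- `x` is a power of `e`
    have hxe : x ∈ Subgroup.zpowers e := by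
      have he' : e ∈ Subgroup.zpowers x := by rw [← hE]; exact he
      have hcard : Nat.card (Subgroup.zpowers x) = q := by rw [← hE]; exact hcardE
      have hprime : (Nat.card (Subgroup.zpowers x)).Prime := by rw [hcard]; exact hq
      have h1 : Subgroup.zpowers e ≤ Subgroup.zpowers x := by
        rw [Subgroup.zpowers_le]; exact he'
      have h2 : Subgroup.zpowers e = ⊥ ∨ Subgroup.zpowers e = Subgroup.zpowers x := by
        have hdvd : Nat.card (Subgroup.zpowers e) ∣ q := by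
          rw [← hcard]; exact Subgroup.card_dvd_of_le h1
        rcases (Nat.dvd_prime hq).mp hdvd with h | h
        · left; exact Subgroup.card_eq_one.mp h
        · right
          apply Subgroup.eq_of_le_of_card_ge h1
          rw [h, hcard]
      rcases h2 with h | h
      · exfalso; apply he1
        have := Subgroup.mem_zpowers e
        rw [h, Subgroup.mem_bot] at this
        exact this
      · rw [h]; exact Subgroup.mem_zpowers x
    obtain ⟨k, rfl⟩ := hxe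
    exact ((show Commute e b from hbe).zpow_left k).eq
  have hcopQB : ∀ H : Subgroup (MulAut W), H ≤ Q → (Nat.card H).Coprime (Nat.card B) :=
    fun H hH => pgroup_coprime_card Nat.prime_two hr (Ne.symm hr2) (hQ.to_le hH) hB
  have hcopQE : ∀ H : Subgroup (MulAut W), H ≤ Q → (Nat.card H).Coprime (Nat.card E) := by
    intro H hH
    obtain ⟨n, hn⟩ := (IsPGroup.iff_card).mp (hQ.to_le hH)
    rw [hn, hcardE]
    exact Nat.Coprime.pow_left n ((Nat.coprime_primes Nat.prime_two hq).mpr (Ne.symm hq2))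
  have hsolv : ∀ H : Subgroup (MulAut W), H ≤ Q → Group.IsSolvable H := by
    intro H hH
    have h2 : Group.IsNilpotent H := (hQ.to_le hH).isNilpotent
    infer_instance
  have hZQ : Z ≤ Q := by rw [hZ]; exact inf_le_left
  have hBnil : Group.IsNilpotent B := hB.isNilpotent
  have key1 := Cfsg.Agent.Lib.Helper11.FrobFourTerm2.four_term_conc Q B E hBQ hEQ hEB hBnil hfpf
    (hsolv Q le_rfl) (hcopQB Q le_rfl) (hcopQE Q le_rfl)
  have key2 := Cfsg.Agent.Lib.Helper11.FrobFourTerm2.four_term_conc Z B E hBZ hEZ hEB hBnil hfpf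
    (hsolv Z hZQ) (hcopQB Z hZQ) (hcopQE Z hZQ)
  -- `C_Q(B) ≤ Z`
  have hCB : Q ⊓ Subgroup.centralizer (B : Set (MulAut W)) ≤ Z := by
    intro y hy
    rw [hZ]
    refine ⟨hy.1, ?_⟩
    show y ∈ Subgroup.centralizer (Q : Set (MulAut W))
    rw [Subgroup.mem_centralizer_iff]
    intro z hz
    have hy2 : y ∈ Subgroup.centralizer (B : Set (MulAut W)) := hy.2
    exact (cent_B_le hBQ hcomm hQB y hy.1
      (fun b hb => Subgroup.mem_centralizer_iff.mp hy2 b hb) z hz).symm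
  have e1 : Q ⊓ Subgroup.centralizer (B : Set (MulAut W)) =
      Z ⊓ Subgroup.centralizer (B : Set (MulAut W)) :=
    le_antisymm (le_inf hCB inf_le_right) (inf_le_inf_right _ hZQ)
  have e2 : Q ⊓ Subgroup.centralizer ((B ⊔ E : Subgroup (MulAut W)) : Set (MulAut W)) =
      Z ⊓ Subgroup.centralizer ((B ⊔ E : Subgroup (MulAut W)) : Set (MulAut W)) := by
    apply le_antisymm _ (inf_le_inf_right _ hZQ)
    refine le_inf ?_ inf_le_right
    refine le_trans ?_ hCB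
    exact inf_le_inf_left _ (Subgroup.centralizer_le (SetLike.coe_subset_coe.mpr le_sup_left))
  have e3 : Subgroup.centralizer ((E : Subgroup (MulAut W)) : Set (MulAut W)) =
      Subgroup.centralizer ({x} : Set (MulAut W)) := by
    rw [hE]; exact centralizer_zpowers_eq x
  rw [e1, e2, e3, hcardE] at key1
  rw [e3, hcardE] at key2
  rw [← hZ]
  -- arithmetic
  obtain ⟨a, ha⟩ : ∃ a : ℕ, a = Nat.card ↥(Z ⊓ Subgroup.centralizer
      ((B ⊔ E : Subgroup (MulAut W)) : Set (MulAut W))) := ⟨_, rfl⟩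
  obtain ⟨β, hβ⟩ : ∃ β : ℕ, β = Nat.card ↥(Z ⊓ Subgroup.centralizer (B : Set (MulAut W))) :=
    ⟨_, rfl⟩
  rw [← ha, ← hβ] at key1 key2
  have ha0 : 0 < a := by rw [ha]; exact Nat.card_pos
  have hβ0 : 0 < β := by rw [hβ]; exact Nat.card_pos
  have hpos : 0 < a ^ q * β := Nat.mul_pos (pow_pos ha0 q) hβ0
  apply Nat.eq_of_mul_eq_mul_left hpos
  calc a ^ q * β * (Nat.card ↥Q * Nat.card ↥(Z ⊓ Subgroup.centralizer ({x} : Set (MulAut W))) ^ q)
      = (a ^ q * Nat.card ↥Q) *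
          (Nat.card ↥(Z ⊓ Subgroup.centralizer ({x} : Set (MulAut W))) ^ q * β) := by ring
    _ = (Nat.card ↥(Q ⊓ Subgroup.centralizer ({x} : Set (MulAut W))) ^ q * β) *
          (a ^ q * Nat.card ↥Z) := by rw [key1, key2]
    _ = a ^ q * β * (Nat.card ↥Z *
          Nat.card ↥(Q ⊓ Subgroup.centralizer ({x} : Set (MulAut W))) ^ q) := by ring

/-- (c): for non-abelian `Q`, `|C_Q(x) : C_{Z(Q)}(x)| ≥ 4` -/
theorem four_le (hq : q.Prime) (hr : r.Prime) (hq2 : q ≠ 2) (hr2 : r ≠ 2)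
    (hQ : IsPGroup 2 Q) (hB : IsPGroup r B) (hxq : x ^ q = 1)
    (hxQ : x ∈ Subgroup.normalizer (Q : Set (MulAut W)))
    (hxB : x ∈ Subgroup.normalizer (B : Set (MulAut W)))
    (hBQ : B ≤ Subgroup.normalizer (Q : Set (MulAut W)))
    (hfpfW : ∀ w : W, x w = w → w = 1) (hfpfB : ∀ b ∈ B, x * b = b * x → b = 1)
    (hcomm : ∀ y ∈ Q, ∀ z ∈ Q, y * z * y⁻¹ * z⁻¹ = 1 ∨ ∀ w : W, (y * z * y⁻¹ * z⁻¹) w = w⁻¹)
    (hQB : ⁅Q, B⁆ = Q) (hna : ∃ y ∈ Q, ∃ z ∈ Q, y * z ≠ z * y) :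
    4 * Nat.card ↥((Q ⊓ Subgroup.centralizer (Q : Set (MulAut W))) ⊓
        Subgroup.centralizer ({x} : Set (MulAut W))) ≤
      Nat.card ↥(Q ⊓ Subgroup.centralizer ({x} : Set (MulAut W))) := by
  have hcount := count hq hr hq2 hr2 hQ hB hxq hxQ hxB hBQ hfpfW hfpfB hcomm hQB
  have hf2 := Fact.mk Nat.prime_two
  obtain ⟨Z, hZ⟩ : ∃ Z : Subgroup (MulAut W),
      Z = Q ⊓ Subgroup.centralizer (Q : Set (MulAut W)) := ⟨_, rfl⟩
  obtain ⟨C, hC⟩ : ∃ C : Subgroup (MulAut W),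
      C = Subgroup.centralizer ({x} : Set (MulAut W)) := ⟨_, rfl⟩
  rw [← hZ, ← hC] at hcount ⊢
  have hZQ : Z ≤ Q := by rw [hZ]; exact inf_le_left
  have hZcen : ∀ z ∈ Z, ∀ y ∈ Q, y * z = z * y := by
    intro z hz y hy
    rw [hZ] at hz
    have hz2 : z ∈ Subgroup.centralizer (Q : Set (MulAut W)) := hz.2
    exact Subgroup.mem_centralizer_iff.mp hz2 y hy
  have hle : Z ⊓ C ≤ Q ⊓ C := inf_le_inf_right _ hZQ
  by_contra hlt
  push Not at hlt
  have hrel := card_mul_relIndex' hle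
  have hrel4 : (Z ⊓ C).relIndex (Q ⊓ C) < 4 := by
    have hpos : 0 < Nat.card ↥(Z ⊓ C) := Nat.card_pos
    rw [← hrel, mul_comm] at hlt
    exact Nat.lt_of_mul_lt_mul_right hlt
  obtain ⟨a, ha⟩ := (IsPGroup.iff_card).mp (hQ.to_le (inf_le_left : Q ⊓ C ≤ Q))
  have hdvd : (Z ⊓ C).relIndex (Q ⊓ C) ∣ 2 ^ a := by
    rw [← ha]; exact Subgroup.relIndex_dvd_card _ _
  obtain ⟨k, -, hk⟩ := (Nat.dvd_prime_pow Nat.prime_two).mp hdvd
  have hk1 : k ≤ 1 := by
    by_contra h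
    push Not at h
    have : 2 ^ 2 ≤ 2 ^ k := Nat.pow_le_pow_right (by norm_num) h
    rw [hk] at hrel4
    omega
  obtain ⟨y₀, hy₀, z₀, hz₀, hyz₀⟩ := hna
  rcases Nat.le_one_iff_eq_zero_or_eq_one.mp hk1 with hk0 | hk1'
  · -- index one: `Q = Z`
    rw [hk0, pow_zero] at hk
    rw [hk, mul_one] at hrel
    rw [hrel] at hcount
    have hpos : 0 < Nat.card ↥(Q ⊓ C) ^ q := pow_pos Nat.card_pos q
    have h1 : Nat.card ↥Q = Nat.card ↥Z := Nat.eq_of_mul_eq_mul_right hpos hcount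
    have h2 : Z = Q := Subgroup.eq_of_le_of_card_ge hZQ (le_of_eq h1)
    apply hyz₀
    rw [← h2] at hz₀
    exact hZcen z₀ hz₀ y₀ hy₀
  · -- index two
    rw [hk1', pow_one] at hk
    have hidx : ((Z ⊓ C).subgroupOf (Q ⊓ C)).index = 2 := hk
    -- an element `u` of `C_Q(x)` outside `Z`
    have hex : ∃ u ∈ Q ⊓ C, u ∉ Z ⊓ C := by
      by_contra h
      push Not at h
      have h3 : Q ⊓ C = Z ⊓ C := le_antisymm h hle
      have h4 : (Z ⊓ C).relIndex (Q ⊓ C) = 1 := by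
        rw [h3]; exact Subgroup.relIndex_self _
      rw [hk] at h4
      omega
    obtain ⟨u, hu, huZ⟩ := hex
    have huQ : u ∈ Q := hu.1
    have huC : u ∈ C := hu.2
    have hux : u * x = x * u := by
      rw [hC] at huC
      exact Subgroup.mem_centralizer_singleton_iff.mp huC
    -- `u` commutes with `C_Q(x)`
    have h1 : ∀ g ∈ Q ⊓ C, u * g = g * u := by
      intro g hg
      by_cases hgZ : g ∈ Z ⊓ C
      · exact hZcen g hgZ.1 u huQ
      · have h5 := Subgroup.mul_mem_iff_of_index_two hidx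
          (a := (⟨u, hu⟩ : ↥(Q ⊓ C))⁻¹) (b := (⟨g, hg⟩ : ↥(Q ⊓ C)))
        have h6 : (⟨u, hu⟩ : ↥(Q ⊓ C))⁻¹ * ⟨g, hg⟩ ∈ (Z ⊓ C).subgroupOf (Q ⊓ C) := by
          rw [h5]
          constructor
          · intro h7
            exfalso
            apply huZ
            have := inv_mem h7
            rw [inv_inv] at this
            exact Subgroup.mem_subgroupOf.mp this
          · intro h7
            exfalso
            exact hgZ (Subgroup.mem_subgroupOf.mp h7)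
        have h8 : u⁻¹ * g ∈ Z ⊓ C := Subgroup.mem_subgroupOf.mp h6
        have h9 := hZcen _ h8.1 u huQ
        calc u * g = u * (u * (u⁻¹ * g)) := by group
          _ = u * ((u⁻¹ * g) * u) := by rw [h9]
          _ = g * u := by group
    -- `u` commutes with `⁅Q, ⟨x⟩⁆`
    have hEQ : Subgroup.zpowers x ≤ Subgroup.normalizer (Q : Set (MulAut W)) := by
      rw [Subgroup.zpowers_le]; exact hxQ
    have h2 : ∀ z ∈ ⁅Q, Subgroup.zpowers x⁆, u * z = z * u := by
      apply commute_commutator hcomm hEQ huQ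
      rintro _ ⟨k, rfl⟩
      exact ((show Commute x u from hux.symm).zpow_left k).eq
    have hcardE : Nat.card (Subgroup.zpowers x) ∣ q := by
      rw [Nat.card_zpowers]
      exact orderOf_dvd_of_pow_eq_one hxq
    have hcop : (Nat.card (Subgroup.zpowers x)).Coprime (Nat.card Q) := by
      obtain ⟨n, hn⟩ := (IsPGroup.iff_card).mp hQ
      rw [hn]
      apply Nat.Coprime.coprime_dvd_left hcardE
      exact Nat.Coprime.pow_right n ((Nat.coprime_primes hq Nat.prime_two).mpr hq2)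
    have hsolv : Group.IsSolvable Q := by
      have h2 : Group.IsNilpotent Q := hQ.isNilpotent
      infer_instance
    have h26 := Cfsg.Agent.S0026.result (Subgroup.zpowers x) Q hEQ hcop (Or.inr hsolv)
    rw [centralizer_zpowers_eq, ← hC] at h26
    have h3 : Q ≤ Subgroup.centralizer ({u} : Set (MulAut W)) := by
      rw [← h26]
      apply sup_le
      · intro z hz
        rw [Subgroup.mem_centralizer_singleton_iff]
        exact (h2 z hz).symm
      · intro g hg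
        rw [Subgroup.mem_centralizer_singleton_iff]
        exact (h1 g hg).symm
    apply huZ
    refine ⟨?_, huC⟩
    rw [hZ]
    refine ⟨huQ, ?_⟩
    show u ∈ Subgroup.centralizer (Q : Set (MulAut W))
    rw [Subgroup.mem_centralizer_iff]
    intro g hg
    exact Subgroup.mem_centralizer_singleton_iff.mp (h3 hg)

end Main

end Cfsg.Agent.Lib.Helper20.FrobExcCount
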