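import Mathlib
import Cfsg.Agent.Lib.Helper20.HHExtK

set_option autoImplicit false
set_option linter.unusedSectionVars false

/-!
Steps (e)-(f) of helper1's "Theorem X" (S4306): an element `y` of a `2`-group `Q` of
automorphisms of an elementary abelian `ℓ`-group `W`, not centralized by `x` (of prime order `q`,
fixed point free on `W`, normalizing `Q`), cannot commute with all its `x`-conjugates.
-/

namespace Cfsg.Agent.Lib.Helper20.FrobExcEF

universe u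

section Closure

variable {Γ : Type*} [Group Γ]

theorem closure_conj_mem {T : Set Γ} {a : Γ} (h : ∀ g ∈ T, a * g * a⁻¹ ∈ Subgroup.closure T) :
    ∀ u ∈ Subgroup.closure T, a * u * a⁻¹ ∈ Subgroup.closure T := by
  intro u hu
  induction hu using Subgroup.closure_induction with
  | mem g hg => exact h g hg
  | one => simp
  | mul u v _ _ hu hv =>
    have e : a * (u * v) * a⁻¹ = (a * u * a⁻¹) * (a * v * a⁻¹) := by group
    rw [e]; exact mul_mem hu hv
  | inv u _ hu =>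
    have e : a * u⁻¹ * a⁻¹ = (a * u * a⁻¹)⁻¹ := by group
    rw [e]; exact inv_mem hu

theorem closure_comm {T : Set Γ} (h : ∀ g ∈ T, ∀ g' ∈ T, g * g' = g' * g) :
    ∀ a ∈ Subgroup.closure T, ∀ b ∈ Subgroup.closure T, a * b = b * a := by
  have h1 : ∀ a ∈ Subgroup.closure T, ∀ g ∈ T, g * a = a * g := by
    intro a ha g hg
    induction ha using Subgroup.closure_induction with
    | mem g' hg' => exact h g hg g' hg'
    | one => simp
    | mul u v _ _ hu hv => rw [← mul_assoc, hu, mul_assoc, hv, mul_assoc]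
    | inv u _ hu =>
      have e : g * u⁻¹ = u⁻¹ * (u * g) * u⁻¹ := by group
      rw [e, ← hu]; group
  intro a ha b hb
  induction hb using Subgroup.closure_induction with
  | mem g hg => exact (h1 a ha g hg).symm
  | one => simp
  | mul u v _ _ hu hv => rw [← mul_assoc, hu, mul_assoc, hv, mul_assoc]
  | inv u _ hu =>
    have e : a * u⁻¹ = u⁻¹ * (u * a) * u⁻¹ := by group
    rw [e, ← hu]; group

end Closure

theorem orbit_abelian_contra {W : Type u} [CommGroup W] [Finite W] {ℓ q : ℕ} (hℓ : ℓ.Prime)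
    (hq : q.Prime) (hℓ2 : ℓ ≠ 2) (hq2 : q ≠ 2) (hℓq : ℓ ≠ q) (hexp : ∀ w : W, w ^ ℓ = 1)
    {Q : Subgroup (MulAut W)} {x : MulAut W} (hQ : IsPGroup 2 Q) (hxq : x ^ q = 1)
    (hxQ : x ∈ Subgroup.normalizer (Q : Set (MulAut W)))
    (hfpf : ∀ w : W, x w = w → w = 1)
    {y : MulAut W} (hy : y ∈ Q) (hxy : x * y ≠ y * x)
    (hcomm : ∀ j : ℕ, y * (x ^ j * y * (x ^ j)⁻¹) = (x ^ j * y * (x ^ j)⁻¹) * y) : False := by
  obtain ⟨T, hT⟩ : ∃ T : Set (MulAut W), T = {g | ∃ j : ℕ, g = x ^ j * y * (x ^ j)⁻¹} := ⟨_, rfl⟩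
  have hTmem : ∀ j : ℕ, x ^ j * y * (x ^ j)⁻¹ ∈ T := by
    intro j; rw [hT]; exact ⟨j, rfl⟩
  have hyT : y ∈ T := by
    have := hTmem 0
    simpa using this
  -- the generators commute
  have hadd : ∀ i k : ℕ, x ^ (i + k) * y * (x ^ (i + k))⁻¹ =
      x ^ i * (x ^ k * y * (x ^ k)⁻¹) * (x ^ i)⁻¹ := by
    intro i k; rw [pow_add]; group
  have hgen1 : ∀ i k : ℕ, (x ^ i * y * (x ^ i)⁻¹) * (x ^ (i + k) * y * (x ^ (i + k))⁻¹) =
      (x ^ (i + k) * y * (x ^ (i + k))⁻¹) * (x ^ i * y * (x ^ i)⁻¹) := by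
    intro i k
    rw [hadd]
    calc x ^ i * y * (x ^ i)⁻¹ * (x ^ i * (x ^ k * y * (x ^ k)⁻¹) * (x ^ i)⁻¹)
        = x ^ i * (y * (x ^ k * y * (x ^ k)⁻¹)) * (x ^ i)⁻¹ := by group
      _ = x ^ i * ((x ^ k * y * (x ^ k)⁻¹) * y) * (x ^ i)⁻¹ := by rw [hcomm k]
      _ = x ^ i * (x ^ k * y * (x ^ k)⁻¹) * (x ^ i)⁻¹ * (x ^ i * y * (x ^ i)⁻¹) := by group
  have hgen : ∀ g ∈ T, ∀ g' ∈ T, g * g' = g' * g := by
    rw [hT]
    rintro _ ⟨i, rfl⟩ _ ⟨j, rfl⟩
    rcases le_total i j with hij | hij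
    · obtain ⟨k, rfl⟩ := Nat.exists_eq_add_of_le hij
      exact hgen1 i k
    · obtain ⟨k, rfl⟩ := Nat.exists_eq_add_of_le hij
      exact (hgen1 j k).symm
  have hab := closure_comm hgen
  -- invariance
  have hxinv : x⁻¹ = x ^ (q - 1) := by
    have h1 : x ^ (q - 1) * x = 1 := by
      rw [← pow_succ, Nat.sub_add_cancel hq.one_le, hxq]
    exact (eq_inv_of_mul_eq_one_left h1).symm
  have hx1 : ∀ g ∈ T, x * g * x⁻¹ ∈ Subgroup.closure T := by
    intro g hg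
    rw [hT] at hg
    obtain ⟨j, rfl⟩ := hg
    apply Subgroup.subset_closure
    have e : x * (x ^ j * y * (x ^ j)⁻¹) * x⁻¹ = x ^ (1 + j) * y * (x ^ (1 + j))⁻¹ := by
      rw [hadd, pow_one]
    rw [e]
    exact hTmem _
  have hx2 : ∀ g ∈ T, x⁻¹ * g * x⁻¹⁻¹ ∈ Subgroup.closure T := by
    intro g hg
    rw [hT] at hg
    obtain ⟨j, rfl⟩ := hg
    apply Subgroup.subset_closure
    have e : x⁻¹ * (x ^ j * y * (x ^ j)⁻¹) * x⁻¹⁻¹ =
        x ^ (q - 1 + j) * y * (x ^ (q - 1 + j))⁻¹ := by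
      rw [hadd, ← hxinv]
    rw [e]
    exact hTmem _
  have hxU : x ∈ Subgroup.normalizer ((Subgroup.closure T : Subgroup (MulAut W)) :
      Set (MulAut W)) := by
    rw [Subgroup.mem_normalizer_iff]
    intro u
    refine ⟨fun hu => closure_conj_mem hx1 u hu, fun hu => ?_⟩
    have := closure_conj_mem hx2 _ hu
    have e : x⁻¹ * (x * u * x⁻¹) * x⁻¹⁻¹ = u := by group
    rwa [e] at this
  have hUQ : Subgroup.closure T ≤ Q := by
    rw [Subgroup.closure_le, hT]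
    rintro _ ⟨j, rfl⟩
    have hxj : x ^ j ∈ Subgroup.normalizer (Q : Set (MulAut W)) := pow_mem hxQ j
    exact (Subgroup.mem_normalizer_iff.mp hxj y).mp hy
  obtain ⟨v, hv1, hv⟩ := Cfsg.Agent.Lib.Helper20.HHExt.exists_fixed_aut hℓ Nat.prime_two hq hℓ2 hℓq
    (Ne.symm hq2) hexp (MonoidHom.id (MulAut W)) x (Subgroup.closure T) hxq (hQ.to_le hUQ) hxU
    ⟨y, Subgroup.subset_closure hyT, hxy⟩ (fun d _ hd => hd) (fun _ _ a ha b hb => hab a ha b hb)
  exact hv1 (hfpf v hv)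

end Cfsg.Agent.Lib.Helper20.FrobExcEF
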