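import Mathlib
import Cfsg.Agent.Lib.Helper1.FrobQ.Props

set_option autoImplicit false
set_option linter.unusedSectionVars false

/-!
Step (d)-(e) of helper1's "Theorem X" (S4306) in abstract form: a finite group `G` whose
commutators are central involutions with at most one non-trivial value, with an automorphism `φ`
of odd prime order `q` such that `|G : Z(G)| = t ^ q`, `t = |C_G(φ) : C_{Z(G)}(φ)| ≥ 4`,
contains an element not fixed by `φ` commuting with all its `φ`-conjugates (Chevalley-Warning).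
-/

namespace Cfsg.Agent.Lib.Helper20.FrobExcQuot

open Cfsg.Agent.Lib.Helper1.FrobQ

universe u

section Norm

variable {Y : Type*} [CommGroup Y]

/-- the norm map `a ↦ ∏_{i<q} σ^i a` -/
def normHom (σ : MulAut Y) (q : ℕ) : Y →* Y where
  toFun a := ∏ i ∈ Finset.range q, (σ ^ i) a
  map_one' := by simp
  map_mul' a b := by simp [Finset.prod_mul_distrib]

theorem normHom_apply (σ : MulAut Y) (q : ℕ) (a : Y) :
    normHom σ q a = ∏ i ∈ Finset.range q, (σ ^ i) a := rfl

theorem sigma_normHom (σ : MulAut Y) (q : ℕ) (hσ : σ ^ q = 1) (a : Y) :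
    σ (normHom σ q a) = normHom σ q a := by
  rw [normHom_apply, map_prod]
  have h1 : ∀ i : ℕ, σ ((σ ^ i) a) = (σ ^ (i + 1)) a := by
    intro i; rw [pow_succ', MulAut.mul_apply]
  simp_rw [h1]
  have h2 := Finset.prod_range_succ (fun i => (σ ^ i) a) q
  have h3 := Finset.prod_range_succ' (fun i => (σ ^ i) a) q
  rw [h2] at h3
  simp only [hσ, pow_zero] at h3
  exact (mul_right_cancel h3).symm

theorem normHom_sigma (σ : MulAut Y) (q : ℕ) (a : Y) :
    normHom σ q (σ a) = σ (normHom σ q a) := by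
  rw [normHom_apply, normHom_apply, map_prod]
  apply Finset.prod_congr rfl
  intro i _
  rw [← MulAut.mul_apply, ← MulAut.mul_apply, ← pow_succ, ← pow_succ']

theorem normHom_fixed (σ : MulAut Y) (q : ℕ) {a : Y} (h : σ a = a) : normHom σ q a = a ^ q := by
  rw [normHom_apply]
  have h1 : ∀ i : ℕ, (σ ^ i) a = a := by
    intro i
    induction i with
    | zero => simp
    | succ i ih => rw [pow_succ, MulAut.mul_apply, h, ih]
  simp_rw [h1]
  simp

end Norm

section Form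

variable {G : Type u} [Group G]

/-- the commutation form of `G` with values in `ZMod 2` -/
noncomputable def b0 (y z : G) : ZMod 2 := by
  classical
  exact if y * z = z * y then 0 else 1

theorem b0_eq_zero_iff {y z : G} : b0 y z = 0 ↔ y * z = z * y := by
  classical
  unfold b0
  by_cases h : y * z = z * y
  · simp [h]
  · simp [h]

theorem b0_eq_one_iff {y z : G} : b0 y z = 1 ↔ y * z ≠ z * y := by
  classical
  unfold b0
  by_cases h : y * z = z * y
  · simp [h]
  · simp [h]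

theorem b0_symm (y z : G) : b0 y z = b0 z y := by
  classical
  unfold b0
  by_cases h : y * z = z * y
  · rw [if_pos h, if_pos h.symm]
  · rw [if_neg h, if_neg (fun h' => h h'.symm)]

theorem b0_self (y : G) : b0 y y = 0 := b0_eq_zero_iff.mpr rfl

theorem comm_eq_one_iff {y z : G} : y * z * y⁻¹ * z⁻¹ = 1 ↔ y * z = z * y := by
  constructor
  · intro h
    calc y * z = (y * z * y⁻¹ * z⁻¹) * (z * y) := by group
      _ = z * y := by rw [h, one_mul]
  · intro h
    rw [h]; group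

variable (h1 : ∀ y z : G, y * z * y⁻¹ * z⁻¹ ∈ Subgroup.center G)
  (h2 : ∀ y z : G, (y * z * y⁻¹ * z⁻¹) * (y * z * y⁻¹ * z⁻¹) = 1)
  (h3 : ∀ y z y' z' : G, y * z * y⁻¹ * z⁻¹ = 1 ∨ y' * z' * y'⁻¹ * z'⁻¹ = 1 ∨
    y * z * y⁻¹ * z⁻¹ = y' * z' * y'⁻¹ * z'⁻¹)

include h1 h2 h3 in
theorem b0_mul_left (y y' z : G) : b0 (y * y') z = b0 y z + b0 y' z := by
  by_cases hy : y * z = z * y
  · by_cases hy' : y' * z = z * y'
    · have h : (y * y') * z = z * (y * y') := by
        rw [mul_assoc, hy', ← mul_assoc, hy, mul_assoc]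
      rw [b0_eq_zero_iff.mpr hy, b0_eq_zero_iff.mpr hy', b0_eq_zero_iff.mpr h, add_zero]
    · have h : (y * y') * z ≠ z * (y * y') := by
        intro h
        apply hy'
        have e : y' * z = y⁻¹ * ((y * y') * z) := by group
        rw [e, h]
        have e2 : y⁻¹ * (z * (y * y')) = y⁻¹ * (z * y) * y' := by group
        rw [e2, ← hy]; group
      rw [b0_eq_zero_iff.mpr hy, b0_eq_one_iff.mpr hy', b0_eq_one_iff.mpr h, zero_add]
  · by_cases hy' : y' * z = z * y'
    · have h : (y * y') * z ≠ z * (y * y') := by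
        intro h
        apply hy
        have e : y * z = ((y * y') * z) * (z⁻¹ * y'⁻¹ * z) := by group
        rw [e, h]
        have e2 : z * (y * y') * (z⁻¹ * y'⁻¹ * z) = z * y * (y' * z⁻¹ * y'⁻¹ * z) := by group
        rw [e2]
        have e3 : y' * z⁻¹ * y'⁻¹ * z = 1 := by
          have : y' * z⁻¹ = z⁻¹ * y' := by
            calc y' * z⁻¹ = z⁻¹ * (z * y') * z⁻¹ := by group
              _ = z⁻¹ * (y' * z) * z⁻¹ := by rw [hy']
              _ = z⁻¹ * y' := by group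
          rw [this]; group
        rw [e3, mul_one]
      rw [b0_eq_one_iff.mpr hy, b0_eq_zero_iff.mpr hy', b0_eq_one_iff.mpr h, add_zero]
    · -- neither commutes: the two commutators coincide
      have hc : y * z * y⁻¹ * z⁻¹ ≠ 1 := fun h => hy (comm_eq_one_iff.mp h)
      have hc' : y' * z * y'⁻¹ * z⁻¹ ≠ 1 := fun h => hy' (comm_eq_one_iff.mp h)
      have heq : y * z * y⁻¹ * z⁻¹ = y' * z * y'⁻¹ * z⁻¹ := by
        rcases h3 y z y' z with h | h | h
        · exact absurd h hc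
        · exact absurd h hc'
        · exact h
      obtain ⟨c', hc'def⟩ : ∃ c' : G, c' = y' * z * y'⁻¹ * z⁻¹ := ⟨_, rfl⟩
      have hcen : ∀ g : G, g * c' = c' * g := by
        rw [hc'def]; exact Subgroup.mem_center_iff.mp (h1 y' z)
      have hsq : c' * c' = 1 := by rw [hc'def]; exact h2 y' z
      have e1 : y' * z = c' * (z * y') := by rw [hc'def]; group
      have e2 : y * z = c' * (z * y) := by rw [hc'def, ← heq]; group
      have h : (y * y') * z = z * (y * y') := by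
        calc (y * y') * z = y * (y' * z) := mul_assoc _ _ _
          _ = y * (c' * (z * y')) := by rw [e1]
          _ = (y * c') * (z * y') := by group
          _ = (c' * y) * (z * y') := by rw [hcen y]
          _ = c' * (y * z) * y' := by group
          _ = c' * (c' * (z * y)) * y' := by rw [e2]
          _ = (c' * c') * (z * y) * y' := by group
          _ = z * (y * y') := by rw [hsq]; group
      rw [b0_eq_one_iff.mpr hy, b0_eq_one_iff.mpr hy', b0_eq_zero_iff.mpr h]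
      decide

include h1 h2 h3 in
theorem b0_mul_right (y z z' : G) : b0 y (z * z') = b0 y z + b0 y z' := by
  rw [b0_symm, b0_mul_left h1 h2 h3, b0_symm z y, b0_symm z' y]

theorem b0_center {ζ : G} (hζ : ζ ∈ Subgroup.center G) (z : G) : b0 ζ z = 0 :=
  b0_eq_zero_iff.mpr (Subgroup.mem_center_iff.mp hζ z).symm

include h1 h2 h3 in
theorem b0_mul_center_left {ζ : G} (hζ : ζ ∈ Subgroup.center G) (y z : G) :
    b0 (y * ζ) z = b0 y z := by
  rw [b0_mul_left h1 h2 h3, b0_center hζ, add_zero]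

include h1 h2 h3 in
theorem b0_mul_center_right {ζ : G} (hζ : ζ ∈ Subgroup.center G) (y z : G) :
    b0 y (z * ζ) = b0 y z := by
  rw [b0_symm, b0_mul_center_left h1 h2 h3 hζ, b0_symm]

include h1 h2 h3 in
theorem sq_mem_center (y : G) : y * y ∈ Subgroup.center G := by
  rw [Subgroup.mem_center_iff]
  intro z
  have h : b0 (y * y) z = 0 := by
    rw [b0_mul_left h1 h2 h3]
    generalize b0 y z = t
    revert t; decide
  exact (b0_eq_zero_iff.mp h).symm

theorem b0_map (φ : MulAut G) (y z : G) : b0 (φ y) (φ z) = b0 y z := by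
  classical
  unfold b0
  have : φ y * φ z = φ z * φ y ↔ y * z = z * y := by
    rw [← map_mul, ← map_mul]
    exact φ.injective.eq_iff
  simp only [this]

end Form

section Quot

variable {G : Type u} [Group G] [Finite G]

/-- fixed points of an automorphism -/
def fixSub (φ : MulAut G) : Subgroup G where
  carrier := {g | φ g = g}
  one_mem' := map_one φ
  mul_mem' := by
    intro a b ha hb
    show φ (a * b) = a * b
    rw [map_mul, ha, hb]
  inv_mem' := by
    intro a ha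
    show φ a⁻¹ = a⁻¹
    rw [map_inv, ha]

theorem mem_fixSub {φ : MulAut G} {g : G} : g ∈ fixSub φ ↔ φ g = g := Iff.rfl

theorem card_ker_mul_card_range {H : Type*} [Group H] (f : G →* H) :
    Nat.card f.ker * Nat.card f.range = Nat.card G := by
  rw [← Subgroup.index_ker]
  exact Subgroup.card_mul_index _

theorem main_of_quot (hCW : ChevWarnProp.{u}) {q : ℕ} (hq : q.Prime) (hq2 : q ≠ 2)
    (φ : MulAut G) (hφ : φ ^ q = 1)
    (h1 : ∀ y z : G, y * z * y⁻¹ * z⁻¹ ∈ Subgroup.center G)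
    (h2 : ∀ y z : G, (y * z * y⁻¹ * z⁻¹) * (y * z * y⁻¹ * z⁻¹) = 1)
    (h3 : ∀ y z y' z' : G, y * z * y⁻¹ * z⁻¹ = 1 ∨ y' * z' * y'⁻¹ * z'⁻¹ = 1 ∨
      y * z * y⁻¹ * z⁻¹ = y' * z' * y'⁻¹ * z'⁻¹)
    (h5 : ∀ y : G, y⁻¹ * φ y ∈ Subgroup.center G →
      ∃ c : G, φ c = c ∧ y⁻¹ * c ∈ Subgroup.center G)
    (hcount : Nat.card G * Nat.card ↥(Subgroup.center G ⊓ fixSub φ) ^ q =
      Nat.card (Subgroup.center G) * Nat.card ↥(fixSub φ) ^ q)
    (hfour : 4 * Nat.card ↥(Subgroup.center G ⊓ fixSub φ) ≤ Nat.card ↥(fixSub φ))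
    (Y : Type u) [CommGroup Y] [Finite Y] (π : G →* Y) (hπ : Function.Surjective π)
    (hker : ∀ g : G, π g = 1 ↔ g ∈ Subgroup.center G)
    (σ : MulAut Y) (hσ : ∀ g : G, σ (π g) = π (φ g)) :
    ∃ y : G, φ y ≠ y ∧ ∀ j : ℕ, y * (φ ^ j) y = (φ ^ j) y * y := by
  classical
  obtain ⟨s, hs⟩ : ∃ s : Y → G, ∀ a, π (s a) = a := ⟨Function.surjInv hπ, Function.surjInv_eq hπ⟩
  have hsπ : ∀ y : G, ∃ ζ ∈ Subgroup.center G, s (π y) = y * ζ := by
    intro y
    refine ⟨y⁻¹ * s (π y), ?_, by group⟩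
    rw [← hker, map_mul, map_inv, hs, inv_mul_cancel]
  obtain ⟨β, hβ⟩ : ∃ β : Y → Y → ZMod 2, β = fun a b => b0 (s a) (s b) := ⟨_, rfl⟩
  have hβπ : ∀ y z : G, β (π y) (π z) = b0 y z := by
    intro y z
    obtain ⟨ζ, hζ, e1⟩ := hsπ y
    obtain ⟨ζ', hζ', e2⟩ := hsπ z
    rw [hβ]
    show b0 (s (π y)) (s (π z)) = b0 y z
    rw [e1, e2, b0_mul_center_left h1 h2 h3 hζ, b0_mul_center_right h1 h2 h3 hζ']
  have hσpow : ∀ (j : ℕ) (g : G), (σ ^ j) (π g) = π ((φ ^ j) g) := by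
    intro j
    induction j with
    | zero => intro g; simp
    | succ j ih =>
      intro g
      rw [pow_succ', pow_succ', MulAut.mul_apply, MulAut.mul_apply, ih, hσ]
  have hσq : σ ^ q = 1 := by
    ext a
    obtain ⟨y, rfl⟩ := hπ a
    rw [hσpow, hφ]
    rfl
  have hexp2 : ∀ a : Y, a ^ 2 = 1 := by
    intro a
    obtain ⟨y, rfl⟩ := hπ a
    rw [← map_pow, hker, pow_two]
    exact sq_mem_center h1 h2 h3 y
  have hβl : ∀ a b c : Y, β (a * b) c = β a c + β b c := by
    intro a b c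
    obtain ⟨y, rfl⟩ := hπ a
    obtain ⟨y', rfl⟩ := hπ b
    obtain ⟨z, rfl⟩ := hπ c
    rw [← map_mul, hβπ, hβπ, hβπ, b0_mul_left h1 h2 h3]
  have hβr : ∀ a b c : Y, β a (b * c) = β a b + β a c := by
    intro a b c
    obtain ⟨y, rfl⟩ := hπ a
    obtain ⟨z, rfl⟩ := hπ b
    obtain ⟨z', rfl⟩ := hπ c
    rw [← map_mul, hβπ, hβπ, hβπ, b0_mul_right h1 h2 h3]
  have hβa : ∀ a : Y, β a a = 0 := by
    intro a
    obtain ⟨y, rfl⟩ := hπ a
    rw [hβπ, b0_self]
  have hβσ : ∀ a b : Y, β (σ a) (σ b) = β a b := by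
    intro a b
    obtain ⟨y, rfl⟩ := hπ a
    obtain ⟨z, rfl⟩ := hπ b
    rw [hσ, hσ, hβπ, hβπ, b0_map]
  obtain ⟨ν, hν⟩ : ∃ ν : Y →* Y, ν = normHom σ q := ⟨_, rfl⟩
  have hσX : ∀ a ∈ ν.ker, σ a ∈ ν.ker := by
    intro a ha
    rw [MonoidHom.mem_ker] at ha ⊢
    rw [hν, normHom_sigma, ← hν, ha, map_one]
  -- the cardinality of the kernel
  obtain ⟨ψ, hψ⟩ : ∃ ψ : ↥(fixSub φ) →* Y, ψ = π.comp (fixSub φ).subtype := ⟨_, rfl⟩
  have hψker : Nat.card ψ.ker = Nat.card ↥(Subgroup.center G ⊓ fixSub φ) := by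
    have e : ψ.ker = (Subgroup.center G ⊓ fixSub φ).subgroupOf (fixSub φ) := by
      ext g
      rw [MonoidHom.mem_ker, Subgroup.mem_subgroupOf, hψ]
      show π (g : G) = 1 ↔ (g : G) ∈ Subgroup.center G ⊓ fixSub φ
      rw [hker]
      exact ⟨fun h => ⟨h, g.2⟩, fun h => h.1⟩
    rw [e]
    exact Nat.card_congr (Subgroup.subgroupOfEquivOfLe inf_le_right).toEquiv
  have hcψ := card_ker_mul_card_range ψ
  have hcπ := card_ker_mul_card_range π
  have hcν := card_ker_mul_card_range ν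
  have hπker : π.ker = Subgroup.center G := by
    ext g
    rw [MonoidHom.mem_ker, hker]
  have hπrange : Nat.card π.range = Nat.card Y := by
    rw [MonoidHom.range_eq_top.mpr hπ]
    exact Nat.card_congr Subgroup.topEquiv.toEquiv
  rw [hπker, hπrange] at hcπ
  rw [hψker] at hcψ
  have hrange : ν.range ≤ ψ.range := by
    rintro a ⟨b, rfl⟩
    have hfix : σ (ν b) = ν b := by rw [hν]; exact sigma_normHom σ q hσq b
    obtain ⟨y, hy⟩ := hπ (ν b)
    rw [← hy, hσ] at hfix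
    have h6 : y⁻¹ * φ y ∈ Subgroup.center G := by
      rw [← hker, map_mul, map_inv, hfix, inv_mul_cancel]
    obtain ⟨c, hc, hyc⟩ := h5 y h6
    rw [← hker, map_mul, map_inv, inv_mul_eq_one] at hyc
    refine ⟨⟨c, hc⟩, ?_⟩
    rw [hψ]
    show π c = ν b
    rw [← hyc, hy]
  have hle : Nat.card ν.range ≤ Nat.card ψ.range := Subgroup.card_le_of_le hrange
  obtain ⟨n, hn⟩ : ∃ n : ℕ, n = Nat.card ↥(Subgroup.center G ⊓ fixSub φ) := ⟨_, rfl⟩
  obtain ⟨ρ, hρ⟩ : ∃ ρ : ℕ, ρ = Nat.card ψ.range := ⟨_, rfl⟩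
  obtain ⟨NZ, hNZ⟩ : ∃ NZ : ℕ, NZ = Nat.card (Subgroup.center G) := ⟨_, rfl⟩
  rw [← hn, ← hρ] at hcψ
  rw [← hNZ] at hcπ
  rw [← hn, ← hNZ, ← hcψ, ← hcπ] at hcount
  rw [← hn, ← hcψ] at hfour
  rw [← hρ] at hle
  have hn0 : 0 < n := by rw [hn]; exact Nat.card_pos
  have hNZ0 : 0 < NZ := by rw [hNZ]; exact Nat.card_pos
  have hρ4 : 4 ≤ ρ := by
    have : n * 4 ≤ n * ρ := by rw [mul_comm n 4]; exact hfour
    exact Nat.le_of_mul_le_mul_left this hn0
  have hY : Nat.card Y = ρ ^ q := by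
    have h7 : NZ * n ^ q * Nat.card Y = NZ * n ^ q * ρ ^ q := by
      calc NZ * n ^ q * Nat.card Y = NZ * Nat.card Y * n ^ q := by ring
        _ = NZ * (n * ρ) ^ q := hcount
        _ = NZ * n ^ q * ρ ^ q := by rw [mul_pow]; ring
    exact Nat.eq_of_mul_eq_mul_left (Nat.mul_pos hNZ0 (pow_pos hn0 q)) h7
  have hq1 : 1 ≤ q - 1 := by
    have := hq.two_le
    omega
  have hX : 2 ^ (q - 1) < Nat.card ν.ker := by
    have h8 : ρ ^ (q - 1) * ρ ≤ Nat.card ν.ker * ρ := by
      calc ρ ^ (q - 1) * ρ = ρ ^ q := by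
            rw [← pow_succ, Nat.sub_add_cancel hq.one_le]
        _ = Nat.card ν.ker * Nat.card ν.range := by rw [hcν, hY]
        _ ≤ Nat.card ν.ker * ρ := Nat.mul_le_mul_left _ hle
    have h9 : ρ ^ (q - 1) ≤ Nat.card ν.ker :=
      Nat.le_of_mul_le_mul_right h8 (by omega)
    have h10 : 4 ^ (q - 1) ≤ ρ ^ (q - 1) := Nat.pow_le_pow_left hρ4 _
    have h11 : 2 ^ (q - 1) < 4 ^ (q - 1) := by
      apply Nat.pow_lt_pow_left (by norm_num)
      omega
    omega
  obtain ⟨a, haX, ha1, haβ⟩ := hCW Y q σ β ν.ker hq hq2 hexp2 hσq hβl hβr hβa hβσ hσX hX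
  refine ⟨s a, ?_, ?_⟩
  · intro hfix
    apply ha1
    have h12 : σ a = a := by
      conv_lhs => rw [← hs a]
      rw [hσ, hfix, hs]
    have h13 : a ^ q = 1 := by
      have := MonoidHom.mem_ker.mp haX
      rw [hν, normHom_fixed σ q h12] at this
      exact this
    have h14 : orderOf a ∣ q := orderOf_dvd_of_pow_eq_one h13
    have h15 : orderOf a ∣ 2 := orderOf_dvd_of_pow_eq_one (hexp2 a)
    have h16 : orderOf a ∣ Nat.gcd q 2 := Nat.dvd_gcd h14 h15
    have h17 : Nat.gcd q 2 = 1 := (Nat.coprime_primes hq Nat.prime_two).mpr hq2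
    rw [h17] at h16
    exact orderOf_eq_one_iff.mp (Nat.dvd_one.mp h16)
  · intro j
    have h18 := haβ j
    conv at h18 => rw [← hs a]
    rw [hσpow, hβπ] at h18
    exact b0_eq_zero_iff.mp h18

end Quot

end Cfsg.Agent.Lib.Helper20.FrobExcQuot
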