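import Mathlib
import Cfsg.Agent.S0022
import Cfsg.Agent.Lib.Helper20.FrobExc
import Cfsg.Agent.Lib.Helper20.FrobExcEF
import Cfsg.Agent.Lib.Helper20.FrobExcCount
import Cfsg.Agent.Lib.Helper20.FrobExcQuot

set_option autoImplicit false
set_option linter.unusedSectionVars false

/-!
Piece T2 of helper1's plan for S4306: `excOne : ChevWarnProp → ExcOneProp` ("Theorem X").
-/

namespace Cfsg.Agent.Lib.Helper20.FrobExcOne

open Cfsg.Agent.Lib.Helper1.FrobQ Cfsg.Agent.Lib.Helper1.Ward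
open Cfsg.Agent.Lib.Helper20.FrobExcCount Cfsg.Agent.Lib.Helper20.FrobExcQuot
open scoped commutatorElement

universe u

section Sgn

variable {W : Type u} [CommGroup W]

theorem IsSgn.mul_self' {c : MulAut W} (h : IsSgn c) : c * c = 1 := by
  rcases h with rfl | h
  · simp
  · ext w
    simp only [MulAut.mul_apply, MulAut.one_apply]
    rw [h, h, inv_inv]

theorem IsSgn.eq_of_ne_one {c c' : MulAut W} (h : IsSgn c) (h' : IsSgn c') (hc : c ≠ 1)
    (hc' : c' ≠ 1) : c = c' := by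
  rcases h with rfl | h
  · exact absurd rfl hc
  rcases h' with rfl | h'
  · exact absurd rfl hc'
  ext w
  rw [h, h']

end Sgn

section Transfer

variable {Γ : Type*} [Group Γ] [Finite Γ] {Q : Subgroup Γ}

theorem mem_center_iff_coe (g : ↥Q) :
    g ∈ Subgroup.center ↥Q ↔ (g : Γ) ∈ Q ⊓ Subgroup.centralizer (Q : Set Γ) := by
  rw [Subgroup.mem_center_iff, Subgroup.mem_inf, Subgroup.mem_centralizer_iff]
  constructor
  · intro h
    refine ⟨g.2, ?_⟩
    intro z hz
    exact congrArg Subtype.val (h ⟨z, hz⟩)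
  · rintro ⟨-, h⟩ z
    exact Subtype.ext (h z z.2)

theorem center_eq_subgroupOf :
    Subgroup.center ↥Q = (Q ⊓ Subgroup.centralizer (Q : Set Γ)).subgroupOf Q := by
  ext g
  rw [mem_center_iff_coe, Subgroup.mem_subgroupOf]

theorem card_subgroupOf_of_le {H K : Subgroup Γ} (h : H ≤ K) :
    Nat.card (H.subgroupOf K) = Nat.card H :=
  Nat.card_congr (Subgroup.subgroupOfEquivOfLe h).toEquiv

end Transfer

theorem excOne (hCW : ChevWarnProp.{u}) : ExcOneProp.{u} := by
  intro W _ _ ℓ q r hℓ hq hr hℓ2 hq2 hr2 hℓq hrq hexp Q B x hQ hB hxq hxQ hxB hBQ hfpfW hfpfB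
    hcomm hQB
  by_contra hna
  push Not at hna
  obtain ⟨y₀, hy₀, z₀, hz₀, hyz₀⟩ := hna
  have hna' : ∃ y ∈ Q, ∃ z ∈ Q, y * z ≠ z * y := ⟨y₀, hy₀, z₀, hz₀, hyz₀⟩
  have hcount := count hq hr hq2 hr2 hQ hB hxq hxQ hxB hBQ hfpfW hfpfB hcomm hQB
  have hfour := four_le hq hr hq2 hr2 hQ hB hxq hxQ hxB hBQ hfpfW hfpfB hcomm hQB hna'
  have hsgn : ∀ y ∈ Q, ∀ z ∈ Q, IsSgn (y * z * y⁻¹ * z⁻¹) := hcomm
  -- the automorphism of `Q`
  obtain ⟨φ, hφdef⟩ : ∃ φ : MulAut ↥Q, φ = Q.normalizerMonoidHom ⟨x, hxQ⟩ := ⟨_, rfl⟩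
  have happ : ∀ t : ↥Q, ((φ t : ↥Q) : MulAut W) = x * (t : MulAut W) * x⁻¹ := by
    intro t; rw [hφdef]; rfl
  have hpowapp : ∀ (j : ℕ) (t : ↥Q),
      (((φ ^ j) t : ↥Q) : MulAut W) = x ^ j * (t : MulAut W) * (x ^ j)⁻¹ := by
    intro j
    induction j with
    | zero => intro t; simp
    | succ j ih =>
      intro t
      rw [pow_succ', MulAut.mul_apply, happ, ih, pow_succ']
      group
  have hφq : φ ^ q = 1 := by
    ext t
    rw [hpowapp, hxq]
    simp
  -- hypotheses on commutators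
  have h1 : ∀ y z : ↥Q, y * z * y⁻¹ * z⁻¹ ∈ Subgroup.center ↥Q := by
    intro y z
    rw [Subgroup.mem_center_iff]
    intro g
    apply Subtype.ext
    have := (hsgn y y.2 z z.2).comm (g : MulAut W)
    simpa using this
  have h2 : ∀ y z : ↥Q, (y * z * y⁻¹ * z⁻¹) * (y * z * y⁻¹ * z⁻¹) = 1 := by
    intro y z
    apply Subtype.ext
    have := IsSgn.mul_self' (hsgn y y.2 z z.2)
    simpa using this
  have h3 : ∀ y z y' z' : ↥Q, y * z * y⁻¹ * z⁻¹ = 1 ∨ y' * z' * y'⁻¹ * z'⁻¹ = 1 ∨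
      y * z * y⁻¹ * z⁻¹ = y' * z' * y'⁻¹ * z'⁻¹ := by
    intro y z y' z'
    by_cases hc : y * z * y⁻¹ * z⁻¹ = 1
    · left; exact hc
    by_cases hc' : y' * z' * y'⁻¹ * z'⁻¹ = 1
    · right; left; exact hc'
    right; right
    apply Subtype.ext
    have e := IsSgn.eq_of_ne_one (hsgn y y.2 z z.2) (hsgn y' y'.2 z' z'.2)
      (fun h => hc (Subtype.ext (by simpa using h)))
      (fun h => hc' (Subtype.ext (by simpa using h)))
    simpa using e
  -- coprime lifting of fixed points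
  have hZn : ∀ E : Subgroup (MulAut W), E ≤ Subgroup.normalizer (Q : Set (MulAut W)) →
      E ≤ Subgroup.normalizer
        ((Q ⊓ Subgroup.centralizer (Q : Set (MulAut W)) : Subgroup (MulAut W)) :
          Set (MulAut W)) :=
    fun E hE => normalizer_inf hE (normalizer_centralizer hE)
  have hEQ : Subgroup.zpowers x ≤ Subgroup.normalizer (Q : Set (MulAut W)) := by
    rw [Subgroup.zpowers_le]; exact hxQ
  have h5 : ∀ y : ↥Q, y⁻¹ * φ y ∈ Subgroup.center ↥Q →
      ∃ c : ↥Q, φ c = c ∧ y⁻¹ * c ∈ Subgroup.center ↥Q := by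
    intro y hy
    rw [mem_center_iff_coe] at hy
    have hy' : (y : MulAut W)⁻¹ * (x * (y : MulAut W) * x⁻¹) ∈
        Q ⊓ Subgroup.centralizer (Q : Set (MulAut W)) := by
      have e : ((y⁻¹ * φ y : ↥Q) : MulAut W) = (y : MulAut W)⁻¹ * (x * (y : MulAut W) * x⁻¹) := by
        rw [Subgroup.coe_mul, Subgroup.coe_inv, happ]
      rw [← e]; exact hy
    have hy'' : x * (y : MulAut W) * x⁻¹ * (y : MulAut W)⁻¹ ∈
        Q ⊓ Subgroup.centralizer (Q : Set (MulAut W)) := by
      have e : x * (y : MulAut W) * x⁻¹ * (y : MulAut W)⁻¹ =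
          (y : MulAut W) * ((y : MulAut W)⁻¹ * (x * (y : MulAut W) * x⁻¹)) * (y : MulAut W)⁻¹ := by
        group
      rw [e]
      exact nmem (hZn Q Subgroup.le_normalizer y.2) hy'
    have hcardE : Nat.card (Subgroup.zpowers x) ∣ q := by
      rw [Nat.card_zpowers]
      exact orderOf_dvd_of_pow_eq_one hxq
    have hcop : (Nat.card (Subgroup.zpowers x)).Coprime (Nat.card Q) := by
      have := Fact.mk Nat.prime_two
      obtain ⟨n, hn⟩ := (IsPGroup.iff_card).mp hQ
      rw [hn]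
      apply Nat.Coprime.coprime_dvd_left hcardE
      exact Nat.Coprime.pow_right n ((Nat.coprime_primes hq Nat.prime_two).mpr hq2)
    have hsolv : Group.IsSolvable (Subgroup.zpowers x) := by
      apply Group.isSolvable_of_comm
      rintro ⟨a, i, rfl⟩ ⟨b, j, rfl⟩
      apply Subtype.ext
      exact ((Commute.refl x).zpow_zpow i j).eq
    obtain ⟨c, hc, hyc⟩ := Cfsg.Agent.S0022.result (Subgroup.zpowers x) Q hEQ hcop
      (Or.inl hsolv) (Q ⊓ Subgroup.centralizer (Q : Set (MulAut W))) inf_le_left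
      (hZn Q Subgroup.le_normalizer) (hZn _ hEQ) (y : MulAut W) y.2 (by
        intro a ha
        rw [← mem_powers_iff_mem_zpowers] at ha
        obtain ⟨n, rfl⟩ := ha
        exact Cfsg.Agent.Lib.Helper20.FrobExc.pow_conj_mem (hZn _ hEQ (Subgroup.mem_zpowers x))
          hy'' n)
    refine ⟨⟨c, hc.1⟩, ?_, ?_⟩
    · apply Subtype.ext
      rw [happ]
      have hcx : x * c = c * x :=
        Subgroup.mem_centralizer_iff.mp hc.2 x (Subgroup.mem_zpowers x)
      show x * c * x⁻¹ = c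
      rw [hcx]; group
    · rw [mem_center_iff_coe]
      exact hyc
  -- transfer of the counts
  have hcZ : Nat.card (Subgroup.center ↥Q) =
      Nat.card ↥(Q ⊓ Subgroup.centralizer (Q : Set (MulAut W))) := by
    rw [center_eq_subgroupOf]
    exact card_subgroupOf_of_le inf_le_left
  have hfixeq : fixSub φ =
      (Q ⊓ Subgroup.centralizer ({x} : Set (MulAut W))).subgroupOf Q := by
    ext g
    rw [mem_fixSub, Subgroup.mem_subgroupOf, Subgroup.mem_inf,
      Subgroup.mem_centralizer_singleton_iff]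
    constructor
    · intro h
      refine ⟨g.2, ?_⟩
      have h' : x * (g : MulAut W) * x⁻¹ = (g : MulAut W) := by
        rw [← happ, h]
      calc (g : MulAut W) * x = (x * (g : MulAut W) * x⁻¹) * x := by rw [h']
        _ = x * (g : MulAut W) := by group
    · rintro ⟨-, h⟩
      apply Subtype.ext
      rw [happ, ← h]; group
  have hcF : Nat.card ↥(fixSub φ) =
      Nat.card ↥(Q ⊓ Subgroup.centralizer ({x} : Set (MulAut W))) := by
    rw [hfixeq]
    exact card_subgroupOf_of_le inf_le_left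
  have hcZF : Nat.card ↥(Subgroup.center ↥Q ⊓ fixSub φ) =
      Nat.card ↥((Q ⊓ Subgroup.centralizer (Q : Set (MulAut W))) ⊓
        Subgroup.centralizer ({x} : Set (MulAut W))) := by
    have e : Subgroup.center ↥Q ⊓ fixSub φ =
        ((Q ⊓ Subgroup.centralizer (Q : Set (MulAut W))) ⊓
          Subgroup.centralizer ({x} : Set (MulAut W))).subgroupOf Q := by
      rw [center_eq_subgroupOf, hfixeq]
      ext g
      simp only [Subgroup.mem_inf, Subgroup.mem_subgroupOf]
      tauto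
    rw [e]
    exact card_subgroupOf_of_le (inf_le_left.trans inf_le_left)
  rw [← hcZ, ← hcF, ← hcZF] at hcount
  rw [← hcF, ← hcZF] at hfour
  -- the quotient
  have hYcomm : ∀ a b : ↥Q ⧸ Subgroup.center ↥Q, a * b = b * a := by
    intro a b
    induction a using QuotientGroup.induction_on with
    | H y =>
      induction b using QuotientGroup.induction_on with
      | H z =>
        rw [← QuotientGroup.mk_mul, ← QuotientGroup.mk_mul, QuotientGroup.eq]
        have e : (y * z)⁻¹ * (z * y) = z⁻¹ * y⁻¹ * z⁻¹⁻¹ * y⁻¹⁻¹ := by group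
        rw [e]
        exact h1 z⁻¹ y⁻¹
  letI instY : CommGroup (↥Q ⧸ Subgroup.center ↥Q) :=
    { (inferInstance : Group (↥Q ⧸ Subgroup.center ↥Q)) with mul_comm := hYcomm }
  have hmap : (Subgroup.center ↥Q).map (φ : ↥Q ≃* ↥Q).toMonoidHom = Subgroup.center ↥Q :=
    Subgroup.characteristic_iff_map_eq.mp Subgroup.centerCharacteristic φ
  obtain ⟨σ, hσdef⟩ : ∃ σ : (↥Q ⧸ Subgroup.center ↥Q) ≃* (↥Q ⧸ Subgroup.center ↥Q),
      σ = QuotientGroup.congr (Subgroup.center ↥Q) (Subgroup.center ↥Q) φ hmap := ⟨_, rfl⟩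
  have hσmk : ∀ t : ↥Q, σ (QuotientGroup.mk t) = QuotientGroup.mk (φ t) := by
    intro t; rw [hσdef]; rfl
  obtain ⟨y, hyfix, hycomm⟩ := main_of_quot hCW hq hq2 φ hφq h1 h2 h3 h5 hcount hfour
    (↥Q ⧸ Subgroup.center ↥Q) (QuotientGroup.mk' (Subgroup.center ↥Q))
    (QuotientGroup.mk'_surjective _) (fun g => QuotientGroup.eq_one_iff g) σ hσmk
  -- conclusion
  apply Cfsg.Agent.Lib.Helper20.FrobExcEF.orbit_abelian_contra hℓ hq hℓ2 hq2 hℓq hexp hQ hxq hxQ
    hfpfW y.2
  · intro hxy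
    apply hyfix
    apply Subtype.ext
    rw [happ, hxy]; group
  · intro j
    have := congrArg Subtype.val (hycomm j)
    rw [Subgroup.coe_mul, Subgroup.coe_mul, hpowapp] at this
    exact this

end Cfsg.Agent.Lib.Helper20.FrobExcOne
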