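import Mathlib
import Cfsg.Agent.Lib.Helper20.FrobExc
import Cfsg.Agent.Lib.Helper1.FrobQ.Props

set_option autoImplicit false
set_option linter.unusedSectionVars false

/-!
Piece T3 of helper1's plan for S4306: the exceptional branch in Case II of the dichotomy
(`C_R(F) ≤ C(S)`), from Thompson's theorem on the section `S R / ((S ⊓ fixA) ⊔ (R ⊓ C(S)))`.
-/

namespace Cfsg.Agent.Lib.Helper20.FrobExcTwo

open Cfsg.Agent.Lib.Helper1.FrobPQ Cfsg.Agent.Lib.Helper1.Ward Cfsg.Agent.Lib.Helper18.Fpf4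
open Cfsg.Agent.Lib.Helper1.FrobQ Cfsg.Agent.Lib.Helper20.FrobExc
open scoped commutatorElement

universe u

theorem excTwo : ExcTwoProp.{u} := by
  intro M _ _ p q s r A F S R Z Z₁ hfrob hs hr hsr hsp hrp Sgroup Rgroup AS AR RS hSR L hZS hSC
    hRC nilMS hII x hxA hxF hxstab
  have hF1 := F_not_norm hfrob L hxA hxF hxstab
  obtain ⟨f, hf, hf1⟩ := hfrob.exists_gen_F
  obtain ⟨KS, hKS⟩ : ∃ KS : Subgroup (MulAut M), KS = S ⊓ fixA A (comp Z Z₁) := ⟨_, rfl⟩
  obtain ⟨R0, hR0⟩ : ∃ R0 : Subgroup (MulAut M),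
      R0 = R ⊓ Subgroup.centralizer (S : Set (MulAut M)) := ⟨_, rfl⟩
  have hTfix : S ⊔ R ≤ Subgroup.normalizer
      ((fixA A (comp Z Z₁) : Subgroup (MulAut M)) : Set (MulAut M)) :=
    sup_le (hSC.trans (fixA_norm_cent L)) (hRC.trans (fixA_norm_cent L))
  have hTS : S ⊔ R ≤ Subgroup.normalizer (S : Set (MulAut M)) := sup_le Subgroup.le_normalizer RS
  have hTKS : S ⊔ R ≤ Subgroup.normalizer (KS : Set (MulAut M)) := by
    rw [hKS]; exact normalizer_inf hTS hTfix
  have hSR0 : S ≤ Subgroup.normalizer (R0 : Set (MulAut M)) := by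
    refine le_trans ?_ (Subgroup.centralizer_le_normalizer _)
    intro y hy
    rw [Subgroup.mem_centralizer_iff]
    intro z hz
    rw [hR0] at hz
    exact ((Subgroup.mem_centralizer_iff.mp hz.2) y hy).symm
  have hRR0 : R ≤ Subgroup.normalizer (R0 : Set (MulAut M)) := by
    rw [hR0]; exact normalizer_inf Subgroup.le_normalizer (normalizer_centralizer RS)
  have hTR0 : S ⊔ R ≤ Subgroup.normalizer (R0 : Set (MulAut M)) := sup_le hSR0 hRR0
  have hTK : S ⊔ R ≤ Subgroup.normalizer ((KS ⊔ R0 : Subgroup (MulAut M)) : Set (MulAut M)) :=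
    normalizer_sup' hTKS hTR0
  have hKT : KS ⊔ R0 ≤ S ⊔ R := by
    rw [hKS, hR0]
    exact sup_le (inf_le_left.trans le_sup_left) (inf_le_left.trans le_sup_right)
  have hFS : F ≤ Subgroup.normalizer (S : Set (MulAut M)) := hfrob.FA.trans AS
  have hFR : F ≤ Subgroup.normalizer (R : Set (MulAut M)) := hfrob.FA.trans AR
  have hFT : F ≤ Subgroup.normalizer ((S ⊔ R : Subgroup (MulAut M)) : Set (MulAut M)) :=
    normalizer_sup' hFS hFR
  have hFK : F ≤ Subgroup.normalizer ((KS ⊔ R0 : Subgroup (MulAut M)) : Set (MulAut M)) := by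
    rw [hKS, hR0]
    exact normalizer_sup' (normalizer_inf hFS (hfrob.FA.trans (fixA_norm_A A _)))
      (normalizer_inf hFR (normalizer_centralizer hFS))
  have hcop : (Nat.card ↥(S ⊔ R)).Coprime p := by
    apply Nat.Coprime.coprime_dvd_left (card_sup_dvd_mul' RS)
    exact Nat.Coprime.mul_left (pgroup_card_coprime hs hfrob.hp hsp Sgroup)
      (pgroup_card_coprime hr hfrob.hp hrp Rgroup)
  have hcomm_all : ∀ c : MulAut M, f * c = c * f → ∀ f' ∈ F, f' * c = c * f' := by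
    intro c hc f' hf'
    rw [← hfrob.F_eq_zpowers hf hf1] at hf'
    obtain ⟨i, rfl⟩ := hf'
    exact ((show Commute f c from hc).zpow_left i).eq
  have hSRbot : ∀ d : MulAut M, d ∈ S → d ∈ R → d = 1 := by
    intro d hdS hdR
    have h5 := orderOf_coprime_pgroups hs hr hsr Sgroup Rgroup hdS hdR
    rw [Nat.coprime_self] at h5
    exact orderOf_eq_one_iff.mp h5
  have hfix : ∀ c ∈ S ⊔ R, f * c = c * f → c ∈ KS ⊔ R0 := by
    intro c hc hfc
    have h2 : c ∈ ((R ⊔ S : Subgroup (MulAut M)) : Set (MulAut M)) := by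
      rw [sup_comm]; exact hc
    rw [Subgroup.coe_mul_of_left_le_normalizer_right R S RS] at h2
    obtain ⟨z, hz, y, hy, rfl⟩ := h2
    have hfz : f * z * f⁻¹ ∈ R := nmem (AR (hfrob.FA hf)) hz
    have hfy : f * y * f⁻¹ ∈ S := nmem (AS (hfrob.FA hf)) hy
    have hd : z⁻¹ * (f * z * f⁻¹) = y * (f * y * f⁻¹)⁻¹ := by
      have h3 : f * (z * y) * f⁻¹ = z * y := by rw [hfc]; group
      have h4 : (f * z * f⁻¹) * (f * y * f⁻¹) = z * y := by rw [← h3]; group
      calc z⁻¹ * (f * z * f⁻¹) = z⁻¹ * ((f * z * f⁻¹) * (f * y * f⁻¹)) * (f * y * f⁻¹)⁻¹ := by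
            group
        _ = y * (f * y * f⁻¹)⁻¹ := by rw [h4]; group
    have hdR : z⁻¹ * (f * z * f⁻¹) ∈ R := mul_mem (inv_mem hz) hfz
    have hdS : z⁻¹ * (f * z * f⁻¹) ∈ S := by rw [hd]; exact mul_mem hy (inv_mem hfy)
    have hd1 : z⁻¹ * (f * z * f⁻¹) = 1 := hSRbot _ hdS hdR
    have hz' : f * z = z * f := by
      have h6 : f * z * f⁻¹ = z := by
        calc f * z * f⁻¹ = z * (z⁻¹ * (f * z * f⁻¹)) := by group
          _ = z := by rw [hd1, mul_one]
      calc f * z = f * z * f⁻¹ * f := by group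
        _ = z * f := by rw [h6]
    have hy' : f * y = y * f := by
      have h7 : y * (f * y * f⁻¹)⁻¹ = 1 := by rw [← hd, hd1]
      have h8 : f * y * f⁻¹ = y := by
        have := mul_eq_one_iff_eq_inv.mp h7
        rw [inv_inv] at this
        exact this.symm
      calc f * y = f * y * f⁻¹ * f := by group
        _ = y * f := by rw [h8]
    have hzK : z ∈ R0 := by
      rw [hR0]
      refine ⟨hz, ?_⟩
      show z ∈ Subgroup.centralizer (S : Set (MulAut M))
      rw [Subgroup.mem_centralizer_iff]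
      intro y' hy'S
      exact (hII z hz (hcomm_all z hz') y' hy'S).symm
    have hyK : y ∈ KS := by
      rw [hKS]
      exact ⟨hy, centF_le_fixA hfrob L hF1 AS hSC nilMS hy (hcomm_all y hy')⟩
    exact mul_mem (le_sup_right (a := KS) (b := R0) hzK) (le_sup_left (a := KS) (b := R0) hyK)
  have hKinf : ∀ k ∈ KS ⊔ R0, k ∈ S → k ∈ KS := by
    intro k hk hkS
    have h2 : k ∈ ((R0 ⊔ KS : Subgroup (MulAut M)) : Set (MulAut M)) := by
      rw [sup_comm]; exact hk
    have hR0KS : R0 ≤ Subgroup.normalizer (KS : Set (MulAut M)) := by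
      refine le_trans ?_ hTKS
      rw [hR0]
      exact inf_le_left.trans le_sup_right
    rw [Subgroup.coe_mul_of_left_le_normalizer_right R0 KS hR0KS] at h2
    obtain ⟨b, hb, a, ha, rfl⟩ := h2
    have haS : a ∈ S := by rw [hKS] at ha; exact ha.1
    have hbR : b ∈ R := by
      have hb' : b ∈ R0 := hb
      rw [hR0] at hb'; exact hb'.1
    have hbS : b ∈ S := by
      have e : b = (b * a) * a⁻¹ := by group
      rw [e]
      exact mul_mem hkS (inv_mem haS)
    have hb1 : b = 1 := hSRbot b hbS hbR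
    rw [hb1]
    show 1 * a ∈ KS
    rw [one_mul]
    exact ha
  have hcommK : ⁅S, R⁆ ≤ fixA A (comp Z Z₁) := by
    rw [Subgroup.commutator_le]
    intro y hy z hz
    have h9 := section_fpf_comm hfrob.hp hKT hTK (hFT hf) (hFK hf)
      (hfrob.pow_p_eq_one hf) hcop hfix (le_sup_left (a := S) (b := R) hy)
      (le_sup_right (a := S) (b := R) hz)
      (orderOf_coprime_pgroups hs hr hsr Sgroup Rgroup hy hz)
    have h10 : y * z * y⁻¹ * z⁻¹ ∈ S := by
      have e : y * z * y⁻¹ * z⁻¹ = y * (z * y⁻¹ * z⁻¹) := by group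
      rw [e]
      exact mul_mem hy (nmem (RS hz) (inv_mem hy))
    have h11 := hKinf _ h9 h10
    rw [hKS] at h11
    rw [commutatorElement_def]
    exact h11.2
  rw [hSR] at hcommK
  obtain ⟨z₀, hz₀, hz₀1⟩ := L.exists_out
  obtain ⟨w, hw1⟩ := (Subgroup.ne_bot_iff_exists_ne_one).mp L.compne
  apply hw1
  apply Subtype.ext
  apply L.fpf_out hz₀ hz₀1 w.2
  exact hcommK (hZS hz₀) 1 (one_mem A) w w.2

end Cfsg.Agent.Lib.Helper20.FrobExcTwo
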