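import Mathlib
import Cfsg.Agent.Lib.Helper10.QuotModule
import Cfsg.Agent.Lib.Helper20.FrobBridge

set_option autoImplicit false
set_option linter.unusedSectionVars false

/-!
P7 of helper1's S4305 plan: `GoodF.tower`, the bridge from the ambient configuration to the
module form `FTower` of the main theorem.
-/

namespace Cfsg.Agent.Lib.Helper20.FrobBridge

open Cfsg.Agent.Lib.Helper1.FrobPQ Cfsg.Agent.Lib.Helper1.Ward
open scoped commutatorElement

universe u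

theorem centralizer_bot_top {Γ : Type*} [Group Γ] :
    Subgroup.centralizer (((⊥ : Subgroup Γ) : Subgroup Γ) : Set Γ) = ⊤ := by
  rw [eq_top_iff]
  intro g _
  rw [Subgroup.mem_centralizer_iff]
  intro h hh
  rw [SetLike.mem_coe, Subgroup.mem_bot] at hh
  rw [hh, one_mul, mul_one]

theorem GoodF.tower {Γ : Type u} [Group Γ] [Finite Γ] {p q : ℕ} {A F G : Subgroup Γ}
    (hG : GoodF p q A F G) (hmain : FTowerMainProp.{u} p q)
    (hexc : 2 ∣ Nat.card G → ∀ n : ℕ, q ≠ 2 ^ n + 1)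
    {ℓ s r : ℕ} (hℓ : ℓ.Prime) (hs : s.Prime) (hr : r.Prime) (hℓs : ℓ ≠ s) (hsr : s ≠ r)
    {S R : Subgroup Γ} (hSG : S ≤ G) (hRG : R ≤ G) (hS : IsPGroup s S) (hR : IsPGroup r R)
    (hAS : A ≤ Subgroup.normalizer (S : Set Γ)) (hAR : A ≤ Subgroup.normalizer (R : Set Γ))
    (hRS : R ≤ Subgroup.normalizer (S : Set Γ)) :
    ⁅S, R⁆ ≤ Subgroup.centralizer ((Oq G ℓ : Subgroup Γ) : Set Γ) := by
  have hGn := hG.normal
  have hVn : (Oq G ℓ).Normal := Oq_normal G ℓ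
  have hVG : Oq G ℓ ≤ G := Oq_le G ℓ
  have hV : IsPGroup ℓ ↥(Oq G ℓ) := Oq_isPGroup G ℓ
  have hSRS : ⁅S, R⁆ ≤ S := Subgroup.le_normalizer_iff_commutator_le_left.mp hRS
  -- trivial cases
  by_cases hSbot : S = ⊥
  · rw [hSbot, Subgroup.commutator_bot_left]; exact bot_le
  by_cases hRbot : R = ⊥
  · rw [hRbot, Subgroup.commutator_bot_right]; exact bot_le
  by_cases hVbot : Oq G ℓ = ⊥
  · rw [hVbot, centralizer_bot_top]; exact le_top
  have hsp : s ≠ p := fun h => hSbot (pgroup_bot hG (Or.inl h) hSG hS)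
  have hsq : s ≠ q := fun h => hSbot (pgroup_bot hG (Or.inr h) hSG hS)
  have hrp : r ≠ p := fun h => hRbot (pgroup_bot hG (Or.inl h) hRG hR)
  have hrq : r ≠ q := fun h => hRbot (pgroup_bot hG (Or.inr h) hRG hR)
  have hℓp : ℓ ≠ p := fun h => hVbot (pgroup_bot hG (Or.inl h) hVG hV)
  have hℓq : ℓ ≠ q := fun h => hVbot (pgroup_bot hG (Or.inr h) hVG hV)
  have hexc' : s = 2 → ∀ n : ℕ, q ≠ 2 ^ n + 1 := by
    intro hs2
    apply hexc
    have := Fact.mk hs
    have hSnt : Nontrivial ↥S := (Subgroup.nontrivial_iff_ne_bot S).mpr hSbot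
    obtain ⟨n, hn0, hn⟩ := (IsPGroup.nontrivial_iff_card hS).mp hSnt
    have h1 : s ∣ Nat.card S := by rw [hn]; exact dvd_pow_self s hn0.ne'
    rw [← hs2]
    exact h1.trans (Subgroup.card_dvd_of_le hSG)
  -- the module
  have := Fact.mk hℓ
  have hV₀n : ((frattini ↥(Oq G ℓ)).map (Oq G ℓ).subtype).Normal :=
    ConjAct.normal_of_characteristic_of_normal
  have hV₀V : (frattini ↥(Oq G ℓ)).map (Oq G ℓ).subtype ≤ Oq G ℓ := Subgroup.map_subtype_le _
  have hder : ⁅Oq G ℓ, Oq G ℓ⁆ ≤ (frattini ↥(Oq G ℓ)).map (Oq G ℓ).subtype := by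
    rw [← Subgroup.map_subtype_commutator]
    exact Subgroup.map_mono (Cfsg.Agent.Lib.Helper1.pgroup_commutator_le_frattini hV)
  obtain ⟨M, instM, instF, Ψ, π, hsurj, hker, hact⟩ :=
    Cfsg.Agent.Lib.Helper10.QuotModule.exists_quot_module (Oq G ℓ)
      ((frattini ↥(Oq G ℓ)).map (Oq G ℓ).subtype) hVn hV₀n hV₀V hder
  have Q : QMod (Oq G ℓ) ((frattini ↥(Oq G ℓ)).map (Oq G ℓ).subtype) M Ψ π :=
    QMod.of_normal hVn hsurj hker hact
  have hcopS : ∀ K : Subgroup Γ, K ≤ S → (Nat.card K).Coprime ℓ := by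
    intro K hK
    have := Fact.mk hs
    obtain ⟨n, hn⟩ := (IsPGroup.iff_card).mp (hS.to_le hK)
    rw [hn]
    exact Nat.Coprime.pow_left n ((Nat.coprime_primes hs hℓ).mpr (Ne.symm hℓs))
  by_cases hcase : ∀ f ∈ F, Ψ f = 1
  · -- Case 1
    have hcopF : (Nat.card F).Coprime ℓ := by
      rw [hG.frob.cardF]
      exact (Nat.coprime_primes hG.frob.hp hℓ).mpr (Ne.symm hℓp)
    have hFV : F ≤ Subgroup.centralizer ((Oq G ℓ : Subgroup Γ) : Set Γ) :=
      Q.le_centralizer hVn hℓ hV hcopF hcase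
    exact hSRS.trans (case1 hG hℓ hVn hVG hV hFV hs (Ne.symm hℓs) hSG hS (hG.frob.FA.trans hAS))
  · -- Case 2
    push Not at hcase
    obtain ⟨hinj, hfrob⟩ := frob_map hG.frob Ψ hcase
    have hFS : F ≤ Subgroup.normalizer (S : Set Γ) := hG.frob.FA.trans hAS
    have hFR : F ≤ Subgroup.normalizer (R : Set Γ) := hG.frob.FA.trans hAR
    have T : FTower p q s r ℓ (A.map Ψ) (F.map Ψ) (S.map Ψ) (R.map Ψ) :=
      { frob := hfrob
        hs := hs
        hr := hr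
        hℓ := hℓ
        expM := Q.expM hℓ hV
        Sgroup := hS.map Ψ
        Rgroup := hR.map Ψ
        hsr := hsr
        hsℓ := Ne.symm hℓs
        hsp := hsp
        hsq := hsq
        hrp := hrp
        hrq := hrq
        hℓp := hℓp
        hℓq := hℓq
        AS := map_norm' Ψ hAS
        AR := map_norm' Ψ hAR
        RS := map_norm' Ψ hRS
        fpfM := fpfM hG Q hVn hV₀n hV₀V hVG
        fpfS := fpf_map hG Ψ hSG hAS
        fpfR := fpf_map hG Ψ hRG hAR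
        nilSR := nil_map hG Ψ hs hr hsr hSG hRG hS hR hFS hFR
        hexc := hexc' }
    have h1 : ⁅S.map Ψ, R.map Ψ⁆ = ⊥ := hmain M s r ℓ _ _ _ _ T
    rw [← Subgroup.map_commutator, Subgroup.map_eq_bot_iff] at h1
    exact Q.le_centralizer hVn hℓ hV (hcopS _ hSRS) (fun k hk => MonoidHom.mem_ker.mp (h1 hk))

end Cfsg.Agent.Lib.Helper20.FrobBridge
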