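import Mathlib
import Cfsg.Agent.Lib.Helper10.QuotModule
import Cfsg.Agent.Lib.Helper20.FrobTower
import Cfsg.Agent.Lib.Helper1.FrobQ.Props

set_option autoImplicit false
set_option linter.unusedSectionVars false

/-!
Piece T4 of helper1's plan for S4306: `gtowerBridge`, the bridge from the ambient configuration
`GoodF p q A F G` to the module form `GTower` (no exceptional hypothesis; new field `nilMS`).
-/

namespace Cfsg.Agent.Lib.Helper20.FrobGBridge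

open Cfsg.Agent.Lib.Helper1.FrobPQ Cfsg.Agent.Lib.Helper1.Ward Cfsg.Agent.Lib.Helper1.FrobQ
open Cfsg.Agent.Lib.Helper20.FrobBridge
open scoped commutatorElement

universe u

section Good

variable {Γ : Type u} [Group Γ] [Finite Γ] {p q : ℕ} {A F G : Subgroup Γ}

/-- The image of `C_S(F)` acts trivially on `C_M(F)`, `M = V / V₀`, for an `s`-subgroup `S` and a
normal `ℓ`-subgroup `V` of `G`, `ℓ ≠ s` (nilpotency of `C_G(F)`). -/
theorem nilM_map (hG : GoodF p q A F G) {V V₀ : Subgroup Γ} {M : Type*} [CommGroup M]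
    {Ψ : Γ →* MulAut M} {π : ↥V →* M} (Q : QMod V V₀ M Ψ π) (hVn : V.Normal) (hV₀n : V₀.Normal)
    (hV₀V : V₀ ≤ V) (hVG : V ≤ G) {ℓ s : ℕ} (hℓ : ℓ.Prime) (hs : s.Prime) (hℓs : ℓ ≠ s)
    (hV : IsPGroup ℓ V) {S : Subgroup Γ} (hSG : S ≤ G) (hS : IsPGroup s S)
    (hFS : F ≤ Subgroup.normalizer (S : Set Γ)) :
    ∀ y ∈ S.map Ψ, (∀ f ∈ F.map Ψ, f * y = y * f) → ∀ m : M, (∀ f ∈ F.map Ψ, f m = m) →
      y m = m := by
  rintro _ ⟨y, hy, rfl⟩ hyf m hm
  obtain ⟨cy, hcy, hcyF, hcye⟩ := hom_lift_fixed Ψ hFS (copA hG hG.frob.FA hSG)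
    (Or.inr (solv_sub hG hSG)) hy (fun b hb => hyf _ (Subgroup.mem_map_of_mem Ψ hb))
  obtain ⟨v, rfl⟩ := Q.surj m
  have hnV : ∀ E : Subgroup Γ, E ≤ Subgroup.normalizer (V : Set Γ) := by
    intro E; rw [Subgroup.normalizer_eq_top]; exact le_top
  have hnV₀ : ∀ E : Subgroup Γ, E ≤ Subgroup.normalizer (V₀ : Set Γ) := by
    intro E; rw [Subgroup.normalizer_eq_top]; exact le_top
  have h22 := Cfsg.Agent.S0022.result F V (hnV F) (copA hG hG.frob.FA hVG)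
    (Or.inr (solv_sub hG hVG)) V₀ hV₀V (hnV₀ V) (hnV₀ F) v v.2
    (by
      intro a ha
      exact (Q.comm_mem_iff hVn a v).mp (hm _ (Subgroup.mem_map_of_mem Ψ ha)))
  obtain ⟨c, hc, hvc⟩ := h22
  have hπ : π v = π ⟨c, hc.1⟩ := by
    have h1 := (Q.ker (v⁻¹ * ⟨c, hc.1⟩)).mpr hvc
    rw [map_mul, map_inv, inv_mul_eq_one] at h1
    exact h1
  rw [← hcye, hπ]
  have hcomm : cy * c = c * cy := commute_of_centF hG (hSG hcy) (hVG hc.1) hcyF
    (fun f hf => Subgroup.mem_centralizer_iff.mp hc.2 f hf)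
    (orderOf_coprime_of_pgroups' hs hℓ (Ne.symm hℓs) hS hV hcy hc.1)
  rw [Q.comm_mem_iff hVn cy ⟨c, hc.1⟩]
  have h2 : cy * c * cy⁻¹ * c⁻¹ = 1 := by rw [hcomm]; group
  show cy * c * cy⁻¹ * c⁻¹ ∈ V₀
  rw [h2]
  exact one_mem _

end Good

theorem gtowerBridge : GTowerBridgeProp.{u} := by
  intro Γ _ _ p q A F G hG hmain ℓ s r hℓ hs hr hℓs hsr S R hSG hRG hS hR hAS hAR hRS
  have hGn := hG.normal
  have hVn : (Oq G ℓ).Normal := Oq_normal G ℓ
  have hVG : Oq G ℓ ≤ G := Oq_le G ℓ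
  have hV : IsPGroup ℓ ↥(Oq G ℓ) := Oq_isPGroup G ℓ
  have hSRS : ⁅S, R⁆ ≤ S := Subgroup.le_normalizer_iff_commutator_le_left.mp hRS
  -- trivial cases
  by_cases hSbot : S = ⊥
  · rw [hSbot, Subgroup.commutator_bot_left]; exact bot_le
  by_cases hRbot : R = ⊥
  · rw [hRbot, Subgroup.commutator_bot_right]; exact bot_le
  by_cases hVbot : Oq G ℓ = ⊥
  · rw [hVbot, centralizer_bot_top]; exact le_top
  have hsp : s ≠ p := fun h => hSbot (pgroup_bot hG (Or.inl h) hSG hS)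
  have hsq : s ≠ q := fun h => hSbot (pgroup_bot hG (Or.inr h) hSG hS)
  have hrp : r ≠ p := fun h => hRbot (pgroup_bot hG (Or.inl h) hRG hR)
  have hrq : r ≠ q := fun h => hRbot (pgroup_bot hG (Or.inr h) hRG hR)
  have hℓp : ℓ ≠ p := fun h => hVbot (pgroup_bot hG (Or.inl h) hVG hV)
  have hℓq : ℓ ≠ q := fun h => hVbot (pgroup_bot hG (Or.inr h) hVG hV)
  -- the module
  have := Fact.mk hℓ
  have hV₀n : ((frattini ↥(Oq G ℓ)).map (Oq G ℓ).subtype).Normal :=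
    ConjAct.normal_of_characteristic_of_normal
  have hV₀V : (frattini ↥(Oq G ℓ)).map (Oq G ℓ).subtype ≤ Oq G ℓ := Subgroup.map_subtype_le _
  have hder : ⁅Oq G ℓ, Oq G ℓ⁆ ≤ (frattini ↥(Oq G ℓ)).map (Oq G ℓ).subtype := by
    rw [← Subgroup.map_subtype_commutator]
    exact Subgroup.map_mono (Cfsg.Agent.Lib.Helper1.pgroup_commutator_le_frattini hV)
  obtain ⟨M, instM, instF, Ψ, π, hsurj, hker, hact⟩ :=
    Cfsg.Agent.Lib.Helper10.QuotModule.exists_quot_module (Oq G ℓ)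
      ((frattini ↥(Oq G ℓ)).map (Oq G ℓ).subtype) hVn hV₀n hV₀V hder
  have Q : QMod (Oq G ℓ) ((frattini ↥(Oq G ℓ)).map (Oq G ℓ).subtype) M Ψ π :=
    QMod.of_normal hVn hsurj hker hact
  have hcopS : ∀ K : Subgroup Γ, K ≤ S → (Nat.card K).Coprime ℓ := by
    intro K hK
    have := Fact.mk hs
    obtain ⟨n, hn⟩ := (IsPGroup.iff_card).mp (hS.to_le hK)
    rw [hn]
    exact Nat.Coprime.pow_left n ((Nat.coprime_primes hs hℓ).mpr (Ne.symm hℓs))
  by_cases hcase : ∀ f ∈ F, Ψ f = 1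
  · -- Case 1
    have hcopF : (Nat.card F).Coprime ℓ := by
      rw [hG.frob.cardF]
      exact (Nat.coprime_primes hG.frob.hp hℓ).mpr (Ne.symm hℓp)
    have hFV : F ≤ Subgroup.centralizer ((Oq G ℓ : Subgroup Γ) : Set Γ) :=
      Q.le_centralizer hVn hℓ hV hcopF hcase
    exact hSRS.trans (case1 hG hℓ hVn hVG hV hFV hs (Ne.symm hℓs) hSG hS (hG.frob.FA.trans hAS))
  · -- Case 2
    push Not at hcase
    obtain ⟨hinj, hfrob⟩ := frob_map hG.frob Ψ hcase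
    have hFS : F ≤ Subgroup.normalizer (S : Set Γ) := hG.frob.FA.trans hAS
    have hFR : F ≤ Subgroup.normalizer (R : Set Γ) := hG.frob.FA.trans hAR
    have T : GTower p q s r ℓ (A.map Ψ) (F.map Ψ) (S.map Ψ) (R.map Ψ) :=
      { frob := hfrob
        hs := hs
        hr := hr
        hℓ := hℓ
        expM := Q.expM hℓ hV
        Sgroup := hS.map Ψ
        Rgroup := hR.map Ψ
        hsr := hsr
        hsℓ := Ne.symm hℓs
        hsp := hsp
        hsq := hsq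
        hrp := hrp
        hrq := hrq
        hℓp := hℓp
        hℓq := hℓq
        AS := map_norm' Ψ hAS
        AR := map_norm' Ψ hAR
        RS := map_norm' Ψ hRS
        fpfM := fpfM hG Q hVn hV₀n hV₀V hVG
        fpfS := fpf_map hG Ψ hSG hAS
        fpfR := fpf_map hG Ψ hRG hAR
        nilSR := nil_map hG Ψ hs hr hsr hSG hRG hS hR hFS hFR
        nilMS := nilM_map hG Q hVn hV₀n hV₀V hVG hℓ hs hℓs hV hSG hS hFS }
    have h1 : ⁅S.map Ψ, R.map Ψ⁆ = ⊥ := hmain M s r ℓ _ _ _ _ T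
    rw [← Subgroup.map_commutator, Subgroup.map_eq_bot_iff] at h1
    exact Q.le_centralizer hVn hℓ hV (hcopS _ hSRS) (fun k hk => MonoidHom.mem_ker.mp (h1 hk))

end Cfsg.Agent.Lib.Helper20.FrobGBridge
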