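import Mathlib

set_option autoImplicit false

namespace Cfsg.Agent.Lib.helper14.G2J

/-- membership in the image of a subgroup under conjugation -/
theorem h20_mem_map_conj {G : Type*} [Group G] (H : Subgroup G) (x y : G) :
    y ∈ H.map (MulAut.conj x).toMonoidHom ↔ x⁻¹ * y * x ∈ H := by
  constructor
  · rintro ⟨z, hz, rfl⟩
    have : x⁻¹ * ((MulAut.conj x).toMonoidHom z) * x = z := by
      simp [MulAut.conj_apply, mul_assoc]
    rw [this]; exact hz
  · intro h
    refine ⟨x⁻¹ * y * x, h, ?_⟩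
    simp [MulAut.conj_apply, mul_assoc]

/-- membership in `(H ⊓ H^x).subgroupOf H` -/
theorem h20_mem_ep {G : Type*} [Group G] (H : Subgroup G) (x : G) (y : ↥H) :
    y ∈ (H ⊓ H.map (MulAut.conj x).toMonoidHom).subgroupOf H ↔ x⁻¹ * (y : G) * x ∈ H := by
  rw [Subgroup.mem_subgroupOf, Subgroup.mem_inf, h20_mem_map_conj]
  exact ⟨fun h => h.2, fun h => ⟨y.2, h⟩⟩

/-- G2J-T: transfer along an isomorphism. -/
theorem ep_transfer {G G' : Type*} [Group G] [Group G'] (e : G ≃* G') {J : Type*} [Group J]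
    (h : ∃ H : Subgroup G, IsCoatom H ∧ Nonempty (↥H ≃* J) ∧ ∀ x : G, x ∉ H →
      IsCoatom ((H ⊓ H.map (MulAut.conj x).toMonoidHom).subgroupOf H)) :
    ∃ H : Subgroup G', IsCoatom H ∧ Nonempty (↥H ≃* J) ∧ ∀ x : G', x ∉ H →
      IsCoatom ((H ⊓ H.map (MulAut.conj x).toMonoidHom).subgroupOf H) := by
  obtain ⟨H, hco, ⟨f⟩, hep⟩ := h
  have hmem : ∀ y' : G', y' ∈ H.map (e : G →* G') ↔ e.symm y' ∈ H := by
    intro y'
    constructor
    · rintro ⟨y, hy, rfl⟩
      simpa using hy
    · intro hy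
      exact ⟨e.symm y', hy, by simp⟩
  refine ⟨H.map (e : G →* G'), ?_, ⟨(e.subgroupMap H).symm.trans f⟩, ?_⟩
  · exact (OrderIso.isCoatom_iff e.mapSubgroup H).mpr hco
  · intro x' hx'
    have hx : e.symm x' ∉ H := fun hh => hx' ((hmem x').mpr hh)
    have h1 := hep (e.symm x') hx
    have h2 := (OrderIso.isCoatom_iff (e.subgroupMap H).mapSubgroup _).mpr h1
    rw [MulEquiv.mapSubgroup_apply] at h2
    have key : ((H.map (e : G →* G') ⊓
        (H.map (e : G →* G')).map (MulAut.conj x').toMonoidHom).subgroupOf (H.map (e : G →* G'))) =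
        Subgroup.map ((e.subgroupMap H : ↥H ≃* ↥(H.map (e : G →* G'))) : ↥H →* ↥(H.map (e : G →* G')))
          ((H ⊓ Subgroup.map (MulAut.conj (e.symm x')).toMonoidHom H).subgroupOf H) := ?_
    · rw [key]; exact h2
    ext ⟨y', hy'⟩
    constructor
    · intro h3
      rw [h20_mem_ep] at h3
      have hy : e.symm y' ∈ H := (hmem y').mp hy'
      refine Subgroup.mem_map.mpr ⟨⟨e.symm y', hy⟩, ?_, ?_⟩
      · rw [h20_mem_ep]
        have := (hmem _).mp h3
        simpa using this
      · apply Subtype.ext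
        have h7 := MulEquiv.coe_subgroupMap_apply e H ⟨e.symm y', hy⟩
        rw [MulEquiv.apply_symm_apply] at h7
        exact h7
    · intro h3
      obtain ⟨⟨y, hy⟩, h9, h4⟩ := Subgroup.mem_map.mp h3
      rw [h20_mem_ep] at h9
      have h5 : y' = e y := by
        have h6 := congrArg Subtype.val h4
        have h7 := MulEquiv.coe_subgroupMap_apply e H ⟨y, hy⟩
        simp only at h6 h7
        rw [← h6]
        exact h7
      rw [h20_mem_ep, hmem]
      subst h5
      simpa using h9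

end Cfsg.Agent.Lib.helper14.G2J
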