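import Mathlib
import Cfsg.Agent.Lib.Helper20.G2JT

set_option autoImplicit false

namespace Cfsg.Agent.Lib.helper14.G2J

/-- `H ∩ xHx⁻¹`, inside `H = stabilizer α`, is the stabiliser in `H` of `x • α`. -/
theorem h20_ep_eq_stabilizer {P : Type*} [Group P] {X : Type*} [MulAction P X] (α : X) (x : P) :
    (MulAction.stabilizer P α ⊓
        (MulAction.stabilizer P α).map (MulAut.conj x).toMonoidHom).subgroupOf
          (MulAction.stabilizer P α) =
      MulAction.stabilizer (MulAction.stabilizer P α) (x • α) := by
  ext y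
  rw [h20_mem_ep, MulAction.mem_stabilizer_iff, MulAction.mem_stabilizer_iff]
  rw [Subgroup.smul_def, mul_smul, mul_smul]
  constructor
  · intro h
    have := congrArg (fun z => x • z) h
    simpa using this
  · intro h
    rw [h]
    simp

/-- G2J-B: if the stabiliser `H` of `α` acts on each of its orbits (other than `{α}`) with a maximal
point stabiliser, then `H ∩ x H x⁻¹` is maximal in `H` for every `x ∉ H`. -/
theorem extremely_primitive_of_reps {P : Type*} [Group P] {X : Type*} [MulAction P X] (α : X)
    (reps : List X)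
    (hcover : ∀ x : X, x ∈ MulAction.orbit P α → x ≠ α →
      ∃ β ∈ reps, x ∈ MulAction.orbit (MulAction.stabilizer P α) β)
    (hco : ∀ β ∈ reps, IsCoatom (MulAction.stabilizer (MulAction.stabilizer P α) β)) :
    ∀ x : P, x ∉ MulAction.stabilizer P α →
      IsCoatom ((MulAction.stabilizer P α ⊓
        (MulAction.stabilizer P α).map (MulAut.conj x).toMonoidHom).subgroupOf
          (MulAction.stabilizer P α)) := by
  intro x hx
  rw [h20_ep_eq_stabilizer]
  have hne : x • α ≠ α := fun h => hx (MulAction.mem_stabilizer_iff.mpr h)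
  obtain ⟨β, hβ, hmem⟩ := hcover (x • α) (MulAction.mem_orbit α x) hne
  obtain ⟨h, hh⟩ := hmem
  have hh' : x • α = h • β := hh.symm
  rw [hh', MulAction.stabilizer_smul_eq_stabilizer_map_conj]
  have h1 := hco β hβ
  have h2 := (OrderIso.isCoatom_iff (MulAut.conj h).mapSubgroup _).mpr h1
  rw [MulEquiv.mapSubgroup_apply] at h2
  exact h2

end Cfsg.Agent.Lib.helper14.G2J
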