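import Mathlib
import Cfsg.Agent.Lib.helper23.PgE

set_option autoImplicit false

namespace Cfsg.Agent.Lib.helper14.G2J

open Cfsg.Agent.Lib.helper23
open scoped Pointwise

/-- the orbit check: `inO` contains `b`, is closed under the generators, and the word `path z`
(letters `j < gens.length` are generators, `gens.length ≤ j` inverses, as in `pgEvalW`) maps `b` to
`z` for every `z` in `inO` -/
def pgOrbChk (n : ℕ) (gens : List PFun) (b : ℕ) (inO : ℕ → Bool) (path : ℕ → List ℕ) : Bool :=
  (Nat.blt b n && inO b) && pgAll n (fun z => cond (inO z)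
    (pgAllL gens (fun s => inO (s.f z)) &&
      (pgAllL (path z) (fun j => Nat.blt j (Nat.mul 2 gens.length)) &&
        Nat.beq (pgEvalW gens (path z) b) z))
    true)

/-- what the orbit check says -/
theorem h20_pgOrbChk_unfold {n : ℕ} {gens : List PFun} {b : ℕ}
    {inO : ℕ → Bool} {path : ℕ → List ℕ} (h : pgOrbChk n gens b inO path = true) :
    inO b = true ∧ ∀ z < n, inO z = true →
      (∀ s ∈ gens, inO (s.f z) = true) ∧ pgEvalW gens (path z) b = z := by
  unfold pgOrbChk at h
  rw [Bool.and_eq_true, Bool.and_eq_true, pgAll_iff] at h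
  obtain ⟨⟨-, h1⟩, h2⟩ := h
  refine ⟨h1, ?_⟩
  intro z hz hin
  have h3 := h2 z hz
  rw [hin] at h3
  simp only [cond_true, Bool.and_eq_true, Nat.beq_eq] at h3
  exact ⟨(pgAllL_iff _ _).mp h3.1, h3.2.2⟩

/-- G2J-O: the orbit of `b` under the group generated by `gens` is the set `inO`. -/
theorem pgOrbChk_spec {n : ℕ} {gens : List PFun} (hok : ∀ P ∈ gens, P.ok n = true) {b : ℕ}
    {inO : ℕ → Bool} {path : ℕ → List ℕ} (h : pgOrbChk n gens b inO path = true) (hb : b < n) :
    MulAction.orbit ↥(Subgroup.closure (pgSet n gens)) (⟨b, hb⟩ : Fin n) =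
      {z : Fin n | inO z.1 = true} := by
  obtain ⟨hbin, hall⟩ := h20_pgOrbChk_unfold h
  set S : Set (Fin n) := {z : Fin n | inO z.1 = true} with hS
  have hfin : S.Finite := Set.toFinite S
  apply Set.Subset.antisymm
  · -- the orbit is inside `S`
    have hle : Subgroup.closure (pgSet n gens) ≤ MulAction.stabilizer (Equiv.Perm (Fin n)) S := by
      rw [Subgroup.closure_le]
      rintro σ ⟨P, hP, rfl⟩
      rw [SetLike.mem_coe, MulAction.mem_stabilizer_set' hfin]
      intro z hz
      show inO ((P.perm n) z).1 = true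
      rw [PFun.perm_apply (hok P hP)]
      exact (hall z.1 z.2 hz).1 P hP
    rintro z ⟨⟨g, hg⟩, rfl⟩
    have h1 := hle hg
    rw [MulAction.mem_stabilizer_set' hfin] at h1
    exact h1 (show (⟨b, hb⟩ : Fin n) ∈ S from hbin)
  · intro z hz
    have h1 : pgEvalW gens (path z.1) b = z.1 := (hall z.1 z.2 hz).2
    refine ⟨⟨pgWordPerm n gens (path z.1), pgWordPerm_mem hok _⟩, ?_⟩
    apply Fin.ext
    show ((pgWordPerm n gens (path z.1)) ⟨b, hb⟩).1 = z.1
    rw [pgWordPerm_apply hok]
    exact h1

end Cfsg.Agent.Lib.helper14.G2J
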