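import Mathlib
import Cfsg.Agent.Lib.Helper20.GLE.Defs
import Cfsg.Agent.Lib.Helper20.GLE.DefsM
import Cfsg.Agent.Lib.Helper29.SPMA3

/-!
# GLE rows M1 M2 M3 M4 (helper20): the frame calculus, the permutation matrices, `nuM`
-/

set_option autoImplicit false
set_option linter.unusedSectionVars false

namespace Cfsg.Agent.Lib.Helper20.GLE

open Matrix
open Cfsg.Agent.Lib.helper15.SUn
open Cfsg.Agent.Lib.helper3.STC (ng ab)
open Cfsg.Agent.Lib.helper3.SPM (Pts pe sgm sgm_ng sgm_one sgm_mul)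
open Cfsg.Agent.Lib.Helper27.STU
open Cfsg.Agent.Lib.Helper19.MOD (Ctx)

universe u

section M

variable {F : Type u} [Field F] [StarRing F] {n q m : ℕ} (C : Ctx F n q m False)

/-- sums in the first variable -/
theorem glem1_herm_sum_left {κ : Type*} (s : Finset κ) (f : κ → Fin n → F) (z : Fin n → F) :
    Cfsg.hermForm n F q (∑ a ∈ s, f a) z = ∑ a ∈ s, Cfsg.hermForm n F q (f a) z := by
  classical
  induction s using Finset.induction_on with
  | empty => rw [Finset.sum_empty, Finset.sum_empty, herm_zero_left]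
  | insert a s ha ih => rw [Finset.sum_insert ha, Finset.sum_insert ha, herm_add_left, ih]

/-- sums in the second variable -/
theorem glem1_herm_sum_right {σ : F ≃+* F} (hσ : ∀ x, σ x = x ^ q) {κ : Type*} (s : Finset κ) (f : κ → Fin n → F)
    (z : Fin n → F) :
    Cfsg.hermForm n F q z (∑ a ∈ s, f a) = ∑ a ∈ s, Cfsg.hermForm n F q z (f a) := by
  classical
  induction s using Finset.induction_on with
  | empty => rw [Finset.sum_empty, Finset.sum_empty, herm_zero_right hσ]
  | insert a s ha ih => rw [Finset.sum_insert ha, Finset.sum_insert ha, herm_add_right hσ, ih]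

/-- the sesquilinear expansion -/
theorem glem1_herm_expand {σ : F ≃+* F} (hσ : ∀ x, σ x = x ^ q) {κ : Type*} [Fintype κ] (u v : κ → Fin n → F) (α β : κ → F) :
    Cfsg.hermForm n F q (∑ a, α a • u a) (∑ b, β b • v b) =
      ∑ a, ∑ b, α a * σ (β b) * Cfsg.hermForm n F q (u a) (v b) := by
  rw [glem1_herm_sum_left]
  apply Finset.sum_congr rfl
  intro a _
  rw [glem1_herm_sum_right hσ]
  apply Finset.sum_congr rfl
  intro b _
  rw [herm_smul_left, herm_smul_right hσ]
  ring

theorem frame_span (x : Fin n → F) : x = ∑ a, Cfsg.hermForm n F q x (C.fr (ng a)) • C.fr a := by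
  have h := C.span x
  rw [C.dv0 not_false, smul_zero, add_zero] at h
  exact h

/-- the image of a vector in terms of the images of the frame vectors -/
theorem glem1_mulVec_span (M : Matrix (Fin n) (Fin n) F) (x : Fin n → F) :
    M *ᵥ x = ∑ a, Cfsg.hermForm n F q x (C.fr (ng a)) • (M *ᵥ C.fr a) := by
  conv_lhs => rw [frame_span C x]
  rw [Matrix.mulVec_sum]
  apply Finset.sum_congr rfl
  intro a _
  rw [Matrix.mulVec_smul]

theorem frame_ext {M N : Matrix (Fin n) (Fin n) F} (h : ∀ a, M *ᵥ C.fr a = N *ᵥ C.fr a) : M = N := by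
  apply mat_ext
  intro x
  rw [glem1_mulVec_span C M x, glem1_mulVec_span C N x]
  apply Finset.sum_congr rfl
  intro a _
  rw [h a]

theorem iso_of_frame {M : Matrix (Fin n) (Fin n) F}
    (h : ∀ a b, Cfsg.hermForm n F q (M *ᵥ C.fr a) (M *ᵥ C.fr b) = Cfsg.hermForm n F q (C.fr a) (C.fr b)) (x y : Fin n → F) :
    Cfsg.hermForm n F q (M *ᵥ x) (M *ᵥ y) = Cfsg.hermForm n F q x y := by
  rw [glem1_mulVec_span C M x, glem1_mulVec_span C M y, glem1_herm_expand C.hσ]
  conv_rhs => rw [frame_span C x, frame_span C y, glem1_herm_expand C.hσ]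
  apply Finset.sum_congr rfl
  intro a _
  apply Finset.sum_congr rfl
  intro b _
  rw [h a b]

/-! ## the permutation matrices -/

theorem permMat_mulVec (σ : Equiv.Perm (Fin m)) (x : Fin n → F) :
    permMat C σ *ᵥ x = ∑ a, Cfsg.hermForm n F q x (C.fr (ng a)) • C.fr (sgm σ a) := by
  unfold permMat
  rw [Matrix.sum_mulVec]
  apply Finset.sum_congr rfl
  intro a _
  rw [R_mulVec C.hσ]

theorem permMat_fr (σ : Equiv.Perm (Fin m)) (a : Fin m ⊕ Fin m) : permMat C σ *ᵥ C.fr a = C.fr (sgm σ a) := by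
  rw [permMat_mulVec]
  rw [Finset.sum_eq_single a]
  · rw [C.gram1, one_smul]
  · intro b _ hb
    rw [C.gram0 a (ng b) (fun h => hb (Cfsg.Agent.Lib.Helper19.MOD.ng_inj.1 h)), zero_smul]
  · intro h
    exact absurd (Finset.mem_univ a) h

theorem permMat_one : permMat C 1 = 1 := by
  apply frame_ext C
  intro a
  rw [permMat_fr, sgm_one, Matrix.one_mulVec]
  rfl

theorem permMat_mul (σ τ : Equiv.Perm (Fin m)) : permMat C (σ * τ) = permMat C σ * permMat C τ := by
  apply frame_ext C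
  intro a
  rw [← Matrix.mulVec_mulVec, permMat_fr, permMat_fr, permMat_fr, sgm_mul]
  rfl

theorem permMat_iso (σ : Equiv.Perm (Fin m)) (x y : Fin n → F) :
    Cfsg.hermForm n F q (permMat C σ *ᵥ x) (permMat C σ *ᵥ y) = Cfsg.hermForm n F q x y := by
  apply iso_of_frame C
  intro a b
  rw [permMat_fr, permMat_fr, C.gram, C.gram, ← sgm_ng]
  by_cases h : b = ng a
  · rw [if_pos h, if_pos (by rw [h])]
  · rw [if_neg h, if_neg (fun h' => h ((sgm σ).injective h'))]

/-- the matrix of the frame -/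
def glem3_T : Matrix (Fin n) (Fin m ⊕ Fin m) F := Matrix.of fun x a => C.fr a x

/-- the matrix of the dual frame -/
def glem3_T' : Matrix (Fin m ⊕ Fin m) (Fin n) F := Matrix.of fun a x => C.σ (C.fr (ng a) x)

theorem glem3_herm (u v : Fin n → F) : Cfsg.hermForm n F q u v = ∑ x, u x * C.σ (v x) := by
  unfold Cfsg.hermForm
  apply Finset.sum_congr rfl
  intro x _
  rw [C.hσ]

theorem glem3_T'_mul_T : (glem3_T' C : Matrix (Fin m ⊕ Fin m) (Fin n) F) * (glem3_T C : Matrix (Fin n) (Fin m ⊕ Fin m) F) = 1 := by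
  ext a b
  rw [Matrix.mul_apply, Matrix.one_apply]
  have h : ∑ x, glem3_T' C a x * glem3_T C x b = Cfsg.hermForm n F q (C.fr b) (C.fr (ng a)) := by
    rw [glem3_herm C]
    apply Finset.sum_congr rfl
    intro x _
    simp only [glem3_T, glem3_T', Matrix.of_apply]
    ring
  rw [h, C.gram]
  by_cases hab : a = b
  · rw [if_pos hab, if_pos (by rw [hab])]
  · rw [if_neg hab, if_neg (fun h' => hab (Cfsg.Agent.Lib.Helper19.MOD.ng_inj.1 h'))]

/-- the entries of the permutation matrix -/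
theorem glem3_permMat_apply (σ : Equiv.Perm (Fin m)) (x y : Fin n) :
    permMat C σ x y = ∑ a, C.fr (sgm σ a) x * C.σ (C.fr (ng a) y) := by
  unfold permMat
  rw [Matrix.sum_apply]
  apply Finset.sum_congr rfl
  intro a _
  rfl

/-- the permutation matrix of the signed indices -/
def glem3_Pi (σ : Equiv.Perm (Fin m)) : Matrix (Fin m ⊕ Fin m) (Fin m ⊕ Fin m) F :=
  Matrix.of fun a b => if a = sgm σ b then 1 else 0

theorem glem3_permMat_eq (σ : Equiv.Perm (Fin m)) :
    permMat C σ = (glem3_T C : Matrix (Fin n) (Fin m ⊕ Fin m) F) * (glem3_Pi σ : Matrix (Fin m ⊕ Fin m) (Fin m ⊕ Fin m) F) *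
      (glem3_T' C : Matrix (Fin m ⊕ Fin m) (Fin n) F) := by
  ext x y
  rw [glem3_permMat_apply, Matrix.mul_apply]
  apply Finset.sum_congr rfl
  intro b _
  rw [Matrix.mul_apply]
  rw [Finset.sum_eq_single (sgm σ b)]
  · simp only [glem3_T, glem3_T', glem3_Pi, Matrix.of_apply, if_true, mul_one]
  · intro a _ ha
    simp only [glem3_Pi, Matrix.of_apply, if_neg ha, mul_zero]
  · intro h
    exact absurd (Finset.mem_univ _) h

theorem glem3_T_mul_T' : (glem3_T C : Matrix (Fin n) (Fin m ⊕ Fin m) F) * (glem3_T' C : Matrix (Fin m ⊕ Fin m) (Fin n) F) = 1 := by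
  have h := glem3_permMat_eq C 1
  rw [permMat_one] at h
  have h1 : glem3_Pi (F := F) (1 : Equiv.Perm (Fin m)) = 1 := by
    ext a b
    simp only [glem3_Pi, Matrix.of_apply, sgm_one, Equiv.Perm.coe_one, id_eq, Matrix.one_apply]
  rw [h1, Matrix.mul_one] at h
  exact h.symm

theorem glem3_det_Pi (σ : Equiv.Perm (Fin m)) : (glem3_Pi (F := F) σ).det = 1 := by
  have h : glem3_Pi (F := F) σ = ((sgm σ).permMatrix F)ᵀ := by
    ext a b
    simp only [glem3_Pi, Matrix.of_apply, Matrix.transpose_apply, Equiv.Perm.permMatrix, Equiv.toPEquiv_apply,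
      PEquiv.toMatrix_apply, Option.mem_def, Option.some.injEq]
    by_cases hab : a = sgm σ b
    · rw [if_pos hab, if_pos hab.symm]
    · rw [if_neg hab, if_neg (fun h' => hab h'.symm)]
  rw [h, Matrix.det_transpose, Matrix.det_permutation]
  have hs : Equiv.Perm.sign (sgm σ) = 1 := by
    unfold sgm
    rw [Equiv.Perm.sign_sumCongr, Int.units_mul_self]
  rw [hs]
  simp

theorem permMat_det (σ : Equiv.Perm (Fin m)) : (permMat C σ).det = 1 := by
  rw [glem3_permMat_eq, Matrix.det_conj_of_mul_eq_one (glem3_T_mul_T' C) (glem3_T'_mul_T C), glem3_det_Pi]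

/-- the homomorphism exists -/
theorem glem4_exists : ∃ φ : Equiv.Perm (Fin m) →* ↥(Cfsg.SU n F q), ∀ σ,
    ((φ σ : Matrix.SpecialLinearGroup (Fin n) F) : Matrix (Fin n) (Fin n) F) = permMat C σ := by
  refine ⟨MonoidHom.mk' (fun σ => mkSU (permMat C σ) (permMat_det C σ) (permMat_iso C σ)) ?_, fun σ => rfl⟩
  intro σ τ
  apply su_ext
  rw [su_coe_mul]
  exact permMat_mul C σ τ

theorem nuM_coe (σ : Equiv.Perm (Fin m)) :
    ((nuM C σ : Matrix.SpecialLinearGroup (Fin n) F) : Matrix (Fin n) (Fin n) F) = permMat C σ := by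
  unfold nuM
  rw [dif_pos (glem4_exists C)]
  exact (glem4_exists C).choose_spec σ

theorem nuM_fr (σ : Equiv.Perm (Fin m)) (a : Fin m ⊕ Fin m) :
    ((nuM C σ : Matrix.SpecialLinearGroup (Fin n) F) : Matrix (Fin n) (Fin n) F) *ᵥ C.fr a = C.fr (sgm σ a) := by
  rw [nuM_coe, permMat_fr]

end M

end Cfsg.Agent.Lib.Helper20.GLE
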