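import Mathlib
import Cfsg.Agent.Lib.Helper20.GLE.Defs
import Cfsg.Agent.Lib.Helper20.GLE.DefsM
import Cfsg.Agent.Lib.Helper20.GLEM1
import Cfsg.Agent.Lib.Helper29.SPMA3
import Cfsg.Agent.Lib.Helper29.SPMA4

/-!
# GLE rows M5 M6 M7 M8 (helper20): the block embedding `embMat`, `lamM`
-/

set_option autoImplicit false
set_option linter.unusedSectionVars false

namespace Cfsg.Agent.Lib.Helper20.GLE

open Matrix
open Cfsg.Agent.Lib.helper15.SUn
open Cfsg.Agent.Lib.helper3.STC (ng ab)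
open Cfsg.Agent.Lib.helper3.SPM (Pts pe sgm pe2 pe_eq_pe2 pe2_injective pe2_ng ab_pe2 exists_pe2)
open Cfsg.Agent.Lib.Helper27.STU
open Cfsg.Agent.Lib.Helper19.MOD (Ctx)

universe u

section M

variable {F : Type u} [Field F] [StarRing F] {n q m : ℕ} (C : Ctx F n q m False) (C₂ : Ctx F 4 q 2 False) (p : Pts (Fin m))

theorem glem5_pe_inj : Function.Injective (pe p) := by
  intro a b h
  rw [pe_eq_pe2, pe_eq_pe2] at h
  exact pe2_injective p.h01 h

theorem glem5_pe_ng (a : Fin 2 ⊕ Fin 2) : pe p (ng a) = ng (pe p a) := by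
  rw [pe_eq_pe2, pe_eq_pe2, pe2_ng]

theorem glem5_ab_pe (a : Fin 2 ⊕ Fin 2) : ab (pe p a) = p.o0 ∨ ab (pe p a) = p.o1 := by
  rw [pe_eq_pe2, ab_pe2]
  rcases a with a | a <;> fin_cases a <;> simp [ab]

theorem glem5_exists_pe {a : Fin m ⊕ Fin m} (ha : ab a = p.o0 ∨ ab a = p.o1) : ∃ a', pe p a' = a := by
  obtain ⟨a', h⟩ := exists_pe2 p.o0 p.o1 ha
  exact ⟨a', by rw [pe_eq_pe2, h]⟩

/-- the Gram matrix of the frame vectors of the block -/
theorem glem5_gram_pe (a' b' : Fin 2 ⊕ Fin 2) :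
    Cfsg.hermForm n F q (C.fr (pe p a')) (C.fr (pe p b')) = if b' = ng a' then 1 else 0 := by
  rw [C.gram, ← glem5_pe_ng]
  by_cases h : b' = ng a'
  · rw [if_pos h, if_pos (by rw [h])]
  · rw [if_neg h, if_neg (fun h' => h (glem5_pe_inj p h'))]

theorem glem5_gram_out {a : Fin m ⊕ Fin m} (ha : ab a ≠ p.o0) (ha' : ab a ≠ p.o1) (b' : Fin 2 ⊕ Fin 2) :
    Cfsg.hermForm n F q (C.fr a) (C.fr (pe p b')) = 0 := by
  rw [C.gram, if_neg]
  intro h
  have h2 : ab a = ab (pe p (ng b')) := by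
    rw [glem5_pe_ng, h, Cfsg.Agent.Lib.Helper19.MOD.ng_ng]
  rcases glem5_ab_pe p (ng b') with h3 | h3
  · exact ha (h2.trans h3)
  · exact ha' (h2.trans h3)

theorem glem5_gram_out' {a : Fin m ⊕ Fin m} (ha : ab a ≠ p.o0) (ha' : ab a ≠ p.o1) (b' : Fin 2 ⊕ Fin 2) :
    Cfsg.hermForm n F q (C.fr (pe p b')) (C.fr a) = 0 := by
  rw [C.gram, if_neg]
  intro h
  have h2 : ab a = ab (pe p (ng b')) := by
    rw [glem5_pe_ng, h]
  rcases glem5_ab_pe p (ng b') with h3 | h3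
  · exact ha (h2.trans h3)
  · exact ha' (h2.trans h3)

/-- the action of `embMat` -/
theorem glem5_embMat_mulVec (A : Matrix (Fin 4) (Fin 4) F) (x : Fin n → F) :
    embMat C C₂ p A *ᵥ x = x + ∑ a' : Fin 2 ⊕ Fin 2, ∑ b' : Fin 2 ⊕ Fin 2,
      ((C₂.co (A *ᵥ C₂.fr a') b' - if b' = a' then 1 else 0) * Cfsg.hermForm n F q x (C.fr (ng (pe p a')))) • C.fr (pe p b') := by
  unfold embMat
  rw [Matrix.add_mulVec, Matrix.one_mulVec, Matrix.sum_mulVec]
  congr 1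
  apply Finset.sum_congr rfl
  intro a' _
  rw [Matrix.sum_mulVec]
  apply Finset.sum_congr rfl
  intro b' _
  rw [Matrix.smul_mulVec, R_mulVec C.hσ, smul_smul]

theorem embMat_fr_pe (A : Matrix (Fin 4) (Fin 4) F) (a' : Fin 2 ⊕ Fin 2) :
    embMat C C₂ p A *ᵥ C.fr (pe p a') = ∑ b', C₂.co (A *ᵥ C₂.fr a') b' • C.fr (pe p b') := by
  rw [glem5_embMat_mulVec]
  rw [Finset.sum_eq_single a']
  · have h1 : Cfsg.hermForm n F q (C.fr (pe p a')) (C.fr (ng (pe p a'))) = 1 := C.gram1 _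
    simp only [h1, mul_one, sub_smul, Finset.sum_sub_distrib]
    have h2 : ∑ b' : Fin 2 ⊕ Fin 2, (if b' = a' then (1 : F) else 0) • C.fr (pe p b') = C.fr (pe p a') := by
      rw [Finset.sum_eq_single a']
      · rw [if_pos rfl, one_smul]
      · intro b _ hb
        rw [if_neg hb, zero_smul]
      · intro h
        exact absurd (Finset.mem_univ _) h
    rw [h2]
    abel
  · intro c' _ hc
    apply Finset.sum_eq_zero
    intro b' _
    have hg : Cfsg.hermForm n F q (C.fr (pe p a')) (C.fr (ng (pe p c'))) = 0 := by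
      rw [← glem5_pe_ng, glem5_gram_pe, if_neg]
      intro h
      exact hc (Cfsg.Agent.Lib.Helper19.MOD.ng_inj.1 h)
    rw [hg, mul_zero, zero_smul]
  · intro h
    exact absurd (Finset.mem_univ _) h

theorem embMat_fr_out (A : Matrix (Fin 4) (Fin 4) F) {a : Fin m ⊕ Fin m} (ha : ab a ≠ p.o0) (ha' : ab a ≠ p.o1) :
    embMat C C₂ p A *ᵥ C.fr a = C.fr a := by
  rw [glem5_embMat_mulVec]
  rw [Finset.sum_eq_zero, add_zero]
  intro a' _
  apply Finset.sum_eq_zero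
  intro b' _
  rw [← glem5_pe_ng, glem5_gram_out C p ha ha', mul_zero, zero_smul]

/-- coordinates of the frame vectors -/
theorem glem5_co_fr (a' b' : Fin 2 ⊕ Fin 2) : C₂.co (C₂.fr a') b' = if b' = a' then 1 else 0 := by
  unfold Ctx.co
  rw [C₂.gram]
  by_cases h : b' = a'
  · rw [if_pos h, if_pos (by rw [h])]
  · rw [if_neg h, if_neg (fun h' => h (Cfsg.Agent.Lib.Helper19.MOD.ng_inj.1 h'))]

theorem embMat_one : embMat C C₂ p 1 = 1 := by
  unfold embMat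
  have h : ∀ a' b' : Fin 2 ⊕ Fin 2, (C₂.co ((1 : Matrix (Fin 4) (Fin 4) F) *ᵥ C₂.fr a') b' - if b' = a' then 1 else 0) = 0 := by
    intro a' b'
    rw [Matrix.one_mulVec, glem5_co_fr, sub_self]
  simp only [h, zero_smul, Finset.sum_const_zero, add_zero]

/-- a frame vector is in the block or outside -/
theorem glem5_cases (a : Fin m ⊕ Fin m) : (∃ a', pe p a' = a) ∨ (ab a ≠ p.o0 ∧ ab a ≠ p.o1) := by
  by_cases h0 : ab a = p.o0
  · exact Or.inl (glem5_exists_pe p (Or.inl h0))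
  · by_cases h1 : ab a = p.o1
    · exact Or.inl (glem5_exists_pe p (Or.inr h1))
    · exact Or.inr ⟨h0, h1⟩

/-- the coordinates are linear -/
theorem glem5_co_sum {κ : Type*} (s : Finset κ) (f : κ → Fin 4 → F) (α : κ → F) (b' : Fin 2 ⊕ Fin 2) :
    C₂.co (∑ c ∈ s, α c • f c) b' = ∑ c ∈ s, α c * C₂.co (f c) b' := by
  unfold Ctx.co
  rw [glem1_herm_sum_left]
  apply Finset.sum_congr rfl
  intro c _
  rw [herm_smul_left]

theorem embMat_mul (A B : Matrix (Fin 4) (Fin 4) F) : embMat C C₂ p (A * B) = embMat C C₂ p A * embMat C C₂ p B := by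
  apply frame_ext C
  intro a
  rw [← Matrix.mulVec_mulVec]
  rcases glem5_cases p a with ⟨c', rfl⟩ | ⟨h0, h1⟩
  · rw [embMat_fr_pe, embMat_fr_pe, Matrix.mulVec_sum]
    have h1 : ∀ b' : Fin 2 ⊕ Fin 2, embMat C C₂ p A *ᵥ (C₂.co (B *ᵥ C₂.fr c') b' • C.fr (pe p b')) =
        ∑ d', (C₂.co (B *ᵥ C₂.fr c') b' * C₂.co (A *ᵥ C₂.fr b') d') • C.fr (pe p d') := by
      intro b'
      rw [Matrix.mulVec_smul, embMat_fr_pe, Finset.smul_sum]
      apply Finset.sum_congr rfl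
      intro d' _
      rw [smul_smul]
    simp only [h1]
    rw [Finset.sum_comm]
    apply Finset.sum_congr rfl
    intro d' _
    rw [← Finset.sum_smul]
    congr 1
    rw [← Matrix.mulVec_mulVec, glem1_mulVec_span C₂ A (B *ᵥ C₂.fr c'), glem5_co_sum]
    rfl
  · rw [embMat_fr_out C C₂ p _ h0 h1, embMat_fr_out C C₂ p _ h0 h1, embMat_fr_out C C₂ p _ h0 h1]

/-- the form on two images of frame vectors of the block -/
theorem glem6_in_in (A : Matrix (Fin 4) (Fin 4) F) (a₁ a₂ : Fin 2 ⊕ Fin 2) :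
    Cfsg.hermForm n F q (embMat C C₂ p A *ᵥ C.fr (pe p a₁)) (embMat C C₂ p A *ᵥ C.fr (pe p a₂)) =
      Cfsg.hermForm 4 F q (A *ᵥ C₂.fr a₁) (A *ᵥ C₂.fr a₂) := by
  rw [embMat_fr_pe, embMat_fr_pe, glem1_herm_expand C.hσ]
  conv_rhs => rw [frame_span C₂ (A *ᵥ C₂.fr a₁), frame_span C₂ (A *ᵥ C₂.fr a₂), glem1_herm_expand C₂.hσ]
  apply Finset.sum_congr rfl
  intro b' _
  apply Finset.sum_congr rfl
  intro d' _
  rw [glem5_gram_pe, C₂.gram]
  have hσ : ∀ z : F, C.σ z = C₂.σ z := fun z => by rw [C.hσ, C₂.hσ]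
  rw [hσ]
  rfl

theorem embMat_iso {A : Matrix (Fin 4) (Fin 4) F}
    (hA : ∀ x y, Cfsg.hermForm 4 F q (A *ᵥ x) (A *ᵥ y) = Cfsg.hermForm 4 F q x y) (x y : Fin n → F) :
    Cfsg.hermForm n F q (embMat C C₂ p A *ᵥ x) (embMat C C₂ p A *ᵥ y) = Cfsg.hermForm n F q x y := by
  apply iso_of_frame C
  intro a b
  rcases glem5_cases p a with ⟨a', rfl⟩ | ⟨h0, h1⟩
  · rcases glem5_cases p b with ⟨b', rfl⟩ | ⟨h0', h1'⟩
    · rw [glem6_in_in, hA, glem5_gram_pe, C₂.gram]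
    · rw [embMat_fr_out C C₂ p _ h0' h1', embMat_fr_pe, glem1_herm_sum_left, glem5_gram_out' C p h0' h1']
      apply Finset.sum_eq_zero
      intro c' _
      rw [herm_smul_left, glem5_gram_out' C p h0' h1', mul_zero]
  · rcases glem5_cases p b with ⟨b', rfl⟩ | ⟨h0', h1'⟩
    · rw [embMat_fr_out C C₂ p _ h0 h1, embMat_fr_pe, glem1_herm_sum_right C.hσ, glem5_gram_out C p h0 h1]
      apply Finset.sum_eq_zero
      intro c' _
      rw [herm_smul_right C.hσ, glem5_gram_out C p h0 h1, mul_zero]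
    · rw [embMat_fr_out C C₂ p _ h0 h1, embMat_fr_out C C₂ p _ h0' h1']

/-! ## the determinant -/

/-- the matrix of the frame vectors of the block -/
def glem7_U : Matrix (Fin n) (Fin 2 ⊕ Fin 2) F := Matrix.of fun x b' => C.fr (pe p b') x

/-- the matrix of the dual frame vectors of the block -/
def glem7_U' : Matrix (Fin 2 ⊕ Fin 2) (Fin n) F := Matrix.of fun a' y => C.σ (C.fr (ng (pe p a')) y)

/-- the matrix of `A` in the coordinates of the frame `C₂` -/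
def glem7_hat (A : Matrix (Fin 4) (Fin 4) F) : Matrix (Fin 2 ⊕ Fin 2) (Fin 2 ⊕ Fin 2) F :=
  Matrix.of fun b' a' => C₂.co (A *ᵥ C₂.fr a') b'

theorem glem7_U'_mul_U : (glem7_U' C p : Matrix (Fin 2 ⊕ Fin 2) (Fin n) F) * (glem7_U C p : Matrix (Fin n) (Fin 2 ⊕ Fin 2) F) = 1 := by
  ext a' b'
  rw [Matrix.mul_apply, Matrix.one_apply]
  have h : ∑ x, glem7_U' C p a' x * glem7_U C p x b' = Cfsg.hermForm n F q (C.fr (pe p b')) (C.fr (ng (pe p a'))) := by
    rw [glem3_herm C]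
    apply Finset.sum_congr rfl
    intro x _
    simp only [glem7_U, glem7_U', Matrix.of_apply]
    ring
  rw [h, ← glem5_pe_ng, glem5_gram_pe]
  by_cases hab : a' = b'
  · rw [if_pos hab, if_pos (by rw [hab])]
  · rw [if_neg hab, if_neg (fun h' => hab (Cfsg.Agent.Lib.Helper19.MOD.ng_inj.1 h'))]

theorem glem7_embMat_eq (A : Matrix (Fin 4) (Fin 4) F) :
    embMat C C₂ p A = 1 + (glem7_U C p : Matrix (Fin n) (Fin 2 ⊕ Fin 2) F) *
      (((glem7_hat C₂ A : Matrix (Fin 2 ⊕ Fin 2) (Fin 2 ⊕ Fin 2) F) - 1) * (glem7_U' C p : Matrix (Fin 2 ⊕ Fin 2) (Fin n) F)) := by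
  unfold embMat
  congr 1
  ext x y
  simp only [Matrix.sum_apply, Matrix.smul_apply, Matrix.mul_apply, Matrix.sub_apply, Matrix.one_apply, smul_eq_mul,
    glem7_U, glem7_U', glem7_hat, Matrix.of_apply, R, Matrix.vecMulVec_apply]
  rw [Finset.sum_comm]
  apply Finset.sum_congr rfl
  intro j _
  rw [Finset.mul_sum]
  apply Finset.sum_congr rfl
  intro c _
  ring

/-- the matrix of `A` in the coordinates of the frame is conjugate to `A` -/
theorem glem7_hat_eq (A : Matrix (Fin 4) (Fin 4) F) :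
    glem7_hat C₂ A = (glem3_T' C₂ : Matrix (Fin 2 ⊕ Fin 2) (Fin 4) F) * A * (glem3_T C₂ : Matrix (Fin 4) (Fin 2 ⊕ Fin 2) F) := by
  ext b' a'
  simp only [glem7_hat, Matrix.of_apply, Ctx.co]
  rw [glem3_herm C₂, Matrix.mul_apply]
  simp only [Matrix.mul_apply, Matrix.mulVec, dotProduct, Finset.sum_mul, glem3_T, glem3_T', Matrix.of_apply]
  rw [Finset.sum_comm]
  apply Finset.sum_congr rfl
  intro x _
  apply Finset.sum_congr rfl
  intro y _
  ring

theorem embMat_det (A : Matrix (Fin 4) (Fin 4) F) : (embMat C C₂ p A).det = A.det := by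
  rw [glem7_embMat_eq, Matrix.det_one_add_mul_comm, Matrix.mul_assoc, glem7_U'_mul_U, Matrix.mul_one,
    add_sub_cancel, glem7_hat_eq, Matrix.det_conj_of_mul_eq_one (glem3_T'_mul_T C₂) (glem3_T_mul_T' C₂)]

/-- the homomorphism exists -/
theorem glem8_exists : ∃ φ : ↥(Cfsg.SU 4 F q) →* ↥(Cfsg.SU n F q), ∀ A : ↥(Cfsg.SU 4 F q),
    ((φ A : Matrix.SpecialLinearGroup (Fin n) F) : Matrix (Fin n) (Fin n) F) =
      embMat C C₂ p ((A : Matrix.SpecialLinearGroup (Fin 4) F) : Matrix (Fin 4) (Fin 4) F) := by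
  refine ⟨MonoidHom.mk' (fun A => mkSU (embMat C C₂ p ((A : Matrix.SpecialLinearGroup (Fin 4) F) : Matrix (Fin 4) (Fin 4) F))
    (by rw [embMat_det, su_det]) (embMat_iso C C₂ p (su_iso A))) ?_, fun A => rfl⟩
  intro A B
  apply su_ext
  change embMat C C₂ p (((A * B : ↥(Cfsg.SU 4 F q)) : Matrix.SpecialLinearGroup (Fin 4) F) : Matrix (Fin 4) (Fin 4) F) =
    embMat C C₂ p ((A : Matrix.SpecialLinearGroup (Fin 4) F) : Matrix (Fin 4) (Fin 4) F) *
      embMat C C₂ p ((B : Matrix.SpecialLinearGroup (Fin 4) F) : Matrix (Fin 4) (Fin 4) F)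
  rw [su_coe_mul, embMat_mul]

theorem lamM_coe (A : ↥(Cfsg.SU 4 F q)) :
    ((lamM C C₂ p A : Matrix.SpecialLinearGroup (Fin n) F) : Matrix (Fin n) (Fin n) F) =
      embMat C C₂ p ((A : Matrix.SpecialLinearGroup (Fin 4) F) : Matrix (Fin 4) (Fin 4) F) := by
  unfold lamM
  rw [dif_pos (glem8_exists C C₂ p)]
  exact (glem8_exists C C₂ p).choose_spec A

end M

end Cfsg.Agent.Lib.Helper20.GLE
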