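import Mathlib
import Cfsg.Agent.Lib.Helper20.GLE.Defs
import Cfsg.Agent.Lib.Helper20.GLE.DefsM
import Cfsg.Agent.Lib.Helper20.GLEM1
import Cfsg.Agent.Lib.Helper20.GLEM5
import Cfsg.Agent.Lib.Helper20.SPMA1
import Cfsg.Agent.Lib.Helper29.SPMA3
import Cfsg.Agent.Lib.Helper29.SPMA4
import Cfsg.Agent.Lib.Helper24.STCI1

/-!
# GLE rows M9 - M16 (helper20): the root elements on the matrix side, the gluing relations in `SU_n(q)`
-/

set_option autoImplicit false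
set_option linter.unusedSectionVars false

namespace Cfsg.Agent.Lib.Helper20.GLE

open Matrix
open Cfsg.Agent.Lib.helper15.SUn
open Cfsg.Agent.Lib.helper3.STC (ng ab ab_eq_iff ab_ng)
open Cfsg.Agent.Lib.helper3.SPM (Pts pe sgm sn sig2 pe2 pe_eq_pe2 pe2_injective pe2_ng ab_pe2 exists_pe2 sgm_ng sgm_one sgm_mul
  sgm_inl sgm_inr sgm_pe2 pe2_swap sig2_o0 sig2_o1)
open Cfsg.Agent.Lib.Helper27.STU
open Cfsg.Agent.Lib.Helper19.MOD (Ctx)
open Cfsg.Agent.Lib.helper17.SLP (cm)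

universe u

section M

variable {F : Type u} [Field F] [StarRing F] {n q m : ℕ} (C : Ctx F n q m False) (C₂ : Ctx F 4 q 2 False) (p : Pts (Fin m))

/-! ## M9 -/

theorem glem9_coe_conj (g x : ↥(Cfsg.SU n F q)) :
    (((g * x * g⁻¹ : ↥(Cfsg.SU n F q)) : Matrix.SpecialLinearGroup (Fin n) F) : Matrix (Fin n) (Fin n) F) =
      ((g : Matrix.SpecialLinearGroup (Fin n) F) : Matrix (Fin n) (Fin n) F) *
        ((x : Matrix.SpecialLinearGroup (Fin n) F) : Matrix (Fin n) (Fin n) F) *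
        (((g⁻¹ : ↥(Cfsg.SU n F q)) : Matrix.SpecialLinearGroup (Fin n) F) : Matrix (Fin n) (Fin n) F) := by
  rw [su_coe_mul, su_coe_mul]

theorem nuM_conj_xs (σ : Equiv.Perm (Fin m)) {a b : Fin m ⊕ Fin m} (hab : a ≠ b) (t : F) :
    nuM C σ * C.xsE a b t * (nuM C σ)⁻¹ = C.xsE (sgm σ a) (sgm σ b) t := by
  apply su_ext
  have hab' : sgm σ a ≠ sgm σ b := fun h => hab ((sgm σ).injective h)
  rw [glem9_coe_conj, C.coe_xsE hab, C.coe_xsE hab']
  unfold Ctx.xsM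
  rw [conj_Sg C.hσ (su_mul_inv (nuM C σ)) (su_iso (nuM C σ)), nuM_fr, nuM_fr, sgm_ng]

theorem nuM_conj_xl (σ : Equiv.Perm (Fin m)) (a : Fin m ⊕ Fin m) (ξ : Lam F False) :
    nuM C σ * C.xlE a ξ * (nuM C σ)⁻¹ = C.xlE (sgm σ a) ξ := by
  apply su_ext
  rw [glem9_coe_conj, C.coe_xlE, C.coe_xlE]
  unfold Ctx.xlM
  rw [conj_Eh C.hσ (su_mul_inv (nuM C σ)) (su_iso (nuM C σ)), nuM_fr, C.dv0 not_false, smul_zero, Matrix.mulVec_zero]

/-! ## M10 -/

/-- the embedding of the four dimensional space -/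
def glem10_iota (y : Fin 4 → F) : Fin n → F := ∑ b' : Fin 2 ⊕ Fin 2, C₂.co y b' • C.fr (pe p b')

theorem glem10_embMat_fr (A : Matrix (Fin 4) (Fin 4) F) (a' : Fin 2 ⊕ Fin 2) :
    embMat C C₂ p A *ᵥ C.fr (pe p a') = glem10_iota C C₂ p (A *ᵥ C₂.fr a') := embMat_fr_pe C C₂ p A a'

theorem glem10_iota_add (y z : Fin 4 → F) : glem10_iota C C₂ p (y + z) = glem10_iota C C₂ p y + glem10_iota C C₂ p z := by
  unfold glem10_iota Ctx.co
  rw [← Finset.sum_add_distrib]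
  apply Finset.sum_congr rfl
  intro b' _
  rw [herm_add_left, add_smul]

theorem glem10_iota_sub (y z : Fin 4 → F) : glem10_iota C C₂ p (y - z) = glem10_iota C C₂ p y - glem10_iota C C₂ p z := by
  unfold glem10_iota Ctx.co
  rw [← Finset.sum_sub_distrib]
  apply Finset.sum_congr rfl
  intro b' _
  rw [herm_sub_left, sub_smul]

theorem glem10_iota_smul (c : F) (y : Fin 4 → F) : glem10_iota C C₂ p (c • y) = c • glem10_iota C C₂ p y := by
  unfold glem10_iota Ctx.co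
  rw [Finset.smul_sum]
  apply Finset.sum_congr rfl
  intro b' _
  rw [herm_smul_left, smul_smul]

theorem glem10_iota_fr (a' : Fin 2 ⊕ Fin 2) : glem10_iota C C₂ p (C₂.fr a') = C.fr (pe p a') := by
  unfold glem10_iota
  rw [Finset.sum_eq_single a']
  · rw [glem5_co_fr, if_pos rfl, one_smul]
  · intro b _ hb
    rw [glem5_co_fr, if_neg hb, zero_smul]
  · intro h
    exact absurd (Finset.mem_univ _) h

/-- the Gram matrices of the two frames agree -/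
theorem glem10_gram (a' b' : Fin 2 ⊕ Fin 2) :
    Cfsg.hermForm n F q (C.fr (pe p a')) (C.fr (pe p b')) = Cfsg.hermForm 4 F q (C₂.fr a') (C₂.fr b') := by
  rw [glem5_gram_pe, C₂.gram]

theorem glem10_sigma (z : F) : C₂.σ z = C.σ z := by rw [C.hσ, C₂.hσ]

theorem lamM_xs {a' b' : Fin 2 ⊕ Fin 2} (hab' : ab a' ≠ ab b') (t : F) :
    lamM C C₂ p (C₂.xsE a' b' t) = C.xsE (pe p a') (pe p b') t := by
  have h1 : a' ≠ b' := fun h => hab' (by rw [h])
  have h2 : pe p a' ≠ pe p b' := fun h => h1 (glem5_pe_inj p h)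
  apply su_ext
  rw [lamM_coe, C₂.coe_xsE h1, C.coe_xsE h2]
  apply frame_ext C
  intro a
  rcases glem5_cases p a with ⟨c', rfl⟩ | ⟨h0, h0'⟩
  · rw [glem10_embMat_fr, C₂.xsM_mulVec, C.xsM_mulVec, glem10_iota_sub, glem10_iota_add, glem10_iota_smul, glem10_iota_smul,
      glem10_iota_fr, glem10_iota_fr, glem10_iota_fr, glem5_pe_ng, ← glem5_pe_ng p b', glem10_gram, glem10_gram, glem10_sigma,
      glem5_pe_ng]
  · rw [embMat_fr_out C C₂ p _ h0 h0', C.xsM_mulVec, ← glem5_pe_ng, glem5_gram_out C p h0 h0', glem5_gram_out C p h0 h0',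
      mul_zero, mul_zero, zero_smul, zero_smul, add_zero, sub_zero]

theorem lamM_xl (a' : Fin 2 ⊕ Fin 2) (ξ : Lam F False) : lamM C C₂ p (C₂.xlE a' ξ) = C.xlE (pe p a') ξ := by
  apply su_ext
  rw [lamM_coe, C₂.coe_xlE, C.coe_xlE]
  apply frame_ext C
  intro a
  have hv : ξ.v = 0 := ξ.hv not_false
  rcases glem5_cases p a with ⟨c', rfl⟩ | ⟨h0, h0'⟩
  · rw [glem10_embMat_fr, C₂.xlM_mulVec, C.xlM_mulVec]
    simp only [hv, map_zero, zero_mul, zero_smul, zero_add, sub_zero]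
    rw [glem10_iota_add, glem10_iota_smul, glem10_iota_fr, glem10_iota_fr, glem10_gram]
  · rw [embMat_fr_out C C₂ p _ h0 h0', C.xlM_mulVec]
    simp only [hv, map_zero, zero_mul, zero_smul, zero_add, sub_zero]
    rw [glem5_gram_out C p h0 h0', mul_zero, zero_smul, add_zero]

/-! ## M11 -/

theorem glem11_sgm_pe (c' : Fin 2 ⊕ Fin 2) :
    sgm (Equiv.swap p.o0 p.o1) (pe p c') = pe p (sgm (Equiv.swap 0 1) c') := by
  rw [pe_eq_pe2, pe_eq_pe2, sgm_pe2, Equiv.swap_apply_left, Equiv.swap_apply_right, pe2_swap]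

theorem glem11_sgm_fix {σ : Equiv.Perm (Fin m)} {a : Fin m ⊕ Fin m} (h : σ (ab a) = ab a) : sgm σ a = a := by
  rcases a with i | i
  · rw [sgm_inl]
    exact congrArg Sum.inl h
  · rw [sgm_inr]
    exact congrArg Sum.inr h

theorem lamM_sw : lamM C C₂ p (nuM C₂ (Equiv.swap 0 1)) = nuM C (Equiv.swap p.o0 p.o1) := by
  apply su_ext
  rw [lamM_coe, nuM_coe, nuM_coe]
  apply frame_ext C
  intro a
  rcases glem5_cases p a with ⟨c', rfl⟩ | ⟨h0, h0'⟩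
  · rw [glem10_embMat_fr, permMat_fr, permMat_fr, glem10_iota_fr, glem11_sgm_pe]
  · rw [embMat_fr_out C C₂ p _ h0 h0', permMat_fr, glem11_sgm_fix]
    exact Equiv.swap_apply_of_ne_of_ne h0 h0'

/-! ## M12 -/

theorem glem12_lamC_apply {L G : Type*} [Group L] [Group G] {ι : Type*} [DecidableEq ι] (ν : Equiv.Perm ι →* G) (lam : L →* G)
    (σ : Equiv.Perm ι) (g : L) : lamC ν lam σ g = ν σ * lam g * (ν σ)⁻¹ := rfl

theorem lamC_M_xs (σ : Equiv.Perm (Fin m)) {a' b' : Fin 2 ⊕ Fin 2} (hab' : ab a' ≠ ab b') (t : F) :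
    lamC (nuM C) (lamM C C₂ p) σ (C₂.xsE a' b' t) = C.xsE (sgm σ (pe p a')) (sgm σ (pe p b')) t := by
  have h1 : a' ≠ b' := fun h => hab' (by rw [h])
  have h2 : pe p a' ≠ pe p b' := fun h => h1 (glem5_pe_inj p h)
  rw [glem12_lamC_apply, lamM_xs C C₂ p hab', nuM_conj_xs C σ h2]

theorem lamC_M_xl (σ : Equiv.Perm (Fin m)) (a' : Fin 2 ⊕ Fin 2) (ξ : Lam F False) :
    lamC (nuM C) (lamM C C₂ p) σ (C₂.xlE a' ξ) = C.xlE (sgm σ (pe p a')) ξ := by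
  rw [glem12_lamC_apply, lamM_xl, nuM_conj_xl]

/-! ## M13 -/

theorem glem13_ab_sn (a : Fin m ⊕ Fin m) (k : Fin 2) : ab (sn a k) = k := by
  rcases a with i | i <;> rfl

theorem glem13_sgm_pe_sn0 {σ : Equiv.Perm (Fin m)} {a : Fin m ⊕ Fin m} (h : σ p.o0 = ab a) : sgm σ (pe p (sn a 0)) = a := by
  rcases a with i | i
  · show sgm σ (Sum.inl p.o0) = Sum.inl i
    rw [sgm_inl, h]
    rfl
  · show sgm σ (Sum.inr p.o0) = Sum.inr i
    rw [sgm_inr, h]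
    rfl

theorem glem13_sgm_pe_sn1 {σ : Equiv.Perm (Fin m)} {a : Fin m ⊕ Fin m} (h : σ p.o1 = ab a) : sgm σ (pe p (sn a 1)) = a := by
  rcases a with i | i
  · show sgm σ (Sum.inl p.o1) = Sum.inl i
    rw [sgm_inl, h]
    rfl
  · show sgm σ (Sum.inr p.o1) = Sum.inr i
    rw [sgm_inr, h]
    rfl

theorem xrs_M (S₂ : SysU F False (Fin 2) ↥(Cfsg.SU 4 F q)) (h₂s : ∀ a b t, S₂.xs a b t = C₂.xsE a b t)
    {a b : Fin m ⊕ Fin m} (hab : ab a ≠ ab b) (t : F) :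
    xrs S₂ p (nuM C) (lamM C C₂ p) a b t = C.xsE a b t := by
  unfold xrs
  rw [h₂s, lamC_M_xs C C₂ p _ (by rw [glem13_ab_sn, glem13_ab_sn]; decide),
    glem13_sgm_pe_sn0 p (sig2_o0 p hab), glem13_sgm_pe_sn1 p (sig2_o1 p hab)]

theorem xrl_M (S₂ : SysU F False (Fin 2) ↥(Cfsg.SU 4 F q)) (h₂l : ∀ a ξ, S₂.xl a ξ = C₂.xlE a ξ)
    (a : Fin m ⊕ Fin m) (ξ : Lam F False) :
    xrl S₂ p (nuM C) (lamM C C₂ p) a ξ = C.xlE a ξ := by
  unfold xrl
  rw [h₂l, lamC_M_xl, glem13_sgm_pe_sn1 p (Equiv.swap_apply_left _ _)]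

/-! ## M14 -/

theorem glem14_act_one (ξ : Lam F False) : Lam.act (1 * (1 : F)⁻¹) ξ = ξ := by
  apply Lam.ext
  · simp
  · simp

theorem sw_mon_M (S₂ : SysU F False (Fin 2) ↥(Cfsg.SU 4 F q)) (h₂s : ∀ a b t, S₂.xs a b t = C₂.xsE a b t)
    (h₂l : ∀ a ξ, S₂.xl a ξ = C₂.xlE a ξ) :
    S₂.IsMon (nuM C₂ (Equiv.swap 0 1)) (sgm (Equiv.swap 0 1)) (fun _ => 1) 1 := by
  refine ⟨⟨fun k => sgm_ng _ k, fun k => by simp, by simp⟩, ?_, ?_⟩
  · intro k l hkl _ t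
    rw [h₂s, h₂s]
    show nuM C₂ _ * _ * (nuM C₂ _)⁻¹ = _
    rw [nuM_conj_xs C₂ _ hkl]
    simp
  · intro k ξ
    rw [h₂l, h₂l, glem14_act_one]
    show nuM C₂ _ * _ * (nuM C₂ _)⁻¹ = _
    rw [nuM_conj_xl]

/-! ## M15 -/

section glue

variable (S₀ : SysU F False (Fin m) ↥(Cfsg.SU n F q)) (h₀s : ∀ a b t, S₀.xs a b t = C.xsE a b t)
  (h₀l : ∀ a ξ, S₀.xl a ξ = C.xlE a ξ)
  (S₂ : SysU F False (Fin 2) ↥(Cfsg.SU 4 F q)) (h₂s : ∀ a b t, S₂.xs a b t = C₂.xsE a b t)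
  (h₂l : ∀ a ξ, S₂.xl a ξ = C₂.xlE a ξ)

include h₂s in
theorem glem15_lamC_uA (σ : Equiv.Perm (Fin m)) (t : F) :
    lamC (nuM C) (lamM C C₂ p) σ (uA S₂ t) = C.xsE (Sum.inl (σ p.o0)) (Sum.inl (σ p.o1)) t := by
  unfold uA
  rw [h₂s, lamC_M_xs C C₂ p σ (by simp [ab])]
  rfl

include h₂s in
theorem glem15_lam_uA (t : F) : lamM C C₂ p (uA S₂ t) = C.xsE (Sum.inl p.o0) (Sum.inl p.o1) t := by
  have h := glem15_lamC_uA C C₂ p S₂ h₂s 1 t
  rw [glem12_lamC_apply, map_one, one_mul, inv_one, mul_one] at h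
  exact h

include h₂l in
/-- the elements of `B1 S₂`: closure induction -/
theorem glem15_B1_induction {P : ↥(Cfsg.SU 4 F q) → Prop} (hone : P 1) (hmul : ∀ x y, P x → P y → P (x * y))
    (hinv : ∀ x, P x → P x⁻¹) (hgen : ∀ (a : Fin 2 ⊕ Fin 2) (ξ : Lam F False), ab a = 1 → P (C₂.xlE a ξ))
    {g : ↥(Cfsg.SU 4 F q)} (hg : g ∈ B1 S₂) : P g := by
  unfold B1 SysU.XQ at hg
  induction hg using Subgroup.closure_induction with
  | mem x hx =>
    rcases hx with ⟨a, b, t, hab, hab', ⟨ha, hb⟩, rfl⟩ | ⟨a, ξ, ⟨ha, _⟩, rfl⟩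
    · exfalso
      rcases ab_eq_iff.1 (ha.trans hb.symm) with h | h
      · exact hab h
      · exact hab' h
    · rw [h₂l]
      exact hgen a ξ ha
  | one => exact hone
  | mul x y _ _ hx hy => exact hmul x y hx hy
  | inv x _ hx => exact hinv x hx

theorem glem15_pe_of_ab_one {a : Fin 2 ⊕ Fin 2} (ha : ab a = 1) : ab (pe p a) = p.o1 := by
  rcases a with i | i
  · have : i = 1 := ha
    subst this
    rfl
  · have : i = 1 := ha
    subst this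
    rfl

include h₀s h₀l h₂s h₂l in
theorem glue_M (ζ : F) :
    Glue S₂ (nuM C₂ (Equiv.swap 0 1)) ζ p (nuM C) (lamM C C₂ p) := by
  have hne01 : (Sum.inl p.o0 : Fin m ⊕ Fin m) ≠ Sum.inl p.o1 := fun h => p.h01 (Sum.inl.inj h)
  have hne02 : (Sum.inl p.o0 : Fin m ⊕ Fin m) ≠ Sum.inl p.o2 := fun h => p.h02 (Sum.inl.inj h)
  have hne12 : (Sum.inl p.o1 : Fin m ⊕ Fin m) ≠ Sum.inl p.o2 := fun h => p.h12 (Sum.inl.inj h)
  have hnn : ∀ i j : Fin m, (Sum.inl i : Fin m ⊕ Fin m) ≠ ng (Sum.inl j) := by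
    intro i j h
    simp [ng] at h
  constructor
  · -- sw
    exact (lamM_sw C C₂ p).symm
  · -- stab1
    intro σ hσ g hg
    refine glem15_B1_induction C₂ S₂ h₂l (P := fun g => nuM C σ * lamM C C₂ p g * (nuM C σ)⁻¹ = lamM C C₂ p g)
      ?_ ?_ ?_ ?_ hg
    · rw [map_one, mul_one, mul_inv_cancel]
    · intro x y hx hy
      rw [map_mul]
      calc nuM C σ * (lamM C C₂ p x * lamM C C₂ p y) * (nuM C σ)⁻¹
          = (nuM C σ * lamM C C₂ p x * (nuM C σ)⁻¹) * (nuM C σ * lamM C C₂ p y * (nuM C σ)⁻¹) := by group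
        _ = _ := by rw [hx, hy]
    · intro x hx
      rw [map_inv]
      calc nuM C σ * (lamM C C₂ p x)⁻¹ * (nuM C σ)⁻¹
          = (nuM C σ * lamM C C₂ p x * (nuM C σ)⁻¹)⁻¹ := by group
        _ = _ := by rw [hx]
    · intro a ξ ha
      rw [← glem12_lamC_apply, lamC_M_xl, lamM_xl, glem11_sgm_fix]
      rw [glem15_pe_of_ab_one p ha, hσ]
  · -- stab01
    intro σ h0 h1 t _
    rw [← glem12_lamC_apply, glem15_lamC_uA C C₂ p S₂ h₂s, glem15_lam_uA C C₂ p S₂ h₂s, h0, h1]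
  · -- d3
    intro t _ g hg
    rw [glem15_lam_uA C C₂ p S₂ h₂s]
    refine glem15_B1_induction C₂ S₂ h₂l
      (P := fun g => Commute (C.xsE (Sum.inl p.o0) (Sum.inl p.o1) t) (lamC (nuM C) (lamM C C₂ p) (Equiv.swap p.o1 p.o2) g))
      ?_ ?_ ?_ ?_ hg
    · rw [map_one]
      exact Commute.one_right _
    · intro x y hx hy
      rw [map_mul]
      exact hx.mul_right hy
    · intro x hx
      rw [map_inv]
      exact hx.inv_right
    · intro a ξ ha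
      rw [lamC_M_xl]
      have hc : ab (sgm (Equiv.swap p.o1 p.o2) (pe p a)) = p.o2 := by
        rw [Cfsg.Agent.Lib.helper3.SPM.ab_sgm, glem15_pe_of_ab_one p ha, Equiv.swap_apply_left]
      set c := sgm (Equiv.swap p.o1 p.o2) (pe p a) with hcdef
      have h1 : (Sum.inl p.o0 : Fin m ⊕ Fin m) ≠ ng c := by
        intro h
        have := congrArg ab h
        rw [ab_ng, hc] at this
        exact p.h02 this
      have h2 : (Sum.inl p.o1 : Fin m ⊕ Fin m) ≠ c := by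
        intro h
        have := congrArg ab h
        rw [hc] at this
        exact p.h12 this
      have h := S₀.comm_ls c (Sum.inl p.o0) (Sum.inl p.o1) hne01 (hnn _ _) h1 h2 ξ t
      rw [h₀s, h₀l] at h
      exact h.symm
  · -- d4
    intro x hx t _ u _
    obtain ⟨hx0, hx1, hx2⟩ := p.h3 x hx
    rw [glem15_lam_uA C C₂ p S₂ h₂s, glem15_lamC_uA C C₂ p S₂ h₂s]
    have e0 : (Equiv.swap p.o0 p.o2 * Equiv.swap p.o1 x) p.o0 = p.o2 := by
      rw [Equiv.Perm.mul_apply, Equiv.swap_apply_of_ne_of_ne p.h01 hx0.symm, Equiv.swap_apply_left]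
    have e1 : (Equiv.swap p.o0 p.o2 * Equiv.swap p.o1 x) p.o1 = x := by
      rw [Equiv.Perm.mul_apply, Equiv.swap_apply_left, Equiv.swap_apply_of_ne_of_ne hx0 hx2]
    rw [e0, e1]
    have h := S₀.comm_ss (Sum.inl p.o0) (Sum.inl p.o1) (Sum.inl p.o2) (Sum.inl x) hne01 (hnn _ _)
      (fun h => hx2 (Sum.inl.inj h).symm) (hnn _ _) hne12 (fun h => hx0 (Sum.inl.inj h).symm) (hnn _ _) (hnn _ _) t u
    rw [h₀s, h₀s] at h
    exact h
  · -- c1
    intro t _ u _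
    rw [glem15_lam_uA C C₂ p S₂ h₂s, glem15_lamC_uA C C₂ p S₂ h₂s, glem15_lamC_uA C C₂ p S₂ h₂s]
    have e0 : (Equiv.swap p.o0 p.o1 * Equiv.swap p.o1 p.o2) p.o0 = p.o1 := by
      rw [Equiv.Perm.mul_apply, Equiv.swap_apply_of_ne_of_ne p.h01 p.h02, Equiv.swap_apply_left]
    have e1 : (Equiv.swap p.o0 p.o1 * Equiv.swap p.o1 p.o2) p.o1 = p.o2 := by
      rw [Equiv.Perm.mul_apply, Equiv.swap_apply_left, Equiv.swap_apply_of_ne_of_ne p.h02.symm p.h12.symm]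
    rw [e0, e1, Equiv.swap_apply_of_ne_of_ne p.h01 p.h02, Equiv.swap_apply_left]
    have h := S₀.comm3 (Sum.inl p.o0) (Sum.inl p.o1) (Sum.inl p.o2) hne01 (hnn _ _) hne12 (hnn _ _) hne02 (hnn _ _) t u
    rw [h₀s, h₀s, h₀s] at h
    exact h
  · -- c2
    intro t _ u _
    rw [glem15_lam_uA C C₂ p S₂ h₂s, glem15_lamC_uA C C₂ p S₂ h₂s,
      Equiv.swap_apply_of_ne_of_ne p.h01 p.h02, Equiv.swap_apply_left]
    have h := S₀.comm_ss (Sum.inl p.o0) (Sum.inl p.o1) (Sum.inl p.o0) (Sum.inl p.o2) hne01 (hnn _ _) hne02 (hnn _ _)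
      hne01.symm hne02 (hnn _ _) (hnn _ _) t u
    rw [h₀s, h₀s] at h
    exact h

end glue

/-! ## M16 -/

theorem rep_inj (S₀ : SysU F False (Fin m) ↥(Cfsg.SU n F q)) (R₀ : S₀.Rep (Fin n → F))
    (hφ : ∀ (g : ↥(Cfsg.SU n F q)) (x : Fin n → F),
      R₀.φ g x = ((g : Matrix.SpecialLinearGroup (Fin n) F) : Matrix (Fin n) (Fin n) F) *ᵥ x) :
    Function.Injective R₀.φ := by
  intro g g' h
  apply su_ext
  apply mat_ext
  intro x
  rw [← hφ, ← hφ, h]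

end M

end Cfsg.Agent.Lib.Helper20.GLE
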