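import Mathlib
import Cfsg.Agent.Lib.Helper20.GLE.Defs
import Cfsg.Agent.Lib.Helper24.STCI1
import Cfsg.Agent.Lib.Helper26.GLEL0
import Cfsg.Agent.Lib.Helper26.GLEL1
import Cfsg.Agent.Lib.Helper11.STUB3
import Cfsg.Agent.Lib.Helper11.STUX1
import Cfsg.Agent.Lib.Helper11.GLEU4

/-!
# Project GLE (designer helper20; block of PSU, S2291), rows U1 U2 U3 (`comm01_of`, `gen4_of_esp`, `ufacts_of`):
the facts on the rank two group.  VERBATIM vs `Helper20/GLE/SkelA.lean.txt`.  By helper20.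
-/

set_option autoImplicit false
set_option linter.unusedSectionVars false

namespace Cfsg.Agent.Lib.Helper20.GLE

open Cfsg.Agent.Lib.helper3.STC (ng ab ab_eq_iff ab_ng ng_ng)
open Cfsg.Agent.Lib.helper3.SPM (Pts pe sgm sn sig2 ptsFin pe2)
open Cfsg.Agent.Lib.Helper27.STU
open Cfsg.Agent.Lib.helper17.SLP (cm)
open Cfsg.Agent.Lib.helper15.St2 (cj)

universe u v w x v' y

section U
variable {F : Type u} [Field F] [StarRing F] {L : Type x} [Group L] (S₂ : SysU F False (Fin 2) L) (swL : L) (ζ : F)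

/-- the index of a signed index moved by a permutation of the indices -/
theorem gleu1_ab_sgm {κ : Type*} (σ : Equiv.Perm κ) (a : κ ⊕ κ) : ab (sgm σ a) = σ (ab a) := by
  cases a <;> rfl

/-- no short root inside one index -/
theorem gleu1_no_short {κ : Type*} {a b : κ ⊕ κ} (hab : a ≠ b) (hab' : a ≠ ng b) {k : κ} (ha : ab a = k) (hb : ab b = k) : False := by
  rcases ab_eq_iff.1 (ha.trans hb.symm) with h | h
  · exact hab h
  · exact hab' h

theorem gleu1_act_one (ξ : Lam F False) : Lam.act ((1 : F) * 1⁻¹) ξ = ξ := by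
  apply Lam.ext <;> simp [Lam.act]

/-- the long root elements on different indices commute (even case: `ξ.v = 0`) -/
theorem gleu1_xl_comm {a b : Fin 2 ⊕ Fin 2} (hab : ab a ≠ ab b) (ξ η : Lam F False) :
    S₂.xl a ξ * S₂.xl b η = S₂.xl b η * S₂.xl a ξ := by
  have h1 : a ≠ b := fun h => hab (by rw [h])
  have h2 : a ≠ ng b := fun h => hab (by rw [h, ab_ng])
  have h := S₂.hh a b h1 h2 ξ η
  have h3 : a ≠ ng (ng b) := by rw [ng_ng]; exact h1
  rw [ξ.hv not_false, zero_mul, neg_zero, S₂.stub3_xs_zero h2 h3] at h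
  rw [mul_inv_eq_one, mul_inv_eq_iff_eq_mul] at h
  exact h

/-- U1 -/
theorem comm01_of (hsw : S₂.IsMon swL (sgm (Equiv.swap 0 1)) (fun _ => 1) 1) :
    ∀ g ∈ B1 S₂, ∀ g' ∈ B1 S₂, Commute (swL * g * swL⁻¹) g' := by
  have h0 : ∀ g ∈ B1 S₂, cj swL g ∈ S₂.XQ (fun a b => ab a = 0 ∧ ab b = 0) := by
    refine SysU.IsMon.cj_mem_XQ S₂ hsw (Q := fun a b : Fin 2 ⊕ Fin 2 => ab a = 1 ∧ ab b = 1) (Q' := fun a b : Fin 2 ⊕ Fin 2 => ab a = 0 ∧ ab b = 0) ?_
    rintro k l _ ⟨hk, hl⟩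
    rw [gleu1_ab_sgm, gleu1_ab_sgm, hk, hl, Equiv.swap_apply_right]
    exact ⟨rfl, rfl⟩
  have key : S₂.XQ (fun a b => ab a = 0 ∧ ab b = 0) ≤ Subgroup.centralizer (B1 S₂ : Set L) := by
    apply S₂.XQ_le
    · rintro a b t hab hab' ⟨ha, hb⟩
      exact (gleu1_no_short hab hab' ha hb).elim
    · rintro a ξ ⟨ha, _⟩
      rw [Subgroup.mem_centralizer_iff]
      intro y hy
      have h2 : B1 S₂ ≤ Subgroup.centralizer {S₂.xl a ξ} := by
        apply S₂.XQ_le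
        · rintro c d t hcd hcd' ⟨hc, hd⟩
          exact (gleu1_no_short hcd hcd' hc hd).elim
        · rintro b η ⟨hb, _⟩
          rw [Subgroup.mem_centralizer_iff]
          intro z hz
          rw [Set.mem_singleton_iff] at hz
          subst hz
          exact gleu1_xl_comm S₂ (by rw [ha, hb]; exact zero_ne_one) ξ η
      have h3 := h2 hy
      rw [Subgroup.mem_centralizer_iff] at h3
      exact (h3 _ rfl).symm
  intro g hg g' hg'
  have h1 := key (h0 g hg)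
  rw [Subgroup.mem_centralizer_iff] at h1
  exact (h1 g' hg').symm

/-- transport of a full short root subgroup by a monomial element of a subgroup -/
theorem gleu2_transport {K : Subgroup L} {g : L} {π : Equiv.Perm (Fin 2 ⊕ Fin 2)} {d : Fin 2 ⊕ Fin 2 → F} {d0 : F}
    (hg : S₂.IsMon g π d d0) (hgK : g ∈ K) {k l k' l' : Fin 2 ⊕ Fin 2} (hkl : k ≠ l) (hkl' : k ≠ ng l)
    (hk : π k = k') (hl : π l = l') (h : ∀ t, S₂.xs k l t ∈ K) : ∀ t, S₂.xs k' l' t ∈ K := by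
  intro t
  have hd : ∀ k, d k ≠ 0 := by
    intro k hk0
    have h1 := hg.1.d_ng k
    rw [hk0, star_zero, mul_zero] at h1
    exact zero_ne_one h1
  have e := hg.2.1 k l hkl hkl' ((d k * (d l)⁻¹)⁻¹ * t)
  rw [hk, hl, mul_inv_cancel_left₀ (mul_ne_zero (hd k) (inv_ne_zero (hd l)))] at e
  rw [← e]
  exact gleu4_cj_mem hgK (h _)

theorem gleu2_cases (a : Fin 2 ⊕ Fin 2) : a = Sum.inl 0 ∨ a = Sum.inr 0 ∨ a = Sum.inl 1 ∨ a = Sum.inr 1 := by
  revert a
  decide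

/-- U2 -/
theorem gen4_of_esp (hF : Hyp F) (hsw : S₂.IsMon swL (sgm (Equiv.swap 0 1)) (fun _ => 1) 1)
    (hesp : S₂.XQ (fun _ _ => True) = ⊤) (hspan : ∀ t : F, ∃ s s' : F, star s = s ∧ star s' = s' ∧ t = s + s' * ζ)
    (hW : S₂.HW) (hH : S₂.HH) :
    Subgroup.closure ({uA S₂ 1, uA S₂ ζ, swL} ∪ (B1 S₂ : Set L)) = ⊤ := by
  set K := Subgroup.closure ({uA S₂ 1, uA S₂ ζ, swL} ∪ (B1 S₂ : Set L)) with hK
  have hu1 : S₂.xs (Sum.inl 0) (Sum.inl 1) 1 ∈ K := Subgroup.subset_closure (Or.inl (Or.inl rfl))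
  have huζ : S₂.xs (Sum.inl 0) (Sum.inl 1) ζ ∈ K := Subgroup.subset_closure (Or.inl (Or.inr (Or.inl rfl)))
  have hswK : swL ∈ K := Subgroup.subset_closure (Or.inl (Or.inr (Or.inr rfl)))
  have hB : ∀ g ∈ B1 S₂, g ∈ K := fun g hg => Subgroup.subset_closure (Or.inr hg)
  -- the long root elements
  have hxl : ∀ a ξ, S₂.xl a ξ ∈ K := by
    intro a ξ
    have h01 : ab a = 0 ∨ ab a = 1 := by
      generalize ab a = i
      revert i
      decide
    rcases h01 with ha | ha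
    · have e := hsw.2.2 (sgm (Equiv.swap 0 1) a) ξ
      have e1 : sgm (Equiv.swap 0 1) (sgm (Equiv.swap 0 1) a) = a := by
        cases a <;> simp [sgm]
      rw [e1, gleu1_act_one] at e
      rw [← e]
      refine gleu4_cj_mem hswK (hB _ (gleu4_xl_mem S₂ _ ?_ ξ))
      rw [gleu1_ab_sgm, ha, Equiv.swap_apply_left]
    · exact hB _ (gleu4_xl_mem S₂ a ha ξ)
  have hwl : ∀ a ξ, S₂.wl a ξ ∈ K := fun a ξ => mul_mem (mul_mem (hxl _ _) (hxl _ _)) (hxl _ _)
  have hhl : ∀ a ξ η, S₂.hl a ξ η ∈ K := fun a ξ η => mul_mem (hwl _ _) (inv_mem (hwl _ _))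
  -- the short root elements `x_{0 1}(t)`
  have n1 : (Sum.inl 0 : Fin 2 ⊕ Fin 2) ≠ Sum.inl 1 := by decide
  have n2 : (Sum.inl 0 : Fin 2 ⊕ Fin 2) ≠ ng (Sum.inl 1) := by decide
  have hscale : ∀ r : F, star r = r → ∀ t, S₂.xs (Sum.inl 0) (Sum.inl 1) t ∈ K →
      S₂.xs (Sum.inl 0) (Sum.inl 1) (r * t) ∈ K := by
    intro r hr t ht
    by_cases hr0 : r = 0
    · rw [hr0, zero_mul, S₂.stub3_xs_zero n1 n2]
      exact K.one_mem
    · obtain ⟨ξ, η, hξ, hη, hrat⟩ := exists_lam_ratio hF hr hr0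
      have hm := hH.2 (Sum.inl 0) ξ η hξ hη
      have e := hm.2.1 (Sum.inl 0) (Sum.inl 1) n1 n2 t
      rw [hrat] at e
      have e1 : dhl (Sum.inl 0 : Fin 2 ⊕ Fin 2) r (Sum.inl 0) = r := if_pos rfl
      have e2 : dhl (Sum.inl 0 : Fin 2 ⊕ Fin 2) r (Sum.inl 1) = 1 := by
        unfold dhl
        rw [if_neg (by decide), if_neg (by decide)]
      rw [e1, e2, inv_one, mul_one, Equiv.Perm.one_apply, Equiv.Perm.one_apply] at e
      rw [← e]
      exact gleu4_cj_mem (hhl _ _ _) ht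
  have h01 : ∀ t, S₂.xs (Sum.inl 0) (Sum.inl 1) t ∈ K := by
    intro t
    obtain ⟨s, s', hs, hs', rfl⟩ := hspan t
    rw [← S₂.adds _ _ n1 n2]
    refine mul_mem ?_ (hscale s' hs' ζ huζ)
    have h1 := hscale s hs 1 hu1
    rwa [mul_one] at h1
  -- all the short root elements
  obtain ⟨ξ₀, _, hξ₀, _, _⟩ := exists_lam_ratio hF (star_one F) one_ne_zero
  have m0 := hW.2 (Sum.inl 0) ξ₀ hξ₀
  have m1 := hW.2 (Sum.inl 1) ξ₀ hξ₀
  have a1 : ∀ t, S₂.xs (Sum.inr 0) (Sum.inl 1) t ∈ K :=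
    gleu2_transport S₂ m0 (hwl _ _) n1 n2 (by decide) (by decide) h01
  have a2 : ∀ t, S₂.xs (Sum.inl 0) (Sum.inr 1) t ∈ K :=
    gleu2_transport S₂ m1 (hwl _ _) n1 n2 (by decide) (by decide) h01
  have a3 : ∀ t, S₂.xs (Sum.inr 0) (Sum.inr 1) t ∈ K :=
    gleu2_transport S₂ m1 (hwl _ _) (by decide) (by decide) (by decide) (by decide) a1
  have b0 : ∀ t, S₂.xs (Sum.inl 1) (Sum.inl 0) t ∈ K :=
    gleu2_transport S₂ hsw hswK n1 n2 (by decide) (by decide) h01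
  have b1 : ∀ t, S₂.xs (Sum.inr 1) (Sum.inl 0) t ∈ K :=
    gleu2_transport S₂ hsw hswK (by decide) (by decide) (by decide) (by decide) a1
  have b2 : ∀ t, S₂.xs (Sum.inl 1) (Sum.inr 0) t ∈ K :=
    gleu2_transport S₂ hsw hswK (by decide) (by decide) (by decide) (by decide) a2
  have b3 : ∀ t, S₂.xs (Sum.inr 1) (Sum.inr 0) t ∈ K :=
    gleu2_transport S₂ hsw hswK (by decide) (by decide) (by decide) (by decide) a3
  rw [eq_top_iff, ← hesp]
  apply S₂.XQ_le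
  · intro a b t hab hab' _
    rcases gleu2_cases a with rfl | rfl | rfl | rfl <;> rcases gleu2_cases b with rfl | rfl | rfl | rfl <;>
      first
        | exact (hab rfl).elim
        | exact (hab' rfl).elim
        | exact h01 t
        | exact a1 t
        | exact a2 t
        | exact a3 t
        | exact b0 t
        | exact b1 t
        | exact b2 t
        | exact b3 t
  · intro a ξ _
    exact hxl a ξ

/-- U3 -/
theorem ufacts_of (hF : Hyp F) (hsw : S₂.IsMon swL (sgm (Equiv.swap 0 1)) (fun _ => 1) 1)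
    (hesp : S₂.XQ (fun _ _ => True) = ⊤) (hζ : star ζ ≠ ζ) (hW : S₂.HW) (hH : S₂.HH) : UFacts S₂ swL ζ where
  gen4 := gen4_of_esp S₂ swL ζ hF hsw hesp (span_of_ne hζ) hW hH
  sw_mon := hsw
  comm01 := comm01_of S₂ swL hsw
  esp := hesp
  span := span_of_ne hζ
  hW := hW
  hH := hH

end U

end Cfsg.Agent.Lib.Helper20.GLE
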