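import Mathlib
import Cfsg.Agent.Lib.Helper20.GLO.Defs
import Cfsg.Agent.Lib.Helper20.GLO.DefsM
import Cfsg.Agent.Lib.Helper20.GLEM1
import Cfsg.Agent.Lib.Helper29.SPMA3

/-!
# GLO rows M1 M2 M3 M4 (helper20): the extended frame calculus, the permutation matrices, `nuM` (port of `Helper20/GLEM1.lean`)
-/

set_option autoImplicit false
set_option linter.unusedSectionVars false

namespace Cfsg.Agent.Lib.Helper20.GLO

open Matrix
open Cfsg.Agent.Lib.helper15.SUn
open Cfsg.Agent.Lib.helper3.STC (ng ab)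
open Cfsg.Agent.Lib.helper3.SPM (Pts pe sgm sgm_ng sgm_one sgm_mul)
open Cfsg.Agent.Lib.Helper27.STU
open Cfsg.Agent.Lib.Helper19.MOD (Ctx)
open Cfsg.Agent.Lib.Helper20.GLE (glem1_herm_sum_left glem1_herm_sum_right glem1_herm_expand)

universe u

section Idx

variable {ι : Type*}

theorem ngo_ngo (j : Option (ι ⊕ ι)) : ngo (ngo j) = j := by
  cases j with
  | none => rfl
  | some a => exact congrArg some (Cfsg.Agent.Lib.Helper19.MOD.ng_ng a)

theorem glom1_ngo_inj {i j : Option (ι ⊕ ι)} : ngo i = ngo j ↔ i = j :=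
  ⟨fun h => by rw [← ngo_ngo i, h, ngo_ngo], fun h => by rw [h]⟩

@[simp] theorem glom1_ngo_none : ngo (none : Option (ι ⊕ ι)) = none := rfl

@[simp] theorem glom1_ngo_some (a : ι ⊕ ι) : ngo (some a) = some (ng a) := rfl

variable [DecidableEq ι]

@[simp] theorem glom1_sgo_none (σ : Equiv.Perm ι) : sgo σ none = none := rfl

@[simp] theorem glom1_sgo_some (σ : Equiv.Perm ι) (a : ι ⊕ ι) : sgo σ (some a) = some (sgm σ a) := rfl

theorem glom1_sgo_ngo (σ : Equiv.Perm ι) (j : Option (ι ⊕ ι)) : sgo σ (ngo j) = ngo (sgo σ j) := by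
  cases j with
  | none => rfl
  | some a => exact congrArg some (sgm_ng σ a)

theorem glom1_sgo_one : sgo (1 : Equiv.Perm ι) = 1 := by
  ext j : 1
  cases j with
  | none => rfl
  | some a => rw [glom1_sgo_some, sgm_one]; rfl

theorem glom1_sgo_mul (σ τ : Equiv.Perm ι) : sgo (σ * τ) = sgo σ * sgo τ := by
  ext j : 1
  cases j with
  | none => rfl
  | some a => rw [glom1_sgo_some, sgm_mul]; rfl

end Idx

section M

variable {F : Type u} [Field F] [StarRing F] {n q m : ℕ} (C : Ctx F n q m True)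

@[simp] theorem glom1_efr_none : efr C none = C.dv := rfl

@[simp] theorem glom1_efr_some (a : Fin m ⊕ Fin m) : efr C (some a) = C.fr a := rfl

theorem efr_gram (i j : Option (Fin m ⊕ Fin m)) :
    Cfsg.hermForm n F q (efr C i) (efr C j) = if j = ngo i then 1 else 0 := by
  cases i with
  | none =>
    cases j with
    | none => rw [glom1_efr_none, C.gram_dd trivial, if_pos (show (none : Option (Fin m ⊕ Fin m)) = ngo none from rfl)]
    | some b => rw [glom1_efr_none, glom1_efr_some, C.gram_d, if_neg (by simp)]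
  | some a =>
    cases j with
    | none => rw [glom1_efr_none, glom1_efr_some, C.gram_fd, if_neg (by simp)]
    | some b =>
      rw [glom1_efr_some, glom1_efr_some, C.gram, glom1_ngo_some]
      by_cases h : b = ng a
      · rw [if_pos h, if_pos (by rw [h])]
      · rw [if_neg h, if_neg (fun h' => h (Option.some.inj h'))]

theorem frame_span (x : Fin n → F) : x = ∑ j, eco C x j • efr C j := by
  have h := C.span x
  rw [Fintype.sum_option]
  rw [add_comm]
  exact h

/-- the image of a vector in terms of the images of the frame vectors -/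
theorem glom1_mulVec_span (M : Matrix (Fin n) (Fin n) F) (x : Fin n → F) :
    M *ᵥ x = ∑ j, eco C x j • (M *ᵥ efr C j) := by
  conv_lhs => rw [frame_span C x]
  rw [Matrix.mulVec_sum]
  apply Finset.sum_congr rfl
  intro a _
  rw [Matrix.mulVec_smul]

theorem frame_ext {M N : Matrix (Fin n) (Fin n) F} (h : ∀ j, M *ᵥ efr C j = N *ᵥ efr C j) : M = N := by
  apply mat_ext
  intro x
  rw [glom1_mulVec_span C M x, glom1_mulVec_span C N x]
  apply Finset.sum_congr rfl
  intro a _
  rw [h a]

theorem iso_of_frame {M : Matrix (Fin n) (Fin n) F}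
    (h : ∀ i j, Cfsg.hermForm n F q (M *ᵥ efr C i) (M *ᵥ efr C j) = Cfsg.hermForm n F q (efr C i) (efr C j)) (x y : Fin n → F) :
    Cfsg.hermForm n F q (M *ᵥ x) (M *ᵥ y) = Cfsg.hermForm n F q x y := by
  rw [glom1_mulVec_span C M x, glom1_mulVec_span C M y, glem1_herm_expand C.hσ]
  conv_rhs => rw [frame_span C x, frame_span C y, glem1_herm_expand C.hσ]
  apply Finset.sum_congr rfl
  intro a _
  apply Finset.sum_congr rfl
  intro b _
  rw [h a b]

/-! ## the permutation matrices -/

theorem permMat_mulVec (σ : Equiv.Perm (Fin m)) (x : Fin n → F) :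
    permMat C σ *ᵥ x = ∑ j, eco C x j • efr C (sgo σ j) := by
  unfold permMat
  rw [Matrix.sum_mulVec]
  apply Finset.sum_congr rfl
  intro a _
  rw [R_mulVec C.hσ]
  rfl

/-- the extended coordinates of the extended frame -/
theorem glom1_eco_efr (i j : Option (Fin m ⊕ Fin m)) : eco C (efr C i) j = if j = i then 1 else 0 := by
  unfold eco
  rw [efr_gram]
  by_cases h : j = i
  · rw [if_pos h, if_pos (by rw [h])]
  · rw [if_neg h, if_neg (fun h' => h (glom1_ngo_inj.1 h'))]

theorem permMat_fr (σ : Equiv.Perm (Fin m)) (j : Option (Fin m ⊕ Fin m)) : permMat C σ *ᵥ efr C j = efr C (sgo σ j) := by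
  rw [permMat_mulVec]
  rw [Finset.sum_eq_single j]
  · rw [glom1_eco_efr, if_pos rfl, one_smul]
  · intro b _ hb
    rw [glom1_eco_efr, if_neg hb, zero_smul]
  · intro h
    exact absurd (Finset.mem_univ j) h

theorem permMat_one : permMat C 1 = 1 := by
  apply frame_ext C
  intro a
  rw [permMat_fr, glom1_sgo_one, Matrix.one_mulVec]
  rfl

theorem permMat_mul (σ τ : Equiv.Perm (Fin m)) : permMat C (σ * τ) = permMat C σ * permMat C τ := by
  apply frame_ext C
  intro a
  rw [← Matrix.mulVec_mulVec, permMat_fr, permMat_fr, permMat_fr, glom1_sgo_mul]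
  rfl

theorem permMat_iso (σ : Equiv.Perm (Fin m)) (x y : Fin n → F) :
    Cfsg.hermForm n F q (permMat C σ *ᵥ x) (permMat C σ *ᵥ y) = Cfsg.hermForm n F q x y := by
  apply iso_of_frame C
  intro a b
  rw [permMat_fr, permMat_fr, efr_gram, efr_gram, ← glom1_sgo_ngo]
  by_cases h : b = ngo a
  · rw [if_pos h, if_pos (by rw [h])]
  · rw [if_neg h, if_neg (fun h' => h ((sgo σ).injective h'))]

/-- the matrix of the extended frame -/
def glom3_T : Matrix (Fin n) (Option (Fin m ⊕ Fin m)) F := Matrix.of fun x a => efr C a x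

/-- the matrix of the dual extended frame -/
def glom3_T' : Matrix (Option (Fin m ⊕ Fin m)) (Fin n) F := Matrix.of fun a x => C.σ (efr C (ngo a) x)

theorem glom3_herm (u v : Fin n → F) : Cfsg.hermForm n F q u v = ∑ x, u x * C.σ (v x) := by
  unfold Cfsg.hermForm
  apply Finset.sum_congr rfl
  intro x _
  rw [C.hσ]

theorem glom3_T'_mul_T : (glom3_T' C : Matrix (Option (Fin m ⊕ Fin m)) (Fin n) F) * (glom3_T C : Matrix (Fin n) (Option (Fin m ⊕ Fin m)) F) = 1 := by
  ext a b
  rw [Matrix.mul_apply, Matrix.one_apply]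
  have h : ∑ x, glom3_T' C a x * glom3_T C x b = eco C (efr C b) a := by
    unfold eco
    rw [glom3_herm C]
    apply Finset.sum_congr rfl
    intro x _
    simp only [glom3_T, glom3_T', Matrix.of_apply]
    ring
  rw [h, glom1_eco_efr]

/-- the entries of the permutation matrix -/
theorem glom3_permMat_apply (σ : Equiv.Perm (Fin m)) (x y : Fin n) :
    permMat C σ x y = ∑ a, efr C (sgo σ a) x * C.σ (efr C (ngo a) y) := by
  unfold permMat
  rw [Matrix.sum_apply]
  apply Finset.sum_congr rfl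
  intro a _
  rfl

/-- the permutation matrix of the extended signed indices -/
def glom3_Pi (σ : Equiv.Perm (Fin m)) : Matrix (Option (Fin m ⊕ Fin m)) (Option (Fin m ⊕ Fin m)) F :=
  Matrix.of fun a b => if a = sgo σ b then 1 else 0

theorem glom3_permMat_eq (σ : Equiv.Perm (Fin m)) :
    permMat C σ = (glom3_T C : Matrix (Fin n) (Option (Fin m ⊕ Fin m)) F) *
      (glom3_Pi σ : Matrix (Option (Fin m ⊕ Fin m)) (Option (Fin m ⊕ Fin m)) F) *
      (glom3_T' C : Matrix (Option (Fin m ⊕ Fin m)) (Fin n) F) := by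
  ext x y
  rw [glom3_permMat_apply, Matrix.mul_apply]
  apply Finset.sum_congr rfl
  intro b _
  rw [Matrix.mul_apply]
  rw [Finset.sum_eq_single (sgo σ b)]
  · simp only [glom3_T, glom3_T', glom3_Pi, Matrix.of_apply, if_true, mul_one]
  · intro a _ ha
    simp only [glom3_Pi, Matrix.of_apply, if_neg ha, mul_zero]
  · intro h
    exact absurd (Finset.mem_univ _) h

theorem glom3_T_mul_T' : (glom3_T C : Matrix (Fin n) (Option (Fin m ⊕ Fin m)) F) * (glom3_T' C : Matrix (Option (Fin m ⊕ Fin m)) (Fin n) F) = 1 := by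
  have h := glom3_permMat_eq C 1
  rw [permMat_one] at h
  have h1 : glom3_Pi (F := F) (1 : Equiv.Perm (Fin m)) = 1 := by
    ext a b
    simp only [glom3_Pi, Matrix.of_apply, glom1_sgo_one, Equiv.Perm.coe_one, id_eq, Matrix.one_apply]
  rw [h1, Matrix.mul_one] at h
  exact h.symm

theorem glom3_det_Pi (σ : Equiv.Perm (Fin m)) : (glom3_Pi (F := F) σ).det = 1 := by
  have h : glom3_Pi (F := F) σ = ((sgo σ).permMatrix F)ᵀ := by
    ext a b
    simp only [glom3_Pi, Matrix.of_apply, Matrix.transpose_apply, Equiv.Perm.permMatrix, Equiv.toPEquiv_apply,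
      PEquiv.toMatrix_apply, Option.mem_def, Option.some.injEq]
    by_cases hab : a = sgo σ b
    · rw [if_pos hab, if_pos hab.symm]
    · rw [if_neg hab, if_neg (fun h' => hab h'.symm)]
  rw [h, Matrix.det_transpose, Matrix.det_permutation]
  have hs : Equiv.Perm.sign (sgo σ) = 1 := by
    unfold sgo sgm
    rw [Equiv.optionCongr_sign, Equiv.Perm.sign_sumCongr, Int.units_mul_self]
  rw [hs]
  simp

theorem permMat_det (σ : Equiv.Perm (Fin m)) : (permMat C σ).det = 1 := by
  rw [glom3_permMat_eq, Matrix.det_conj_of_mul_eq_one (glom3_T_mul_T' C) (glom3_T'_mul_T C), glom3_det_Pi]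

/-- the homomorphism exists -/
theorem glom4_exists : ∃ φ : Equiv.Perm (Fin m) →* ↥(Cfsg.SU n F q), ∀ σ,
    ((φ σ : Matrix.SpecialLinearGroup (Fin n) F) : Matrix (Fin n) (Fin n) F) = permMat C σ := by
  refine ⟨MonoidHom.mk' (fun σ => mkSU (permMat C σ) (permMat_det C σ) (permMat_iso C σ)) ?_, fun σ => rfl⟩
  intro σ τ
  apply su_ext
  rw [su_coe_mul]
  exact permMat_mul C σ τ

theorem nuM_coe (σ : Equiv.Perm (Fin m)) :
    ((nuM C σ : Matrix.SpecialLinearGroup (Fin n) F) : Matrix (Fin n) (Fin n) F) = permMat C σ := by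
  unfold nuM
  rw [dif_pos (glom4_exists C)]
  exact (glom4_exists C).choose_spec σ

theorem nuM_fr (σ : Equiv.Perm (Fin m)) (a : Fin m ⊕ Fin m) :
    ((nuM C σ : Matrix.SpecialLinearGroup (Fin n) F) : Matrix (Fin n) (Fin n) F) *ᵥ C.fr a = C.fr (sgm σ a) := by
  rw [nuM_coe]
  exact permMat_fr C σ (some a)

theorem nuM_dv (σ : Equiv.Perm (Fin m)) :
    ((nuM C σ : Matrix.SpecialLinearGroup (Fin n) F) : Matrix (Fin n) (Fin n) F) *ᵥ C.dv = C.dv := by
  rw [nuM_coe]
  exact permMat_fr C σ none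

end M

end Cfsg.Agent.Lib.Helper20.GLO
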