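import Mathlib
import Cfsg.Agent.Lib.Helper20.GLO.Defs
import Cfsg.Agent.Lib.Helper20.GLO.DefsM
import Cfsg.Agent.Lib.Helper20.GLOM1
import Cfsg.Agent.Lib.Helper20.GLEM5
import Cfsg.Agent.Lib.Helper29.SPMA3
import Cfsg.Agent.Lib.Helper29.SPMA4

/-!
# GLO rows M5 M6 M7 M8 (helper20): the block embedding `embMat`, `lamM` (port of `Helper20/GLEM5.lean` to the extended frame)
-/

set_option autoImplicit false
set_option linter.unusedSectionVars false

namespace Cfsg.Agent.Lib.Helper20.GLO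

open Matrix
open Cfsg.Agent.Lib.helper15.SUn
open Cfsg.Agent.Lib.helper3.STC (ng ab)
open Cfsg.Agent.Lib.helper3.SPM (Pts pe sgm pe2 pe_eq_pe2 pe2_injective pe2_ng ab_pe2 exists_pe2)
open Cfsg.Agent.Lib.Helper27.STU
open Cfsg.Agent.Lib.Helper19.MOD (Ctx)
open Cfsg.Agent.Lib.Helper20.GLE (glem1_herm_sum_left glem1_herm_sum_right glem1_herm_expand glem5_pe_inj glem5_pe_ng glem5_ab_pe
  glem5_exists_pe)

universe u

section M

variable {F : Type u} [Field F] [StarRing F] {n q m : ℕ} (C : Ctx F n q m True) (C₂ : Ctx F 5 q 2 True) (p : Pts (Fin m))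

@[simp] theorem glom5_peo_none : peo p none = none := rfl

@[simp] theorem glom5_peo_some (a : Fin 2 ⊕ Fin 2) : peo p (some a) = some (pe p a) := rfl

theorem glom5_peo_inj : Function.Injective (peo p) :=
  Option.map_injective (glem5_pe_inj p)

theorem glom5_peo_ngo (a : Option (Fin 2 ⊕ Fin 2)) : peo p (ngo a) = ngo (peo p a) := by
  cases a with
  | none => rfl
  | some a => exact congrArg some (glem5_pe_ng p a)

/-- an extended frame index is in the block or outside -/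
theorem glom5_cases (j : Option (Fin m ⊕ Fin m)) :
    (∃ a', peo p a' = j) ∨ (∃ a, j = some a ∧ ab a ≠ p.o0 ∧ ab a ≠ p.o1) := by
  cases j with
  | none => exact Or.inl ⟨none, rfl⟩
  | some a =>
    by_cases h0 : ab a = p.o0
    · obtain ⟨a', h⟩ := glem5_exists_pe p (Or.inl h0)
      exact Or.inl ⟨some a', congrArg some h⟩
    · by_cases h1 : ab a = p.o1
      · obtain ⟨a', h⟩ := glem5_exists_pe p (Or.inr h1)
        exact Or.inl ⟨some a', congrArg some h⟩
      · exact Or.inr ⟨a, rfl, h0, h1⟩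

/-- the Gram matrix of the extended frame vectors of the block -/
theorem glom5_gram_pe (a' b' : Option (Fin 2 ⊕ Fin 2)) :
    Cfsg.hermForm n F q (efr C (peo p a')) (efr C (peo p b')) = if b' = ngo a' then 1 else 0 := by
  rw [efr_gram, ← glom5_peo_ngo]
  by_cases h : b' = ngo a'
  · rw [if_pos h, if_pos (by rw [h])]
  · rw [if_neg h, if_neg (fun h' => h (glom5_peo_inj p h'))]

theorem glom5_out_ne {a : Fin m ⊕ Fin m} (ha : ab a ≠ p.o0) (ha' : ab a ≠ p.o1) (b' : Option (Fin 2 ⊕ Fin 2)) :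
    peo p b' ≠ some a := by
  cases b' with
  | none => simp
  | some b =>
    intro h
    have h2 : pe p b = a := Option.some.inj h
    rcases glem5_ab_pe p b with h3 | h3
    · exact ha (by rw [← h2]; exact h3)
    · exact ha' (by rw [← h2]; exact h3)

theorem glom5_gram_out {a : Fin m ⊕ Fin m} (ha : ab a ≠ p.o0) (ha' : ab a ≠ p.o1) (b' : Option (Fin 2 ⊕ Fin 2)) :
    Cfsg.hermForm n F q (C.fr a) (efr C (peo p b')) = 0 := by
  have h := efr_gram C (some a) (peo p b')
  rw [glom1_efr_some] at h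
  rw [h, if_neg]
  intro h'
  have hng : ab (ng a) = ab a := by cases a <;> rfl
  exact glom5_out_ne p (a := ng a) (by rw [hng]; exact ha) (by rw [hng]; exact ha') b' h'

theorem glom5_gram_out' {a : Fin m ⊕ Fin m} (ha : ab a ≠ p.o0) (ha' : ab a ≠ p.o1) (b' : Option (Fin 2 ⊕ Fin 2)) :
    Cfsg.hermForm n F q (efr C (peo p b')) (C.fr a) = 0 := by
  have h := efr_gram C (peo p b') (some a)
  rw [glom1_efr_some] at h
  rw [h, if_neg]
  intro h'
  rw [← glom5_peo_ngo] at h'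
  exact glom5_out_ne p ha ha' (ngo b') h'.symm

/-- the action of `embMat` -/
theorem glom5_embMat_mulVec (A : Matrix (Fin 5) (Fin 5) F) (x : Fin n → F) :
    embMat C C₂ p A *ᵥ x = x + ∑ a' : Option (Fin 2 ⊕ Fin 2), ∑ b' : Option (Fin 2 ⊕ Fin 2),
      ((eco C₂ (A *ᵥ efr C₂ a') b' - if b' = a' then 1 else 0) * Cfsg.hermForm n F q x (efr C (ngo (peo p a')))) • efr C (peo p b') := by
  unfold embMat
  rw [Matrix.add_mulVec, Matrix.one_mulVec, Matrix.sum_mulVec]
  congr 1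
  apply Finset.sum_congr rfl
  intro a' _
  rw [Matrix.sum_mulVec]
  apply Finset.sum_congr rfl
  intro b' _
  rw [Matrix.smul_mulVec, R_mulVec C.hσ, smul_smul]

theorem embMat_fr_pe (A : Matrix (Fin 5) (Fin 5) F) (a' : Option (Fin 2 ⊕ Fin 2)) :
    embMat C C₂ p A *ᵥ efr C (peo p a') = ∑ b', eco C₂ (A *ᵥ efr C₂ a') b' • efr C (peo p b') := by
  rw [glom5_embMat_mulVec]
  rw [Finset.sum_eq_single a']
  · have h1 : Cfsg.hermForm n F q (efr C (peo p a')) (efr C (ngo (peo p a'))) = 1 := by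
      rw [efr_gram, if_pos rfl]
    simp only [h1, mul_one, sub_smul, Finset.sum_sub_distrib]
    have h2 : ∑ b' : Option (Fin 2 ⊕ Fin 2), (if b' = a' then (1 : F) else 0) • efr C (peo p b') = efr C (peo p a') := by
      rw [Finset.sum_eq_single a']
      · rw [if_pos rfl, one_smul]
      · intro b _ hb
        rw [if_neg hb, zero_smul]
      · intro h
        exact absurd (Finset.mem_univ _) h
    rw [h2]
    abel
  · intro c' _ hc
    apply Finset.sum_eq_zero
    intro b' _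
    have hg : Cfsg.hermForm n F q (efr C (peo p a')) (efr C (ngo (peo p c'))) = 0 := by
      rw [← glom5_peo_ngo, glom5_gram_pe, if_neg]
      intro h
      exact hc (glom1_ngo_inj.1 h)
    rw [hg, mul_zero, zero_smul]
  · intro h
    exact absurd (Finset.mem_univ _) h

theorem embMat_fr_out (A : Matrix (Fin 5) (Fin 5) F) {a : Fin m ⊕ Fin m} (ha : ab a ≠ p.o0) (ha' : ab a ≠ p.o1) :
    embMat C C₂ p A *ᵥ C.fr a = C.fr a := by
  rw [glom5_embMat_mulVec]
  rw [Finset.sum_eq_zero, add_zero]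
  intro a' _
  apply Finset.sum_eq_zero
  intro b' _
  rw [← glom5_peo_ngo, glom5_gram_out C p ha ha', mul_zero, zero_smul]

theorem embMat_one : embMat C C₂ p 1 = 1 := by
  unfold embMat
  have h : ∀ a' b' : Option (Fin 2 ⊕ Fin 2),
      (eco C₂ ((1 : Matrix (Fin 5) (Fin 5) F) *ᵥ efr C₂ a') b' - if b' = a' then 1 else 0) = 0 := by
    intro a' b'
    rw [Matrix.one_mulVec, glom1_eco_efr, sub_self]
  simp only [h, zero_smul, Finset.sum_const_zero, add_zero]

/-- the coordinates are linear -/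
theorem glom5_co_sum {κ : Type*} (s : Finset κ) (f : κ → Fin 5 → F) (α : κ → F) (b' : Option (Fin 2 ⊕ Fin 2)) :
    eco C₂ (∑ c ∈ s, α c • f c) b' = ∑ c ∈ s, α c * eco C₂ (f c) b' := by
  unfold eco
  rw [glem1_herm_sum_left]
  apply Finset.sum_congr rfl
  intro c _
  rw [herm_smul_left]

theorem embMat_mul (A B : Matrix (Fin 5) (Fin 5) F) : embMat C C₂ p (A * B) = embMat C C₂ p A * embMat C C₂ p B := by
  apply frame_ext C
  intro a
  rw [← Matrix.mulVec_mulVec]
  rcases glom5_cases p a with ⟨c', rfl⟩ | ⟨a₀, rfl, h0, h1⟩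
  · rw [embMat_fr_pe, embMat_fr_pe, Matrix.mulVec_sum]
    have h1 : ∀ b' : Option (Fin 2 ⊕ Fin 2), embMat C C₂ p A *ᵥ (eco C₂ (B *ᵥ efr C₂ c') b' • efr C (peo p b')) =
        ∑ d', (eco C₂ (B *ᵥ efr C₂ c') b' * eco C₂ (A *ᵥ efr C₂ b') d') • efr C (peo p d') := by
      intro b'
      rw [Matrix.mulVec_smul, embMat_fr_pe, Finset.smul_sum]
      apply Finset.sum_congr rfl
      intro d' _
      rw [smul_smul]
    simp only [h1]
    rw [Finset.sum_comm]
    apply Finset.sum_congr rfl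
    intro d' _
    rw [← Finset.sum_smul]
    congr 1
    rw [← Matrix.mulVec_mulVec, glom1_mulVec_span C₂ A (B *ᵥ efr C₂ c'), glom5_co_sum]
  · rw [glom1_efr_some, embMat_fr_out C C₂ p _ h0 h1, embMat_fr_out C C₂ p _ h0 h1, embMat_fr_out C C₂ p _ h0 h1]

/-- the form on two images of extended frame vectors of the block -/
theorem glom6_in_in (A : Matrix (Fin 5) (Fin 5) F) (a₁ a₂ : Option (Fin 2 ⊕ Fin 2)) :
    Cfsg.hermForm n F q (embMat C C₂ p A *ᵥ efr C (peo p a₁)) (embMat C C₂ p A *ᵥ efr C (peo p a₂)) =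
      Cfsg.hermForm 5 F q (A *ᵥ efr C₂ a₁) (A *ᵥ efr C₂ a₂) := by
  rw [embMat_fr_pe, embMat_fr_pe, glem1_herm_expand C.hσ]
  conv_rhs => rw [frame_span C₂ (A *ᵥ efr C₂ a₁), frame_span C₂ (A *ᵥ efr C₂ a₂), glem1_herm_expand C₂.hσ]
  apply Finset.sum_congr rfl
  intro b' _
  apply Finset.sum_congr rfl
  intro d' _
  rw [glom5_gram_pe, efr_gram]
  have hσ : ∀ z : F, C.σ z = C₂.σ z := fun z => by rw [C.hσ, C₂.hσ]
  rw [hσ]

theorem embMat_iso {A : Matrix (Fin 5) (Fin 5) F}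
    (hA : ∀ x y, Cfsg.hermForm 5 F q (A *ᵥ x) (A *ᵥ y) = Cfsg.hermForm 5 F q x y) (x y : Fin n → F) :
    Cfsg.hermForm n F q (embMat C C₂ p A *ᵥ x) (embMat C C₂ p A *ᵥ y) = Cfsg.hermForm n F q x y := by
  apply iso_of_frame C
  intro a b
  rcases glom5_cases p a with ⟨a', rfl⟩ | ⟨a₀, rfl, h0, h1⟩
  · rcases glom5_cases p b with ⟨b', rfl⟩ | ⟨b₀, rfl, h0', h1'⟩
    · rw [glom6_in_in, hA, glom5_gram_pe, efr_gram]
    · rw [glom1_efr_some, embMat_fr_out C C₂ p _ h0' h1', embMat_fr_pe, glem1_herm_sum_left, glom5_gram_out' C p h0' h1']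
      apply Finset.sum_eq_zero
      intro c' _
      rw [herm_smul_left, glom5_gram_out' C p h0' h1', mul_zero]
  · rcases glom5_cases p b with ⟨b', rfl⟩ | ⟨b₀, rfl, h0', h1'⟩
    · rw [glom1_efr_some, embMat_fr_out C C₂ p _ h0 h1, embMat_fr_pe, glem1_herm_sum_right C.hσ, glom5_gram_out C p h0 h1]
      apply Finset.sum_eq_zero
      intro c' _
      rw [herm_smul_right C.hσ, glom5_gram_out C p h0 h1, mul_zero]
    · rw [glom1_efr_some, glom1_efr_some, embMat_fr_out C C₂ p _ h0 h1, embMat_fr_out C C₂ p _ h0' h1']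

/-! ## the determinant -/

/-- the matrix of the extended frame vectors of the block -/
def glom7_U : Matrix (Fin n) (Option (Fin 2 ⊕ Fin 2)) F := Matrix.of fun x b' => efr C (peo p b') x

/-- the matrix of the dual extended frame vectors of the block -/
def glom7_U' : Matrix (Option (Fin 2 ⊕ Fin 2)) (Fin n) F := Matrix.of fun a' y => C.σ (efr C (ngo (peo p a')) y)

/-- the matrix of `A` in the coordinates of the extended frame of `C₂` -/
def glom7_hat (A : Matrix (Fin 5) (Fin 5) F) : Matrix (Option (Fin 2 ⊕ Fin 2)) (Option (Fin 2 ⊕ Fin 2)) F :=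
  Matrix.of fun b' a' => eco C₂ (A *ᵥ efr C₂ a') b'

theorem glom7_U'_mul_U : (glom7_U' C p : Matrix (Option (Fin 2 ⊕ Fin 2)) (Fin n) F) *
    (glom7_U C p : Matrix (Fin n) (Option (Fin 2 ⊕ Fin 2)) F) = 1 := by
  ext a' b'
  rw [Matrix.mul_apply, Matrix.one_apply]
  have h : ∑ x, glom7_U' C p a' x * glom7_U C p x b' =
      Cfsg.hermForm n F q (efr C (peo p b')) (efr C (ngo (peo p a'))) := by
    rw [glom3_herm C]
    apply Finset.sum_congr rfl
    intro x _
    simp only [glom7_U, glom7_U', Matrix.of_apply]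
    ring
  rw [h, ← glom5_peo_ngo, glom5_gram_pe]
  by_cases hab : a' = b'
  · rw [if_pos hab, if_pos (by rw [hab])]
  · rw [if_neg hab, if_neg (fun h' => hab (glom1_ngo_inj.1 h'))]

theorem glom7_embMat_eq (A : Matrix (Fin 5) (Fin 5) F) :
    embMat C C₂ p A = 1 + (glom7_U C p : Matrix (Fin n) (Option (Fin 2 ⊕ Fin 2)) F) *
      (((glom7_hat C₂ A : Matrix (Option (Fin 2 ⊕ Fin 2)) (Option (Fin 2 ⊕ Fin 2)) F) - 1) *
        (glom7_U' C p : Matrix (Option (Fin 2 ⊕ Fin 2)) (Fin n) F)) := by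
  unfold embMat
  congr 1
  ext x y
  simp only [Matrix.sum_apply, Matrix.smul_apply, Matrix.mul_apply, Matrix.sub_apply, Matrix.one_apply, smul_eq_mul,
    glom7_U, glom7_U', glom7_hat, Matrix.of_apply, R, Matrix.vecMulVec_apply]
  rw [Finset.sum_comm]
  apply Finset.sum_congr rfl
  intro j _
  rw [Finset.mul_sum]
  apply Finset.sum_congr rfl
  intro c _
  ring

/-- the matrix of `A` in the coordinates of the frame is conjugate to `A` -/
theorem glom7_hat_eq (A : Matrix (Fin 5) (Fin 5) F) :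
    glom7_hat C₂ A = (glom3_T' C₂ : Matrix (Option (Fin 2 ⊕ Fin 2)) (Fin 5) F) * A *
      (glom3_T C₂ : Matrix (Fin 5) (Option (Fin 2 ⊕ Fin 2)) F) := by
  ext b' a'
  simp only [glom7_hat, Matrix.of_apply, eco]
  rw [glom3_herm C₂, Matrix.mul_apply]
  simp only [Matrix.mul_apply, Matrix.mulVec, dotProduct, Finset.sum_mul, glom3_T, glom3_T', Matrix.of_apply]
  rw [Finset.sum_comm]
  apply Finset.sum_congr rfl
  intro x _
  apply Finset.sum_congr rfl
  intro y _
  ring

theorem embMat_det (A : Matrix (Fin 5) (Fin 5) F) : (embMat C C₂ p A).det = A.det := by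
  rw [glom7_embMat_eq, Matrix.det_one_add_mul_comm, Matrix.mul_assoc, glom7_U'_mul_U, Matrix.mul_one,
    add_sub_cancel, glom7_hat_eq, Matrix.det_conj_of_mul_eq_one (glom3_T'_mul_T C₂) (glom3_T_mul_T' C₂)]

/-- the homomorphism exists -/
theorem glom8_exists : ∃ φ : ↥(Cfsg.SU 5 F q) →* ↥(Cfsg.SU n F q), ∀ A : ↥(Cfsg.SU 5 F q),
    ((φ A : Matrix.SpecialLinearGroup (Fin n) F) : Matrix (Fin n) (Fin n) F) =
      embMat C C₂ p ((A : Matrix.SpecialLinearGroup (Fin 5) F) : Matrix (Fin 5) (Fin 5) F) := by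
  refine ⟨MonoidHom.mk' (fun A => mkSU (embMat C C₂ p ((A : Matrix.SpecialLinearGroup (Fin 5) F) : Matrix (Fin 5) (Fin 5) F))
    (by rw [embMat_det, su_det]) (embMat_iso C C₂ p (su_iso A))) ?_, fun A => rfl⟩
  intro A B
  apply su_ext
  change embMat C C₂ p (((A * B : ↥(Cfsg.SU 5 F q)) : Matrix.SpecialLinearGroup (Fin 5) F) : Matrix (Fin 5) (Fin 5) F) =
    embMat C C₂ p ((A : Matrix.SpecialLinearGroup (Fin 5) F) : Matrix (Fin 5) (Fin 5) F) *
      embMat C C₂ p ((B : Matrix.SpecialLinearGroup (Fin 5) F) : Matrix (Fin 5) (Fin 5) F)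
  rw [su_coe_mul, embMat_mul]

theorem lamM_coe (A : ↥(Cfsg.SU 5 F q)) :
    ((lamM C C₂ p A : Matrix.SpecialLinearGroup (Fin n) F) : Matrix (Fin n) (Fin n) F) =
      embMat C C₂ p ((A : Matrix.SpecialLinearGroup (Fin 5) F) : Matrix (Fin 5) (Fin 5) F) := by
  unfold lamM
  rw [dif_pos (glom8_exists C C₂ p)]
  exact (glom8_exists C C₂ p).choose_spec A

end M

end Cfsg.Agent.Lib.Helper20.GLO
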