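import Mathlib
import Cfsg.Agent.Lib.Helper20.GLO.Defs
import Cfsg.Agent.Lib.Helper20.GLO.DefsM
import Cfsg.Agent.Lib.Helper20.GLOM1
import Cfsg.Agent.Lib.Helper20.GLOM5
import Cfsg.Agent.Lib.Helper20.GLEM9
import Cfsg.Agent.Lib.Helper20.SPMA1
import Cfsg.Agent.Lib.Helper29.SPMA3
import Cfsg.Agent.Lib.Helper29.SPMA4
import Cfsg.Agent.Lib.Helper24.STCI1

/-!
# GLO rows M9 - M14, M16 (helper20): the root elements on the matrix side of the odd gluing (port of `Helper20/GLEM9.lean`)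
-/

set_option autoImplicit false
set_option linter.unusedSectionVars false

namespace Cfsg.Agent.Lib.Helper20.GLO

open Matrix
open Cfsg.Agent.Lib.helper15.SUn
open Cfsg.Agent.Lib.helper3.STC (ng ab ab_eq_iff ab_ng)
open Cfsg.Agent.Lib.helper3.SPM (Pts pe sgm sn sig2 pe2 pe_eq_pe2 pe2_injective pe2_ng ab_pe2 exists_pe2 sgm_ng sgm_one sgm_mul
  sgm_inl sgm_inr sgm_pe2 pe2_swap sig2_o0 sig2_o1)
open Cfsg.Agent.Lib.Helper27.STU
open Cfsg.Agent.Lib.Helper19.MOD (Ctx)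
open Cfsg.Agent.Lib.helper17.SLP (cm)
open Cfsg.Agent.Lib.Helper20.GLE (lamC lamP glem1_herm_sum_left glem1_herm_sum_right glem1_herm_expand glem5_pe_inj glem5_pe_ng
  glem5_ab_pe glem9_coe_conj glem11_sgm_pe glem11_sgm_fix glem12_lamC_apply glem13_ab_sn glem13_sgm_pe_sn0 glem13_sgm_pe_sn1)

universe u

section M

variable {F : Type u} [Field F] [StarRing F] {n q m : ℕ} (C : Ctx F n q m True) (C₂ : Ctx F 5 q 2 True) (p : Pts (Fin m))

/-! ## M9 -/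

theorem nuM_conj_xs (σ : Equiv.Perm (Fin m)) {a b : Fin m ⊕ Fin m} (hab : a ≠ b) (t : F) :
    nuM C σ * C.xsE a b t * (nuM C σ)⁻¹ = C.xsE (sgm σ a) (sgm σ b) t := by
  apply su_ext
  have hab' : sgm σ a ≠ sgm σ b := fun h => hab ((sgm σ).injective h)
  rw [glem9_coe_conj, C.coe_xsE hab, C.coe_xsE hab']
  unfold Ctx.xsM
  rw [conj_Sg C.hσ (su_mul_inv (nuM C σ)) (su_iso (nuM C σ)), nuM_fr, nuM_fr, sgm_ng]

theorem nuM_conj_xl (σ : Equiv.Perm (Fin m)) (a : Fin m ⊕ Fin m) (ξ : Lam F True) :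
    nuM C σ * C.xlE a ξ * (nuM C σ)⁻¹ = C.xlE (sgm σ a) ξ := by
  apply su_ext
  rw [glem9_coe_conj, C.coe_xlE, C.coe_xlE]
  unfold Ctx.xlM
  rw [conj_Eh C.hσ (su_mul_inv (nuM C σ)) (su_iso (nuM C σ)), nuM_fr, Matrix.mulVec_smul, nuM_dv]

/-! ## M10 -/

/-- the embedding of the five dimensional space -/
def glom10_iota (y : Fin 5 → F) : Fin n → F := ∑ b' : Option (Fin 2 ⊕ Fin 2), eco C₂ y b' • efr C (peo p b')

theorem glom10_embMat_fr (A : Matrix (Fin 5) (Fin 5) F) (a' : Option (Fin 2 ⊕ Fin 2)) :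
    embMat C C₂ p A *ᵥ efr C (peo p a') = glom10_iota C C₂ p (A *ᵥ efr C₂ a') := embMat_fr_pe C C₂ p A a'

theorem glom10_iota_add (y z : Fin 5 → F) : glom10_iota C C₂ p (y + z) = glom10_iota C C₂ p y + glom10_iota C C₂ p z := by
  unfold glom10_iota eco
  rw [← Finset.sum_add_distrib]
  apply Finset.sum_congr rfl
  intro b' _
  rw [herm_add_left, add_smul]

theorem glom10_iota_sub (y z : Fin 5 → F) : glom10_iota C C₂ p (y - z) = glom10_iota C C₂ p y - glom10_iota C C₂ p z := by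
  unfold glom10_iota eco
  rw [← Finset.sum_sub_distrib]
  apply Finset.sum_congr rfl
  intro b' _
  rw [herm_sub_left, sub_smul]

theorem glom10_iota_smul (c : F) (y : Fin 5 → F) : glom10_iota C C₂ p (c • y) = c • glom10_iota C C₂ p y := by
  unfold glom10_iota eco
  rw [Finset.smul_sum]
  apply Finset.sum_congr rfl
  intro b' _
  rw [herm_smul_left, smul_smul]

theorem glom10_iota_efr (a' : Option (Fin 2 ⊕ Fin 2)) : glom10_iota C C₂ p (efr C₂ a') = efr C (peo p a') := by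
  unfold glom10_iota
  rw [Finset.sum_eq_single a']
  · rw [glom1_eco_efr, if_pos rfl, one_smul]
  · intro b _ hb
    rw [glom1_eco_efr, if_neg hb, zero_smul]
  · intro h
    exact absurd (Finset.mem_univ _) h

theorem glom10_iota_fr (a' : Fin 2 ⊕ Fin 2) : glom10_iota C C₂ p (C₂.fr a') = C.fr (pe p a') :=
  glom10_iota_efr C C₂ p (some a')

theorem glom10_iota_dv : glom10_iota C C₂ p C₂.dv = C.dv :=
  glom10_iota_efr C C₂ p none

/-- the Gram matrices of the two extended frames agree -/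
theorem glom10_gram (a' b' : Option (Fin 2 ⊕ Fin 2)) :
    Cfsg.hermForm n F q (efr C (peo p a')) (efr C (peo p b')) = Cfsg.hermForm 5 F q (efr C₂ a') (efr C₂ b') := by
  rw [glom5_gram_pe, efr_gram]

theorem glom10_gram_fr (c' : Option (Fin 2 ⊕ Fin 2)) (b' : Fin 2 ⊕ Fin 2) :
    Cfsg.hermForm n F q (efr C (peo p c')) (C.fr (pe p b')) = Cfsg.hermForm 5 F q (efr C₂ c') (C₂.fr b') :=
  glom10_gram C C₂ p c' (some b')

theorem glom10_gram_dv (c' : Option (Fin 2 ⊕ Fin 2)) :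
    Cfsg.hermForm n F q (efr C (peo p c')) C.dv = Cfsg.hermForm 5 F q (efr C₂ c') C₂.dv :=
  glom10_gram C C₂ p c' none

theorem glom10_out_fr {a : Fin m ⊕ Fin m} (ha : ab a ≠ p.o0) (ha' : ab a ≠ p.o1) (b' : Fin 2 ⊕ Fin 2) :
    Cfsg.hermForm n F q (C.fr a) (C.fr (pe p b')) = 0 :=
  glom5_gram_out C p ha ha' (some b')

theorem glom10_sigma (z : F) : C₂.σ z = C.σ z := by rw [C.hσ, C₂.hσ]

theorem lamM_xs {a' b' : Fin 2 ⊕ Fin 2} (hab' : ab a' ≠ ab b') (t : F) :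
    lamM C C₂ p (C₂.xsE a' b' t) = C.xsE (pe p a') (pe p b') t := by
  have h1 : a' ≠ b' := fun h => hab' (by rw [h])
  have h2 : pe p a' ≠ pe p b' := fun h => h1 (glem5_pe_inj p h)
  apply su_ext
  rw [lamM_coe, C₂.coe_xsE h1, C.coe_xsE h2]
  apply frame_ext C
  intro a
  rcases glom5_cases p a with ⟨c', rfl⟩ | ⟨a₀, rfl, h0, h0'⟩
  · rw [glom10_embMat_fr, C₂.xsM_mulVec, C.xsM_mulVec, glom10_iota_sub, glom10_iota_add, glom10_iota_smul, glom10_iota_smul,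
      glom10_iota_efr, glom10_iota_fr, glom10_iota_fr, glem5_pe_ng, ← glem5_pe_ng p b', glom10_gram_fr, glom10_gram_fr, glom10_sigma,
      glem5_pe_ng]
  · rw [glom1_efr_some, embMat_fr_out C C₂ p _ h0 h0', C.xsM_mulVec, ← glem5_pe_ng, glom10_out_fr C p h0 h0',
      glom10_out_fr C p h0 h0', mul_zero, mul_zero, zero_smul, zero_smul, add_zero, sub_zero]

theorem lamM_xl (a' : Fin 2 ⊕ Fin 2) (ξ : Lam F True) : lamM C C₂ p (C₂.xlE a' ξ) = C.xlE (pe p a') ξ := by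
  apply su_ext
  rw [lamM_coe, C₂.coe_xlE, C.coe_xlE]
  apply frame_ext C
  intro a
  rcases glom5_cases p a with ⟨c', rfl⟩ | ⟨a₀, rfl, h0, h0'⟩
  · rw [glom10_embMat_fr, C₂.xlM_mulVec, C.xlM_mulVec, glom10_iota_sub, glom10_iota_add, glom10_iota_smul, glom10_iota_smul,
      glom10_iota_efr, glom10_iota_fr, glom10_iota_dv, glom10_gram_fr, glom10_gram_dv, glom10_sigma]
  · rw [glom1_efr_some, embMat_fr_out C C₂ p _ h0 h0', C.xlM_mulVec, glom10_out_fr C p h0 h0', C.gram_fd, mul_zero, mul_zero,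
      mul_zero, add_zero, zero_smul, zero_smul, add_zero, sub_zero]

/-! ## M11 -/

theorem glom11_sgo_peo (c' : Option (Fin 2 ⊕ Fin 2)) :
    sgo (Equiv.swap p.o0 p.o1) (peo p c') = peo p (sgo (Equiv.swap 0 1) c') := by
  cases c' with
  | none => rfl
  | some c => exact congrArg some (glem11_sgm_pe p c)

theorem lamM_sw : lamM C C₂ p (nuM C₂ (Equiv.swap 0 1)) = nuM C (Equiv.swap p.o0 p.o1) := by
  apply su_ext
  rw [lamM_coe, nuM_coe, nuM_coe]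
  apply frame_ext C
  intro a
  rcases glom5_cases p a with ⟨c', rfl⟩ | ⟨a₀, rfl, h0, h0'⟩
  · rw [glom10_embMat_fr, permMat_fr, permMat_fr, glom10_iota_efr, glom11_sgo_peo]
  · rw [glom1_efr_some, embMat_fr_out C C₂ p _ h0 h0']
    have h := permMat_fr C (Equiv.swap p.o0 p.o1) (some a₀)
    rw [glom1_efr_some, glom1_sgo_some, glom1_efr_some, glem11_sgm_fix (Equiv.swap_apply_of_ne_of_ne h0 h0')] at h
    exact h.symm

/-! ## M12 -/

theorem lamC_M_xs (σ : Equiv.Perm (Fin m)) {a' b' : Fin 2 ⊕ Fin 2} (hab' : ab a' ≠ ab b') (t : F) :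
    lamC (nuM C) (lamM C C₂ p) σ (C₂.xsE a' b' t) = C.xsE (sgm σ (pe p a')) (sgm σ (pe p b')) t := by
  have h1 : a' ≠ b' := fun h => hab' (by rw [h])
  have h2 : pe p a' ≠ pe p b' := fun h => h1 (glem5_pe_inj p h)
  rw [glem12_lamC_apply, lamM_xs C C₂ p hab', nuM_conj_xs C σ h2]

theorem lamC_M_xl (σ : Equiv.Perm (Fin m)) (a' : Fin 2 ⊕ Fin 2) (ξ : Lam F True) :
    lamC (nuM C) (lamM C C₂ p) σ (C₂.xlE a' ξ) = C.xlE (sgm σ (pe p a')) ξ := by
  rw [glem12_lamC_apply, lamM_xl, nuM_conj_xl]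

/-! ## M13 -/

theorem xrs_M (S₂ : SysU F True (Fin 2) ↥(Cfsg.SU 5 F q)) (h₂s : ∀ a b t, S₂.xs a b t = C₂.xsE a b t)
    {a b : Fin m ⊕ Fin m} (hab : ab a ≠ ab b) (t : F) :
    xrs S₂ p (nuM C) (lamM C C₂ p) a b t = C.xsE a b t := by
  unfold xrs
  rw [h₂s, lamC_M_xs C C₂ p _ (by rw [glem13_ab_sn, glem13_ab_sn]; decide),
    glem13_sgm_pe_sn0 p (sig2_o0 p hab), glem13_sgm_pe_sn1 p (sig2_o1 p hab)]

theorem xrl_M (S₂ : SysU F True (Fin 2) ↥(Cfsg.SU 5 F q)) (h₂l : ∀ a ξ, S₂.xl a ξ = C₂.xlE a ξ)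
    (a : Fin m ⊕ Fin m) (ξ : Lam F True) :
    xrl S₂ p (nuM C) (lamM C C₂ p) a ξ = C.xlE a ξ := by
  unfold xrl
  rw [h₂l, lamC_M_xl, glem13_sgm_pe_sn1 p (Equiv.swap_apply_left _ _)]

/-! ## M14 -/

theorem glom14_act_one (ξ : Lam F True) : Lam.act (1 * (1 : F)⁻¹) ξ = ξ := by
  apply Lam.ext
  · simp
  · simp

theorem sw_mon_M (S₂ : SysU F True (Fin 2) ↥(Cfsg.SU 5 F q)) (h₂s : ∀ a b t, S₂.xs a b t = C₂.xsE a b t)
    (h₂l : ∀ a ξ, S₂.xl a ξ = C₂.xlE a ξ) :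
    S₂.IsMon (nuM C₂ (Equiv.swap 0 1)) (sgm (Equiv.swap 0 1)) (fun _ => 1) 1 := by
  refine ⟨⟨fun k => sgm_ng _ k, fun k => by simp, by simp⟩, ?_, ?_⟩
  · intro k l hkl _ t
    rw [h₂s, h₂s]
    show nuM C₂ _ * _ * (nuM C₂ _)⁻¹ = _
    rw [nuM_conj_xs C₂ _ hkl]
    simp
  · intro k ξ
    rw [h₂l, h₂l, glom14_act_one]
    show nuM C₂ _ * _ * (nuM C₂ _)⁻¹ = _
    rw [nuM_conj_xl]

/-! ## extras for M15 -/

section glue

variable (S₂ : SysU F True (Fin 2) ↥(Cfsg.SU 5 F q)) (h₂s : ∀ a b t, S₂.xs a b t = C₂.xsE a b t)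
  (h₂l : ∀ a ξ, S₂.xl a ξ = C₂.xlE a ξ)

include h₂s in
theorem glom15_lamC_uA (σ : Equiv.Perm (Fin m)) (t : F) :
    lamC (nuM C) (lamM C C₂ p) σ (uA S₂ t) = C.xsE (Sum.inl (σ p.o0)) (Sum.inl (σ p.o1)) t := by
  unfold uA
  rw [h₂s, lamC_M_xs C C₂ p σ (by simp [ab])]
  rfl

include h₂s in
theorem glom15_lam_uA (t : F) : lamM C C₂ p (uA S₂ t) = C.xsE (Sum.inl p.o0) (Sum.inl p.o1) t := by
  have h := glom15_lamC_uA C C₂ p S₂ h₂s 1 t
  rw [glem12_lamC_apply, map_one, one_mul, inv_one, mul_one] at h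
  exact h

include h₂l in
/-- the elements of `B1 S₂`: closure induction -/
theorem glom15_B1_induction {P : ↥(Cfsg.SU 5 F q) → Prop} (hone : P 1) (hmul : ∀ x y, P x → P y → P (x * y))
    (hinv : ∀ x, P x → P x⁻¹) (hgen : ∀ (a : Fin 2 ⊕ Fin 2) (ξ : Lam F True), ab a = 1 → P (C₂.xlE a ξ))
    {g : ↥(Cfsg.SU 5 F q)} (hg : g ∈ B1 S₂) : P g := by
  unfold B1 SysU.XQ at hg
  induction hg using Subgroup.closure_induction with
  | mem x hx =>
    rcases hx with ⟨a, b, t, hab, hab', ⟨ha, hb⟩, rfl⟩ | ⟨a, ξ, ⟨ha, _⟩, rfl⟩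
    · exfalso
      rcases ab_eq_iff.1 (ha.trans hb.symm) with h | h
      · exact hab h
      · exact hab' h
    · rw [h₂l]
      exact hgen a ξ ha
  | one => exact hone
  | mul x y _ _ hx hy => exact hmul x y hx hy
  | inv x _ hx => exact hinv x hx

end glue

/-! ## M16 -/

theorem rep_inj (S₀ : SysU F True (Fin m) ↥(Cfsg.SU n F q)) (R₀ : S₀.Rep (Fin n → F))
    (hφ : ∀ (g : ↥(Cfsg.SU n F q)) (x : Fin n → F),
      R₀.φ g x = ((g : Matrix.SpecialLinearGroup (Fin n) F) : Matrix (Fin n) (Fin n) F) *ᵥ x) :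
    Function.Injective R₀.φ := by
  intro g g' h
  apply su_ext
  apply mat_ext
  intro x
  rw [← hφ, ← hφ, h]

end M

end Cfsg.Agent.Lib.Helper20.GLO
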