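import Mathlib
import Cfsg.Agent.Lib.Helper20.GLO.Defs
import Cfsg.Agent.Lib.Helper20.GLOL0
import Cfsg.Agent.Lib.Helper24.STCI1
import Cfsg.Agent.Lib.Helper11.STUB3
import Cfsg.Agent.Lib.Helper11.STUX1

/-!
# Project GLO (designer helper20; block of PSU, S2291), rows U2 U3 (`gen3_of_esp`, `ufacts_of`): the facts on the rank two group.
VERBATIM vs `Helper20/GLO/SkelA.lean.txt`.  Port of `Helper20/GLEU1.lean`.
-/

set_option autoImplicit false
set_option linter.unusedSectionVars false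

namespace Cfsg.Agent.Lib.Helper20.GLO

open Cfsg.Agent.Lib.helper3.STC (ng ab ab_eq_iff ab_ng ng_ng)
open Cfsg.Agent.Lib.helper3.SPM (Pts pe sgm sn sig2 ptsFin pe2)
open Cfsg.Agent.Lib.Helper27.STU
open Cfsg.Agent.Lib.helper17.SLP (cm)
open Cfsg.Agent.Lib.helper15.St2 (cj)
open Cfsg.Agent.Lib.Helper20.GLE (lamC lamP)

universe u v w x v' y

section U
variable {F : Type u} [Field F] [StarRing F] {L : Type x} [Group L] (S₂ : SysU F True (Fin 2) L) (swL : L)

/-- the index of a signed index moved by a permutation of the indices -/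
theorem glou2_ab_sgm {κ : Type*} (σ : Equiv.Perm κ) (a : κ ⊕ κ) : ab (sgm σ a) = σ (ab a) := by
  cases a <;> rfl

theorem glou2_act_one (ξ : Lam F True) : Lam.act ((1 : F) * 1⁻¹) ξ = ξ := by
  apply Lam.ext <;> simp [Lam.act]

/-- the long root elements of the index `1` lie in `B1` -/
theorem glou2_xl_mem (a : Fin 2 ⊕ Fin 2) (ha : ab a = 1) (ξ : Lam F True) : S₂.xl a ξ ∈ B1 S₂ := by
  refine S₂.xl_mem_XQ ⟨ha, ?_⟩ ξ
  rw [ab_ng]
  exact ha

/-- conjugation by an element of a subgroup -/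
theorem glou2_cj_mem {K : Subgroup L} {g y : L} (hg : g ∈ K) (hy : y ∈ K) : cj g y ∈ K := by
  unfold cj
  exact mul_mem (mul_mem hg hy) (inv_mem hg)

/-- transport of a full short root subgroup by a monomial element of a subgroup -/
theorem glou2_transport {K : Subgroup L} {g : L} {π : Equiv.Perm (Fin 2 ⊕ Fin 2)} {d : Fin 2 ⊕ Fin 2 → F} {d0 : F}
    (hg : S₂.IsMon g π d d0) (hgK : g ∈ K) {k l k' l' : Fin 2 ⊕ Fin 2} (hkl : k ≠ l) (hkl' : k ≠ ng l)
    (hk : π k = k') (hl : π l = l') (h : ∀ t, S₂.xs k l t ∈ K) : ∀ t, S₂.xs k' l' t ∈ K := by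
  intro t
  have hd : ∀ k, d k ≠ 0 := by
    intro k hk0
    have h1 := hg.1.d_ng k
    rw [hk0, star_zero, mul_zero] at h1
    exact zero_ne_one h1
  have e := hg.2.1 k l hkl hkl' ((d k * (d l)⁻¹)⁻¹ * t)
  rw [hk, hl, mul_inv_cancel_left₀ (mul_ne_zero (hd k) (inv_ne_zero (hd l)))] at e
  rw [← e]
  exact glou2_cj_mem hgK (h _)

theorem glou2_cases (a : Fin 2 ⊕ Fin 2) : a = Sum.inl 0 ∨ a = Sum.inr 0 ∨ a = Sum.inl 1 ∨ a = Sum.inr 1 := by
  revert a
  decide

/-- U2 -/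
theorem gen3_of_esp (hF : Hyp F) (hsw : S₂.IsMon swL (sgm (Equiv.swap 0 1)) (fun _ => 1) 1)
    (hesp : S₂.XQ (fun _ _ => True) = ⊤) (hW : S₂.HW) (hH : S₂.HH) :
    Subgroup.closure ({uA S₂ 1, swL} ∪ (B1 S₂ : Set L)) = ⊤ := by
  set K := Subgroup.closure ({uA S₂ 1, swL} ∪ (B1 S₂ : Set L)) with hK
  have hu1 : S₂.xs (Sum.inl 0) (Sum.inl 1) 1 ∈ K := Subgroup.subset_closure (Or.inl (Or.inl rfl))
  have hswK : swL ∈ K := Subgroup.subset_closure (Or.inl (Or.inr rfl))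
  have hB : ∀ g ∈ B1 S₂, g ∈ K := fun g hg => Subgroup.subset_closure (Or.inr hg)
  -- the long root elements
  have hxl : ∀ a ξ, S₂.xl a ξ ∈ K := by
    intro a ξ
    have h01 : ab a = 0 ∨ ab a = 1 := by
      generalize ab a = i
      revert i
      decide
    rcases h01 with ha | ha
    · have e := hsw.2.2 (sgm (Equiv.swap 0 1) a) ξ
      have e1 : sgm (Equiv.swap 0 1) (sgm (Equiv.swap 0 1) a) = a := by
        cases a <;> simp [sgm]
      rw [e1, glou2_act_one] at e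
      rw [← e]
      refine glou2_cj_mem hswK (hB _ (glou2_xl_mem S₂ _ ?_ ξ))
      rw [glou2_ab_sgm, ha, Equiv.swap_apply_left]
    · exact hB _ (glou2_xl_mem S₂ a ha ξ)
  have hwl : ∀ a ξ, S₂.wl a ξ ∈ K := fun a ξ => mul_mem (mul_mem (hxl _ _) (hxl _ _)) (hxl _ _)
  have hhl : ∀ a ξ η, S₂.hl a ξ η ∈ K := fun a ξ η => mul_mem (hwl _ _) (inv_mem (hwl _ _))
  -- the short root elements `x_{0 1}(t)`
  have n1 : (Sum.inl 0 : Fin 2 ⊕ Fin 2) ≠ Sum.inl 1 := by decide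
  have n2 : (Sum.inl 0 : Fin 2 ⊕ Fin 2) ≠ ng (Sum.inl 1) := by decide
  have h01 : ∀ t, S₂.xs (Sum.inl 0) (Sum.inl 1) t ∈ K := by
    intro r
    by_cases hr0 : r = 0
    · rw [hr0, S₂.stub3_xs_zero n1 n2]
      exact K.one_mem
    · obtain ⟨ξ, η, hξ, hη, hrat⟩ := exists_lam_ratio hF hr0
      have hm := hH.2 (Sum.inl 0) ξ η hξ hη
      have e := hm.2.1 (Sum.inl 0) (Sum.inl 1) n1 n2 1
      rw [hrat] at e
      have e1 : dhl (Sum.inl 0 : Fin 2 ⊕ Fin 2) r (Sum.inl 0) = r := if_pos rfl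
      have e2 : dhl (Sum.inl 0 : Fin 2 ⊕ Fin 2) r (Sum.inl 1) = 1 := by
        unfold dhl
        rw [if_neg (by decide), if_neg (by decide)]
      rw [e1, e2, inv_one, mul_one, mul_one, Equiv.Perm.one_apply, Equiv.Perm.one_apply] at e
      rw [← e]
      exact glou2_cj_mem (hhl _ _ _) hu1
  -- all the short root elements
  obtain ⟨ξ₀, _, hξ₀, _, _⟩ := exists_lam_ratio hF (one_ne_zero (α := F))
  have m0 := hW.2 (Sum.inl 0) ξ₀ hξ₀
  have m1 := hW.2 (Sum.inl 1) ξ₀ hξ₀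
  have a1 : ∀ t, S₂.xs (Sum.inr 0) (Sum.inl 1) t ∈ K :=
    glou2_transport S₂ m0 (hwl _ _) n1 n2 (by decide) (by decide) h01
  have a2 : ∀ t, S₂.xs (Sum.inl 0) (Sum.inr 1) t ∈ K :=
    glou2_transport S₂ m1 (hwl _ _) n1 n2 (by decide) (by decide) h01
  have a3 : ∀ t, S₂.xs (Sum.inr 0) (Sum.inr 1) t ∈ K :=
    glou2_transport S₂ m1 (hwl _ _) (by decide) (by decide) (by decide) (by decide) a1
  have b0 : ∀ t, S₂.xs (Sum.inl 1) (Sum.inl 0) t ∈ K :=
    glou2_transport S₂ hsw hswK n1 n2 (by decide) (by decide) h01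
  have b1 : ∀ t, S₂.xs (Sum.inr 1) (Sum.inl 0) t ∈ K :=
    glou2_transport S₂ hsw hswK (by decide) (by decide) (by decide) (by decide) a1
  have b2 : ∀ t, S₂.xs (Sum.inl 1) (Sum.inr 0) t ∈ K :=
    glou2_transport S₂ hsw hswK (by decide) (by decide) (by decide) (by decide) a2
  have b3 : ∀ t, S₂.xs (Sum.inr 1) (Sum.inr 0) t ∈ K :=
    glou2_transport S₂ hsw hswK (by decide) (by decide) (by decide) (by decide) a3
  rw [eq_top_iff, ← hesp]
  apply S₂.XQ_le
  · intro a b t hab hab' _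
    rcases glou2_cases a with rfl | rfl | rfl | rfl <;> rcases glou2_cases b with rfl | rfl | rfl | rfl <;>
      first
        | exact (hab rfl).elim
        | exact (hab' rfl).elim
        | exact h01 t
        | exact a1 t
        | exact a2 t
        | exact a3 t
        | exact b0 t
        | exact b1 t
        | exact b2 t
        | exact b3 t
  · intro a ξ _
    exact hxl a ξ

/-- U3 -/
theorem ufacts_of (hF : Hyp F) (hsw : S₂.IsMon swL (sgm (Equiv.swap 0 1)) (fun _ => 1) 1)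
    (hesp : S₂.XQ (fun _ _ => True) = ⊤) (hW : S₂.HW) (hH : S₂.HH) : UFacts S₂ swL where
  gen3 := gen3_of_esp S₂ swL hF hsw hesp hW hH
  sw_mon := hsw
  esp := hesp
  hW := hW
  hH := hH

end U

end Cfsg.Agent.Lib.Helper20.GLO
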