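import Mathlib
import Cfsg.Agent.Lib.Helper20.GLO.Defs
import Cfsg.Agent.Lib.Helper20.GLOL0
import Cfsg.Agent.Lib.Helper20.GLOU2
import Cfsg.Agent.Lib.Helper26.GLEL1
import Cfsg.Agent.Lib.Helper24.STCI1
import Cfsg.Agent.Lib.Helper11.STUB3
import Cfsg.Agent.Lib.Helper11.STUX1

/-!
# Project GLO (designer helper20; block of PSU, S2291), row U4 (`B1_gen4`): the `SU₃(q)` on the index `1` of the rank two group is generated by four elements.
VERBATIM vs `Helper20/GLO/SkelA.lean.txt`.  By helper20 (model `Helper11/GLEU4.lean`).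
-/

set_option autoImplicit false
set_option linter.unusedSectionVars false

namespace Cfsg.Agent.Lib.Helper20.GLO

open Cfsg.Agent.Lib.helper3.STC (ng ab ab_eq_iff ab_ng ng_ng)
open Cfsg.Agent.Lib.helper3.SPM (Pts pe sgm sn sig2 ptsFin pe2)
open Cfsg.Agent.Lib.Helper27.STU
open Cfsg.Agent.Lib.helper17.SLP (cm)
open Cfsg.Agent.Lib.helper15.St2 (cj)
open Cfsg.Agent.Lib.Helper20.GLE (lamC lamP exists_zeta span_of_ne)

universe u v w x v' y

section U
variable {F : Type u} [Field F] [StarRing F] {L : Type x} [Group L] (S₂ : SysU F True (Fin 2) L) (swL : L)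

/-- every `v` is the first parameter of some element of `Lam F True` -/
theorem glou4_exists_v (hF : Hyp F) (v : F) : ∃ ξ : Lam F True, ξ.v = v := by
  have hfix : star (-(v * star v)) = -(v * star v) := by
    rw [star_neg, star_mul', star_star]
    ring
  obtain ⟨y, hy⟩ := hF.trace_surj (-(v * star v)) hfix
  exact ⟨⟨v, y, by rw [hy]; ring, fun h => absurd trivial h⟩, rfl⟩

/-- the commutator in `Lam F True` -/
theorem glou4_comm_v (ξ η : Lam F True) : (ξ * η * ξ⁻¹ * η⁻¹).v = 0 := by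
  simp only [Lam.mul_v, Lam.inv_v]
  ring

theorem glou4_comm_c (ξ η : Lam F True) : (ξ * η * ξ⁻¹ * η⁻¹).c = η.v * star ξ.v - ξ.v * star η.v := by
  have h1 := ξ.h
  have h2 := η.h
  simp only [Lam.mul_c, Lam.mul_v, Lam.inv_c, Lam.inv_v, star_neg]
  linear_combination h1 + h2

/-- the wl and hl elements on the index `1` lie in `B1` -/
theorem glou4_wl_mem (a : Fin 2 ⊕ Fin 2) (ha : ab a = 1) (ξ : Lam F True) : S₂.wl a ξ ∈ B1 S₂ := by
  have ha' : ab (ng a) = 1 := by rw [ab_ng]; exact ha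
  unfold SysU.wl
  exact mul_mem (mul_mem (glou2_xl_mem S₂ a ha _) (glou2_xl_mem S₂ (ng a) ha' _)) (glou2_xl_mem S₂ a ha _)

theorem glou4_hl_mem (a : Fin 2 ⊕ Fin 2) (ha : ab a = 1) (ξ η : Lam F True) : S₂.hl a ξ η ∈ B1 S₂ := by
  unfold SysU.hl
  exact mul_mem (glou4_wl_mem S₂ a ha ξ) (inv_mem (glou4_wl_mem S₂ a ha η))

/-- U4 -/
theorem B1_gen4 [Finite F] (hF : Hyp F) (hW : S₂.HW) (hH : S₂.HH) :
    ∃ b : Fin 4 → L, (∀ i, b i ∈ B1 S₂) ∧ (B1 S₂ : Set L) ⊆ Subgroup.closure (Set.range b) := by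
  classical
  obtain ⟨ζ, hζ⟩ := exists_zeta hF
  have hfin : Finite (selfAdjoint F) := Subtype.finite
  obtain ⟨r₀, hr₀⟩ := IsCyclic.exists_generator (α := (selfAdjoint F)ˣ)
  set r : F := ((r₀ : selfAdjoint F) : F) with hr
  have hrfix : star r = r := (r₀ : selfAdjoint F).2
  have hr0 : r ≠ 0 := by
    intro h
    have : (r₀ : selfAdjoint F) = 0 := Subtype.ext h
    exact r₀.ne_zero this
  obtain ⟨ξ₁, hv1⟩ := glou4_exists_v hF (1 : F)
  obtain ⟨ξ₂, hv2⟩ := glou4_exists_v hF ζ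
  obtain ⟨ξr, ηr, hξr, hηr, hrat⟩ := exists_lam_ratio hF hr0
  have hc1 : ξ₁.c ≠ 0 := by
    intro h
    have h1 := ξ₁.h
    rw [h, hv1, star_zero, star_one] at h1
    simp at h1
  set a : Fin 2 ⊕ Fin 2 := Sum.inl 1 with ha
  have hab1 : ab a = 1 := rfl
  set b : Fin 4 → L := ![S₂.xl a ξ₁, S₂.xl a ξ₂, S₂.hl a ξr ηr, S₂.wl a ξ₁] with hb
  refine ⟨b, ?_, ?_⟩
  · intro i
    fin_cases i
    · exact glou2_xl_mem S₂ _ hab1 _
    · exact glou2_xl_mem S₂ _ hab1 _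
    · exact glou4_hl_mem S₂ _ hab1 _ _
    · exact glou4_wl_mem S₂ _ hab1 _
  set K : Subgroup L := Subgroup.closure (Set.range b) with hK
  have hb0 : S₂.xl a ξ₁ ∈ K := Subgroup.subset_closure ⟨0, rfl⟩
  have hb1 : S₂.xl a ξ₂ ∈ K := Subgroup.subset_closure ⟨1, rfl⟩
  have hb2 : S₂.hl a ξr ηr ∈ K := Subgroup.subset_closure ⟨2, rfl⟩
  have hb3 : S₂.wl a ξ₁ ∈ K := Subgroup.subset_closure ⟨3, rfl⟩
  -- the set of the first parameters which are reached
  have Pzero : ∃ ξ : Lam F True, ξ.v = 0 ∧ S₂.xl a ξ ∈ K := ⟨1, rfl, by rw [S₂.stux1_xl_one]; exact K.one_mem⟩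
  have Padd : ∀ v v' : F, (∃ ξ : Lam F True, ξ.v = v ∧ S₂.xl a ξ ∈ K) → (∃ ξ : Lam F True, ξ.v = v' ∧ S₂.xl a ξ ∈ K) →
      ∃ ξ : Lam F True, ξ.v = v + v' ∧ S₂.xl a ξ ∈ K := by
    rintro v v' ⟨ξ, rfl, hξ⟩ ⟨ξ', rfl, hξ'⟩
    exact ⟨ξ * ξ', rfl, by rw [← S₂.addl]; exact mul_mem hξ hξ'⟩
  -- the torus element scales the first parameter by `r`
  have htor : ∀ ξ : Lam F True, cj (S₂.hl a ξr ηr) (S₂.xl a ξ) = S₂.xl a (Lam.act r ξ) := by
    intro ξ
    have h := (hH.2 a ξr ηr hξr hηr).2.2 a ξ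
    rw [h, hrat, Equiv.Perm.one_apply]
    have e : dhl a r a = r := if_pos rfl
    have e0 : d0h r = 1 := by
      unfold d0h
      rw [hrfix, div_self hr0]
    rw [e, e0, inv_one, mul_one]
  have Pr : ∀ v : F, (∃ ξ : Lam F True, ξ.v = v ∧ S₂.xl a ξ ∈ K) → ∃ ξ : Lam F True, ξ.v = r * v ∧ S₂.xl a ξ ∈ K := by
    rintro v ⟨ξ, rfl, hξ⟩
    exact ⟨Lam.act r ξ, rfl, by rw [← htor]; exact glou2_cj_mem hb2 hξ⟩
  have Ppow : ∀ (n : ℕ) (v : F), (∃ ξ : Lam F True, ξ.v = v ∧ S₂.xl a ξ ∈ K) →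
      ∃ ξ : Lam F True, ξ.v = r ^ n * v ∧ S₂.xl a ξ ∈ K := by
    intro n
    induction n with
    | zero => intro v h; rw [pow_zero, one_mul]; exact h
    | succ n ih =>
      intro v h
      have h1 := Pr _ (ih v h)
      rw [← mul_assoc, ← pow_succ'] at h1
      exact h1
  have Pfix : ∀ s : F, star s = s → ∀ v : F, (∃ ξ : Lam F True, ξ.v = v ∧ S₂.xl a ξ ∈ K) →
      ∃ ξ : Lam F True, ξ.v = s * v ∧ S₂.xl a ξ ∈ K := by
    intro s hs v hv
    by_cases hs0 : s = 0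
    · rw [hs0, zero_mul]
      exact Pzero
    · set s' : selfAdjoint F := ⟨s, selfAdjoint.mem_iff.2 hs⟩ with hs'
      have hs'0 : s' ≠ 0 := fun h => hs0 (congrArg Subtype.val h)
      obtain ⟨n, hn⟩ := (mem_powers_iff_mem_zpowers.2 (hr₀ (Units.mk0 s' hs'0)))
      have hn' : (r₀ : selfAdjoint F) ^ n = s' := by
        have := congrArg (fun u : (selfAdjoint F)ˣ => (u : selfAdjoint F)) hn
        simpa using this
      have hn'' : r ^ n = s := by
        have := congrArg (fun u : selfAdjoint F => (u : F)) hn'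
        simpa using this
      rw [← hn'']
      exact Ppow n v hv
  have Pall : ∀ v : F, ∃ ξ : Lam F True, ξ.v = v ∧ S₂.xl a ξ ∈ K := by
    intro v
    obtain ⟨s, s', hs, hs', rfl⟩ := span_of_ne hζ v
    refine Padd _ _ ?_ ?_
    · have h := Pfix s hs 1 ⟨ξ₁, hv1, hb0⟩
      rwa [mul_one] at h
    · exact Pfix s' hs' ζ ⟨ξ₂, hv2, hb1⟩
  -- the centre of the root subgroup
  have hd : ζ - star ζ ≠ 0 := sub_ne_zero.2 (Ne.symm hζ)
  have Pcen : ∀ η : Lam F True, η.v = 0 → S₂.xl a η ∈ K := by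
    intro η hη
    have hskew : star η.c = -η.c := by
      have h := η.h
      rw [hη, zero_mul, add_zero] at h
      linear_combination h
    have hsfix : star (η.c / (ζ - star ζ)) = η.c / (ζ - star ζ) := by
      rw [star_div₀, hskew, star_sub, star_star, ← neg_sub ζ (star ζ), neg_div_neg_eq]
    obtain ⟨ξ', hv', hξ'⟩ := Pfix _ hsfix ζ ⟨ξ₂, hv2, hb1⟩
    have e : η = ξ₁ * ξ' * ξ₁⁻¹ * ξ'⁻¹ := by
      apply Lam.ext
      · rw [glou4_comm_v, hη]
      · rw [glou4_comm_c, hv1, hv', star_one, mul_one, one_mul, star_mul', hsfix]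
        field_simp
    rw [e, ← S₂.addl, ← S₂.addl, ← S₂.addl, S₂.stux1_xl_inv, S₂.stux1_xl_inv]
    exact mul_mem (mul_mem (mul_mem hb0 hξ') (inv_mem hb0)) (inv_mem hξ')
  have hxl1 : ∀ ξ : Lam F True, S₂.xl a ξ ∈ K := by
    intro ξ
    obtain ⟨ξ₀, hv0, hξ₀⟩ := Pall ξ.v
    have e : ξ = ξ₀ * (ξ₀⁻¹ * ξ) := by group
    rw [e, ← S₂.addl]
    refine mul_mem hξ₀ (Pcen _ ?_)
    rw [Lam.mul_v, Lam.inv_v, hv0]
    ring
  -- the Weyl element exchanges the two root subgroups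
  have hxl2 : ∀ ξ : Lam F True, S₂.xl (ng a) ξ ∈ K := by
    intro ξ
    have hm := hW.2 a ξ₁ hc1
    set e : F := dwl a ξ₁ a * (d0l ξ₁)⁻¹ with he
    have he0 : e ≠ 0 := by
      have hda : dwl a ξ₁ a ≠ 0 := by
        intro h
        have h1 := hm.1.d_ng a
        rw [h, star_zero, mul_zero] at h1
        exact zero_ne_one h1
      have hd0 : d0l ξ₁ ≠ 0 := by
        intro h
        have h1 := hm.1.d0_norm
        rw [h, zero_mul] at h1
        exact zero_ne_one h1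
      exact mul_ne_zero hda (inv_ne_zero hd0)
    obtain ⟨η, hη⟩ := act_surj he0 ξ
    have h := hm.2.2 a η
    rw [Equiv.swap_apply_left, ← he, hη] at h
    rw [← h]
    exact glou2_cj_mem hb3 (hxl1 _)
  -- conclusion
  intro g hg
  have hle : B1 S₂ ≤ K := by
    unfold B1
    apply S₂.XQ_le
    · rintro a' b' t hab hab' ⟨ha', hb'⟩
      exfalso
      rcases ab_eq_iff.1 (ha'.trans hb'.symm) with h | h
      · exact hab h
      · exact hab' h
    · rintro a' ξ ⟨ha', -⟩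
      rcases a' with i | i
      · have hi : i = 1 := ha'
        subst hi
        exact hxl1 ξ
      · have hi : i = 1 := ha'
        subst hi
        exact hxl2 ξ
  exact hle hg

end U

end Cfsg.Agent.Lib.Helper20.GLO
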