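import Mathlib

set_option autoImplicit false
set_option linter.unusedSectionVars false

namespace Cfsg.Agent.Lib.Helper20

open MulAction
open scoped Pointwise

section Hamming

variable {ι : Type*} [Fintype ι] [DecidableEq ι] {m : ℕ}

/-- the group of isometries of the Hamming space `ι → Fin m` -/
def hamIso (ι : Type*) [Fintype ι] [DecidableEq ι] (m : ℕ) : Subgroup (Equiv.Perm (ι → Fin m)) where
  carrier := {σ | ∀ x y, hammingDist (σ x) (σ y) = hammingDist x y}
  one_mem' := fun x y => rfl
  mul_mem' := by
    intro σ τ hσ hτ x y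
    rw [Equiv.Perm.mul_apply, Equiv.Perm.mul_apply, hσ, hτ]
  inv_mem' := by
    intro σ hσ x y
    have := hσ (σ⁻¹ x) (σ⁻¹ y)
    have e1 : σ (σ⁻¹ x) = x := by simp
    have e2 : σ (σ⁻¹ y) = y := by simp
    rw [e1, e2] at this
    exact this.symm

theorem mem_hamIso (σ : Equiv.Perm (ι → Fin m)) :
    σ ∈ hamIso ι m ↔ ∀ x y, hammingDist (σ x) (σ y) = hammingDist x y := Iff.rfl

/-- coordinatewise permutation of the symbols -/
def coordPerm (π : ι → Equiv.Perm (Fin m)) : Equiv.Perm (ι → Fin m) := Equiv.piCongrRight π

theorem coordPerm_apply (π : ι → Equiv.Perm (Fin m)) (x : ι → Fin m) (i : ι) :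
    coordPerm π x i = π i (x i) := rfl

theorem coordPerm_mem (π : ι → Equiv.Perm (Fin m)) : coordPerm π ∈ hamIso ι m := by
  intro x y
  exact hammingDist_comp (fun i => π i) (fun i => (π i).injective)

/-- permutation of the coordinates -/
def reindex (τ : Equiv.Perm ι) : Equiv.Perm (ι → Fin m) := Equiv.arrowCongr τ (Equiv.refl (Fin m))

theorem reindex_apply (τ : Equiv.Perm ι) (x : ι → Fin m) (i : ι) :
    reindex τ x i = x (τ.symm i) := rfl

theorem reindex_mem (τ : Equiv.Perm ι) : reindex (m := m) τ ∈ hamIso ι m := by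
  intro x y
  unfold hammingDist
  apply Finset.card_bij (fun i _ => τ.symm i)
  · intro i hi
    have h1 := (Finset.mem_filter.mp hi).2
    exact Finset.mem_filter.mpr ⟨Finset.mem_univ _, h1⟩
  · intro i _ j _ h
    exact τ.symm.injective h
  · intro j hj
    have h1 := (Finset.mem_filter.mp hj).2
    refine ⟨τ j, Finset.mem_filter.mpr ⟨Finset.mem_univ _, ?_⟩, by simp⟩
    show x (τ.symm (τ j)) ≠ y (τ.symm (τ j))
    rw [Equiv.symm_apply_apply]
    exact h1


theorem hamIso_smul (σ : ↥(hamIso ι m)) (x : ι → Fin m) :
    σ • x = (σ : Equiv.Perm (ι → Fin m)) x := rfl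

instance hamIso_transitive : IsPretransitive ↥(hamIso ι m) (ι → Fin m) := by
  refine ⟨fun x y => ?_⟩
  refine ⟨⟨coordPerm (fun i => Equiv.swap (x i) (y i)), coordPerm_mem _⟩, ?_⟩
  rw [hamIso_smul]
  funext i
  show Equiv.swap (x i) (y i) (x i) = y i
  exact Equiv.swap_apply_left _ _

theorem hamIso_not_two (hι : 2 ≤ Fintype.card ι) (hm : 2 ≤ m) :
    ¬ IsMultiplyPretransitive ↥(hamIso ι m) (ι → Fin m) 2 := by
  obtain ⟨i₀, j₀, hij⟩ := Fintype.one_lt_card_iff.mp (by omega : 1 < Fintype.card ι)
  set zero : Fin m := ⟨0, by omega⟩ with hzero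
  set one : Fin m := ⟨1, by omega⟩ with hone
  have h01 : zero ≠ one := by
    intro h
    have := congrArg Fin.val h
    simp [hzero, hone] at this
  set x : ι → Fin m := fun _ => zero with hx
  set y₁ : ι → Fin m := Function.update x i₀ one with hy₁
  set y₂ : ι → Fin m := Function.update y₁ j₀ one with hy₂
  have hy₁i : y₁ i₀ = one := Function.update_self _ _ _
  have hy₂i : y₂ i₀ = one := by
    rw [hy₂, Function.update_of_ne hij, hy₁i]
  have hy₂j : y₂ j₀ = one := Function.update_self _ _ _
  have hy₁j : y₁ j₀ = zero := by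
    rw [hy₁, Function.update_of_ne (Ne.symm hij)]
  have hne1 : x ≠ y₁ := by
    intro h
    have := congrFun h i₀
    rw [hy₁i] at this
    exact h01 this
  have hne2 : x ≠ y₂ := by
    intro h
    have := congrFun h i₀
    rw [hy₂i] at this
    exact h01 this
  have hlt : hammingDist x y₁ < hammingDist x y₂ := by
    unfold hammingDist
    apply Finset.card_lt_card
    constructor
    · intro i hi
      have h1 := (Finset.mem_filter.mp hi).2
      refine Finset.mem_filter.mpr ⟨Finset.mem_univ _, ?_⟩
      by_cases hi0 : i = i₀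
      · rw [hi0, hy₂i]; exact h01
      · exfalso
        apply h1
        rw [hy₁, Function.update_of_ne hi0]
    · intro hsub
      have hj : j₀ ∈ Finset.filter (fun i => x i ≠ y₂ i) Finset.univ := by
        refine Finset.mem_filter.mpr ⟨Finset.mem_univ _, ?_⟩
        rw [hy₂j]; exact h01
      have := (Finset.mem_filter.mp (hsub hj)).2
      apply this
      rw [hy₁j]
  intro h2
  rw [is_two_pretransitive_iff] at h2
  obtain ⟨g, hg1, hg2⟩ := h2 (a := x) (b := y₁) (c := x) (d := y₂) hne1 hne2
  have := g.2 x y₁
  rw [hamIso_smul] at hg1 hg2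
  rw [hg1, hg2] at this
  omega

/-- the isometry group of the Hamming space is primitive for `m ≥ 3` -/
theorem hamIso_preprimitive (hm : 3 ≤ m) : IsPreprimitive ↥(hamIso ι m) (ι → Fin m) := by
  refine { toIsPretransitive := hamIso_transitive, isTrivialBlock_of_isBlock := ?_ }
  intro B hB
  by_cases hsub : B.Subsingleton
  · exact Or.inl hsub
  right
  rw [Set.not_subsingleton_iff] at hsub
  obtain ⟨x, hxB, y, hyB, hxy⟩ := hsub
  -- isometries fixing a point of the block preserve the block
  have key : ∀ (σ : Equiv.Perm (ι → Fin m)), σ ∈ hamIso ι m → ∀ u v, u ∈ B → v ∈ B → σ u = u →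
      σ v ∈ B := by
    intro σ hσ u v hu hv hfix
    have h1 : (⟨σ, hσ⟩ : ↥(hamIso ι m)) • B = B := by
      apply (isBlock_iff_smul_eq_of_mem.mp hB) hu
      rw [hamIso_smul]
      show σ u ∈ B
      rw [hfix]; exact hu
    have h2 : (⟨σ, hσ⟩ : ↥(hamIso ι m)) • v ∈ (⟨σ, hσ⟩ : ↥(hamIso ι m)) • B :=
      Set.smul_mem_smul_set hv
    rw [h1] at h2
    exact h2
  -- step A
  have stepA : ∀ (u : ι → Fin m) (i : ι) (a : Fin m), u ∈ B → a ≠ u i → Function.update u i a ∈ B →
      ∀ c : Fin m, Function.update u i c ∈ B := by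
    intro u i a hu ha hv c
    by_cases hc1 : c = u i
    · rw [hc1, Function.update_eq_self]; exact hu
    by_cases hc2 : c = a
    · rw [hc2]; exact hv
    set π : ι → Equiv.Perm (Fin m) := Function.update (fun _ => 1) i (Equiv.swap a c) with hπ
    have hfix : coordPerm π u = u := by
      funext k
      rw [coordPerm_apply]
      by_cases hk : k = i
      · subst hk
        rw [hπ, Function.update_self]
        exact Equiv.swap_apply_of_ne_of_ne (Ne.symm ha) (Ne.symm hc1)
      · rw [hπ, Function.update_of_ne hk]; rfl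
    have h1 := key (coordPerm π) (coordPerm_mem π) u (Function.update u i a) hu hv hfix
    have h2 : coordPerm π (Function.update u i a) = Function.update u i c := by
      funext k
      rw [coordPerm_apply]
      by_cases hk : k = i
      · subst hk
        rw [hπ, Function.update_self, Function.update_self, Function.update_self]
        exact Equiv.swap_apply_left _ _
      · rw [hπ, Function.update_of_ne hk, Function.update_of_ne hk, Function.update_of_ne hk]; rfl
    rw [h2] at h1
    exact h1
  -- step B
  have stepB : ∀ (u : ι → Fin m) (i j : ι) (a : Fin m), u ∈ B → a ≠ u i → Function.update u i a ∈ B →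
      j ≠ i → ∃ a' : Fin m, a' ≠ u j ∧ Function.update u j a' ∈ B := by
    intro u i j a hu ha hv hji
    set τ : Equiv.Perm ι := Equiv.swap i j with hτ
    set π : ι → Equiv.Perm (Fin m) :=
      fun k => if k = i ∨ k = j then Equiv.swap (u i) (u j) else 1 with hπ
    set σ : Equiv.Perm (ι → Fin m) := coordPerm π * reindex τ with hσ
    have hσmem : σ ∈ hamIso ι m := (hamIso ι m).mul_mem (coordPerm_mem π) (reindex_mem τ)
    have hσapply : ∀ (z : ι → Fin m) (k : ι), σ z k = π k (z (τ k)) := by
      intro z k
      rw [hσ, Equiv.Perm.mul_apply, coordPerm_apply, reindex_apply, hτ, Equiv.symm_swap]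
    have hτi : τ i = j := Equiv.swap_apply_left _ _
    have hτj : τ j = i := Equiv.swap_apply_right _ _
    have hπi : π i = Equiv.swap (u i) (u j) := by simp [hπ]
    have hπj : π j = Equiv.swap (u i) (u j) := by simp [hπ]
    have hother : ∀ k, k ≠ i → k ≠ j → τ k = k ∧ π k = 1 := by
      intro k hki hkj
      refine ⟨Equiv.swap_apply_of_ne_of_ne hki hkj, ?_⟩
      simp [hπ, hki, hkj]
    have hfix : σ u = u := by
      funext k
      rw [hσapply]
      by_cases hki : k = i
      · rw [hki, hτi, hπi]; exact Equiv.swap_apply_right _ _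
      by_cases hkj : k = j
      · rw [hkj, hτj, hπj]; exact Equiv.swap_apply_left _ _
      · obtain ⟨h1, h2⟩ := hother k hki hkj
        rw [h1, h2]; rfl
    have h1 := key σ hσmem u (Function.update u i a) hu hv hfix
    refine ⟨Equiv.swap (u i) (u j) a, ?_, ?_⟩
    · intro h
      apply ha
      have := congrArg (Equiv.swap (u i) (u j)) h
      rw [Equiv.swap_apply_self, Equiv.swap_apply_right] at this
      exact this
    · have h2 : σ (Function.update u i a) = Function.update u j (Equiv.swap (u i) (u j) a) := by
        funext k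
        rw [hσapply]
        by_cases hki : k = i
        · rw [hki, hτi, hπi, Function.update_of_ne hji, Function.update_of_ne (Ne.symm hji)]
          exact Equiv.swap_apply_right _ _
        by_cases hkj : k = j
        · rw [hkj, hτj, hπj, Function.update_self, Function.update_self]
        · obtain ⟨h3, h4⟩ := hother k hki hkj
          rw [h3, h4, Function.update_of_ne hki, Function.update_of_ne hkj]; rfl
      rw [h2] at h1
      exact h1
  -- good points
  let good : (ι → Fin m) → Prop := fun u => u ∈ B ∧ ∃ (i : ι) (a : Fin m), a ≠ u i ∧ Function.update u i a ∈ B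
  have stepC : ∀ u, good u → ∀ (j : ι) (c : Fin m), Function.update u j c ∈ B := by
    rintro u ⟨hu, i, a, ha, hv⟩ j c
    by_cases hji : j = i
    · rw [hji]; exact stepA u i a hu ha hv c
    · obtain ⟨a', ha', hv'⟩ := stepB u i j a hu ha hv hji
      exact stepA u j a' hu ha' hv' c
  have stepC' : ∀ u, good u → ∀ (j : ι) (c : Fin m), c ≠ u j → good (Function.update u j c) := by
    intro u hgu j c hc
    refine ⟨stepC u hgu j c, j, u j, ?_, ?_⟩
    · rw [Function.update_self]; exact Ne.symm hc
    · rw [Function.update_idem, Function.update_eq_self]; exact hgu.1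
  -- a good point exists
  have hgood : good y := by
    obtain ⟨i₀, hi₀⟩ := Function.ne_iff.mp hxy
    have hcard : ({x i₀, y i₀} : Finset (Fin m)).card < (Finset.univ : Finset (Fin m)).card := by
      rw [Finset.card_univ, Fintype.card_fin]
      exact lt_of_le_of_lt (Finset.card_le_two) (by omega)
    obtain ⟨c, -, hc⟩ := Finset.exists_mem_notMem_of_card_lt_card hcard
    rw [Finset.mem_insert, Finset.mem_singleton, not_or] at hc
    obtain ⟨hcx, hcy⟩ := hc
    refine ⟨hyB, i₀, c, hcy, ?_⟩
    set π : ι → Equiv.Perm (Fin m) := Function.update (fun _ => 1) i₀ (Equiv.swap (y i₀) c) with hπ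
    have hfix : coordPerm π x = x := by
      funext k
      rw [coordPerm_apply]
      by_cases hk : k = i₀
      · subst hk
        rw [hπ, Function.update_self]
        exact Equiv.swap_apply_of_ne_of_ne hi₀ (Ne.symm hcx)
      · rw [hπ, Function.update_of_ne hk]; rfl
    have h1 := key (coordPerm π) (coordPerm_mem π) x y hxB hyB hfix
    have h2 : coordPerm π y = Function.update y i₀ c := by
      funext k
      rw [coordPerm_apply]
      by_cases hk : k = i₀
      · subst hk
        rw [hπ, Function.update_self, Function.update_self]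
        exact Equiv.swap_apply_left _ _
      · rw [hπ, Function.update_of_ne hk, Function.update_of_ne hk]; rfl
    rw [h2] at h1
    exact h1
  -- every point is good
  have hall : ∀ s : Finset ι, ∀ w : ι → Fin m, (∀ i, i ∉ s → w i = y i) → good w := by
    intro s
    induction s using Finset.induction_on with
    | empty =>
      intro w hw
      have : w = y := funext fun i => hw i (Finset.notMem_empty i)
      rw [this]; exact hgood
    | insert i s' hi ih =>
      intro w hw
      set w' : ι → Fin m := Function.update w i (y i) with hw'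
      have hgw' : good w' := by
        apply ih
        intro k hk
        by_cases hki : k = i
        · rw [hki, hw', Function.update_self]
        · rw [hw', Function.update_of_ne hki]
          apply hw
          rw [Finset.mem_insert, not_or]
          exact ⟨hki, hk⟩
      have hww' : w = Function.update w' i (w i) := by
        rw [hw', Function.update_idem, Function.update_eq_self]
      by_cases hwi : w i = y i
      · have : w = w' := by
          rw [hw', ← hwi, Function.update_eq_self]
        rw [this]; exact hgw'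
      · rw [hww']
        apply stepC' w' hgw' i (w i)
        rw [hw', Function.update_self]
        exact hwi
  rw [Set.eq_univ_iff_forall]
  intro w
  exact (hall Finset.univ w (fun i hi => absurd (Finset.mem_univ i) hi)).1

end Hamming


section Regular

variable {ι : Type*} [Fintype ι] [DecidableEq ι] {m : ℕ} (F : ι → Type*) [∀ i, Group (F i)]
  (b : ∀ i, F i ≃ Fin m)

/-- the regular representation of `∀ i, F i`, transported to `ι → Fin m` -/
def regRep : (∀ i, F i) →* Equiv.Perm (ι → Fin m) where
  toFun g := coordPerm (fun i => (b i).symm.trans ((Equiv.mulLeft (g i)).trans (b i)))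
  map_one' := by
    ext x i
    simp [coordPerm_apply]
  map_mul' g h := by
    ext x i
    simp [coordPerm_apply]

theorem regRep_apply (g : ∀ i, F i) (x : ι → Fin m) (i : ι) :
    regRep F b g x i = b i (g i * (b i).symm (x i)) := rfl

theorem regRep_injective [Nonempty (ι → Fin m)] : Function.Injective (regRep F b) := by
  intro g h hgh
  obtain ⟨x⟩ := ‹Nonempty (ι → Fin m)›
  funext i
  have h1 := congrFun (congrArg (fun σ : Equiv.Perm (ι → Fin m) => σ x) hgh) i
  simp only [regRep_apply] at h1
  exact mul_right_cancel ((b i).injective h1)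

theorem regRep_range_le : (regRep F b).range ≤ hamIso ι m := by
  rintro σ ⟨g, rfl⟩
  exact coordPerm_mem _

theorem regRep_transitive : IsPretransitive ↥(regRep F b).range (ι → Fin m) := by
  refine ⟨fun x y => ?_⟩
  refine ⟨⟨regRep F b (fun i => (b i).symm (y i) * ((b i).symm (x i))⁻¹), ⟨_, rfl⟩⟩, ?_⟩
  show regRep F b _ x = y
  funext i
  rw [regRep_apply, inv_mul_cancel_right, Equiv.apply_symm_apply]

theorem regRep_free (a : ι → Fin m) : stabilizer ↥(regRep F b).range a = ⊥ := by
  rw [eq_bot_iff]
  rintro ⟨σ, g, rfl⟩ hg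
  rw [mem_stabilizer_iff] at hg
  have hg' : regRep F b g a = a := hg
  rw [Subgroup.mem_bot]
  apply Subtype.ext
  show regRep F b g = 1
  have hg1 : g = 1 := by
    funext i
    have h1 := congrFun hg' i
    rw [regRep_apply] at h1
    have h2 := (b i).injective (h1.trans ((b i).apply_symm_apply (a i)).symm)
    exact mul_eq_right.mp h2
  rw [hg1, map_one]

end Regular

section Transport

theorem transport_perm {Ω : Type*} [Fintype Ω] [DecidableEq Ω] {K : Type*} [Group K]
    (G' R' : Subgroup (Equiv.Perm Ω)) (hle : R' ≤ G') (hiso : Nonempty (↥R' ≃* K))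
    (htr : IsPretransitive ↥R' Ω) (hfree : ∀ a : Ω, stabilizer ↥R' a = ⊥)
    (hprim : IsPreprimitive ↥G' Ω) (h2 : ¬ IsMultiplyPretransitive ↥G' Ω 2) :
    ∃ (n : ℕ) (G R : Subgroup (Equiv.Perm (Fin n))), R ≤ G ∧ Nonempty (↥R ≃* K) ∧
      IsPretransitive ↥R (Fin n) ∧ (∀ a : Fin n, stabilizer ↥R a = ⊥) ∧
      IsPreprimitive ↥G (Fin n) ∧ ¬ IsMultiplyPretransitive ↥G (Fin n) 2 := by
  set n := Fintype.card Ω with hn
  set ε : Ω ≃ Fin n := Fintype.equivFin Ω with hε
  set φ : Equiv.Perm Ω ≃* Equiv.Perm (Fin n) := ε.permCongrHom with hφ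
  have hφapply : ∀ (σ : Equiv.Perm Ω) (x : Fin n), φ σ x = ε (σ (ε.symm x)) := fun σ x => rfl
  -- the equivariant map attached to a subgroup
  let ψ : ∀ H' : Subgroup (Equiv.Perm Ω), ↥H' ≃* ↥(H'.map φ.toMonoidHom) :=
    fun H' => φ.subgroupMap H'
  have hψ : ∀ (H' : Subgroup (Equiv.Perm Ω)) (h : ↥H'),
      ((ψ H' h : ↥(H'.map φ.toMonoidHom)) : Equiv.Perm (Fin n)) = φ h := fun H' h => rfl
  let f : ∀ H' : Subgroup (Equiv.Perm Ω), Ω →ₑ[ψ H'] Fin n := fun H' =>
    { toFun := ε
      map_smul' := by
        intro h x
        show ε ((h : Equiv.Perm Ω) x) = φ h (ε x)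
        rw [hφapply, Equiv.symm_apply_apply] }
  have hfbij : ∀ H', Function.Bijective (f H') := fun H' => ε.bijective
  refine ⟨n, G'.map φ.toMonoidHom, R'.map φ.toMonoidHom, Subgroup.map_mono hle, ?_, ?_, ?_, ?_, ?_⟩
  · obtain ⟨e⟩ := hiso
    exact ⟨(ψ R').symm.trans e⟩
  · exact IsPretransitive.of_surjective_map (f := f R') (hfbij R').surjective htr
  · intro a
    rw [eq_bot_iff]
    intro h hh
    rw [mem_stabilizer_iff] at hh
    obtain ⟨h', rfl⟩ := (ψ R').surjective h
    have h1 : φ h' a = a := hh
    rw [hφapply] at h1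
    have h2 : h' ∈ stabilizer ↥R' (ε.symm a) := by
      rw [mem_stabilizer_iff]
      show (h' : Equiv.Perm Ω) (ε.symm a) = ε.symm a
      apply ε.injective
      rw [h1, Equiv.apply_symm_apply]
    rw [hfree, Subgroup.mem_bot] at h2
    rw [h2, map_one, Subgroup.mem_bot]
  · exact IsPreprimitive.of_surjective (f := f G') (hfbij G').surjective
  · intro h
    apply h2
    exact (IsPretransitive.of_embedding_congr (ψ G').surjective (hfbij G')).mpr h

end Transport

end Cfsg.Agent.Lib.Helper20
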