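import Mathlib
import Cfsg.Prelude.Def_ChevStructure
import Cfsg.Agent.Lib.helper14.INV.Defs

/-!
# Project INV, piece LS: moving a set of positive roots of `Φ_J` so that one becomes fundamental
-/

set_option autoImplicit false
set_option linter.unusedVariables false

namespace Cfsg.Agent.Lib.helper14.INV

open Cfsg.Lie Cfsg.Lie.ChevalleyDatum Cfsg.Agent.Lib.helper8 Cfsg.Agent.Lib.helper14

/-- the coroot height -/
def invlsHt (D : ChevalleyDatum) (r : ℕ) : ℤ := ((D.coroot.getD r #[]).toList.sum : ℤ)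

theorem invls_ht_nonneg (D : ChevalleyDatum) {r : ℕ} (hr : D.IsPosRoot r) : 0 ≤ invlsHt D r :=
  List.sum_nonneg hr.2

/-- first conjunct of `lsChk` -/
theorem invls_chk1 (D : ChevalleyDatum) (hls : lsChk D = true) {r : ℕ} (hr : D.IsPosRoot r)
    (hns : ∀ i < D.rank, D.simple i ≠ r) :
    ∃ i < D.rank, 0 < (D.coroot.getD r #[]).getD i 0 ∧ D.IsPosRoot (D.reflectRoot i r) ∧
      invlsHt D (D.reflectRoot i r) < invlsHt D r := by
  unfold lsChk at hls
  simp only [Bool.and_eq_true, List.all_eq_true, List.mem_range, Bool.or_eq_true,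
    Bool.not_eq_true', decide_eq_false_iff_not, List.any_eq_true, beq_iff_eq,
    decide_eq_true_eq] at hls
  rcases hls.1.1 r hr.1 with (h1 | h1) | h1
  · exact absurd hr h1
  · obtain ⟨i, hi, h2⟩ := h1
    exact absurd h2 (hns i hi)
  · obtain ⟨i, hi, ⟨h2, h3⟩, h4⟩ := h1
    exact ⟨i, hi, h2, h3, h4⟩

/-- second conjunct of `lsChk` -/
theorem invls_chk2 (D : ChevalleyDatum) (hls : lsChk D = true) {r i k : ℕ} (hr : r < D.nroots)
    (hi : i < D.rank) (hk : k < D.rank) (hki : k ≠ i) :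
    (D.coroot.getD (D.reflectRoot i r) #[]).getD k 0 = (D.coroot.getD r #[]).getD k 0 := by
  unfold lsChk at hls
  simp only [Bool.and_eq_true, List.all_eq_true, List.mem_range, Bool.or_eq_true,
    Bool.not_eq_true', decide_eq_false_iff_not, List.any_eq_true, beq_iff_eq,
    decide_eq_true_eq] at hls
  rcases hls.1.2 r hr i hi k hk with h1 | h1
  · exact absurd h1 hki
  · exact h1

/-- third conjunct of `lsChk` -/
theorem invls_chk3 (D : ChevalleyDatum) (hls : lsChk D = true) {j : ℕ} (hj : j < D.rank) :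
    0 < (D.coroot.getD (D.simple j) #[]).getD j 0 := by
  unfold lsChk at hls
  simp only [Bool.and_eq_true, List.all_eq_true, List.mem_range, Bool.or_eq_true,
    Bool.not_eq_true', decide_eq_false_iff_not, List.any_eq_true, beq_iff_eq,
    decide_eq_true_eq] at hls
  exact hls.2 j hj

theorem invls_aux (D : ChevalleyDatum) (hA : H8ReflAll D) (hBN : H8BN D)
    (hls : lsChk D = true) (J : Set ℕ) :
    ∀ (n : ℕ) (S : Finset ℕ), (∀ r ∈ S, D.IsPosRoot r ∧ D.InRootSub J r) →
      (∃ r ∈ S, invlsHt D r ≤ n) →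
      ∃ v : List ℕ, (∀ i ∈ v, i < D.rank ∧ i ∈ J) ∧ (∀ r ∈ S, D.IsPosRoot (h8sW D v r)) ∧
        ∃ r₀ ∈ S, ∃ j, j < D.rank ∧ j ∈ J ∧ h8sW D v r₀ = D.simple j := by
  classical
  intro n
  induction n with
  | zero =>
    intro S hSJ ⟨r, hrS, hrn⟩
    by_cases hfund : ∃ r₁ ∈ S, ∃ j < D.rank, D.simple j = r₁
    · obtain ⟨r₁, hr₁, j, hj, hjr⟩ := hfund
      refine ⟨[], by simp, fun r' hr' => (hSJ r' hr').1, r₁, hr₁, j, hj, ?_, hjr.symm⟩
      by_contra hjJ
      have h1 := (hSJ r₁ hr₁).2.2 j hj hjJ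
      rw [← hjr] at h1
      have h2 := invls_chk3 D hls hj
      omega
    · push Not at hfund
      obtain ⟨i, hi, h1, h2, h3⟩ := invls_chk1 D hls (hSJ r hrS).1 (fun i hi => hfund r hrS i hi)
      have := invls_ht_nonneg D h2
      omega
  | succ n ih =>
    intro S hSJ ⟨r, hrS, hrn⟩
    by_cases hfund : ∃ r₁ ∈ S, ∃ j < D.rank, D.simple j = r₁
    · obtain ⟨r₁, hr₁, j, hj, hjr⟩ := hfund
      refine ⟨[], by simp, fun r' hr' => (hSJ r' hr').1, r₁, hr₁, j, hj, ?_, hjr.symm⟩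
      by_contra hjJ
      have h1 := (hSJ r₁ hr₁).2.2 j hj hjJ
      rw [← hjr] at h1
      have h2 := invls_chk3 D hls hj
      omega
    · push Not at hfund
      obtain ⟨i, hi, h1, h2, h3⟩ := invls_chk1 D hls (hSJ r hrS).1 (fun i hi => hfund r hrS i hi)
      have hiJ : i ∈ J := by
        by_contra hiJ
        have := (hSJ r hrS).2.2 i hi hiJ
        omega
      have hS' : ∀ r' ∈ S.image (D.reflectRoot i), D.IsPosRoot r' ∧ D.InRootSub J r' := by
        intro r' hr'
        obtain ⟨r₁, hr₁, rfl⟩ := Finset.mem_image.mp hr'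
        have hpos := (h8spChk_spec D i (hBN.sp i hi) r₁ (hSJ r₁ hr₁).1
          (fun hh => hfund r₁ hr₁ i hi hh.symm)).1
        refine ⟨hpos, hpos.1, fun k hk hkJ => ?_⟩
        have hki : k ≠ i := fun hh => hkJ (hh ▸ hiJ)
        rw [invls_chk2 D hls (hSJ r₁ hr₁).1.1 hi hk hki]
        exact (hSJ r₁ hr₁).2.2 k hk hkJ
      obtain ⟨v', hv', hpos', r₀', hr₀', j, hj, hjJ, hjr⟩ := ih (S.image (D.reflectRoot i)) hS'
        ⟨D.reflectRoot i r, Finset.mem_image_of_mem _ hrS, by omega⟩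
      obtain ⟨r₀, hr₀, rfl⟩ := Finset.mem_image.mp hr₀'
      refine ⟨v' ++ [i], ?_, ?_, r₀, hr₀, j, hj, hjJ, ?_⟩
      · intro k hk
        rcases List.mem_append.mp hk with hk | hk
        · exact hv' k hk
        · rw [List.mem_singleton] at hk
          subst hk
          exact ⟨hi, hiJ⟩
      · intro r' hr'
        rw [h8sW_append]
        exact hpos' _ (Finset.mem_image_of_mem _ hr')
      · rw [h8sW_append]
        exact hjr

/-- LS : a nonempty set of positive roots of the subsystem `J` can be moved by a word in `W_J`, staying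
positive, so that one of them becomes a fundamental root of `J` -/
theorem exists_word_to_simple (D : ChevalleyDatum) (hA : H8ReflAll D) (hBN : H8BN D)
    (hls : lsChk D = true) (J : Set ℕ) (S : Finset ℕ) (hS : S.Nonempty)
    (hSJ : ∀ r ∈ S, D.IsPosRoot r ∧ D.InRootSub J r) :
    ∃ v : List ℕ, (∀ i ∈ v, i < D.rank ∧ i ∈ J) ∧ (∀ r ∈ S, D.IsPosRoot (h8sW D v r)) ∧
      ∃ r₀ ∈ S, ∃ j, j < D.rank ∧ j ∈ J ∧ h8sW D v r₀ = D.simple j := by
  obtain ⟨r, hr⟩ := hS
  exact invls_aux D hA hBN hls J (invlsHt D r).toNat S hSJ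
    ⟨r, hr, by have := invls_ht_nonneg D (hSJ r hr).1; omega⟩

end Cfsg.Agent.Lib.helper14.INV
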