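import Mathlib
import Cfsg.Prelude.Def_ChevStructure
import Cfsg.Agent.Lib.helper14.INV.Defs
import Cfsg.Agent.Lib.helper8.ChevSLP3

/-!
# Project INV, piece RK1: the rank one conjugation `x_{-r}(1) n_r(1) x_{-r}(1)⁻¹ = x_r(1)`
in characteristic two, transported from `SL₂(F)` through an `H8SLHom`.
-/

set_option autoImplicit false
set_option linter.unusedVariables false

namespace Cfsg.Agent.Lib.helper14.INV

open Cfsg.Lie Cfsg.Lie.ChevalleyDatum Cfsg.Agent.Lib.helper8 Cfsg.Agent.Lib.helper14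

universe u

variable {F : Type u} [Field F]

/-- `n_s(1) = x_s(1) x_{-s}(-1⁻¹) x_s(1)` (any datum) -/
theorem invrk1_nU (D : ChevalleyDatum) (hB : H8Base.{u} D) (s : ℕ) :
    (h8nU D hB s (1 : F) : GL D.Idx F) =
      h8xU D hB s 1 * (h8xU D hB (D.negIdx.getD s 0) (-(1 : F)⁻¹) * h8xU D hB s 1) := by
  unfold h8nU ChevalleyDatum.nWord
  rw [h8wordU_cons, h8wordU_cons, h8wordU_cons]
  have : h8wordU D hB ([] : List (ℕ × F)) = 1 := rfl
  rw [this, mul_one]
  rfl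

/-- the `SL₂` identity in characteristic two -/
theorem invrk1_sl2 [CharP F 2] (U L : F → Matrix.SpecialLinearGroup (Fin 2) F)
    (hU : ∀ t, (U t : Matrix (Fin 2) (Fin 2) F) = !![1, t; 0, 1])
    (hL : ∀ t, (L t : Matrix (Fin 2) (Fin 2) F) = !![1, 0; t, 1]) :
    L 1 * (U 1 * (L (-(1 : F)⁻¹) * U 1)) = U 1 * L 1 := by
  have hneg : (-1 : F) = 1 := CharTwo.neg_eq 1
  apply Subtype.ext
  simp only [Matrix.SpecialLinearGroup.coe_mul, hU, hL]
  rw [inv_one, hneg]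
  simp only [Matrix.mul_fin_two]
  ext i j
  fin_cases i <;> fin_cases j <;> simp [CharTwo.add_self_eq_zero]

/-- RK1 : in characteristic two `x_{-r}(1) n_r(1) x_{-r}(1)⁻¹ = x_r(1)` -/
theorem rank_one_conj [CharP F 2] (D : ChevalleyDatum) (hB : H8Base.{u} D) (r : ℕ)
    (hsl : H8SLHom D hB F r) :
    h8xU D hB (D.negIdx.getD r 0) (1 : F) * h8nU D hB r (1 : F) *
      (h8xU D hB (D.negIdx.getD r 0) (1 : F))⁻¹ = h8xU D hB r (1 : F) := by
  obtain ⟨φ, -, hup, hlo⟩ := hsl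
  let U : F → Matrix.SpecialLinearGroup (Fin 2) F := fun t =>
    ⟨!![1, t; 0, 1], by simp [Matrix.det_fin_two]⟩
  let L : F → Matrix.SpecialLinearGroup (Fin 2) F := fun t =>
    ⟨!![1, 0; t, 1], by simp [Matrix.det_fin_two]⟩
  have eU : ∀ t, φ (U t) = h8xU D hB r t := fun t => hup _ t rfl
  have eL : ∀ t, φ (L t) = h8xU D hB (D.negIdx.getD r 0) t := fun t => hlo _ t rfl
  have key : L 1 * (U 1 * (L (-(1 : F)⁻¹) * U 1)) = U 1 * L 1 :=
    invrk1_sl2 U L (fun _ => rfl) (fun _ => rfl)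
  rw [invrk1_nU D hB r, ← eU, ← eL, ← eL, ← map_mul, ← map_mul, ← map_mul, key, map_mul,
    mul_inv_cancel_right]

end Cfsg.Agent.Lib.helper14.INV
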