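import Mathlib

set_option autoImplicit false

/-!
# Counting inverted elements in a normal 2-subgroup

`Q` a finite 2-group, `x a : Q →* Q` with `a ∘ a = id`, `a ∘ x ∘ a ∘ x = id` (so `a` inverts `x`)
and `x^[k] = id` for an odd `k`.  With `R = C_Q(x)` and `A = {q | q⁻¹ a(q) ∈ R}` we show
`|Q| * |R| ≤ |A|²`.
-/

namespace Cfsg.Agent.Lib.Helper20.InvCount

universe u

section Abstract

variable {Q : Type u} [Group Q]

/-- Fixed points of an endomorphism. -/
def fixedSub (x : Q →* Q) : Subgroup Q where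
  carrier := {q | x q = q}
  one_mem' := map_one x
  mul_mem' := by
    intro a b ha hb
    simp only [Set.mem_setOf_eq] at ha hb ⊢
    rw [map_mul, ha, hb]
  inv_mem' := by
    intro a ha
    simp only [Set.mem_setOf_eq] at ha ⊢
    rw [map_inv, ha]

theorem mem_fixedSub {x : Q →* Q} {q : Q} : q ∈ fixedSub x ↔ x q = q := Iff.rfl

/-- The set `A = {q | q⁻¹ a(q) ∈ C_Q(x)}`. -/
def invSet (x a : Q →* Q) : Set Q := {q | q⁻¹ * a q ∈ fixedSub x}

theorem mem_invSet {x a : Q →* Q} {q : Q} : q ∈ invSet x a ↔ x (q⁻¹ * a q) = q⁻¹ * a q := Iff.rfl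

/-- Counting through a map all of whose fibres have the same size. -/
theorem card_eq_mul_of_fibers {α β : Type*} [Finite α] [Finite β] (f : α → β) (n : ℕ)
    (h : ∀ b, Nat.card {a // f a = b} = n) : Nat.card α = Nat.card β * n := by
  classical
  haveI := Fintype.ofFinite β
  rw [← Nat.card_congr (Equiv.sigmaFiberEquiv f), Nat.card_sigma]
  simp only [h, Finset.sum_const, Finset.card_univ, smul_eq_mul, Nat.card_eq_fintype_card]

/-- `Ω₁(Z(Q))`. -/
def omegaCenter (Q : Type u) [Group Q] : Subgroup Q where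
  carrier := {z | z ∈ Subgroup.center Q ∧ z ^ 2 = 1}
  one_mem' := ⟨Subgroup.one_mem _, one_pow 2⟩
  mul_mem' := by
    rintro a b ⟨ha, ha2⟩ ⟨hb, hb2⟩
    refine ⟨Subgroup.mul_mem _ ha hb, ?_⟩
    have hc : Commute a b := (Subgroup.mem_center_iff.mp ha b).symm
    rw [hc.mul_pow, ha2, hb2, one_mul]
  inv_mem' := by
    rintro a ⟨ha, ha2⟩
    exact ⟨Subgroup.inv_mem _ ha, by rw [inv_pow, ha2, inv_one]⟩

theorem omegaCenter_le_center : omegaCenter Q ≤ Subgroup.center Q := fun _ h => h.1

theorem omegaCenter_sq {z : Q} (h : z ∈ omegaCenter Q) : z ^ 2 = 1 := h.2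

theorem omegaCenter_map {x : Q →* Q} (hx : Function.Surjective x) {z : Q}
    (h : z ∈ omegaCenter Q) : x z ∈ omegaCenter Q := by
  refine ⟨?_, by rw [← map_pow, h.2, map_one]⟩
  rw [Subgroup.mem_center_iff]
  intro g
  obtain ⟨g', rfl⟩ := hx g
  rw [← map_mul, ← map_mul, Subgroup.mem_center_iff.mp h.1 g']

theorem omegaCenter_ne_bot [Finite Q] [Nontrivial Q] (hQ : IsPGroup 2 Q) : omegaCenter Q ≠ ⊥ := by
  haveI : Fact (Nat.Prime 2) := ⟨Nat.prime_two⟩
  haveI := hQ.center_nontrivial
  have hZ : IsPGroup 2 (Subgroup.center Q) := hQ.to_subgroup _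
  obtain ⟨n, hn⟩ := IsPGroup.iff_card.mp hZ
  have hn0 : n ≠ 0 := by
    rintro rfl
    have : Nat.card (Subgroup.center Q) = 1 := by simpa using hn
    have h1 := (Nat.card_eq_one_iff_unique.mp this).1
    exact not_subsingleton _ h1
  have h2 : 2 ∣ Nat.card (Subgroup.center Q) := by
    rw [hn]; exact dvd_pow_self 2 hn0
  obtain ⟨z, hz⟩ := exists_prime_orderOf_dvd_card' 2 h2
  intro hbot
  have hzmem : (z : Q) ∈ omegaCenter Q := by
    refine ⟨z.2, ?_⟩
    have : z ^ 2 = 1 := by rw [← hz]; exact pow_orderOf_eq_one z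
    have := congrArg Subtype.val this
    simpa using this
  rw [hbot, Subgroup.mem_bot] at hzmem
  have : z = 1 := Subtype.ext hzmem
  rw [this, orderOf_one] at hz
  exact absurd hz (by norm_num)

end Abstract

section Step

variable {Q : Type u} [Group Q]

/-- The hypotheses shared by the lemmas of the inductive step. -/
structure Setup (x a : Q →* Q) (V : Subgroup Q) : Prop where
  haa : ∀ q, a (a q) = q
  hax : ∀ q, a (x (a (x q))) = q
  hVc : V ≤ Subgroup.center Q
  hV2 : ∀ v ∈ V, v ^ 2 = 1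
  hVx : ∀ v ∈ V, x v ∈ V
  hVa : ∀ v ∈ V, a v ∈ V

namespace Setup

variable {x a : Q →* Q} {V : Subgroup Q}

theorem hxa (S : Setup x a V) (q : Q) : x (a (x q)) = a q := by
  have := congrArg a (S.hax q)
  rwa [S.haa] at this

theorem comm (S : Setup x a V) {v : Q} (hv : v ∈ V) (g : Q) : g * v = v * g :=
  Subgroup.mem_center_iff.mp (S.hVc hv) g

theorem inv_eq (S : Setup x a V) {v : Q} (hv : v ∈ V) : v⁻¹ = v := by
  have h := S.hV2 v hv
  rw [pow_two] at h
  exact inv_eq_of_mul_eq_one_left h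

theorem mul_self (S : Setup x a V) {v : Q} (hv : v ∈ V) : v * v = 1 := by
  have h := S.hV2 v hv
  rwa [pow_two] at h

theorem normal (S : Setup x a V) : V.Normal :=
  ⟨fun n hn g => by rw [S.comm hn g, mul_inv_cancel_right]; exact hn⟩

theorem fixed_a (S : Setup x a V) {r : Q} (hr : r ∈ fixedSub x) : a r ∈ fixedSub x := by
  rw [mem_fixedSub] at hr ⊢
  have := S.hxa r
  rwa [hr] at this

theorem iterate_eq (_S : Setup x a V) {q v : Q} (hq : x q = q * v) (hv : x v = v) (i : ℕ) :
    (⇑x)^[i] q = q * v ^ i := by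
  induction i with
  | zero => simp
  | succ i ih =>
    rw [Function.iterate_succ_apply', ih, map_mul, map_pow, hq, hv, pow_succ, mul_assoc,
      ← pow_succ', pow_succ]

/-- `v ↦ v * x v` is injective on `V` when `V ∩ C(x) = 1`. -/
theorem theta_inj (S : Setup x a V) (hVR : V ⊓ fixedSub x = ⊥) {v w : Q} (hv : v ∈ V) (hw : w ∈ V)
    (h : v * x v = w * x w) : v = w := by
  have hxv := S.hVx v hv
  have hxw := S.hVx w hw
  -- u = v * w is fixed by x
  have hu : v * w ∈ V ⊓ fixedSub x := by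
    refine ⟨V.mul_mem hv hw, ?_⟩
    change x (v * w) = v * w
    rw [map_mul]
    -- x v = v⁻¹ * w * x w = v * w * x w
    have h1 : x v = v * (w * x w) := by
      have : x v = v⁻¹ * (w * x w) := by rw [← h]; group
      rwa [S.inv_eq hv] at this
    rw [h1]
    have h2 : x w * x w = 1 := S.mul_self hxw
    calc v * (w * x w) * x w = v * w * (x w * x w) := by group
      _ = v * w := by rw [h2, mul_one]
  rw [hVR, Subgroup.mem_bot] at hu
  have : v = w⁻¹ := eq_inv_of_mul_eq_one_left hu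
  rwa [S.inv_eq hw] at this

/-- `v ↦ v * x v` is onto `V` when `V ∩ C(x) = 1`. -/
theorem theta_surj [Finite Q] (S : Setup x a V) (hVR : V ⊓ fixedSub x = ⊥) {v₁ : Q} (hv₁ : v₁ ∈ V) :
    ∃ v₂ ∈ V, v₂ * x v₂ = v₁ := by
  let θ : V → V := fun v => ⟨(v : Q) * x v, V.mul_mem v.2 (S.hVx v v.2)⟩
  have hinj : Function.Injective θ := by
    intro v w h
    have := congrArg Subtype.val h
    exact Subtype.ext (S.theta_inj hVR v.2 w.2 this)
  obtain ⟨v₂, hv₂⟩ := (Finite.injective_iff_surjective.mp hinj) ⟨v₁, hv₁⟩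
  exact ⟨v₂, v₂.2, congrArg Subtype.val hv₂⟩

end Setup

end Step

section Cases

variable {Q : Type u} [Group Q] {x a : Q →* Q} {V : Subgroup Q}

theorem card_preimage_mk (V : Subgroup Q) (t : Set (Q ⧸ V)) :
    Nat.card (QuotientGroup.mk ⁻¹' t : Set Q) = Nat.card V * Nat.card t := by
  rw [Nat.card_congr (QuotientGroup.preimageMkEquivSubgroupProdSet V t), Nat.card_prod]

theorem case1_fixed (S : Setup x a V) [V.Normal] (hVR : V ≤ fixedSub x) (k : ℕ) (hk : Odd k)
    (hxk : ∀ q, (⇑x)^[k] q = q) (hVx' : V ≤ V.comap x) :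
    ((fixedSub x : Subgroup Q) : Set Q) =
      QuotientGroup.mk ⁻¹' ((fixedSub (QuotientGroup.map V V x hVx') : Subgroup (Q ⧸ V)) :
        Set (Q ⧸ V)) := by
  ext q
  simp only [Set.mem_preimage, SetLike.mem_coe, mem_fixedSub, QuotientGroup.map_mk]
  constructor
  · intro h; rw [h]
  · intro h
    have h1 : (x q)⁻¹ * q ∈ V := QuotientGroup.eq.mp h
    set v₁ := q⁻¹ * x q with hv₁
    have hv₁V : v₁ ∈ V := by
      have := V.inv_mem h1
      rwa [mul_inv_rev, inv_inv] at this
    have hq : x q = q * v₁ := by rw [hv₁]; group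
    have hv : x v₁ = v₁ := hVR hv₁V
    have hit := S.iterate_eq hq hv k
    rw [hxk q] at hit
    have hvk : v₁ ^ k = 1 := by
      have : q * 1 = q * v₁ ^ k := by rw [mul_one]; exact hit
      exact (mul_left_cancel this).symm
    obtain ⟨j, rfl⟩ := hk
    rw [pow_succ, pow_mul, S.hV2 v₁ hv₁V, one_pow, one_mul] at hvk
    rw [hq, hvk, mul_one]

theorem case1_inv (S : Setup x a V) [V.Normal] (hVR : V ≤ fixedSub x) (k : ℕ) (hk : Odd k)
    (hxk : ∀ q, (⇑x)^[k] q = q) (hVx' : V ≤ V.comap x) (hVa' : V ≤ V.comap a) :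
    invSet x a = QuotientGroup.mk ⁻¹'
      (invSet (QuotientGroup.map V V x hVx') (QuotientGroup.map V V a hVa')) := by
  ext q
  have h1 := Set.ext_iff.mp (case1_fixed S hVR k hk hxk hVx') (q⁻¹ * a q)
  simp only [Set.mem_preimage, SetLike.mem_coe] at h1
  change q⁻¹ * a q ∈ fixedSub x ↔ _
  rw [h1]
  change _ ↔ ((q : Q ⧸ V))⁻¹ * (QuotientGroup.map V V a hVa') (q : Q ⧸ V) ∈
    fixedSub (QuotientGroup.map V V x hVx')
  rw [QuotientGroup.map_mk]
  rfl

theorem case1_final [Finite Q] (S : Setup x a V) [V.Normal] (hVR : V ≤ fixedSub x) (k : ℕ)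
    (hk : Odd k) (hxk : ∀ q, (⇑x)^[k] q = q) (hVx' : V ≤ V.comap x) (hVa' : V ≤ V.comap a)
    (IH : Nat.card (Q ⧸ V) * Nat.card (fixedSub (QuotientGroup.map V V x hVx')) ≤
      Nat.card (invSet (QuotientGroup.map V V x hVx') (QuotientGroup.map V V a hVa')) ^ 2) :
    Nat.card Q * Nat.card (fixedSub x) ≤ Nat.card (invSet x a) ^ 2 := by
  have e1 : Nat.card (fixedSub x) =
      Nat.card V * Nat.card (fixedSub (QuotientGroup.map V V x hVx')) := by
    have := card_preimage_mk V ((fixedSub (QuotientGroup.map V V x hVx') : Subgroup (Q ⧸ V)) :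
        Set (Q ⧸ V))
    rw [← case1_fixed S hVR k hk hxk hVx'] at this
    exact this
  have e2 : Nat.card (invSet x a) = Nat.card V *
      Nat.card (invSet (QuotientGroup.map V V x hVx') (QuotientGroup.map V V a hVa')) := by
    have := card_preimage_mk V
      (invSet (QuotientGroup.map V V x hVx') (QuotientGroup.map V V a hVa'))
    rw [← case1_inv S hVR k hk hxk hVx' hVa'] at this
    exact this
  have e3 : Nat.card Q = Nat.card (Q ⧸ V) * Nat.card V :=
    Subgroup.card_eq_card_quotient_mul_card_subgroup V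
  rw [e1, e2, e3]
  calc Nat.card (Q ⧸ V) * Nat.card V *
        (Nat.card V * Nat.card (fixedSub (QuotientGroup.map V V x hVx')))
      = Nat.card V ^ 2 *
        (Nat.card (Q ⧸ V) * Nat.card (fixedSub (QuotientGroup.map V V x hVx'))) := by ring
    _ ≤ Nat.card V ^ 2 *
        Nat.card (invSet (QuotientGroup.map V V x hVx') (QuotientGroup.map V V a hVa')) ^ 2 :=
        Nat.mul_le_mul_left _ IH
    _ = _ := by ring

/-- In case 2 every fixed point of the quotient lifts to a fixed point. -/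
theorem case2_lift_fixed [Finite Q] (S : Setup x a V) (hVR : V ⊓ fixedSub x = ⊥) {g : Q}
    (hg : g⁻¹ * x g ∈ V) : ∃ v₀ ∈ V, g * v₀ ∈ fixedSub x := by
  obtain ⟨v₂, hv₂, h2⟩ := S.theta_surj hVR hg
  refine ⟨v₂, hv₂, ?_⟩
  rw [mem_fixedSub, map_mul]
  have hxg : x g = g * (v₂ * x v₂) := by rw [h2]; group
  rw [hxg]
  have := S.mul_self (S.hVx v₂ hv₂)
  calc g * (v₂ * x v₂) * x v₂ = g * v₂ * (x v₂ * x v₂) := by group
    _ = g * v₂ := by rw [this, mul_one]

theorem case2_fixed_card [Finite Q] (S : Setup x a V) [V.Normal] (hVR : V ⊓ fixedSub x = ⊥)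
    (hVx' : V ≤ V.comap x) :
    Nat.card (fixedSub (QuotientGroup.map V V x hVx')) = Nat.card (fixedSub x) := by
  symm
  let f : fixedSub x → fixedSub (QuotientGroup.map V V x hVx') := fun r =>
    ⟨((r : Q) : Q ⧸ V), by
      rw [mem_fixedSub, QuotientGroup.map_mk, mem_fixedSub.mp r.2]⟩
  apply Nat.card_eq_of_bijective f
  constructor
  · intro r r' h
    have h1 : (((r : Q) : Q ⧸ V)) = ((r' : Q) : Q ⧸ V) := congrArg Subtype.val h
    have h2 : (r : Q)⁻¹ * r' ∈ V := QuotientGroup.eq.mp h1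
    have h3 : (r : Q)⁻¹ * r' ∈ V ⊓ fixedSub x :=
      ⟨h2, (fixedSub x).mul_mem ((fixedSub x).inv_mem r.2) r'.2⟩
    rw [hVR, Subgroup.mem_bot] at h3
    apply Subtype.ext
    exact inv_mul_eq_one.mp h3
  · rintro ⟨L, hL⟩
    induction L using QuotientGroup.induction_on with
    | H q =>
      rw [mem_fixedSub, QuotientGroup.map_mk] at hL
      have h1 : (x q)⁻¹ * q ∈ V := QuotientGroup.eq.mp hL
      have h2 : q⁻¹ * x q ∈ V := by
        have := V.inv_mem h1
        rwa [mul_inv_rev, inv_inv] at this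
      obtain ⟨v₀, hv₀, hr⟩ := case2_lift_fixed S hVR h2
      refine ⟨⟨q * v₀, hr⟩, ?_⟩
      apply Subtype.ext
      change ((q * v₀ : Q) : Q ⧸ V) = (q : Q ⧸ V)
      exact QuotientGroup.mk_mul_of_mem q hv₀

/-- In case 2 every element of the quotient `A`-set lifts to an element of `A`. -/
theorem case2_lift [Finite Q] (S : Setup x a V) [V.Normal] (hVR : V ⊓ fixedSub x = ⊥)
    (hVx' : V ≤ V.comap x) (hVa' : V ≤ V.comap a) {q : Q}
    (hq : (q : Q ⧸ V) ∈ invSet (QuotientGroup.map V V x hVx') (QuotientGroup.map V V a hVa')) :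
    ∃ u ∈ V, q * u ∈ invSet x a := by
  set g := q⁻¹ * a q with hg
  have hq' : (QuotientGroup.map V V x hVx') (((q : Q ⧸ V))⁻¹ *
      (QuotientGroup.map V V a hVa') (q : Q ⧸ V)) =
      ((q : Q ⧸ V))⁻¹ * (QuotientGroup.map V V a hVa') (q : Q ⧸ V) := hq
  rw [QuotientGroup.map_mk] at hq'
  have hq2 : (QuotientGroup.map V V x hVx') ((g : Q) : Q ⧸ V) = ((g : Q) : Q ⧸ V) := hq'
  rw [QuotientGroup.map_mk] at hq2
  have h1 : (x g)⁻¹ * g ∈ V := QuotientGroup.eq.mp hq2
  have h2 : g⁻¹ * x g ∈ V := by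
    have := V.inv_mem h1
    rwa [mul_inv_rev, inv_inv] at this
  obtain ⟨v₀, hv₀, hr⟩ := case2_lift_fixed S hVR h2
  set r := g * v₀ with hr_def
  have hgr : g = r * v₀ := by
    rw [hr_def, mul_assoc, S.mul_self hv₀, mul_one]
  -- g * a g = 1
  have haq : a q = q * g := by rw [hg]; group
  have hga : g * a g = 1 := by
    have h := S.haa q
    rw [haq, map_mul, haq] at h
    have : q * (g * a g) = q * 1 := by rw [mul_one, ← mul_assoc]; exact h
    exact mul_left_cancel this
  -- v₀ * a v₀ = (r * a r)⁻¹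
  have hav₀V : a v₀ ∈ V := S.hVa v₀ hv₀
  have h3 : (r * a r) * (v₀ * a v₀) = 1 := by
    have : g * a g = (r * a r) * (v₀ * a v₀) := by
      rw [hgr, map_mul]
      calc r * v₀ * (a r * a v₀) = r * (v₀ * a r) * a v₀ := by group
        _ = r * (a r * v₀) * a v₀ := by rw [S.comm hv₀ (a r)]
        _ = r * a r * (v₀ * a v₀) := by group
    rw [← this, hga]
  have h4 : v₀ * a v₀ ∈ V ⊓ fixedSub x := by
    refine ⟨V.mul_mem hv₀ hav₀V, ?_⟩
    have : v₀ * a v₀ = (r * a r)⁻¹ := eq_inv_of_mul_eq_one_right h3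
    rw [this]
    exact (fixedSub x).inv_mem ((fixedSub x).mul_mem hr (S.fixed_a hr))
  rw [hVR, Subgroup.mem_bot] at h4
  have hav₀ : a v₀ = v₀ := by
    have : a v₀ = v₀⁻¹ := eq_inv_of_mul_eq_one_right h4
    rwa [S.inv_eq hv₀] at this
  -- u with u * x u = v₀
  obtain ⟨u, hu, huv⟩ := S.theta_surj hVR hv₀
  have hxuV : x u ∈ V := S.hVx u hu
  have hauV : a u ∈ V := S.hVa u hu
  have haxu : a u = x u := by
    apply S.theta_inj hVR hauV hxuV
    -- a u * a (x u) = u * x u, apply x
    have h5 : a u * a (x u) = u * x u := by rw [← map_mul, huv, hav₀]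
    have h6 : x (a (x u)) = a u := S.hxa u
    have h7 := congrArg x h5
    rw [map_mul, map_mul, h6] at h7
    -- h7 : x (a u) * a u = x u * x (x u)
    rw [← h7]
    exact (S.comm hauV _).symm
  refine ⟨u, hu, ?_⟩
  change (q * u)⁻¹ * a (q * u) ∈ fixedSub x
  have : (q * u)⁻¹ * a (q * u) = r := by
    rw [map_mul, haxu]
    calc (q * u)⁻¹ * (a q * x u) = u⁻¹ * (q⁻¹ * a q) * x u := by group
      _ = u⁻¹ * g * x u := by rw [hg]
      _ = u * g * x u := by rw [S.inv_eq hu]
      _ = g * u * x u := by rw [S.comm hu g]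
      _ = g * (u * x u) := by group
      _ = g * v₀ := by rw [huv]
  rw [this]
  exact hr

/-- In case 2 the fibres of `A → Ā` are cosets of `C_V(a)`. -/
theorem case2_fiber_card [Finite Q] (S : Setup x a V) [V.Normal] (hVR : V ⊓ fixedSub x = ⊥)
    (hVx' : V ≤ V.comap x) (hVa' : V ≤ V.comap a)
    (L : invSet (QuotientGroup.map V V x hVx') (QuotientGroup.map V V a hVa')) :
    Nat.card {q : invSet x a // ((q : Q) : Q ⧸ V) = (L : Q ⧸ V)} =
      Nat.card (V ⊓ fixedSub a : Subgroup Q) := by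
  obtain ⟨L, hL⟩ := L
  induction L using QuotientGroup.induction_on with
  | H q =>
    obtain ⟨u, hu, hq₁⟩ := case2_lift S hVR hVx' hVa' hL
    set q₁ := q * u with hq₁_def
    have hq₁L : ((q₁ : Q) : Q ⧸ V) = (q : Q ⧸ V) := QuotientGroup.mk_mul_of_mem q hu
    have hg : q₁⁻¹ * a q₁ ∈ fixedSub x := hq₁
    symm
    let f : (V ⊓ fixedSub a : Subgroup Q) →
        {q' : invSet x a // ((q' : Q) : Q ⧸ V) = (q : Q ⧸ V)} := fun v =>
      ⟨⟨q₁ * v, by
        change (q₁ * (v : Q))⁻¹ * a (q₁ * v) ∈ fixedSub x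
        have hv1 : (v : Q) ∈ V := v.2.1
        have hv2 : a (v : Q) = v := v.2.2
        have : (q₁ * (v : Q))⁻¹ * a (q₁ * v) = q₁⁻¹ * a q₁ := by
          rw [map_mul, hv2]
          calc (q₁ * (v : Q))⁻¹ * (a q₁ * v) = (v : Q)⁻¹ * ((q₁⁻¹ * a q₁) * v) := by group
            _ = (v : Q)⁻¹ * (v * (q₁⁻¹ * a q₁)) := by rw [S.comm hv1]
            _ = q₁⁻¹ * a q₁ := by group
        rw [this]; exact hg⟩, by
        change ((q₁ * (v : Q) : Q) : Q ⧸ V) = (q : Q ⧸ V)
        rw [QuotientGroup.mk_mul_of_mem q₁ v.2.1, hq₁L]⟩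
    apply Nat.card_eq_of_bijective f
    constructor
    · intro v w h
      have h1 : q₁ * (v : Q) = q₁ * (w : Q) := congrArg (fun z => ((z.1 : invSet x a) : Q)) h
      exact Subtype.ext (mul_left_cancel h1)
    · rintro ⟨⟨q', hq'A⟩, hq'L⟩
      have hq'L' : ((q' : Q) : Q ⧸ V) = (q : Q ⧸ V) := hq'L
      have hv : q₁⁻¹ * q' ∈ V := by
        apply QuotientGroup.eq.mp
        rw [hq₁L, hq'L']
      set v := q₁⁻¹ * q' with hv_def
      have hq'v : q' = q₁ * v := by rw [hv_def]; group
      have hq'A' : q'⁻¹ * a q' ∈ fixedSub x := hq'A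
      have havV : a v ∈ V := S.hVa v hv
      have h2 : q'⁻¹ * a q' = (q₁⁻¹ * a q₁) * (v⁻¹ * a v) := by
        rw [hq'v, map_mul]
        calc (q₁ * v)⁻¹ * (a q₁ * a v) = v⁻¹ * ((q₁⁻¹ * a q₁) * a v) := by group
          _ = v⁻¹ * (q₁⁻¹ * a q₁) * a v := by group
          _ = (q₁⁻¹ * a q₁) * v⁻¹ * a v := by rw [S.comm (V.inv_mem hv)]
          _ = _ := by group
      have h3 : v⁻¹ * a v ∈ V ⊓ fixedSub x := by
        refine ⟨V.mul_mem (V.inv_mem hv) havV, ?_⟩
        have : v⁻¹ * a v = (q₁⁻¹ * a q₁)⁻¹ * (q'⁻¹ * a q') := by rw [h2]; group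
        rw [this]
        exact (fixedSub x).mul_mem ((fixedSub x).inv_mem hg) hq'A'
      rw [hVR, Subgroup.mem_bot] at h3
      have hav : a v = v := by
        have := inv_mul_eq_one.mp h3
        exact this.symm
      refine ⟨⟨v, hv, hav⟩, ?_⟩
      apply Subtype.ext
      apply Subtype.ext
      change q₁ * v = q'
      rw [hq'v]

/-- `|V| ≤ |C_V(a)|²`. -/
theorem case2_C [Finite Q] (S : Setup x a V) :
    Nat.card V ≤ Nat.card (V ⊓ fixedSub a : Subgroup Q) ^ 2 := by
  let ψ : V →* V := MonoidHom.mk' (fun v => ⟨(v : Q) * a v, V.mul_mem v.2 (S.hVa v v.2)⟩) (by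
    intro v w
    apply Subtype.ext
    change ((v : Q) * w) * a ((v : Q) * w) = ((v : Q) * a v) * ((w : Q) * a w)
    rw [map_mul]
    calc (v : Q) * w * (a v * a w) = (v : Q) * (w * a v) * a w := by group
      _ = (v : Q) * (a v * w) * a w := by rw [S.comm w.2 (a v)]
      _ = _ := by group)
  have hψ : ∀ v : V, ((ψ v : V) : Q) = (v : Q) * a v := fun v => rfl
  have h1 : Nat.card V = Nat.card ψ.ker * Nat.card ψ.range := by
    rw [← Subgroup.index_ker, Subgroup.card_mul_index]
  have h2 : Nat.card ψ.ker ≤ Nat.card (V ⊓ fixedSub a : Subgroup Q) := by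
    let f : ψ.ker → (V ⊓ fixedSub a : Subgroup Q) := fun v => ⟨((v : V) : Q), (v : V).2, by
      have hv : ψ (v : V) = 1 := v.2
      have hv' : ((v : V) : Q) * a (v : V) = 1 := by
        have := congrArg Subtype.val hv
        rwa [hψ] at this
      have : a ((v : V) : Q) = ((v : V) : Q)⁻¹ := eq_inv_of_mul_eq_one_right hv'
      rw [S.inv_eq (v : V).2] at this
      exact this⟩
    apply Nat.card_le_card_of_injective f
    intro v w h
    have : ((v : V) : Q) = ((w : V) : Q) :=
      congrArg (fun z : (V ⊓ fixedSub a : Subgroup Q) => (z : Q)) h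
    exact Subtype.ext (Subtype.ext this)
  have h3 : Nat.card ψ.range ≤ Nat.card (V ⊓ fixedSub a : Subgroup Q) := by
    let f : ψ.range → (V ⊓ fixedSub a : Subgroup Q) := fun w => ⟨((w : V) : Q), (w : V).2, by
      obtain ⟨v, hv⟩ := w.2
      have hw : ((w : V) : Q) = (v : Q) * a v := by rw [← hv, hψ]
      change a ((w : V) : Q) = ((w : V) : Q)
      rw [hw, map_mul, S.haa]
      exact S.comm v.2 (a v)⟩
    apply Nat.card_le_card_of_injective f
    intro v w h
    have : ((v : V) : Q) = ((w : V) : Q) :=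
      congrArg (fun z : (V ⊓ fixedSub a : Subgroup Q) => (z : Q)) h
    exact Subtype.ext (Subtype.ext this)
  rw [h1, pow_two]
  exact Nat.mul_le_mul h2 h3

theorem case2_final [Finite Q] (S : Setup x a V) [V.Normal] (hVR : V ⊓ fixedSub x = ⊥)
    (hVx' : V ≤ V.comap x) (hVa' : V ≤ V.comap a)
    (IH : Nat.card (Q ⧸ V) * Nat.card (fixedSub (QuotientGroup.map V V x hVx')) ≤
      Nat.card (invSet (QuotientGroup.map V V x hVx') (QuotientGroup.map V V a hVa')) ^ 2) :
    Nat.card Q * Nat.card (fixedSub x) ≤ Nat.card (invSet x a) ^ 2 := by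
  have e1 := case2_fixed_card S hVR hVx'
  have e3 : Nat.card Q = Nat.card (Q ⧸ V) * Nat.card V :=
    Subgroup.card_eq_card_quotient_mul_card_subgroup V
  -- the map A → Ā
  have hmem : ∀ q : invSet x a, ((q : Q) : Q ⧸ V) ∈
      invSet (QuotientGroup.map V V x hVx') (QuotientGroup.map V V a hVa') := by
    rintro ⟨q, hq⟩
    have hq' : x (q⁻¹ * a q) = q⁻¹ * a q := hq
    change (QuotientGroup.map V V x hVx') (((q : Q ⧸ V))⁻¹ *
      (QuotientGroup.map V V a hVa') (q : Q ⧸ V)) =
      ((q : Q ⧸ V))⁻¹ * (QuotientGroup.map V V a hVa') (q : Q ⧸ V)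
    rw [QuotientGroup.map_mk]
    change (QuotientGroup.map V V x hVx') ((q⁻¹ * a q : Q) : Q ⧸ V) = ((q⁻¹ * a q : Q) : Q ⧸ V)
    rw [QuotientGroup.map_mk, hq']
  let f : invSet x a → invSet (QuotientGroup.map V V x hVx') (QuotientGroup.map V V a hVa') :=
    fun q => ⟨((q : Q) : Q ⧸ V), hmem q⟩
  have e2 : Nat.card (invSet x a) =
      Nat.card (invSet (QuotientGroup.map V V x hVx') (QuotientGroup.map V V a hVa')) *
        Nat.card (V ⊓ fixedSub a : Subgroup Q) := by
    apply card_eq_mul_of_fibers f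
    intro L
    rw [← case2_fiber_card S hVR hVx' hVa' L]
    apply Nat.card_congr
    exact Equiv.subtypeEquivRight (fun q => by
      constructor
      · intro h; exact congrArg Subtype.val h
      · intro h; exact Subtype.ext h)
  have hC := case2_C (x := x) S
  rw [e2, e3, ← e1]
  calc Nat.card (Q ⧸ V) * Nat.card V * Nat.card (fixedSub (QuotientGroup.map V V x hVx'))
      = (Nat.card (Q ⧸ V) * Nat.card (fixedSub (QuotientGroup.map V V x hVx'))) * Nat.card V := by
        ring
    _ ≤ Nat.card (invSet (QuotientGroup.map V V x hVx') (QuotientGroup.map V V a hVa')) ^ 2 *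
        Nat.card (V ⊓ fixedSub a : Subgroup Q) ^ 2 := Nat.mul_le_mul IH hC
    _ = _ := by ring

end Cases

section Main

theorem iterate_map_mk {Q : Type u} [Group Q] (V : Subgroup Q) [V.Normal] (x : Q →* Q)
    (hVx' : V ≤ V.comap x) (q : Q) (i : ℕ) :
    (⇑(QuotientGroup.map V V x hVx'))^[i] (q : Q ⧸ V) = (((⇑x)^[i] q : Q) : Q ⧸ V) := by
  induction i with
  | zero => rfl
  | succ i ih =>
    rw [Function.iterate_succ_apply', ih, QuotientGroup.map_mk, Function.iterate_succ_apply']

/-- The statement proved by induction. -/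
def Goal (Q : Type u) [Group Q] : Prop :=
  ∀ (x a : Q →* Q), (∀ q, a (a q) = q) → (∀ q, a (x (a (x q))) = q) →
    ∀ k : ℕ, Odd k → (∀ q, (⇑x)^[k] q = q) →
    Nat.card Q * Nat.card (fixedSub x) ≤ Nat.card (invSet x a) ^ 2

theorem main_step (n : ℕ)
    (ih : ∀ (Q' : Type u) [Group Q'] [Finite Q'], Nat.card Q' ≤ n → IsPGroup 2 Q' → Goal Q')
    (Q : Type u) [Group Q] [Finite Q] (hn : Nat.card Q ≤ n + 1) (hQ : IsPGroup 2 Q)
    (x a : Q →* Q) (V : Subgroup Q) (S : Setup x a V) (hVne : V ≠ ⊥)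
    (hcase : V ≤ fixedSub x ∨ V ⊓ fixedSub x = ⊥)
    (k : ℕ) (hk : Odd k) (hxk : ∀ q, (⇑x)^[k] q = q) :
    Nat.card Q * Nat.card (fixedSub x) ≤ Nat.card (invSet x a) ^ 2 := by
  haveI : V.Normal := S.normal
  have hVx' : V ≤ V.comap x := fun v hv => S.hVx v hv
  have hVa' : V ≤ V.comap a := fun v hv => S.hVa v hv
  have hcard : Nat.card (Q ⧸ V) ≤ n := by
    have e3 : Nat.card Q = Nat.card (Q ⧸ V) * Nat.card V :=
      Subgroup.card_eq_card_quotient_mul_card_subgroup V
    have h2 : 1 < Nat.card V := (Subgroup.one_lt_card_iff_ne_bot V).mpr hVne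
    have hpos : 0 < Nat.card (Q ⧸ V) := Nat.card_pos
    nlinarith
  have IH := ih (Q ⧸ V) hcard (hQ.to_quotient V) (QuotientGroup.map V V x hVx')
    (QuotientGroup.map V V a hVa')
    (by
      intro L
      induction L using QuotientGroup.induction_on with
      | H q => rw [QuotientGroup.map_mk, QuotientGroup.map_mk, S.haa])
    (by
      intro L
      induction L using QuotientGroup.induction_on with
      | H q =>
        rw [QuotientGroup.map_mk, QuotientGroup.map_mk, QuotientGroup.map_mk,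
          QuotientGroup.map_mk, S.hax])
    k hk
    (by
      intro L
      induction L using QuotientGroup.induction_on with
      | H q => rw [iterate_map_mk, hxk])
  rcases hcase with hVR | hVR
  · exact case1_final S hVR k hk hxk hVx' hVa' IH
  · exact case2_final S hVR hVx' hVa' IH

theorem main_aux (n : ℕ) :
    ∀ (Q : Type u) [Group Q] [Finite Q], Nat.card Q ≤ n → IsPGroup 2 Q → Goal Q := by
  induction n with
  | zero =>
    intro Q _ _ hn
    have := Nat.card_pos (α := Q)
    omega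
  | succ n ih =>
    intro Q _ _ hn hQ x a haa hax k hk hxk
    by_cases hQ1 : Subsingleton Q
    · have h1 : Nat.card Q = 1 := Nat.card_eq_one_iff_unique.mpr ⟨hQ1, ⟨1⟩⟩
      have h2 : Nat.card (fixedSub x) = 1 := by
        haveI : Subsingleton (fixedSub x) := inferInstance
        exact Nat.card_eq_one_iff_unique.mpr ⟨inferInstance, ⟨1⟩⟩
      have h3 : Nat.card (invSet x a) = 1 := by
        have hmem : (1 : Q) ∈ invSet x a := by
          change x (1⁻¹ * a 1) = 1⁻¹ * a 1
          simp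
        haveI : Subsingleton (invSet x a) := inferInstance
        exact Nat.card_eq_one_iff_unique.mpr ⟨inferInstance, ⟨⟨1, hmem⟩⟩⟩
      rw [h1, h2, h3]
      norm_num
    · haveI : Nontrivial Q := not_subsingleton_iff_nontrivial.mp hQ1
      have hW := omegaCenter_ne_bot hQ
      have has : Function.Surjective a := fun q => ⟨a q, haa q⟩
      have hxs : Function.Surjective x := by
        intro q
        obtain ⟨j, rfl⟩ := hk
        refine ⟨(⇑x)^[2 * j] q, ?_⟩
        have := hxk q
        rwa [show 2 * j + 1 = (2 * j).succ from rfl, Function.iterate_succ_apply'] at this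
      have hxa : ∀ q, x (a (x q)) = a q := by
        intro q
        have := congrArg a (hax q)
        rwa [haa] at this
      by_cases hWR : omegaCenter Q ⊓ fixedSub x = ⊥
      · have S : Setup x a (omegaCenter Q) :=
          { haa := haa
            hax := hax
            hVc := omegaCenter_le_center
            hV2 := fun v hv => omegaCenter_sq hv
            hVx := fun v hv => omegaCenter_map hxs hv
            hVa := fun v hv => omegaCenter_map has hv }
        exact main_step n ih Q hn hQ x a _ S hW (Or.inr hWR) k hk hxk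
      · have S : Setup x a (omegaCenter Q ⊓ fixedSub x) :=
          { haa := haa
            hax := hax
            hVc := inf_le_left.trans omegaCenter_le_center
            hV2 := fun v hv => omegaCenter_sq hv.1
            hVx := fun v hv => ⟨omegaCenter_map hxs hv.1, by
              have h2 : x v = v := hv.2
              change x (x v) = x v
              rw [h2, h2]⟩
            hVa := fun v hv => ⟨omegaCenter_map has hv.1, by
              have h2 : x v = v := hv.2
              change x (a v) = a v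
              have := hxa v
              rwa [h2] at this⟩ }
        exact main_step n ih Q hn hQ x a _ S hWR (Or.inl inf_le_right) k hk hxk

/-- **Main abstract statement.**  `Q` a finite 2-group, `x a : Q →* Q` with `a ∘ a = id`,
`a ∘ x ∘ a ∘ x = id` and `x^[k] = id`, `k` odd: `|Q| |C_Q(x)| ≤ |{q | q⁻¹ a(q) ∈ C_Q(x)}|²`. -/
theorem card_mul_card_fixed_le {Q : Type u} [Group Q] [Finite Q] (hQ : IsPGroup 2 Q)
    (x a : Q →* Q) (haa : ∀ q, a (a q) = q) (hax : ∀ q, a (x (a (x q))) = q)
    (k : ℕ) (hk : Odd k) (hxk : ∀ q, (⇑x)^[k] q = q) :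
    Nat.card Q * Nat.card (fixedSub x) ≤ Nat.card (invSet x a) ^ 2 :=
  main_aux (Nat.card Q) Q le_rfl hQ x a haa hax k hk hxk

end Main

section Applied

/-- Counting through a map all of whose fibres have bounded size. -/
theorem card_le_mul_of_fibers {α β : Type*} [Finite α] [Finite β] (f : α → β) (n : ℕ)
    (h : ∀ b, Nat.card {a // f a = b} ≤ n) : Nat.card α ≤ Nat.card β * n := by
  classical
  haveI := Fintype.ofFinite β
  rw [← Nat.card_congr (Equiv.sigmaFiberEquiv f), Nat.card_sigma]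
  calc ∑ b, Nat.card {a // f a = b} ≤ ∑ _b : β, n := Finset.sum_le_sum (fun b _ => h b)
    _ = Nat.card β * n := by
      simp only [Finset.sum_const, Finset.card_univ, smul_eq_mul, Nat.card_eq_fintype_card]

variable {G : Type u} [Group G]

/-- conjugation by `x` on a normal subgroup, as an endomorphism. -/
def conjHom (N : Subgroup G) [hN : N.Normal] (x : G) : N →* N :=
  MonoidHom.mk' (fun q => ⟨x * q * x⁻¹, hN.conj_mem q q.2 x⟩) (by
    intro q r
    apply Subtype.ext
    change x * ((q : G) * r) * x⁻¹ = (x * q * x⁻¹) * (x * r * x⁻¹)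
    group)

theorem conjHom_coe (N : Subgroup G) [N.Normal] (x : G) (q : N) :
    ((conjHom N x q : N) : G) = x * q * x⁻¹ := rfl

theorem conjHom_iterate (N : Subgroup G) [N.Normal] (x : G) (q : N) (i : ℕ) :
    (((⇑(conjHom N x))^[i] q : N) : G) = x ^ i * q * (x ^ i)⁻¹ := by
  induction i with
  | zero => simp
  | succ i ih =>
    rw [Function.iterate_succ_apply', conjHom_coe, ih, pow_succ']
    group

/-- restriction of an automorphism to an invariant subgroup, as an endomorphism. -/
def resHom (N : Subgroup G) (α : MulAut G) (hNα : ∀ q ∈ N, α q ∈ N) : N →* N :=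
  MonoidHom.mk' (fun q => ⟨α q, hNα q q.2⟩) (by
    intro q r
    apply Subtype.ext
    change α ((q : G) * r) = α q * α r
    rw [map_mul])

theorem resHom_coe (N : Subgroup G) (α : MulAut G) (hNα : ∀ q ∈ N, α q ∈ N) (q : N) :
    ((resHom N α hNα q : N) : G) = α q := rfl

/-- **Applied form.** `α` an involutory automorphism of the finite group `G`, `N ⊴ G` an
`α`-invariant 2-subgroup, `x` of odd order inverted by `α`: then
`|N : C_N(x)| ≤ m²`, `m` the number of odd-order elements inverted by `α`. -/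
theorem card_normal_two_subgroup_le [Finite G] (α : MulAut G) (hα : ∀ g, α (α g) = g)
    (N : Subgroup G) [hNn : N.Normal] (hN : IsPGroup 2 N) (hNα : ∀ q ∈ N, α q ∈ N)
    (x : G) (hx : Odd (orderOf x)) (hxα : α x = x⁻¹) :
    Nat.card N ≤ Nat.card (N ⊓ Subgroup.centralizer {x} : Subgroup G) *
      (Nat.card {g : G // Odd (orderOf g) ∧ α g = g⁻¹}) ^ 2 := by
  set xt := conjHom N x
  set at' := resHom N α hNα
  have hxtc : ∀ q : N, ((xt q : N) : G) = x * q * x⁻¹ := fun q => rfl
  have hatc : ∀ q : N, ((at' q : N) : G) = α q := fun q => rfl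
  have haa : ∀ q, at' (at' q) = q := by
    intro q
    apply Subtype.ext
    rw [hatc, hatc, hα]
  have hax : ∀ q, at' (xt (at' (xt q))) = q := by
    intro q
    apply Subtype.ext
    rw [hatc, hxtc, hatc, hxtc]
    rw [map_mul, map_mul, hα, map_inv, hxα]
    group
  have hxk : ∀ q, (⇑xt)^[orderOf x] q = q := by
    intro q
    apply Subtype.ext
    rw [conjHom_iterate, pow_orderOf_eq_one]
    group
  have key := card_mul_card_fixed_le hN xt at' haa hax (orderOf x) hx hxk
  set R' := (N ⊓ Subgroup.centralizer {x} : Subgroup G) with hR'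
  set m := Nat.card {g : G // Odd (orderOf g) ∧ α g = g⁻¹} with hm
  -- |fixedSub| = |R'|
  have e1 : Nat.card (fixedSub xt) = Nat.card R' := by
    let f : fixedSub xt → R' := fun q => ⟨((q : N) : G), (q : N).2, by
      have h : xt (q : N) = (q : N) := q.2
      have h' : x * ((q : N) : G) * x⁻¹ = ((q : N) : G) := by
        have := congrArg Subtype.val h
        rwa [hxtc] at this
      apply Subgroup.mem_centralizer_iff.mpr
      intro y hy
      rw [Set.mem_singleton_iff] at hy
      subst hy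
      calc y * ((q : N) : G) = (y * ((q : N) : G) * y⁻¹) * y := by group
        _ = ((q : N) : G) * y := by rw [h']⟩
    apply Nat.card_eq_of_bijective f
    constructor
    · intro q r h
      have : ((q : N) : G) = ((r : N) : G) := congrArg (fun z : R' => (z : G)) h
      exact Subtype.ext (Subtype.ext this)
    · rintro ⟨r, hrN, hrC⟩
      refine ⟨⟨⟨r, hrN⟩, ?_⟩, rfl⟩
      change xt ⟨r, hrN⟩ = ⟨r, hrN⟩
      apply Subtype.ext
      rw [hxtc]
      have := Subgroup.mem_centralizer_iff.mp hrC x (Set.mem_singleton x)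
      change x * r * x⁻¹ = r
      rw [this]; group
  -- |A| ≤ |R'| * m
  have hJ : ∀ q : invSet xt at', Odd (orderOf (((q : N) : G) * x * ((q : N) : G)⁻¹)) ∧
      α (((q : N) : G) * x * ((q : N) : G)⁻¹) = (((q : N) : G) * x * ((q : N) : G)⁻¹)⁻¹ := by
    rintro ⟨q, hq⟩
    constructor
    · have : orderOf ((MulAut.conj (q : G)) x) = orderOf x := MulEquiv.orderOf_eq _ x
      rw [MulAut.conj_apply] at this
      change Odd (orderOf ((q : G) * x * (q : G)⁻¹))
      rw [this]; exact hx
    · have hq' : xt (q⁻¹ * at' q) = q⁻¹ * at' q := hq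
      have hq'' : x * ((q : G)⁻¹ * α q) * x⁻¹ = (q : G)⁻¹ * α q := by
        have := congrArg Subtype.val hq'
        rw [hxtc] at this
        exact this
      change α ((q : G) * x * (q : G)⁻¹) = ((q : G) * x * (q : G)⁻¹)⁻¹
      rw [map_mul, map_mul, map_inv, hxα]
      set g := (q : G)⁻¹ * α q with hg
      have hαq : α (q : G) = q * g := by rw [hg]; group
      have hgx : g * x⁻¹ * g⁻¹ = x⁻¹ := by
        have h1 : x * g = g * x := by
          calc x * g = (x * g * x⁻¹) * x := by group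
            _ = g * x := by rw [hq'']
        calc g * x⁻¹ * g⁻¹ = x⁻¹ * (x * g) * x⁻¹ * g⁻¹ := by group
          _ = x⁻¹ * (g * x) * x⁻¹ * g⁻¹ := by rw [h1]
          _ = x⁻¹ := by group
      rw [hαq]
      calc (q : G) * g * x⁻¹ * ((q : G) * g)⁻¹ = (q : G) * (g * x⁻¹ * g⁻¹) * (q : G)⁻¹ := by group
        _ = (q : G) * x⁻¹ * (q : G)⁻¹ := by rw [hgx]
        _ = _ := by group
  let φ : invSet xt at' → {g : G // Odd (orderOf g) ∧ α g = g⁻¹} := fun q =>
    ⟨((q : N) : G) * x * ((q : N) : G)⁻¹, hJ q⟩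
  have e2 : Nat.card (invSet xt at') ≤ m * Nat.card R' := by
    apply card_le_mul_of_fibers φ
    intro y
    by_cases hne : Nonempty {q // φ q = y}
    · obtain ⟨⟨q₀, hq₀⟩⟩ := hne
      let ι : {q // φ q = y} → R' := fun q => ⟨((q₀ : N) : G)⁻¹ * ((q.1 : N) : G),
        N.mul_mem (N.inv_mem (q₀ : N).2) (q.1 : N).2, by
          have h1 : ((q.1 : N) : G) * x * ((q.1 : N) : G)⁻¹ = ((q₀ : N) : G) * x * ((q₀ : N) : G)⁻¹ := by
            have := congrArg Subtype.val (q.2.trans hq₀.symm)
            exact this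
          apply Subgroup.mem_centralizer_iff.mpr
          intro z hz
          rw [Set.mem_singleton_iff] at hz
          subst hz
          calc z * (((q₀ : N) : G)⁻¹ * ((q.1 : N) : G))
              = ((q₀ : N) : G)⁻¹ * (((q₀ : N) : G) * z * ((q₀ : N) : G)⁻¹) * ((q.1 : N) : G) := by
                group
            _ = ((q₀ : N) : G)⁻¹ * (((q.1 : N) : G) * z * ((q.1 : N) : G)⁻¹) * ((q.1 : N) : G) := by
                rw [h1]
            _ = _ := by group⟩
      apply Nat.card_le_card_of_injective ι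
      intro q r h
      have h1 : ((q₀ : N) : G)⁻¹ * ((q.1 : N) : G) = ((q₀ : N) : G)⁻¹ * ((r.1 : N) : G) :=
        congrArg (fun z : R' => (z : G)) h
      have h2 : ((q.1 : N) : G) = ((r.1 : N) : G) := mul_left_cancel h1
      exact Subtype.ext (Subtype.ext (Subtype.ext h2))
    · have : IsEmpty {q // φ q = y} := not_nonempty_iff.mp hne
      rw [Nat.card_of_isEmpty]
      exact Nat.zero_le _
  have hRpos : 0 < Nat.card R' := Nat.card_pos
  rw [e1] at key
  have h3 : Nat.card N * Nat.card R' ≤ (Nat.card R' * m ^ 2) * Nat.card R' := by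
    calc Nat.card N * Nat.card R' ≤ Nat.card (invSet xt at') ^ 2 := key
      _ ≤ (m * Nat.card R') ^ 2 := Nat.pow_le_pow_left e2 2
      _ = _ := by ring
  exact Nat.le_of_mul_le_mul_right h3 hRpos

end Applied

end Cfsg.Agent.Lib.Helper20.InvCount
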