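import Mathlib

/-!
# A "Jordan block" bound

For a finite abelian group `W` of exponent `p` and an endomorphism `β` with `β^p = id`,
`|W| ≤ |C_W(β)|^p`.
-/

set_option autoImplicit false

namespace Cfsg.Agent.Lib.Helper20

section
variable {W : Type*} [CommGroup W]

/-- `T w = β w * w⁻¹` -/
def twist (β : W →* W) : W →* W := β / MonoidHom.id W

theorem twist_apply (β : W →* W) (w : W) : twist β w = β w * w⁻¹ := by
  simp [twist, div_eq_mul_inv]

theorem twist_ker (β : W →* W) (w : W) : twist β w = 1 ↔ β w = w := by
  rw [twist_apply, mul_inv_eq_one]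

/-- `β` as an element of the endomorphism ring of `Additive W` -/
def addEnd (β : W →* W) : AddMonoid.End (Additive W) := MonoidHom.toAdditive β

/-- iterated images of `T` -/
def iterMap (T : W →* W) : ℕ → Subgroup W
  | 0 => ⊤
  | (i+1) => (iterMap T i).map T

/-- translation to the endomorphism ring of `Additive W` -/
theorem twist_iterate_eq (β : W →* W) (k : ℕ) (w : W) :
    Additive.ofMul ((twist β)^[k] w) =
      ((addEnd β - 1) ^ k) (Additive.ofMul w) := by
  induction k generalizing w with
  | zero => simp
  | succ k ih =>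
    rw [Function.iterate_succ_apply, ih, pow_succ]
    change _ = ((addEnd β - 1) ^ k)
      ((addEnd β - 1) (Additive.ofMul w))
    congr 1

theorem twist_iterate_prime {p : ℕ} [hp : Fact p.Prime] (hexp : ∀ w : W, w ^ p = 1)
    (β : W →* W) (hβ : ∀ w, β^[p] w = w) (w : W) : (twist β)^[p] w = 1 := by
  have key : ((addEnd β - 1) ^ p) = 0 := by
    rcases subsingleton_or_nontrivial (AddMonoid.End (Additive W)) with hs | hn
    · exact Subsingleton.elim _ _
    · have hp0 : ((p : ℕ) : AddMonoid.End (Additive W)) = 0 := by
        ext x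
        rw [AddMonoid.End.natCast_apply]
        change Additive.ofMul ((Additive.toMul x) ^ p) = 0
        rw [hexp]; rfl
      have : CharP (AddMonoid.End (Additive W)) p :=
        (CharP.charP_iff_prime_eq_zero hp.out).mpr hp0
      rw [sub_pow_char_of_commute p (Commute.one_right _), one_pow, sub_eq_zero]
      ext x
      rw [AddMonoid.End.coe_pow]
      change (addEnd β)^[p] x = x
      have : ∀ k (y : Additive W), (addEnd β)^[k] y =
          Additive.ofMul (β^[k] (Additive.toMul y)) := by
        intro k
        induction k with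
        | zero => intro y; rfl
        | succ k ih =>
          intro y
          rw [Function.iterate_succ_apply, ih, Function.iterate_succ_apply]
          rfl
      rw [this, hβ]; rfl
  have := twist_iterate_eq β p w
  rw [key] at this
  exact this

theorem card_le_card_fixed_pow [Finite W] {p : ℕ} [hp : Fact p.Prime] (hexp : ∀ w : W, w ^ p = 1)
    (β : W →* W) (hβ : ∀ w, β^[p] w = w) :
    Nat.card W ≤ (Nat.card {w : W // β w = w}) ^ p := by
  classical
  set T := twist β with hT
  -- S i = image of T^i
  set S : ℕ → Subgroup W := iterMap T with hSdef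
  have hS0 : S 0 = ⊤ := rfl
  have hSs : ∀ i, S (i+1) = (S i).map T := fun i => rfl
  have hKcard : Nat.card T.ker = Nat.card {w : W // β w = w} := by
    apply Nat.card_congr
    refine Equiv.subtypeEquivRight (fun w => ?_)
    rw [MonoidHom.mem_ker, hT, twist_ker]
  have hstep : ∀ i, Nat.card (S i) ≤ Nat.card T.ker * Nat.card (S (i+1)) := by
    intro i
    have h1 : Nat.card (T.ker ⊓ S i : Subgroup W) * T.ker.relIndex (S i) = Nat.card (S i) := by
      have := Subgroup.relIndex_mul_relIndex (⊥ : Subgroup W) (T.ker ⊓ S i) (S i) bot_le inf_le_right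
      rwa [Subgroup.relIndex_bot_left, Subgroup.relIndex_bot_left,
        Subgroup.inf_relIndex_right] at this
    rw [hSs, ← Subgroup.relIndex_ker, ← h1]
    exact Nat.mul_le_mul_right _ (Subgroup.card_le_of_le inf_le_left)
  have hmem : ∀ i, ∀ x ∈ S i, ∃ w, T^[i] w = x := by
    intro i
    induction i with
    | zero => intro x _; exact ⟨x, rfl⟩
    | succ i ih =>
      intro x hx
      rw [hSs] at hx
      obtain ⟨y, hy, rfl⟩ := hx
      obtain ⟨w, rfl⟩ := ih y hy
      exact ⟨w, by rw [Function.iterate_succ_apply']⟩
  have hSp : S p = ⊥ := by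
    rw [eq_bot_iff]
    intro x hx
    obtain ⟨w, rfl⟩ := hmem p x hx
    rw [Subgroup.mem_bot]
    exact twist_iterate_prime hexp β hβ w
  have hchain : ∀ i, Nat.card W ≤ Nat.card T.ker ^ i * Nat.card (S i) := by
    intro i
    induction i with
    | zero => rw [hS0, Subgroup.card_top]; simp
    | succ i ih =>
      calc Nat.card W ≤ Nat.card T.ker ^ i * Nat.card (S i) := ih
        _ ≤ Nat.card T.ker ^ i * (Nat.card T.ker * Nat.card (S (i+1))) :=
            Nat.mul_le_mul_left _ (hstep i)
        _ = Nat.card T.ker ^ (i+1) * Nat.card (S (i+1)) := by ring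
  have := hchain p
  rw [hSp, Subgroup.card_bot, mul_one, hKcard] at this
  exact this

end

end Cfsg.Agent.Lib.Helper20
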