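import Mathlib
set_option autoImplicit false
set_option linter.style.haveILetI false

namespace Cfsg.Agent.Lib.Helper20.KS

variable {G : Type*} [Group G]

/-- internal direct decomposition `G = P × Q` -/
structure Decomp (G : Type*) [Group G] where
  P : Subgroup G
  Q : Subgroup G
  hP : P.Normal
  hQ : Q.Normal
  inf : P ⊓ Q = ⊥
  sup : P ⊔ Q = ⊤

namespace Decomp

variable (D : Decomp G)

theorem comm (p q : G) (hp : p ∈ D.P) (hq : q ∈ D.Q) : p * q = q * p :=
  Subgroup.commute_of_normal_of_disjoint D.P D.Q D.hP D.hQ (disjoint_iff.mpr D.inf) p q hp hq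

theorem exists_mul (x : G) : ∃ p ∈ D.P, ∃ q ∈ D.Q, p * q = x := by
  haveI := D.hQ
  have hx : x ∈ D.P ⊔ D.Q := by rw [D.sup]; exact Subgroup.mem_top x
  rw [← SetLike.mem_coe, Subgroup.mul_normal] at hx
  obtain ⟨p, hp, q, hq, h⟩ := Set.mem_mul.mp hx
  exact ⟨p, hp, q, hq, h⟩

theorem unique_mul {p p' q q' : G} (hp : p ∈ D.P) (hp' : p' ∈ D.P) (hq : q ∈ D.Q) (hq' : q' ∈ D.Q)
    (h : p * q = p' * q') : p = p' ∧ q = q' := by
  have h1 : p'⁻¹ * p = q' * q⁻¹ := by
    have : p'⁻¹ * (p * q) * q⁻¹ = p'⁻¹ * (p' * q') * q⁻¹ := by rw [h]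
    simpa [mul_assoc] using this
  have h2 : p'⁻¹ * p ∈ D.P ⊓ D.Q :=
    ⟨D.P.mul_mem (D.P.inv_mem hp') hp, by rw [h1]; exact D.Q.mul_mem hq' (D.Q.inv_mem hq)⟩
  rw [D.inf, Subgroup.mem_bot] at h2
  have h3 : p = p' := by
    have := inv_mul_eq_one.mp h2
    exact this.symm
  refine ⟨h3, ?_⟩
  rw [h3] at h
  exact mul_left_cancel h

/-- projection onto `P` along `Q`, as a function -/
noncomputable def prPfun (x : G) : G := Classical.choose (D.exists_mul x)

noncomputable def prQfun (x : G) : G :=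
  Classical.choose (Classical.choose_spec (D.exists_mul x)).2

theorem prPfun_mem (x : G) : D.prPfun x ∈ D.P := (Classical.choose_spec (D.exists_mul x)).1

theorem prQfun_mem (x : G) : D.prQfun x ∈ D.Q :=
  (Classical.choose_spec (Classical.choose_spec (D.exists_mul x)).2).1

theorem prPfun_mul_prQfun (x : G) : D.prPfun x * D.prQfun x = x :=
  (Classical.choose_spec (Classical.choose_spec (D.exists_mul x)).2).2

theorem pr_eq {x p q : G} (hp : p ∈ D.P) (hq : q ∈ D.Q) (h : p * q = x) :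
    D.prPfun x = p ∧ D.prQfun x = q :=
  D.unique_mul (D.prPfun_mem x) hp (D.prQfun_mem x) hq ((D.prPfun_mul_prQfun x).trans h.symm)

/-- projection onto `P` along `Q` -/
noncomputable def prP : G →* G :=
  MonoidHom.mk' D.prPfun (by
    intro x y
    have h : (D.prPfun x * D.prPfun y) * (D.prQfun x * D.prQfun y) = x * y := by
      have hc := D.comm (D.prPfun y) (D.prQfun x) (D.prPfun_mem y) (D.prQfun_mem x)
      calc (D.prPfun x * D.prPfun y) * (D.prQfun x * D.prQfun y)
          = D.prPfun x * (D.prPfun y * D.prQfun x) * D.prQfun y := by group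
        _ = D.prPfun x * (D.prQfun x * D.prPfun y) * D.prQfun y := by rw [hc]
        _ = (D.prPfun x * D.prQfun x) * (D.prPfun y * D.prQfun y) := by group
        _ = x * y := by rw [D.prPfun_mul_prQfun, D.prPfun_mul_prQfun]
    exact (D.pr_eq (D.P.mul_mem (D.prPfun_mem x) (D.prPfun_mem y))
      (D.Q.mul_mem (D.prQfun_mem x) (D.prQfun_mem y)) h).1)

/-- projection onto `Q` along `P` -/
noncomputable def prQ : G →* G :=
  MonoidHom.mk' D.prQfun (by
    intro x y
    have h : (D.prPfun x * D.prPfun y) * (D.prQfun x * D.prQfun y) = x * y := by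
      have hc := D.comm (D.prPfun y) (D.prQfun x) (D.prPfun_mem y) (D.prQfun_mem x)
      calc (D.prPfun x * D.prPfun y) * (D.prQfun x * D.prQfun y)
          = D.prPfun x * (D.prPfun y * D.prQfun x) * D.prQfun y := by group
        _ = D.prPfun x * (D.prQfun x * D.prPfun y) * D.prQfun y := by rw [hc]
        _ = (D.prPfun x * D.prQfun x) * (D.prPfun y * D.prQfun y) := by group
        _ = x * y := by rw [D.prPfun_mul_prQfun, D.prPfun_mul_prQfun]
    exact (D.pr_eq (D.P.mul_mem (D.prPfun_mem x) (D.prPfun_mem y))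
      (D.Q.mul_mem (D.prQfun_mem x) (D.prQfun_mem y)) h).2)

theorem prP_mem (x : G) : D.prP x ∈ D.P := D.prPfun_mem x
theorem prQ_mem (x : G) : D.prQ x ∈ D.Q := D.prQfun_mem x
theorem prP_mul_prQ (x : G) : D.prP x * D.prQ x = x := D.prPfun_mul_prQfun x

theorem prP_of_mul {p q : G} (hp : p ∈ D.P) (hq : q ∈ D.Q) : D.prP (p * q) = p :=
  (D.pr_eq hp hq rfl).1
theorem prQ_of_mul {p q : G} (hp : p ∈ D.P) (hq : q ∈ D.Q) : D.prQ (p * q) = q :=
  (D.pr_eq hp hq rfl).2

theorem prP_of_mem {p : G} (hp : p ∈ D.P) : D.prP p = p := by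
  have := D.prP_of_mul hp D.Q.one_mem
  rwa [mul_one] at this
theorem prP_of_memQ {q : G} (hq : q ∈ D.Q) : D.prP q = 1 := by
  have := D.prP_of_mul D.P.one_mem hq
  rwa [one_mul] at this
theorem prQ_of_mem {q : G} (hq : q ∈ D.Q) : D.prQ q = q := by
  have := D.prQ_of_mul D.P.one_mem hq
  rwa [one_mul] at this
theorem prQ_of_memP {p : G} (hp : p ∈ D.P) : D.prQ p = 1 := by
  have := D.prQ_of_mul hp D.Q.one_mem
  rwa [mul_one] at this

theorem prP_ker : D.prP.ker = D.Q := by
  ext x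
  rw [MonoidHom.mem_ker]
  constructor
  · intro h
    have := D.prP_mul_prQ x
    rw [h, one_mul] at this
    rw [← this]; exact D.prQ_mem x
  · exact fun h => D.prP_of_memQ h

theorem prQ_ker : D.prQ.ker = D.P := by
  ext x
  rw [MonoidHom.mem_ker]
  constructor
  · intro h
    have := D.prP_mul_prQ x
    rw [h, mul_one] at this
    rw [← this]; exact D.prP_mem x
  · exact fun h => D.prQ_of_memP h

/-- normal endomorphism property -/
theorem prP_conj (g x : G) : D.prP (g * x * g⁻¹) = g * D.prP x * g⁻¹ := by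
  have h : (g * D.prP x * g⁻¹) * (g * D.prQ x * g⁻¹) = g * x * g⁻¹ := by
    conv_rhs => rw [← D.prP_mul_prQ x]
    group
  rw [← h]
  exact D.prP_of_mul (D.hP.conj_mem _ (D.prP_mem x) g) (D.hQ.conj_mem _ (D.prQ_mem x) g)

theorem prQ_conj (g x : G) : D.prQ (g * x * g⁻¹) = g * D.prQ x * g⁻¹ := by
  have h : (g * D.prP x * g⁻¹) * (g * D.prQ x * g⁻¹) = g * x * g⁻¹ := by
    conv_rhs => rw [← D.prP_mul_prQ x]
    group
  rw [← h]
  exact D.prQ_of_mul (D.hP.conj_mem _ (D.prP_mem x) g) (D.hQ.conj_mem _ (D.prQ_mem x) g)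

end Decomp

end Cfsg.Agent.Lib.Helper20.KS
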