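import Cfsg.Agent.Lib.Helper20.KrullSchmidt1
set_option autoImplicit false
set_option linter.style.haveILetI false

namespace Cfsg.Agent.Lib.Helper20.KS

variable {G : Type*} [Group G]

def IsNormalEndo (f : G →* G) : Prop := ∀ g x, f (g * x * g⁻¹) = g * f x * g⁻¹

theorem IsNormalEndo.comp {f h : G →* G} (hf : IsNormalEndo f) (hh : IsNormalEndo h) :
    IsNormalEndo (f.comp h) := by
  intro g x
  rw [MonoidHom.comp_apply, hh, hf, MonoidHom.comp_apply]

theorem IsNormalEndo.map_normal {f : G →* G} (hf : IsNormalEndo f) (M : Subgroup G) (hM : M.Normal) :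
    (M.map f).Normal := by
  constructor
  rintro _ ⟨m, hm, rfl⟩ g
  exact ⟨g * m * g⁻¹, hM.conj_mem m hm g, hf g m⟩

theorem IsNormalEndo.range_normal {f : G →* G} (hf : IsNormalEndo f) : f.range.Normal := by
  constructor
  rintro _ ⟨m, rfl⟩ g
  exact ⟨g * m * g⁻¹, hf g m⟩

theorem isNormalEndo_pow (F : Monoid.End G) (hF : IsNormalEndo (F : G →* G)) (k : ℕ) :
    IsNormalEndo ((F ^ k : Monoid.End G) : G →* G) := by
  induction k with
  | zero => intro g x; rfl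
  | succ k ih =>
    intro g x
    rw [pow_succ]
    change (F ^ k) (F (g * x * g⁻¹)) = g * (F ^ k) (F x) * g⁻¹
    exact (congrArg (F ^ k) (hF g x)).trans (ih g (F x))

theorem exists_idem_pow' [Finite G] (θ : Monoid.End G) :
    ∃ k : ℕ, 1 ≤ k ∧ θ ^ k * θ ^ k = θ ^ k := by
  haveI : Finite (Monoid.End G) :=
    Finite.of_injective (fun f : Monoid.End G => (f : G → G)) DFunLike.coe_injective
  obtain ⟨i, j, hij, h⟩ := Finite.exists_ne_map_eq_of_infinite (fun k : ℕ => θ ^ k)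
  wlog hlt : i < j generalizing i j
  · exact this j i (Ne.symm hij) h.symm (lt_of_le_of_ne (not_lt.mp hlt) (Ne.symm hij))
  obtain ⟨d, rfl⟩ : ∃ d, j = i + d := ⟨j - i, by omega⟩
  have hd : 1 ≤ d := by omega
  have h1 : ∀ m, i ≤ m → θ ^ (m + d) = θ ^ m := by
    intro m hm
    obtain ⟨t, rfl⟩ : ∃ t, m = t + i := ⟨m - i, by omega⟩
    rw [add_assoc, pow_add, ← h, ← pow_add]
  have h2 : ∀ t m, i ≤ m → θ ^ (m + t * d) = θ ^ m := by
    intro t
    induction t with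
    | zero => intro m _; simp
    | succ t ih =>
      intro m hm
      rw [Nat.succ_mul, ← add_assoc, h1 _ (by omega), ih m hm]
  refine ⟨(i + 1) * d, ?_, ?_⟩
  · exact Nat.one_le_iff_ne_zero.mpr (Nat.mul_ne_zero (by omega) (by omega))
  · rw [← pow_add]
    apply h2
    calc i ≤ (i + 1) * 1 := by omega
      _ ≤ (i + 1) * d := Nat.mul_le_mul_left _ hd

def AbstractIndec (T : Type*) [Group T] : Prop :=
  ∀ H K : Subgroup T, H.Normal → K.Normal → H ⊓ K = ⊥ → H ⊔ K = ⊤ → H = ⊥ ∨ K = ⊥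

def Indec (M : Subgroup G) : Prop :=
  ∀ H K : Subgroup G, H.Normal → K.Normal → H ⊓ K = ⊥ → H ⊔ K = M → H = ⊥ ∨ K = ⊥

theorem mem_sup_normal {H K : Subgroup G} (hK : K.Normal) {x : G} (hx : x ∈ H ⊔ K) :
    ∃ h ∈ H, ∃ k ∈ K, h * k = x := by
  haveI := hK
  rw [← SetLike.mem_coe, Subgroup.mul_normal] at hx
  obtain ⟨p, hp, q, hq, h⟩ := Set.mem_mul.mp hx
  exact ⟨p, hp, q, hq, h⟩

theorem indec_range {T : Type*} [Group T] (hT : AbstractIndec T) (ι : T →* G)
    (hι : Function.Injective ι) : Indec ι.range := by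
  intro H K hH hK hinf hsup
  have h1 := hT (H.comap ι) (K.comap ι) (hH.comap ι) (hK.comap ι)
    (by rw [← Subgroup.comap_inf, hinf]; exact (MonoidHom.ker_eq_bot_iff ι).mpr hι)
    (by
      rw [eq_top_iff]
      intro t _
      have ht : ι t ∈ H ⊔ K := by rw [hsup]; exact ⟨t, rfl⟩
      obtain ⟨h, hh, k, hk, hhk⟩ := mem_sup_normal hK ht
      have hh' : h ∈ ι.range := by rw [← hsup]; exact Subgroup.mem_sup_left hh
      have hk' : k ∈ ι.range := by rw [← hsup]; exact Subgroup.mem_sup_right hk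
      obtain ⟨t₁, rfl⟩ := hh'
      obtain ⟨t₂, rfl⟩ := hk'
      have : t = t₁ * t₂ := hι (by rw [map_mul, hhk])
      rw [this]
      exact Subgroup.mul_mem_sup hh hk)
  have key : ∀ L : Subgroup G, L ≤ ι.range → L.comap ι = ⊥ → L = ⊥ := by
    intro L hL hbot
    rw [eq_bot_iff]
    intro x hx
    obtain ⟨t, rfl⟩ := hL hx
    have : t ∈ L.comap ι := hx
    rw [hbot, Subgroup.mem_bot] at this
    rw [this, map_one]; exact Subgroup.mem_bot.mpr rfl
  rcases h1 with h1 | h1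
  · left; exact key H (by rw [← hsup]; exact le_sup_left) h1
  · right; exact key K (by rw [← hsup]; exact le_sup_right) h1

theorem sub_lemma [Finite G] (D₁ : Decomp G) (τ : G →* G)
    (hinj : ∀ m ∈ D₁.P, D₁.prP (τ m) = 1 → m = 1) :
    (∀ m ∈ D₁.P, τ m = 1 → m = 1) ∧ (D₁.P.map τ) ⊓ D₁.Q = ⊥ ∧
    (∀ x : G, ∃ m ∈ D₁.P, (τ m)⁻¹ * x ∈ D₁.Q) := by
  refine ⟨?_, ?_, ?_⟩
  · intro m hm h
    exact hinj m hm (by rw [h, map_one])
  · rw [eq_bot_iff]
    rintro x ⟨⟨m, hm, rfl⟩, hx⟩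
    have : m = 1 := hinj m hm (D₁.prP_of_memQ hx)
    rw [this, map_one]; exact Subgroup.mem_bot.mpr rfl
  · let φ : D₁.P → D₁.P := fun m => ⟨D₁.prP (τ m), D₁.prP_mem _⟩
    have hφ : Function.Injective φ := by
      intro a b hab
      have h1 : D₁.prP (τ a) = D₁.prP (τ b) := congrArg Subtype.val hab
      have h2 : D₁.prP (τ ((a : G) * (b : G)⁻¹)) = 1 := by
        rw [map_mul, map_mul, map_inv, map_inv, h1, mul_inv_cancel]
      have h3 := hinj _ (D₁.P.mul_mem a.2 (D₁.P.inv_mem b.2)) h2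
      exact Subtype.ext (mul_inv_eq_one.mp h3)
    have hsurj : Function.Surjective φ := Finite.injective_iff_surjective.mp hφ
    intro x
    obtain ⟨m, hm⟩ := hsurj ⟨D₁.prP x, D₁.prP_mem x⟩
    refine ⟨m, m.2, ?_⟩
    have h1 : D₁.prP (τ m) = D₁.prP x := congrArg Subtype.val hm
    rw [← D₁.prP_ker, MonoidHom.mem_ker, map_mul, map_inv, h1, inv_mul_cancel]


theorem core [Finite G] (D₁ D₂ : Decomp G) (hM : Indec D₁.P) (hM1 : D₁.P ≠ ⊥) (hK : Indec D₂.P) :
    (Nonempty (D₁.P ≃* D₂.P) ∧ D₂.P ⊓ D₁.Q = ⊥ ∧ D₂.P ⊔ D₁.Q = ⊤) ∨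
    ((∀ m ∈ D₁.P, D₂.prQ m = 1 → m = 1) ∧ (D₁.P.map D₂.prQ) ⊓ D₁.Q = ⊥ ∧
      (D₁.P.map D₂.prQ) ⊔ D₁.Q = ⊤) := by
  have hP1 := D₁.hP
  have hQ1 := D₁.hQ
  have hP2 := D₂.hP
  let F : Monoid.End G := D₁.prP.comp D₂.prP
  have hF1 : ∀ a, F a = D₁.prP (D₂.prP a) := fun a => rfl
  have hFn : IsNormalEndo (F : G →* G) :=
    IsNormalEndo.comp (fun g x => D₁.prP_conj g x) (fun g x => D₂.prP_conj g x)
  obtain ⟨k, hk1, hk⟩ := exists_idem_pow' F
  obtain ⟨k', rfl⟩ : ∃ k', k = k' + 1 := ⟨k - 1, by omega⟩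
  let ε : G →* G := (F ^ (k' + 1) : Monoid.End G)
  have hε : ∀ a, ε (ε a) = ε a := fun a => congrArg (fun f : Monoid.End G => f a) hk
  have hεn : IsNormalEndo ε := isNormalEndo_pow F hFn (k' + 1)
  have hε_left : ∀ a, ε a = F ((F ^ k' : Monoid.End G) a) := by
    intro a
    change (F ^ (k' + 1) : Monoid.End G) a = _
    rw [pow_succ']
    rfl
  have hε_right : ∀ a, ε a = (F ^ k' : Monoid.End G) (F a) := by
    intro a
    change (F ^ (k' + 1) : Monoid.End G) a = _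
    rw [pow_succ]
    rfl
  have hεM : ∀ a, ε a ∈ D₁.P := fun a => by rw [hε_left, hF1]; exact D₁.prP_mem _
  have hHn : ε.range.Normal := hεn.range_normal
  have hKcn : (ε.ker ⊓ D₁.P).Normal := by
    haveI := hP1
    infer_instance
  have hinf : ε.range ⊓ (ε.ker ⊓ D₁.P) = ⊥ := by
    rw [eq_bot_iff]
    rintro x ⟨⟨a, rfl⟩, hx, -⟩
    have hx' : ε (ε a) = 1 := hx
    rw [hε] at hx'
    exact Subgroup.mem_bot.mpr hx'
  have hsup : ε.range ⊔ (ε.ker ⊓ D₁.P) = D₁.P := by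
    apply le_antisymm
    · apply sup_le
      · rintro _ ⟨a, rfl⟩; exact hεM a
      · exact inf_le_right
    · intro m hm
      have : m = ε m * ((ε m)⁻¹ * m) := by group
      rw [this]
      refine Subgroup.mul_mem_sup ⟨m, rfl⟩ ⟨?_, D₁.P.mul_mem (D₁.P.inv_mem (hεM m)) hm⟩
      change ε ((ε m)⁻¹ * m) = 1
      rw [map_mul, map_inv, hε, inv_mul_cancel]
  have hsum : ∀ m, D₁.prP (D₂.prP m) * D₁.prP (D₂.prQ m) = D₁.prP m := by
    intro m
    rw [← map_mul, D₂.prP_mul_prQ]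
  have hs3top : ∀ (τ : G →* G) (T : Subgroup G), (∀ m, τ m ∈ T) →
      (∀ x : G, ∃ m ∈ D₁.P, (τ m)⁻¹ * x ∈ D₁.Q) → T ⊔ D₁.Q = ⊤ := by
    intro τ T hT h3
    rw [eq_top_iff]
    intro x _
    obtain ⟨m, -, hm⟩ := h3 x
    have : x = τ m * ((τ m)⁻¹ * x) := by group
    rw [this]
    exact Subgroup.mul_mem_sup (hT m) hm
  rcases hM _ _ hHn hKcn hinf hsup with hH | hKc
  · -- nilpotent case
    right
    have hε1 : ∀ a, ε a = 1 := by
      intro a
      have : ε a ∈ ε.range := ⟨a, rfl⟩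
      rw [hH, Subgroup.mem_bot] at this
      exact this
    have hinj : ∀ m ∈ D₁.P, D₁.prP (D₂.prQ m) = 1 → m = 1 := by
      intro m hm h
      have h1 := hsum m
      rw [h, mul_one, D₁.prP_of_mem hm] at h1
      have h2 : ∀ j : ℕ, (F ^ j : Monoid.End G) m = m := by
        intro j
        induction j with
        | zero => rfl
        | succ j ih =>
          rw [pow_succ]
          change (F ^ j : Monoid.End G) (F m) = m
          rw [hF1, h1, ih]
      have h3 := hε1 m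
      change (F ^ (k' + 1) : Monoid.End G) m = 1 at h3
      rw [h2] at h3
      exact h3
    obtain ⟨s1, s2, s3⟩ := sub_lemma D₁ D₂.prQ hinj
    refine ⟨s1, s2, ?_⟩
    rw [eq_top_iff]
    intro x _
    obtain ⟨m, hm, hmx⟩ := s3 x
    have : x = D₂.prQ m * ((D₂.prQ m)⁻¹ * x) := by group
    rw [this]
    exact Subgroup.mul_mem_sup ⟨m, hm, rfl⟩ hmx
  · -- injective case
    left
    have hinj : ∀ m ∈ D₁.P, D₁.prP (D₂.prP m) = 1 → m = 1 := by
      intro m hm h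
      have h1 : ε m = 1 := by
        rw [hε_right, hF1, h, map_one]
      have : m ∈ ε.ker ⊓ D₁.P := ⟨h1, hm⟩
      rw [hKc, Subgroup.mem_bot] at this
      exact this
    obtain ⟨s1, s2, s3⟩ := sub_lemma D₁ D₂.prP hinj
    have hNK : D₁.P.map D₂.prP ≤ D₂.P := by
      rintro _ ⟨m, -, rfl⟩; exact D₂.prP_mem m
    have hNn : (D₁.P.map D₂.prP).Normal :=
      IsNormalEndo.map_normal (fun g x => D₂.prP_conj g x) _ hP1
    have hKMn : (D₂.P ⊓ D₁.Q).Normal := by
      haveI := hP2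
      haveI := hQ1
      infer_instance
    have hinf2 : D₁.P.map D₂.prP ⊓ (D₂.P ⊓ D₁.Q) = ⊥ := by
      rw [eq_bot_iff, ← s2]
      exact inf_le_inf_left _ inf_le_right
    have hsup2 : D₁.P.map D₂.prP ⊔ (D₂.P ⊓ D₁.Q) = D₂.P := by
      apply le_antisymm
      · exact sup_le hNK inf_le_left
      · intro x hx
        obtain ⟨m, hm, hmx⟩ := s3 x
        have : x = D₂.prP m * ((D₂.prP m)⁻¹ * x) := by group
        rw [this]
        exact Subgroup.mul_mem_sup ⟨m, hm, rfl⟩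
          ⟨D₂.P.mul_mem (D₂.P.inv_mem (D₂.prP_mem m)) hx, hmx⟩
    have hKM : D₂.P ⊓ D₁.Q = ⊥ := by
      rcases hK _ _ hNn hKMn hinf2 hsup2 with hN | h
      · exfalso
        obtain ⟨m, hm1⟩ := (Subgroup.ne_bot_iff_exists_ne_one).mp hM1
        have : D₂.prP m ∈ D₁.P.map D₂.prP := ⟨m, m.2, rfl⟩
        rw [hN, Subgroup.mem_bot] at this
        exact hm1 (Subtype.ext (s1 m m.2 this))
      · exact h
    have hNeq : D₁.P.map D₂.prP = D₂.P := by
      rw [hKM, sup_bot_eq] at hsup2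
      exact hsup2
    refine ⟨?_, hKM, hs3top D₂.prP D₂.P (fun m => D₂.prP_mem m) s3⟩
    have hinj' : Function.Injective (D₂.prP.comp D₁.P.subtype) := by
      rw [injective_iff_map_eq_one]
      intro m hm
      exact Subtype.ext (s1 m m.2 hm)
    have hrange : (D₂.prP.comp D₁.P.subtype).range = D₂.P := by
      rw [MonoidHom.range_comp, Subgroup.range_subtype, hNeq]
    exact ⟨(MonoidHom.ofInjective hinj').trans (MulEquiv.subgroupCongr hrange)⟩

end Cfsg.Agent.Lib.Helper20.KS
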