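import Cfsg.Agent.Lib.Helper20.KrullSchmidt2
set_option autoImplicit false
set_option linter.style.haveILetI false

namespace Cfsg.Agent.Lib.Helper20.KS

section Pi
variable {ι : Type*} [DecidableEq ι] {B : ι → Type*} [∀ j, Group (B j)]

def piK (B : ι → Type*) [∀ j, Group (B j)] (j : ι) : Subgroup (∀ j, B j) := (MonoidHom.mulSingle B j).range
def piKhat (B : ι → Type*) [∀ j, Group (B j)] (j : ι) : Subgroup (∀ j, B j) := (Pi.evalMonoidHom B j).ker

theorem mem_piKhat (j : ι) (x : ∀ j, B j) : x ∈ piKhat B j ↔ x j = 1 := Iff.rfl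

theorem piK_normal (j : ι) : (piK B j).Normal := by
  constructor
  rintro _ ⟨b, rfl⟩ g
  refine ⟨g j * b * (g j)⁻¹, ?_⟩
  funext l
  by_cases hl : l = j
  · subst hl; simp
  · simp [Pi.mulSingle_eq_of_ne hl]

theorem piK_inf (j : ι) : piK B j ⊓ piKhat B j = ⊥ := by
  rw [eq_bot_iff]
  rintro _ ⟨⟨b, rfl⟩, hx⟩
  have hx' : (MonoidHom.mulSingle B j b) j = 1 := hx
  simp at hx'
  rw [hx', map_one]
  exact Subgroup.mem_bot.mpr rfl

theorem piK_decomp_eq (j : ι) (x : ∀ j, B j) :
    MonoidHom.mulSingle B j (x j) * Function.update x j 1 = x := by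
  funext l
  by_cases hl : l = j
  · subst hl; simp
  · simp [Pi.mulSingle_eq_of_ne hl, Function.update_of_ne hl]

theorem update_mem_piKhat (j : ι) (x : ∀ j, B j) : Function.update x j 1 ∈ piKhat B j := by
  rw [mem_piKhat]; simp

theorem piK_sup (j : ι) : piK B j ⊔ piKhat B j = ⊤ := by
  rw [eq_top_iff]
  intro x _
  rw [← piK_decomp_eq j x]
  exact Subgroup.mul_mem_sup ⟨x j, rfl⟩ (update_mem_piKhat j x)

/-- the decomposition of a product group at coordinate `j` -/
def piDecomp (B : ι → Type*) [∀ j, Group (B j)] (j : ι) : Decomp (∀ j, B j) where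
  P := piK B j
  Q := piKhat B j
  hP := piK_normal j
  hQ := MonoidHom.normal_ker _
  inf := piK_inf j
  sup := piK_sup j

theorem piDecomp_prQ (j : ι) (x : ∀ j, B j) : (piDecomp B j).prQ x = Function.update x j 1 := by
  have := (piDecomp B j).prQ_of_mul (p := MonoidHom.mulSingle B j (x j)) (q := Function.update x j 1)
    ⟨x j, rfl⟩ (update_mem_piKhat j x)
  rwa [piK_decomp_eq] at this

end Pi

theorem exchange {n : ℕ} {B : Fin n → Type*} [∀ j, Group (B j)] [∀ j, Finite (B j)]
    (hB : ∀ j, AbstractIndec (B j))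
    {T : Type*} [Group T] (hT : AbstractIndec T) (hT1 : Nontrivial T)
    (M' : Subgroup (∀ j, B j)) (hM' : M'.Normal) :
    ∀ (d t : ℕ), t + d = n → ∀ (ι : T →* (∀ j, B j)), Function.Injective ι → ι.range.Normal →
      ι.range ⊓ M' = ⊥ → ι.range ⊔ M' = ⊤ → (∀ (x : T) (l : Fin n), l.val < t → ι x l = 1) →
      ∃ j : Fin n, Nonempty (T ≃* B j) ∧ piK B j ⊓ M' = ⊥ ∧ piK B j ⊔ M' = ⊤ := by
  intro d
  induction d with
  | zero =>
    intro t ht ι hι _ _ _ hcoord
    exfalso
    obtain ⟨x, hx⟩ := exists_ne (1 : T)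
    apply hx
    apply hι
    rw [map_one]
    funext l
    exact hcoord x l (by have := l.2; omega)
  | succ d ih =>
    intro t ht ι hι hιn hinf hsup hcoord
    have htn : t < n := by omega
    let j : Fin n := ⟨t, htn⟩
    let D₁ : Decomp (∀ j, B j) := ⟨ι.range, M', hιn, hM', hinf, hsup⟩
    let D₂ : Decomp (∀ j, B j) := piDecomp B j
    have hM : Indec D₁.P := indec_range hT ι hι
    have hM1 : D₁.P ≠ ⊥ := by
      obtain ⟨x, hx⟩ := exists_ne (1 : T)
      intro hbot
      have : ι x ∈ ι.range := ⟨x, rfl⟩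
      change ι x ∈ D₁.P at this
      rw [hbot, Subgroup.mem_bot] at this
      exact hx (hι (by rw [this, map_one]))
    have hK : Indec D₂.P := indec_range (hB j) (MonoidHom.mulSingle B j) (Pi.mulSingle_injective j)
    rcases core D₁ D₂ hM hM1 hK with ⟨⟨φ⟩, h2, h3⟩ | ⟨h1, h2, h3⟩
    · refine ⟨j, ⟨?_⟩, h2, h3⟩
      exact ((MonoidHom.ofInjective hι).trans φ).trans
        (MonoidHom.ofInjective (f := MonoidHom.mulSingle B j) (Pi.mulSingle_injective j)).symm
    · have hι' : Function.Injective (D₂.prQ.comp ι) := by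
        rw [injective_iff_map_eq_one]
        intro x hx
        have := h1 (ι x) ⟨x, rfl⟩ hx
        exact hι (by rw [this, map_one])
      have hrange : (D₂.prQ.comp ι).range = D₁.P.map D₂.prQ := MonoidHom.range_comp _ _
      have hn' : (D₂.prQ.comp ι).range.Normal := by
        rw [hrange]
        exact IsNormalEndo.map_normal (fun g x => D₂.prQ_conj g x) _ hιn
      refine ih (t + 1) (by omega) (D₂.prQ.comp ι) hι' hn' (by rw [hrange]; exact h2)
        (by rw [hrange]; exact h3) ?_
      intro x l hl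
      rw [MonoidHom.comp_apply]
      change (piDecomp B j).prQ (ι x) l = 1
      rw [piDecomp_prQ]
      by_cases hlj : l = j
      · subst hlj; simp
      · rw [Function.update_of_ne hlj]
        apply hcoord
        have : l.val ≠ t := fun h => hlj (Fin.ext h)
        omega

end Cfsg.Agent.Lib.Helper20.KS
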