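import Cfsg.Agent.Lib.Helper20.KrullSchmidt3
set_option autoImplicit false
set_option linter.style.haveILetI false

namespace Cfsg.Agent.Lib.Helper20.KS

universe u v

theorem krull_schmidt : ∀ (m : ℕ) {n : ℕ} {A : Fin m → Type u} {B : Fin n → Type v}
    [∀ i, Group (A i)] [∀ j, Group (B j)] [∀ i, Finite (A i)] [∀ j, Finite (B j)]
    (_ : ∀ i, Nontrivial (A i) ∧ AbstractIndec (A i)) (_ : ∀ j, Nontrivial (B j) ∧ AbstractIndec (B j))
    (_ : (∀ i, A i) ≃* (∀ j, B j)), ∃ σ : Fin m ≃ Fin n, ∀ i, Nonempty (A i ≃* B (σ i)) := by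
  intro m
  induction m with
  | zero =>
    intro n A B _ _ _ _ hA hB e
    rcases Nat.eq_zero_or_pos n with rfl | hn
    · exact ⟨Equiv.refl _, fun i => i.elim0⟩
    · exfalso
      obtain ⟨n', rfl⟩ : ∃ n', n = n' + 1 := ⟨n - 1, by omega⟩
      haveI := (hB 0).1
      obtain ⟨b, hb⟩ := exists_ne (1 : B 0)
      have h1 : e.symm (MonoidHom.mulSingle B 0 b) = e.symm 1 := Subsingleton.elim _ _
      have h2 := e.symm.injective h1
      have h3 := congrFun h2 0
      simp at h3
      exact hb h3
  | succ m ih =>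
    intro n A B _ _ _ _ hA hB e
    let ι : A 0 →* (∀ j, B j) := e.toMonoidHom.comp (MonoidHom.mulSingle A 0)
    have hι : Function.Injective ι := e.injective.comp (Pi.mulSingle_injective 0)
    let M' : Subgroup (∀ j, B j) := (piKhat A 0).map e.toMonoidHom
    have hrange : ι.range = (piK A 0).map e.toMonoidHom := MonoidHom.range_comp _ _
    have hM' : M'.Normal := (MonoidHom.normal_ker _).map _ e.surjective
    have hιn : ι.range.Normal := by
      rw [hrange]; exact (piK_normal 0).map _ e.surjective
    have hinf : ι.range ⊓ M' = ⊥ := by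
      rw [hrange, ← Subgroup.map_inf_eq _ _ _ e.injective, piK_inf, Subgroup.map_bot]
    have hsup : ι.range ⊔ M' = ⊤ := by
      rw [hrange, ← Subgroup.map_sup, piK_sup, Subgroup.map_top_of_surjective _ e.surjective]
    haveI := (hA 0).1
    obtain ⟨j₀, ⟨φ₀⟩, hK1, hK2⟩ := exchange (fun j => (hB j).2) (hA 0).2 (hA 0).1 M' hM' n 0 (by omega)
      ι hι hιn hinf hsup (fun x l hl => absurd hl (Nat.not_lt_zero _))
    obtain ⟨n', rfl⟩ : ∃ n', n = n' + 1 := ⟨n - 1, by have := j₀.2; omega⟩
    -- the remaining isomorphism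
    let incl : (∀ i : Fin m, A i.succ) →* (∀ i : Fin (m + 1), A i) :=
      { toFun := fun a => Fin.cons 1 a
        map_one' := by
          funext i
          refine Fin.cases ?_ ?_ i
          · rfl
          · intro i; rfl
        map_mul' := by
          intro a b
          funext i
          refine Fin.cases ?_ ?_ i
          · simp
          · intro i; simp }
    let ρ : (∀ j, B j) →* (∀ l : Fin n', B (j₀.succAbove l)) :=
      { toFun := fun x l => x (j₀.succAbove l)
        map_one' := rfl
        map_mul' := fun _ _ => rfl }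
    let Ψ : (∀ i : Fin m, A i.succ) →* (∀ l : Fin n', B (j₀.succAbove l)) :=
      ρ.comp (e.toMonoidHom.comp incl)
    have hρK : ∀ y : (∀ j, B j), ρ y = 1 → y ∈ piK B j₀ := by
      intro y hy
      refine ⟨y j₀, ?_⟩
      funext l
      refine Fin.succAboveCases j₀ ?_ ?_ l
      · simp
      · intro l'
        have h1 : y (j₀.succAbove l') = 1 := congrFun hy l'
        rw [h1]
        simp
    have hKρ : ∀ y : (∀ j, B j), y ∈ piK B j₀ → ρ y = 1 := by
      rintro _ ⟨b, rfl⟩
      funext l
      change (MonoidHom.mulSingle B j₀ b) (j₀.succAbove l) = 1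
      simp
    have hinclM : ∀ a, e (incl a) ∈ M' := by
      intro a
      refine ⟨incl a, ?_, rfl⟩
      change (incl a) 0 = 1
      rfl
    have hΨinj : Function.Injective Ψ := by
      rw [injective_iff_map_eq_one]
      intro a ha
      have h1 : e (incl a) ∈ piK B j₀ ⊓ M' := ⟨hρK _ ha, hinclM a⟩
      rw [hK1, Subgroup.mem_bot] at h1
      have h2 : incl a = 1 := e.injective (by rw [h1, map_one])
      funext i
      exact congrFun h2 i.succ
    have hΨsurj : Function.Surjective Ψ := by
      intro z
      have hy : Fin.insertNth j₀ (1 : B j₀) z ∈ piK B j₀ ⊔ M' := by rw [hK2]; exact Subgroup.mem_top _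
      obtain ⟨k, hk, m', hm', hkm⟩ := mem_sup_normal hM' hy
      obtain ⟨a', ha'', rfl⟩ := hm'
      have ha' : a' 0 = 1 := ha''
      refine ⟨Fin.tail a', ?_⟩
      have h1 : incl (Fin.tail a') = a' := by
        funext i
        refine Fin.cases ?_ ?_ i
        · exact ha'.symm
        · intro i; rfl
      change ρ (e (incl (Fin.tail a'))) = z
      rw [h1]
      have h2 : ρ (k * e a') = z := by
        change ρ (k * e.toMonoidHom a') = z
        rw [hkm]
        funext l
        change Fin.insertNth j₀ (1 : B j₀) z (j₀.succAbove l) = z l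
        simp
      rw [map_mul, hKρ k hk, one_mul] at h2
      exact h2
    let e' : (∀ i : Fin m, A i.succ) ≃* (∀ l : Fin n', B (j₀.succAbove l)) :=
      MulEquiv.ofBijective Ψ ⟨hΨinj, hΨsurj⟩
    obtain ⟨σ', hσ'⟩ := ih (A := fun i => A i.succ) (B := fun l => B (j₀.succAbove l))
      (fun i => hA i.succ) (fun l => hB (j₀.succAbove l)) e'
    refine ⟨(finSuccEquiv' 0).trans ((Equiv.optionCongr σ').trans (finSuccEquiv' j₀).symm), ?_⟩
    intro i
    refine Fin.cases ?_ ?_ i
    · have : ((finSuccEquiv' 0).trans ((Equiv.optionCongr σ').trans (finSuccEquiv' j₀).symm)) 0 = j₀ := by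
        simp
      rw [this]
      exact ⟨φ₀⟩
    · intro i
      have : ((finSuccEquiv' 0).trans ((Equiv.optionCongr σ').trans (finSuccEquiv' j₀).symm)) i.succ
          = j₀.succAbove (σ' i) := by
        have h0 : i.succ = (0 : Fin (m + 1)).succAbove i := by rw [Fin.succAbove_zero]
        have h1 : (finSuccEquiv' (0 : Fin (m + 1))) i.succ = some i := by
          rw [h0]; exact finSuccEquiv'_succAbove 0 i
        simp only [Equiv.trans_apply, h1, Equiv.optionCongr_apply, Option.map_some,
          finSuccEquiv'_symm_some]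
      rw [this]
      exact hσ' i

end Cfsg.Agent.Lib.Helper20.KS
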