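import Mathlib
import Cfsg.Agent.Lib.Helper18.PRL.Defs
import Cfsg.Agent.Lib.Helper21.MaxClassTwo

/-!
# Project MCX, piece QUOT (core): some `p`-th power lies outside `Z_{n-p-1}`,
given the exponent statement EXP for order `p ^ (p + 1)` as a hypothesis.
-/

set_option autoImplicit false

namespace Cfsg.Agent.Lib.Helper27.MCX

open Cfsg.Agent.Lib.Helper18.PRL
open scoped commutatorElement

universe u

theorem mcxquot_core {p : ℕ} [hpf : Fact p.Prime]
    (hE : ∀ (K : Type u) [Group K] [Finite K], MC p K (p + 1) → ∃ g : K, g ^ p ≠ 1) :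
    ∀ (n : ℕ) (G : Type u) [Group G] [Finite G], MC p G n → p + 1 ≤ n →
      ∃ g : G, g ^ p ∉ Z G (n - p - 1) := by
  intro n
  induction n with
  | zero =>
    intro G _ _ h hn
    omega
  | succ k ih =>
    intro G _ _ h hn
    rcases Nat.eq_or_lt_of_le hn with heq | hlt
    · obtain ⟨g, hg⟩ := hE G (heq ▸ h)
      refine ⟨g, ?_⟩
      have e : k + 1 - p - 1 = 0 := by omega
      rw [e]
      show g ^ p ∉ Subgroup.upperCentralSeries G 0
      rw [Subgroup.upperCentralSeries_zero, Subgroup.mem_bot]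
      exact hg
    · have hp2 : 2 ≤ p := hpf.out.two_le
      have hn3 : 3 ≤ k + 1 := by omega
      obtain ⟨_, hq, hcq⟩ := Cfsg.Agent.Lib.Helper21.mc_center_card p (k + 1) hn3 G h.1 h.2
      have hQ : MC p (G ⧸ Subgroup.center G) k := by
        refine ⟨?_, ?_⟩
        · simpa using hq
        · rw [hcq]
          omega
      obtain ⟨q, hq'⟩ := ih (G ⧸ Subgroup.center G) hQ (by omega)
      obtain ⟨g, rfl⟩ := QuotientGroup.mk_surjective q
      refine ⟨g, fun hg => hq' ?_⟩
      have hZc : (Z (G ⧸ Subgroup.center G) (k - p - 1)).comap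
          (QuotientGroup.mk' (Subgroup.center G)) = Z G (k - p - 1 + 1) :=
        Subgroup.comap_upperCentralSeries_quotient_center (k - p - 1)
      have e : k + 1 - p - 1 = k - p - 1 + 1 := by omega
      rw [e, ← hZc, Subgroup.mem_comap, map_pow] at hg
      exact hg

end Cfsg.Agent.Lib.Helper27.MCX
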