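import Mathlib
import Cfsg.Agent.Lib.Helper18.PRL.Defs
import Cfsg.Agent.Lib.Helper20.MCXQUOTcore
import Cfsg.Agent.Lib.Helper27.MCXEXP

/-!
# Project MCX, piece QUOT (wrapper of `mcxquot_core` with the landed EXP)
-/

set_option autoImplicit false

namespace Cfsg.Agent.Lib.Helper27.MCX

open Cfsg.Agent.Lib.Helper18.PRL
open scoped commutatorElement

universe u

section mc
variable {p : ℕ} [Fact p.Prime] {G : Type u} [Group G] [Finite G] {n : ℕ}

/-- MCX-QUOT -/
theorem exists_pow_notMem (hp : p ≠ 2) (h : MC p G n) (hn : p + 1 ≤ n) :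
    ∃ g : G, g ^ p ∉ Z G (n - p - 1) :=
  mcxquot_core (fun _ _ _ hK => exists_pow_ne_one hp hK) n G h hn

end mc

end Cfsg.Agent.Lib.Helper27.MCX
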