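import Mathlib
import Cfsg.Agent.Lib.Helper18.PRL.Defs
import Cfsg.Agent.Lib.helper23.PRLCH2

/-!
# Project MCX, piece TOP (core): `|G : agemo_1(G)| ≤ p ^ p` for `G` of maximal class of
order `p ^ n`, `n ≥ p + 1`, given the conclusion of QUOT as a hypothesis.
-/

set_option autoImplicit false

namespace Cfsg.Agent.Lib.Helper27.MCX

open Cfsg.Agent.Lib.Helper18.PRL
open scoped commutatorElement

universe u

section mc
variable {p : ℕ} [Fact p.Prime] {G : Type u} [Group G] [Finite G] {n : ℕ}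

/-- the subgroup generated by the `p`-th powers is normal -/
theorem mcxtop_normal (p : ℕ) (G : Type u) [Group G] :
    (Subgroup.closure {y : G | ∃ g ∈ (⊤ : Subgroup G), y = g ^ p}).Normal := by
  constructor
  intro a ha x
  have h1 : (Subgroup.closure {y : G | ∃ g ∈ (⊤ : Subgroup G), y = g ^ p}).map
      (MulAut.conj x).toMonoidHom ≤ Subgroup.closure {y : G | ∃ g ∈ (⊤ : Subgroup G), y = g ^ p} := by
    rw [MonoidHom.map_closure, Subgroup.closure_le]
    rintro _ ⟨y, ⟨g, -, rfl⟩, rfl⟩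
    apply Subgroup.subset_closure
    refine ⟨x * g * x⁻¹, Subgroup.mem_top _, ?_⟩
    simp [conj_pow]
  have h2 : (MulAut.conj x).toMonoidHom a ∈ (Subgroup.closure
      {y : G | ∃ g ∈ (⊤ : Subgroup G), y = g ^ p}).map (MulAut.conj x).toMonoidHom :=
    Subgroup.mem_map_of_mem _ ha
  have h3 := h1 h2
  simpa using h3

theorem mcxtop_core (h : MC p G n) (hn : p + 1 ≤ n)
    (hq : ∃ g : G, g ^ p ∉ Z G (n - p - 1)) :
    (Subgroup.closure {y : G | ∃ g ∈ (⊤ : Subgroup G), y = g ^ p}).relIndex ⊤ ≤ p ^ p := by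
  have hpp : p.Prime := Fact.out
  have hp2 : 2 ≤ p := hpp.two_le
  have hn3 : 3 ≤ n := by omega
  set A : Subgroup G := Subgroup.closure {y : G | ∃ g ∈ (⊤ : Subgroup G), y = g ^ p} with hA
  haveI : A.Normal := mcxtop_normal p G
  have hpg : IsPGroup p G := IsPGroup.of_card h.1
  obtain ⟨i, hi⟩ := (hpg.to_subgroup A).exists_card_eq
  have hin : i ≤ n := by
    have h1 : Nat.card A ∣ Nat.card G := Subgroup.card_subgroup_dvd_card A
    rw [hi, h.1] at h1
    exact (Nat.pow_dvd_pow_iff_le_right hpp.one_lt).mp h1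
  have hi2 : n - p ≤ i := by
    by_contra hlt
    push Not at hlt
    have hi' : i ≤ n - p - 1 := by omega
    have hAZ : A = Z G i := normal_eq_Z h hn3 A i (by omega) hi
    obtain ⟨g, hg⟩ := hq
    apply hg
    have h1 : g ^ p ∈ A := Subgroup.subset_closure ⟨g, Subgroup.mem_top _, rfl⟩
    rw [hAZ] at h1
    exact Subgroup.upperCentralSeries_mono G hi' h1
  rw [Subgroup.relIndex_top_right]
  have h2 : Nat.card A * A.index = Nat.card G := Subgroup.card_mul_index A
  rw [hi, h.1] at h2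
  have h3 : A.index = p ^ (n - i) := by
    have h4 : p ^ i * A.index = p ^ i * p ^ (n - i) := by
      rw [h2, ← pow_add]
      congr 1
      omega
    exact Nat.eq_of_mul_eq_mul_left (pow_pos hpp.pos i) h4
  rw [h3]
  exact Nat.pow_le_pow_right hpp.pos (by omega)

end mc

end Cfsg.Agent.Lib.Helper27.MCX
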