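import Mathlib
import Cfsg.Agent.Lib.Helper18.PRL.Defs
import Cfsg.Agent.Lib.Helper20.MCXTOPcore
import Cfsg.Agent.Lib.Helper20.MCXQUOT

/-!
# Project MCX, piece TOP (wrapper of `mcxtop_core` with QUOT)
-/

set_option autoImplicit false

namespace Cfsg.Agent.Lib.Helper27.MCX

open Cfsg.Agent.Lib.Helper18.PRL
open scoped commutatorElement

universe u

section mc
variable {p : ℕ} [Fact p.Prime] {G : Type u} [Group G] [Finite G] {n : ℕ}

/-- MCX-TOP -/
theorem top_case (hp : p ≠ 2) (h : MC p G n) (hn : p + 1 ≤ n) :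
    (Subgroup.closure {y : G | ∃ g ∈ (⊤ : Subgroup G), y = g ^ p}).relIndex ⊤ ≤ p ^ p :=
  mcxtop_core h hn (exists_pow_notMem hp h hn)

end mc

end Cfsg.Agent.Lib.Helper27.MCX
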