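import Mathlib
import Cfsg.Agent.Lib.helper2.MI2.Defs

/-!
# Project MI2 (S2142), row D2 (helper20): `(g X)^⊥ = g (X^⊥)`.
-/

set_option autoImplicit false
set_option linter.unusedVariables false
set_option linter.unusedSectionVars false

namespace Cfsg.Agent.Lib.helper2.MI2

open Matrix

variable {m : ℕ}

theorem perp_image (g : G m) (X : Set (V m)) : perp (act g '' X) = act g '' perp X := by
  ext y
  constructor
  · intro hy
    refine ⟨act g⁻¹ y, ?_, act_act_inv g y⟩
    intro x hx
    have h := hy (act g x) ⟨x, hx, rfl⟩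
    rw [← ff_act g, act_act_inv]
    exact h
  · rintro ⟨z, hz, rfl⟩
    rintro _ ⟨x, hx, rfl⟩
    rw [ff_act]
    exact hz x hx

end Cfsg.Agent.Lib.helper2.MI2
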