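import Mathlib
import Cfsg.Agent.Lib.helper2.MI2.Defs

/-!
# Project MI2 (S2142), row F1 (helper20): the rank of an idempotent rational matrix is its trace.
-/

set_option autoImplicit false
set_option linter.unusedVariables false
set_option linter.unusedSectionVars false

namespace Cfsg.Agent.Lib.helper2.MI2

open Matrix

variable {m : ℕ}

theorem rank_eq_trace_of_idem {Δ : Type*} [Fintype Δ] [DecidableEq Δ] (P : Matrix Δ Δ ℚ)
    (h : P * P = P) : (P.rank : ℚ) = P.trace := by
  have hidem : IsIdempotentElem (Matrix.toLin' P) := by
    unfold IsIdempotentElem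
    rw [Module.End.mul_eq_comp, ← Matrix.toLin'_mul, h]
  have hproj := LinearMap.IsIdempotentElem.isProj_range _ hidem
  have htr := LinearMap.IsProj.trace hproj
  rw [Matrix.trace_toLin'_eq] at htr
  rw [htr]
  rfl

end Cfsg.Agent.Lib.helper2.MI2
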