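import Mathlib
import Cfsg.Agent.Lib.helper2.MI2.Defs

/-!
# Project MI2 (S2142), row F3 (helper20): the spectral projection in the Bose-Mesner algebra of a strongly regular graph.
-/

set_option autoImplicit false
set_option linter.unusedVariables false
set_option linter.unusedSectionVars false

namespace Cfsg.Agent.Lib.helper2.MI2

open Matrix

variable {m : ℕ}

/-- `J * J = N • J` -/
theorem mi2f3_allOne_mul (Δ : Type*) [Fintype Δ] :
    allOne Δ * allOne Δ = (Fintype.card Δ : ℚ) • allOne Δ := by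
  ext i j
  simp [allOne, Matrix.mul_apply]

/-- the trace of `J` -/
theorem mi2f3_allOne_trace (Δ : Type*) [Fintype Δ] : (allOne Δ).trace = (Fintype.card Δ : ℚ) := by
  simp [allOne, Matrix.trace]

/-- the element `a + b A + c J` of the Bose-Mesner algebra -/
def mi2f3_L {Δ : Type*} [Fintype Δ] [DecidableEq Δ] (A : Matrix Δ Δ ℚ) (a b c : ℚ) : Matrix Δ Δ ℚ :=
  a • (1 : Matrix Δ Δ ℚ) + b • A + c • allOne Δ

/-- the product in the Bose-Mesner algebra -/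
theorem mi2f3_L_mul {Δ : Type*} [Fintype Δ] [DecidableEq Δ] (A : Matrix Δ Δ ℚ) (k α β γ : ℚ)
    (hAJ : A * allOne Δ = k • allOne Δ) (hJA : allOne Δ * A = k • allOne Δ)
    (hAA : A * A = α • (1 : Matrix Δ Δ ℚ) + β • A + γ • allOne Δ) (a b c a' b' c' : ℚ) :
    mi2f3_L A a b c * mi2f3_L A a' b' c' =
      mi2f3_L A (a * a' + b * b' * α) (a * b' + b * a' + b * b' * β)
        (a * c' + c * a' + b * b' * γ + b * c' * k + c * b' * k + c * c' * (Fintype.card Δ : ℚ)) := by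
  unfold mi2f3_L
  simp only [Matrix.mul_add, Matrix.add_mul, Matrix.smul_mul, Matrix.mul_smul, Matrix.mul_one, Matrix.one_mul,
    hAJ, hJA, hAA, mi2f3_allOne_mul, smul_add, smul_smul]
  module

/-- the trace in the Bose-Mesner algebra -/
theorem mi2f3_L_trace {Δ : Type*} [Fintype Δ] [DecidableEq Δ] (A : Matrix Δ Δ ℚ) (htr : A.trace = 0) (a b c : ℚ) :
    (mi2f3_L A a b c).trace = (a + c) * (Fintype.card Δ : ℚ) := by
  unfold mi2f3_L
  rw [Matrix.trace_add, Matrix.trace_add, Matrix.trace_smul, Matrix.trace_smul, Matrix.trace_smul, htr,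
    mi2f3_allOne_trace, Matrix.trace_one]
  simp only [smul_eq_mul]
  ring

theorem srg_proj {Δ : Type*} [Fintype Δ] [DecidableEq Δ] [Nonempty Δ] (A : Matrix Δ Δ ℚ)
    (k α β γ θ₁ θ₂ : ℚ)
    (hAJ : A * allOne Δ = k • allOne Δ) (hJA : allOne Δ * A = k • allOne Δ)
    (hAA : A * A = α • (1 : Matrix Δ Δ ℚ) + β • A + γ • allOne Δ)
    (hk : k * k = α + β * k + γ * (Fintype.card Δ : ℚ))
    (htr : A.trace = 0) (h12 : θ₁ ≠ θ₂) (hsum : θ₁ + θ₂ = β) (hprod : θ₁ * θ₂ = -α)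
    (x y z : ℚ) (h0 : x + y * k + z * (Fintype.card Δ : ℚ) ≠ 0) (h1 : x + y * θ₁ ≠ 0) :
    ∃ X P : Matrix Δ Δ ℚ, P * P = P ∧
      (x • (1 : Matrix Δ Δ ℚ) + y • A + z • allOne Δ) * X = P ∧
      P.trace = (θ₁ - θ₂ * (Fintype.card Δ : ℚ) - k) / (θ₁ - θ₂) := by
  have hN : (Fintype.card Δ : ℚ) ≠ 0 := by
    have : 0 < Fintype.card Δ := Fintype.card_pos
    exact_mod_cast this.ne'
  have hmul := mi2f3_L_mul A k α β γ hAJ hJA hAA
  have htrace := mi2f3_L_trace A htr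
  generalize (Fintype.card Δ : ℚ) = N at *
  have hα : α = -(θ₁ * θ₂) := by linarith
  have hγ : γ = (k - θ₁) * (k - θ₂) / N := by
    rw [eq_div_iff hN]
    rw [hα, ← hsum] at hk
    linarith
  obtain ⟨d, hd⟩ : ∃ d, d = θ₁ - θ₂ := ⟨_, rfl⟩
  have hd0 : d ≠ 0 := by rw [hd]; exact sub_ne_zero.mpr h12
  obtain ⟨c₁, hc1⟩ : ∃ c, c = x + y * θ₁ := ⟨_, rfl⟩
  obtain ⟨c₀, hc0⟩ : ∃ c, c = x + y * k + z * N := ⟨_, rfl⟩
  rw [← hc0] at h0
  rw [← hc1] at h1
  have hθ : θ₁ = d + θ₂ := by rw [hd]; ring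
  have hx : x = c₁ - y * θ₁ := by rw [hc1]; ring
  have hz : z = (c₀ - x - y * k) / N := by rw [hc0]; field_simp; ring
  refine ⟨mi2f3_L A (-θ₂ / (d * c₁)) (1 / (d * c₁)) ((θ₁ - k) / N / (d * c₁) + (c₀⁻¹ - c₁⁻¹) / N),
    mi2f3_L A (-θ₂ / d) (1 / d) ((θ₁ - k) / N / d), ?_, ?_, ?_⟩
  · rw [hmul]
    congr 1
    · rw [hα, hθ]; field_simp; ring
    · rw [← hsum, hθ]; field_simp; ring
    · rw [hγ, hθ]; field_simp; ring
  · change mi2f3_L A x y z * _ = _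
    rw [hmul]
    congr 1
    · rw [hα, hx, hθ]; field_simp; ring
    · rw [← hsum, hx, hθ]; field_simp; ring
    · rw [hγ, hz, hx, hθ]; field_simp; ring
  · rw [htrace, ← hd, hθ]
    field_simp
    ring

end Cfsg.Agent.Lib.helper2.MI2
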