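import Mathlib

/-!
# Project MNP, row X2 (helper20): the order of the complement generator `c`.
(No project definitions are needed for this row.)
-/

set_option autoImplicit false

namespace Cfsg.Agent.Lib.Helper24.MNP

universe u

section X

variable {X : Type u} [Group X] [Finite X] {p : ℕ} [Fact p.Prime]

theorem order_c {q r t : ℕ} [Fact q.Prime] (hpq : p ≠ q) (hcard : Nat.card X = p ^ t * q ^ r) (P : Sylow p X)
    (hPn : (P : Subgroup X).Normal) (q' : ℕ) (hq' : q'.Prime) (hq'p : q' ≠ p) (c : X) (hc1 : c ≠ 1)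
    (hc : ∃ k : ℕ, c ^ q' ^ k = 1) (hsup : (P : Subgroup X) ⊔ Subgroup.zpowers c = ⊤) :
    q' = q ∧ orderOf c = q ^ r ∧ (P : Subgroup X) ⊓ Subgroup.zpowers c = ⊥ := by
  have hp : p.Prime := Fact.out
  have hq : q.Prime := Fact.out
  obtain ⟨k, hk⟩ := hc
  have hordc : orderOf c ∣ q' ^ k := orderOf_dvd_of_pow_eq_one hk
  -- (1) trivial intersection
  have hinf : (P : Subgroup X) ⊓ Subgroup.zpowers c = ⊥ := by
    rw [Subgroup.eq_bot_iff_forall]
    intro x hx
    obtain ⟨hxP, hxZ⟩ := Subgroup.mem_inf.1 hx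
    obtain ⟨j, hj⟩ := (IsPGroup.iff_orderOf.1 P.isPGroup') ⟨x, hxP⟩
    have h1 : orderOf x = p ^ j := by
      rw [← hj]
      exact (Subgroup.orderOf_mk x hxP).symm
    have h2 : orderOf x ∣ q' ^ k := by
      apply orderOf_dvd_of_pow_eq_one
      obtain ⟨m, rfl⟩ := Subgroup.mem_zpowers_iff.1 hxZ
      rw [← zpow_natCast, ← zpow_mul, mul_comm, zpow_mul, zpow_natCast, hk, one_zpow]
    have h3 : Nat.Coprime (p ^ j) (q' ^ k) :=
      Nat.Coprime.pow _ _ ((Nat.coprime_primes hp hq').2 (Ne.symm hq'p))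
    have h4 : orderOf x = 1 := by
      have := Nat.Coprime.eq_one_of_dvd (h1 ▸ h3) h2
      exact this
    exact orderOf_eq_one_iff.1 h4
  -- (2) complements
  have hcompl : Subgroup.IsComplement' (P : Subgroup X) (Subgroup.zpowers c) := by
    apply Subgroup.isComplement'_of_disjoint_and_mul_eq_univ
    · exact disjoint_iff.2 hinf
    · rw [← Subgroup.normal_mul, hsup]
      rfl
  have hmul : Nat.card (P : Subgroup X) * Nat.card (Subgroup.zpowers c) = Nat.card X :=
    hcompl.card_mul_card
  -- (3) |P| = p ^ t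
  have hfac : (Nat.card X).factorization p = t := by
    rw [hcard, Nat.factorization_mul (pow_ne_zero _ hp.ne_zero) (pow_ne_zero _ hq.ne_zero),
      Nat.factorization_pow, Nat.factorization_pow, Finsupp.add_apply, Finsupp.smul_apply,
      Finsupp.smul_apply, Nat.Prime.factorization_self hp,
      Nat.factorization_eq_zero_of_not_dvd
        (fun h => hpq ((Nat.prime_dvd_prime_iff_eq hp hq).1 h))]
    simp
  have hP : Nat.card (P : Subgroup X) = p ^ t := by
    rw [Sylow.card_eq_multiplicity, hfac]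
  have hZ : Nat.card (Subgroup.zpowers c) = q ^ r := by
    rw [hP, hcard] at hmul
    exact Nat.eq_of_mul_eq_mul_left (pow_pos hp.pos t) hmul
  have hord : orderOf c = q ^ r := by
    rw [← hZ, Nat.card_zpowers]
  -- (4) q' = q
  have hr : r ≠ 0 := by
    intro h0
    rw [h0, pow_zero] at hord
    exact hc1 (orderOf_eq_one_iff.1 hord)
  have hqdvd : q ∣ q' ^ k := by
    have : q ∣ orderOf c := by
      rw [hord]
      exact dvd_pow_self q hr
    exact this.trans hordc
  have hqq' : q ∣ q' := hq.dvd_of_dvd_pow hqdvd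
  have heq : q' = q := ((Nat.prime_dvd_prime_iff_eq hq hq').1 hqq').symm
  exact ⟨heq, hord, hinf⟩

end X

end Cfsg.Agent.Lib.Helper24.MNP
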