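import Mathlib
import Cfsg.Agent.Lib.Helper27.MSS.Base
import Cfsg.Agent.Lib.Helper29.MSSQDTB
import Cfsg.Agent.S0206

/-!
# Project MSS, piece MD (core): `badModel_dih` from the data

The image of the quasi-dihedral Sylow 2-subgroup `⟨r, s⟩` of `GL₂(q)` in `GL₂(q) ⧸ center` is
dihedral of order `2 ^ k`, the image of `u = r ^ 2 ^ (k - 2)` is a square in it, and its
conjugate, the image of `u * (r * s)`, is not.
-/

set_option autoImplicit false

namespace Cfsg.Agent.Lib.Helper27.MSS

open Cfsg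

/-- The abstract version: any finite group `H` with a quasi-dihedral pair `r, s` generating a Sylow
`2`-subgroup, `r ^ 2 ^ (k - 1)` central, and `g` fusing `r ^ 2 ^ (k - 2)` to
`r ^ 2 ^ (k - 2) * (r * s)`. -/
theorem mssmd_abstract {H : Type} [Group H] [Finite H] (k : ℕ) (hk : 3 ≤ k) (r s g z : H)
    (hr : orderOf r = 2 ^ k) (hs : s ^ 2 = 1) (hrs : s * r * s⁻¹ = r ^ (2 ^ (k - 1) - 1))
    (hz : r ^ 2 ^ (k - 1) = z) (hzc : z ∈ Subgroup.center H)
    (hg : g * r ^ 2 ^ (k - 2) * g⁻¹ = r ^ 2 ^ (k - 2) * (r * s))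
    (T : Sylow 2 H) (hT : (T : Subgroup H) = Subgroup.closure {r, s}) :
    HasBadModel 2 (DihedralGroup (2 ^ (k - 1))) := by
  classical
  obtain ⟨i, rfl⟩ : ∃ i, k = i + 3 := ⟨k - 3, by omega⟩
  have e1 : i + 3 - 1 = i + 2 := by omega
  have e2 : i + 3 - 2 = i + 1 := by omega
  rw [e1] at hrs hz ⊢
  rw [e2] at hg
  set Z : Subgroup H := Subgroup.center H with hZ
  set π : H →* H ⧸ Z := QuotientGroup.mk' Z with hπ
  have hπs : Function.Surjective π := QuotientGroup.mk'_surjective Z
  have hker : ∀ x : H, π x = 1 ↔ x ∈ Z := fun x => QuotientGroup.eq_one_iff x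
  have hss : s * s = 1 := by rw [← pow_two, hs]
  have hsinv : s⁻¹ = s := inv_eq_of_mul_eq_one_right hss
  have hpow4 : 4 ≤ 2 ^ (i + 2) := by
    calc 4 = 2 ^ 2 := by norm_num
      _ ≤ 2 ^ (i + 2) := Nat.pow_le_pow_right (by norm_num) (by omega)
  -- `s` and `r` do not commute
  have hsr : s * r ≠ r * s := by
    intro h
    have h1 : s * r ^ 1 = r ^ 1 * s := by rw [pow_one]; exact h
    have h2 := qdt_comm (k := i + 3) (by omega) hr (by rw [e1]; exact hrs) 1 h1
    rw [e1] at h2
    have := Nat.le_of_dvd (by norm_num) h2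
    omega
  -- central powers of `r`
  have key : ∀ m : ℕ, r ^ m ∈ Z → 2 ^ (i + 2) ∣ m := by
    intro m hm
    have h1 : s * r ^ m = r ^ m * s := (Subgroup.mem_center_iff.mp hm s)
    have h2 := qdt_comm (k := i + 3) (by omega) hr (by rw [e1]; exact hrs) m h1
    rwa [e1] at h2
  have hπz : π z = 1 := (hker z).mpr hzc
  -- the order of the image of `r`
  have hor : orderOf (π r) = 2 ^ (i + 2) := by
    apply Nat.dvd_antisymm
    · apply orderOf_dvd_of_pow_eq_one
      rw [← map_pow, hz, hπz]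
    · apply key
      rw [← hker, map_pow, pow_orderOf_eq_one]
  have hrZ : r ∉ Z := by
    intro h
    exact hsr (Subgroup.mem_center_iff.mp h s)
  have hsZ : s ∉ Z := by
    intro h
    exact hsr (Subgroup.mem_center_iff.mp h r).symm
  have hrsq : (r * s) ^ 2 = z := by
    have h1 : s * r * s = r ^ (2 ^ (i + 2) - 1) := by
      have := hrs
      rwa [hsinv] at this
    calc (r * s) ^ 2 = r * (s * r * s) := by simp only [pow_two, mul_assoc]
      _ = r * r ^ (2 ^ (i + 2) - 1) := by rw [h1]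
      _ = r ^ (2 ^ (i + 2) - 1 + 1) := (pow_succ' r _).symm
      _ = r ^ 2 ^ (i + 2) := by congr 1; omega
      _ = z := hz
  have hrsZ : r * s ∉ Z := by
    intro h
    have h1 := Subgroup.mem_center_iff.mp h r
    -- r * (r * s) = (r * s) * r
    apply hsr
    have h2 : r * (r * s) = r * (s * r) := by rw [h1]; group
    exact (mul_left_cancel h2).symm
  -- the two involutions
  have hx : orderOf (π s) = 2 := by
    apply orderOf_eq_prime
    · rw [← map_pow, hs, map_one]
    · intro h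
      exact hsZ ((hker s).mp h)
  have hy : orderOf (π (r * s)) = 2 := by
    apply orderOf_eq_prime
    · rw [← map_pow, hrsq, hπz]
    · intro h
      exact hrsZ ((hker _).mp h)
  have hxy : π s ≠ π (r * s) := by
    intro h
    rw [map_mul] at h
    have h1 : π r = 1 := by
      have : 1 * π s = π r * π s := by rw [one_mul]; exact h
      exact (mul_right_cancel this).symm
    exact hrZ ((hker r).mp h1)
  have hprod : π s * π (r * s) = (π r)⁻¹ := by
    have h1 : s * (r * s) = r ^ (2 ^ (i + 2) - 1) := by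
      have := hrs
      rw [hsinv] at this
      rw [← this]; group
    rw [← map_mul, h1, map_pow]
    apply eq_inv_of_mul_eq_one_left
    rw [← pow_succ]
    have : 2 ^ (i + 2) - 1 + 1 = 2 ^ (i + 2) := by omega
    rw [this, ← map_pow, hz, hπz]
  have hoxy : orderOf (π s * π (r * s)) = 2 ^ (i + 2) := by
    rw [hprod, orderOf_inv, hor]
  obtain ⟨f⟩ := Cfsg.Agent.S0206.result (π s) (π (r * s)) hx hy hxy
  rw [hoxy] at f
  -- the image of the Sylow subgroup
  have hmapT : (T : Subgroup H).map π = Subgroup.closure {π s, π (r * s)} := by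
    rw [hT, MonoidHom.map_closure]
    apply le_antisymm
    · rw [Subgroup.closure_le]
      rintro _ ⟨x, hx', rfl⟩
      rcases hx' with rfl | rfl
      · have h1 : π x = π (x * s) * (π s)⁻¹ := by rw [map_mul]; group
        rw [h1]
        exact Subgroup.mul_mem _ (Subgroup.subset_closure (by simp))
          (Subgroup.inv_mem _ (Subgroup.subset_closure (by simp)))
      · exact Subgroup.subset_closure (by simp)
    · rw [Subgroup.closure_le]
      rintro _ (rfl | rfl)
      · exact Subgroup.subset_closure ⟨s, by simp, rfl⟩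
      · rw [map_mul]
        exact Subgroup.mul_mem _ (Subgroup.subset_closure ⟨r, by simp, rfl⟩)
          (Subgroup.subset_closure ⟨s, by simp, rfl⟩)
  have hrT : ∀ m : ℕ, r ^ m ∈ (T : Subgroup H) := by
    intro m
    rw [hT]
    exact Subgroup.pow_mem _ (Subgroup.subset_closure (by simp)) m
  have hsT : s ∈ (T : Subgroup H) := by
    rw [hT]
    exact Subgroup.subset_closure (by simp)
  let Tbar : Sylow 2 (H ⧸ Z) := T.mapSurjective hπs
  have hTbar : (Tbar : Subgroup (H ⧸ Z)) = (T : Subgroup H).map π := Sylow.coe_mapSurjective hπs T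
  have hTbar' : (Tbar : Subgroup (H ⧸ Z)) = Subgroup.closure {π s, π (r * s)} := by
    rw [hTbar, hmapT]
  refine ⟨H ⧸ Z, inferInstance, inferInstance, Tbar, π (r ^ 2 ^ (i + 1)),
    π (r ^ 2 ^ (i + 1) * (r * s)), π g, ?_, ?_, ?_, ?_, ?_, ?_⟩
  · exact ⟨f.symm.trans (MulEquiv.subgroupCongr hTbar'.symm)⟩
  · rw [hTbar]
    exact Subgroup.mem_map_of_mem _ (hrT _)
  · rw [hTbar]
    have hr1 : r ∈ (T : Subgroup H) := by simpa using hrT 1
    exact Subgroup.mem_map_of_mem _
      (Subgroup.mul_mem _ (hrT _) (Subgroup.mul_mem _ hr1 hsT))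
  · rw [← map_inv, ← map_mul, ← map_mul, hg]
  · refine ⟨π (r ^ 2 ^ i), ?_, ?_⟩
    · rw [hTbar]
      exact Subgroup.mem_map_of_mem _ (hrT _)
    · rw [← map_pow, ← pow_mul, ← pow_succ]
  · intro y hy' hyb
    rw [hTbar] at hy'
    obtain ⟨t, ht, rfl⟩ := hy'
    rw [← map_pow] at hyb
    have h1 : (t ^ 2)⁻¹ * (r ^ 2 ^ (i + 1) * (r * s)) ∈ Z := by
      have := QuotientGroup.eq.mp hyb
      exact this
    have h2 : t ^ 2 ∈ Subgroup.zpowers r := by
      rw [hT] at ht
      exact qdt_sq (k := i + 3) (by omega) hr hs (by rw [e1]; exact hrs) t ht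
    have hA : (r ^ 2 ^ (i + 1))⁻¹ * t ^ 2 ∈ Subgroup.zpowers r :=
      Subgroup.mul_mem _ (Subgroup.inv_mem _ (Subgroup.pow_mem _ (Subgroup.mem_zpowers r) _)) h2
    obtain ⟨n, hn⟩ := Subgroup.mem_zpowers_iff.mp hA
    set c := (t ^ 2)⁻¹ * (r ^ 2 ^ (i + 1) * (r * s)) with hc
    have h3 : r * s = (r ^ 2 ^ (i + 1))⁻¹ * t ^ 2 * c := by rw [hc]; group
    have hcr : c * r = r * c := (Subgroup.mem_center_iff.mp h1 r).symm
    have hAr : r ^ n * r = r * r ^ n := by
      rw [← zpow_add_one, ← zpow_one_add, add_comm]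
    have h4 : (r * s) * r = r * (r * s) := by
      rw [h3, ← hn]
      calc r ^ n * c * r = r ^ n * (c * r) := by rw [mul_assoc]
        _ = r ^ n * (r * c) := by rw [hcr]
        _ = (r ^ n * r) * c := by rw [mul_assoc]
        _ = (r * r ^ n) * c := by rw [hAr]
        _ = r * (r ^ n * c) := by rw [mul_assoc]
    apply hsr
    have h5 : r * (s * r) = r * (r * s) := by rw [← mul_assoc]; exact h4
    exact mul_left_cancel h5

/-- MD from the data `D` and the Sylow subgroup `T = ⟨D.r, D.s⟩`. -/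
theorem mssmd_of_data (j : ℕ) (hj : 2 ≤ j) (q : ℕ) [Fact q.Prime] (D : GLData q (j + 1))
    (T : Sylow 2 (GL (Fin 2) (ZMod q)))
    (hT : (T : Subgroup (GL (Fin 2) (ZMod q))) = Subgroup.closure {D.r, D.s}) :
    HasBadModel 2 (DihedralGroup (2 ^ j)) := by
  have hc : (-1 : GL (Fin 2) (ZMod q)) ∈ Subgroup.center (GL (Fin 2) (ZMod q)) := by
    rw [Subgroup.mem_center_iff]
    intro x
    rw [mul_neg_one, neg_one_mul]
  have := mssmd_abstract (j + 1) (by omega) D.r D.s D.g (-1) D.hr D.hs D.hrs D.hz hc D.hg T hT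
  simpa using this

end Cfsg.Agent.Lib.Helper27.MSS
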