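import Mathlib

set_option autoImplicit false

/-! Jordan sets and Marggraf's theorem (3-transitivity part). -/

namespace Cfsg.Agent.Lib.Helper20.Marggraf

open scoped Pointwise

variable {G Ω : Type*} [Group G] [MulAction G Ω]

/-- `J` is a Jordan set: the pointwise stabilizer of the complement is transitive on `J`. -/
def JS (G : Type*) {Ω : Type*} [Group G] [MulAction G Ω] (J : Set Ω) : Prop :=
  ∀ x ∈ J, ∀ y ∈ J, ∃ g : G, (∀ z ∉ J, g • z = z) ∧ g • x = y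

theorem JS.smul {J : Set Ω} (hJ : JS G J) (g : G) : JS G (g • J) := by
  intro x hx y hy
  rw [Set.mem_smul_set_iff_inv_smul_mem] at hx hy
  obtain ⟨h, hfix, hxy⟩ := hJ _ hx _ hy
  refine ⟨g * h * g⁻¹, ?_, ?_⟩
  · intro z hz
    have hz' : g⁻¹ • z ∉ J := by
      intro hc; exact hz (Set.mem_smul_set_iff_inv_smul_mem.mpr hc)
    rw [mul_smul, mul_smul, hfix _ hz', smul_inv_smul]
  · rw [mul_smul, mul_smul, hxy, smul_inv_smul]

theorem JS.sUnion {S : Set (Set Ω)} (c : Ω) (hS : ∀ J ∈ S, JS G J ∧ c ∈ J) : JS G (⋃₀ S) := by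
  have key : ∀ x ∈ ⋃₀ S, ∃ g : G, (∀ z ∉ ⋃₀ S, g • z = z) ∧ g • x = c := by
    intro x hx
    obtain ⟨J, hJS, hxJ⟩ := hx
    obtain ⟨hJ, hcJ⟩ := hS J hJS
    obtain ⟨g, hfix, hg⟩ := hJ x hxJ c hcJ
    refine ⟨g, fun z hz => hfix z (fun hzJ => hz ⟨J, hJS, hzJ⟩), hg⟩
  intro x hx y hy
  obtain ⟨g, hgfix, hg⟩ := key x hx
  obtain ⟨h, hhfix, hh⟩ := key y hy
  refine ⟨h⁻¹ * g, ?_, ?_⟩
  · intro z hz
    rw [mul_smul, hgfix z hz, inv_smul_eq_iff, hhfix z hz]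
  · rw [mul_smul, hg, inv_smul_eq_iff, hh]

theorem JS.union {J₁ J₂ : Set Ω} (h₁ : JS G J₁) (h₂ : JS G J₂) (h : (J₁ ∩ J₂).Nonempty) :
    JS G (J₁ ∪ J₂) := by
  obtain ⟨c, hc1, hc2⟩ := h
  have := JS.sUnion (G := G) (S := {J₁, J₂}) c (by
    intro J hJ
    rcases hJ with rfl | rfl
    · exact ⟨h₁, hc1⟩
    · exact ⟨h₂, hc2⟩)
  simpa [Set.sUnion_pair] using this

/-- The largest Jordan set containing `c` and avoiding `a`, `b`. -/
def comp (G : Type*) {Ω : Type*} [Group G] [MulAction G Ω] (a b c : Ω) : Set Ω :=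
  ⋃₀ {J | JS G J ∧ c ∈ J ∧ a ∉ J ∧ b ∉ J}

theorem comp_JS (a b c : Ω) : JS G (comp G a b c) :=
  JS.sUnion c (fun _ hJ => ⟨hJ.1, hJ.2.1⟩)

theorem not_mem_comp_left (a b c : Ω) : a ∉ comp G a b c := by
  rintro ⟨J, hJ, haJ⟩
  exact hJ.2.2.1 haJ

theorem not_mem_comp_right (a b c : Ω) : b ∉ comp G a b c := by
  rintro ⟨J, hJ, haJ⟩
  exact hJ.2.2.2 haJ

theorem subset_comp {a b c : Ω} {J : Set Ω} (hJ : JS G J) (hc : c ∈ J) (ha : a ∉ J) (hb : b ∉ J) :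
    J ⊆ comp G a b c :=
  fun _ hx => ⟨J, ⟨hJ, hc, ha, hb⟩, hx⟩


/-- group elements whose translate of `Γ` avoids `x` and `y`. -/
def T (G : Type*) {Ω : Type*} [Group G] [MulAction G Ω] (Γ : Set Ω) (x y : Ω) : Set G :=
  {g : G | x ∉ g • Γ ∧ y ∉ g • Γ}

theorem T_smul (Γ : Set Ω) (h : G) (x y : Ω) : T G Γ (h • x) (h • y) = h • T G Γ x y := by
  ext g
  rw [Set.mem_smul_set_iff_inv_smul_mem]
  simp only [T, Set.mem_ofPred_eq, smul_eq_mul, mul_smul]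
  rw [Set.mem_inv_smul_set_iff, Set.mem_inv_smul_set_iff]

theorem T_card [Finite G] (Γ : Set Ω)
    (h2t : ∀ {a b c d : Ω}, a ≠ b → c ≠ d → ∃ g : G, g • a = c ∧ g • b = d)
    {a b c d : Ω} (hab : a ≠ b) (hcd : c ≠ d) : (T G Γ a b).ncard = (T G Γ c d).ncard := by
  obtain ⟨g, rfl, rfl⟩ := h2t hab hcd
  rw [T_smul, Set.ncard_smul_set]

theorem T_eq_of_subset [Finite G] (Γ : Set Ω)
    (h2t : ∀ {a b c d : Ω}, a ≠ b → c ≠ d → ∃ g : G, g • a = c ∧ g • b = d)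
    {a b c d : Ω} (hab : a ≠ b) (hcd : c ≠ d) (h : T G Γ a b ⊆ T G Γ c d) :
    T G Γ a b = T G Γ c d :=
  Set.eq_of_subset_of_ncard_le h (T_card Γ h2t hab hcd).symm.le (Set.toFinite _)

theorem cover [Finite G] [Finite Ω] (Γ : Set Ω) (hne : Γ.Nonempty)
    (h2 : 2 * Γ.ncard ≤ Nat.card Ω)
    (h2t : ∀ {a b c d : Ω}, a ≠ b → c ≠ d → ∃ g : G, g • a = c ∧ g • b = d)
    {a b c : Ω} (hab : a ≠ b) (hac : a ≠ c) (hbc : b ≠ c) :
    ∃ g : G, c ∈ g • Γ ∧ a ∉ g • Γ ∧ b ∉ g • Γ := by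
  by_contra hcon
  push Not at hcon
  have hsub1 : T G Γ a b ⊆ T G Γ a c := by
    intro g hg
    refine ⟨hg.1, fun hc => ?_⟩
    exact hg.2 (hcon g hc hg.1)
  have hsub2 : T G Γ a b ⊆ T G Γ b c := by
    intro g hg
    refine ⟨hg.2, fun hc => ?_⟩
    exact hg.2 (hcon g hc hg.1)
  have e1 := T_eq_of_subset Γ h2t hab hac hsub1
  have e2 := T_eq_of_subset Γ h2t hab hbc hsub2
  obtain ⟨ω, hω⟩ := hne
  -- for each δ ∉ Γ a third point
  have hex : ∀ δ : Ω, δ ∉ Γ → ∃ e : Ω, ω ≠ e ∧ δ ≠ e ∧ T G Γ ω δ = T G Γ ω e ∧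
      T G Γ ω δ = T G Γ δ e := by
    intro δ hδ
    have hωδ : ω ≠ δ := fun h => hδ (h ▸ hω)
    obtain ⟨g, rfl, rfl⟩ := h2t hab hωδ
    refine ⟨g • c, fun h => hac (smul_left_cancel g h), fun h => hbc (smul_left_cancel g h), ?_, ?_⟩
    · rw [T_smul, T_smul, e1]
    · rw [T_smul, T_smul, e2]
  choose! f hf using hex
  have hone : ∀ x y : Ω, (1 : G) ∈ T G Γ x y ↔ x ∉ Γ ∧ y ∉ Γ := by
    intro x y; simp [T]
  have hfΓ : ∀ δ ∈ Γᶜ, f δ ∈ Γ \ {ω} := by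
    intro δ hδ
    obtain ⟨h1, h2, h3, h4⟩ := hf δ hδ
    refine ⟨?_, fun h => h1 h.symm⟩
    by_contra hfn
    have : (1 : G) ∈ T G Γ δ (f δ) := (hone _ _).2 ⟨hδ, hfn⟩
    rw [← h4] at this
    exact ((hone _ _).1 this).1 hω
  have hinj : Set.InjOn f Γᶜ := by
    intro δ hδ δ' hδ' hff
    by_contra hne
    obtain ⟨h1, h2, h3, h4⟩ := hf δ hδ
    obtain ⟨h1', h2', h3', h4'⟩ := hf δ' hδ'
    have hωδ : ω ≠ δ := fun h => hδ (h ▸ hω)
    have hsub : T G Γ ω δ ⊆ T G Γ δ δ' := by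
      intro g hg
      have hg' : g ∈ T G Γ ω δ' := by rw [h3', ← hff, ← h3]; exact hg
      exact ⟨hg.2, hg'.2⟩
    have := T_eq_of_subset Γ h2t hωδ hne hsub
    have h1m : (1 : G) ∈ T G Γ δ δ' := (hone _ _).2 ⟨hδ, hδ'⟩
    rw [← this] at h1m
    exact ((hone _ _).1 h1m).1 hω
  have hle := Set.ncard_le_ncard_of_injOn f hfΓ hinj (Set.toFinite _)
  rw [Set.ncard_sdiff_singleton_of_mem hω] at hle
  have hc := Set.ncard_add_ncard_compl Γ
  have hpos : 0 < Γ.ncard := (Set.ncard_pos (Set.toFinite _)).2 ⟨ω, hω⟩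
  omega


open MulAction

theorem exists_pair_JS [Finite G] [Finite Ω] (Γ : Set Ω) (h1 : 1 < Γ.ncard)
    (h2 : 2 * Γ.ncard ≤ Nat.card Ω) (hΓ : JS G Γ)
    (h2t : ∀ {a b c d : Ω}, a ≠ b → c ≠ d → ∃ g : G, g • a = c ∧ g • b = d) :
    ∃ x y : Ω, x ≠ y ∧ JS G ({x, y}ᶜ : Set Ω) := by
  classical
  by_contra H
  push Not at H
  have hΓne : Γ.Nonempty := by
    rw [← Set.ncard_pos (Set.toFinite _)]; omega
  obtain ⟨p, hp, q, hq, hpq⟩ := (Set.one_lt_ncard (Set.toFinite _)).1 h1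
  have hcompl := Set.ncard_add_ncard_compl Γ
  have hcne : (Γᶜ).Nonempty := by
    rw [← Set.ncard_pos (Set.toFinite _)]; omega
  obtain ⟨r, hr⟩ := hcne
  have hpr : p ≠ r := fun h => hr (h ▸ hp)
  have hqr : q ≠ r := fun h => hr (h ▸ hq)
  -- the type of distinct triples
  let Tr := {t : Ω × Ω × Ω // t.1 ≠ t.2.1 ∧ t.1 ≠ t.2.2 ∧ t.2.1 ≠ t.2.2}
  have : Nonempty Tr := ⟨⟨(p, q, r), hpq, hpr, hqr⟩⟩
  obtain ⟨⟨⟨a, b, c⟩, hab, hac, hbc⟩, hmax⟩ :=
    Finite.exists_max (fun t : Tr => (comp G t.1.1 t.1.2.1 t.1.2.2).ncard)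
  simp only at hab hac hbc hmax
  have hmax' : ∀ x y z : Ω, x ≠ y → x ≠ z → y ≠ z →
      (comp G x y z).ncard ≤ (comp G a b c).ncard := fun x y z h1 h2 h3 =>
    hmax ⟨(x, y, z), h1, h2, h3⟩
  set Γ₁ := comp G a b c with hΓ₁
  have hJS1 : JS G Γ₁ := comp_JS a b c
  have ha1 : a ∉ Γ₁ := not_mem_comp_left a b c
  have hb1 : b ∉ Γ₁ := not_mem_comp_right a b c
  have hc1 : c ∈ Γ₁ := by
    obtain ⟨g, hcg, hag, hbg⟩ := cover Γ hΓne h2 h2t hab hac hbc
    exact subset_comp (hΓ.smul g) hcg hag hbg hcg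
  -- a further point d outside Γ₁
  have hd : ∃ d, d ≠ a ∧ d ≠ b ∧ d ∉ Γ₁ := by
    by_contra hcon
    push Not at hcon
    apply H a b hab
    have : Γ₁ = ({a, b}ᶜ : Set Ω) := by
      ext z
      simp only [Set.mem_compl_iff, Set.mem_insert_iff, Set.mem_singleton_iff, not_or]
      constructor
      · intro hz
        exact ⟨fun h => ha1 (h ▸ hz), fun h => hb1 (h ▸ hz)⟩
      · rintro ⟨hza, hzb⟩
        exact hcon z hza hzb
    rw [← this]; exact hJS1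
  obtain ⟨d, hda, hdb, hd1⟩ := hd
  -- Claim 1
  have claim1 : ∀ x y : Ω, x ∉ Γ₁ → y ∉ Γ₁ → x ≠ y → ∀ J : Set Ω, JS G J → x ∉ J → y ∉ J →
      (J ∩ Γ₁).Nonempty → J ⊆ Γ₁ := by
    intro x y hx hy hxy J hJ hxJ hyJ hJΓ
    have hxc : x ≠ c := fun h => hx (h ▸ hc1)
    have hyc : y ≠ c := fun h => hy (h ▸ hc1)
    have hsub : Γ₁ ⊆ comp G x y c := subset_comp hJS1 hc1 hx hy
    have heq : Γ₁ = comp G x y c :=
      Set.eq_of_subset_of_ncard_le hsub (hmax' x y c hxy hxc hyc) (Set.toFinite _)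
    have hU : JS G (J ∪ Γ₁) := hJ.union hJS1 hJΓ
    have : J ∪ Γ₁ ⊆ comp G x y c :=
      subset_comp hU (Or.inr hc1) (by simp [hxJ, hx]) (by simp [hyJ, hy])
    rw [← heq] at this
    exact fun z hz => this (Or.inl hz)
  -- the translate J through c and a
  obtain ⟨g, hgp, hgq⟩ := h2t hpq hac.symm
  set J := g • Γ with hJdef
  have hJ : JS G J := hΓ.smul g
  have hcJ : c ∈ J := by rw [← hgp]; exact Set.smul_mem_smul_set hp
  have haJ : a ∈ J := by rw [← hgq]; exact Set.smul_mem_smul_set hq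
  have hJm : J.ncard = Γ.ncard := Set.ncard_smul_set g Γ
  have hJprop : ∀ x y : Ω, x ∉ Γ₁ → y ∉ Γ₁ → x ≠ y → x ∈ J ∨ y ∈ J := by
    intro x y hx hy hxy
    by_contra hcon
    push Not at hcon
    exact ha1 (claim1 x y hx hy hxy J hJ hcon.1 hcon.2 ⟨c, hcJ, hc1⟩ haJ)
  -- the translate J' through d avoiding a, b
  obtain ⟨g', hdg, hag, hbg⟩ := cover Γ hΓne h2 h2t hab hda.symm hdb.symm
  set J' := g' • Γ with hJ'def
  have hJ' : JS G J' := hΓ.smul g'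
  have hJ'm : J'.ncard = Γ.ncard := Set.ncard_smul_set g' Γ
  have hJ'disj : J' ⊆ Γ₁ᶜ \ {a, b} := by
    intro z hz
    refine ⟨fun hz1 => ?_, ?_⟩
    · exact hd1 (claim1 a b ha1 hb1 hab J' hJ' hag hbg ⟨z, hz, hz1⟩ hdg)
    · simp only [Set.mem_insert_iff, Set.mem_singleton_iff, not_or]
      exact ⟨fun h => hag (h ▸ hz), fun h => hbg (h ▸ hz)⟩
  have hle1 : Γ.ncard ≤ (Γ₁ᶜ).ncard - 2 := by
    have := Set.ncard_le_ncard hJ'disj (Set.toFinite _)
    rw [hJ'm] at this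
    have hpair : ({a, b} : Set Ω) ⊆ Γ₁ᶜ := by
      intro z hz
      rcases hz with rfl | rfl
      · exact ha1
      · exact hb1
    rw [Set.ncard_sdiff hpair (Set.toFinite _), Set.ncard_pair hab] at this
    exact this
  -- J contains all but at most one point of Γ₁ᶜ
  have hx0 : ∃ x₀ ∈ Γ₁ᶜ, Γ₁ᶜ \ {x₀} ⊆ J := by
    by_cases hall : Γ₁ᶜ ⊆ J
    · exact ⟨a, ha1, fun z hz => hall hz.1⟩
    · obtain ⟨x₀, hx₀, hx₀J⟩ := Set.not_subset.1 hall
      refine ⟨x₀, hx₀, fun z hz => ?_⟩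
      rcases hJprop x₀ z hx₀ hz.1 (fun h => hz.2 h.symm) with h | h
      · exact absurd h hx₀J
      · exact h
  obtain ⟨x₀, hx₀, hsubJ⟩ := hx0
  have hle2 : (Γ₁ᶜ).ncard ≤ Γ.ncard := by
    have hins : insert c (Γ₁ᶜ \ {x₀}) ⊆ J := by
      intro z hz
      rcases hz with rfl | hz
      · exact hcJ
      · exact hsubJ hz
    have := Set.ncard_le_ncard hins (Set.toFinite _)
    rw [Set.ncard_insert_of_notMem (by simp [hc1]) (Set.toFinite _),
      Set.ncard_sdiff_singleton_of_mem hx₀, hJm] at this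
    have hpos : 0 < (Γ₁ᶜ).ncard := (Set.ncard_pos (Set.toFinite _)).2 ⟨x₀, hx₀⟩
    omega
  omega


theorem three_trans_of_pair
    (h2t : IsMultiplyPretransitive G Ω 2)
    {x y : Ω} (hxy : x ≠ y) (hJ : JS G ({x, y}ᶜ : Set Ω)) : IsMultiplyPretransitive G Ω 3 := by
  have : IsPretransitive G Ω := @isPretransitive_of_is_two_pretransitive _ _ _ _ h2t
  have h1 : IsMultiplyPretransitive (stabilizer G x) (SubMulAction.ofStabilizer G x) 1 :=
    (SubMulAction.ofStabilizer.isMultiplyPretransitive (a := x)).1 h2t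
  have : IsPretransitive (stabilizer G x) (SubMulAction.ofStabilizer G x) :=
    is_one_pretransitive_iff.1 h1
  rw [SubMulAction.ofStabilizer.isMultiplyPretransitive (a := x)]
  have hy' : y ∈ SubMulAction.ofStabilizer G x := by
    rw [SubMulAction.mem_ofStabilizer_iff]; exact hxy.symm
  rw [SubMulAction.ofStabilizer.isMultiplyPretransitive (a := (⟨y, hy'⟩ : SubMulAction.ofStabilizer G x))]
  rw [is_one_pretransitive_iff]
  constructor
  intro u v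
  have hu1 : (u : SubMulAction.ofStabilizer G x).1 ≠ x := by
    have := (u : SubMulAction.ofStabilizer G x).2
    rwa [SubMulAction.mem_ofStabilizer_iff] at this
  have hv1 : (v : SubMulAction.ofStabilizer G x).1 ≠ x := by
    have := (v : SubMulAction.ofStabilizer G x).2
    rwa [SubMulAction.mem_ofStabilizer_iff] at this
  have hu2 : (u : SubMulAction.ofStabilizer G x).1 ≠ y := by
    have := u.2
    rw [SubMulAction.mem_ofStabilizer_iff] at this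
    intro h; apply this; exact Subtype.ext h
  have hv2 : (v : SubMulAction.ofStabilizer G x).1 ≠ y := by
    have := v.2
    rw [SubMulAction.mem_ofStabilizer_iff] at this
    intro h; apply this; exact Subtype.ext h
  obtain ⟨g, hfix, hg⟩ := hJ (u : SubMulAction.ofStabilizer G x).1 (by simp [hu1, hu2])
    (v : SubMulAction.ofStabilizer G x).1 (by simp [hv1, hv2])
  have hgx : g • x = x := hfix x (by simp)
  have hgy : g • y = y := hfix y (by simp)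
  refine ⟨⟨⟨g, hgx⟩, ?_⟩, ?_⟩
  · rw [mem_stabilizer_iff]; exact Subtype.ext hgy
  · apply Subtype.ext; apply Subtype.ext; exact hg


/-- Marggraf: a primitive group with a Jordan set of size `m`, `1 < m ≤ n/2`, is 3-transitive. -/
theorem marggraf_three [Finite G] [Finite Ω] (hprim : IsPreprimitive G Ω) (Γ : Set Ω)
    (h1 : 1 < Γ.ncard) (h2 : 2 * Γ.ncard ≤ Nat.card Ω) (htr : JS G Γ) :
    IsMultiplyPretransitive G Ω 3 := by
  have hcompl := Set.ncard_add_ncard_compl Γ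
  have h2t : IsMultiplyPretransitive G Ω 2 := by
    apply hprim.is_two_pretransitive (s := Γᶜ) (n := (Γᶜ).ncard - 1)
    · omega
    · omega
    · constructor
      intro x y
      have hx : (x : Ω) ∈ Γ := by
        have := x.2
        rw [SubMulAction.mem_ofFixingSubgroup_iff] at this
        simpa using this
      have hy : (y : Ω) ∈ Γ := by
        have := y.2
        rw [SubMulAction.mem_ofFixingSubgroup_iff] at this
        simpa using this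
      obtain ⟨g, hfix, hg⟩ := htr _ hx _ hy
      refine ⟨⟨g, ?_⟩, Subtype.ext hg⟩
      rw [mem_fixingSubgroup_iff]
      intro z hz
      exact hfix z hz
  have h2t' : ∀ {a b c d : Ω}, a ≠ b → c ≠ d → ∃ g : G, g • a = c ∧ g • b = d :=
    is_two_pretransitive_iff.1 h2t
  obtain ⟨x, y, hxy, hJ⟩ := exists_pair_JS Γ h1 h2 htr h2t'
  exact three_trans_of_pair h2t hxy hJ

end Cfsg.Agent.Lib.Helper20.Marggraf
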