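import Cfsg.Agent.Lib.Helper20.Metacyclic1
import Cfsg.Prelude.Def_BaumannBlocks

namespace Cfsg.Agent.Lib.Helper20
namespace MC

variable {G : Type*} [Group G] {p : ℕ} (D : MC p G)

set_option linter.unusedSectionVars false

section Fin4
variable [Finite G] [hp : Fact p.Prime]

theorem geom_sum_val (hp2 : p ≠ 2) (j s : ℕ) (hj : j ≠ 0) :
    (∑ t ∈ Finset.range (p ^ s), (D.r ^ j) ^ t) ≠ 0 ∧
    padicValNat p (∑ t ∈ Finset.range (p ^ s), (D.r ^ j) ^ t) = s := by
  have h1 := geom_sum_mul_of_one_le (D.r_pow_pos j) (p ^ s)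
  rw [← pow_mul] at h1
  have hjs : j * p ^ s ≠ 0 := Nat.mul_ne_zero hj (pow_ne_zero _ hp.out.ne_zero)
  have hS : ∑ t ∈ Finset.range (p ^ s), (D.r ^ j) ^ t ≠ 0 := by
    intro h0
    rw [h0, zero_mul] at h1
    exact D.r_pow_sub_one_ne_zero _ hjs h1.symm
  have h2 := congrArg (padicValNat p) h1
  rw [padicValNat.mul hS (D.r_pow_sub_one_ne_zero j hj), D.lte hp2 j hj, D.lte hp2 _ hjs,
    padicValNat.mul hj (pow_ne_zero _ hp.out.ne_zero), padicValNat.prime_pow] at h2
  exact ⟨hS, by omega⟩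

/-- explicit coordinates for a subgroup -/
theorem exists_sub_coords (hG : IsPGroup p G) (L : Subgroup G) :
    ∃ (α β w : ℕ), α ≤ D.m ∧
      L ⊓ Subgroup.zpowers D.a = Subgroup.zpowers (D.a ^ (p ^ α)) ∧
      (L ⊔ Subgroup.zpowers D.a).index = p ^ β ∧
      D.a ^ w * D.b ^ (p ^ β) ∈ L ∧
      (∀ l ∈ L, ∃ i q : ℕ, l = (D.a ^ (p ^ α)) ^ i * (D.a ^ w * D.b ^ (p ^ β)) ^ q) ∧
      L.index = p ^ (α + β) := by
  obtain ⟨α, hα, hLN⟩ := D.exists_inf_zpowers L
  set N := Subgroup.zpowers D.a with hN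
  set M := L ⊔ N with hM
  have hNM : N ≤ M := le_sup_right
  have hJ : ∃ β : ℕ, M.index = p ^ β := by
    obtain ⟨k, hk⟩ := hG.exists_card_eq
    have hdvd : M.index ∣ Nat.card G := Subgroup.index_dvd_card M
    rw [hk] at hdvd
    obtain ⟨β, _, hβ⟩ := (Nat.dvd_prime_pow hp.out).mp hdvd
    exact ⟨β, hβ⟩
  obtain ⟨β, hβ⟩ := hJ
  set J := p ^ β with hJdef
  have hJpos : 0 < J := pow_pos hp.out.pos _
  have hbJ : D.b ^ J ∈ M := (D.pow_mem_iff_index_dvd M hNM J).mpr (by rw [hβ])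
  have hnorm : N.Normal := D.normal_zpowers_a
  rw [hM, sup_comm, Subgroup.mem_sup_of_normal_left] at hbJ
  obtain ⟨y, hyN, z, hzL, hyz⟩ := hbJ
  obtain ⟨w, hw⟩ := (D.mem_zpowers_a_iff y⁻¹).mp (N.inv_mem hyN)
  have hz : z = D.a ^ w * D.b ^ J := by rw [← hw, ← hyz]; group
  refine ⟨α, β, w, hα, hLN, hβ, hz ▸ hzL, ?_, ?_⟩
  · intro l hl
    obtain ⟨u, j, rfl⟩ := D.hgen l
    have hbj : D.b ^ j ∈ M := by
      have h1 : D.b ^ j = (D.a ^ u)⁻¹ * (D.a ^ u * D.b ^ j) := by group
      rw [h1]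
      exact M.mul_mem (M.inv_mem (hNM (Subgroup.pow_mem _ (Subgroup.mem_zpowers _) _)))
        (le_sup_left (a := L) hl)
    rw [D.pow_mem_iff_index_dvd M hNM, hβ] at hbj
    obtain ⟨q, rfl⟩ := hbj
    have hzq := pair_pow D.hconj w J q
    rw [← hz] at hzq
    set E := w * ∑ t ∈ Finset.range q, (D.r ^ J) ^ t with hE
    have h2 : D.a ^ u * D.b ^ (J * q) * (z ^ q)⁻¹ ∈ L ⊓ N := by
      constructor
      · exact L.mul_mem hl (L.inv_mem (L.pow_mem hzL q))
      · rw [hzq]
        have : D.a ^ u * D.b ^ (J * q) * (D.a ^ E * D.b ^ (J * q))⁻¹ = D.a ^ u * (D.a ^ E)⁻¹ := by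
          group
        rw [this]
        exact N.mul_mem (Subgroup.pow_mem _ (Subgroup.mem_zpowers _) _)
          (N.inv_mem (Subgroup.pow_mem _ (Subgroup.mem_zpowers _) _))
    rw [hLN, ← mem_powers_iff_mem_zpowers, Submonoid.mem_powers_iff] at h2
    obtain ⟨i, hi⟩ := h2
    refine ⟨i, q, ?_⟩
    rw [← hz, hi]; group
  · rw [← Subgroup.relIndex_mul_index (le_sup_left : L ≤ L ⊔ N), D.relIndex_sup_eq L α hα hLN,
      ← hM, hβ, pow_add]

/-- when two elements in coordinates commute -/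
theorem commute_iff (i j i' j' : ℕ) :
    Commute (D.a ^ i * D.b ^ j) (D.a ^ i' * D.b ^ j') ↔
      D.a ^ (i' * (D.r ^ j - 1)) = D.a ^ (i * (D.r ^ j' - 1)) := by
  rw [← commutatorElement_eq_one_iff_commute, D.comm_formula, mul_inv_eq_one]

theorem dvd_of_mem_zpowers (α e : ℕ) (hα : α ≤ D.m)
    (h : D.a ^ e ∈ Subgroup.zpowers (D.a ^ (p ^ α))) : p ^ α ∣ e := by
  rw [← mem_powers_iff_mem_zpowers, Submonoid.mem_powers_iff] at h
  obtain ⟨c, hc⟩ := h
  rw [← pow_mul, D.a_pow_eq_iff] at hc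
  have h2 : p ^ α * c ≡ e [MOD p ^ α] := hc.of_dvd (pow_dvd_pow p hα)
  exact (h2.dvd_iff dvd_rfl).mp (dvd_mul_right _ _)


include D in
/-- the order of the centralizer of a subgroup containing the centre -/
theorem card_mul_card_centralizer (hp2 : p ≠ 2) (hG : IsPGroup p G) (R : Subgroup G)
    (hZ : Subgroup.center G ≤ R) :
    Nat.card ↥R * Nat.card ↥(Subgroup.centralizer (R : Set G)) =
      Nat.card G * Nat.card ↥(Subgroup.center G) := by
  obtain ⟨α, β, w, hα, hRN, hβ, hzR, hgenR, hidx⟩ := D.exists_sub_coords hG R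
  set N := Subgroup.zpowers D.a with hN
  set J := p ^ β with hJdef
  set T := Subgroup.centralizer (R : Set G) with hT
  have hJ0 : J ≠ 0 := pow_ne_zero _ hp.out.ne_zero
  have hvJ : padicValNat p J = β := padicValNat.prime_pow β
  have haR : D.a ^ (p ^ α) ∈ R := by
    have : D.a ^ (p ^ α) ∈ R ⊓ N := by rw [hRN]; exact Subgroup.mem_zpowers _
    exact this.1
  -- `α ≤ n`
  have hαn : α ≤ D.n := by
    have h1 : D.a ^ (p ^ D.n) ∈ R ⊓ N := by
      refine ⟨hZ ?_, Subgroup.pow_mem _ (Subgroup.mem_zpowers _) _⟩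
      have := (D.pow_mem_center_iff hp2 (p ^ D.n) 0).mpr ⟨dvd_rfl, dvd_zero _⟩
      rwa [pow_zero, mul_one] at this
    rw [hRN] at h1
    have h2 := D.dvd_of_mem_zpowers α _ hα h1
    exact (Nat.pow_dvd_pow_iff_le_right hp.out.one_lt).mp h2
  have hbnZ : D.b ^ (p ^ D.n) ∈ Subgroup.center G := by
    have := (D.pow_mem_center_iff hp2 0 (p ^ D.n)).mpr ⟨dvd_zero _, dvd_rfl⟩
    rwa [pow_zero, one_mul] at this
  -- `β ≤ n`
  have hβn : β ≤ D.n := by
    have h1 : D.b ^ (p ^ D.n) ∈ R ⊔ N := Subgroup.mem_sup_left (hZ hbnZ)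
    rw [D.pow_mem_iff_index_dvd _ le_sup_right, hβ] at h1
    exact (Nat.pow_dvd_pow_iff_le_right hp.out.one_lt).mp h1
  -- membership in the centralizer
  have hmemT : ∀ g : G, g ∈ T ↔ Commute g (D.a ^ (p ^ α)) ∧ Commute g (D.a ^ w * D.b ^ J) := by
    intro g
    constructor
    · intro hg
      rw [hT, Subgroup.mem_centralizer_iff] at hg
      exact ⟨(hg _ haR).symm, (hg _ hzR).symm⟩
    · rintro ⟨h1, h2⟩
      rw [hT, Subgroup.mem_centralizer_iff]
      intro l hl
      obtain ⟨i, q, rfl⟩ := hgenR l hl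
      exact (((h1.pow_right i).mul_right (h2.pow_right q)).eq).symm
  -- the key inequality
  have hkey : w ≠ 0 → α + β ≤ padicValNat p w + D.n := by
    intro hw0
    have hzq := pair_pow D.hconj w J (p ^ (D.n - β))
    have hJn : J * p ^ (D.n - β) = p ^ D.n := by
      rw [hJdef, ← pow_add, Nat.add_sub_cancel' hβn]
    rw [hJn] at hzq
    obtain ⟨hE0, hEv⟩ := D.geom_sum_val hp2 J (D.n - β) hJ0
    set E := ∑ t ∈ Finset.range (p ^ (D.n - β)), (D.r ^ J) ^ t with hE
    have h1 : D.a ^ (w * E) ∈ R ⊓ N := by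
      refine ⟨?_, Subgroup.pow_mem _ (Subgroup.mem_zpowers _) _⟩
      have h2 : D.a ^ (w * E) = (D.a ^ w * D.b ^ J) ^ (p ^ (D.n - β)) * (D.b ^ (p ^ D.n))⁻¹ := by
        rw [hzq]; group
      rw [h2]
      exact R.mul_mem (R.pow_mem hzR _) (R.inv_mem (hZ hbnZ))
    rw [hRN] at h1
    have h3 := D.dvd_of_mem_zpowers α _ hα h1
    rw [padicValNat_dvd_iff_le (Nat.mul_ne_zero hw0 hE0), padicValNat.mul hw0 hE0, hEv] at h3
    omega
  -- `T ⊓ N`
  have hTN : T ⊓ N = Subgroup.zpowers (D.a ^ (p ^ (D.n - β))) := by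
    apply le_antisymm
    · rintro x ⟨hxT, hxN⟩
      obtain ⟨u, rfl⟩ := (D.mem_zpowers_a_iff x).mp hxN
      rcases Nat.eq_zero_or_pos u with rfl | hupos
      · rw [pow_zero]; exact Subgroup.one_mem _
      have hu : u ≠ 0 := hupos.ne'
      have h1 := ((hmemT _).mp hxT).2
      have h2 : Commute (D.a ^ u * D.b ^ 0) (D.a ^ w * D.b ^ J) := by
        rwa [pow_zero, mul_one]
      rw [D.commute_iff, pow_zero, Nat.sub_self, mul_zero, pow_zero] at h2
      have h3 := (D.a_pow_mul_eq_one_iff hp2 u J hu hJ0).mp h2.symm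
      rw [hvJ] at h3
      have h4 : p ^ (D.n - β) ∣ u := (padicValNat_dvd_iff_le hu).mpr (by omega)
      obtain ⟨c, rfl⟩ := h4
      rw [pow_mul]
      exact Subgroup.pow_mem _ (Subgroup.mem_zpowers _) _
    · rw [Subgroup.zpowers_le]
      refine ⟨?_, Subgroup.pow_mem _ (Subgroup.mem_zpowers _) _⟩
      show D.a ^ p ^ (D.n - β) ∈ T
      rw [hmemT]
      refine ⟨(Commute.refl D.a).pow_pow _ _, ?_⟩
      have h2 : Commute (D.a ^ (p ^ (D.n - β)) * D.b ^ 0) (D.a ^ w * D.b ^ J) := by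
        rw [D.commute_iff, pow_zero, Nat.sub_self, mul_zero, pow_zero]
        symm
        rw [D.a_pow_mul_eq_one_iff hp2 _ J (pow_ne_zero _ hp.out.ne_zero) hJ0, hvJ,
          padicValNat.prime_pow]
        omega
      rwa [pow_zero, mul_one] at h2
  -- index of `T ⊔ N`
  have hTNidx : (T ⊔ N).index = p ^ (D.n - α) := by
    apply D.index_eq_of_pow_mem_iff _ le_sup_right
    intro j
    constructor
    · intro hj
      have hle : T ⊔ N ≤ Subgroup.centralizer {D.a ^ (p ^ α)} := by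
        apply sup_le
        · intro g hg
          rw [Subgroup.mem_centralizer_iff]
          intro y hy
          rw [Set.mem_singleton_iff] at hy
          rw [hy]
          exact (((hmemT g).mp hg).1).eq.symm
        · rw [hN, Subgroup.zpowers_le, Subgroup.mem_centralizer_iff]
          intro y hy
          rw [Set.mem_singleton_iff] at hy
          rw [hy]
          exact ((Commute.refl D.a).pow_left _).eq
      have h1 := hle hj
      rw [Subgroup.mem_centralizer_iff] at h1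
      have h2 : Commute (D.a ^ 0 * D.b ^ j) (D.a ^ (p ^ α) * D.b ^ 0) := by
        rw [pow_zero, one_mul, pow_zero, mul_one]
        exact (h1 _ rfl).symm
      rw [D.commute_iff, pow_zero, Nat.sub_self, mul_zero, pow_zero] at h2
      rcases Nat.eq_zero_or_pos j with rfl | hjpos
      · exact dvd_zero _
      have hj0 : j ≠ 0 := hjpos.ne'
      have h3 := (D.a_pow_mul_eq_one_iff hp2 _ j (pow_ne_zero _ hp.out.ne_zero) hj0).mp h2
      rw [padicValNat.prime_pow] at h3
      exact (padicValNat_dvd_iff_le hj0).mpr (by omega)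
    · intro hj
      -- find `u` with `a ^ u * b ^ j ∈ T`
      have hex : ∃ u : ℕ, D.a ^ u * D.b ^ j ∈ T := by
        rcases Nat.eq_zero_or_pos j with rfl | hjpos
        · refine ⟨0, ?_⟩
          rw [pow_zero, pow_zero, mul_one]; exact T.one_mem
        have hj0 : j ≠ 0 := hjpos.ne'
        have hvj : D.n - α ≤ padicValNat p j := (padicValNat_dvd_iff_le hj0).mp hj
        have hcomm1 : ∀ u : ℕ, Commute (D.a ^ u * D.b ^ j) (D.a ^ (p ^ α)) := by
          intro u
          have h2 : Commute (D.a ^ u * D.b ^ j) (D.a ^ (p ^ α) * D.b ^ 0) := by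
            rw [D.commute_iff, pow_zero, Nat.sub_self, mul_zero, pow_zero,
              D.a_pow_mul_eq_one_iff hp2 _ j (pow_ne_zero _ hp.out.ne_zero) hj0,
              padicValNat.prime_pow]
            omega
          rwa [pow_zero, mul_one] at h2
        rcases Nat.eq_zero_or_pos w with hw0 | hwpos
        · refine ⟨0, ?_⟩
          rw [hmemT]
          refine ⟨hcomm1 0, ?_⟩
          rw [D.commute_iff, hw0, zero_mul, zero_mul]
        have hw0 : w ≠ 0 := hwpos.ne'
        have hk := hkey hw0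
        -- `a ^ (w (r^j - 1))` is a power of `a ^ (r^J - 1)`
        have hne : w * (D.r ^ j - 1) ≠ 0 := Nat.mul_ne_zero hw0 (D.r_pow_sub_one_ne_zero j hj0)
        have hdvd : p ^ (D.v0 + β) ∣ w * (D.r ^ j - 1) := by
          rw [padicValNat_dvd_iff_le hne, padicValNat.mul hw0 (D.r_pow_sub_one_ne_zero j hj0),
            D.lte hp2 j hj0]
          omega
        have hmem : D.a ^ (w * (D.r ^ j - 1)) ∈ Subgroup.zpowers (D.a ^ (D.r ^ J - 1)) := by
          rw [D.zpowers_a_pow_eq _ (D.r_pow_sub_one_ne_zero J hJ0), D.lte hp2 J hJ0, hvJ]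
          obtain ⟨c, hc⟩ := hdvd
          rw [hc, pow_mul]
          exact Subgroup.pow_mem _ (Subgroup.mem_zpowers _) _
        rw [← mem_powers_iff_mem_zpowers, Submonoid.mem_powers_iff] at hmem
        obtain ⟨u, hu⟩ := hmem
        refine ⟨u, ?_⟩
        rw [hmemT]
        refine ⟨hcomm1 u, ?_⟩
        rw [D.commute_iff, ← hu, ← pow_mul, mul_comm]
      obtain ⟨u, hu⟩ := hex
      have h1 : D.b ^ j = (D.a ^ u)⁻¹ * (D.a ^ u * D.b ^ j) := by group
      rw [h1]
      exact Subgroup.mul_mem _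
        (Subgroup.inv_mem _ (Subgroup.mem_sup_right (Subgroup.pow_mem _ (Subgroup.mem_zpowers _) _)))
        (Subgroup.mem_sup_left hu)
  -- the index of `T`
  have hTidx : T.index = p ^ (D.n - β) * p ^ (D.n - α) := by
    rw [← Subgroup.relIndex_mul_index (le_sup_left : T ≤ T ⊔ N),
      D.relIndex_sup_eq T (D.n - β) (le_trans (Nat.sub_le _ _) D.n_le_m) hTN, hTNidx]
  -- cardinalities
  have c1 := Subgroup.card_mul_index R
  have c2 := Subgroup.card_mul_index T
  have c3 := Subgroup.card_mul_index (Subgroup.center G)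
  rw [hidx] at c1
  rw [hTidx] at c2
  rw [D.index_center hp2] at c3
  have e1 : p ^ (α + β) * (p ^ (D.n - β) * p ^ (D.n - α)) = p ^ D.n * p ^ D.n := by
    rw [← pow_add, ← pow_add, ← pow_add]
    congr 1
    omega
  have h4 : (Nat.card ↥R * Nat.card ↥T) * (p ^ D.n * p ^ D.n) =
      (Nat.card G * Nat.card ↥(Subgroup.center G)) * (p ^ D.n * p ^ D.n) := by
    calc (Nat.card ↥R * Nat.card ↥T) * (p ^ D.n * p ^ D.n)
        = (Nat.card ↥R * p ^ (α + β)) * (Nat.card ↥T * (p ^ (D.n - β) * p ^ (D.n - α))) := by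
          rw [← e1]; ring
      _ = Nat.card G * Nat.card G := by rw [c1, c2]
      _ = (Nat.card G * Nat.card ↥(Subgroup.center G)) * (p ^ D.n * p ^ D.n) := by
          rw [mul_assoc, c3]
  exact Nat.eq_of_mul_eq_mul_right (Nat.mul_pos (pow_pos hp.out.pos _) (pow_pos hp.out.pos _)) h4


theorem centralizer_sup_center {X : Type*} [Group X] (R : Subgroup X) :
    Subgroup.centralizer ((R ⊔ Subgroup.center X : Subgroup X) : Set X) =
      Subgroup.centralizer (R : Set X) := by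
  apply le_antisymm
  · exact Subgroup.centralizer_le (le_sup_left : R ≤ R ⊔ Subgroup.center X)
  · rw [Subgroup.le_centralizer_iff]
    apply sup_le
    · rw [← Subgroup.le_centralizer_iff]
    · exact Subgroup.center_le_centralizer _

include D in
/-- `|R| |C(R)| ≤ |G| |Z(G)|`, with equality exactly for `R ≥ Z(G)` -/
theorem card_mul_card_centralizer_le (hp2 : p ≠ 2) (hG : IsPGroup p G) (R : Subgroup G) :
    Nat.card ↥R * Nat.card ↥(Subgroup.centralizer (R : Set G)) ≤
        Nat.card G * Nat.card ↥(Subgroup.center G) ∧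
      (Nat.card ↥R * Nat.card ↥(Subgroup.centralizer (R : Set G)) =
        Nat.card G * Nat.card ↥(Subgroup.center G) ↔ Subgroup.center G ≤ R) := by
  have h1 := D.card_mul_card_centralizer hp2 hG (R ⊔ Subgroup.center G) le_sup_right
  rw [centralizer_sup_center] at h1
  have hle : Nat.card ↥R ≤ Nat.card ↥(R ⊔ Subgroup.center G : Subgroup G) :=
    Subgroup.card_le_of_le le_sup_left
  have hpos : 0 < Nat.card ↥(Subgroup.centralizer (R : Set G)) := Nat.card_pos
  refine ⟨?_, ?_, ?_⟩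
  · rw [← h1]
    exact Nat.mul_le_mul_right _ hle
  · intro h
    rw [← h1] at h
    have h2 : Nat.card ↥R = Nat.card ↥(R ⊔ Subgroup.center G : Subgroup G) :=
      Nat.eq_of_mul_eq_mul_right hpos h
    have h3 : R = R ⊔ Subgroup.center G := Subgroup.eq_of_le_of_card_ge le_sup_left h2.ge
    rw [h3]
    exact le_sup_right
  · intro h
    exact D.card_mul_card_centralizer hp2 hG R h

include D in
theorem maxCentralizerProduct_eq (hp2 : p ≠ 2) (hG : IsPGroup p G) :
    Cfsg.maxCentralizerProduct G = Nat.card G * Nat.card ↥(Subgroup.center G) := by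
  unfold Cfsg.maxCentralizerProduct
  apply IsGreatest.csSup_eq
  constructor
  · refine ⟨⊤, ?_⟩
    rw [Subgroup.card_top, Subgroup.coe_top, Subgroup.centralizer_univ]
  · rintro k ⟨R, rfl⟩
    exact (D.card_mul_card_centralizer_le hp2 hG R).1

include D in
theorem isCentralizerLarge_iff (hp2 : p ≠ 2) (hG : IsPGroup p G) (R : Subgroup G) :
    Cfsg.IsCentralizerLarge R ↔ Subgroup.center G ≤ R := by
  unfold Cfsg.IsCentralizerLarge
  rw [D.maxCentralizerProduct_eq hp2 hG]
  exact (D.card_mul_card_centralizer_le hp2 hG R).2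

end Fin4
end MC
end Cfsg.Agent.Lib.Helper20
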