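import Cfsg.Agent.Lib.Helper20.Metacyclic4

namespace Cfsg.Agent.Lib.Helper20

/-- a geometric sum over a product range -/
theorem geom_sum_mul_range {R : Type*} [CommRing R] (x : R) (q n : ℕ) :
    ∑ t ∈ Finset.range (q * n), x ^ t =
      (∑ s ∈ Finset.range q, x ^ s) * ∑ u ∈ Finset.range n, (x ^ q) ^ u := by
  induction n with
  | zero => simp
  | succ n ih =>
    rw [Nat.mul_succ, Finset.sum_range_add, ih, Finset.sum_range_succ, mul_add]
    congr 1
    rw [Finset.sum_mul, ← pow_mul]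
    apply Finset.sum_congr rfl
    intro s _
    rw [pow_add, mul_comm]

/-- `1 + S + ⋯ + S ^ (p - 1) ≡ p (mod p ^ (ν + 1))` when `S ≡ 1 (mod p ^ ν)` -/
theorem geom_sum_prime_sub (p : ℕ) (hp : p.Prime) (hp2 : p ≠ 2) (ν : ℕ) (hν : 1 ≤ ν) (S : ℤ)
    (hS : (p : ℤ) ^ ν ∣ S - 1) :
    (p : ℤ) ^ (ν + 1) ∣ (∑ u ∈ Finset.range p, S ^ u) - p := by
  have : Fact p.Prime := ⟨hp⟩
  have h1 : (∑ u ∈ Finset.range p, S ^ u) - p =
      (S - 1) * ∑ u ∈ Finset.range p, ∑ i ∈ Finset.range u, S ^ i := by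
    rw [Finset.mul_sum]
    have : (p : ℤ) = ∑ u ∈ Finset.range p, (1 : ℤ) := by simp
    rw [this, ← Finset.sum_sub_distrib]
    apply Finset.sum_congr rfl
    intro u _
    rw [mul_comm, geom_sum_mul]
  rw [h1, pow_succ]
  apply mul_dvd_mul hS
  have hpS : (p : ℤ) ∣ S - 1 := dvd_trans (dvd_pow_self _ (by omega)) hS
  have hS1 : ((S : ℤ) : ZMod p) = 1 := by
    have := (ZMod.intCast_zmod_eq_zero_iff_dvd (S - 1) p).mpr hpS
    push_cast at this
    exact sub_eq_zero.mp this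
  rw [← ZMod.intCast_zmod_eq_zero_iff_dvd]
  push_cast
  rw [hS1]
  simp only [one_pow, Finset.sum_const, Finset.card_range, nsmul_eq_mul, mul_one]
  rw [← Nat.cast_sum, ZMod.natCast_eq_zero_iff]
  have h2 := Finset.sum_range_id_mul_two p
  have h3 : p ∣ (∑ i ∈ Finset.range p, i) * 2 := by rw [h2]; exact dvd_mul_right _ _
  have hcop : Nat.Coprime p 2 := (Nat.coprime_primes hp Nat.prime_two).mpr hp2
  exact hcop.dvd_of_dvd_mul_right h3

/-- `1 + R + ⋯ + R ^ (p ^ τ - 1) ≡ p ^ τ (mod p ^ (τ + μ))` when `R ≡ 1 (mod p ^ μ)` -/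
theorem geom_sum_prime_pow_sub (p : ℕ) (hp : p.Prime) (hp2 : p ≠ 2) (μ : ℕ) (hμ : 1 ≤ μ) (R : ℤ)
    (hR : (p : ℤ) ^ μ ∣ R - 1) (τ : ℕ) :
    (p : ℤ) ^ (τ + μ) ∣ (∑ t ∈ Finset.range (p ^ τ), R ^ t) - (p : ℤ) ^ τ := by
  induction τ with
  | zero => simp
  | succ τ ih =>
    set q := p ^ τ with hq
    set E := ∑ t ∈ Finset.range q, R ^ t with hE
    set S := R ^ q with hSdef
    set F := ∑ u ∈ Finset.range p, S ^ u with hF
    have hprod : ∑ t ∈ Finset.range (p ^ (τ + 1)), R ^ t = E * F := by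
      rw [pow_succ, geom_sum_mul_range]
    -- `p ^ τ ∣ E`
    have hEq : (p : ℤ) ^ τ ∣ E := by
      have h1 : (p : ℤ) ^ τ ∣ E - (p : ℤ) ^ τ := dvd_trans (pow_dvd_pow _ (Nat.le_add_right _ _)) ih
      have := dvd_add h1 (dvd_refl ((p : ℤ) ^ τ))
      rwa [sub_add_cancel] at this
    -- `p ^ (τ + μ) ∣ S - 1`
    have hS1 : (p : ℤ) ^ (τ + μ) ∣ S - 1 := by
      have : S - 1 = E * (R - 1) := by rw [hSdef, hE, geom_sum_mul]
      rw [this, pow_add]
      exact mul_dvd_mul hEq hR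
    have hFp := geom_sum_prime_sub p hp hp2 (τ + μ) (by omega) S hS1
    have hpF : (p : ℤ) ∣ F := by
      have h1 : (p : ℤ) ∣ F - p := dvd_trans (dvd_pow_self _ (by omega)) hFp
      have := dvd_add h1 (dvd_refl (p : ℤ))
      rwa [sub_add_cancel] at this
    rw [hprod]
    have e : E * F - (p : ℤ) ^ (τ + 1) = (E - (p : ℤ) ^ τ) * F + (p : ℤ) ^ τ * (F - p) := by
      rw [pow_succ]; ring
    rw [e]
    apply dvd_add
    · have : (p : ℤ) ^ (τ + 1 + μ) = (p : ℤ) ^ (τ + μ) * p := by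
        rw [← pow_succ]; congr 1; omega
      rw [this]
      exact mul_dvd_mul ih hpF
    · have : (p : ℤ) ^ (τ + 1 + μ) ∣ (p : ℤ) ^ τ * (p : ℤ) ^ (τ + μ + 1) := by
        rw [← pow_add]
        apply pow_dvd_pow
        omega
      exact dvd_trans this (mul_dvd_mul_left _ hFp)


namespace MC

variable {G : Type*} [Group G] {p : ℕ} (D : MC p G)

set_option linter.unusedSectionVars false

section Fin5
variable [Finite G] [hp : Fact p.Prime]

/-- the valuation of a geometric sum -/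
theorem geom_sum_val' (hp2 : p ≠ 2) (c j : ℕ) (hc : c ≠ 0) (hj : j ≠ 0) :
    (∑ t ∈ Finset.range j, (D.r ^ c) ^ t) ≠ 0 ∧
    padicValNat p (∑ t ∈ Finset.range j, (D.r ^ c) ^ t) = padicValNat p j := by
  have h1 := geom_sum_mul_of_one_le (D.r_pow_pos c) j
  rw [← pow_mul] at h1
  have hcj : c * j ≠ 0 := Nat.mul_ne_zero hc hj
  have hS : ∑ t ∈ Finset.range j, (D.r ^ c) ^ t ≠ 0 := by
    intro h0
    rw [h0, zero_mul] at h1
    exact D.r_pow_sub_one_ne_zero _ hcj h1.symm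
  have h2 := congrArg (padicValNat p) h1
  rw [padicValNat.mul hS (D.r_pow_sub_one_ne_zero c hc), D.lte hp2 c hc, D.lte hp2 _ hcj,
    padicValNat.mul hc hj] at h2
  exact ⟨hS, by omega⟩

/-- the fine congruence for geometric sums, as an identity of powers of `a` -/
theorem a_pow_geom_sum (hp2 : p ≠ 2) (c τ μ : ℕ) (hμ1 : 1 ≤ μ) (hμ : p ^ μ ∣ D.r ^ c - 1)
    (hm : D.m ≤ τ + μ) :
    D.a ^ (∑ t ∈ Finset.range (p ^ τ), (D.r ^ c) ^ t) = D.a ^ (p ^ τ) := by
  rw [D.a_pow_eq_iff, Nat.modEq_iff_dvd]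
  have hR : (p : ℤ) ^ μ ∣ ((D.r ^ c : ℕ) : ℤ) - 1 := by
    have h1 : ((D.r ^ c - 1 : ℕ) : ℤ) = ((D.r ^ c : ℕ) : ℤ) - 1 := by
      rw [Nat.cast_sub (D.r_pow_pos c)]; simp
    rw [← h1]
    exact_mod_cast hμ
  have h := geom_sum_prime_pow_sub p hp.out hp2 μ hμ1 _ hR τ
  rw [← dvd_neg, neg_sub] at h
  push_cast at h ⊢
  exact dvd_trans (pow_dvd_pow _ hm) h


/-- `(a ^ x * b) ^ j ∈ ⟨a⟩` iff the index of `⟨a⟩` divides `j` -/
theorem pow_mem_zpowers_iff (x j : ℕ) :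
    (D.a ^ x * D.b) ^ j ∈ Subgroup.zpowers D.a ↔ (Subgroup.zpowers D.a).index ∣ j := by
  have h1 := pair_pow D.hconj x 1 j
  rw [pow_one, one_mul] at h1
  rw [h1, ← D.pow_mem_iff_index_dvd _ le_rfl]
  set N := Subgroup.zpowers D.a
  have ha : D.a ^ (x * ∑ t ∈ Finset.range j, (D.r ^ 1) ^ t) ∈ N :=
    Subgroup.pow_mem _ (Subgroup.mem_zpowers _) _
  constructor
  · intro h
    have := N.mul_mem (N.inv_mem ha) h
    rwa [inv_mul_cancel_left] at this
  · intro h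
    exact N.mul_mem ha h

include D in
/-- a metacyclic `p`-group, `p` odd, is a product of two cyclic subgroups with trivial
intersection -/
theorem exists_factorization (hp2 : p ≠ 2) (hG : IsPGroup p G) :
    ∃ A B : Subgroup G, IsCyclic ↥A ∧ IsCyclic ↥B ∧ A ⊓ B = ⊥ ∧
      Nat.card ↥A * Nat.card ↥B = Nat.card G := by
  set N := Subgroup.zpowers D.a with hN
  set κ := N.index with hκ
  have hκk : ∃ k : ℕ, κ = p ^ k := by
    obtain ⟨e, he⟩ := hG.exists_card_eq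
    have hdvd : κ ∣ Nat.card G := Subgroup.index_dvd_card N
    rw [he] at hdvd
    obtain ⟨k, _, hk⟩ := (Nat.dvd_prime_pow hp.out).mp hdvd
    exact ⟨k, hk⟩
  obtain ⟨k, hk⟩ := hκk
  have hbκ : D.b ^ κ ∈ N := (D.pow_mem_iff_index_dvd N le_rfl κ).mpr dvd_rfl
  obtain ⟨t, ht⟩ := (D.mem_zpowers_a_iff _).mp hbκ
  have hcardG : Nat.card ↥N * κ = Nat.card G := Subgroup.card_mul_index N
  have hcardN : Nat.card ↥N = p ^ D.m := D.card_zpowers_a
  -- first case: `b` can be corrected to have order `κ`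
  have caseA : (∃ x : ℕ, (D.a ^ x * D.b) ^ κ = 1) →
      ∃ A B : Subgroup G, IsCyclic ↥A ∧ IsCyclic ↥B ∧ A ⊓ B = ⊥ ∧
        Nat.card ↥A * Nat.card ↥B = Nat.card G := by
    rintro ⟨x, hx⟩
    set b₁ := D.a ^ x * D.b with hb₁
    refine ⟨N, Subgroup.zpowers b₁, inferInstance, inferInstance, ?_, ?_⟩
    · rw [eq_bot_iff]
      rintro g ⟨hgN, hgB⟩
      change g ∈ N at hgN
      change g ∈ Subgroup.zpowers b₁ at hgB
      rw [← mem_powers_iff_mem_zpowers, Submonoid.mem_powers_iff] at hgB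
      obtain ⟨j, rfl⟩ := hgB
      have h1 := (D.pow_mem_zpowers_iff x j).mp hgN
      obtain ⟨j', rfl⟩ := h1
      rw [Subgroup.mem_bot, pow_mul, hx, one_pow]
    · have hord : orderOf b₁ = κ := by
        apply Nat.dvd_antisymm
        · exact orderOf_dvd_of_pow_eq_one hx
        · apply (D.pow_mem_zpowers_iff x (orderOf b₁)).mp
          rw [pow_orderOf_eq_one]
          exact N.one_mem
      rw [← hcardG]
      congr 1
      rw [Nat.card_zpowers, hord]
  by_cases hat : D.a ^ t = 1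
  · apply caseA
    refine ⟨0, ?_⟩
    rw [pow_zero, one_mul, ht, hat]
  have ht0 : t ≠ 0 := by
    rintro rfl
    exact hat (pow_zero _)
  set τ := padicValNat p t with hτ
  have hτm : τ < D.m := by
    by_contra hcon
    push Not at hcon
    exact hat ((D.a_pow_eq_one_iff_le t ht0).mpr hcon)
  by_cases hkτ : k ≤ τ
  · -- correct `b`
    apply caseA
    obtain ⟨hE0, hEv⟩ := D.geom_sum_val hp2 1 k one_ne_zero
    rw [← hk] at hE0 hEv
    set E := ∑ s ∈ Finset.range κ, (D.r ^ 1) ^ s with hE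
    have hz : Subgroup.zpowers (D.a ^ E) = Subgroup.zpowers (D.a ^ (p ^ k)) := by
      rw [D.zpowers_a_pow_eq E hE0, hEv]
    have hmem : (D.a ^ t)⁻¹ ∈ Subgroup.zpowers (D.a ^ E) := by
      rw [hz]
      apply Subgroup.inv_mem
      have hdvd : p ^ k ∣ t := (padicValNat_dvd_iff_le ht0).mpr hkτ
      obtain ⟨c, rfl⟩ := hdvd
      rw [pow_mul]
      exact Subgroup.pow_mem _ (Subgroup.mem_zpowers _) _
    rw [← mem_powers_iff_mem_zpowers, Submonoid.mem_powers_iff] at hmem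
    obtain ⟨x, hx⟩ := hmem
    refine ⟨x, ?_⟩
    have h1 := pair_pow D.hconj x 1 κ
    rw [pow_one, one_mul] at h1
    rw [h1, ← hE, mul_comm x E, pow_mul, hx, ht, inv_mul_cancel]
  -- second case: correct `a`
  push Not at hkτ
  have hnτ : D.n ≤ τ := by
    have hc : D.a ^ t * D.b = D.b * D.a ^ t := by
      rw [← ht, ← pow_succ, ← pow_succ']
    have := (D.a_pow_comm_b_iff hp2 t).mp hc
    exact (padicValNat_dvd_iff_le ht0).mp this
  have hnk : D.n ≤ k := by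
    have := D.pow_n_dvd_index hp2
    rw [← hN, ← hκ, hk] at this
    exact (Nat.pow_dvd_pow_iff_le_right hp.out.one_lt).mp this
  have hzt : Subgroup.zpowers (D.a ^ t) = Subgroup.zpowers (D.a ^ (p ^ τ)) :=
    D.zpowers_a_pow_eq t ht0
  have hmem : (D.a ^ (p ^ τ))⁻¹ ∈ Subgroup.zpowers (D.a ^ t) := by
    rw [hzt]
    exact Subgroup.inv_mem _ (Subgroup.mem_zpowers _)
  rw [← mem_powers_iff_mem_zpowers, Submonoid.mem_powers_iff] at hmem
  obtain ⟨c', hc'⟩ := hmem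
  have hc'0 : c' ≠ 0 := by
    rintro rfl
    rw [pow_zero] at hc'
    have h1 : D.a ^ (p ^ τ) = 1 := by
      rw [← inv_inj, ← hc', inv_one]
    rw [D.a_pow_eq_one_iff_le _ (pow_ne_zero _ hp.out.ne_zero), padicValNat.prime_pow] at h1
    omega
  set c := p ^ (k - τ) * c' with hc
  have hc0 : c ≠ 0 := Nat.mul_ne_zero (pow_ne_zero _ hp.out.ne_zero) hc'0
  have hcτ : c * p ^ τ = κ * c' := by
    rw [hc, hk]
    have : p ^ k = p ^ (k - τ) * p ^ τ := by rw [← pow_add, Nat.sub_add_cancel hkτ.le]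
    rw [this]; ring
  set a₁ := D.a * D.b ^ c with ha₁
  have hpow : ∀ j : ℕ, a₁ ^ j = D.a ^ (∑ s ∈ Finset.range j, (D.r ^ c) ^ s) * D.b ^ (c * j) := by
    intro j
    have h1 := pair_pow D.hconj 1 c j
    rw [pow_one, one_mul] at h1
    exact h1
  -- `a₁ ^ (p ^ τ) = 1`
  have ha₁pow : a₁ ^ (p ^ τ) = 1 := by
    rw [hpow]
    have hμ : p ^ (D.v0 + (k - τ)) ∣ D.r ^ c - 1 := by
      rw [padicValNat_dvd_iff_le (D.r_pow_sub_one_ne_zero c hc0), D.lte hp2 c hc0, hc,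
        padicValNat.mul (pow_ne_zero _ hp.out.ne_zero) hc'0, padicValNat.prime_pow]
      omega
    have hm : D.m ≤ τ + (D.v0 + (k - τ)) := by
      have := (D.m_le_iff k).mpr hnk
      omega
    rw [D.a_pow_geom_sum hp2 c τ (D.v0 + (k - τ)) (by have := D.one_le_v0; omega) hμ hm,
      hcτ, pow_mul, ht, hc', mul_inv_cancel]
  -- the intersection of `⟨a⟩` and `⟨b⟩`
  have hNb : ∀ l : ℕ, D.b ^ l ∈ N → D.b ^ l ∈ Subgroup.zpowers (D.a ^ (p ^ τ)) := by
    intro l hl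
    rw [D.pow_mem_iff_index_dvd N le_rfl] at hl
    obtain ⟨l', rfl⟩ := hl
    rw [← hκ, pow_mul, ht, ← hzt]
    exact Subgroup.pow_mem _ (Subgroup.mem_zpowers _) _
  -- powers of `a₁` in `⟨b⟩`
  have hH2 : ∀ j : ℕ, a₁ ^ j ∈ Subgroup.zpowers D.b → p ^ τ ∣ j := by
    intro j hj
    rcases Nat.eq_zero_or_pos j with rfl | hjpos
    · exact dvd_zero _
    have hj0 : j ≠ 0 := hjpos.ne'
    rw [hpow] at hj
    set Ej := ∑ s ∈ Finset.range j, (D.r ^ c) ^ s with hEj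
    have h1 : D.a ^ Ej ∈ Subgroup.zpowers D.b := by
      have := Subgroup.mul_mem _ hj (Subgroup.inv_mem _ (Subgroup.pow_mem _ (Subgroup.mem_zpowers D.b) (c * j)))
      rwa [mul_inv_cancel_right] at this
    have h1' := h1
    rw [← mem_powers_iff_mem_zpowers, Submonoid.mem_powers_iff] at h1
    obtain ⟨l, hl⟩ := h1
    have h2 : D.b ^ l ∈ N := by rw [hl]; exact Subgroup.pow_mem _ (Subgroup.mem_zpowers _) _
    have h3 := hNb l h2
    rw [hl] at h3
    have h4 := D.dvd_of_mem_zpowers τ Ej hτm.le h3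
    obtain ⟨hEj0, hEjv⟩ := D.geom_sum_val' hp2 c j hc0 hj0
    rw [padicValNat_dvd_iff_le hEj0, hEjv] at h4
    exact (padicValNat_dvd_iff_le hj0).mpr h4
  refine ⟨Subgroup.zpowers a₁, Subgroup.zpowers D.b, inferInstance, inferInstance, ?_, ?_⟩
  · rw [eq_bot_iff]
    rintro g ⟨hgA, hgB⟩
    change g ∈ Subgroup.zpowers a₁ at hgA
    change g ∈ Subgroup.zpowers D.b at hgB
    rw [← mem_powers_iff_mem_zpowers, Submonoid.mem_powers_iff] at hgA
    obtain ⟨j, rfl⟩ := hgA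
    obtain ⟨j', rfl⟩ := hH2 j hgB
    rw [Subgroup.mem_bot, pow_mul, ha₁pow, one_pow]
  · have hordA : orderOf a₁ = p ^ τ := by
      apply Nat.dvd_antisymm
      · exact orderOf_dvd_of_pow_eq_one ha₁pow
      · apply hH2
        rw [pow_orderOf_eq_one]
        exact Subgroup.one_mem _
    have hordat : orderOf (D.a ^ t) = p ^ (D.m - τ) := by
      rw [D.orderOf_a_pow t ht0, ← hτ, min_eq_left hτm.le]
    have hordB : orderOf D.b = κ * p ^ (D.m - τ) := by
      apply Nat.dvd_antisymm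
      · apply orderOf_dvd_of_pow_eq_one
        rw [pow_mul, ht, ← hordat, pow_orderOf_eq_one]
      · have h1 : D.b ^ orderOf D.b ∈ N := by
          rw [pow_orderOf_eq_one]; exact N.one_mem
        rw [D.pow_mem_iff_index_dvd N le_rfl, ← hκ] at h1
        obtain ⟨o', ho'⟩ := h1
        have h2 : (D.a ^ t) ^ o' = 1 := by
          rw [← ht, ← pow_mul, ← ho', pow_orderOf_eq_one]
        have h3 := orderOf_dvd_of_pow_eq_one h2
        rw [hordat] at h3
        rw [ho']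
        exact Nat.mul_dvd_mul_left _ h3
    rw [Nat.card_zpowers, Nat.card_zpowers, hordA, hordB, ← hcardG, hcardN]
    have : p ^ D.m = p ^ τ * p ^ (D.m - τ) := by
      rw [← pow_add, Nat.add_sub_cancel' hτm.le]
    rw [this]; ring

end Fin5
end MC
end Cfsg.Agent.Lib.Helper20
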