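import Mathlib
import Cfsg.Agent.Lib.helper7.NCV.Defs
import Cfsg.Agent.Lib.Helper1.NCVA5core

/-!
# Project NCV, row A10 (helper20), CORRECTED statement: `lr_col` with the extra hypothesis
`huv : u *ᵥ v = v` (the Skel statement without it is false, see helper1's counterexample).
-/

set_option autoImplicit false

namespace Cfsg.Agent.Lib.helper7.NCV

open Matrix

universe u

variable {F : Type u} [Field F] {n : ℕ}

/-- **A10 (LRCOL)** with `huv`. -/
theorem ncva10_core (X : Subgroup (GL (Fin n) F)) [Group.IsNilpotent ↥X] (u : GL (Fin n) F)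
    (hu : u ∈ X) (v : Fin n → F) (huv : (u : Matrix (Fin n) (Fin n) F) *ᵥ v = v)
    (hfix : ∀ w : Fin n → F, (u : Matrix (Fin n) (Fin n) F) *ᵥ w = w → ∃ c : F, w = c • v)
    (heig : ∀ (c : F) (w : Fin n → F), w ≠ 0 →
      (u : Matrix (Fin n) (Fin n) F) *ᵥ w = c • w → c = 1) :
    X ≤ stab v := by
  intro x hx
  have key := ncva5_core (F := F) (Γ := ↥X) (V := Fin n → F)
    (fun (y : ↥X) (w : Fin n → F) => ((y : GL (Fin n) F) : Matrix (Fin n) (Fin n) F) *ᵥ w)
    (by intro w; simp)
    (by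
      intro a b w
      show (((a * b : ↥X) : GL (Fin n) F) : Matrix (Fin n) (Fin n) F) *ᵥ w = _
      rw [Subgroup.coe_mul, Units.val_mul, ← Matrix.mulVec_mulVec])
    (by
      intro a c w
      exact Matrix.mulVec_smul _ c w)
    ⟨u, hu⟩ v huv hfix heig ⟨x, hx⟩
  exact key

end Cfsg.Agent.Lib.helper7.NCV
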