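import Mathlib
import Cfsg.Agent.Lib.helper7.NCV.Defs
import Cfsg.Agent.Lib.Helper20.NCVA10core

/-!
# Project NCV, row A10 (helper20): `lr_col`, verbatim (patched Skel of 03:06Z, with `huv`).
-/

set_option autoImplicit false

namespace Cfsg.Agent.Lib.helper7.NCV

open Matrix

universe u

variable {F : Type u} [Field F] {n : ℕ}

theorem lr_col (X : Subgroup (GL (Fin n) F)) [Group.IsNilpotent ↥X] (u : GL (Fin n) F)
    (hu : u ∈ X) (v : Fin n → F) (huv : (u : Matrix (Fin n) (Fin n) F) *ᵥ v = v)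
    (hfix : ∀ w : Fin n → F, (u : Matrix (Fin n) (Fin n) F) *ᵥ w = w → ∃ c : F, w = c • v)
    (heig : ∀ (c : F) (w : Fin n → F), w ≠ 0 →
      (u : Matrix (Fin n) (Fin n) F) *ᵥ w = c • w → c = 1) :
    X ≤ stab v :=
  ncva10_core X u hu v huv hfix heig

end Cfsg.Agent.Lib.helper7.NCV
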