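import Mathlib
import Cfsg.Agent.Lib.helper7.NCV.Defs

/-!
# Project NCV, row A6 (helper20): the lift of a nilpotent subgroup is nilpotent.
-/

set_option autoImplicit false

namespace Cfsg.Agent.Lib.helper7.NCV

open Matrix

universe u

variable {F : Type u} [Field F] {n : ℕ}

theorem lift_nilpotent (G : Subgroup (GL (Fin n) F ⧸ Subgroup.center (GL (Fin n) F)))
    (A : Subgroup ↥G) (hA : Group.IsNilpotent ↥A) : Group.IsNilpotent ↥(lift G A) := by
  -- the image of `A` in `GL/Z` is nilpotent
  have hA' : Group.IsNilpotent ↥A := hA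
  have hmap : Group.IsNilpotent ↥(A.map G.subtype) :=
    Group.nilpotent_of_surjective (G.subtype.subgroupMap A) (G.subtype.subgroupMap_surjective A)
  -- the restriction of `prj` to the lift, onto the image
  let f : ↥(lift G A) →* ↥(A.map G.subtype) :=
    ((prj n F).comp (lift G A).subtype).codRestrict (A.map G.subtype) (fun x => x.2)
  refine Subgroup.isNilpotent_of_ker_le_center f ?_
  intro x hx
  rw [MonoidHom.mem_ker] at hx
  have h1 : prj n F (x : GL (Fin n) F) = 1 := by
    have := congrArg Subtype.val hx
    exact this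
  have h2 : (x : GL (Fin n) F) ∈ Subgroup.center (GL (Fin n) F) := by
    rw [QuotientGroup.mk'_apply, QuotientGroup.eq_one_iff] at h1
    exact h1
  rw [Subgroup.mem_center_iff]
  intro g
  apply Subtype.ext
  exact (Subgroup.mem_center_iff.1 h2) (g : GL (Fin n) F)

end Cfsg.Agent.Lib.helper7.NCV
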