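import Mathlib
import Cfsg.Agent.Lib.helper7.NCV.Defs

/-!
# Project NCV, row A7 (helper20): six glue lemmas on `lift` / `down`.
-/

set_option autoImplicit false

namespace Cfsg.Agent.Lib.helper7.NCV

open Matrix

universe u

variable {F : Type u} [Field F] {n : ℕ}

theorem mem_lift_iff (G : Subgroup (GL (Fin n) F ⧸ Subgroup.center (GL (Fin n) F)))
    (A : Subgroup ↥G) (x : GL (Fin n) F) :
    x ∈ lift G A ↔ ∃ h : prj n F x ∈ G, (⟨prj n F x, h⟩ : ↥G) ∈ A := by
  unfold lift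
  rw [Subgroup.mem_comap, Subgroup.mem_map]
  constructor
  · rintro ⟨a, ha, hax⟩
    have h : prj n F x ∈ G := by
      rw [← hax]
      exact a.2
    refine ⟨h, ?_⟩
    have : (⟨prj n F x, h⟩ : ↥G) = a := Subtype.ext hax.symm
    rw [this]
    exact ha
  · rintro ⟨h, hA⟩
    exact ⟨⟨prj n F x, h⟩, hA, rfl⟩

theorem le_down_of_lift_le (G : Subgroup (GL (Fin n) F ⧸ Subgroup.center (GL (Fin n) F)))
    (A : Subgroup ↥G) (H : Subgroup (GL (Fin n) F)) (h : lift G A ≤ H) : A ≤ down G H := by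
  intro a ha
  unfold down
  rw [Subgroup.mem_subgroupOf, Subgroup.mem_map]
  obtain ⟨x, hx⟩ := QuotientGroup.mk'_surjective (Subgroup.center (GL (Fin n) F)) (a : _)
  refine ⟨x, h ?_, hx⟩
  rw [mem_lift_iff]
  have hxG : prj n F x ∈ G := by
    show QuotientGroup.mk' (Subgroup.center (GL (Fin n) F)) x ∈ G
    rw [hx]
    exact a.2
  refine ⟨hxG, ?_⟩
  have : (⟨prj n F x, hxG⟩ : ↥G) = a := Subtype.ext hx
  rw [this]
  exact ha

theorem mem_down_of_mem (G : Subgroup (GL (Fin n) F ⧸ Subgroup.center (GL (Fin n) F)))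
    (H : Subgroup (GL (Fin n) F)) (x : GL (Fin n) F) (hx : prj n F x ∈ G) (hxH : x ∈ H) :
    (⟨prj n F x, hx⟩ : ↥G) ∈ down G H := by
  unfold down
  rw [Subgroup.mem_subgroupOf, Subgroup.mem_map]
  exact ⟨x, hxH, rfl⟩

theorem down_ne_top (G : Subgroup (GL (Fin n) F ⧸ Subgroup.center (GL (Fin n) F)))
    (H : Subgroup (GL (Fin n) F)) (hZ : Subgroup.center (GL (Fin n) F) ≤ H)
    (x : GL (Fin n) F) (hx : prj n F x ∈ G) (hxH : x ∉ H) : down G H ≠ ⊤ := by
  intro htop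
  have h1 : (⟨prj n F x, hx⟩ : ↥G) ∈ down G H := by
    rw [htop]
    exact Subgroup.mem_top _
  unfold down at h1
  rw [Subgroup.mem_subgroupOf, Subgroup.mem_map] at h1
  obtain ⟨y, hyH, hyx⟩ := h1
  have h2 : y⁻¹ * x ∈ Subgroup.center (GL (Fin n) F) := by
    have : (QuotientGroup.mk' (Subgroup.center (GL (Fin n) F))) y =
        (QuotientGroup.mk' (Subgroup.center (GL (Fin n) F))) x := hyx
    rw [QuotientGroup.mk'_apply, QuotientGroup.mk'_apply, QuotientGroup.eq] at this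
    exact this
  apply hxH
  have h3 : x = y * (y⁻¹ * x) := by group
  rw [h3]
  exact H.mul_mem hyH (hZ h2)

theorem exists_rep (G : Subgroup (GL (Fin n) F ⧸ Subgroup.center (GL (Fin n) F))) (g : ↥G) :
    ∃ x : GL (Fin n) F, ∃ hx : prj n F x ∈ G, g = ⟨prj n F x, hx⟩ := by
  obtain ⟨x, hx⟩ := QuotientGroup.mk'_surjective (Subgroup.center (GL (Fin n) F)) (g : _)
  have hxG : prj n F x ∈ G := by
    show QuotientGroup.mk' (Subgroup.center (GL (Fin n) F)) x ∈ G
    rw [hx]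
    exact g.2
  exact ⟨x, hxG, Subtype.ext hx.symm⟩

theorem sl_mem (G : Subgroup (GL (Fin n) F ⧸ Subgroup.center (GL (Fin n) F)))
    (hG : ((Matrix.SpecialLinearGroup.toGL :
      Matrix.SpecialLinearGroup (Fin n) F →* GL (Fin n) F).range).map
      (QuotientGroup.mk' (Subgroup.center (GL (Fin n) F))) ≤ G)
    (y : Matrix.SpecialLinearGroup (Fin n) F) :
    prj n F (Matrix.SpecialLinearGroup.toGL y) ∈ G := by
  apply hG
  rw [Subgroup.mem_map]
  exact ⟨_, ⟨y, rfl⟩, rfl⟩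

end Cfsg.Agent.Lib.helper7.NCV
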