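import Mathlib
import Cfsg.Agent.Lib.helper7.NCV.Defs
import Cfsg.Agent.Lib.helper7.NCVB1

/-!
# Project NCV, row B3 (helper20): the fixed space of `uJ'`.
-/

set_option autoImplicit false

namespace Cfsg.Agent.Lib.helper7.NCV

open Matrix

universe u

variable {F : Type u} [Field F] {n : ℕ}

/-- `sw m` fixes the last index. -/
theorem ncvb3_sw_last (m : ℕ) : sw m (Fin.last (m + 2)) = Fin.last (m + 2) := by
  unfold sw
  apply Equiv.swap_apply_of_ne_of_ne
  · intro h
    have := congrArg Fin.val h
    simp at this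
  · intro h
    have := congrArg Fin.val h
    simp at this

/-- transport of the equation `uJ' *ᵥ w = c • w` to `uJ`. -/
theorem ncvb3_transport (m : ℕ) (c : F) (w : Fin (m + 3) → F) (h : uJ' m *ᵥ w = c • w) :
    uJ m *ᵥ (w ∘ (sw m).symm) = c • (w ∘ (sw m).symm) := by
  unfold uJ' at h
  rw [Matrix.submatrix_mulVec_equiv] at h
  funext i
  have := congrFun h ((sw m).symm i)
  simp only [Function.comp_apply, Equiv.apply_symm_apply, Pi.smul_apply] at this ⊢
  exact this

theorem uJ'_fix (m : ℕ) (w : Fin (m + 3) → F) (h : uJ' m *ᵥ w = w) :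
    ∃ c : F, w = c • (Pi.single (Fin.last (m + 2)) 1 : Fin (m + 3) → F) := by
  have h1 : uJ' m *ᵥ w = (1 : F) • w := by rw [h, one_smul]
  have h2 := ncvb3_transport m 1 w h1
  rw [one_smul] at h2
  obtain ⟨c, hc⟩ := uJ_fix m _ h2
  refine ⟨c, ?_⟩
  funext i
  have := congrFun hc (sw m i)
  simp only [Function.comp_apply, Equiv.symm_apply_apply, Pi.smul_apply, smul_eq_mul] at this ⊢
  rw [this]
  congr 1
  by_cases hi : i = Fin.last (m + 2)
  · rw [hi, ncvb3_sw_last]
  · have hne : sw m i ≠ Fin.last (m + 2) := by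
      intro hh
      apply hi
      have : sw m i = sw m (Fin.last (m + 2)) := by rw [hh, ncvb3_sw_last]
      exact (sw m).injective this
    rw [Pi.single_eq_of_ne hne, Pi.single_eq_of_ne hi]

end Cfsg.Agent.Lib.helper7.NCV
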