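import Mathlib
import Cfsg.Agent.Lib.Helper13.CritAutA
import Cfsg.Agent.Lib.Helper20.RkTwoA

set_option autoImplicit false

/-! Automorphisms of `p`-groups stabilizing a characteristic chain with factors of order at most `p`
(helper20): the commutators and the `(p-1)`-th powers of automorphisms stabilize the chain, and
the stabilizing automorphisms of order prime to `p` act trivially on the chain. -/

namespace Cfsg.Agent.Lib.Helper20.NarrowAut

open scoped commutatorElement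

variable {P : Type*} [Group P]

/-- fixed point counting: if all commutators `k x k⁻¹ x⁻¹` (`k ∈ K`) lie in `H`, then
`|K| ≤ |H| |C_K(x)|`. -/
theorem fp_count [Finite P] (H K : Subgroup P) (x : P) (h : ∀ k ∈ K, k * x * k⁻¹ * x⁻¹ ∈ H) :
    Nat.card K ≤ Nat.card H * Nat.card ↥(K ⊓ Subgroup.centralizer {x}) := by
  classical
  haveI : Fintype ↥K := Fintype.ofFinite _
  haveI : Fintype ↥H := Fintype.ofFinite _
  haveI : Fintype ↥(K ⊓ Subgroup.centralizer {x}) := Fintype.ofFinite _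
  obtain ⟨f, hf⟩ : ∃ f : ↥K → ↥H, ∀ k : ↥K, ((f k : ↥H) : P) = k * x * (k : P)⁻¹ * x⁻¹ :=
    ⟨fun k => ⟨k * x * (k : P)⁻¹ * x⁻¹, h k k.2⟩, fun k => rfl⟩
  have key := Finset.card_le_mul_card_image (f := f) (Finset.univ : Finset ↥K)
    (Fintype.card ↥(K ⊓ Subgroup.centralizer {x})) ?_
  · rw [Nat.card_eq_fintype_card, Nat.card_eq_fintype_card, Nat.card_eq_fintype_card]
    calc Fintype.card ↥K = (Finset.univ : Finset ↥K).card := Finset.card_univ.symm
      _ ≤ Fintype.card ↥(K ⊓ Subgroup.centralizer {x}) * (Finset.univ.image f).card := key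
      _ ≤ Fintype.card ↥(K ⊓ Subgroup.centralizer {x}) * Fintype.card ↥H :=
          Nat.mul_le_mul_left _ (Finset.card_le_univ _)
      _ = _ := mul_comm _ _
  · intro a ha
    obtain ⟨k₀, -, rfl⟩ := Finset.mem_image.mp ha
    have hmem : ∀ k : ↥K, f k = f k₀ → (k₀ : P)⁻¹ * k ∈ K ⊓ Subgroup.centralizer {x} := by
      intro k hk
      have h1 : (k : P) * x * (k : P)⁻¹ * x⁻¹ = k₀ * x * (k₀ : P)⁻¹ * x⁻¹ := by
        rw [← hf, ← hf, hk]
      have h2 : (k : P) * x * (k : P)⁻¹ = k₀ * x * (k₀ : P)⁻¹ := mul_right_cancel h1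
      refine Subgroup.mem_inf.mpr ⟨K.mul_mem (K.inv_mem k₀.2) k.2, ?_⟩
      rw [Subgroup.mem_centralizer_iff]
      intro y hy
      rw [Set.mem_singleton_iff] at hy
      subst hy
      have : (k₀ : P)⁻¹ * k * y = y * ((k₀ : P)⁻¹ * k) := by
        calc (k₀ : P)⁻¹ * k * y = (k₀ : P)⁻¹ * (k * y * (k : P)⁻¹) * k := by group
          _ = (k₀ : P)⁻¹ * (k₀ * y * (k₀ : P)⁻¹) * k := by rw [h2]
          _ = y * ((k₀ : P)⁻¹ * k) := by group
      exact this.symm
    obtain ⟨g, hg⟩ : ∃ g : ↥K → ↥(K ⊓ Subgroup.centralizer {x}),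
        ∀ k : ↥K, f k = f k₀ → ((g k : ↥(K ⊓ Subgroup.centralizer {x})) : P) = (k₀ : P)⁻¹ * k :=
      ⟨fun k => if hk : f k = f k₀ then ⟨(k₀ : P)⁻¹ * k, hmem k hk⟩ else 1, fun k hk => by
        simp only [dif_pos hk]⟩
    refine (Finset.card_le_card_of_injOn g (fun _ _ => Finset.mem_univ _) ?_).trans
      (le_of_eq Finset.card_univ)
    intro k hk k' hk' hgg
    have hk1 : f k = f k₀ := (Finset.mem_filter.mp hk).2
    have hk2 : f k' = f k₀ := (Finset.mem_filter.mp hk').2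
    have h3 := congrArg (fun t : ↥(K ⊓ Subgroup.centralizer {x}) => (t : P)) hgg
    simp only [hg k hk1, hg k' hk2] at h3
    exact Subtype.ext (mul_left_cancel h3)

section Sect

variable [Finite P] {p : ℕ} [hp : Fact p.Prime]

/-- the power action of an automorphism on a characteristic section of order at most `p` -/
theorem powact_exists (hP : IsPGroup p P) (K' K : Subgroup P) [hn : K'.Normal] (hle : K' ≤ K)
    (hK'inv : ∀ α : MulAut P, ∀ k ∈ K', α k ∈ K') (hKinv : ∀ α : MulAut P, ∀ k ∈ K, α k ∈ K)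
    (hcard : Nat.card K ≤ p * Nat.card K') (hexp : ∀ k ∈ K, k ^ p = 1) (α : MulAut P) :
    ∃ m : ℤ, ¬ (p : ℤ) ∣ m ∧
      ∀ k ∈ K, (QuotientGroup.mk' K' (α k)) = (QuotientGroup.mk' K' k) ^ m := by
  by_cases hKK : K ≤ K'
  · refine ⟨1, ?_, ?_⟩
    · intro h
      have h1 := Int.le_of_dvd one_pos h
      have h2 := hp.out.two_le
      omega
    · intro k hk
      rw [zpow_one]
      have h1 : α k ∈ K' := hKK (hKinv α k hk)
      have h2 : k ∈ K' := hKK hk
      rw [QuotientGroup.mk'_apply, QuotientGroup.mk'_apply, (QuotientGroup.eq_one_iff _).mpr h1,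
        (QuotientGroup.eq_one_iff _).mpr h2]
  · obtain ⟨g, hgK, hgK'⟩ := SetLike.not_le_iff_exists.mp hKK
    have hsup : K' ⊔ Subgroup.zpowers g = K := by
      have hle2 : K' ⊔ Subgroup.zpowers g ≤ K :=
        sup_le hle (by rw [Subgroup.zpowers_le]; exact hgK)
      apply Subgroup.eq_of_le_of_card_ge hle2
      obtain ⟨a, ha⟩ := (hP.to_subgroup K').exists_card_eq
      obtain ⟨b, hb⟩ := (hP.to_subgroup (K' ⊔ Subgroup.zpowers g)).exists_card_eq
      have hlt : Nat.card K' < Nat.card ↥(K' ⊔ Subgroup.zpowers g) := by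
        have hle3 : K' ≤ K' ⊔ Subgroup.zpowers g := le_sup_left
        rcases (Nat.le_of_dvd Nat.card_pos (Subgroup.card_dvd_of_le hle3)).lt_or_eq with h | h
        · exact h
        · exfalso
          have h4 := Subgroup.eq_of_le_of_card_ge hle3 (le_of_eq h.symm)
          apply hgK'
          rw [h4]
          exact Subgroup.mem_sup_right (Subgroup.mem_zpowers g)
      rw [ha, hb] at hlt
      have hab : a < b := (Nat.pow_lt_pow_iff_right hp.out.one_lt).mp hlt
      calc Nat.card K ≤ p * Nat.card K' := hcard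
        _ = p ^ (a + 1) := by rw [ha, pow_succ, mul_comm]
        _ ≤ p ^ b := Nat.pow_le_pow_right hp.out.pos hab
        _ = _ := hb.symm
    have hgen : ∀ k ∈ K, ∃ j : ℤ, QuotientGroup.mk' K' k = (QuotientGroup.mk' K' g) ^ j := by
      intro k hk
      rw [← hsup] at hk
      obtain ⟨a, ha, b, hb, rfl⟩ := (RkTwo.mem_sup_normal K' (Subgroup.zpowers g) k).mp hk
      obtain ⟨j, rfl⟩ := Subgroup.mem_zpowers_iff.mp hb
      refine ⟨j, ?_⟩
      rw [map_mul, map_zpow, QuotientGroup.mk'_apply, (QuotientGroup.eq_one_iff a).mpr ha, one_mul]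
    have hcong : ∀ r s : P, QuotientGroup.mk' K' r = QuotientGroup.mk' K' s →
        QuotientGroup.mk' K' (α r) = QuotientGroup.mk' K' (α s) := by
      intro r s h
      rw [QuotientGroup.mk'_apply, QuotientGroup.mk'_apply, QuotientGroup.eq] at h ⊢
      have h1 := hK'inv α _ h
      rwa [map_mul, map_inv] at h1
    obtain ⟨m, hm⟩ := hgen (α g) (hKinv α g hgK)
    have hgp : (QuotientGroup.mk' K' g) ^ (p : ℤ) = 1 := by
      rw [zpow_natCast, ← map_pow, hexp g hgK, map_one]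
    refine ⟨m, ?_, ?_⟩
    · rintro ⟨t, rfl⟩
      rw [zpow_mul, hgp, one_zpow] at hm
      have h1 : α g ∈ K' := by
        rw [QuotientGroup.mk'_apply] at hm
        exact (QuotientGroup.eq_one_iff _).mp hm
      have h2 := hK'inv α⁻¹ _ h1
      rw [MulAut.inv_apply_self] at h2
      exact hgK' h2
    · intro k hk
      obtain ⟨j, hj⟩ := hgen k hk
      have h1 : QuotientGroup.mk' K' k = QuotientGroup.mk' K' (g ^ j) := by rw [hj, map_zpow]
      rw [hcong _ _ h1, map_zpow, map_zpow, hm, hj, ← zpow_mul, ← zpow_mul, mul_comm]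

/-- commutators and `(p-1)`-th powers of automorphisms act trivially on a characteristic section
of order at most `p` -/
theorem section_trivial (hP : IsPGroup p P) (K' K : Subgroup P) [hn : K'.Normal] (hle : K' ≤ K)
    (hK'inv : ∀ α : MulAut P, ∀ k ∈ K', α k ∈ K') (hKinv : ∀ α : MulAut P, ∀ k ∈ K, α k ∈ K)
    (hcard : Nat.card K ≤ p * Nat.card K') (hexp : ∀ k ∈ K, k ^ p = 1) :
    (∀ α β : MulAut P, ∀ k ∈ K, k⁻¹ * ⁅α, β⁆ k ∈ K') ∧
      (∀ α : MulAut P, ∀ k ∈ K, k⁻¹ * (α ^ (p - 1)) k ∈ K') := by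
  constructor
  · intro α β k hk
    obtain ⟨m, -, hm⟩ := powact_exists hP K' K hle hK'inv hKinv hcard hexp α
    obtain ⟨n, -, hn'⟩ := powact_exists hP K' K hle hK'inv hKinv hcard hexp β
    obtain ⟨m', -, hm'⟩ := powact_exists hP K' K hle hK'inv hKinv hcard hexp α⁻¹
    obtain ⟨n', -, hn''⟩ := powact_exists hP K' K hle hK'inv hKinv hcard hexp β⁻¹
    have hmm : ∀ r ∈ K, (QuotientGroup.mk' K' r) ^ (m' * m) = QuotientGroup.mk' K' r := by
      intro r hr
      have h1 := hm (α⁻¹ r) (hKinv _ r hr)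
      rw [MulAut.apply_inv_self, hm' r hr, ← zpow_mul] at h1
      exact h1.symm
    have hnn : ∀ r ∈ K, (QuotientGroup.mk' K' r) ^ (n' * n) = QuotientGroup.mk' K' r := by
      intro r hr
      have h1 := hn' (β⁻¹ r) (hKinv _ r hr)
      rw [MulAut.apply_inv_self, hn'' r hr, ← zpow_mul] at h1
      exact h1.symm
    have hk1 : β⁻¹ k ∈ K := hKinv _ k hk
    have hk2 : α⁻¹ (β⁻¹ k) ∈ K := hKinv _ _ hk1
    have hk3 : β (α⁻¹ (β⁻¹ k)) ∈ K := hKinv _ _ hk2
    have hcomm : ⁅α, β⁆ k = α (β (α⁻¹ (β⁻¹ k))) := by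
      rw [commutatorElement_def]
      rfl
    have h5 : QuotientGroup.mk' K' (⁅α, β⁆ k) = QuotientGroup.mk' K' k := by
      rw [hcomm, hm _ hk3, hn' _ hk2, hm' _ hk1, hn'' _ hk, ← zpow_mul, ← zpow_mul, ← zpow_mul]
      have h6 : n' * (m' * (n * m)) = (n' * n) * (m' * m) := by ring
      rw [h6, zpow_mul, hnn k hk, hmm k hk]
    rw [QuotientGroup.mk'_apply, QuotientGroup.mk'_apply] at h5
    exact QuotientGroup.eq.mp h5.symm
  · intro α k hk
    obtain ⟨m, hpm, hm⟩ := powact_exists hP K' K hle hK'inv hKinv hcard hexp α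
    have hpow : ∀ n : ℕ, ∀ r ∈ K, (α ^ n) r ∈ K ∧
        QuotientGroup.mk' K' ((α ^ n) r) = (QuotientGroup.mk' K' r) ^ (m ^ n) := by
      intro n
      induction n with
      | zero =>
        intro r hr
        simp [hr]
      | succ n ih =>
        intro r hr
        obtain ⟨h1, h2⟩ := ih r hr
        have h3 : (α ^ (n + 1)) r = α ((α ^ n) r) := by
          rw [pow_succ', MulAut.mul_apply]
        refine ⟨h3 ▸ hKinv α _ h1, ?_⟩
        rw [h3, hm _ h1, h2, ← zpow_mul, pow_succ]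
    obtain ⟨-, h2⟩ := hpow (p - 1) k hk
    have hcop : IsCoprime m (p : ℤ) :=
      ((Nat.prime_iff_prime_int.mp hp.out).coprime_iff_not_dvd.mpr hpm).symm
    have h3 : m ^ (p - 1) ≡ 1 [ZMOD p] := Int.ModEq.pow_card_sub_one_eq_one hp.out hcop
    have hord : orderOf (QuotientGroup.mk' K' k) ∣ p := by
      apply orderOf_dvd_of_pow_eq_one
      rw [← map_pow, hexp k hk, map_one]
    have h4 : (QuotientGroup.mk' K' k) ^ (m ^ (p - 1)) = (QuotientGroup.mk' K' k) ^ (1 : ℤ) := by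
      rw [zpow_eq_zpow_iff_modEq]
      exact h3.of_dvd (Int.natCast_dvd_natCast.mpr hord)
    rw [zpow_one] at h4
    rw [h4] at h2
    rw [QuotientGroup.mk'_apply, QuotientGroup.mk'_apply] at h2
    exact QuotientGroup.eq.mp h2.symm

/-- **Chains with factors of order at most `p`.** -/
theorem chain_main (hP : IsPGroup p P) (e : ℕ → Subgroup P) (he0 : e 0 = ⊥)
    (hmono : ∀ i, e i ≤ e (i + 1))
    (hinv : ∀ i, ∀ α : MulAut P, ∀ k ∈ e i, α k ∈ e i)
    (hcard : ∀ i, Nat.card (e (i + 1)) ≤ p * Nat.card (e i))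
    (hexp : ∀ i, ∀ k ∈ e i, k ^ p = 1) :
    ∃ S : Subgroup (MulAut P), (∀ α β : MulAut P, ⁅α, β⁆ ∈ S) ∧ (∀ α : MulAut P, α ^ (p - 1) ∈ S) ∧
      ∀ α ∈ S, (orderOf α).Coprime p → ∀ i, ∀ k ∈ e i, α k = k := by
  have hnorm : ∀ i, (e i).Normal := by
    intro i
    refine ⟨fun k hk g => ?_⟩
    have := hinv i (MulAut.conj g) k hk
    rwa [MulAut.conj_apply] at this
  obtain ⟨S, hS⟩ : ∃ S : Subgroup (MulAut P),
      ∀ α, α ∈ S ↔ ∀ i, ∀ k ∈ e (i + 1), k⁻¹ * α k ∈ e i := by
    refine ⟨{ carrier := {α | ∀ i, ∀ k ∈ e (i + 1), k⁻¹ * α k ∈ e i}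
              mul_mem' := ?_
              one_mem' := ?_
              inv_mem' := ?_ }, fun α => Iff.rfl⟩
    · intro α β hα hβ i k hk
      have h1 := hβ i k hk
      have h2 := hα i (β k) (hinv (i + 1) β k hk)
      have h3 : k⁻¹ * (α * β) k = (k⁻¹ * β k) * ((β k)⁻¹ * α (β k)) := by
        rw [MulAut.mul_apply]; group
      rw [h3]
      exact (e i).mul_mem h1 h2
    · intro i k hk
      simp
    · intro α hα i k hk
      have h1 := hα i (α⁻¹ k) (hinv (i + 1) α⁻¹ k hk)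
      rw [MulAut.apply_inv_self] at h1
      have h2 : k⁻¹ * α⁻¹ k = ((α⁻¹ k)⁻¹ * k)⁻¹ := by group
      rw [h2]
      exact (e i).inv_mem h1
  refine ⟨S, ?_, ?_, ?_⟩
  · intro α β
    rw [hS]
    intro i k hk
    haveI := hnorm i
    exact (section_trivial hP (e i) (e (i + 1)) (hmono i) (hinv i) (hinv (i + 1)) (hcard i)
      (hexp (i + 1))).1 α β k hk
  · intro α
    rw [hS]
    intro i k hk
    haveI := hnorm i
    exact (section_trivial hP (e i) (e (i + 1)) (hmono i) (hinv i) (hinv (i + 1)) (hcard i)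
      (hexp (i + 1))).2 α k hk
  · intro α hα hcop i
    rw [hS] at hα
    induction i with
    | zero =>
      intro k hk
      rw [he0, Subgroup.mem_bot] at hk
      rw [hk, map_one]
    | succ i ih =>
      intro k hk
      apply Cfsg.Agent.Lib.Helper13.coprime_fix_of_fix_comm hP α hcop k
      exact ih _ (hα i k hk)

end Sect

end Cfsg.Agent.Lib.Helper20.NarrowAut
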