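import Mathlib
import Cfsg.Prelude.Def_CaseTheorems
import Cfsg.Agent.Lib.Helper13.CritAutD
import Cfsg.Agent.Lib.Helper21.OmegaCent
import Cfsg.Agent.Lib.Helper20.NarrowAutA
import Cfsg.Agent.S1453

set_option autoImplicit false

/-! Automorphisms of narrow `p`-groups of rank at least three (helper20): modulo a `p`-group the
automorphism group is abelian of exponent dividing `p - 1`. -/

namespace Cfsg.Agent.Lib.Helper20.NarrowAut

open scoped commutatorElement

variable {P : Type*} [Group P] [Finite P] {p : ℕ} [hp : Fact p.Prime]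

/-- a cyclic group has at most `p` elements of order dividing `p` -/
theorem card_pow_eq_one_le (R₁ : Subgroup P) (hcyc : IsCyclic R₁) :
    Nat.card {b : ↥R₁ // b ^ p = 1} ≤ p := by
  classical
  haveI := Fintype.ofFinite ↥R₁
  have h := IsCyclic.card_pow_eq_one_le (α := ↥R₁) hp.out.pos
  rw [Nat.card_eq_fintype_card, Fintype.card_subtype]
  exact h

/-- decomposition of the elements of order dividing `p` of `C_P(R₀) = R₀ × R₁` -/
theorem decomp (R₀ R₁ : Subgroup P) (hcard0 : Nat.card R₀ = p)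
    (hcomm : ∀ a ∈ R₀, ∀ b ∈ R₁, a * b = b * a)
    (hcent : R₀ ⊔ R₁ = Subgroup.centralizer (R₀ : Set P)) (c : P)
    (hc : c ∈ Subgroup.centralizer (R₀ : Set P)) (hcp : c ^ p = 1) :
    ∃ a : ↥R₀, ∃ b : {b : ↥R₁ // b ^ p = 1}, c = (a : P) * ((b : ↥R₁) : P) := by
  rw [← hcent] at hc
  obtain ⟨a, ha, b, hb, rfl⟩ := (RkTwo.mem_sup_of_commute R₀ R₁ hcomm c).mp hc
  have hap : a ^ p = 1 := by
    have h1 : (⟨a, ha⟩ : ↥R₀) ^ Nat.card ↥R₀ = 1 := pow_card_eq_one'
    rw [hcard0] at h1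
    have h2 := congrArg (fun t : ↥R₀ => (t : P)) h1
    simpa using h2
  have hbp : b ^ p = 1 := by
    have h1 : (a * b) ^ p = a ^ p * b ^ p := (show Commute a b from hcomm a ha b hb).mul_pow p
    rw [hcp, hap, one_mul] at h1
    exact h1.symm
  exact ⟨⟨a, ha⟩, ⟨⟨b, hb⟩, Subtype.ext hbp⟩, rfl⟩

/-- subgroups of exponent `p` of `C_P(R₀)` have order at most `p ^ 2` -/
theorem omega_card_le_sq (R₀ R₁ : Subgroup P) (hcard0 : Nat.card R₀ = p) (hcyc : IsCyclic R₁)
    (hcomm : ∀ a ∈ R₀, ∀ b ∈ R₁, a * b = b * a)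
    (hcent : R₀ ⊔ R₁ = Subgroup.centralizer (R₀ : Set P)) (C : Subgroup P)
    (hC : C ≤ Subgroup.centralizer (R₀ : Set P)) (hexp : ∀ c ∈ C, c ^ p = 1) :
    Nat.card C ≤ p ^ 2 := by
  have hdec : ∀ c : ↥C, ∃ q : ↥R₀ × {b : ↥R₁ // b ^ p = 1},
      (c : P) = (q.1 : P) * ((q.2 : ↥R₁) : P) := by
    intro c
    obtain ⟨a, b, h⟩ := decomp R₀ R₁ hcard0 hcomm hcent c (hC c.2) (hexp c c.2)
    exact ⟨(a, b), h⟩
  choose f hf using hdec
  have hinj : Function.Injective f := by
    intro c c' h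
    apply Subtype.ext
    rw [hf c, hf c', h]
  have h1 := Nat.card_le_card_of_injective f hinj
  rw [Nat.card_prod, hcard0] at h1
  calc Nat.card C ≤ p * Nat.card {b : ↥R₁ // b ^ p = 1} := h1
    _ ≤ p * p := Nat.mul_le_mul_left _ (card_pow_eq_one_le R₁ hcyc)
    _ = p ^ 2 := (sq p).symm

/-- subgroups of exponent `p` of `C_P(R₀)` meeting `R₀` trivially have order at most `p` -/
theorem omega_card_le (R₀ R₁ : Subgroup P) (hcard0 : Nat.card R₀ = p) (hcyc : IsCyclic R₁)
    (hcomm : ∀ a ∈ R₀, ∀ b ∈ R₁, a * b = b * a)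
    (hcent : R₀ ⊔ R₁ = Subgroup.centralizer (R₀ : Set P)) (C : Subgroup P)
    (hC : C ≤ Subgroup.centralizer (R₀ : Set P)) (hexp : ∀ c ∈ C, c ^ p = 1)
    (hdisj : ∀ a ∈ R₀, a ∈ C → a = 1) :
    Nat.card C ≤ p := by
  have hdec : ∀ c : ↥C, ∃ b : {b : ↥R₁ // b ^ p = 1}, ∃ a : ↥R₀,
      (c : P) = (a : P) * ((b : ↥R₁) : P) := by
    intro c
    obtain ⟨a, b, h⟩ := decomp R₀ R₁ hcard0 hcomm hcent c (hC c.2) (hexp c c.2)
    exact ⟨b, a, h⟩
  choose f hf using hdec
  have hinj : Function.Injective f := by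
    intro c c' h
    obtain ⟨a, ha⟩ := hf c
    obtain ⟨a', ha'⟩ := hf c'
    rw [h] at ha
    have h1 : (c : P) * (c' : P)⁻¹ = (a : P) * (a' : P)⁻¹ := by
      rw [ha, ha']; group
    have h2 : (a : P) * (a' : P)⁻¹ = 1 := by
      apply hdisj _ (R₀.mul_mem a.2 (R₀.inv_mem a'.2))
      rw [← h1]
      exact C.mul_mem c.2 (C.inv_mem c'.2)
    rw [h2] at h1
    apply Subtype.ext
    exact mul_inv_eq_one.mp h1
  exact (Nat.card_le_card_of_injective f hinj).trans (card_pow_eq_one_le R₁ hcyc)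

/-- **Automorphisms of narrow `p`-groups of rank at least three.** -/
theorem narrow_stab (hp2 : p ≠ 2) (hP : IsPGroup p P) (hr : ¬ Cfsg.PRankLE p 2 P)
    (R₀ R₁ : Subgroup P) (hcard0 : Nat.card R₀ = p) (hcyc : IsCyclic R₁)
    (hcomm : ∀ a ∈ R₀, ∀ b ∈ R₁, a * b = b * a)
    (hcent : R₀ ⊔ R₁ = Subgroup.centralizer (R₀ : Set P)) :
    ∃ S : Subgroup (MulAut P), (∀ α β : MulAut P, ⁅α, β⁆ ∈ S) ∧ (∀ α : MulAut P, α ^ (p - 1) ∈ S) ∧
      ∀ α ∈ S, (orderOf α).Coprime p → α = 1 := by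
  have hpp : p.Prime := hp.out
  -- a generator of `R₀`
  have hR0ne : R₀ ≠ ⊥ := by
    intro h
    rw [h, Subgroup.card_bot] at hcard0
    exact hpp.one_lt.ne hcard0
  obtain ⟨⟨x, hxR0⟩, hx1⟩ := (Subgroup.ne_bot_iff_exists_ne_one.mp hR0ne)
  have hx1' : x ≠ 1 := fun h => hx1 (Subtype.ext h)
  have hgen : ∀ a ∈ R₀, a ∈ Subgroup.zpowers x := by
    intro a ha
    have h1 : (⟨a, ha⟩ : ↥R₀) ∈ Subgroup.zpowers (⟨x, hxR0⟩ : ↥R₀) :=
      mem_zpowers_of_prime_card hcard0 hx1
    obtain ⟨j, hj⟩ := Subgroup.mem_zpowers_iff.mp h1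
    refine Subgroup.mem_zpowers_iff.mpr ⟨j, ?_⟩
    have h2 := congrArg (fun t : ↥R₀ => (t : P)) hj
    simpa using h2
  have hxp : x ^ p = 1 := by
    have h1 : (⟨x, hxR0⟩ : ↥R₀) ^ Nat.card ↥R₀ = 1 := pow_card_eq_one'
    rw [hcard0] at h1
    have h2 := congrArg (fun t : ↥R₀ => (t : P)) h1
    simpa using h2
  -- commuting with `x` is commuting with `R₀`
  have hcx : ∀ c : P, c * x = x * c → c ∈ Subgroup.centralizer (R₀ : Set P) := by
    intro c hc
    rw [Subgroup.mem_centralizer_iff]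
    intro a ha
    obtain ⟨j, rfl⟩ := Subgroup.mem_zpowers_iff.mp (hgen a ha)
    exact ((show Commute c x from hc).zpow_right j).eq.symm
  -- `x` is not central
  have hxc : x ∉ Subgroup.center P := by
    intro hxc
    apply hr
    intro A hA hAe
    have hAle : A ≤ Subgroup.centralizer (R₀ : Set P) := by
      intro a _
      exact hcx a ((Subgroup.mem_center_iff.mp hxc) a)
    exact omega_card_le_sq R₀ R₁ hcard0 hcyc hcomm hcent A hAle hAe
  -- a central element of order `p`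
  have : Nontrivial P := ⟨⟨x, 1, hx1'⟩⟩
  have := hP.center_nontrivial
  obtain ⟨n, hn⟩ := (hP.to_subgroup (Subgroup.center P)).exists_card_eq
  have hn0 : n ≠ 0 := by
    intro h
    rw [h, pow_zero] at hn
    have := Finite.one_lt_card (α := ↥(Subgroup.center P))
    omega
  have hpc : p ∣ Nat.card ↥(Subgroup.center P) := by
    rw [hn]; exact dvd_pow_self p hn0
  obtain ⟨z', hz'⟩ := exists_prime_orderOf_dvd_card' p hpc
  obtain ⟨z, hzc, hzo⟩ : ∃ z : P, z ∈ Subgroup.center P ∧ orderOf z = p :=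
    ⟨z', z'.2, by rw [← hz']; exact (Subgroup.orderOf_coe z')⟩
  have hzp : z ^ p = 1 := by rw [← hzo]; exact pow_orderOf_eq_one z
  have hzle : Subgroup.zpowers z ≤ Subgroup.center P := by
    rw [Subgroup.zpowers_le]; exact hzc
  have hxz : x ∉ Subgroup.zpowers z := fun h => hxc (hzle h)
  -- the maximal elementary abelian subgroup of order `p ^ 2`
  have hfacts := Cfsg.Agent.Lib.Helper21.OmegaCent.sup_zpowers_facts (p := p) (Subgroup.zpowers z) x hxp hxz
    (fun b hb => ((Subgroup.mem_center_iff.mp (hzle hb)) x))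
    (fun a _ b hb => ((Subgroup.mem_center_iff.mp (hzle hb)) a))
    (by
      intro b hb
      obtain ⟨j, rfl⟩ := Subgroup.mem_zpowers_iff.mp hb
      rw [← zpow_natCast, ← zpow_mul, mul_comm, zpow_mul, zpow_natCast, hzp, one_zpow])
  obtain ⟨E, hEdef⟩ : ∃ E : Subgroup P, E = Subgroup.zpowers z ⊔ Subgroup.zpowers x := ⟨_, rfl⟩
  rw [← hEdef] at hfacts
  obtain ⟨hEcard, hEcomm, hEexp⟩ := hfacts
  have hE2 : Nat.card E = p ^ 2 := by
    rw [hEcard, Nat.card_zpowers, hzo, sq]
  have hE : Cfsg.IsElementaryAbelian p E :=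
    ⟨⟨⟨fun a b => Subtype.ext (hEcomm a a.2 b b.2)⟩⟩, hEexp⟩
  have hxE : x ∈ E := by
    rw [hEdef]; exact Subgroup.mem_sup_right (Subgroup.mem_zpowers x)
  have hEmax : ∀ B : Subgroup P, Cfsg.IsElementaryAbelian p B → E ≤ B → B = E := by
    intro B hB hEB
    have hBle : B ≤ Subgroup.centralizer (R₀ : Set P) := by
      intro b hb
      apply hcx
      have := hB.1.1.1 ⟨b, hb⟩ ⟨x, hEB hxE⟩
      exact congrArg (fun t : ↥B => (t : P)) this
    have h1 := omega_card_le_sq R₀ R₁ hcard0 hcyc hcomm hcent B hBle hB.2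
    exact (Subgroup.eq_of_le_of_card_ge hEB (by rw [hE2]; exact h1)).symm
  obtain ⟨hET, -, -, hTchar, hTidx⟩ := Cfsg.Agent.S1453.result p hp2 hP hr E hE hE2 hEmax
  obtain ⟨T, hTdef⟩ : ∃ T : Subgroup P, T = Subgroup.centralizer ((Subgroup.closure
      {x : P | x ∈ Subgroup.upperCentralSeries P 2 ∧ x ^ p = 1} : Subgroup P) : Set P) := ⟨_, rfl⟩
  rw [← hTdef] at hET hTchar hTidx
  have hxT : x ∉ T := by
    intro hxT
    apply hET
    rw [hEdef]
    refine sup_le ?_ (by rw [Subgroup.zpowers_le]; exact hxT)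
    rw [Subgroup.zpowers_le, hTdef]
    exact Subgroup.center_le_centralizer _ hzc
  haveI := hTchar
  have hTn : T.Normal := inferInstance
  have hTinv : ∀ α : MulAut P, ∀ k ∈ T, α k ∈ T := by
    intro α k hk
    have h1 := (Subgroup.characteristic_iff_map_eq.mp hTchar) α
    rw [← h1]
    exact Subgroup.mem_map_of_mem _ hk
  -- the critical subgroup
  obtain ⟨D, hDmap, -, hDexp', hDcomm, hDfaith, -⟩ :=
    Cfsg.Agent.Lib.Helper13.exists_crit_aut hP (⊤ : Subgroup (MulAut P)) le_top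
  have hDinv : ∀ α : MulAut P, ∀ k ∈ D, α k ∈ D := by
    intro α k hk
    have h1 := hDmap α (Subgroup.mem_top _)
    rw [← h1]
    exact Subgroup.mem_map_of_mem _ hk
  have hDexp : ∀ d ∈ D, d ^ p = 1 := by
    intro d hd
    rcases hDexp' d hd with h | ⟨h, -⟩
    · exact h
    · exact absurd h hp2
  have hDn : D.Normal := by
    refine ⟨fun k hk g => ?_⟩
    have := hDinv (MulAut.conj g) k hk
    rwa [MulAut.conj_apply] at this
  have hZinv : ∀ i, ∀ α : MulAut P, ∀ k ∈ Subgroup.upperCentralSeries P i,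
      α k ∈ Subgroup.upperCentralSeries P i := by
    intro i α k hk
    have h1 := (Subgroup.characteristic_iff_map_eq.mp
      (inferInstance : (Subgroup.upperCentralSeries P i).Characteristic)) α
    rw [← h1]
    exact Subgroup.mem_map_of_mem _ hk
  -- the chain
  haveI : Group.IsNilpotent P := hP.isNilpotent
  obtain ⟨N, hN⟩ := Group.IsNilpotent.nilpotent' (G := P)
  obtain ⟨e, he⟩ : ∃ e : ℕ → Subgroup P, ∀ i, e i =
      if i ≤ N then D ⊓ T ⊓ Subgroup.upperCentralSeries P i else D := ⟨_, fun i => rfl⟩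
  have heD : ∀ i, e i ≤ D := by
    intro i
    rw [he]
    split_ifs
    · exact inf_le_left.trans inf_le_left
    · exact le_rfl
  have he0 : e 0 = ⊥ := by
    rw [he, if_pos (Nat.zero_le _), Subgroup.upperCentralSeries_zero, inf_bot_eq]
  have hmono : ∀ i, e i ≤ e (i + 1) := by
    intro i
    rw [he i, he (i + 1)]
    by_cases h1 : i + 1 ≤ N
    · rw [if_pos h1, if_pos (by omega)]
      exact inf_le_inf_left _ (Subgroup.upperCentralSeries_mono P (Nat.le_succ i))
    · rw [if_neg h1]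
      split_ifs
      · exact inf_le_left.trans inf_le_left
      · exact le_rfl
  have hinv : ∀ i, ∀ α : MulAut P, ∀ k ∈ e i, α k ∈ e i := by
    intro i α k hk
    rw [he] at hk ⊢
    split_ifs at hk ⊢
    · obtain ⟨⟨h1, h2⟩, h3⟩ := hk
      exact ⟨⟨hDinv α k h1, hTinv α k h2⟩, hZinv i α k h3⟩
    · exact hDinv α k hk
  have hexp : ∀ i, ∀ k ∈ e i, k ^ p = 1 := fun i k hk => hDexp k (heD i hk)
  have hcard : ∀ i, Nat.card (e (i + 1)) ≤ p * Nat.card (e i) := by
    intro i
    by_cases h1 : i + 1 ≤ N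
    · -- fixed point counting with `x`
      have hcomm' : ∀ k ∈ e (i + 1), k * x * k⁻¹ * x⁻¹ ∈ e i := by
        intro k hk
        rw [he, if_pos h1] at hk
        rw [he, if_pos (by omega)]
        obtain ⟨⟨hk1, hk2⟩, hk3⟩ := hk
        refine ⟨⟨?_, ?_⟩, ?_⟩
        · have h2 := hDn.conj_mem k⁻¹ (D.inv_mem hk1) x
          have h3 := D.mul_mem hk1 h2
          have h4 : k * (x * k⁻¹ * x⁻¹) = k * x * k⁻¹ * x⁻¹ := by group
          rwa [h4] at h3
        · have h2 := hTn.conj_mem k⁻¹ (T.inv_mem hk2) x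
          have h3 := T.mul_mem hk2 h2
          have h4 : k * (x * k⁻¹ * x⁻¹) = k * x * k⁻¹ * x⁻¹ := by group
          rwa [h4] at h3
        · exact Subgroup.mem_upperCentralSeries_succ_iff.mp hk3 x
      have h2 := fp_count (e i) (e (i + 1)) x hcomm'
      have h3 : Nat.card ↥(e (i + 1) ⊓ Subgroup.centralizer {x}) ≤ p := by
        apply omega_card_le R₀ R₁ hcard0 hcyc hcomm hcent
        · intro c hc
          apply hcx
          have := (Subgroup.mem_centralizer_iff.mp hc.2) x (Set.mem_singleton x)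
          exact this.symm
        · intro c hc
          exact hDexp c (heD _ hc.1)
        · intro a ha hac
          by_contra ha1
          apply hxT
          have h4 : x ∈ Subgroup.zpowers a := by
            have h5 : (⟨x, hxR0⟩ : ↥R₀) ∈ Subgroup.zpowers (⟨a, ha⟩ : ↥R₀) :=
              mem_zpowers_of_prime_card hcard0 (fun h => ha1 (congrArg (fun t : ↥R₀ => (t : P)) h))
            obtain ⟨j, hj⟩ := Subgroup.mem_zpowers_iff.mp h5
            refine Subgroup.mem_zpowers_iff.mpr ⟨j, ?_⟩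
            have h6 := congrArg (fun t : ↥R₀ => (t : P)) hj
            simpa using h6
          have h7 : a ∈ T := by
            have := hac.1
            rw [he, if_pos h1] at this
            exact this.1.2
          exact (Subgroup.zpowers_le.mpr h7) h4
      calc Nat.card (e (i + 1)) ≤ Nat.card (e i) * Nat.card ↥(e (i + 1) ⊓ Subgroup.centralizer {x}) := h2
        _ ≤ Nat.card (e i) * p := Nat.mul_le_mul_left _ h3
        _ = p * Nat.card (e i) := mul_comm _ _
    · rw [he (i + 1), if_neg h1, he i]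
      split_ifs with h2
      · have hiN : i = N := by omega
        rw [hiN, hN, inf_top_eq]
        have h3 : Nat.card D = Nat.card ↥(D ⊓ T) * T.relIndex D := by
          rw [← Subgroup.relIndex_bot_left, ← Subgroup.relIndex_bot_left,
            ← Subgroup.inf_relIndex_left (H := D) (K := T)]
          exact (Subgroup.relIndex_mul_relIndex ⊥ (D ⊓ T) D bot_le inf_le_left).symm
        have h4 : T.relIndex D ≤ p := by
          have h5 : T.relIndex D ∣ T.index := Subgroup.relIndex_dvd_index_of_normal T D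
          rw [hTidx] at h5
          exact Nat.le_of_dvd hpp.pos h5
        rw [h3, mul_comm]
        exact Nat.mul_le_mul_right _ h4
      · have := hpp.one_le
        calc Nat.card D = 1 * Nat.card D := (one_mul _).symm
          _ ≤ p * Nat.card D := Nat.mul_le_mul_right _ this
  obtain ⟨S, hS1, hS2, hS3⟩ := chain_main hP e he0 hmono hinv hcard hexp
  refine ⟨S, hS1, hS2, ?_⟩
  intro α hα hcop
  apply hDfaith α (Subgroup.mem_top _) hcop
  intro d hd
  apply hS3 α hα hcop (N + 1)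
  rw [he, if_neg (by omega)]
  exact hd

end Cfsg.Agent.Lib.Helper20.NarrowAut
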