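import Mathlib
import Cfsg.Prelude.Def_Solvable
import Cfsg.Agent.Lib.Helper1.Cores
import Cfsg.Agent.Lib.Helper20.HupC
import Cfsg.Agent.Lib.Helper20.RkTwoA

set_option autoImplicit false

/-! Auxiliary facts for automorphism groups of narrow `p`-groups (helper20). -/

namespace Cfsg.Agent.Lib.Helper20.NarrowAut

open scoped commutatorElement

/-- if `X' ≤ O_p(X)` then `O_p(X)` is the Sylow `p`-subgroup of `X` -/
theorem pcore_index_coprime {X : Type*} [Group X] [Finite X] (p : ℕ) [hp : Fact p.Prime]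
    (h : commutator X ≤ Cfsg.pCore p X) : ((Cfsg.pCore p X).index).Coprime p := by
  obtain ⟨S⟩ : Nonempty (Sylow p X) := inferInstance
  have h1 : Cfsg.pCore p X ≤ S := Cfsg.Agent.Lib.Helper1.pCore_le_sylow p S
  have hSn : (S : Subgroup X).Normal := by
    refine ⟨fun s hs g => ?_⟩
    have h2 : ⁅g, s⁆ ∈ (S : Subgroup X) := by
      apply h1
      apply h
      rw [commutator_def]
      exact Subgroup.commutator_mem_commutator (Subgroup.mem_top g) (Subgroup.mem_top s)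
    have h3 : g * s * g⁻¹ = ⁅g, s⁆ * s := by rw [commutatorElement_def]; group
    rw [h3]
    exact (S : Subgroup X).mul_mem h2 hs
  have h4 : (S : Subgroup X) ≤ Cfsg.pCore p X := Cfsg.Agent.Lib.Helper1.le_pCore hSn S.2
  have h5 : Cfsg.pCore p X = S := le_antisymm h1 h4
  rw [h5]
  exact ((Nat.Prime.coprime_iff_not_dvd hp.out).mpr S.not_dvd_index).symm

/-- an automorphism of a cyclic `p`-group whose `q`-th power is trivial, `q` a prime not dividing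
`p (p - 1)`, is trivial -/
theorem aut_cyclic_trivial {C : Type*} [Group C] [Finite C] [IsCyclic C] {p : ℕ} [hp : Fact p.Prime]
    (hC : IsPGroup p C) (σ : MulAut C) (q : ℕ) (hq : q.Prime) (hσ : σ ^ q = 1)
    (hqp : ¬ q ∣ p * (p - 1)) : σ = 1 := by
  have h1 : orderOf σ ∣ q := orderOf_dvd_of_pow_eq_one hσ
  have h2 : orderOf σ ∣ Nat.card (MulAut C) := orderOf_dvd_natCard σ
  rw [IsCyclic.card_mulAut] at h2
  obtain ⟨e, he⟩ := hC.exists_card_eq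
  rw [he] at h2
  rcases (Nat.dvd_prime hq).mp h1 with h3 | h3
  · exact orderOf_eq_one_iff.mp h3
  · exfalso
    rw [h3] at h2
    rcases Nat.eq_zero_or_pos e with h0 | h0
    · rw [h0, pow_zero, Nat.totient_one] at h2
      exact hq.one_lt.ne' (Nat.dvd_one.mp h2)
    · rw [Nat.totient_prime_pow hp.out h0] at h2
      apply hqp
      rcases (Nat.Prime.dvd_mul hq).mp h2 with h4 | h4
      · exact Dvd.dvd.mul_right (hq.dvd_of_dvd_pow h4) _
      · exact Dvd.dvd.mul_left h4 _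

variable {G : Type*} [Group G] [Finite G]

/-- the extraspecial-by-cyclic central products admitting a fixed point free action of prime order
`q ∤ p (p - 1)` are extraspecial of order `p ^ 3` -/
theorem cube_part (p : ℕ) [hp : Fact p.Prime] (R A R₁ R₂ : Subgroup G) (hR : IsPGroup p R)
    (hA : A ≤ Subgroup.normalizer (R : Set G)) (hsup : R₁ ⊔ R₂ = R)
    (hcomm12 : ∀ a ∈ R₁, ∀ b ∈ R₂, a * b = b * a) (hnab1 : ¬ IsMulCommutative R₁)
    (hc1 : Nat.card R₁ = p ^ 3) (hexp1 : Monoid.exponent R₁ = p) (hcyc2 : IsCyclic R₂)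
    (hcl : Subgroup.closure {x : G | x ∈ R₂ ∧ x ^ p = 1} = ⁅R₁, R₁⁆)
    (hq : (Nat.card A).Prime) (hnd : ¬ Nat.card A ∣ p * (p - 1)) (hRA : ⁅R, A⁆ = R) :
    Nat.card R = p ^ 3 := by
  have hpp : p.Prime := hp.out
  have hR1le : R₁ ≤ R := hsup ▸ le_sup_left
  have hR2le : R₂ ≤ R := hsup ▸ le_sup_right
  have hcomm22 : ∀ a ∈ R₂, ∀ b ∈ R₂, a * b = b * a := by
    intro a ha b hb
    have h1 : (⟨a, ha⟩ : ↥R₂) * ⟨b, hb⟩ = ⟨b, hb⟩ * ⟨a, ha⟩ := by
      obtain ⟨g, hg⟩ := hcyc2.exists_generator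
      obtain ⟨i, hi⟩ := Subgroup.mem_zpowers_iff.mp (hg ⟨a, ha⟩)
      obtain ⟨j, hj⟩ := Subgroup.mem_zpowers_iff.mp (hg ⟨b, hb⟩)
      rw [← hi, ← hj, ← zpow_add, ← zpow_add, add_comm]
    exact congrArg (fun t : ↥R₂ => (t : G)) h1
  have hdecomp : ∀ r ∈ R, ∃ r₁ ∈ R₁, ∃ r₂ ∈ R₂, r = r₁ * r₂ := by
    intro r hr
    rw [← hsup] at hr
    exact (RkTwo.mem_sup_of_commute R₁ R₂ hcomm12 r).mp hr
  -- `R₂` is central in `R`
  have hR2c : ∀ b ∈ R₂, ∀ r ∈ R, b * r = r * b := by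
    intro b hb r hr
    obtain ⟨r₁, h1, r₂, h2, rfl⟩ := hdecomp r hr
    calc b * (r₁ * r₂) = (b * r₁) * r₂ := by group
      _ = (r₁ * b) * r₂ := by rw [(hcomm12 r₁ h1 b hb)]
      _ = r₁ * (b * r₂) := by group
      _ = r₁ * (r₂ * b) := by rw [hcomm22 b hb r₂ h2]
      _ = r₁ * r₂ * b := by group
  have hexpR1 : ∀ g ∈ R₁, g ^ p = 1 := by
    intro g hg
    have h1 := Monoid.pow_exponent_eq_one (⟨g, hg⟩ : ↥R₁)
    rw [hexp1] at h1
    have h2 := congrArg (fun t : ↥R₁ => (t : G)) h1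
    simpa using h2
  have hcomR1 : ⁅R₁, R₁⁆ ≤ R₁ := by
    rw [Subgroup.commutator_le]
    intro a ha b hb
    exact R₁.mul_mem (R₁.mul_mem (R₁.mul_mem ha hb) (R₁.inv_mem ha)) (R₁.inv_mem hb)
  -- (i)
  have hR1char : ∀ g ∈ R, g ^ p = 1 → g ∈ R₁ := by
    intro g hg hgp
    obtain ⟨r₁, h1, r₂, h2, rfl⟩ := hdecomp g hg
    have h3 : (r₁ * r₂) ^ p = r₁ ^ p * r₂ ^ p :=
      (show Commute r₁ r₂ from hcomm12 r₁ h1 r₂ h2).mul_pow p
    rw [hgp, hexpR1 r₁ h1, one_mul] at h3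
    have h4 : r₂ ∈ Subgroup.closure {x : G | x ∈ R₂ ∧ x ^ p = 1} :=
      Subgroup.subset_closure ⟨h2, h3.symm⟩
    rw [hcl] at h4
    exact R₁.mul_mem h1 (hcomR1 h4)
  -- (ii)
  have hAR : ∀ a ∈ A, ∀ r ∈ R, a * r * a⁻¹ ∈ R := fun a ha r hr =>
    ((Subgroup.mem_set_normalizer_iff.mp (hA ha)) r).mp hr
  have hAR1 : ∀ a ∈ A, ∀ r ∈ R₁, a * r * a⁻¹ ∈ R₁ := by
    intro a ha r hr
    apply hR1char _ (hAR a ha r (hR1le hr))
    rw [conj_pow, hexpR1 r hr, mul_one, mul_inv_cancel]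
  -- (iii)
  have hΩle : Subgroup.closure {x : G | x ∈ R₂ ∧ x ^ p = 1} ≤ R₂ := by
    rw [Subgroup.closure_le]
    intro x hx
    exact hx.1
  have hΩne : Subgroup.closure {x : G | x ∈ R₂ ∧ x ^ p = 1} ≠ ⊥ := by
    intro h
    rw [hcl] at h
    apply hnab1
    refine ⟨⟨fun a b => ?_⟩⟩
    have h1 : ⁅(a : G), (b : G)⁆ ∈ ⁅R₁, R₁⁆ := Subgroup.commutator_mem_commutator a.2 b.2
    rw [h, Subgroup.mem_bot] at h1
    apply Subtype.ext
    have h2 := commutatorElement_eq_one_iff_mul_comm.mp h1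
    exact h2
  have hZ1 : ∀ z ∈ R₁, (∀ r ∈ R₁, z * r = r * z) → z ∈ R₂ := by
    intro z hz hzc
    by_contra hzR2
    obtain ⟨Ω, hΩ⟩ : ∃ Ω : Subgroup G, Ω = Subgroup.closure {x : G | x ∈ R₂ ∧ x ^ p = 1} :=
      ⟨_, rfl⟩
    rw [← hΩ] at hΩle hΩne
    have hΩR1 : Ω ≤ R₁ := by rw [hΩ, hcl]; exact hcomR1
    have hBle : Ω ⊔ Subgroup.zpowers z ≤ R₁ :=
      sup_le hΩR1 (by rw [Subgroup.zpowers_le]; exact hz)
    have hBc : Ω ⊔ Subgroup.zpowers z ≤ Subgroup.centralizer (R₁ : Set G) := by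
      refine sup_le ?_ ?_
      · intro x hx
        rw [Subgroup.mem_centralizer_iff]
        intro r hr
        exact hcomm12 r hr x (hΩle hx)
      · rw [Subgroup.zpowers_le, Subgroup.mem_centralizer_iff]
        intro r hr
        exact (hzc r hr).symm
    have hlt : Nat.card Ω < Nat.card ↥(Ω ⊔ Subgroup.zpowers z) := by
      have hle3 : Ω ≤ Ω ⊔ Subgroup.zpowers z := le_sup_left
      rcases (Nat.le_of_dvd Nat.card_pos (Subgroup.card_dvd_of_le hle3)).lt_or_eq with h | h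
      · exact h
      · exfalso
        have h4 := Subgroup.eq_of_le_of_card_ge hle3 (le_of_eq h.symm)
        apply hzR2
        apply hΩle
        rw [h4]
        exact Subgroup.mem_sup_right (Subgroup.mem_zpowers z)
    obtain ⟨a, ha⟩ := (hR.to_le (hΩR1.trans hR1le)).exists_card_eq
    obtain ⟨b, hb⟩ := (hR.to_le (hBle.trans hR1le)).exists_card_eq
    have ha1 : 1 ≤ a := by
      rcases Nat.eq_zero_or_pos a with h0 | h0
      · exfalso
        rw [h0, pow_zero] at ha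
        exact hΩne (Subgroup.card_eq_one.mp ha)
      · exact h0
    rw [ha, hb] at hlt
    have hab : a < b := (Nat.pow_lt_pow_iff_right hpp.one_lt).mp hlt
    have hcard : p ^ 2 ≤ Nat.card ↥(Ω ⊔ Subgroup.zpowers z) := by
      rw [hb]
      exact Nat.pow_le_pow_right hpp.pos (by omega)
    have hcommB : ∀ x ∈ Ω ⊔ Subgroup.zpowers z, ∀ m ∈ R₁, x * m = m * x := by
      intro x hx m hm
      exact ((Subgroup.mem_centralizer_iff.mp (hBc hx)) m hm).symm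
    have h5 := Hup.comm_of_central_sub p R₁ (Ω ⊔ Subgroup.zpowers z) hc1 hBle hcard hcommB
    apply hnab1
    exact ⟨⟨fun a b => Subtype.ext (h5 a a.2 b b.2)⟩⟩
  -- (iv)
  have hAR2 : ∀ a ∈ A, ∀ b ∈ R₂, a * b * a⁻¹ ∈ R₂ := by
    intro a ha b hb
    have hcR : a * b * a⁻¹ ∈ R := hAR a ha b (hR2le hb)
    obtain ⟨r₁, h1, r₂, h2, hc⟩ := hdecomp _ hcR
    have hcc : ∀ r ∈ R, (a * b * a⁻¹) * r = r * (a * b * a⁻¹) := by
      intro r hr
      have hr' : a⁻¹ * r * a⁻¹⁻¹ ∈ R := hAR a⁻¹ (A.inv_mem ha) r hr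
      have h3 := hR2c b hb _ hr'
      calc (a * b * a⁻¹) * r = a * (b * (a⁻¹ * r * a⁻¹⁻¹)) * a⁻¹ := by group
        _ = a * ((a⁻¹ * r * a⁻¹⁻¹) * b) * a⁻¹ := by rw [h3]
        _ = r * (a * b * a⁻¹) := by group
    have hr1 : r₁ = (a * b * a⁻¹) * r₂⁻¹ := by rw [hc]; group
    have hr1c : ∀ s ∈ R₁, r₁ * s = s * r₁ := by
      intro s hs
      have h3 := hcc s (hR1le hs)
      have h4 := hcomm12 s hs r₂⁻¹ (R₂.inv_mem h2)
      calc r₁ * s = (a * b * a⁻¹) * (r₂⁻¹ * s) := by rw [hr1]; group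
        _ = (a * b * a⁻¹) * (s * r₂⁻¹) := by rw [h4]
        _ = ((a * b * a⁻¹) * s) * r₂⁻¹ := by group
        _ = (s * (a * b * a⁻¹)) * r₂⁻¹ := by rw [h3]
        _ = s * r₁ := by rw [hr1]; group
    rw [hc]
    exact R₂.mul_mem (hZ1 r₁ h1 hr1c) h2
  -- (v)
  have hA2 : A ≤ Subgroup.normalizer (R₂ : Set G) := by
    intro a ha
    rw [Subgroup.mem_set_normalizer_iff]
    intro h
    constructor
    · exact hAR2 a ha h
    · intro hh
      have h1 := hAR2 a⁻¹ (A.inv_mem ha) _ hh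
      have h2 : a⁻¹ * (a * h * a⁻¹) * a⁻¹⁻¹ = h := by group
      rwa [h2] at h1
  obtain ⟨ψ, hψ⟩ : ∃ ψ : ↥A →* MulAut ↥R₂,
      ψ = R₂.normalizerMonoidHom.comp (Subgroup.inclusion hA2) := ⟨_, rfl⟩
  have hψa : ∀ (a : ↥A) (v : ↥R₂), ((ψ a v : ↥R₂) : G) = a * v * (a : G)⁻¹ := by
    intro a v
    rw [hψ]
    rfl
  have hψ1 : ∀ a : ↥A, ψ a = 1 := by
    intro a
    haveI := hcyc2
    apply aut_cyclic_trivial (hR.to_le hR2le) (ψ a) (Nat.card A) hq _ hnd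
    rw [← map_pow, pow_card_eq_one', map_one]
  have hcentA : ∀ a ∈ A, ∀ b ∈ R₂, a * b * a⁻¹ = b := by
    intro a ha b hb
    have h1 := hψa ⟨a, ha⟩ ⟨b, hb⟩
    rw [hψ1] at h1
    exact h1.symm
  -- (vi)
  have hcomle : ⁅R, A⁆ ≤ R₁ := by
    rw [Subgroup.commutator_le]
    intro r hr a ha
    obtain ⟨r₁, h1, r₂, h2, rfl⟩ := hdecomp r hr
    have h3 := hcentA a ha r₂⁻¹ (R₂.inv_mem h2)
    have h4 : ⁅r₁ * r₂, a⁆ = r₁ * (r₂ * (a * r₂⁻¹ * a⁻¹)) * (a * r₁⁻¹ * a⁻¹) := by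
      rw [commutatorElement_def]; group
    rw [h4, h3, mul_inv_cancel, mul_one]
    exact R₁.mul_mem h1 (hAR1 a ha _ (R₁.inv_mem h1))
  have hRR1 : R = R₁ := le_antisymm (hRA ▸ hcomle) hR1le
  rw [hRR1, hc1]

end Cfsg.Agent.Lib.Helper20.NarrowAut
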