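import Mathlib
import Cfsg.Agent.Lib.Helper20.O5040CY

/-!
# S0978 (order 5040): the case `n_7 = 120`, `|N_G(P) : C_G(P)| = 3`, `|C_G(P)| = 14` is impossible.
Principal 7-block (`pb_values3`, `e = 3`): `X = {1, χ₁, χ₂}`, two exceptional characters of degree `z`;
degrees divide `|G : C_G(P)| = 360` (`BRDIV`), so the signed degrees are in `{8, 15, 36, 120, -6, -20, -90}`, `ε z ∈ {3, 10, 24, 45, 360, -4, -18, -60}`,
and `1 + a₁ D₁ + a₂ D₂ = ε z` leaves `{8, 15; 24}`, `{8, 36; 45}`, `{8, -6; 3}`, `{15, -6; 10}`, `{15, -20; -4}`.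
`y` the involution of `C_G(P)` (`o5040cy_yval`): a character `8⁺` or `6⁻` is impossible; `15⁺` has `χ(y) = -13`, `20⁻` has `χ(y) = -8`, and then
`PB3.rel` at `y` gives `η(y) = 4 = η(1)` for `η ∈ Y`: `y ∈ ker η`, impossible in a simple group.
-/

set_option autoImplicit false
set_option linter.unusedVariables false
set_option linter.unusedSectionVars false
set_option linter.style.haveILetI false

namespace Cfsg.Agent.Lib.Helper20.O5040C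

open Classical
open scoped ComplexConjugate
open Cfsg.Agent.Lib.helper7.BR Cfsg.Agent.Lib.Helper25 Cfsg.Agent.Lib.Helper29
open Cfsg.Agent.Lib.Helper13.BT Cfsg.Agent.Lib.helper2 Cfsg.Agent.Lib.Helper10.O4320
open Cfsg.Agent.Lib.Helper11.O5040E

universe u

variable {G : Type u} [Group G] [Fintype G]

/-- signed degrees of the non-exceptional characters: divisors of 360 congruent to `± 1` modulo 7 -/
theorem o5040c14_divX (D : ℕ) (a : ℤ) (ha : a = 1 ∨ a = -1) (hD2 : 2 ≤ D) (hDdvd : D ∣ 360)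
    (hDc : (7 : ℤ) ∣ (D : ℤ) - a) :
    (a = 1 ∧ (D = 8 ∨ D = 15 ∨ D = 36 ∨ D = 120)) ∨ (a = -1 ∧ (D = 6 ∨ D = 20 ∨ D = 90)) := by
  have hD360 : D ≤ 360 := Nat.le_of_dvd (by norm_num) hDdvd
  rcases ha with rfl | rfl
  · left
    refine ⟨rfl, ?_⟩
    interval_cases D <;> omega
  · right
    refine ⟨rfl, ?_⟩
    interval_cases D <;> omega

/-- signed degree of the exceptional characters: divisors of 360 congruent to `± 3` modulo 7 -/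
theorem o5040c14_divY (z : ℕ) (ε : ℤ) (hε : ε = 1 ∨ ε = -1) (hz1 : 1 ≤ z) (hzdvd : z ∣ 360)
    (hzc : (7 : ℤ) ∣ (z : ℤ) - ε * 3) :
    (ε = 1 ∧ (z = 3 ∨ z = 10 ∨ z = 24 ∨ z = 45 ∨ z = 360)) ∨ (ε = -1 ∧ (z = 4 ∨ z = 18 ∨ z = 60)) := by
  have hz360 : z ≤ 360 := Nat.le_of_dvd (by norm_num) hzdvd
  rcases hε with rfl | rfl
  · left
    refine ⟨rfl, ?_⟩
    interval_cases z <;> omega
  · right
    refine ⟨rfl, ?_⟩
    interval_cases z <;> omega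

/-- arithmetic of the principal block for `e = 3`, degrees dividing 360 -/
theorem o5040c14_arith (D₁ D₂ z : ℕ) (a₁ a₂ ε : ℤ) (ha₁ : a₁ = 1 ∨ a₁ = -1) (ha₂ : a₂ = 1 ∨ a₂ = -1)
    (hε : ε = 1 ∨ ε = -1) (hD₁ : 2 ≤ D₁) (hD₂ : 2 ≤ D₂) (hz1 : 1 ≤ z) (hD₁dvd : D₁ ∣ 360)
    (hD₂dvd : D₂ ∣ 360) (hzdvd : z ∣ 360) (hD₁c : (7 : ℤ) ∣ (D₁ : ℤ) - a₁)
    (hD₂c : (7 : ℤ) ∣ (D₂ : ℤ) - a₂) (hzc : (7 : ℤ) ∣ (z : ℤ) - ε * 3)
    (hrel : 1 + a₁ * (D₁ : ℤ) + a₂ * (D₂ : ℤ) = ε * (z : ℤ)) :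
    (D₁ = 8 ∧ a₁ = 1) ∨ (D₁ = 6 ∧ a₁ = -1) ∨ (D₂ = 8 ∧ a₂ = 1) ∨ (D₂ = 6 ∧ a₂ = -1) ∨
      (D₁ = 15 ∧ a₁ = 1 ∧ D₂ = 20 ∧ a₂ = -1 ∧ z = 4 ∧ ε = -1) ∨
      (D₂ = 15 ∧ a₂ = 1 ∧ D₁ = 20 ∧ a₁ = -1 ∧ z = 4 ∧ ε = -1) := by
  have h1 := o5040c14_divX D₁ a₁ ha₁ hD₁ hD₁dvd hD₁c
  have h2 := o5040c14_divX D₂ a₂ ha₂ hD₂ hD₂dvd hD₂c
  have h3 := o5040c14_divY z ε hε hz1 hzdvd hzc
  rcases h1 with ⟨rfl, rfl | rfl | rfl | rfl⟩ | ⟨rfl, rfl | rfl | rfl⟩ <;>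
  rcases h2 with ⟨rfl, rfl | rfl | rfl | rfl⟩ | ⟨rfl, rfl | rfl | rfl⟩ <;>
  rcases h3 with ⟨rfl, rfl | rfl | rfl | rfl | rfl⟩ | ⟨rfl, rfl | rfl | rfl⟩ <;>
  first
  | (exfalso; omega)
  | simp

/-- C14: the configuration `n_7 = 120`, `|C_G(P)| = 14` does not occur in a simple group of order 5040. -/
theorem o5040c14_false [IsSimpleGroup G] (hG : Nat.card G = 5040) (P : Sylow 7 G)
    (hidx : (nrm P).index = 120) (hq : (cen P).relIndex (nrm P) = 3)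
    (hC : Nat.card ↥(cen P) = 14) : False := by
  obtain ⟨hperf, -, -, hSyl⟩ := o5040e_setup hG
  have hP := (hSyl P).1
  obtain ⟨X, Y, a, ε, hB⟩ := pb_values3 P hP 3 hq (by norm_num) (by norm_num)
  obtain ⟨hd1, ha1, hge, hcong, hdvd⟩ := X_degrees hperf hP hB
  obtain ⟨z, hz1, hzY, hzc, hrel⟩ := Y_degrees hP hB
  -- the index of `cen P`
  have hci : (cen P).index = 360 := by
    have h1 := Subgroup.card_mul_index (cen P)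
    rw [hC, hG] at h1
    omega
  -- `X = {1, χ₁, χ₂}`
  have hX2 : (X.erase (trivIrr G)).card = 2 := by
    rw [Finset.card_erase_of_mem hB.triv_mem, hB.cardX]
  obtain ⟨χ₁, χ₂, hne12, hχ⟩ := Finset.card_eq_two.mp hX2
  have hχ₁mem : χ₁ ∈ X.erase (trivIrr G) := by rw [hχ]; simp
  have hχ₂mem : χ₂ ∈ X.erase (trivIrr G) := by rw [hχ]; simp
  have hχ₁X : χ₁ ∈ X := Finset.mem_of_mem_erase hχ₁mem
  have hχ₂X : χ₂ ∈ X := Finset.mem_of_mem_erase hχ₂mem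
  have hχ₁ne : χ₁ ≠ trivIrr G := Finset.ne_of_mem_erase hχ₁mem
  have hχ₂ne : χ₂ ≠ trivIrr G := Finset.ne_of_mem_erase hχ₂mem
  have hsumX : ∀ f : Cfsg.IrrCharacter G → ℂ, ∑ ξ ∈ X, f ξ = f (trivIrr G) + f χ₁ + f χ₂ := by
    intro f
    rw [← Finset.add_sum_erase X _ hB.triv_mem, hχ, Finset.sum_pair hne12, add_assoc]
  have hsum : ∑ ξ ∈ X, a ξ * (leoDeg ξ : ℤ) =
      1 + a χ₁ * (leoDeg χ₁ : ℤ) + a χ₂ * (leoDeg χ₂ : ℤ) := by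
    rw [← Finset.add_sum_erase X _ hB.triv_mem, hχ, Finset.sum_pair hne12, ha1, hd1]
    push_cast
    ring
  rw [hsum] at hrel
  -- a non-trivial element of `P`
  obtain ⟨x₀, hx₀, hx₀1⟩ := btxdeg_exists P hP
  have hx7 : 7 ∣ orderOf x₀ := by rw [btxdeg_orderOf P hP x₀ hx₀ hx₀1]
  have hDdvd : ∀ χ ∈ X, leoDeg χ ∣ 360 := by
    intro χ hχX
    rw [← hci]
    exact deg_dvd_of_pm_one P hP χ (a χ) (hB.a_pm χ hχX) x₀ hx₀ hx₀1 (hB.valX χ hχX x₀ hx7) _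
      (leoDeg_spec χ)
  have hzdvd : z ∣ 360 := by
    rw [← hci]
    exact exc_deg_dvd P hP Y z (fun η hη => by rw [leoDeg_spec η, hzY η hη]) ε hB.eps_pm x₀ hx₀ hx₀1
      (hB.sumY x₀ hx7)
  have harith := o5040c14_arith (leoDeg χ₁) (leoDeg χ₂) z (a χ₁) (a χ₂) ε (hB.a_pm χ₁ hχ₁X)
    (hB.a_pm χ₂ hχ₂X) hB.eps_pm (hge χ₁ hχ₁X hχ₁ne) (hge χ₂ hχ₂X hχ₂ne) hz1 (hDdvd χ₁ hχ₁X)
    (hDdvd χ₂ hχ₂X) hzdvd (hcong χ₁ hχ₁X) (hcong χ₂ hχ₂X) (by exact_mod_cast hzc) hrel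
  -- the involution of `cen P`
  obtain ⟨y, hy, hyc⟩ := o5040cy_invol P (by rw [hC]; norm_num)
  obtain ⟨k₁, m₁, hk₁, hkm₁, h4₁, hle₁, hge₁, hne₁⟩ := o5040cy_yval hperf P hP y hy hyc χ₁ hχ₁ne (a χ₁)
    (fun g hg => hB.valX χ₁ hχ₁X g hg)
  obtain ⟨k₂, m₂, hk₂, hkm₂, h4₂, hle₂, hge₂, hne₂⟩ := o5040cy_yval hperf P hP y hy hyc χ₂ hχ₂ne (a χ₂)
    (fun g hg => hB.valX χ₂ hχ₂X g hg)
  -- an exceptional character
  have hYcard : Y.card = 2 := by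
    have := hB.cardY
    omega
  obtain ⟨η, hη⟩ : Y.Nonempty := by
    rw [← Finset.card_pos, hYcard]; norm_num
  have hηne : η ≠ trivIrr G := by
    intro h
    rw [h] at hη
    exact (Finset.disjoint_left.mp hB.disj hB.triv_mem) hη
  have hy7 : ¬ 7 ∣ orderOf y := by rw [hy]; norm_num
  have hrely := hB.rel η hη y hy7
  rw [hsumX (fun ξ => (a ξ : ℂ) * (ξ : G → ℂ) y), ha1, trivIrr_apply, hk₁, hk₂] at hrely
  -- the last pattern: `η y = η 1`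
  have hlast : ∀ (k₁' k₂' : ℤ) (a₁' a₂' : ℤ), a χ₁ = a₁' → a χ₂ = a₂' → k₁ = k₁' → k₂ = k₂' →
      1 + a₁' * k₁' + a₂' * k₂' = -4 → z = 4 → ε = -1 → False := by
    intro k₁' k₂' a₁' a₂' e1 e2 e3 e4 e5 e6 e7
    rw [e1, e2, e3, e4, e7] at hrely
    have h1 : (η : G → ℂ) y = 4 := by
      have h2 : ((1 : ℤ) : ℂ) * 1 + (a₁' : ℂ) * (k₁' : ℂ) + (a₂' : ℂ) * (k₂' : ℂ) = ((-4 : ℤ) : ℂ) := by
        rw [← e5]; push_cast; ring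
      rw [h2] at hrely
      push_cast at hrely
      linear_combination -hrely
    have h3 : (η : G → ℂ) 1 = 4 := by
      rw [leoDeg_spec η, hzY η hη, e6]; norm_num
    have := faithful_of_simple η hηne y (by rw [h1, h3])
    rw [this, orderOf_one] at hy
    omega
  rcases harith with ⟨hD, ha⟩ | ⟨hD, ha⟩ | ⟨hD, ha⟩ | ⟨hD, ha⟩ |
      ⟨hD₁, ha₁, hD₂, ha₂, hz4, hεm⟩ | ⟨hD₂, ha₂, hD₁, ha₁, hz4, hεm⟩
  · rw [hD, ha] at hkm₁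
    rw [hD] at h4₁ hle₁ hge₁ hne₁
    push_cast at hkm₁ h4₁ hle₁ hge₁ hne₁
    omega
  · rw [hD, ha] at hkm₁
    rw [hD] at h4₁ hle₁ hge₁ hne₁
    push_cast at hkm₁ h4₁ hle₁ hge₁ hne₁
    omega
  · rw [hD, ha] at hkm₂
    rw [hD] at h4₂ hle₂ hge₂ hne₂
    push_cast at hkm₂ h4₂ hle₂ hge₂ hne₂
    omega
  · rw [hD, ha] at hkm₂
    rw [hD] at h4₂ hle₂ hge₂ hne₂
    push_cast at hkm₂ h4₂ hle₂ hge₂ hne₂
    omega
  · rw [hD₁, ha₁] at hkm₁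
    rw [hD₁] at h4₁ hle₁ hge₁ hne₁
    rw [hD₂, ha₂] at hkm₂
    rw [hD₂] at h4₂ hle₂ hge₂ hne₂
    push_cast at hkm₁ h4₁ hle₁ hge₁ hne₁ hkm₂ h4₂ hle₂ hge₂ hne₂
    have e1 : k₁ = -13 := by omega
    have e2 : k₂ = -8 := by omega
    exact hlast (-13) (-8) 1 (-1) ha₁ ha₂ e1 e2 (by norm_num) hz4 hεm
  · rw [hD₁, ha₁] at hkm₁
    rw [hD₁] at h4₁ hle₁ hge₁ hne₁
    rw [hD₂, ha₂] at hkm₂
    rw [hD₂] at h4₂ hle₂ hge₂ hne₂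
    push_cast at hkm₁ h4₁ hle₁ hge₁ hne₁ hkm₂ h4₂ hle₂ hge₂ hne₂
    have e1 : k₁ = -8 := by omega
    have e2 : k₂ = -13 := by omega
    exact hlast (-8) (-13) (-1) 1 ha₁ ha₂ e1 e2 (by norm_num) hz4 hεm

end Cfsg.Agent.Lib.Helper20.O5040C
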