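import Mathlib
import Cfsg.Agent.Lib.Helper18.OCT.Defs

/-!
# Project OCG, rows D4 / D5 (helper20), cores: squares in `DGrp δ` and in `RGrp (delta F)`, with the statements of
D0 (`delta_props`, the part used), D2 (`phi_props`, the parts used) and D3 (`mem_DGrp_iff`) as hypotheses.
-/

set_option autoImplicit false

namespace Cfsg.Agent.Lib.Helper18.OCT

open Cfsg.Lie Matrix
open scoped MatrixGroups
open scoped commutatorElement

variable {F : Type*} [Field F]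

theorem ocgd4_central (z : GL (Fin 2) F) (c : F)
    (hz : (z : Matrix (Fin 2) (Fin 2) F) = c • (1 : Matrix (Fin 2) (Fin 2) F)) : z ∈ ZGrp F := by
  unfold ZGrp
  rw [Subgroup.mem_center_iff]
  intro g
  apply Units.ext
  rw [Units.val_mul, Units.val_mul, hz, Matrix.mul_smul, Matrix.smul_mul, mul_one, one_mul]

theorem ocgd4_phi_mem (δ : F) : (phiGL : GL (Fin 2) F) ∈ DGrp δ :=
  Subgroup.subset_closure (Set.mem_union_right _ rfl)

theorem ocgd4_A_le (δ : F) {a : GL (Fin 2) F} (ha : a ∈ ASet δ) : a ∈ DGrp δ :=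
  Subgroup.subset_closure (Set.mem_union_left _ ha)

theorem ocgd4_sq_eq (a p : GL (Fin 2) F) :
    a ^ 2 = (a * (p * a * p⁻¹)) * ⁅p, a⁻¹⁆ := by
  rw [commutatorElement_def, pow_two]
  group

theorem ocgd4_sq_eq' (a p : GL (Fin 2) F) (hp : p * p = 1) :
    (a * p) ^ 2 = a * (p * a * p⁻¹) := by
  have hpi : p⁻¹ = p := inv_eq_of_mul_eq_one_right hp
  rw [hpi, pow_two]
  calc a * p * (a * p) = a * (p * a * p) := by group

/-- D4, core. -/
theorem ocgd4_core (δ : F)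
    (hD3 : ∀ g : GL (Fin 2) F, g ∈ DGrp δ ↔ g ∈ ASet δ ∨ ∃ a ∈ ASet δ, g = a * phiGL)
    (hD2a : ∀ g : GL (Fin 2) F, g ∈ TorSet δ →
      ((g * (phiGL * g * phiGL⁻¹) : GL (Fin 2) F) : Matrix (Fin 2) (Fin 2) F) =
        (g : Matrix (Fin 2) (Fin 2) F).det • (1 : Matrix (Fin 2) (Fin 2) F))
    (hD2b : (phiGL : GL (Fin 2) F) * phiGL = 1)
    (h : GL (Fin 2) F) (hh : h ∈ DGrp δ) :
    ∃ z ∈ ZGrp F, ∃ k ∈ ⁅DGrp δ, DGrp δ⁆, h ^ 2 = z * k := by
  rcases (hD3 h).mp hh with ha | ⟨a, ha, rfl⟩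
  · refine ⟨h * (phiGL * h * phiGL⁻¹), ocgd4_central _ _ (hD2a h ha.1), ⁅phiGL, h⁻¹⁆, ?_,
      ocgd4_sq_eq h phiGL⟩
    exact Subgroup.commutator_mem_commutator (ocgd4_phi_mem δ)
      (Subgroup.inv_mem _ (ocgd4_A_le δ ha))
  · refine ⟨a * (phiGL * a * phiGL⁻¹), ocgd4_central _ _ (hD2a a ha.1), 1, Subgroup.one_mem _, ?_⟩
    rw [mul_one]
    exact ocgd4_sq_eq' a phiGL hD2b

theorem ocgd5_det_eq_one (r : GL (Fin 2) F) (hr : r ∈ SLker F) :
    (r : Matrix (Fin 2) (Fin 2) F).det = 1 := by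
  unfold SLker at hr
  rw [MonoidHom.mem_ker] at hr
  rw [← Matrix.GeneralLinearGroup.val_det_apply, hr, Units.val_one]

theorem ocgd5_mem_SLker (r : GL (Fin 2) F) (hr : (r : Matrix (Fin 2) (Fin 2) F).det = 1) :
    r ∈ SLker F := by
  unfold SLker
  rw [MonoidHom.mem_ker]
  apply Units.ext
  rw [Matrix.GeneralLinearGroup.val_det_apply, hr, Units.val_one]

/-- first case of D5: `a ∈ ASet δ` of determinant `1` -/
theorem ocgd5_case_A (δ : F)
    (hD2a : ∀ g : GL (Fin 2) F, g ∈ TorSet δ →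
      ((g * (phiGL * g * phiGL⁻¹) : GL (Fin 2) F) : Matrix (Fin 2) (Fin 2) F) =
        (g : Matrix (Fin 2) (Fin 2) F).det • (1 : Matrix (Fin 2) (Fin 2) F))
    (a : GL (Fin 2) F) (ha : a ∈ ASet δ) (hdet : (a : Matrix (Fin 2) (Fin 2) F).det = 1) :
    a ^ 2 ∈ ⁅RGrp δ, DGrp δ⁆ := by
  have h1 : a * (phiGL * a * phiGL⁻¹) = 1 := by
    apply Units.ext
    rw [hD2a a ha.1, hdet, one_smul, Units.val_one]
  have h2 : a ^ 2 = ⁅(phiGL : GL (Fin 2) F), a⁻¹⁆ := by
    rw [ocgd4_sq_eq a phiGL, h1, one_mul]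
  rw [h2, Subgroup.commutator_comm]
  apply Subgroup.commutator_mem_commutator (ocgd4_phi_mem δ)
  apply Subgroup.inv_mem
  exact ⟨ocgd4_A_le δ ha, ocgd5_mem_SLker a hdet⟩

/-- D5, core. -/
theorem ocgd5_core
    (hD0 : ∃ y₀ : F, delta F * y₀ ^ 2 = -1)
    (hD3 : ∀ g : GL (Fin 2) F, g ∈ DGrp (delta F) ↔
      g ∈ ASet (delta F) ∨ ∃ a ∈ ASet (delta F), g = a * phiGL)
    (hD2a : ∀ g : GL (Fin 2) F, g ∈ TorSet (delta F) →
      ((g * (phiGL * g * phiGL⁻¹) : GL (Fin 2) F) : Matrix (Fin 2) (Fin 2) F) =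
        (g : Matrix (Fin 2) (Fin 2) F).det • (1 : Matrix (Fin 2) (Fin 2) F))
    (hD2b : (phiGL : GL (Fin 2) F) * phiGL = 1)
    (hD2c : ((phiGL : GL (Fin 2) F) : Matrix (Fin 2) (Fin 2) F).det = -1)
    (r : GL (Fin 2) F) (hr : r ∈ RGrp (delta F)) :
    r ^ 2 ∈ ⁅RGrp (delta F), DGrp (delta F)⁆ := by
  obtain ⟨hrD, hrS⟩ := hr
  have hdetr := ocgd5_det_eq_one r hrS
  rcases (hD3 r).mp hrD with ha | ⟨a, ha, rfl⟩
  · exact ocgd5_case_A (delta F) hD2a r ha hdetr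
  · -- `det a = -1`
    have hdeta : (a : Matrix (Fin 2) (Fin 2) F).det = -1 := by
      rw [Units.val_mul, Matrix.det_mul, hD2c] at hdetr
      have : (a : Matrix (Fin 2) (Fin 2) F).det = -((a : Matrix (Fin 2) (Fin 2) F).det * -1) := by
        ring
      rw [this, hdetr]
    have hsq : ((a * phiGL) ^ 2 : GL (Fin 2) F) = a * (phiGL * a * phiGL⁻¹) :=
      ocgd4_sq_eq' a phiGL hD2b
    have hval : (((a * phiGL) ^ 2 : GL (Fin 2) F) : Matrix (Fin 2) (Fin 2) F) =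
        (-1 : F) • (1 : Matrix (Fin 2) (Fin 2) F) := by
      rw [hsq, hD2a a ha.1, hdeta]
    -- the element `z = k(0, y₀)`
    obtain ⟨y₀, hy₀⟩ := hD0
    have hdz : (kmat (delta F) 0 y₀).det ≠ 0 := by
      unfold kmat
      rw [Matrix.det_fin_two_of]
      have : (0 : F) * 0 - delta F * y₀ * y₀ = 1 := by
        have : delta F * y₀ * y₀ = delta F * y₀ ^ 2 := by ring
        rw [this, hy₀]
        ring
      rw [this]
      exact one_ne_zero
    set z : GL (Fin 2) F := Matrix.GeneralLinearGroup.mkOfDetNeZero (kmat (delta F) 0 y₀) hdz with hz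
    have hzval : (z : Matrix (Fin 2) (Fin 2) F) = kmat (delta F) 0 y₀ := rfl
    have hzT : z ∈ TorSet (delta F) := ⟨0, y₀, hzval⟩
    have hz2 : ((z ^ 2 : GL (Fin 2) F) : Matrix (Fin 2) (Fin 2) F) =
        (-1 : F) • (1 : Matrix (Fin 2) (Fin 2) F) := by
      rw [pow_two, Units.val_mul, hzval]
      unfold kmat
      ext i j
      fin_cases i <;> fin_cases j <;>
        simp [Matrix.mul_apply, Fin.sum_univ_two, Matrix.one_apply] <;>
        linear_combination hy₀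
    have hz4 : z ^ (2 ^ 2) = 1 := by
      have : z ^ (2 ^ 2) = z ^ 2 * z ^ 2 := by
        rw [← pow_add]
        norm_num
      rw [this]
      apply Units.ext
      rw [Units.val_mul, hz2, Units.val_one]
      ext i j
      fin_cases i <;> fin_cases j <;> simp [Matrix.mul_apply, Fin.sum_univ_two, Matrix.one_apply]
    have hzA : z ∈ ASet (delta F) := ⟨hzT, 2, hz4⟩
    have hzdet : (z : Matrix (Fin 2) (Fin 2) F).det = 1 := by
      rw [hzval]
      unfold kmat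
      rw [Matrix.det_fin_two_of]
      have : delta F * y₀ * y₀ = delta F * y₀ ^ 2 := by ring
      rw [this, hy₀]
      ring
    have h3 := ocgd5_case_A (delta F) hD2a z hzA hzdet
    have h4 : (a * phiGL) ^ 2 = z ^ 2 := by
      apply Units.ext
      rw [hval, hz2]
    rw [h4]
    exact h3

end Cfsg.Agent.Lib.Helper18.OCT
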