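import Mathlib
import Cfsg.Agent.Lib.Helper18.OCT.Defs
import Cfsg.Agent.Lib.Helper29.OCGD2
import Cfsg.Agent.Lib.Helper29.OCGD3
import Cfsg.Agent.Lib.helper15.OCGD0
import Cfsg.Agent.Lib.Helper20.OCGD45core

/-!
# Project OCG, rows D4 and D5 (helper20), verbatim: squares in `DGrp δ` and `RGrp (delta F)`.
-/

set_option autoImplicit false

namespace Cfsg.Agent.Lib.Helper18.OCT

open Cfsg.Lie Matrix
open scoped MatrixGroups

variable {F : Type*} [Field F]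

/-- D4 [M]. -/
theorem DGrp_sq (δ : F) (h : GL (Fin 2) F) (hh : h ∈ DGrp δ) :
    ∃ z ∈ ZGrp F, ∃ k ∈ ⁅DGrp δ, DGrp δ⁆, h ^ 2 = z * k :=
  ocgd4_core δ (mem_DGrp_iff δ) (fun g hg => (phi_props δ g hg).2.1)
    ((phi_props δ 1 ⟨1, 0, by
      ext i j
      fin_cases i <;> fin_cases j <;> simp [kmat]⟩).2.2.1) h hh

/-- D5 [M]. -/
theorem RGrp_sq (r : GL (Fin 2) F) (hr : r ∈ RGrp (delta F)) :
    r ^ 2 ∈ ⁅RGrp (delta F), DGrp (delta F)⁆ :=
  ocgd5_core (delta_props (F := F)).2.1 (mem_DGrp_iff (delta F))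
    (fun g hg => (phi_props (delta F) g hg).2.1)
    ((phi_props (delta F) 1 ⟨1, 0, by
      ext i j
      fin_cases i <;> fin_cases j <;> simp [kmat]⟩).2.2.1)
    ((phi_props (delta F) 1 ⟨1, 0, by
      ext i j
      fin_cases i <;> fin_cases j <;> simp [kmat]⟩).2.2.2.1) r hr

end Cfsg.Agent.Lib.Helper18.OCT
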