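import Mathlib
import Cfsg.Agent.Lib.Helper18.OCT.Defs
import Cfsg.Agent.Lib.helper7.OCGS1
import Cfsg.Agent.Lib.helper7.OCGS2
import Cfsg.Agent.Lib.helper7.OCGN1
import Cfsg.Agent.Lib.Helper29.OCGP3

/-!
# Project OCG, row MAIN (helper20), core: the assembly `oct_main`, with the statements of P4 (`P0_sq`),
P5 (`card_P0`) and X8 (`card_G2`) as hypotheses (S1, S2, N1, P3 are cited from main).
-/

set_option autoImplicit false

namespace Cfsg.Agent.Lib.Helper18.OCT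

open Cfsg.Lie Matrix
open scoped MatrixGroups

theorem ocgmain_core {F : Type*} [Field F] [Fintype F] (hF : Odd (Fintype.card F))
    (hP4 : ∀ x : GL (Fin 8) F, x ∈ P0 (delta F) → x ^ 2 ∈ ⁅P0 (delta F), P0 (delta F)⁆)
    (hP5 : ∀ {q : ℕ}, Fintype.card F = q → Odd q →
      Nat.card (P0 (delta F)) = 2 ^ (2 * (q ^ 2 - 1).factorization 2))
    (hX8 : ∀ {q : ℕ}, Fintype.card F = q →
      Nat.card ↥(G2 F) = q ^ 6 * (q ^ 6 - 1) * (q ^ 2 - 1))
    (P : Sylow 2 (Cfsg.Lie.G2 F)) :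
    ∀ x : (P : Subgroup (Cfsg.Lie.G2 F)), x ^ 2 ∈ commutator (P : Subgroup (Cfsg.Lie.G2 F)) := by
  have hq2 : 2 ≤ Fintype.card F := by
    have := Fintype.one_lt_card (α := F)
    omega
  obtain ⟨hc, hsq⟩ := subgroupOf_sq (P0 (delta F)) (G2 F) (P0_le (delta F)) hP4
  haveI : Fact (Nat.Prime 2) := ⟨Nat.prime_two⟩
  refine sylow_sq_of_witness 2 ((P0 (delta F)).subgroupOf (G2 F)) ?_ hsq P
  rw [hc, hP5 rfl hF, hX8 rfl, two_part_order _ hF hq2]

end Cfsg.Agent.Lib.Helper18.OCT
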