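import Mathlib
import Cfsg.Agent.Lib.Helper18.OCT.Defs
import Cfsg.Agent.Lib.Helper18.OCGX5b
import Cfsg.Agent.Lib.Helper20.OCGX4core

/-!
# Project OCG, rows X4 and X4c (helper20), verbatim: `sl3GL A ∈ G₂(F)` acts as `sl3Fun A (adj A)ᵀ`;
`sl3GL` is injective and fixes `e1`.
-/

set_option autoImplicit false

namespace Cfsg.Agent.Lib.Helper18.OCT

open Cfsg.Lie Matrix
open scoped MatrixGroups

variable {F : Type*} [Field F]

/-- X4 [M]. -/
theorem sl3GL_mem (A : Matrix.SpecialLinearGroup (Fin 3) F) :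
    sl3GL A ∈ G2 F ∧ ∀ x : Oct F, act (sl3GL A) x =
      sl3Fun (A : Matrix (Fin 3) (Fin 3) F) (Matrix.adjugate (A : Matrix (Fin 3) (Fin 3) F))ᵀ x :=
  ocgx4_core A (fun x y => sl3_mul (A : Matrix (Fin 3) (Fin 3) F) A.2 x y)

/-- X4c [S-M]. -/
theorem sl3GL_inj : Function.Injective (sl3GL : Matrix.SpecialLinearGroup (Fin 3) F → GL (Fin 8) F) ∧
    ∀ A : Matrix.SpecialLinearGroup (Fin 3) F, act (sl3GL A) (e1 : Oct F) = e1 :=
  ocgx4c_core (fun A => (sl3GL_mem A).2)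

end Cfsg.Agent.Lib.Helper18.OCT
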