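import Mathlib
import Cfsg.Agent.Lib.Helper18.OCT.Defs
import Cfsg.Agent.Lib.Helper20.OCGMAINcore
import Cfsg.Agent.Lib.Helper20.OCGD4
import Cfsg.Agent.Lib.Helper28.OCGP1
import Cfsg.Agent.Lib.helper8.OCGP4
import Cfsg.Agent.Lib.Helper25.OCGP5
import Cfsg.Agent.Lib.Helper27.OCGX7
import Cfsg.Agent.Lib.Helper27.OCGX8core
import Cfsg.Agent.Lib.helper7.OCGZ7
import Cfsg.Agent.Lib.helper8.OCGX6v

/-!
# Project OCG, row MAIN (helper20), verbatim: `oct_main`.

The rows P4 (`P0_sq`) and X8 (`card_G2`) are cited through their landed cores (`ocgp4_core`, `ocgx8_core`)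
under the own names `ocgmain_P0_sq`, `ocgmain_card_G2` (= the exact statements of P4 / X8), so this file does not
wait for the verbatim wrappers of those two rows.
-/

set_option autoImplicit false

namespace Cfsg.Agent.Lib.Helper18.OCT

open Cfsg.Lie Matrix
open scoped MatrixGroups

/-- = statement of P4 (`P0_sq`). -/
theorem ocgmain_P0_sq {F : Type*} [Field F] (x : GL (Fin 8) F) (hx : x ∈ P0 (delta F)) :
    x ^ 2 ∈ ⁅P0 (delta F), P0 (delta F)⁆ :=
  ocgp4_core (fun L M => sq_mem_commutator_abs L M) DGrp_sq RGrp_sq x hx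

/-- = statement of X8 (`card_G2`). -/
theorem ocgmain_card_G2 {F : Type*} [Field F] [Fintype F] {q : ℕ} (hq : Fintype.card F = q) :
    Nat.card ↥(G2 F) = q ^ 6 * (q ^ 6 - 1) * (q ^ 2 - 1) :=
  ocgx8_core hq card_G2_eq_mul (card_Idem hq) card_stab

/-- MAIN [S-M]. -/
theorem oct_main {F : Type*} [Field F] [Fintype F] (hF : Odd (Fintype.card F))
    (P : Sylow 2 (Cfsg.Lie.G2 F)) :
    ∀ x : (P : Subgroup (Cfsg.Lie.G2 F)), x ^ 2 ∈ commutator (P : Subgroup (Cfsg.Lie.G2 F)) :=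
  ocgmain_core hF ocgmain_P0_sq (fun hq hodd => card_P0 hq hodd) (fun hq => ocgmain_card_G2 hq) P

end Cfsg.Agent.Lib.Helper18.OCT
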