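import Mathlib
import Cfsg.Agent.Lib.helper8.OME.Defs
import Cfsg.Agent.Lib.helper15.OMESTDh15

set_option autoImplicit false

/-!
# OME rows STDFACTS (`ome_std_facts`) and STDCTX (`ome_std_qctx`, `ome_std_realize`):
verbatim wrappers of helper15's `omestdfacts_h15`, `omestdctx_h15_qctx`, `omestdctx_h15_realize`.
-/

namespace Cfsg.Agent.Lib.helper8.OME

open Polynomial Module Cfsg.Agent.Lib.Helper13.S5955 Cfsg.Agent.Lib.helper15.S5972
  Cfsg.Agent.Lib.Helper18.OPE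
open scoped Matrix

/-- STDFACTS [S-M] -/
theorem ome_std_facts {F : Type*} [Field F] [Fintype F] (d : ℕ) (hd : 1 ≤ d) (a b : F)
    (hab : ∀ x y : F, x ^ 2 + a * x * y + b * y ^ 2 = 0 → x = 0 ∧ y = 0) :
    finrank F (MI d → F) = 2 * d ∧
      QTy (Qm d F a b) (⊤ : Submodule F (MI d → F)) (-1) ∧
      (∀ u, (∀ v, stdM d F a b u v = 0) → u = 0) :=
  omestdfacts_h15 d hd a b hab

/-- STDCTX [M] -/
theorem ome_std_qctx {F : Type*} [Field F] [Fintype F] (d r : ℕ) (a b : F)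
    (hab : ∀ x y : F, x ^ 2 + a * x * y + b * y ^ 2 = 0 → x = 0 ∧ y = 0) (x : GL (MI d) F)
    (hx : x ∈ Cfsg.isometryGroup F (Cfsg.quadFormMinus (d - 1) F a b)) (hxr : x ^ r = 1) :
    QCtx r (Qm d F a b) (Matrix.toLin' (x : Matrix (MI d) (MI d) F)) :=
  omestdctx_h15_qctx d r a b hab x hx hxr

theorem ome_std_realize {F : Type*} [Field F] (d r : ℕ) (a b : F) (y : Module.End F (MI d → F))
    (h : QCtx r (Qm d F a b) y) :
    ∃ x : GL (MI d) F, x ∈ Cfsg.isometryGroup F (Cfsg.quadFormMinus (d - 1) F a b) ∧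
      Matrix.toLin' (x : Matrix (MI d) (MI d) F) = y ∧ x ^ r = 1 :=
  omestdctx_h15_realize d r a b y h

end Cfsg.Agent.Lib.helper8.OME
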