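import Mathlib
import Cfsg.Agent.Lib.Helper18.ONE.Defs
import Cfsg.Agent.Lib.Helper18.ONETYCLASS
import Cfsg.Agent.Lib.Lead.ONEFROZEN

set_option autoImplicit false

/-!
# Project ONE, row CP1 (hyp_ts_const): every hyperbolic `2h`-space contains the same number `N ≥ 1` of totally
singular `h`-spaces.
-/

namespace Cfsg.Agent.Lib.Helper18.ONE

open Polynomial Module Cfsg.Agent.Lib.Helper13.S5955 Cfsg.Agent.Lib.helper15.S5972

/-- transport of a family of subspaces of `W` along a linear equivalence `T : ↥W ≃ M` -/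
theorem onecp1_card_transport {F : Type*} [Field F] {V : Type*} [AddCommGroup V] [Module F V]
    {M : Type*} [AddCommGroup M] [Module F M] (W : Submodule F V) (T : ↥W ≃ₗ[F] M)
    (C : Submodule F V → Prop) (C' : Submodule F M → Prop)
    (hC : ∀ U : Submodule F V, U ≤ W →
      (C U ↔ C' ((U.comap W.subtype).map (T : ↥W →ₗ[F] M)))) :
    Nat.card {U : Submodule F V // U ≤ W ∧ C U} = Nat.card {U' : Submodule F M // C' U'} := by
  have hle : ∀ U' : Submodule F M, (U'.comap (T : ↥W →ₗ[F] M)).map W.subtype ≤ W :=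
    fun U' => Submodule.map_subtype_le W _
  have hback : ∀ U' : Submodule F M,
      (((U'.comap (T : ↥W →ₗ[F] M)).map W.subtype).comap W.subtype).map (T : ↥W →ₗ[F] M) = U' := by
    intro U'
    rw [Submodule.comap_map_eq_of_injective W.injective_subtype,
      Submodule.map_comap_eq_of_surjective T.surjective]
  refine Nat.card_congr ⟨fun U => ⟨(U.1.comap W.subtype).map (T : ↥W →ₗ[F] M), (hC U.1 U.2.1).mp U.2.2⟩,
    fun U' => ⟨(U'.1.comap (T : ↥W →ₗ[F] M)).map W.subtype, hle U'.1,
      (hC _ (hle U'.1)).mpr (by rw [hback]; exact U'.2)⟩, ?_, ?_⟩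
  · intro U
    apply Subtype.ext
    show (((U.1.comap W.subtype).map (T : ↥W →ₗ[F] M)).comap (T : ↥W →ₗ[F] M)).map W.subtype = U.1
    rw [Submodule.comap_map_eq_of_injective T.injective, Submodule.map_comap_subtype,
      inf_eq_right.mpr U.2.1]
  · intro U'
    apply Subtype.ext
    exact hback U'.1

/-- CP1 [M-L]: every hyperbolic `2h`-space contains the same number `N ≥ 1` of t.s. `h`-spaces (`exists_hyp_coords` on `↥W` with `Q` restricted gives a linear
isometry `↥W ≃ (Fin h ⊕ Fin h → F, quadFormPlus)`; subspaces correspond by `Submodule.map` / `comap`). -/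
theorem hyp_ts_const {F : Type*} [Field F] [Fintype F] (hodd : Odd (Fintype.card F)) (d h : ℕ) :
    ∃ N : ℕ, 0 < N ∧ ∀ W : NDp d (2 * h) F,
      Nat.card {U : Submodule F (Unit ⊕ (Fin d ⊕ Fin d) → F) //
        U ≤ W.1 ∧ Module.finrank F ↥U = h ∧ ∀ u ∈ U, Cfsg.quadFormOdd d F u = 0} = N := by
  classical
  have h2 : (2 : F) ≠ 0 := by
    intro h0
    have hc : ringChar F = 2 := by
      have h2' : ((2 : ℕ) : F) = 0 := by exact_mod_cast h0
      have hdvd := (ringChar.spec F 2).mp h2'
      have hp : (ringChar F).Prime := CharP.char_is_prime F (ringChar F)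
      exact ((Nat.prime_dvd_prime_iff_eq hp Nat.prime_two).mp hdvd)
    have := FiniteField.even_card_of_char_two hc
    rw [Nat.odd_iff] at hodd
    omega
  refine ⟨Nat.card {U' : Submodule F (Fin h ⊕ Fin h → F) //
    Module.finrank F ↥U' = h ∧ ∀ u ∈ U', Cfsg.quadFormPlus h F u = 0}, ?_, ?_⟩
  · -- the model has a totally singular `h`-space
    apply Nat.card_pos_iff.mpr
    refine ⟨⟨⟨LinearMap.ker (LinearMap.funLeft F F (Sum.inr : Fin h → Fin h ⊕ Fin h)), ?_, ?_⟩⟩,
      inferInstance⟩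
    · -- dimension
      have hsurj : Function.Surjective (LinearMap.funLeft F F (Sum.inr : Fin h → Fin h ⊕ Fin h)) :=
        LinearMap.funLeft_surjective_of_injective F F _ Sum.inr_injective
      have hrn := LinearMap.finrank_range_add_finrank_ker
        (LinearMap.funLeft F F (Sum.inr : Fin h → Fin h ⊕ Fin h))
      rw [LinearMap.range_eq_top.mpr hsurj, finrank_top, Module.finrank_fin_fun,
        Module.finrank_fintype_fun_eq_card, Fintype.card_sum, Fintype.card_fin] at hrn
      omega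
    · intro u hu
      have hu' : ∀ j, u (Sum.inr j) = 0 := by
        intro j
        have := congrFun (LinearMap.mem_ker.mp hu) j
        simpa [LinearMap.funLeft_apply] using this
      unfold Cfsg.quadFormPlus
      apply Finset.sum_eq_zero
      intro i _
      rw [hu' i, mul_zero]
  · intro W
    obtain ⟨hWdim, hWnd, hWplus⟩ := W.2
    obtain ⟨hnd_iff, hplus_iff⟩ := Cfsg.Agent.Lib.Helper18.ONE.frozen_iff h2 d W.1
    obtain ⟨hsymm, -, hself, -⟩ := stdO_facts h2 d
    have hSND : SND (stdO d F) W.1 := hnd_iff.mp hWnd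
    obtain ⟨U₀, hU₀W, hU₀ti, hU₀dim⟩ := hplus_iff.mp hWplus
    have hnd := onetyclass_nd h2 (stdO d F) hsymm W.1 hSND
    let U₀' : Submodule F ↥W.1 := U₀.comap W.1.subtype
    have hU₀'dim : finrank F U₀' = h := by
      have h1 : finrank F U₀' = finrank F U₀ := (Submodule.comapSubtypeEquivOfLe hU₀W).finrank_eq
      rw [h1]
      omega
    have hU₀'s : ∀ u ∈ U₀', onetyclass_Q (stdO d F) W.1 u = 0 := by
      intro u hu
      rw [onetyclass_Q_apply]
      exact hU₀ti _ hu _ hu
    obtain ⟨T, hT⟩ := Cfsg.Agent.Lib.helper6.Plus.exists_hyp_coords (onetyclass_Q (stdO d F) W.1) hnd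
      U₀' hU₀'s h hU₀'dim hWdim
    have hTQ : ∀ w : ↥W.1, Cfsg.quadFormPlus h F (T w) = 2 * Cfsg.quadFormOdd d F (w : _) := by
      intro w
      rw [hT w, onetyclass_Q_apply, hself]
    apply onecp1_card_transport W.1 T
      (fun U => Module.finrank F ↥U = h ∧ ∀ u ∈ U, Cfsg.quadFormOdd d F u = 0)
      (fun U' => Module.finrank F ↥U' = h ∧ ∀ u ∈ U', Cfsg.quadFormPlus h F u = 0)
    intro U hUW
    have hdimeq : finrank F ↥((U.comap W.1.subtype).map (T : ↥W.1 →ₗ[F] (Fin h ⊕ Fin h → F))) =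
        finrank F ↥U := by
      rw [LinearEquiv.finrank_map_eq T]
      exact (Submodule.comapSubtypeEquivOfLe hUW).finrank_eq
    constructor
    · rintro ⟨hd, hs⟩
      refine ⟨by rw [hdimeq, hd], ?_⟩
      rintro _ ⟨w, hw, rfl⟩
      show Cfsg.quadFormPlus h F (T w) = 0
      have h1 : Cfsg.quadFormOdd d F ((w : ↥W.1) : Unit ⊕ (Fin d ⊕ Fin d) → F) = 0 := hs _ hw
      rw [hTQ, h1, mul_zero]
    · rintro ⟨hd, hs⟩
      refine ⟨by rw [← hdimeq, hd], ?_⟩
      intro u hu
      have h1 := hs (T ⟨u, hUW hu⟩) ⟨⟨u, hUW hu⟩, hu, rfl⟩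
      rw [hTQ] at h1
      exact (mul_eq_zero.mp h1).resolve_left h2

end Cfsg.Agent.Lib.Helper18.ONE
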