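import Mathlib
import Cfsg.Agent.Lib.Helper18.ONE.Defs
import Cfsg.Agent.Lib.Helper18.ONETYCLASS
import Cfsg.Agent.Lib.Lead.ONEFROZEN
import Cfsg.Agent.Lib.Lead.ONETYUNIQ
import Cfsg.Agent.Lib.Helper19.ONETYEX
import Cfsg.Agent.Lib.Helper16.OPlane
import Cfsg.Agent.Lib.Helper20.ONECP1

set_option autoImplicit false

/-!
# Project ONE, row CM1 (ell_sub_const): every elliptic `2h`-space (`h ≥ 1`) contains the same number `N₁ ≥ 1` of
hyperbolic `(2h-2)`-spaces.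
-/

namespace Cfsg.Agent.Lib.Helper18.ONE

open Polynomial Module Cfsg.Agent.Lib.Helper13.S5955 Cfsg.Agent.Lib.helper15.S5972
open Cfsg.Agent.Lib.Helper16.OSemi

/-- the abstract (pulled back) conditions "dimension `k`, nondegenerate, plus type" for a function `g : M → F` -/
def onecm1_P {F : Type*} [Field F] {M : Type*} [AddCommGroup M] [Module F M] (g : M → F) (k : ℕ)
    (U : Submodule F M) : Prop :=
  finrank F ↥U = k ∧
  (∀ w ∈ U, w ≠ 0 → (∃ x ∈ U, QuadraticMap.polar g x w ≠ 0) ∧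
    (∃ x ∈ U, QuadraticMap.polar g w x ≠ 0)) ∧
  ∃ S : Submodule F M, S ≤ U ∧ (∀ s ∈ S, g s = 0) ∧ 2 * finrank F ↥S = finrank F ↥U

/-- pulling the frozen conditions back along an injective linear map -/
theorem onecm1_pull {F : Type*} [Field F] {ι : Type} [Fintype ι] [DecidableEq ι]
    {M : Type*} [AddCommGroup M] [Module F M]
    (ψ : M →ₗ[F] (ι → F)) (hψ : Function.Injective ψ) (q : (ι → F) → F) (k : ℕ)
    (U : Submodule F M) :
    (finrank F ↥(U.map ψ) = k ∧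
      Cfsg.Geo.IsNondegenerateOn (QuadraticMap.polar q) (U.map ψ) ∧
      Cfsg.Geo.IsPlusTypeOn q (U.map ψ)) ↔ onecm1_P (q ∘ ψ) k U := by
  have hfr : ∀ S : Submodule F M, finrank F ↥(S.map ψ) = finrank F ↥S := fun S =>
    (Submodule.equivMapOfInjective ψ hψ S).finrank_eq.symm
  have hpol : ∀ x w, QuadraticMap.polar (q ∘ ψ) x w = QuadraticMap.polar q (ψ x) (ψ w) := by
    intro x w
    unfold QuadraticMap.polar
    simp only [Function.comp_apply, map_add]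
  unfold onecm1_P
  rw [hfr U]
  refine and_congr Iff.rfl (and_congr ?_ ?_)
  · constructor
    · intro hnd w hw hw0
      have hw' : ψ w ≠ 0 := fun h0 => hw0 (hψ (by rw [h0, map_zero]))
      obtain ⟨⟨x', ⟨x, hx, rfl⟩, hx1⟩, ⟨y', ⟨y, hy, rfl⟩, hy1⟩⟩ :=
        hnd (ψ w) (Submodule.mem_map_of_mem hw) hw'
      exact ⟨⟨x, hx, by rw [hpol]; exact hx1⟩, ⟨y, hy, by rw [hpol]; exact hy1⟩⟩
    · rintro hnd _ ⟨w, hw, rfl⟩ hw0
      have hw' : w ≠ 0 := fun h0 => hw0 (by rw [h0, map_zero])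
      obtain ⟨⟨x, hx, hx1⟩, ⟨y, hy, hy1⟩⟩ := hnd w hw hw'
      exact ⟨⟨ψ x, Submodule.mem_map_of_mem hx, by rw [← hpol]; exact hx1⟩,
        ⟨ψ y, Submodule.mem_map_of_mem hy, by rw [← hpol]; exact hy1⟩⟩
  · constructor
    · rintro ⟨S', hS'U, hS'ts, hS'dim⟩
      have hS'eq : (S'.comap ψ).map ψ = S' := by
        rw [Submodule.map_comap_eq]
        apply inf_eq_right.mpr
        intro s hs
        obtain ⟨u, _, rfl⟩ := hS'U hs
        exact LinearMap.mem_range_self ψ u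
      refine ⟨S'.comap ψ, ?_, ?_, ?_⟩
      · intro s hs
        obtain ⟨u, hu, hus⟩ := hS'U (Submodule.mem_comap.mp hs)
        rw [← hψ hus]
        exact hu
      · intro s hs
        exact hS'ts _ (Submodule.mem_comap.mp hs)
      · rw [← hfr (S'.comap ψ), hS'eq, hS'dim, hfr U]
    · rintro ⟨S, hSU, hSts, hSdim⟩
      refine ⟨S.map ψ, Submodule.map_mono hSU, ?_, ?_⟩
      · rintro _ ⟨s, hs, rfl⟩
        exact hSts s hs
      · rw [hfr S, hfr U, hSdim]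

/-- an elliptic space is isometric to a standard minus space -/
theorem onecm1_coords {F : Type*} [Field F] [Fintype F] (h2 : (2 : F) ≠ 0)
    {V : Type*} [AddCommGroup V] [Module F V] [FiniteDimensional F V]
    (B : LinearMap.BilinForm F V) (hsymm : ∀ u v, B u v = B v u)
    (W : Submodule F V) (hW : SND B W) (hS : ¬ SHyp B W) (h : ℕ) (hpos : 1 ≤ h)
    (hdim : finrank F W = 2 * h) :
    ∃ ζ : F, (∀ t : F, t ^ 2 + t + ζ ≠ 0) ∧
      ∃ Φ : ((Fin (h - 1) ⊕ Fin (h - 1)) ⊕ Fin 2 → F) ≃ₗ[F] ↥W,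
        ∀ v, B ((Φ v : ↥W) : V) ((Φ v : ↥W) : V) = Cfsg.quadFormMinus (h - 1) F 1 ζ v := by
  classical
  have hnd := onetyclass_nd h2 B hsymm W hW
  let b : Basis (Fin (2 * h)) F W := Module.finBasisOfFinrankEq F W hdim
  let e : ↥W ≃ₗ[F] (Fin (2 * h) → F) := b.equivFun
  let Q : QuadraticForm F (Fin (2 * h) → F) := (onetyclass_Q B W).comp e.symm.toLinearMap
  have hQ : ∀ v, Q v = B ((e.symm v : ↥W) : V) ((e.symm v : ↥W) : V) := fun v => rfl
  have hQnd : (QuadraticMap.polarBilin Q).Nondegenerate :=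
    nondeg_of_equiv (onetyclass_Q B W) Q e.symm (fun v => rfl) hnd
  rcases classify hpos (Fintype.card_fin _) Q hQnd with ⟨Φ, hΦ⟩ | ⟨ζ, hζ, Φ, hΦ⟩
  · exfalso
    apply hS
    apply onetyclass_hyp_of_plus h2 B hsymm W h hdim (Φ.trans e.symm)
    intro v
    rw [← hΦ v, hQ]
    rfl
  · refine ⟨ζ, hζ, Φ.trans e.symm, ?_⟩
    intro v
    rw [← hΦ v, hQ]
    rfl

/-- two elliptic spaces of the same dimension are isometric -/
theorem onecm1_iso {F : Type*} [Field F] [Fintype F] (h2 : (2 : F) ≠ 0)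
    {V : Type*} [AddCommGroup V] [Module F V] [FiniteDimensional F V]
    (B : LinearMap.BilinForm F V) (hsymm : ∀ u v, B u v = B v u)
    (W W₀ : Submodule F V) (hW : SND B W) (hS : ¬ SHyp B W) (hW₀ : SND B W₀) (hS₀ : ¬ SHyp B W₀)
    (h : ℕ) (hpos : 1 ≤ h) (hdim : finrank F W = 2 * h) (hdim₀ : finrank F W₀ = 2 * h) :
    ∃ T : ↥W ≃ₗ[F] ↥W₀, ∀ w : ↥W, B ((T w : ↥W₀) : V) ((T w : ↥W₀) : V) = B (w : V) (w : V) := by
  obtain ⟨ζ, hζ, Φ, hΦ⟩ := onecm1_coords h2 B hsymm W hW hS h hpos hdim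
  obtain ⟨ζ₀, hζ₀, Φ₀, hΦ₀⟩ := onecm1_coords h2 B hsymm W₀ hW₀ hS₀ h hpos hdim₀
  obtain ⟨Ψ, hΨ⟩ := minus_change (h - 1) 1 ζ 1 ζ₀ (aniso_of_irred ζ hζ) (aniso_of_irred ζ₀ hζ₀)
  refine ⟨(Φ.symm.trans Ψ).trans Φ₀, ?_⟩
  intro w
  have h1 : ((Φ.symm.trans Ψ).trans Φ₀) w = Φ₀ (Ψ (Φ.symm w)) := rfl
  rw [h1, hΦ₀, hΨ, ← hΦ, LinearEquiv.apply_symm_apply]

/-- CM1 [M-L]: every elliptic `2h`-space (`h ≥ 1`) contains the same number `N₁ ≥ 1` of hyperbolic `(2h-2)`-spaces.  (TYCLASS / NDTSTD: `OTy (-1)`; coordinates +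
`Cfsg.Agent.Lib.Helper16.OSemi.to_std_minus` (OPlane.lean) with a FIXED anisotropic `(a, c)`: all elliptic `2h`-spaces are isometric to `quadFormMinus (h-1) F a c`;
`N₁ ≥ 1`: `{v | v ∘ Sum.inr = 0}`.) -/
theorem ell_sub_const {F : Type*} [Field F] [Fintype F] (hodd : Odd (Fintype.card F)) (d h : ℕ)
    (hh : 1 ≤ h) :
    ∃ N₁ : ℕ, 0 < N₁ ∧ ∀ W : NDm d (2 * h) F,
      Nat.card {W' : NDp d (2 * h - 2) F // W'.1 ≤ W.1} = N₁ := by
  classical
  have h2 : (2 : F) ≠ 0 := by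
    intro h0
    have hc : ringChar F = 2 := by
      have h2' : ((2 : ℕ) : F) = 0 := by exact_mod_cast h0
      have hdvd := (ringChar.spec F 2).mp h2'
      have hp : (ringChar F).Prime := CharP.char_is_prime F (ringChar F)
      exact ((Nat.prime_dvd_prime_iff_eq hp Nat.prime_two).mp hdvd)
    have := FiniteField.even_card_of_char_two hc
    rw [Nat.odd_iff] at hodd
    omega
  obtain ⟨hsymm, -, hself, -⟩ := stdO_facts h2 d
  -- the subtype in the statement, rewritten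
  have hre : ∀ W : Submodule F (Unit ⊕ (Fin d ⊕ Fin d) → F),
      Nat.card {W' : NDp d (2 * h - 2) F // W'.1 ≤ W} =
      Nat.card {U : Submodule F (Unit ⊕ (Fin d ⊕ Fin d) → F) // U ≤ W ∧
        (finrank F ↥U = 2 * h - 2 ∧
          Cfsg.Geo.IsNondegenerateOn (QuadraticMap.polar (Cfsg.quadFormOdd d F)) U ∧
          Cfsg.Geo.IsPlusTypeOn (Cfsg.quadFormOdd d F) U)} := by
    intro W
    apply Nat.card_congr
    exact ⟨fun W' => ⟨W'.1.1, W'.2, W'.1.2⟩, fun U => ⟨⟨U.1, U.2.2⟩, U.2.1⟩,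
      fun _ => rfl, fun _ => rfl⟩
  by_cases hne : Nonempty (NDm d (2 * h) F)
  swap
  · exact ⟨1, one_pos, fun W => (hne ⟨W⟩).elim⟩
  obtain ⟨W₀⟩ := hne
  obtain ⟨hW₀dim, hW₀nd, hW₀np⟩ := W₀.2
  obtain ⟨hnd_iff₀, hplus_iff₀⟩ := frozen_iff h2 d W₀.1
  have hSND₀ : SND (stdO d F) W₀.1 := hnd_iff₀.mp hW₀nd
  have hnS₀ : ¬ SHyp (stdO d F) W₀.1 := fun hS => hW₀np (hplus_iff₀.mpr hS)
  refine ⟨Nat.card {W' : NDp d (2 * h - 2) F // W'.1 ≤ W₀.1}, ?_, ?_⟩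
  · -- positivity
    apply Nat.card_pos_iff.mpr
    refine ⟨?_, inferInstance⟩
    rcases Nat.lt_or_ge h 2 with hlt | hge
    · -- `h = 1`: the zero space
      have h1 : h = 1 := by omega
      subst h1
      refine ⟨⟨⟨⊥, ?_, ?_, ?_⟩, bot_le⟩⟩
      · simp
      · intro w hw hw0
        exact absurd ((Submodule.mem_bot F).mp hw) hw0
      · refine ⟨⊥, le_rfl, ?_, by simp⟩
        intro w hw
        rw [(Submodule.mem_bot F).mp hw]
        unfold Cfsg.quadFormOdd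
        simp
    · obtain ⟨W', hW'le, hW'nd, hW'dim, hW'ty⟩ := ty_ex h2 (stdO d F) hsymm W₀.1 hSND₀ (2 * h - 2)
        ⟨h - 1, by omega⟩ (by omega) (by omega) 1 (Or.inl rfl)
      obtain ⟨hnd_iff', hplus_iff'⟩ := frozen_iff h2 d W'
      have hS' : SHyp (stdO d F) W' := by
        rcases ty_class h2 (stdO d F) hsymm W' hW'nd ⟨h - 1, by omega⟩ with ⟨hS, -⟩ | ⟨-, hm⟩
        · exact hS
        · exact (ty_uniq (stdO d F) W' hW'ty hm).elim
      exact ⟨⟨⟨W', hW'dim, hnd_iff'.mpr hW'nd, hplus_iff'.mpr hS'⟩, hW'le⟩⟩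
  · intro W
    obtain ⟨hWdim, hWnd, hWnp⟩ := W.2
    obtain ⟨hnd_iff, hplus_iff⟩ := frozen_iff h2 d W.1
    have hSND : SND (stdO d F) W.1 := hnd_iff.mp hWnd
    have hnS : ¬ SHyp (stdO d F) W.1 := fun hS => hWnp (hplus_iff.mpr hS)
    obtain ⟨T, hT⟩ := onecm1_iso h2 (stdO d F) hsymm W.1 W₀.1 hSND hnS hSND₀ hnS₀ h hh hWdim hW₀dim
    have hTQ : ∀ w : ↥W.1, Cfsg.quadFormOdd d F ((T w : ↥W₀.1) : _) = Cfsg.quadFormOdd d F (w : _) := by
      intro w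
      have := hT w
      rw [hself, hself] at this
      exact mul_left_cancel₀ h2 this
    rw [hre W.1, hre W₀.1]
    -- both counts equal the count of the abstract conditions on `↥W₀`
    have key : ∀ (W₁ : Submodule F (Unit ⊕ (Fin d ⊕ Fin d) → F)) (T₁ : ↥W₁ ≃ₗ[F] ↥W₀.1)
        (_ : ∀ w : ↥W₁, Cfsg.quadFormOdd d F ((T₁ w : ↥W₀.1) : _) = Cfsg.quadFormOdd d F (w : _)),
        Nat.card {U : Submodule F (Unit ⊕ (Fin d ⊕ Fin d) → F) // U ≤ W₁ ∧
          (finrank F ↥U = 2 * h - 2 ∧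
            Cfsg.Geo.IsNondegenerateOn (QuadraticMap.polar (Cfsg.quadFormOdd d F)) U ∧
            Cfsg.Geo.IsPlusTypeOn (Cfsg.quadFormOdd d F) U)} =
        Nat.card {U' : Submodule F ↥W₀.1 //
          onecm1_P (Cfsg.quadFormOdd d F ∘ W₀.1.subtype) (2 * h - 2) U'} := by
      intro W₁ T₁ hT₁
      apply onecp1_card_transport W₁ T₁
      intro U hUW
      have hUeq : U = (U.comap W₁.subtype).map W₁.subtype := by
        rw [Submodule.map_comap_subtype, inf_eq_right.mpr hUW]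
      have hfun : Cfsg.quadFormOdd d F ∘ W₁.subtype =
          (Cfsg.quadFormOdd d F ∘ W₀.1.subtype) ∘ (T₁ : ↥W₁ →ₗ[F] ↥W₀.1) := by
        funext w
        exact (hT₁ w).symm
      have hP : onecm1_P (Cfsg.quadFormOdd d F ∘ W₁.subtype) (2 * h - 2) (U.comap W₁.subtype) ↔
          onecm1_P (Cfsg.quadFormOdd d F ∘ W₀.1.subtype) (2 * h - 2)
            ((U.comap W₁.subtype).map (T₁ : ↥W₁ →ₗ[F] ↥W₀.1)) := by
        rw [← onecm1_pull W₁.subtype W₁.injective_subtype, ← onecm1_pull W₀.1.subtype W₀.1.injective_subtype,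
          ← Submodule.map_comp]
        have hcomp : (W₀.1.subtype ∘ₗ (T₁ : ↥W₁ →ₗ[F] ↥W₀.1)) = (W₀.1.subtype ∘ₗ (T₁ : ↥W₁ →ₗ[F] ↥W₀.1)) := rfl
        rw [onecm1_pull W₁.subtype W₁.injective_subtype,
          onecm1_pull (W₀.1.subtype ∘ₗ (T₁ : ↥W₁ →ₗ[F] ↥W₀.1))
            (W₀.1.injective_subtype.comp T₁.injective)]
        rw [hfun]
        rfl
      rw [← hP, ← onecm1_pull W₁.subtype W₁.injective_subtype, ← hUeq]
    rw [key W.1 T hTQ, key W₀.1 (LinearEquiv.refl F _) (fun _ => rfl)]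

end Cfsg.Agent.Lib.Helper18.ONE
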