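import Mathlib
import Cfsg.Agent.Lib.Helper19.ORE.Defs

/-!
# Project ORE, row A1: `Conj` calculus, `Rep` / `SolP` invariant under conjugation.
-/

set_option autoImplicit false

namespace Cfsg.Agent.Lib.Helper19.ORE

open Polynomial Module

universe u v w v₁ v₂ v₃ v₄

section General
variable {F : Type u} [Field F]

theorem conj_symm {V : Type v} {V' : Type w} [AddCommGroup V] [Module F V] [AddCommGroup V']
    [Module F V'] {e : V ≃ₗ[F] V'} {g : V ≃ₗ[F] V} {g' : V' ≃ₗ[F] V'} (h : Conj e g g') :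
    Conj e.symm g' g := by
  intro y
  apply e.injective
  rw [LinearEquiv.apply_symm_apply, h (e.symm y), LinearEquiv.apply_symm_apply]

theorem conj_trans {V : Type v} {V' : Type w} {V'' : Type v₁} [AddCommGroup V] [Module F V]
    [AddCommGroup V'] [Module F V'] [AddCommGroup V''] [Module F V'']
    {e : V ≃ₗ[F] V'} {e' : V' ≃ₗ[F] V''} {g : V ≃ₗ[F] V} {g' : V' ≃ₗ[F] V'} {g'' : V'' ≃ₗ[F] V''}
    (h : Conj e g g') (h' : Conj e' g' g'') : Conj (e.trans e') g g'' := by
  intro x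
  rw [LinearEquiv.trans_apply, LinearEquiv.trans_apply, h x, h' (e x)]

theorem conj_prod {V : Type v} {V' : Type w} {W : Type v₁} {W' : Type v₂}
    [AddCommGroup V] [Module F V] [AddCommGroup V'] [Module F V']
    [AddCommGroup W] [Module F W] [AddCommGroup W'] [Module F W']
    {e : V ≃ₗ[F] V'} {f : W ≃ₗ[F] W'} {g : V ≃ₗ[F] V} {g' : V' ≃ₗ[F] V'}
    {h : W ≃ₗ[F] W} {h' : W' ≃ₗ[F] W'} (hg : Conj e g g') (hh : Conj f h h') :
    Conj (e.prodCongr f) (g.prodCongr h) (g'.prodCongr h') := by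
  rintro ⟨a, b⟩
  simp only [LinearEquiv.prodCongr_apply]
  rw [hg a, hh b]

theorem conj_prodComm {V : Type v} {W : Type w} [AddCommGroup V] [Module F V]
    [AddCommGroup W] [Module F W] (g : V ≃ₗ[F] V) (h : W ≃ₗ[F] W) :
    Conj (LinearEquiv.prodComm F V W) (g.prodCongr h) (h.prodCongr g) := by
  rintro ⟨a, b⟩
  rfl

theorem conj_prodAssoc {V : Type v} {W : Type w} {U : Type v₁} [AddCommGroup V] [Module F V]
    [AddCommGroup W] [Module F W] [AddCommGroup U] [Module F U]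
    (g : V ≃ₗ[F] V) (h : W ≃ₗ[F] W) (k : U ≃ₗ[F] U) :
    Conj (LinearEquiv.prodAssoc F V W U) ((g.prodCongr h).prodCongr k)
      (g.prodCongr (h.prodCongr k)) := by
  rintro ⟨⟨a, b⟩, c⟩
  rfl

theorem rep_conj {V : Type v} {V' : Type w} [AddCommGroup V] [Module F V] [AddCommGroup V']
    [Module F V'] {e : V ≃ₗ[F] V'} {g : V ≃ₗ[F] V} {g' : V' ≃ₗ[F] V'} (h : Conj e g g')
    {k : ℕ} {M : Matrix (Fin k) (Fin k) F} (hr : Rep g' M) : Rep g M := by
  obtain ⟨e', he'⟩ := hr
  refine ⟨e.trans e', ?_⟩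
  intro x
  rw [LinearEquiv.trans_apply, LinearEquiv.trans_apply, h x, he' (e x)]

theorem conj_prodUnique {V : Type v} {W : Type w} [AddCommGroup V] [Module F V]
    [AddCommGroup W] [Module F W] [Unique W] (g : V ≃ₗ[F] V) (h : W ≃ₗ[F] W) :
    Conj (LinearEquiv.prodUnique (R := F) (M := V) (M₂ := W)) (g.prodCongr h) g := by
  rintro ⟨a, b⟩
  rfl

theorem solP_conj {V : Type v} {V' : Type w} [AddCommGroup V] [Module F V] [AddCommGroup V']
    [Module F V'] {e : V ≃ₗ[F] V'} {g : V ≃ₗ[F] V} {g' : V' ≃ₗ[F] V'} (h : Conj e g g')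
    {D E : Fˣ} {p : F[X]} (hs : SolP g D E p) : SolP g' D E p := by
  obtain ⟨A, y, hAy, hD, hE, hp⟩ := hs
  have hsymm := conj_symm h
  refine ⟨(e.symm.trans A).trans e, (e.symm.trans y).trans e, ?_, ?_, ?_, ?_⟩
  · apply LinearEquiv.ext
    intro x'
    have h1 : A (g (e.symm x')) = y (A (y⁻¹ (e.symm x'))) := by
      have := congrArg (fun T : V ≃ₗ[F] V => T (e.symm x')) hAy
      simpa [LinearEquiv.mul_apply] using this
    have hinv : ((e.symm.trans y).trans e)⁻¹ x' = e (y⁻¹ (e.symm x')) := by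
      rw [LinearEquiv.coe_inv]
      simp [LinearEquiv.trans_symm, LinearEquiv.trans_apply]
    rw [LinearEquiv.mul_apply, LinearEquiv.mul_apply, LinearEquiv.mul_apply, hinv]
    simp only [LinearEquiv.trans_apply, LinearEquiv.symm_apply_apply]
    rw [hsymm x', h1]
  · rw [LinearEquiv.det_conj, hD]
  · rw [LinearEquiv.det_conj, hE]
  · have hcoe : (((e.symm.trans A).trans e : V' ≃ₗ[F] V') : V' →ₗ[F] V') =
        e.conjAlgEquiv F (A : V →ₗ[F] V) := by
      ext x
      simp [LinearEquiv.conjAlgEquiv_apply]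
    rw [hcoe, Polynomial.aeval_algHom_apply, hp, map_zero]

end General

end Cfsg.Agent.Lib.Helper19.ORE
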