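import Mathlib
import Cfsg.Agent.Lib.Helper19.ORE.Defs

/-!
# Project ORE, row A2: `SolP` of a product, weakening of the polynomial.
-/

set_option autoImplicit false

namespace Cfsg.Agent.Lib.Helper19.ORE

open Polynomial Module

universe u v w v₁ v₂ v₃ v₄

section General
variable {F : Type u} [Field F]

/-- `aeval` of a product map is the product map of the `aeval`s. -/
theorem orea2_aeval_prodMap {V : Type v} {W : Type w} [AddCommGroup V] [Module F V]
    [AddCommGroup W] [Module F W] (A : V →ₗ[F] V) (A' : W →ₗ[F] W) (q : F[X]) :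
    aeval (A.prodMap A') q = (aeval A q).prodMap (aeval A' q) := by
  have h1 : A.prodMap A' = LinearMap.prodMapAlgHom F V W (A, A') := rfl
  rw [h1, Polynomial.aeval_algHom_apply, Polynomial.aeval_prod_apply]
  rfl

theorem solP_prod {V : Type v} {W : Type w} [AddCommGroup V] [Module F V]
    [AddCommGroup W] [Module F W] [FiniteDimensional F V] [FiniteDimensional F W]
    {g : V ≃ₗ[F] V} {h : W ≃ₗ[F] W}
    {D E D' E' : Fˣ} {p p' : F[X]} (hg : SolP g D E p) (hh : SolP h D' E' p') :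
    SolP (g.prodCongr h) (D * D') (E * E') (p * p') := by
  obtain ⟨A, y, hAy, hD, hE, hp⟩ := hg
  obtain ⟨A', y', hAy', hD', hE', hp'⟩ := hh
  have hdet : ∀ (B : V ≃ₗ[F] V) (B' : W ≃ₗ[F] W),
      LinearEquiv.det (B.prodCongr B') = LinearEquiv.det B * LinearEquiv.det B' := by
    intro B B'
    apply Units.ext
    rw [LinearEquiv.coe_det, LinearEquiv.coe_prodCongr, LinearMap.det_prodMap, Units.val_mul,
      LinearEquiv.coe_det, LinearEquiv.coe_det]
  refine ⟨A.prodCongr A', y.prodCongr y', ?_, ?_, ?_, ?_⟩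
  · apply LinearEquiv.ext
    rintro ⟨a, b⟩
    have h1 : A (g a) = y (A (y⁻¹ a)) := by
      have := congrArg (fun T : V ≃ₗ[F] V => T a) hAy
      simpa [LinearEquiv.mul_apply] using this
    have h2 : A' (h b) = y' (A' (y'⁻¹ b)) := by
      have := congrArg (fun T : W ≃ₗ[F] W => T b) hAy'
      simpa [LinearEquiv.mul_apply] using this
    have hinv : (y.prodCongr y')⁻¹ (a, b) = (y⁻¹ a, y'⁻¹ b) := rfl
    rw [LinearEquiv.mul_apply, LinearEquiv.mul_apply, LinearEquiv.mul_apply, hinv]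
    simp only [LinearEquiv.prodCongr_apply]
    rw [h1, h2]
  · rw [hdet, hD, hD']
  · rw [hdet, hE, hE']
  · rw [LinearEquiv.coe_prodCongr, orea2_aeval_prodMap, map_mul, map_mul, hp, hp', zero_mul,
      mul_zero]
    ext x <;> simp

theorem solP_mul_right {V : Type v} [AddCommGroup V] [Module F V] {g : V ≃ₗ[F] V}
    {D E : Fˣ} {p : F[X]} (r : F[X]) (hg : SolP g D E p) : SolP g D E (p * r) := by
  obtain ⟨A, y, hAy, hD, hE, hp⟩ := hg
  exact ⟨A, y, hAy, hD, hE, by rw [map_mul, hp, zero_mul]⟩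

theorem solP_zero {V : Type v} [AddCommGroup V] [Module F V] {g : V ≃ₗ[F] V}
    {D E : Fˣ} {p : F[X]} (hg : SolP g D E p) : SolP g D E 0 := by
  obtain ⟨A, y, hAy, hD, hE, _⟩ := hg
  exact ⟨A, y, hAy, hD, hE, map_zero _⟩

end General

end Cfsg.Agent.Lib.Helper19.ORE
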