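import Mathlib
import Cfsg.Agent.Lib.Helper13.OTS.Defs
import Cfsg.Agent.Lib.Helper24.S5972SPLIT
import Cfsg.Agent.Lib.Helper24.S5972LAG
import Cfsg.Agent.Lib.Helper5.S5955T6
import Cfsg.Agent.Lib.helper23.ONECYCLADDER
import Cfsg.Agent.Lib.helper17.OTSQOCTX
import Cfsg.Agent.Lib.helper15.OTSTSOFTI
import Cfsg.Agent.Lib.Helper21.OTSFIXTY
import Cfsg.Agent.Lib.Helper21.OTSWITT
import Cfsg.Agent.Lib.Helper25.OTSARITHS

/-!
# OTS row SUFFABS, second copy by helper20 under its own name `otssuffabs_h20`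
(same statement as `q_suff_abs` of `Helper13/OTS/Skel.lean.txt`; twin of helper13's `s5972suffabs_core`).
-/

set_option autoImplicit false
set_option linter.unusedVariables false

namespace Cfsg.Agent.Lib.Helper13.OTS

open Polynomial Module Cfsg.Agent.Lib.Helper13.S5955 Cfsg.Agent.Lib.helper15.S5972

/-- the order of `|F|` modulo `r` divides `r - 1` -/
theorem otssuffabs_h20_ord_dvd {F : Type*} [Field F] [Fintype F] {p : ℕ} [hp : Fact p.Prime]
    [CharP F p] (r : ℕ) [hr : Fact r.Prime] (hrp : r ≠ p) :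
    orderOf ((Fintype.card F : ℕ) : ZMod r) ∣ r - 1 := by
  apply orderOf_dvd_of_pow_eq_one
  apply ZMod.pow_card_sub_one_eq_one
  intro h0
  rw [ZMod.natCast_eq_zero_iff] at h0
  obtain ⟨n, _, hn⟩ := FiniteField.card F p
  rw [hn] at h0
  exact hrp ((Nat.prime_dvd_prime_iff_eq hr.out hp.out).mp (hr.out.dvd_of_dvd_pow h0))

/-- SUFFABS (same statement as `q_suff_abs`). -/
theorem otssuffabs_h20 {F : Type*} [Field F] [Fintype F] {p : ℕ} [Fact p.Prime] [CharP F p]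
    {V : Type*} [AddCommGroup V] [Module F V] [FiniteDimensional F V]
    {r : ℕ} [Fact r.Prime] (hrp : r ≠ p) (hr2 : r ≠ 2) {Q : QuadraticForm F V} {x : Module.End F V}
    (h : QCtx r Q x) (d m : ℕ) (hV : finrank F V = 2 * d) (hm : m + 1 ≤ d) (ε : ℤ)
    (hε : ε = 1 ∨ ε = -1) (hty : QTy Q ⊤ ε) (i c : ℕ)
    (hi : i = orderOf ((Fintype.card F : ℕ) : ZMod r)) (hc : c = if Even i then i else 2 * i)
    (hC : TSC i c d m ((r - 1) / i) ε) : QTd Q x m := by
  have h' : OCtx r (qB Q) x := q_octx h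
  obtain ⟨horth, hcompl, hfnd, hcnd⟩ := o_split hrp h'
  obtain ⟨hce, T, hTc, hT, hTti, hTdim⟩ := o_lag hrp hr2 h'
  rw [← hi] at hTdim
  have hipos : 0 < i := hi ▸ Cfsg.Agent.Lib.Helper24.el_ord_pos (F := F) r hrp
  have hcyc0 : cyclotomic r F ≠ 0 := cyclotomic_ne_zero r F
  have hdeg : ∀ P : F[X], Irreducible P → P ∣ cyclotomic r F → P.natDegree = i := by
    intro P hP hPd
    rw [hi]
    exact Cfsg.Agent.Lib.Helper24.el_cyc_deg r hrp P hP hPd
  have hkill : ∀ u ∈ cycS r x, aeval x (cyclotomic r F) u = 0 := fun u hu => hu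
  have hit : i ∣ finrank F T :=
    Cfsg.Agent.Lib.Helper24.el_dvd_dim x T hT (cyclotomic r F) hcyc0
      (fun u hu => hkill u (hTc hu)) i hipos hdeg
  have hir : i ∣ r - 1 := hi ▸ otssuffabs_h20_ord_dvd (F := F) r hrp
  have hsum : finrank F (fixS x) + finrank F (cycS r x) = 2 * d := by
    rw [Submodule.finrank_add_eq_of_isCompl hcompl, hV]
  have hhalf := ti_le_half (qB Q) (cycS r x) T hcnd hTc hTti
  have hcinv : SInv x (cycS r x) := Cfsg.Agent.Lib.Helper24.el_inv_ker x (cyclotomic r F)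
  have hcg : c ∣ finrank F (cycS r x) :=
    Cfsg.Agent.Lib.Helper18.ONE.o_cyc_nd_dvd hrp hr2 h' i c hi hc (cycS r x) hcinv le_rfl hcnd
  obtain ⟨hfe, hge, htyc, htyf⟩ := q_fix_ty hrp hr2 h d hV ε hε hty i hi
  have hsf1 : ε * SCy i (finrank F (cycS r x)) = 1 ∨ ε * SCy i (finrank F (cycS r x)) = -1 := by
    unfold SCy
    rcases hε with rfl | rfl <;> split_ifs <;> simp
  have hf0 : finrank F (fixS x) = 0 → ε * SCy i (finrank F (cycS r x)) = 1 := by
    intro h0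
    have hbot : fixS x = ⊥ := Submodule.finrank_eq_zero.mp h0
    rw [hbot] at htyf
    exact (q_ty_bot Q _).mp htyf
  obtain ⟨w1, s, hw1, hs, hm'⟩ := q_arith_suff i c d m _ _ _ r ε _ hipos hc hm hε hsum hcg hit hir
    hhalf hTdim rfl hf0 hC
  obtain ⟨Y, hYT, hY, hYdim⟩ := Cfsg.Agent.Lib.Helper24.el_exists_dim x T hT (cyclotomic r F) hcyc0
    (fun u hu => hkill u (hTc hu)) i hdeg s hs
  obtain ⟨T1, hT1f, hT1ts, hT1dim⟩ := q_witt Q (fixS x) hfnd hfe _ htyf hsf1 w1 hw1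
  have hT1 : SInv x T1 := Cfsg.Agent.Lib.Helper24.el_inv_of_le_fix x T1 hT1f
  have hTts : QTS Q T := q_ts_of_ti hrp h T hTc hT hTti
  refine ⟨T1 ⊔ Y, Cfsg.Agent.Lib.Helper24.el_inv_sup hT1 hY, ?_, ?_⟩
  · intro w hw
    obtain ⟨a, ha, b, hb, rfl⟩ := Submodule.mem_sup.mp hw
    have hpol : QuadraticMap.polar Q a b = 0 := horth a (hT1f ha) b (hTc (hYT hb))
    have hadd : Q (a + b) = Q a + Q b + QuadraticMap.polar Q a b := by
      unfold QuadraticMap.polar
      ring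
    rw [hadd, hpol, hT1ts a ha, hTts b (hYT hb)]
    simp
  · have hdisj : Disjoint T1 Y := hcompl.disjoint.mono hT1f (hYT.trans hTc)
    have h1 := Submodule.finrank_sup_add_finrank_inf_eq T1 Y
    rw [disjoint_iff.mp hdisj, finrank_bot, add_zero] at h1
    rw [h1, hT1dim, hYdim, hm']

end Cfsg.Agent.Lib.Helper13.OTS
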