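import Mathlib
import Cfsg.Agent.Lib.helper23.P4S.DefsC

/-!
# Project P4C (helper23, S3466), row EV4 (`ev_four`): in characteristic 2 the image under `ρ₂` of the transvection `!![1, 1; 0, 1]`
has order 2 and `1 + g ≠ 0`.
-/

set_option autoImplicit false

namespace Cfsg.Agent.Lib.helper23.P4S

open Matrix
open scoped Kronecker

/-- the transvection -/
def p4cev4_A (E : Type) [Field E] : Matrix.SpecialLinearGroup (Fin 2) E :=
  ⟨!![1, 1; 0, 1], by simp [Matrix.det_fin_two]⟩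

theorem p4cev4_sq {E : Type} [Field E] [CharP E 2] : p4cev4_A E ^ 2 = 1 := by
  apply Subtype.ext
  rw [Matrix.SpecialLinearGroup.coe_pow, Matrix.SpecialLinearGroup.coe_one]
  show (!![1, 1; 0, 1] : Matrix (Fin 2) (Fin 2) E) ^ 2 = 1
  rw [sq]
  ext i j
  fin_cases i <;> fin_cases j <;>
    simp [Matrix.mul_apply, Fin.sum_univ_two, CharTwo.add_self_eq_zero]

theorem p4cev4_entry {E : Type} [Field E] (φ : E →+* E) :
    ((rho2 φ (p4cev4_A E) : GL (Fin 2 × Fin 2) E) : Matrix (Fin 2 × Fin 2) (Fin 2 × Fin 2) E) (0, 0) (0, 1) = 1 := by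
  rw [rho2_coe]
  simp [rho2M, p4cev4_A, Matrix.kroneckerMap_apply]

/-- EV4 [M]: `A = !![1, 1; 0, 1]`, `g = ρ₂ A = 1 + ν`, `ν ≠ 0` (entry `((0,0),(0,1))` of `ρ₂ A` is `A₀₀ * φ A₀₁ = 1`), `ν^2 = 0` (R3 with `2 = 0`), so `g^2 = 1`,
`g ≠ 1`, `orderOf g = 2` (`orderOf_eq_prime`), `gsum g 2 = 1 + g = ν ≠ 0` (char 2). -/
theorem ev_four {E : Type} [Field E] [CharP E 2] (φ : E →+* E) :
    ∃ g ∈ H2 φ, orderOf g = 2 ∧
      gsum ((g : GL (Fin 2 × Fin 2) E) : Matrix (Fin 2 × Fin 2) (Fin 2 × Fin 2) E) 2 ≠ 0 := by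
  have hentry := p4cev4_entry (E := E) φ
  refine ⟨rho2 φ (p4cev4_A E), ⟨p4cev4_A E, rfl⟩, ?_, ?_⟩
  · apply orderOf_eq_prime
    · rw [← map_pow, p4cev4_sq, map_one]
    · intro h
      rw [h] at hentry
      simp at hentry
  · intro h
    have h1 := congrFun (congrFun h (0, 0)) (0, 1)
    simp [gsum, Finset.sum_range_succ, hentry] at h1

end Cfsg.Agent.Lib.helper23.P4S
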