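import Mathlib
import Cfsg.Agent.Lib.helper23.P4S.DefsC

/-!
# Project P4C (helper23, S3466), row SL8 (`exists_nonsplit`): an element of order `q² + 1` in `SL₂(E)`, `|E| = q²`
(multiplication by an element of norm 1 and order `|E| + 1` of the quadratic extension of `E`).
-/

set_option autoImplicit false

namespace Cfsg.Agent.Lib.helper23.P4S

open Matrix
open scoped Kronecker

/-- an element of order `|E| + 1` in `SL₂(E)` for a finite field `E` -/
theorem p4csl8_core {E : Type} [Field E] [Fintype E] (p : ℕ) [Fact p.Prime] [CharP E p] :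
    ∃ A : Matrix.SpecialLinearGroup (Fin 2) E, orderOf A = Fintype.card E + 1 := by
  classical
  let L := FiniteField.Extension E p 2
  have : Fintype L := Fintype.ofFinite L
  have hfr : Module.finrank E L = 2 := FiniteField.finrank_extension E p 2
  have hcardL : Nat.card L = Fintype.card E ^ 2 := by
    rw [FiniteField.natCard_extension E p 2, Nat.card_eq_fintype_card]
  have hQ1 : 1 < Fintype.card E := Fintype.one_lt_card
  obtain ⟨γ, hγ⟩ := IsCyclic.exists_ofOrder_eq_natCard (α := Lˣ)
  have hγo : orderOf γ = (Fintype.card E - 1) * (Fintype.card E + 1) := by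
    rw [hγ, Nat.card_units, hcardL]
    have : 1 ≤ Fintype.card E := by omega
    zify [this, Nat.one_le_pow 2 _ this]
    ring
  -- the element of order `|E| + 1`
  have hb : orderOf (γ ^ (Fintype.card E - 1)) = Fintype.card E + 1 := by
    rw [orderOf_pow_of_dvd (by omega) (by rw [hγo]; exact dvd_mul_right _ _), hγo,
      Nat.mul_div_cancel_left _ (by omega)]
  set b : Lˣ := γ ^ (Fintype.card E - 1) with hbdef
  let bs : Module.Basis (Fin 2) E L := Module.finBasisOfFinrankEq E L hfr
  have hinj : Function.Injective (Algebra.leftMulMatrix bs) := Algebra.leftMulMatrix_injective bs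
  -- the norm of `b` is `1`
  have hnorm : Algebra.norm E (b : L) = 1 := by
    apply (algebraMap E L).injective
    rw [FiniteField.algebraMap_norm_eq_pow_sum, hfr, map_one, Finset.sum_range_succ,
      Finset.sum_range_one, pow_zero, pow_one, Nat.card_eq_fintype_card, add_comm]
    have h1 : b ^ (Fintype.card E + 1) = 1 := by
      rw [← hb]
      exact pow_orderOf_eq_one b
    have h2 := congrArg (fun u : Lˣ => (u : L)) h1
    simpa using h2
  have hdet : (Algebra.leftMulMatrix bs (b : L)).det = 1 := by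
    rw [← Algebra.norm_eq_matrix_det bs, hnorm]
  let A : Matrix.SpecialLinearGroup (Fin 2) E := ⟨Algebra.leftMulMatrix bs (b : L), hdet⟩
  have hA1 : (A : Matrix (Fin 2) (Fin 2) E) = Algebra.leftMulMatrix bs (b : L) := rfl
  refine ⟨A, ?_⟩
  rw [← hb]
  refine orderOf_eq_orderOf_iff.2 ?_
  intro k
  have hk : ((A ^ k : Matrix.SpecialLinearGroup (Fin 2) E) : Matrix (Fin 2) (Fin 2) E) =
      Algebra.leftMulMatrix bs ((b : L) ^ k) := by
    rw [Matrix.SpecialLinearGroup.coe_pow, hA1, map_pow]
  constructor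
  · intro h
    have h1 : Algebra.leftMulMatrix bs ((b : L) ^ k) = Algebra.leftMulMatrix bs 1 := by
      rw [← hk, h, map_one, Matrix.SpecialLinearGroup.coe_one]
    have h2 := hinj h1
    apply Units.ext
    rw [Units.val_pow_eq_pow_val, h2, Units.val_one]
  · intro h
    apply Subtype.ext
    have h3 : ((b : L) ^ k) = 1 := by
      rw [← Units.val_pow_eq_pow_val, h, Units.val_one]
    have h4 : ((A ^ k : Matrix.SpecialLinearGroup (Fin 2) E) : Matrix (Fin 2) (Fin 2) E) = 1 := by
      rw [hk, h3, map_one]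
    exact h4

/-- SL8 [L]: an element of order `q² + 1` in `SL₂(E)`, `|E| = q²`.  Route 1: `K = AlgebraicClosure E`, `b ∈ K` a primitive `(q²+1)`-th root of unity
(`(q²+1 : K) ≠ 0`; `IsAlgClosed`/`IsSepClosed` gives `HasEnoughRootsOfUnity`, or `X^(q²+1) - 1` separable with `q²+1` distinct roots forming a cyclic group), `t = b + b⁻¹` satisfies `t^(q²) = t`
so `t = algebraMap t₀` (the `q²` elements of `E` are all the roots of `X^(q²) - X` in `K`: `FiniteField.roots_X_pow_card_sub_X`, `Polynomial.card_roots'`), `A = !![0, -1; 1, t₀]`,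
then SL1 + SS1: the eigenvalue `b'` of `A` is a root of `X^2 - t X + 1`, so `b' ∈ {b, b⁻¹}`, `orderOf A = orderOf b' = q² + 1`.
Route 2: helper15's `Cfsg.Agent.S2469.exists_cyc_sp_even (F := E) 1 1 (q²+1)` gives such an element in `Matrix.symplecticGroup (Fin 1) E`; transport along `Fin 1 ⊕ Fin 1 ≃ Fin 2`
(`Sp₂ = SL₂`: `A J Aᵀ = det A • J`). -/
theorem exists_nonsplit {E : Type} [Field E] [Fintype E] (p : ℕ) [Fact p.Prime] [CharP E p] (n : ℕ) (hn : 1 ≤ n)
    (hE : Fintype.card E = p ^ (2 * n)) :
    ∃ A : Matrix.SpecialLinearGroup (Fin 2) E, orderOf A = (p ^ n) ^ 2 + 1 := by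
  obtain ⟨A, hA⟩ := p4csl8_core (E := E) p
  refine ⟨A, ?_⟩
  rw [hA, hE, mul_comm, pow_mul]

end Cfsg.Agent.Lib.helper23.P4S
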