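import Mathlib
import Cfsg.Agent.Lib.helper6.P4T.Defs

/-!
# Project P4T (helper6, S3466), row TR6 (`t3_nine`): in characteristic 3 the image under `ρ₁₂` of the transvection `!![1, 1; 0, 1]`
has order 3 and `1 + g + g² ≠ 0`.
-/

set_option autoImplicit false

namespace Cfsg.Agent.Lib.helper23.P4S

open Matrix
open scoped Kronecker

/-- the transvection -/
def p4ttr6_A (E : Type) [Field E] : Matrix.SpecialLinearGroup (Fin 2) E :=
  ⟨!![1, 1; 0, 1], by simp [Matrix.det_fin_two]⟩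

theorem p4ttr6_three {E : Type} [Field E] [CharP E 3] : (3 : E) = 0 := by
  have h := (CharP.cast_eq_zero_iff E 3 3).2 (dvd_refl 3)
  exact_mod_cast h

theorem p4ttr6_cube {E : Type} [Field E] [CharP E 3] : p4ttr6_A E ^ 3 = 1 := by
  apply Subtype.ext
  rw [Matrix.SpecialLinearGroup.coe_pow, Matrix.SpecialLinearGroup.coe_one]
  show (!![1, 1; 0, 1] : Matrix (Fin 2) (Fin 2) E) ^ 3 = 1
  have h3 : (3 : E) = 0 := p4ttr6_three
  rw [pow_succ, sq]
  ext i j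
  fin_cases i <;> fin_cases j <;>
    simp [Matrix.mul_apply, Fin.sum_univ_two]
  linear_combination h3

/-- the entry `((0,(0,0)), (2,(0,0)))` of `ρ₁₂ B` -/
theorem p4ttr6_entry {E : Type} [Field E] (φ₁ φ₂ : E →+* E) (B : Matrix (Fin 2) (Fin 2) E) :
    rho12M φ₁ φ₂ B (0, (0, 0)) (2, (0, 0)) = B 0 1 * B 0 1 * (φ₁ (B 0 0) * φ₂ (B 0 0)) := by
  simp [rho12M, sym2M, Matrix.kroneckerMap_apply]

/-- TR6 [M] (cites helper23's GEOP `gsum_char`): `A = !![1, 1; 0, 1]` (`det = 1`), `g = rho12 φ₁ φ₂ ⟨A, _⟩ ∈ H12` (`MonoidHom.mem_range`), `g^3 = 1` (TR5, or directly), `gsum g 3 = (g - 1)^2` (GEOP with `p = 3`),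
and the entry `((0, (0, 0)), (2, (0, 0)))` of `(M - 1)^2`, `M = rho12M φ₁ φ₂ A`, is `2 ≠ 0`: `M = S ⊗ₖ (A ⊗ₖ A)` (`A.map φ = A`: entries `0, 1`), `S = sym2M A = !![1, 1, 1; 0, 1, 2; 0, 0, 1]`;
`((M - 1)^2) x y = ∑ z, (M - 1) x z * (M - 1) z y` with `x = (0,(0,0))`, `y = (2,(0,0))`: `M z y ≠ 0` forces `z.2 = (0,0)` (`A` upper triangular with first column `(1, 0)`), and then the sum is over `z.1`: `(S - 1)² 0 2 = 1 * 2 = 2`
(`Fintype.sum_prod_type`, `Fin.sum_univ_succ`, `Matrix.kroneckerMap_apply`, `simp`/`decide`-style evaluation; `norm_num`).  So `g ≠ 1` (else `gsum = 3 • 1 = 0`), `orderOf g = 3` (`orderOf_eq_prime`). -/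
theorem t3_nine {E : Type} [Field E] [CharP E 3] (φ₁ φ₂ : E →+* E) :
    ∃ g ∈ H12 φ₁ φ₂, orderOf g = 3 ∧
      gsum ((g : GL (Fin 3 × (Fin 2 × Fin 2)) E) : Matrix (Fin 3 × (Fin 2 × Fin 2)) (Fin 3 × (Fin 2 × Fin 2)) E) 3 ≠ 0 := by
  have h3 : (3 : E) = 0 := p4ttr6_three
  have h2 : (2 : E) ≠ 0 := by
    intro h
    have h1 : ((2 : ℕ) : E) = 0 := by exact_mod_cast h
    have := (CharP.cast_eq_zero_iff E 3 2).1 h1
    omega
  -- the geometric sum
  have hgs : gsum (rho12M φ₁ φ₂ (p4ttr6_A E).1) 3 ≠ 0 := by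
    intro h
    have h1 := congrFun (congrFun h (0, (0, 0))) (2, (0, 0))
    rw [gsum, Finset.sum_range_succ, Finset.sum_range_succ, Finset.sum_range_one, pow_zero, pow_one, sq,
      ← rho12M_mul, Matrix.add_apply, Matrix.add_apply, p4ttr6_entry, p4ttr6_entry] at h1
    have hA : ((p4ttr6_A E).1 : Matrix (Fin 2) (Fin 2) E) = !![1, 1; 0, 1] := rfl
    rw [hA] at h1
    simp [Matrix.mul_apply, Fin.sum_univ_two] at h1
    apply h2
    linear_combination h1 - h3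
  refine ⟨rho12 φ₁ φ₂ (p4ttr6_A E), ⟨p4ttr6_A E, rfl⟩, ?_, ?_⟩
  · apply orderOf_eq_prime
    · rw [← map_pow, p4ttr6_cube, map_one]
    · intro h
      apply hgs
      have h1 : rho12M φ₁ φ₂ (p4ttr6_A E).1 = 1 := by
        rw [← rho12_coe, h]
        rfl
      rw [h1, gsum]
      simp only [one_pow, Finset.sum_const, Finset.card_range]
      ext i j
      rw [Matrix.smul_apply, Matrix.zero_apply, nsmul_eq_mul]
      push_cast
      rw [h3, zero_mul]
  · rw [rho12_coe]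
    exact hgs

end Cfsg.Agent.Lib.helper23.P4S
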