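import Mathlib
import Cfsg.Agent.Lib.helper6.P4T.Defs

/-!
# Project P4T (helper6, S3466), row TW1 (`wt12_zpow`): the weights of `diag(b, b⁻¹)` on `ρ₁₂` are `b ^ lam12 q j`.
-/

set_option autoImplicit false

namespace Cfsg.Agent.Lib.helper23.P4S

open Matrix
open scoped Kronecker

theorem p4ttw1_sym {K : Type} [Field K] (b : K) (j : Fin 3) :
    (![b * b, 1, b⁻¹ * b⁻¹] j : K) = b ^ ((![2, 0, -2] j : ℤ)) := by
  fin_cases j
  · show b * b = b ^ (2 : ℤ)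
    rw [zpow_two]
  · show (1 : K) = b ^ (0 : ℤ)
    rw [zpow_zero]
  · show b⁻¹ * b⁻¹ = b ^ (-2 : ℤ)
    rw [_root_.zpow_neg, zpow_two, mul_inv]

theorem p4ttw1_nat {K : Type} [Field K] (b : K) (j : Fin 2) (m : ℕ) :
    (![b, b⁻¹] j : K) ^ m = b ^ ((![1, -1] j : ℤ) * (m : ℤ)) := by
  fin_cases j
  · show b ^ m = b ^ ((1 : ℤ) * (m : ℤ))
    rw [one_mul, zpow_natCast]
  · show b⁻¹ ^ m = b ^ ((-1 : ℤ) * (m : ℤ))
    rw [neg_one_mul, _root_.zpow_neg, zpow_natCast, inv_pow]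

/-- TW1 [S-M]: `fin_cases` on the three components of `j` (`obtain ⟨j₀, j₁, j₂⟩ := j`), `zpow_add₀ hb`, `zpow_natCast`, `zpow_neg`, `zpow_mul`, `zpow_ofNat`; e.g. `j = (0, (1, 0))`: `b * b * ((b⁻¹)^q * b^(3q)) = b^(2 + (-q + 3q))`. -/
theorem wt12_zpow {K : Type} [Field K] (b : K) (hb : b ≠ 0) (q : ℕ) (j : Fin 3 × (Fin 2 × Fin 2)) :
    wt12 b q j = b ^ lam12 q j := by
  obtain ⟨j₀, j₁, j₂⟩ := j
  unfold wt12 lam12
  simp only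
  rw [p4ttw1_sym b j₀, p4ttw1_nat b j₁ q, p4ttw1_nat b j₂ (3 * q), ← zpow_add₀ hb, ← zpow_add₀ hb]
  push_cast
  rfl

end Cfsg.Agent.Lib.helper23.P4S
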