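import Mathlib
import Cfsg.Prelude.Def_Classical
import Cfsg.Agent.Lib.helper23.P4V.Defs

/-!
# Project P4V, rows C3A / C3AT, spare copies (helper20): the Sylvester-type equations
`A r Aᵀ - r = s` and `Aᵀ r A - r = s` are solvable in symmetric `r` for `A = cmp τ ν`, `Good τ ν`.
-/

set_option autoImplicit false

namespace Cfsg.Agent.Lib.helper23.P4V

open Matrix

universe u

section Field

variable {F : Type u} [Field F]

/-- the common determinant `(ν - 1)(τ² - (ν+1)²)` is nonzero. -/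
theorem p4vc3a_h20_det_ne (τ ν : F) (hG : Good τ ν) :
    (ν - 1) * (τ ^ 2 - (ν + 1) ^ 2) ≠ 0 := by
  obtain ⟨_, hν1, hirr⟩ := hG
  have h1 := hirr 1
  have h2 := hirr (-1)
  have e1 : ν - 1 ≠ 0 := sub_ne_zero.mpr hν1
  have e2 : τ - (ν + 1) ≠ 0 := by
    intro h
    apply h1
    linear_combination -h
  have e3 : τ + (ν + 1) ≠ 0 := by
    intro h
    apply h2
    linear_combination h
  have : τ ^ 2 - (ν + 1) ^ 2 = (τ - (ν + 1)) * (τ + (ν + 1)) := by ring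
  rw [this]
  exact mul_ne_zero e1 (mul_ne_zero e2 e3)

theorem p4vc3a_h20_cmpT (τ ν : F) : (cmp τ ν)ᵀ = !![0, 1; -ν, τ] := by
  unfold cmp
  ext i j; fin_cases i <;> fin_cases j <;> rfl

/-- `A r Aᵀ - r` for `A = cmp τ ν`, `r = !![a, b; b, c]`. -/
theorem p4vc3a_h20_formula (τ ν a b c : F) :
    cmp τ ν * !![a, b; b, c] * (cmp τ ν)ᵀ - !![a, b; b, c]
      = !![ν ^ 2 * c - a, -(ν + 1) * b - ν * τ * c;
           -(ν + 1) * b - ν * τ * c, a + 2 * τ * b + (τ ^ 2 - 1) * c] := by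
  rw [p4vc3a_h20_cmpT]
  unfold cmp
  rw [Matrix.mul_fin_two, Matrix.mul_fin_two]
  ext i j
  fin_cases i <;> fin_cases j <;> simp <;> ring

/-- `Aᵀ r A - r` for `A = cmp τ ν`, `r = !![a, b; b, c]`. -/
theorem p4vc3at_h20_formula (τ ν a b c : F) :
    (cmp τ ν)ᵀ * !![a, b; b, c] * cmp τ ν - !![a, b; b, c]
      = !![c - a, -(ν + 1) * b + τ * c;
           -(ν + 1) * b + τ * c, ν ^ 2 * a - 2 * ν * τ * b + (τ ^ 2 - 1) * c] := by
  rw [p4vc3a_h20_cmpT]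
  unfold cmp
  rw [Matrix.mul_fin_two, Matrix.mul_fin_two]
  ext i j
  fin_cases i <;> fin_cases j <;> simp <;> ring

theorem p4vc3a_h20_symm_eta (s : M2 F) (hs : sᵀ = s) : s = !![s 0 0, s 0 1; s 0 1, s 1 1] := by
  have h10 : s 1 0 = s 0 1 := by
    have := congrFun (congrFun hs 0) 1
    simpa [Matrix.transpose_apply] using this
  conv_lhs => rw [Matrix.eta_fin_two s, h10]

theorem p4vc3a_h20_symm_of (a b c : F) : (!![a, b; b, c] : M2 F)ᵀ = !![a, b; b, c] := by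
  ext i j; fin_cases i <;> fin_cases j <;> rfl

theorem p4vc3a_h20_sym_solve (τ ν : F) (hG : Good τ ν) (s : M2 F) (hs : sᵀ = s) :
    ∃ r : M2 F, rᵀ = r ∧ cmp τ ν * r * (cmp τ ν)ᵀ - r = s := by
  have hD := p4vc3a_h20_det_ne τ ν hG
  set D : F := (ν - 1) * (τ ^ 2 - (ν + 1) ^ 2) with hDdef
  set r2 : F := (ν * τ * (s 0 0 + s 1 1) + s 0 1 * (ν ^ 2 + τ ^ 2 - 1)) / D with hr2
  set r3 : F := (2 * τ * (-(s 0 1)) - (ν + 1) * (s 0 0 + s 1 1)) / D with hr3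
  refine ⟨!![ν ^ 2 * r3 - s 0 0, r2; r2, r3], p4vc3a_h20_symm_of _ _ _, ?_⟩
  rw [p4vc3a_h20_formula]
  conv_rhs => rw [p4vc3a_h20_symm_eta s hs]
  have e1 : ν ^ 2 * r3 - (ν ^ 2 * r3 - s 0 0) = s 0 0 := by ring
  have e2 : -(ν + 1) * r2 - ν * τ * r3 = s 0 1 := by
    rw [hr2, hr3]
    field_simp
    rw [hDdef]
    ring
  have e3 : (ν ^ 2 * r3 - s 0 0) + 2 * τ * r2 + (τ ^ 2 - 1) * r3 = s 1 1 := by
    rw [hr2, hr3]
    field_simp
    rw [hDdef]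
    ring
  rw [e1, e2, e3]

theorem p4vc3at_h20_sym_solveT (τ ν : F) (hG : Good τ ν) (s : M2 F) (hs : sᵀ = s) :
    ∃ r : M2 F, rᵀ = r ∧ (cmp τ ν)ᵀ * r * cmp τ ν - r = s := by
  have hD := p4vc3a_h20_det_ne τ ν hG
  set D : F := (ν - 1) * (τ ^ 2 - (ν + 1) ^ 2) with hDdef
  set r2 : F := (s 0 1 * (ν ^ 2 + τ ^ 2 - 1) - τ * (s 1 1 + ν ^ 2 * s 0 0)) / D with hr2
  set r3 : F := (-(ν + 1) * (s 1 1 + ν ^ 2 * s 0 0) + 2 * ν * τ * s 0 1) / D with hr3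
  refine ⟨!![r3 - s 0 0, r2; r2, r3], p4vc3a_h20_symm_of _ _ _, ?_⟩
  rw [p4vc3at_h20_formula]
  conv_rhs => rw [p4vc3a_h20_symm_eta s hs]
  have e1 : r3 - (r3 - s 0 0) = s 0 0 := by ring
  have e2 : -(ν + 1) * r2 + τ * r3 = s 0 1 := by
    rw [hr2, hr3]
    field_simp
    rw [hDdef]
    ring
  have e3 : ν ^ 2 * (r3 - s 0 0) - 2 * ν * τ * r2 + (τ ^ 2 - 1) * r3 = s 1 1 := by
    rw [hr2, hr3]
    field_simp
    rw [hDdef]
    ring
  rw [e1, e2, e3]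

end Field

end Cfsg.Agent.Lib.helper23.P4V
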