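import Mathlib
import Cfsg.Prelude.Def_Classical
import Cfsg.Agent.Lib.helper23.P4V.Defs
import Cfsg.Agent.Lib.Helper20.P4VFR3x

/-!
# Project P4V, row FR3 (frame_expand), verbatim name (helper20).
The proof is the spare copy `p4vfr3_h20_frame_expand` (same statement).
-/

set_option autoImplicit false

namespace Cfsg.Agent.Lib.helper23.P4V

open Matrix

universe u

section Field

variable {F : Type u} [Field F]

/-- **FR3**.  A frame is a basis (`frameMat` is invertible by FR1): expansion of a vector. -/
theorem frame_expand (e₁ e₂ f₁ f₂ : V F) (h : IsFrame e₁ e₂ f₁ f₂) (u : V F) :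
    u = om u f₁ • e₁ + om u f₂ • e₂ - om u e₁ • f₁ - om u e₂ • f₂ :=
  p4vfr3_h20_frame_expand e₁ e₂ f₁ f₂ h u

end Field

end Cfsg.Agent.Lib.helper23.P4V
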