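import Mathlib
import Cfsg.Prelude.Def_Classical
import Cfsg.Agent.Lib.helper23.P4V.Defs

/-!
# Project P4V, row OM1 (helper20): bilinearity lemmas for the symplectic form `om`.
-/

set_option autoImplicit false

namespace Cfsg.Agent.Lib.helper23.P4V

open Matrix

universe u

section Field

variable {F : Type u} [Field F]

theorem om_add_left (u u' v : V F) : om (u + u') v = om u v + om u' v := by
  unfold om
  simp only [Pi.add_apply]
  ring

theorem om_add_right (u v v' : V F) : om u (v + v') = om u v + om u v' := by
  unfold om
  simp only [Pi.add_apply]
  ring

theorem om_smul_left (c : F) (u v : V F) : om (c • u) v = c * om u v := by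
  unfold om
  simp only [Pi.smul_apply, smul_eq_mul]
  ring

theorem om_smul_right (c : F) (u v : V F) : om u (c • v) = c * om u v := by
  unfold om
  simp only [Pi.smul_apply, smul_eq_mul]
  ring

theorem om_neg_left (u v : V F) : om (-u) v = -om u v := by
  unfold om
  simp only [Pi.neg_apply]
  ring

theorem om_neg_right (u v : V F) : om u (-v) = -om u v := by
  unfold om
  simp only [Pi.neg_apply]
  ring

theorem om_sub_left (u u' v : V F) : om (u - u') v = om u v - om u' v := by
  unfold om
  simp only [Pi.sub_apply]
  ring

theorem om_sub_right (u v v' : V F) : om u (v - v') = om u v - om u v' := by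
  unfold om
  simp only [Pi.sub_apply]
  ring

theorem om_zero_left (v : V F) : om 0 v = 0 := by
  unfold om
  simp only [Pi.zero_apply]
  ring

theorem om_zero_right (u : V F) : om u 0 = 0 := by
  unfold om
  simp only [Pi.zero_apply]
  ring

theorem om_self (u : V F) : om u u = 0 := by
  unfold om
  ring

theorem om_swap (u v : V F) : om v u = -om u v := by
  unfold om
  ring

end Field

end Cfsg.Agent.Lib.helper23.P4V
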