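import Mathlib

set_option autoImplicit false
set_option linter.unusedVariables false
set_option linter.unusedSectionVars false

namespace Cfsg.Agent.Lib.Helper20.PGroupPerm
open Equiv

/-- A `q`-subgroup of `Perm X` with `|X| < q²` is abelian. -/
theorem commute_of_pgroup_small {X : Type*} [Fintype X] [DecidableEq X] (q : ℕ)
    [hq : Fact q.Prime] (P : Subgroup (Perm X)) (hP : IsPGroup q P)
    (hn : Fintype.card X < q ^ 2) (σ τ : Perm X) (hσ : σ ∈ P) (hτ : τ ∈ P) :
    σ * τ = τ * σ := by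
  ext a
  obtain ⟨k, hk⟩ := hP.card_orbit a
  have hOle : Nat.card (MulAction.orbit P a) ≤ Fintype.card X := by
    rw [← Nat.card_eq_fintype_card]
    exact Nat.card_le_card_of_injective Subtype.val Subtype.val_injective
  have hk1 : k ≤ 1 := by
    by_contra hcon
    have : q ^ 2 ≤ q ^ k := Nat.pow_le_pow_right hq.out.pos (by omega)
    omega
  have hdvd : Nat.card (MulAction.orbit P a) ∣ q := by
    rw [hk]
    exact (pow_dvd_pow q hk1).trans (by simp)
  let f := MulAction.toPermHom P (MulAction.orbit P a)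
  have hH : IsPGroup q f.range := hP.of_surjective f.rangeRestrict f.rangeRestrict_surjective
  obtain ⟨j, hj⟩ := IsPGroup.iff_card.1 hH
  have hcard : Nat.card f.range ∣ (Nat.card (MulAction.orbit P a)).factorial := by
    have := Subgroup.card_subgroup_dvd_card f.range
    rwa [Nat.card_perm] at this
  have hj1 : j ≤ 1 := by
    by_contra hcon
    have h2 : q ^ 2 ∣ (Nat.card (MulAction.orbit P a)).factorial := by
      have hj2 : 2 ≤ j := by omega
      have h0 : q ^ 2 ∣ Nat.card f.range := by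
        rw [hj]
        exact pow_dvd_pow q hj2
      exact h0.trans hcard
    have hOq : Nat.card (MulAction.orbit P a) ≤ q := Nat.le_of_dvd hq.out.pos hdvd
    have h3 : q ^ 2 ∣ q.factorial := h2.trans (Nat.factorial_dvd_factorial hOq)
    obtain ⟨r, hr⟩ : ∃ r, q = r + 1 := ⟨q - 1, by have := hq.out.pos; omega⟩
    rw [hr, Nat.factorial_succ, pow_two] at h3
    have h4 : (r + 1) ∣ r.factorial := Nat.dvd_of_mul_dvd_mul_left (by omega) h3
    rw [← hr] at h4
    have := (hq.out.dvd_factorial).1 h4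
    omega
  have hcyc : IsCyclic f.range := isCyclic_of_card_dvd_prime (p := q) (by
    rw [hj]
    exact (pow_dvd_pow q hj1).trans (by simp))
  have hcomm : f ⟨σ, hσ⟩ * f ⟨τ, hτ⟩ = f ⟨τ, hτ⟩ * f ⟨σ, hσ⟩ := by
    have h1 := mul_comm' (⟨f ⟨σ, hσ⟩, ⟨_, rfl⟩⟩ : f.range) ⟨f ⟨τ, hτ⟩, ⟨_, rfl⟩⟩
    exact congrArg Subtype.val h1
  have h5 := congrArg (fun g : Perm (MulAction.orbit P a) =>
    ((g ⟨a, MulAction.mem_orbit_self a⟩ : MulAction.orbit P a) : X)) hcomm
  exact h5

/-- A nonabelian `q`-subgroup of `Perm X` needs `q² ≤ |X|`. -/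
theorem sq_le_card_of_not_commute {X : Type*} [Fintype X] [DecidableEq X] (q : ℕ)
    [hq : Fact q.Prime] (P : Subgroup (Perm X)) (hP : IsPGroup q P)
    (σ τ : Perm X) (hσ : σ ∈ P) (hτ : τ ∈ P) (hne : σ * τ ≠ τ * σ) :
    q ^ 2 ≤ Fintype.card X := by
  by_contra hcon
  exact hne (commute_of_pgroup_small q P hP (by omega) σ τ hσ hτ)

theorem exists_alt_orderOf (n : ℕ) (m : Multiset ℕ) (hsum : m.sum ≤ n) (h2 : ∀ a ∈ m, 2 ≤ a)
    (hsign : Even (m.sum + m.card)) :
    ∃ g : alternatingGroup (Fin n), orderOf g = m.lcm := by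
  obtain ⟨σ, hσ⟩ := (Equiv.Perm.exists_with_cycleType_iff (Fin n)).2 ⟨by simpa using hsum, h2⟩
  have hs : Equiv.Perm.sign σ = 1 := by
    rw [Equiv.Perm.sign_of_cycleType, hσ, hsign.neg_one_pow]
  refine ⟨⟨σ, Equiv.Perm.mem_alternatingGroup.2 hs⟩, ?_⟩
  rw [← Subgroup.orderOf_coe]
  simp only
  rw [← Equiv.Perm.lcm_cycleType, hσ]

theorem exists_alt_orderOf_mul (n p q : ℕ) (hp : p.Prime) (hq : q.Prime) (hpq : p ≠ q)
    (h1 : p ≠ 2 → q ≠ 2 → p + q ≤ n) (h2 : p = 2 → q + 4 ≤ n) (h3 : q = 2 → p + 4 ≤ n) :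
    ∃ g : alternatingGroup (Fin n), orderOf g = p * q := by
  by_cases hp2 : p = 2
  · subst hp2
    have hq2 : q ≠ 2 := fun h => hpq h.symm
    obtain ⟨g, hg⟩ := exists_alt_orderOf n (2 ::ₘ 2 ::ₘ {q}) (by
      simp only [Multiset.sum_cons, Multiset.sum_singleton]; have := h2 rfl; omega) (by
      intro a ha
      simp only [Multiset.mem_cons, Multiset.mem_singleton] at ha
      rcases ha with rfl | rfl | rfl
      · exact le_rfl
      · exact le_rfl
      · exact hq.two_le) (by
      simp only [Multiset.sum_cons, Multiset.sum_singleton, Multiset.card_cons,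
        Multiset.card_singleton]
      obtain ⟨k, hk⟩ := hq.odd_of_ne_two hq2
      exact ⟨k + 4, by omega⟩)
    refine ⟨g, ?_⟩
    rw [hg]
    simp only [Multiset.lcm_cons, Multiset.lcm_singleton, normalize_eq]
    have hc : Nat.Coprime 2 q := (Nat.coprime_primes Nat.prime_two hq).2 hpq
    show Nat.lcm 2 (Nat.lcm 2 q) = 2 * q
    rw [hc.lcm_eq_mul, Nat.lcm_eq_right (Dvd.intro _ rfl)]
  · by_cases hq2 : q = 2
    · subst hq2
      obtain ⟨g, hg⟩ := exists_alt_orderOf n (2 ::ₘ 2 ::ₘ {p}) (by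
        simp only [Multiset.sum_cons, Multiset.sum_singleton]; have := h3 rfl; omega) (by
        intro a ha
        simp only [Multiset.mem_cons, Multiset.mem_singleton] at ha
        rcases ha with rfl | rfl | rfl
        · exact le_rfl
        · exact le_rfl
        · exact hp.two_le) (by
        simp only [Multiset.sum_cons, Multiset.sum_singleton, Multiset.card_cons,
          Multiset.card_singleton]
        obtain ⟨k, hk⟩ := hp.odd_of_ne_two hp2
        exact ⟨k + 4, by omega⟩)
      refine ⟨g, ?_⟩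
      rw [hg]
      simp only [Multiset.lcm_cons, Multiset.lcm_singleton, normalize_eq]
      have hc : Nat.Coprime 2 p := (Nat.coprime_primes Nat.prime_two hp).2 (Ne.symm hp2)
      show Nat.lcm 2 (Nat.lcm 2 p) = p * 2
      rw [hc.lcm_eq_mul, Nat.lcm_eq_right (Dvd.intro _ rfl), mul_comm]
    · obtain ⟨g, hg⟩ := exists_alt_orderOf n (p ::ₘ {q}) (by
        simp only [Multiset.sum_cons, Multiset.sum_singleton]; exact h1 hp2 hq2) (by
        intro a ha
        simp only [Multiset.mem_cons, Multiset.mem_singleton] at ha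
        rcases ha with rfl | rfl
        · exact hp.two_le
        · exact hq.two_le) (by
        simp only [Multiset.sum_cons, Multiset.sum_singleton, Multiset.card_cons,
          Multiset.card_singleton]
        obtain ⟨k, hk⟩ := hp.odd_of_ne_two hp2
        obtain ⟨l, hl⟩ := hq.odd_of_ne_two hq2
        exact ⟨k + l + 2, by omega⟩)
      refine ⟨g, ?_⟩
      rw [hg]
      simp only [Multiset.lcm_cons, Multiset.lcm_singleton, normalize_eq]
      have hc : Nat.Coprime p q := (Nat.coprime_primes hp hq).2 hpq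
      show Nat.lcm p q = p * q
      exact hc.lcm_eq_mul

end Cfsg.Agent.Lib.Helper20.PGroupPerm
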