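import Mathlib
import Cfsg.Agent.Lib.Helper20.HHAbelD
import Cfsg.Agent.Lib.Helper20.PLDerD

set_option autoImplicit false

/-!
`p`-length versus derived length: the key step in a group with elementary abelian
self-centralising `O_p`.
-/

namespace Cfsg.Agent.Lib.Helper20.PLDer

open scoped IsMulCommutative
open Cfsg Cfsg.Agent.Lib.Helper20.CycNorm Cfsg.Agent.Lib.Helper11.FrobGrpCore Module

universe u

section group

variable {H : Type*} [Group H] [Finite H] {p : ℕ} [Fact p.Prime]

/-- `v ↦ φ g v * v⁻¹`. -/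
def dl {V : Type*} [CommGroup V] (φ : H →* MulAut V) (g : H) (v : V) : V := φ g v * v⁻¹

theorem commutator_eq_bot_group_aux (hp2 : p ≠ 2) {V : Type*} [CommGroup V] [Finite V]
    [Module (ZMod p) (Additive V)] (φ : H →* MulAut V) (hφ : Function.Injective φ)
    (hsolv : Cfsg.IsPSolvable p H) (hO : Cfsg.pCore p H = ⊥)
    (E : Subgroup H) (hE : IsPGroup p E)
    (hquad : ∀ a ∈ ⁅E, E⁆, ∀ v : V, dl φ a (dl φ a v) = 1)
    (htri : ∀ a ∈ ⁅E, E⁆, ∀ g ∈ E, ∀ g' ∈ E, ∀ v : V, dl φ a (dl φ g (dl φ g' v)) = 1) :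
    ⁅E, E⁆ = ⊥ := by
  have hfin : Module.Finite (ZMod p) (Additive V) := Module.Finite.of_finite
  have hinj : Function.Injective (linRep p φ) := by
    intro a b hab
    apply hφ
    apply MulEquiv.ext
    intro v
    have h1 := congrArg (fun f => f (Additive.ofMul v)) hab
    simp only [linRep_apply] at h1
    exact congrArg Additive.toMul h1
  have hdl : ∀ (g : H) (w : Additive V),
      (linRep p φ g - 1) w = Additive.ofMul (dl φ g (Additive.toMul w)) := by
    intro g w
    rw [LinearMap.sub_apply, linRep_apply, Module.End.one_apply]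
    unfold dl
    rw [ofMul_mul, ofMul_inv, ofMul_toMul, sub_eq_add_neg]
  apply commutator_eq_bot_of_quad_tri hp2 (linRep p φ) hinj hsolv hO E hE
  · intro a ha
    apply LinearMap.ext
    intro w
    rw [Module.End.mul_apply, hdl, hdl, toMul_ofMul, hquad a ha]
    rfl
  · intro a ha g hg g' hg'
    apply LinearMap.ext
    intro w
    rw [Module.End.mul_apply, Module.End.mul_apply, hdl, hdl, hdl, toMul_ofMul, toMul_ofMul,
      htri a ha g hg g' hg']
    rfl

theorem commutator_eq_bot_group (hp2 : p ≠ 2) {V : Type*} [CommGroup V] [Finite V]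
    (hV : ∀ v : V, v ^ p = 1) (φ : H →* MulAut V) (hφ : Function.Injective φ)
    (hsolv : Cfsg.IsPSolvable p H) (hO : Cfsg.pCore p H = ⊥)
    (E : Subgroup H) (hE : IsPGroup p E)
    (hquad : ∀ a ∈ ⁅E, E⁆, ∀ v : V, dl φ a (dl φ a v) = 1)
    (htri : ∀ a ∈ ⁅E, E⁆, ∀ g ∈ E, ∀ g' ∈ E, ∀ v : V, dl φ a (dl φ g (dl φ g' v)) = 1) :
    ⁅E, E⁆ = ⊥ := by
  have hA : ∀ a : Additive V, p • a = 0 := by
    intro a
    have := hV (Additive.toMul a)
    exact congrArg Additive.ofMul this
  exact @commutator_eq_bot_group_aux H _ _ p _ hp2 V _ _ (AddCommGroup.zmodModule hA) φ hφ hsolv hO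
    E hE hquad htri

end group

section setting

variable {L : Type u} [Group L] [Finite L] {p : ℕ} [Fact p.Prime]

omit [Finite L] in
/-- conjugation by an element of the normaliser preserves the derived subgroup. -/
theorem normalizer_le_normalizer_commutator (B : Subgroup L) :
    Subgroup.normalizer (B : Set L) ≤ Subgroup.normalizer ((⁅B, B⁆ : Subgroup L) : Set L) := by
  intro n hn
  have hmap : ∀ m : L, m ∈ Subgroup.normalizer (B : Set L) →
      ∀ x ∈ ⁅B, B⁆, m * x * m⁻¹ ∈ ⁅B, B⁆ := by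
    intro m hm x hx
    have h1 : B.map (MulAut.conj m).toMonoidHom = B := by
      apply le_antisymm
      · rintro _ ⟨b, hb, rfl⟩
        exact (Subgroup.mem_normalizer_iff.mp hm b).mp hb
      · intro b hb
        refine ⟨m⁻¹ * b * m, ?_, ?_⟩
        · have := (Subgroup.mem_normalizer_iff.mp (Subgroup.inv_mem _ hm) b).mp hb
          simpa using this
        · simp [MulAut.conj_apply, mul_assoc]
    have h2 : (⁅B, B⁆ : Subgroup L).map (MulAut.conj m).toMonoidHom = ⁅B, B⁆ := by
      rw [Subgroup.map_commutator, h1]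
    rw [← h2]
    exact ⟨x, hx, rfl⟩
  rw [Subgroup.mem_normalizer_iff]
  intro x
  constructor
  · intro hx
    exact hmap n hn x hx
  · intro hx
    have := hmap n⁻¹ (Subgroup.inv_mem _ hn) _ hx
    simpa [mul_assoc] using this

theorem commutator_le_pCore_of_setting (hp2 : p ≠ 2) (hS : Setting p L) (B : Subgroup L)
    (hB : IsPGroup p B) (hVB : Cfsg.pCore p L ≤ Subgroup.normalizer (B : Set L))
    (hB2 : ⁅⁅B, B⁆, ⁅B, B⁆⁆ = ⊥) : ⁅B, B⁆ ≤ Cfsg.pCore p L := by
  have hp : p.Prime := Fact.out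
  set V := Cfsg.pCore p L with hVdef
  have hVn : V.Normal := Cfsg.pCore_normal p L
  have hVp : IsPGroup p V := Cfsg.Agent.Lib.Helper1.pCore_isPGroup p
  set π := QuotientGroup.mk' V with hπ
  have hπs : Function.Surjective π := QuotientGroup.mk'_surjective V
  have hΓsolv : Cfsg.IsPSolvable p (L ⧸ V) :=
    Cfsg.Agent.Lib.Helper5.h5_isPSolvable_of_surjective π hπs hS.solv
  have hΓO : Cfsg.pCore p (L ⧸ V) = ⊥ := by
    rw [Cfsg.Agent.Lib.helper17.pCore_quotient V hVp]
    exact QuotientGroup.map_mk'_self V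
  haveI : IsMulCommutative V := isMulCommutative_iff.mpr
    (fun a b => Subtype.ext (hS.comm a a.2 b b.2))
  have hker : ∀ g ∈ V, (MulAut.conjNormal g : MulAut V) = 1 := by
    intro g hg
    apply MulEquiv.ext
    intro v
    apply Subtype.ext
    rw [MulAut.conjNormal_apply, MulAut.one_apply]
    rw [hS.comm g hg v v.2]
    group
  obtain ⟨φ, hφ⟩ : ∃ φ : (L ⧸ V) →* MulAut V, ∀ g : L, φ (π g) = MulAut.conjNormal g :=
    ⟨QuotientGroup.lift V MulAut.conjNormal hker, fun g => rfl⟩
  have hφinj : Function.Injective φ := by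
    rw [injective_iff_map_eq_one]
    intro γ hγ
    obtain ⟨g, rfl⟩ := hπs γ
    rw [hφ] at hγ
    have hgc : g ∈ Subgroup.centralizer (V : Set L) := by
      rw [Subgroup.mem_centralizer_iff]
      intro v hv
      have h1 := congrArg (fun f : MulAut V => ((f ⟨v, hv⟩ : V) : L)) hγ
      simp only [MulAut.conjNormal_apply, MulAut.one_apply] at h1
      calc v * g = (g * v * g⁻¹) * g := by rw [h1]
        _ = g * v := by group
    exact (QuotientGroup.eq_one_iff g).mpr (hS.cent hgc)
  have hVexp : ∀ v : V, v ^ p = 1 := fun v => Subtype.ext (by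
    rw [Subgroup.coe_pow]; exact hS.exp v v.2)
  -- the value of `dl`
  have hdl : ∀ (g : L) (v : V), ((dl φ (π g) v : V) : L) = g * v * g⁻¹ * (v : L)⁻¹ := by
    intro g v
    unfold dl
    rw [hφ, Subgroup.coe_mul, MulAut.conjNormal_apply, Subgroup.coe_inv]
  have hVB' : V ≤ Subgroup.normalizer ((⁅B, B⁆ : Subgroup L) : Set L) :=
    hVB.trans (normalizer_le_normalizer_commutator B)
  -- commutators with `V`
  have hcomm1 : ∀ (N : Subgroup L), V ≤ Subgroup.normalizer (N : Set L) → ∀ g ∈ N, ∀ v : V,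
      g * v * g⁻¹ * (v : L)⁻¹ ∈ N := by
    intro N hN g hg v
    have h1 : (v : L) * g⁻¹ * (v : L)⁻¹ ∈ N :=
      (Subgroup.mem_normalizer_iff.mp (hN v.2) g⁻¹).mp (N.inv_mem hg)
    have e : g * v * g⁻¹ * (v : L)⁻¹ = g * ((v : L) * g⁻¹ * (v : L)⁻¹) := by group
    rw [e]
    exact N.mul_mem hg h1
  have hE : IsPGroup p (B.map π) := hB.map π
  have hEE : ⁅B.map π, B.map π⁆ = (⁅B, B⁆ : Subgroup L).map π := (Subgroup.map_commutator B B π).symm
  have key := commutator_eq_bot_group hp2 hVexp φ hφinj hΓsolv hΓO (B.map π) hE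
    (by
      intro a ha v
      rw [hEE] at ha
      obtain ⟨α, hα, rfl⟩ := ha
      apply Subtype.ext
      rw [hdl, Subgroup.coe_one]
      have h1 : ((dl φ (π α) v : V) : L) ∈ ⁅B, B⁆ := by
        rw [hdl]
        exact hcomm1 _ hVB' α hα v
      have h2 := Subgroup.commutator_mem_commutator hα h1
      rw [hB2, Subgroup.mem_bot, commutatorElement_def] at h2
      exact h2)
    (by
      intro a ha g hg g' hg' v
      rw [hEE] at ha
      obtain ⟨α, hα, rfl⟩ := ha
      obtain ⟨β, hβ, rfl⟩ := hg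
      obtain ⟨β', hβ', rfl⟩ := hg'
      apply Subtype.ext
      rw [hdl, Subgroup.coe_one]
      have h1 : ((dl φ (π β') v : V) : L) ∈ B := by
        rw [hdl]
        exact hcomm1 _ hVB β' hβ' v
      have h2 : ((dl φ (π β) (dl φ (π β') v) : V) : L) ∈ ⁅B, B⁆ := by
        rw [hdl]
        have := Subgroup.commutator_mem_commutator hβ h1
        rwa [commutatorElement_def] at this
      have h3 := Subgroup.commutator_mem_commutator hα h2
      rw [hB2, Subgroup.mem_bot, commutatorElement_def] at h3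
      exact h3)
  rw [hEE] at key
  intro x hx
  have h1 : π x ∈ (⁅B, B⁆ : Subgroup L).map π := ⟨x, hx, rfl⟩
  rw [key, Subgroup.mem_bot] at h1
  exact (QuotientGroup.eq_one_iff x).mp h1

end setting

end Cfsg.Agent.Lib.Helper20.PLDer
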