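import Mathlib
import Cfsg.Agent.Lib.Helper20.PLDerE

set_option autoImplicit false

/-!
`p`-length is at most the derived length of a Sylow `p`-subgroup (`p` odd): the reduction.
-/

namespace Cfsg.Agent.Lib.Helper20.PLDer

open Cfsg Cfsg.Agent.Lib.Helper20.CycNorm Cfsg.Agent.Lib.Helper21 Cfsg.Agent.S0634
  Cfsg.Agent.Lib.Helper20.HHAbel

universe u

section dser

variable {G : Type u} [Group G]

/-- derived series of a subgroup, as subgroups of the ambient group -/
def dser (P : Subgroup G) : ℕ → Subgroup G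
  | 0 => P
  | n + 1 => ⁅dser P n, dser P n⁆

theorem dser_zero (P : Subgroup G) : dser P 0 = P := rfl

theorem dser_succ (P : Subgroup G) (n : ℕ) : dser P (n + 1) = ⁅dser P n, dser P n⁆ := rfl

theorem map_derivedSeries (P : Subgroup G) (n : ℕ) :
    (derivedSeries ↥P n).map P.subtype = dser P n := by
  induction n with
  | zero => rw [derivedSeries_zero, dser_zero, ← MonoidHom.range_eq_map, Subgroup.range_subtype]
  | succ n ih => rw [derivedSeries_succ, Subgroup.map_commutator, ih, dser_succ]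

theorem dser_map {G' : Type*} [Group G'] (f : G →* G') (P : Subgroup G) (n : ℕ) :
    (dser P n).map f = dser (P.map f) n := by
  induction n with
  | zero => rfl
  | succ n ih => rw [dser_succ, Subgroup.map_commutator, ih, dser_succ]

theorem dser_le (P : Subgroup G) (n : ℕ) : dser P n ≤ P := by
  induction n with
  | zero => exact le_rfl
  | succ n ih =>
    rw [dser_succ]
    exact (Subgroup.commutator_mono ih ih).trans (Subgroup.commutator_le_self P)

theorem normalizer_le_dser (P : Subgroup G) (n : ℕ) :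
    Subgroup.normalizer (P : Set G) ≤ Subgroup.normalizer ((dser P n : Subgroup G) : Set G) := by
  induction n with
  | zero => exact le_rfl
  | succ n ih =>
    rw [dser_succ]
    exact ih.trans (normalizer_le_normalizer_commutator _)

end dser

section frat

variable {G : Type u} [Group G] [Finite G] {p : ℕ} [Fact p.Prime]

/-- the Frattini subgroup of `O_p(G)`, as a subgroup of `G`. -/
def fratCore (p : ℕ) (G : Type u) [Group G] : Subgroup G :=
  (frattini (Cfsg.pCore p G)).map (Cfsg.pCore p G).subtype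

instance fratCore_normal : (fratCore p G).Normal := by
  have hRn : (Cfsg.pCore p G).Normal := Cfsg.pCore_normal p G
  exact Cfsg.Agent.Lib.Helper5.h5_normal_map_of_characteristic (Cfsg.pCore p G)
    (frattini (Cfsg.pCore p G))

theorem fratCore_le : fratCore p G ≤ Cfsg.pCore p G := by
  rintro _ ⟨x, _, rfl⟩
  exact x.2

theorem pCore_quotient_fratCore :
    Cfsg.pCore p (G ⧸ fratCore p G) = (Cfsg.pCore p G).map (QuotientGroup.mk' (fratCore p G)) :=
  Cfsg.Agent.Lib.helper17.pCore_quotient (fratCore p G)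
    ((Cfsg.Agent.Lib.Helper1.pCore_isPGroup p).to_le fratCore_le)

theorem setting_quotient_fratCore (hsolv : Cfsg.IsPSolvable p G)
    (hO : Cfsg.pPrimeCore p G = ⊥) : Setting p (G ⧸ fratCore p G) := by
  have hRn : (Cfsg.pCore p G).Normal := Cfsg.pCore_normal p G
  have hRp : IsPGroup p (Cfsg.pCore p G) := Cfsg.Agent.Lib.Helper1.pCore_isPGroup p
  have hC : Subgroup.centralizer (Cfsg.pCore p G : Set G) ≤ Cfsg.pCore p G :=
    Cfsg.Agent.Lib.Helper5.h5_centralizer_pCore_le hsolv hO
  obtain ⟨F, hF⟩ : ∃ F : Subgroup G, F = fratCore p G := ⟨_, rfl⟩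
  have hF' : F = (frattini (Cfsg.pCore p G)).map (Cfsg.pCore p G).subtype := hF
  haveI hFn : F.Normal := by rw [hF]; infer_instance
  have hcore : Cfsg.pCore p (G ⧸ F) = (Cfsg.pCore p G).map (QuotientGroup.mk' F) := by
    subst hF
    exact pCore_quotient_fratCore
  suffices h : Setting p (G ⧸ F) by
    subst hF
    exact h
  set π := QuotientGroup.mk' F with hπ
  have hπs : Function.Surjective π := QuotientGroup.mk'_surjective F
  have hmemF : ∀ x : Cfsg.pCore p G, x ∈ frattini (Cfsg.pCore p G) → (x : G) ∈ F := by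
    intro x hx
    rw [hF']
    exact ⟨x, hx, rfl⟩
  refine ⟨Cfsg.Agent.Lib.Helper5.h5_isPSolvable_of_surjective π hπs hsolv, ?_, ?_, ?_⟩
  · rw [hcore]
    rintro _ ⟨r, hr, rfl⟩ _ ⟨s, hs, rfl⟩
    have h1 : (⟨r, hr⟩ : Cfsg.pCore p G) * ⟨s, hs⟩ * (⟨r, hr⟩)⁻¹ * (⟨s, hs⟩)⁻¹ ∈
        frattini (Cfsg.pCore p G) := by
      apply Cfsg.Agent.Lib.Helper1.pgroup_commutator_le_frattini hRp
      rw [← commutatorElement_def]
      exact Subgroup.commutator_mem_commutator (Subgroup.mem_top _) (Subgroup.mem_top _)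
    have h2 : r * s * r⁻¹ * s⁻¹ ∈ F := hmemF _ h1
    have h3 : π (r * s * r⁻¹ * s⁻¹) = 1 := (QuotientGroup.eq_one_iff _).mpr h2
    simp only [map_mul, map_inv] at h3
    calc π r * π s = (π r * π s * (π r)⁻¹ * (π s)⁻¹) * (π s * π r) := by group
      _ = π s * π r := by rw [h3, one_mul]
  · rw [hcore]
    rintro _ ⟨r, hr, rfl⟩
    have h1 : (⟨r, hr⟩ : Cfsg.pCore p G) ^ p ∈ frattini (Cfsg.pCore p G) :=
      Cfsg.Agent.Lib.Helper1.pgroup_pow_mem_frattini hRp _
    have h2 : r ^ p ∈ F := hmemF _ h1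
    rw [← map_pow]
    exact (QuotientGroup.eq_one_iff _).mpr h2
  · rw [hcore]
    intro gb hgb
    obtain ⟨g, rfl⟩ := hπs gb
    rw [Subgroup.mem_centralizer_iff] at hgb
    have hk : ∀ x ∈ Cfsg.pCore p G, g * x * g⁻¹ * x⁻¹ ∈
        (frattini (Cfsg.pCore p G)).map (Cfsg.pCore p G).subtype := by
      intro x hx
      rw [← hF']
      apply (QuotientGroup.eq_one_iff _).mp
      show π (g * x * g⁻¹ * x⁻¹) = 1
      have h1 := hgb (π x) ⟨x, hx, rfl⟩
      simp only [map_mul, map_inv]
      rw [← h1]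
      group
    have := Cfsg.Agent.Lib.Helper1.mem_pCore_of_trivial_on_frattini_quotient
      (Cfsg.pCore p G) hRp hC g hk
    exact ⟨g, this, rfl⟩

end frat

section main

variable {G : Type u} [Group G] [Finite G] {p : ℕ} [Fact p.Prime]

/-- the case `O_{p'}(G) = 1`. -/
theorem dser_le_pCore_core_free (hp2 : p ≠ 2) (hsolv : Cfsg.IsPSolvable p G)
    (hO : Cfsg.pPrimeCore p G = ⊥) (P : Sylow p G) (d : ℕ)
    (hd : dser (P : Subgroup G) (d + 1) = ⊥) : dser (P : Subgroup G) d ≤ Cfsg.pCore p G := by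
  have hRP : Cfsg.pCore p G ≤ (P : Subgroup G) := Cfsg.Agent.Lib.Helper1.pCore_le_sylow p P
  have hC : Subgroup.centralizer (Cfsg.pCore p G : Set G) ≤ Cfsg.pCore p G :=
    Cfsg.Agent.Lib.Helper5.h5_centralizer_pCore_le hsolv hO
  cases d with
  | zero =>
    rw [dser_zero]
    rw [dser_succ, dser_zero, Subgroup.commutator_eq_bot_iff_le_centralizer] at hd
    exact (hd.trans (Subgroup.centralizer_le hRP)).trans hC
  | succ e =>
    set B := dser (P : Subgroup G) e with hBdef
    set π := QuotientGroup.mk' (fratCore p G) with hπ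
    have hπs : Function.Surjective π := QuotientGroup.mk'_surjective _
    have hS : Setting p (G ⧸ fratCore p G) := setting_quotient_fratCore hsolv hO
    have hBP : B ≤ (P : Subgroup G) := dser_le _ e
    have hB : IsPGroup p (B.map π) := (P.isPGroup'.to_le hBP).map π
    have hVB : Cfsg.pCore p (G ⧸ fratCore p G) ≤ Subgroup.normalizer ((B.map π : Subgroup _) : Set _) := by
      rw [pCore_quotient_fratCore]
      have h1 : Cfsg.pCore p G ≤ Subgroup.normalizer (B : Set G) :=
        (hRP.trans Subgroup.le_normalizer).trans (normalizer_le_dser _ e)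
      exact (Subgroup.map_mono h1).trans (Subgroup.le_normalizer_map π)
    have hB2 : ⁅⁅B.map π, B.map π⁆, ⁅B.map π, B.map π⁆⁆ = ⊥ := by
      have h1 : ⁅⁅B.map π, B.map π⁆, ⁅B.map π, B.map π⁆⁆ =
          (dser (P : Subgroup G) (e + 1 + 1)).map π := by
        rw [dser_succ, dser_succ, Subgroup.map_commutator, Subgroup.map_commutator]
      rw [h1, hd, Subgroup.map_bot]
    have key := commutator_le_pCore_of_setting hp2 hS (B.map π) hB hVB hB2
    rw [pCore_quotient_fratCore] at key
    intro x hx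
    rw [dser_succ] at hx
    have h1 : π x ∈ ⁅B.map π, B.map π⁆ := by
      rw [← Subgroup.map_commutator]
      exact ⟨x, hx, rfl⟩
    obtain ⟨r, hr, hreq⟩ := key h1
    have h2 : r⁻¹ * x ∈ fratCore p G := by
      apply (QuotientGroup.eq_one_iff _).mp
      show π (r⁻¹ * x) = 1
      rw [map_mul, map_inv, hreq, inv_mul_cancel]
    have h3 : x = r * (r⁻¹ * x) := by group
    rw [h3]
    exact Subgroup.mul_mem _ hr (fratCore_le h2)

/-- the general case. -/
theorem dser_le_ups_two (hp2 : p ≠ 2) (hsolv : Cfsg.IsPSolvable p G) (P : Sylow p G) (d : ℕ)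
    (hd : dser (P : Subgroup G) (d + 1) = ⊥) : dser (P : Subgroup G) d ≤ ups p G 2 := by
  have hU1 : ups p G 1 = _ := ups_succ_even (G := G) p 0 (by decide)
  have hU2 : ups p G 2 = _ := ups_succ_odd (G := G) p 1 (by decide)
  have hO : Cfsg.pPrimeCore p (G ⧸ ups p G 1) = ⊥ :=
    pPrimeCore_quotient_comap_eq_bot p (ups p G 0) (ups p G 1) hU1
  set π := QuotientGroup.mk' (ups p G 1) with hπ
  have hπs : Function.Surjective π := QuotientGroup.mk'_surjective _
  have key := dser_le_pCore_core_free hp2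
    (Cfsg.Agent.Lib.Helper5.h5_isPSolvable_of_surjective π hπs hsolv) hO
    (P.mapSurjective hπs) d
    (by rw [Sylow.coe_mapSurjective, ← dser_map, hd, Subgroup.map_bot])
  intro x hx
  rw [hU2, Subgroup.mem_comap]
  apply key
  rw [Sylow.coe_mapSurjective, ← dser_map]
  exact ⟨x, hx, rfl⟩

theorem plength_le_dser (hp2 : p ≠ 2) : ∀ (d : ℕ) {G : Type u} [Group G] [Finite G],
    Cfsg.IsPSolvable p G → (∀ P : Sylow p G, dser (P : Subgroup G) d = ⊥) →
    PLengthLE p d G
  | 0, G, _, _, _, hd => by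
    apply plength_zero_of_coprime
    have hp : p.Prime := Fact.out
    obtain ⟨P⟩ : Nonempty (Sylow p G) := inferInstance
    have hP : (P : Subgroup G) = ⊥ := hd P
    have h1 := P.not_dvd_index
    rw [hP, Subgroup.index_bot] at h1
    exact ((Nat.Prime.coprime_iff_not_dvd hp).mpr h1).symm
  | d + 1, G, _, _, hsolv, hd => by
    have h1 : PLengthLE p 1 ↥(ups p G 2) := plength_ups_two
    have h2 : PLengthLE p d (G ⧸ ups p G 2) := by
      apply plength_le_dser hp2 d
        (Cfsg.Agent.Lib.Helper5.h5_isPSolvable_of_surjective _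
          (QuotientGroup.mk'_surjective _) hsolv)
      intro Pb
      obtain ⟨P, rfl⟩ := Sylow.mapSurjective_surjective (QuotientGroup.mk'_surjective _) p Pb
      rw [Sylow.coe_mapSurjective, ← dser_map, eq_bot_iff]
      rintro _ ⟨x, hx, rfl⟩
      rw [Subgroup.mem_bot]
      exact (QuotientGroup.eq_one_iff _).mpr (dser_le_ups_two hp2 hsolv P d (hd P) hx)
    have := plength_add (ups p G 2) h1 h2
    rw [add_comm] at this
    exact this

end main

end Cfsg.Agent.Lib.Helper20.PLDer
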