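import Mathlib
import Cfsg.Prelude.Def_FusionSystem
import Cfsg.Prelude.Def_OddOrderLocal
import Cfsg.Agent.Lib.Helper18.PRL.Defs
import Cfsg.Agent.Lib.Helper26.FusionSat3
import Cfsg.Agent.Lib.Helper26.SatCrit20

/-!
# Project PRL (S5239), piece F1: essential subgroups are proper and self-centralizing in `S`
-/

set_option autoImplicit false

namespace Cfsg.Agent.Lib.Helper18.PRL

open scoped commutatorElement

section fusion
variable {Ω : Type*} [Group Ω] {S : Subgroup Ω} [Finite S] {p : ℕ} [Fact p.Prime]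

/-- `Aut_S(S) = Inn(S)`. -/
theorem h20_autInducedBy_self_eq_inn : Cfsg.autInducedBy S S = Cfsg.Inn S := by
  apply le_antisymm Cfsg.Agent.Lib.Helper26.autInducedBy_top_le_inn
  rintro _ ⟨s, rfl⟩
  exact Cfsg.Agent.Lib.Helper26.mem_autInducedBy_iff.mpr ⟨s, s.2, fun x => rfl⟩

/-- In a saturated fusion system `S` itself is not essential. -/
theorem h20_not_essential_top (hS : IsPGroup p S) (F : Cfsg.FusionSystem S)
    (hF : F.IsSaturated p) : ¬ F.IsEssential p S := by
  rintro ⟨-, -, hnorm, E', hE'⟩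
  obtain ⟨-, ⟨-, R, hR⟩, -⟩ := Cfsg.Agent.Lib.Helper26.saturated_fullyNormalized hS F hF
    (Cfsg.Agent.Lib.Helper26.top_fullyNormalized F)
  rw [h20_autInducedBy_self_eq_inn] at hR
  have hdvd : p ∣ Nat.card (↥(F.autGroup S) ⧸ (Cfsg.Inn ↥S).subgroupOf (F.autGroup S)) := hE'.1
  haveI : Finite (MulAut ↥S) := by
    apply Finite.of_injective (fun α : MulAut ↥S => (α : ↥S → ↥S))
    intro a b hab
    exact MulEquiv.ext (fun x => congrFun hab x)
  have h1 : ¬ p ∣ (R : Subgroup (F.autGroup S)).index := R.not_dvd_index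
  rw [hR] at h1
  exact h1 hdvd

/-- PRL-F1 -/
theorem essential_basic (hS : IsPGroup p S) (F : Cfsg.FusionSystem S) (hF : F.IsSaturated p)
    (E : Subgroup Ω) (hE : F.IsEssential p E) :
    E ≤ S ∧ E ≠ S ∧ ∀ g ∈ S, (∀ e ∈ E, g * e = e * g) → g ∈ E := by
  have hES : E ≤ S := hE.1.1
  refine ⟨hES, ?_, ?_⟩
  · rintro rfl
    exact h20_not_essential_top hS F hF hE
  · intro g hgS hg
    apply hE.1.2 E (Cfsg.Agent.Lib.Helper26.isConj_refl F hES)
    have hc : g ∈ Subgroup.centralizer (E : Set Ω) := by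
      rw [Subgroup.mem_centralizer_iff]
      intro e he
      exact (hg e he).symm
    exact ⟨hgS, hc⟩

end fusion

end Cfsg.Agent.Lib.Helper18.PRL
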