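import Mathlib
import Cfsg.Prelude.Def_FusionSystem
import Cfsg.Prelude.Def_OddOrderLocal
import Cfsg.Agent.Lib.Helper18.PRL.Defs
import Cfsg.Agent.Lib.Helper26.FusionNormal
import Cfsg.Agent.S5080
import Cfsg.Agent.Lib.Helper20.PRLF1

/-!
# Project PRL (S5239), piece F2: if `S` is normal in `F` there are no essential subgroups
-/

set_option autoImplicit false

namespace Cfsg.Agent.Lib.Helper18.PRL

open scoped commutatorElement

section fusion
variable {Ω : Type*} [Group Ω] {S : Subgroup Ω} [Finite S] {p : ℕ} [Fact p.Prime]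

/-- PRL-F2 -/
theorem not_essential_of_isNormal (hS : IsPGroup p S) (F : Cfsg.FusionSystem S)
    (hF : F.IsSaturated p) (hN : F.IsNormal S) (E : Subgroup Ω) (hE : F.IsEssential p E) :
    False := by
  obtain ⟨hES, hne, -⟩ := essential_basic hS F hF E hE
  have hC : Cfsg.FusionSystem.centralizerIn S E ≤ E :=
    hE.1.2 E (Cfsg.Agent.Lib.Helper26.isConj_refl F hES)
  have hrad : F.IsRadical p E := Cfsg.Agent.S5080.result p hS F hF E hE
  have hSE : S ≤ E := Cfsg.Agent.Lib.Helper26.isNormal_le_of_centric_radical hS hN hES hC hrad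
  exact hne (le_antisymm hES hSE)

end fusion

end Cfsg.Agent.Lib.Helper18.PRL
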