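import Mathlib
import Cfsg.Prelude.Def_FusionSystem
import Cfsg.Prelude.Def_OddOrderLocal
import Cfsg.Agent.Lib.Helper18.PRL.Defs

/-!
# Project PRL (S5239), piece F3: `S` is strongly closed in any fusion system over `S`
-/

set_option autoImplicit false

namespace Cfsg.Agent.Lib.Helper18.PRL

open scoped commutatorElement

section fusion
variable {Ω : Type*} [Group Ω] {S : Subgroup Ω} [Finite S] {p : ℕ} [Fact p.Prime]

/-- PRL-F3 -/
theorem stronglyClosed_self (F : Cfsg.FusionSystem S) : F.StronglyClosed S := by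
  exact ⟨le_rfl, fun R _ φ hφ x => (F.le_of_mem hφ).2 x⟩

end fusion

end Cfsg.Agent.Lib.Helper18.PRL
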