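import Mathlib
import Cfsg.Agent.Lib.Helper16.PS4.Defs

/-!
# Project PS4 (helper16, S5320 part B): sub-lemma SB, row vectors and symplectic bases of `Sp4`

`om u v = u J vᵀ` is the alternating form on row vectors `u v : Fin 2 ⊕ Fin 2 → F`; the rows of a matrix
of `Sp4 F` form a symplectic basis, and conversely (`mk_symp`).  `x ∈ Sp4 F` acts on the rows by
`v ↦ v ᵥ* x` and preserves `om` (`om_vecMul`).
-/

set_option autoImplicit false

namespace Cfsg.Agent.Lib.Helper20.PS4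

open Matrix Cfsg.Agent.Lib.Helper16.PS4

variable {F : Type*} [Field F]

/-- the alternating form on row vectors: `om u v = u J vᵀ` -/
def om (u v : Fin 2 ⊕ Fin 2 → F) : F := u ⬝ᵥ (Matrix.J (Fin 2) F *ᵥ v)

theorem om_eq (u v : Fin 2 ⊕ Fin 2 → F) :
    om u v = -(u (Sum.inl 0) * v (Sum.inr 0)) - u (Sum.inl 1) * v (Sum.inr 1)
      + u (Sum.inr 0) * v (Sum.inl 0) + u (Sum.inr 1) * v (Sum.inl 1) := by
  simp [om, dotProduct, Matrix.mulVec, Matrix.J, Fintype.sum_sum_type, Fin.sum_univ_two,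
    Matrix.fromBlocks, Matrix.one_apply]
  ring

theorem om_add_left (u u' v : Fin 2 ⊕ Fin 2 → F) : om (u + u') v = om u v + om u' v := by
  simp only [om_eq, Pi.add_apply]; ring

theorem om_add_right (u v v' : Fin 2 ⊕ Fin 2 → F) : om u (v + v') = om u v + om u v' := by
  simp only [om_eq, Pi.add_apply]; ring

theorem om_sub_left (u u' v : Fin 2 ⊕ Fin 2 → F) : om (u - u') v = om u v - om u' v := by
  simp only [om_eq, Pi.sub_apply]; ring

theorem om_sub_right (u v v' : Fin 2 ⊕ Fin 2 → F) : om u (v - v') = om u v - om u v' := by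
  simp only [om_eq, Pi.sub_apply]; ring

theorem om_smul_left (c : F) (u v : Fin 2 ⊕ Fin 2 → F) : om (c • u) v = c * om u v := by
  simp only [om_eq, Pi.smul_apply, smul_eq_mul]; ring

theorem om_smul_right (c : F) (u v : Fin 2 ⊕ Fin 2 → F) : om u (c • v) = c * om u v := by
  simp only [om_eq, Pi.smul_apply, smul_eq_mul]; ring

theorem om_neg_left (u v : Fin 2 ⊕ Fin 2 → F) : om (-u) v = -om u v := by
  simp only [om_eq, Pi.neg_apply]; ring

theorem om_neg_right (u v : Fin 2 ⊕ Fin 2 → F) : om u (-v) = -om u v := by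
  simp only [om_eq, Pi.neg_apply]; ring

theorem om_self (u : Fin 2 ⊕ Fin 2 → F) : om u u = 0 := by
  simp only [om_eq]; ring

theorem om_swap (u v : Fin 2 ⊕ Fin 2 → F) : om u v = -om v u := by
  simp only [om_eq]; ring

theorem om_nondeg (u : Fin 2 ⊕ Fin 2 → F) (hu : u ≠ 0) : ∃ w, om u w ≠ 0 := by
  have : ∃ s, u s ≠ 0 := by
    by_contra h
    push Not at h
    exact hu (funext h)
  obtain ⟨s, hs⟩ := this
  rcases s with i | i
  · refine ⟨Pi.single (Sum.inr i) 1, ?_⟩
    fin_cases i <;> simpa [om_eq] using hs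
  · refine ⟨Pi.single (Sum.inl i) 1, ?_⟩
    fin_cases i <;> simpa [om_eq] using hs

/-- `om` is invariant under the row action of `Sp4` -/
theorem om_vecMul (x : Sp4 F) (u v : Fin 2 ⊕ Fin 2 → F) :
    om (u ᵥ* (x : Matrix (Fin 2 ⊕ Fin 2) (Fin 2 ⊕ Fin 2) F))
      (v ᵥ* (x : Matrix (Fin 2 ⊕ Fin 2) (Fin 2 ⊕ Fin 2) F)) = om u v := by
  have hx := (SymplecticGroup.mem_iff).1 x.2
  unfold om
  rw [← Matrix.mulVec_transpose (x : Matrix (Fin 2 ⊕ Fin 2) (Fin 2 ⊕ Fin 2) F) v,
    Matrix.mulVec_mulVec, ← Matrix.dotProduct_mulVec, Matrix.mulVec_mulVec, ← Matrix.mul_assoc, hx]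

/-- Sub-lemma SB: a symplectic basis (as rows) is an element of `Sp4` -/
theorem mk_symp (r : Fin 2 ⊕ Fin 2 → Fin 2 ⊕ Fin 2 → F)
    (h : ∀ s t, om (r s) (r t) = Matrix.J (Fin 2) F s t) :
    (Matrix.of r : Matrix (Fin 2 ⊕ Fin 2) (Fin 2 ⊕ Fin 2) F) ∈ Matrix.symplecticGroup (Fin 2) F := by
  rw [SymplecticGroup.mem_iff]
  ext s t
  rw [← h s t]
  unfold om
  rw [Matrix.mul_apply]
  simp only [dotProduct, Matrix.mulVec, Matrix.mul_apply, Matrix.transpose_apply, Matrix.of_apply,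
    Finset.sum_mul, Finset.mul_sum]
  rw [Finset.sum_comm]
  refine Finset.sum_congr rfl fun k _ => Finset.sum_congr rfl fun l _ => ?_
  ring

/-- the values of `J` on the standard basis -/
theorem J_apply_cases (s t : Fin 2 ⊕ Fin 2) :
    Matrix.J (Fin 2) F s t =
      if pl s = pl t then (if co s = co t then 0 else if co s = 0 then -1 else 1) else 0 := by
  rcases s with s | s <;> rcases t with t | t <;> fin_cases s <;> fin_cases t <;>
    simp [Matrix.J, Matrix.fromBlocks, Matrix.one_apply]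

/-- Gram conditions for four rows `u0 w0 u1 w1` (two orthogonal hyperbolic pairs) -/
theorem gram_of_pairs (u0 w0 u1 w1 : Fin 2 ⊕ Fin 2 → F)
    (h0 : om u0 w0 = -1) (h1 : om u1 w1 = -1)
    (h00 : om u0 u1 = 0) (h01 : om u0 w1 = 0) (h10 : om w0 u1 = 0) (h11 : om w0 w1 = 0) :
    ∀ s t, om ((fun s : Fin 2 ⊕ Fin 2 => match s with
        | Sum.inl 0 => u0 | Sum.inr 0 => w0 | Sum.inl 1 => u1 | Sum.inr 1 => w1) s)
      ((fun s : Fin 2 ⊕ Fin 2 => match s with
        | Sum.inl 0 => u0 | Sum.inr 0 => w0 | Sum.inl 1 => u1 | Sum.inr 1 => w1) t)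
      = Matrix.J (Fin 2) F s t := by
  have h0' : om w0 u0 = 1 := by rw [om_swap, h0]; simp
  have h1' : om w1 u1 = 1 := by rw [om_swap, h1]; simp
  have h00' : om u1 u0 = 0 := by rw [om_swap, h00]; simp
  have h01' : om w1 u0 = 0 := by rw [om_swap, h01]; simp
  have h10' : om u1 w0 = 0 := by rw [om_swap, h10]; simp
  have h11' : om w1 w0 = 0 := by rw [om_swap, h11]; simp
  intro s t
  rcases s with s | s <;> rcases t with t | t <;> fin_cases s <;> fin_cases t <;>
    simp [Matrix.J, Matrix.fromBlocks, Matrix.one_apply, om_self, *]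

end Cfsg.Agent.Lib.Helper20.PS4
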