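import Mathlib
import Cfsg.Agent.Lib.Helper16.PS4.Defs
import Cfsg.Agent.Lib.Helper20.PS4SB

/-!
# Project PS4 (helper16, S5320 part B): piece FA, non-central involutions of `Sp4` are conjugate to `zt`
-/

set_option autoImplicit false

namespace Cfsg.Agent.Lib.Helper20.PS4

open Matrix Cfsg.Agent.Lib.Helper16.PS4

variable {F : Type*} [Field F]

/-- a hyperbolic pair inside the `ε`-eigenspace of an involutory isometry, from a nonzero eigenvector -/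
theorem eigen_pair (h2 : (2 : F) ≠ 0) (X : Matrix (Fin 2 ⊕ Fin 2) (Fin 2 ⊕ Fin 2) F)
    (hX : X * X = 1) (hom : ∀ u v, om (u ᵥ* X) (v ᵥ* X) = om u v) (ε : F) (hε : ε * ε = 1)
    (hne : X ≠ (-ε) • (1 : Matrix (Fin 2 ⊕ Fin 2) (Fin 2 ⊕ Fin 2) F)) :
    ∃ u w : Fin 2 ⊕ Fin 2 → F, u ᵥ* X = ε • u ∧ w ᵥ* X = ε • w ∧ om u w = -1 := by
  have hTT : ∀ v : Fin 2 ⊕ Fin 2 → F, (v ᵥ* X) ᵥ* X = v := by
    intro v
    rw [Matrix.vecMul_vecMul, hX, Matrix.vecMul_one]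
  -- a nonzero eigenvector
  have hex : ∃ u : Fin 2 ⊕ Fin 2 → F, u ≠ 0 ∧ u ᵥ* X = ε • u := by
    have : ∃ s, (Pi.single s 1 : Fin 2 ⊕ Fin 2 → F) ᵥ* X ≠ (-ε) • Pi.single s 1 := by
      by_contra h
      push Not at h
      apply hne
      ext s t
      have := congrFun (h s) t
      simpa [Matrix.smul_apply, Matrix.one_apply, Pi.single_apply, eq_comm] using this
    obtain ⟨s, hs⟩ := this
    refine ⟨Pi.single s 1 + ε • ((Pi.single s 1 : Fin 2 ⊕ Fin 2 → F) ᵥ* X), ?_, ?_⟩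
    · intro h0
      apply hs
      have h1 : ε • (Pi.single s 1 + ε • ((Pi.single s 1 : Fin 2 ⊕ Fin 2 → F) ᵥ* X)) = 0 := by
        rw [h0, smul_zero]
      rw [smul_add, smul_smul, hε, one_smul] at h1
      rw [neg_smul]
      exact eq_neg_of_add_eq_zero_right h1
    · rw [Matrix.add_vecMul, Matrix.smul_vecMul, hTT, smul_add, smul_smul, hε, one_smul, add_comm]
  obtain ⟨u, hu0, hu⟩ := hex
  obtain ⟨w, hw⟩ := om_nondeg u hu0
  have hw1 : (w + ε • (w ᵥ* X)) ᵥ* X = ε • (w + ε • (w ᵥ* X)) := by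
    rw [Matrix.add_vecMul, Matrix.smul_vecMul, hTT, smul_add, smul_smul, hε, one_smul, add_comm]
  have hom1 : om u (w + ε • (w ᵥ* X)) = 2 * om u w := by
    have h3 : om u (w ᵥ* X) = ε * om u w := by
      have := hom u (w ᵥ* X)
      rw [hTT, hu, om_smul_left] at this
      exact this.symm
    rw [om_add_right, om_smul_right, h3, ← mul_assoc, hε]
    ring
  have hc : om u (w + ε • (w ᵥ* X)) ≠ 0 := by
    rw [hom1]
    exact mul_ne_zero h2 hw
  refine ⟨u, (-(om u (w + ε • (w ᵥ* X)))⁻¹) • (w + ε • (w ᵥ* X)), hu, ?_, ?_⟩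
  · rw [Matrix.smul_vecMul, hw1, smul_comm]
  · rw [om_smul_right]
    field_simp

/-- eigenvectors for `-1` and `1` of an isometry are orthogonal -/
theorem om_eigen_cross (h2 : (2 : F) ≠ 0) (X : Matrix (Fin 2 ⊕ Fin 2) (Fin 2 ⊕ Fin 2) F)
    (hom : ∀ u v, om (u ᵥ* X) (v ᵥ* X) = om u v) (a b : Fin 2 ⊕ Fin 2 → F)
    (ha : a ᵥ* X = (-1 : F) • a) (hb : b ᵥ* X = (1 : F) • b) : om a b = 0 := by
  have := hom a b
  rw [ha, hb, one_smul, om_smul_left] at this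
  have h3 : 2 * om a b = 0 := by linear_combination -this
  exact (mul_eq_zero.1 h3).resolve_left h2

theorem conj_zt_aux (h2 : (2 : F) ≠ 0) (x : Sp4 F) (hx : x * x = 1) (h1 : x ≠ 1)
    (hn : x ≠ Cfsg.Agent.S0246.negOne F 2) : ∃ g : Sp4 F, g * x * g⁻¹ = zt := by
  set X : Matrix (Fin 2 ⊕ Fin 2) (Fin 2 ⊕ Fin 2) F := (x : Matrix (Fin 2 ⊕ Fin 2) (Fin 2 ⊕ Fin 2) F) with hXdef
  have hX : X * X = 1 := by
    have := congrArg (Subtype.val) hx
    simpa using this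
  have hom : ∀ u v, om (u ᵥ* X) (v ᵥ* X) = om u v := om_vecMul x
  have hne1 : X ≠ (-(-1 : F)) • (1 : Matrix (Fin 2 ⊕ Fin 2) (Fin 2 ⊕ Fin 2) F) := by
    intro h
    apply h1
    apply Subtype.ext
    rw [← hXdef, h]
    simp
  have hne2 : X ≠ (-(1 : F)) • (1 : Matrix (Fin 2 ⊕ Fin 2) (Fin 2 ⊕ Fin 2) F) := by
    intro h
    apply hn
    apply Subtype.ext
    rw [← hXdef, h, Cfsg.Agent.S0246.negOne_coe]
    simp
  obtain ⟨u0, w0, hu0, hw0, h0⟩ := eigen_pair h2 X hX hom (-1) (by ring) hne1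
  obtain ⟨u1, w1, hu1, hw1, h1'⟩ := eigen_pair h2 X hX hom 1 (by ring) hne2
  set r : Fin 2 ⊕ Fin 2 → Fin 2 ⊕ Fin 2 → F := (fun s : Fin 2 ⊕ Fin 2 => match s with
        | Sum.inl 0 => u0 | Sum.inr 0 => w0 | Sum.inl 1 => u1 | Sum.inr 1 => w1) with hr
  have hgram : ∀ s t, om (r s) (r t) = Matrix.J (Fin 2) F s t :=
    gram_of_pairs u0 w0 u1 w1 h0 h1' (om_eigen_cross h2 X hom _ _ hu0 hu1)
      (om_eigen_cross h2 X hom _ _ hu0 hw1) (om_eigen_cross h2 X hom _ _ hw0 hu1)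
      (om_eigen_cross h2 X hom _ _ hw0 hw1)
  refine ⟨⟨Matrix.of r, mk_symp r hgram⟩, ?_⟩
  rw [mul_inv_eq_iff_eq_mul]
  apply Subtype.ext
  change (Matrix.of r : Matrix (Fin 2 ⊕ Fin 2) (Fin 2 ⊕ Fin 2) F) * X =
    (zt : Sp4 F).1 * (Matrix.of r : Matrix (Fin 2 ⊕ Fin 2) (Fin 2 ⊕ Fin 2) F)
  have hrow : ∀ s, (Matrix.of r * X) s = (r s) ᵥ* X := by
    intro s
    ext t
    simp [Matrix.mul_apply, Matrix.vecMul, dotProduct]
  have hzt : (zt : Sp4 F).1 = blkM (-1 : Matrix (Fin 2) (Fin 2) F) 1 := by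
    simp [zt, blk]
  rw [hzt]
  ext s t
  rw [hrow s]
  rcases s with s | s <;> fin_cases s
  · have : r (Sum.inl 0) = u0 := rfl
    simp only [Fin.zero_eta, this, hu0]
    simp [blkM_apply, Matrix.mul_apply, Fintype.sum_sum_type, Fin.sum_univ_two, Matrix.one_apply, hr]
  · have : r (Sum.inl 1) = u1 := rfl
    simp only [Fin.mk_one, this, hu1]
    simp [blkM_apply, Matrix.mul_apply, Fintype.sum_sum_type, Fin.sum_univ_two, Matrix.one_apply, hr]
  · have : r (Sum.inr 0) = w0 := rfl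
    simp only [Fin.zero_eta, this, hw0]
    simp [blkM_apply, Matrix.mul_apply, Fintype.sum_sum_type, Fin.sum_univ_two, Matrix.one_apply, hr]
  · have : r (Sum.inr 1) = w1 := rfl
    simp only [Fin.mk_one, this, hw1]
    simp [blkM_apply, Matrix.mul_apply, Fintype.sum_sum_type, Fin.sum_univ_two, Matrix.one_apply, hr]

section
variable (F : Type*) [Field F]

/-- Piece FA, statement verbatim from `Helper16/PS4/Skeleton.lean.txt` (`F` explicit) -/
theorem conj_zt (h2 : (2 : F) ≠ 0) (x : Sp4 F) (hx : x * x = 1) (h1 : x ≠ 1)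
    (hn : x ≠ Cfsg.Agent.S0246.negOne F 2) : ∃ g : Sp4 F, g * x * g⁻¹ = zt :=
  conj_zt_aux h2 x hx h1 hn

end

end Cfsg.Agent.Lib.Helper20.PS4
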