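import Mathlib
import Cfsg.Agent.Lib.Helper16.PS4.Defs
import Cfsg.Agent.Lib.Helper20.PS4SB

/-!
# Project PS4 (helper16, S5320 part B): piece FB, elements of square `-1` of `Sp4` are block diagonal
up to conjugacy
-/

set_option autoImplicit false

namespace Cfsg.Agent.Lib.Helper20.PS4

open Matrix Cfsg.Agent.Lib.Helper16.PS4

variable {F : Type*} [Field F]

/-- the matrix `[[0, -c], [c⁻¹, 0]]` of `SL2` -/
def rotM (c : F) (hc : c ≠ 0) : SL2 F :=
  ⟨!![0, -c; c⁻¹, 0], by simp [Matrix.det_fin_two, hc]⟩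

theorem rotM_sq (c : F) (hc : c ≠ 0) : rotM c hc * rotM c hc = -1 := by
  apply Subtype.ext
  rw [Matrix.SpecialLinearGroup.coe_mul, Matrix.SpecialLinearGroup.coe_neg,
    Matrix.SpecialLinearGroup.coe_one]
  change (!![0, -c; c⁻¹, 0] * !![0, -c; c⁻¹, 0] : Matrix (Fin 2) (Fin 2) F) = -1
  ext i j
  fin_cases i <;> fin_cases j <;>
    simp [Matrix.mul_apply, Fin.sum_univ_two, hc, Matrix.one_apply]

section
variable (X : Matrix (Fin 2 ⊕ Fin 2) (Fin 2 ⊕ Fin 2) F)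
  (hTT : ∀ v : Fin 2 ⊕ Fin 2 → F, (v ᵥ* X) ᵥ* X = -v)
  (hom : ∀ u v, om (u ᵥ* X) (v ᵥ* X) = om u v)

include hTT hom

/-- `(v, w) ↦ om v (w X)` is symmetric -/
theorem beta_symm (v w : Fin 2 ⊕ Fin 2 → F) : om v (w ᵥ* X) = om w (v ᵥ* X) := by
  have := hom v (w ᵥ* X)
  rw [hTT, om_neg_right] at this
  rw [← this, om_swap w]

/-- polarization -/
theorem beta_polar (h2 : (2 : F) ≠ 0) (S : (Fin 2 ⊕ Fin 2 → F) → Prop)
    (hadd : ∀ a b, S a → S b → S (a + b)) (a b : Fin 2 ⊕ Fin 2 → F) (ha : S a) (hb : S b)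
    (hab : om a (b ᵥ* X) ≠ 0) : ∃ w, S w ∧ om w (w ᵥ* X) ≠ 0 := by
  by_contra hcon
  push Not at hcon
  have h1 := hcon (a + b) (hadd a b ha hb)
  have h2' := hcon a ha
  have h3 := hcon b hb
  rw [Matrix.add_vecMul, om_add_left, om_add_right, om_add_right, h2', h3,
    beta_symm X hTT hom b a] at h1
  have h4 : 2 * om a (b ᵥ* X) = 0 := by linear_combination h1
  exact hab ((mul_eq_zero.1 h4).resolve_left h2)

end

theorem conj_blk_of_sq_aux (h2 : (2 : F) ≠ 0) (x : Sp4 F)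
    (hx : x * x = Cfsg.Agent.S0246.negOne F 2) :
    ∃ (g : Sp4 F) (a b : SL2 F), a * a = -1 ∧ b * b = -1 ∧ g * x * g⁻¹ = blk (a, b) := by
  set X : Matrix (Fin 2 ⊕ Fin 2) (Fin 2 ⊕ Fin 2) F :=
    (x : Matrix (Fin 2 ⊕ Fin 2) (Fin 2 ⊕ Fin 2) F) with hXdef
  have hX : X * X = -1 := by
    have := congrArg (Subtype.val) hx
    rw [Cfsg.Agent.S0246.negOne_coe] at this
    simpa using this
  have hom : ∀ u v, om (u ᵥ* X) (v ᵥ* X) = om u v := om_vecMul x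
  have hTT : ∀ v : Fin 2 ⊕ Fin 2 → F, (v ᵥ* X) ᵥ* X = -v := by
    intro v
    rw [Matrix.vecMul_vecMul, hX, Matrix.vecMul_neg, Matrix.vecMul_one]
  -- (a) an anisotropic vector `v`
  obtain ⟨v, -, hv⟩ : ∃ v, True ∧ om v (v ᵥ* X) ≠ 0 := by
    have he : (Pi.single (Sum.inl 0) 1 : Fin 2 ⊕ Fin 2 → F) ≠ 0 := by
      intro h
      have := congrFun h (Sum.inl 0)
      simp at this
    obtain ⟨u, hu⟩ := om_nondeg _ he
    refine beta_polar X hTT hom h2 (fun _ => True) (fun _ _ _ _ => trivial)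
      (Pi.single (Sum.inl 0) 1) (-(u ᵥ* X)) trivial trivial ?_
    rw [Matrix.neg_vecMul, hTT, neg_neg]
    exact hu
  set c := om v (v ᵥ* X) with hc
  -- (b) an anisotropic vector `w` orthogonal to `v` and `v X`
  obtain ⟨w, ⟨hw1, hw2⟩, hw⟩ : ∃ w, (om v w = 0 ∧ om (v ᵥ* X) w = 0) ∧ om w (w ᵥ* X) ≠ 0 := by
    -- a nonzero vector of `P^⊥`
    obtain ⟨a, ha1, ha2, ha0⟩ : ∃ a : Fin 2 ⊕ Fin 2 → F, om v a = 0 ∧ om (v ᵥ* X) a = 0 ∧ a ≠ 0 := by
      let M : Matrix (Fin 2) (Fin 2 ⊕ Fin 2) F :=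
        Matrix.of ![v ᵥ* Matrix.J (Fin 2) F, (v ᵥ* X) ᵥ* Matrix.J (Fin 2) F]
      have hker : LinearMap.ker M.mulVecLin ≠ ⊥ := by
        apply LinearMap.ker_ne_bot_of_finrank_lt
        simp
      obtain ⟨a, ha, ha0⟩ := Submodule.exists_mem_ne_zero_of_ne_bot hker
      rw [LinearMap.mem_ker, Matrix.mulVecLin_apply] at ha
      refine ⟨a, ?_, ?_, ha0⟩
      · have := congrFun ha 0
        simpa [M, Matrix.mulVec, om, Matrix.dotProduct_mulVec] using this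
      · have := congrFun ha 1
        simpa [M, Matrix.mulVec, om, Matrix.dotProduct_mulVec] using this
    obtain ⟨u, hu⟩ := om_nondeg a ha0
    have hav : om a v = 0 := by rw [om_swap, ha1, neg_zero]
    have haTv : om a (v ᵥ* X) = 0 := by rw [om_swap, ha2, neg_zero]
    have hTvv : om (v ᵥ* X) v = -c := by rw [om_swap]
    have hc0 : c ≠ 0 := hv
    refine beta_polar X hTT hom h2 (fun w => om v w = 0 ∧ om (v ᵥ* X) w = 0) ?_ a
      (-(u ᵥ* X) - (-(om (v ᵥ* X) (-(u ᵥ* X))) / c) • v - (om v (-(u ᵥ* X)) / c) • (v ᵥ* X))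
      ⟨ha1, ha2⟩ ⟨?_, ?_⟩ ?_
    · rintro p q ⟨hp1, hp2⟩ ⟨hq1, hq2⟩
      exact ⟨by rw [om_add_right, hp1, hq1, add_zero], by rw [om_add_right, hp2, hq2, add_zero]⟩
    · rw [om_sub_right, om_sub_right, om_smul_right, om_smul_right, om_self, ← hc]
      field_simp
      ring
    · rw [om_sub_right, om_sub_right, om_smul_right, om_smul_right, om_self, hTvv]
      field_simp
      ring
    · rw [Matrix.sub_vecMul, Matrix.sub_vecMul, Matrix.smul_vecMul, Matrix.smul_vecMul,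
        Matrix.neg_vecMul, hTT, hTT, neg_neg, om_sub_right, om_sub_right, om_smul_right,
        om_smul_right]
      simp only [om_neg_right, haTv, hav]
      simpa using hu
  set d := om w (w ᵥ* X) with hd
  have hc0 : c ≠ 0 := hv
  have hd0 : d ≠ 0 := hw
  -- (c) the symplectic basis
  have hvTw : om v (w ᵥ* X) = 0 := by
    rw [beta_symm X hTT hom, om_swap, hw2, neg_zero]
  have hTvTw : om (v ᵥ* X) (w ᵥ* X) = 0 := by rw [hom, hw1]
  set r : Fin 2 ⊕ Fin 2 → Fin 2 ⊕ Fin 2 → F := (fun s : Fin 2 ⊕ Fin 2 => match s with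
        | Sum.inl 0 => v | Sum.inr 0 => (-c⁻¹) • (v ᵥ* X) | Sum.inl 1 => w
        | Sum.inr 1 => (-d⁻¹) • (w ᵥ* X)) with hr
  have hgram : ∀ s t, om (r s) (r t) = Matrix.J (Fin 2) F s t := by
    refine gram_of_pairs v ((-c⁻¹) • (v ᵥ* X)) w ((-d⁻¹) • (w ᵥ* X)) ?_ ?_ hw1 ?_ ?_ ?_
    · rw [om_smul_right, ← hc]; field_simp
    · rw [om_smul_right, ← hd]; field_simp
    · rw [om_smul_right, hvTw, mul_zero]
    · rw [om_smul_left, hw2, mul_zero]
    · rw [om_smul_left, om_smul_right, hTvTw, mul_zero, mul_zero]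
  refine ⟨⟨Matrix.of r, mk_symp r hgram⟩, rotM c hc0, rotM d hd0, rotM_sq c hc0, rotM_sq d hd0, ?_⟩
  rw [mul_inv_eq_iff_eq_mul]
  apply Subtype.ext
  change (Matrix.of r : Matrix (Fin 2 ⊕ Fin 2) (Fin 2 ⊕ Fin 2) F) * X =
    (blk (rotM c hc0, rotM d hd0) : Sp4 F).1 *
      (Matrix.of r : Matrix (Fin 2 ⊕ Fin 2) (Fin 2 ⊕ Fin 2) F)
  have hrow : ∀ s, (Matrix.of r * X) s = (r s) ᵥ* X := by
    intro s
    ext t
    simp [Matrix.mul_apply, Matrix.vecMul, dotProduct]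
  have hblk : (blk (rotM c hc0, rotM d hd0) : Sp4 F).1 =
      blkM (!![0, -c; c⁻¹, 0] : Matrix (Fin 2) (Fin 2) F) !![0, -d; d⁻¹, 0] := rfl
  rw [hblk]
  ext s t
  rw [hrow s]
  rcases s with s | s <;> fin_cases s
  · have : r (Sum.inl 0) = v := rfl
    simp only [Fin.zero_eta, this]
    simp [blkM_apply, Matrix.mul_apply, Fintype.sum_sum_type, Fin.sum_univ_two, hr, hc0]
  · have : r (Sum.inl 1) = w := rfl
    simp only [Fin.mk_one, this]
    simp [blkM_apply, Matrix.mul_apply, Fintype.sum_sum_type, Fin.sum_univ_two, hr, hd0]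
  · have : r (Sum.inr 0) = (-c⁻¹) • (v ᵥ* X) := rfl
    simp only [Fin.zero_eta, this, Matrix.smul_vecMul, hTT]
    simp [blkM_apply, Matrix.mul_apply, Fintype.sum_sum_type, Fin.sum_univ_two, hr]
  · have : r (Sum.inr 1) = (-d⁻¹) • (w ᵥ* X) := rfl
    simp only [Fin.mk_one, this, Matrix.smul_vecMul, hTT]
    simp [blkM_apply, Matrix.mul_apply, Fintype.sum_sum_type, Fin.sum_univ_two, hr]

section
variable (F : Type*) [Field F]

/-- Piece FB, statement verbatim from `Helper16/PS4/Skeleton.lean.txt` (`F` explicit) -/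
theorem conj_blk_of_sq (h2 : (2 : F) ≠ 0) (x : Sp4 F)
    (hx : x * x = Cfsg.Agent.S0246.negOne F 2) :
    ∃ (g : Sp4 F) (a b : SL2 F), a * a = -1 ∧ b * b = -1 ∧ g * x * g⁻¹ = blk (a, b) :=
  conj_blk_of_sq_aux h2 x hx

end

end Cfsg.Agent.Lib.Helper20.PS4
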