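import Mathlib
import Cfsg.Prelude.Def_Local
import Cfsg.Prelude.Def_Transfer
import Cfsg.Agent.Lib.Lead.Coprime
import Cfsg.Agent.Lib.helper17.PClosed

set_option autoImplicit false

namespace Cfsg.Agent.Lib.Helper20.PSolvLift

open scoped commutatorElement

variable {G : Type*} [Group G]

/-- `O^p(L)` of a subgroup, viewed in the ambient group. -/
def resOf (p : ℕ) (L : Subgroup G) : Subgroup G := (Cfsg.pResidual p ↥L).map L.subtype

/-- `O_p(L)` of a subgroup, viewed in the ambient group. -/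
def coreOf (p : ℕ) (L : Subgroup G) : Subgroup G := (Cfsg.pCore p ↥L).map L.subtype

theorem resOf_le (p : ℕ) (L : Subgroup G) : resOf p L ≤ L := by
  unfold resOf
  exact Subgroup.map_subtype_le _

theorem coreOf_le (p : ℕ) (L : Subgroup G) : coreOf p L ≤ L := by
  unfold coreOf
  exact Subgroup.map_subtype_le _

theorem mem_resOf_of_coprime {p : ℕ} {L : Subgroup G} {g : G} (hg : g ∈ L)
    (hc : (orderOf g).Coprime p) : g ∈ resOf p L := by
  unfold resOf
  refine ⟨⟨g, hg⟩, ?_, rfl⟩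
  apply Cfsg.Agent.Lib.helper17.mem_pResidual_of_coprime
  rw [← Subgroup.orderOf_coe]
  exact hc

theorem resOf_le_of {p : ℕ} {L N : Subgroup G}
    (h : ∀ g ∈ L, (orderOf g).Coprime p → g ∈ N) : resOf p L ≤ N := by
  unfold resOf
  rw [Subgroup.map_le_iff_le_comap]
  unfold Cfsg.pResidual
  rw [Subgroup.closure_le]
  intro g hg
  have hg' : (orderOf g).Coprime p := hg
  rw [SetLike.mem_coe, Subgroup.mem_comap]
  apply h _ g.2
  rw [Subgroup.orderOf_coe]
  exact hg'

theorem le_normalizer_resOf (p : ℕ) (L : Subgroup G) :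
    L ≤ Subgroup.normalizer ((resOf p L : Subgroup G) : Set G) := by
  unfold resOf
  have : (Cfsg.pResidual p ↥L).Normal := Cfsg.Agent.Lib.helper17.pResidual_normal p ↥L
  intro l hl
  rw [Subgroup.mem_normalizer_iff]
  intro h
  constructor
  · rintro ⟨y, hy, rfl⟩
    refine ⟨⟨l, hl⟩ * y * ⟨l, hl⟩⁻¹, this.conj_mem y hy _, rfl⟩
  · rintro ⟨y, hy, hyh⟩
    refine ⟨⟨l, hl⟩⁻¹ * y * ⟨l, hl⟩, ?_, ?_⟩
    · have := this.conj_mem y hy (⟨l, hl⟩⁻¹)
      simpa using this
    · simp only [Subgroup.coe_subtype, Subgroup.coe_mul, Subgroup.coe_inv] at hyh ⊢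
      rw [hyh]; group

theorem coreOf_isPGroup (p : ℕ) [Fact p.Prime] (L : Subgroup G) : IsPGroup p (coreOf p L) := by
  unfold coreOf
  exact (Cfsg.Agent.Lib.helper17.pCore_isPGroup p (G := ↥L)).map _

theorem le_normalizer_coreOf (p : ℕ) (L : Subgroup G) :
    L ≤ Subgroup.normalizer ((coreOf p L : Subgroup G) : Set G) := by
  unfold coreOf
  have : (Cfsg.pCore p ↥L).Normal := Cfsg.Agent.Lib.helper17.pCore_normal p ↥L
  intro l hl
  rw [Subgroup.mem_normalizer_iff]
  intro h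
  constructor
  · rintro ⟨y, hy, rfl⟩
    refine ⟨⟨l, hl⟩ * y * ⟨l, hl⟩⁻¹, this.conj_mem y hy _, rfl⟩
  · rintro ⟨y, hy, hyh⟩
    refine ⟨⟨l, hl⟩⁻¹ * y * ⟨l, hl⟩, ?_, ?_⟩
    · have := this.conj_mem y hy (⟨l, hl⟩⁻¹)
      simpa using this
    · simp only [Subgroup.coe_subtype, Subgroup.coe_mul, Subgroup.coe_inv] at hyh ⊢
      rw [hyh]; group

theorem le_coreOf {p : ℕ} {L N : Subgroup G} (hNL : N ≤ L)
    (hn : L ≤ Subgroup.normalizer (N : Set G)) (hN : IsPGroup p N) : N ≤ coreOf p L := by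
  unfold coreOf
  have h1 : (N.subgroupOf L).Normal := by
    constructor
    intro n hn' g
    rw [Subgroup.mem_subgroupOf] at hn' ⊢
    have := (Subgroup.mem_normalizer_iff.mp (hn g.2) n).mp hn'
    simpa using this
  have h2 : IsPGroup p (N.subgroupOf L) := by
    have e : N.subgroupOf L = N.comap L.subtype := rfl
    rw [e]
    exact hN.comap_of_injective _ (Subgroup.subtype_injective L)
  have h3 : N.subgroupOf L ≤ Cfsg.pCore p ↥L :=
    Cfsg.Agent.Lib.helper17.le_pCore_of_normal_isPGroup _ h2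
  intro n hn'
  exact ⟨⟨n, hNL hn'⟩, h3 (Subgroup.mem_subgroupOf.mpr hn'), rfl⟩

/-- A `p'`-element of `P ⊔ Q`, with `P` a `p`-group normalizing `Q`, lies in `Q`. -/
theorem mem_of_mem_sup_of_coprime' {p : ℕ} [Fact p.Prime] (P Q : Subgroup G)
    (hPQ : P ≤ Subgroup.normalizer (Q : Set G))
    (hP : IsPGroup p P) {g : G} (hg : g ∈ P ⊔ Q) (hcop : Nat.Coprime (orderOf g) p) : g ∈ Q := by
  have hg' : g ∈ ((P ⊔ Q : Subgroup G) : Set G) := hg
  rw [Subgroup.coe_mul_of_left_le_normalizer_right P Q hPQ] at hg'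
  obtain ⟨a, ha, q, hq, hgq⟩ := hg'
  have hgq' : a * q = g := hgq
  subst hgq'
  have key : ∀ n : ℕ, ∃ q' ∈ Q, (a * q) ^ n = a ^ n * q' := by
    intro n
    induction n with
    | zero => exact ⟨1, Q.one_mem, by simp⟩
    | succ n ih =>
      obtain ⟨q', hq', e⟩ := ih
      refine ⟨a⁻¹ * q' * a * q, ?_, ?_⟩
      · apply Q.mul_mem _ hq
        have hai : a⁻¹ ∈ Subgroup.normalizer (Q : Set G) := (Subgroup.normalizer (Q : Set G)).inv_mem (hPQ ha)
        have := (Subgroup.mem_normalizer_iff.mp hai q').mp hq'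
        simpa using this
      · rw [pow_succ, e, pow_succ]; group
  obtain ⟨k, hk⟩ := hP ⟨a, ha⟩
  have hk' : a ^ (p ^ k) = 1 := by
    have := congrArg Subtype.val hk
    simpa using this
  obtain ⟨q', hq', e⟩ := key (p ^ k)
  rw [hk', one_mul] at e
  have h7 : (p ^ k).Coprime (orderOf (a * q)) := (Nat.Coprime.pow_right k hcop).symm
  obtain ⟨m, hm⟩ := exists_pow_eq_self_of_coprime h7
  rw [← hm, e]
  exact Q.pow_mem hq' m

end Cfsg.Agent.Lib.Helper20.PSolvLift
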