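import Mathlib
import Cfsg.Prelude.Def_Local
import Cfsg.Prelude.Def_Transfer
import Cfsg.Agent.Lib.Lead.Coprime
import Cfsg.Agent.Lib.Helper10.CoprimeGen
import Cfsg.Agent.Lib.Helper20.PSolvLiftA

set_option autoImplicit false

namespace Cfsg.Agent.Lib.Helper20.PSolvLift

open scoped commutatorElement Pointwise

variable {Y : Type*} [Group Y]

theorem conj_smul_eq_map (k : Y) (A : Subgroup Y) :
    MulAut.conj k • A = A.map (MulAut.conj k).toMonoidHom := by
  ext x
  constructor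
  · intro hx
    obtain ⟨a, ha, rfl⟩ := Subgroup.mem_smul_pointwise_iff_exists _ _ _ |>.mp hx
    exact ⟨a, ha, rfl⟩
  · rintro ⟨a, ha, rfl⟩
    exact Subgroup.smul_mem_pointwise_smul a (MulAut.conj k) A ha

theorem mem_conjMap_iff (k : Y) (A : Subgroup Y) (y : Y) :
    y ∈ A.map (MulAut.conj k).toMonoidHom ↔ ∃ a ∈ A, k * a * k⁻¹ = y := by
  constructor
  · rintro ⟨a, ha, rfl⟩
    exact ⟨a, ha, rfl⟩
  · rintro ⟨a, ha, rfl⟩
    exact ⟨a, ha, rfl⟩

theorem eq_one_of_pgroup_of_coprime [Finite Y] {p : ℕ} [Fact p.Prime] {A K : Subgroup Y}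
    (hA : IsPGroup p A) (hK : (Nat.card K).Coprime p) {g : Y} (h1 : g ∈ A) (h2 : g ∈ K) : g = 1 := by
  obtain ⟨k, hk⟩ := hA ⟨g, h1⟩
  have hk' : g ^ (p ^ k) = 1 := by
    have := congrArg Subtype.val hk
    simpa using this
  have h3 : orderOf g ∣ p ^ k := orderOf_dvd_of_pow_eq_one hk'
  have h4 : orderOf g ∣ Nat.card K := by
    have : orderOf (⟨g, h2⟩ : K) ∣ Nat.card K := orderOf_dvd_natCard _
    rwa [← Subgroup.orderOf_coe] at this
  have h5 : (Nat.card K).Coprime (p ^ k) := Nat.Coprime.pow_right k hK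
  have h6 : orderOf g ∣ 1 := by
    rw [← h5]
    exact Nat.dvd_gcd h4 h3
  exact orderOf_eq_one_iff.mp (Nat.dvd_one.mp h6)

/-- first step: a hyperplane and a non-centralizing element of `K` centralizing it. -/
theorem exists_hyperplane_elt [Finite Y] {p : ℕ} [Fact p.Prime]
    (K : Subgroup Y) [K.Normal] (hK : (Nat.card K).Coprime p)
    (hCK : Subgroup.centralizer (K : Set Y) ≤ K)
    (A : Subgroup Y) (hA : Cfsg.IsElementaryAbelian p A) (hA1 : A ≠ ⊥) :
    ∃ B : Subgroup Y, B ≤ A ∧ B.relIndex A = p ∧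
      ∃ x ∈ K, x ∈ Subgroup.centralizer (B : Set Y) ∧ x ∉ Subgroup.centralizer (A : Set Y) := by
  have hp : p.Prime := Fact.out
  by_contra hcon
  push Not at hcon
  have hAp : IsPGroup p A := Cfsg.Agent.Lib.Helper10.elemAb_isPGroup p hA
  have hKA : K ≤ Subgroup.centralizer (A : Set Y) := by
    by_cases hA2 : p ^ 2 ≤ Nat.card ↥A
    · have hX : ¬ p ∣ Nat.card ↥K := by
        intro h
        have := Nat.dvd_gcd h (dvd_refl p)
        rw [hK] at this
        exact hp.one_lt.ne' (Nat.dvd_one.mp this)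
      have hAX : A ≤ Subgroup.normalizer (K : Set Y) := by
        rw [Subgroup.normalizer_eq_top]; exact le_top
      have h1 := Cfsg.Agent.Lib.Helper10.hyperplane_generation p A K hA hA2 hX hAX
      rw [h1]
      apply iSup_le
      rintro ⟨B, hBA, hBidx⟩
      intro x hx
      exact hcon B hBA hBidx x hx.1 hx.2
    · obtain ⟨k, hk⟩ := (IsPGroup.iff_card.1 hAp)
      have hk1 : k = 1 := by
        have h0 : k ≠ 0 := by
          intro h0
          rw [h0, pow_zero] at hk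
          exact hA1 (Subgroup.card_eq_one.mp hk)
        have h2 : k < 2 := by
          by_contra h2
          push Not at h2
          apply hA2
          rw [hk]
          exact Nat.pow_le_pow_right hp.pos h2
        omega
      rw [hk1, pow_one] at hk
      intro x hx
      apply hcon ⊥ bot_le _ x hx
      · rw [Subgroup.mem_centralizer_iff]
        intro h hh
        have : h = 1 := hh
        rw [this]; simp
      · rw [Subgroup.relIndex_bot_left, hk]
  have hAK : A ≤ K := by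
    refine le_trans ?_ hCK
    rw [Subgroup.le_centralizer_iff]
    exact hKA
  apply hA1
  rw [eq_bot_iff]
  intro a ha
  rw [Subgroup.mem_bot]
  exact eq_one_of_pgroup_of_coprime hAp hK ha (hAK ha)

theorem exists_good_elt [Finite Y] {p : ℕ} [Fact p.Prime]
    (K : Subgroup Y) [K.Normal] (hK : (Nat.card K).Coprime p)
    (hCK : Subgroup.centralizer (K : Set Y) ≤ K)
    (A : Subgroup Y) (hA : Cfsg.IsElementaryAbelian p A) (hA1 : A ≠ ⊥) :
    ∃ x ∈ K, (A ⊓ Subgroup.centralizer ({x} : Set Y)).relIndex A = p ∧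
      x ∈ A ⊔ A.map (MulAut.conj x).toMonoidHom := by
  have hp : p.Prime := Fact.out
  have hAp : IsPGroup p A := Cfsg.Agent.Lib.Helper10.elemAb_isPGroup p hA
  obtain ⟨B, hBA, hBidx, x0, hx0K, hx0B, hx0A⟩ := exists_hyperplane_elt K hK hCK A hA hA1
  -- step b
  set D := A ⊓ Subgroup.centralizer ({x0} : Set Y) with hD
  have hBD : B ≤ D := by
    intro b hb
    refine ⟨hBA hb, ?_⟩
    show b ∈ Subgroup.centralizer ({x0} : Set Y)
    rw [Subgroup.mem_centralizer_iff]
    intro h hh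
    have : h = x0 := hh
    rw [this]
    exact ((Subgroup.mem_centralizer_iff.mp hx0B) b hb).symm
  have hDA : D ≤ A := inf_le_left
  have hDne : ¬ A ≤ D := by
    intro h
    apply hx0A
    rw [Subgroup.mem_centralizer_iff]
    intro a ha
    have : a ∈ Subgroup.centralizer ({x0} : Set Y) := (h ha).2
    rw [Subgroup.mem_centralizer_iff] at this
    exact (this x0 rfl).symm
  have hDidx : D.relIndex A = p := by
    have h1 := Subgroup.relIndex_mul_relIndex B D A hBD hDA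
    rw [hBidx] at h1
    have h2 : D.relIndex A ∣ p := Dvd.intro_left _ h1
    rcases (Nat.dvd_prime hp).mp h2 with h | h
    · exact absurd (Subgroup.relIndex_eq_one.mp h) hDne
    · exact h
  -- step c
  set Ax := A.map (MulAut.conj x0).toMonoidHom with hAx
  set L := A ⊔ Ax with hL
  set KL := L ⊓ K with hKL
  have hAL : A ≤ L := le_sup_left
  have hAxL : Ax ≤ L := le_sup_right
  have hAn : A ≤ Subgroup.normalizer (KL : Set Y) := by
    intro a ha
    rw [Subgroup.mem_normalizer_iff]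
    intro h
    constructor
    · rintro ⟨h1, h2⟩
      exact ⟨L.mul_mem (L.mul_mem (hAL ha) h1) (L.inv_mem (hAL ha)),
        Subgroup.Normal.conj_mem inferInstance h h2 a⟩
    · rintro ⟨h1, h2⟩
      have e : h = a⁻¹ * (a * h * a⁻¹) * a := by group
      rw [e]
      refine ⟨L.mul_mem (L.mul_mem (L.inv_mem (hAL ha)) h1) (hAL ha), ?_⟩
      have := Subgroup.Normal.conj_mem (inferInstance : K.Normal) _ h2 a⁻¹
      simpa using this
  have hcopK : (Nat.card A).Coprime (Nat.card K) := by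
    obtain ⟨k, hk⟩ := (IsPGroup.iff_card.1 hAp)
    rw [hk]
    exact Nat.Coprime.pow_left k hK.symm
  have hcop : (Nat.card A).Coprime (Nat.card KL) :=
    Nat.Coprime.coprime_dvd_right (Subgroup.card_dvd_of_le inf_le_right) hcopK
  have hsolv : Group.IsSolvable A := by
    have hc : ∀ a b : A, a * b = b * a := fun a b => hA.1.is_comm.comm a b
    exact isSolvable_of_comm hc
  have hAxle : Ax ≤ A ⊔ KL := by
    intro y hy
    obtain ⟨a, ha, rfl⟩ := (mem_conjMap_iff x0 A y).mp hy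
    have e : x0 * a * x0⁻¹ = a * (a⁻¹ * (x0 * a * x0⁻¹)) := by group
    rw [e]
    apply Subgroup.mul_mem_sup ha
    refine ⟨L.mul_mem (L.inv_mem (hAL ha)) (hAxL ((mem_conjMap_iff x0 A _).mpr ⟨a, ha, rfl⟩)), ?_⟩
    have e2 : a⁻¹ * (x0 * a * x0⁻¹) = (a⁻¹ * x0 * a⁻¹⁻¹) * x0⁻¹ := by group
    rw [e2]
    exact K.mul_mem (Subgroup.Normal.conj_mem inferInstance x0 hx0K a⁻¹) (K.inv_mem hx0K)
  have hcard : Nat.card Ax = Nat.card A :=
    Subgroup.card_map_of_injective (MulAut.conj x0).injective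
  obtain ⟨k, hkKL, hkA⟩ := Cfsg.Agent.Lib.Lead.hall_conj A KL hAn hcop (Or.inl hsolv) Ax hAxle hcard
  rw [conj_smul_eq_map] at hkA
  have hkK : k ∈ K := hkKL.2
  have hkL : k ∈ L := hkKL.1
  -- n = k⁻¹ x0 centralizes A
  have hn : ∀ a ∈ A, (k⁻¹ * x0) * a = a * (k⁻¹ * x0) := by
    intro a ha
    have h1 : x0 * a * x0⁻¹ ∈ A.map (MulAut.conj k).toMonoidHom := by
      rw [hkA]
      exact (mem_conjMap_iff x0 A _).mpr ⟨a, ha, rfl⟩
    obtain ⟨a', ha', e⟩ := (mem_conjMap_iff k A _).mp h1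
    have e' : a' = (k⁻¹ * x0) * a * (k⁻¹ * x0)⁻¹ := by
      have : a' = k⁻¹ * (k * a' * k⁻¹) * k := by group
      rw [this, e]; group
    have hc1 : (k⁻¹ * x0) * a * (k⁻¹ * x0)⁻¹ * a⁻¹ ∈ A := by
      rw [← e']
      exact A.mul_mem ha' (A.inv_mem ha)
    have hnK : k⁻¹ * x0 ∈ K := K.mul_mem (K.inv_mem hkK) hx0K
    have hc2 : (k⁻¹ * x0) * a * (k⁻¹ * x0)⁻¹ * a⁻¹ ∈ K := by
      have e3 : (k⁻¹ * x0) * a * (k⁻¹ * x0)⁻¹ * a⁻¹ = (k⁻¹ * x0) * (a * (k⁻¹ * x0)⁻¹ * a⁻¹) := by group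
      rw [e3]
      exact K.mul_mem hnK (Subgroup.Normal.conj_mem inferInstance _ (K.inv_mem hnK) a)
    have h1' := eq_one_of_pgroup_of_coprime hAp hK hc1 hc2
    have : (k⁻¹ * x0) * a = ((k⁻¹ * x0) * a * (k⁻¹ * x0)⁻¹ * a⁻¹) * (a * (k⁻¹ * x0)) := by group
    rw [this, h1', one_mul]
  have hcent : A ⊓ Subgroup.centralizer ({k} : Set Y) = D := by
    ext a
    simp only [hD, Subgroup.mem_inf, Subgroup.mem_centralizer_iff, Set.mem_singleton_iff, forall_eq]
    constructor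
    · rintro ⟨ha, h⟩
      refine ⟨ha, ?_⟩
      have h2 := hn a ha
      have e1 : x0 * a = k * ((k⁻¹ * x0) * a) := by group
      rw [e1, h2]
      have e2 : k * (a * (k⁻¹ * x0)) = (k * a) * (k⁻¹ * x0) := by group
      rw [e2, h]; group
    · rintro ⟨ha, h⟩
      refine ⟨ha, ?_⟩
      have h2 := hn a ha
      have e1 : k * a = x0 * ((k⁻¹ * x0)⁻¹ * a) := by group
      have h3 : (k⁻¹ * x0)⁻¹ * a = a * (k⁻¹ * x0)⁻¹ := by
        have : (k⁻¹ * x0)⁻¹ * a = (k⁻¹ * x0)⁻¹ * (a * (k⁻¹ * x0)) * (k⁻¹ * x0)⁻¹ := by group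
        rw [this, ← h2]; group
      rw [e1, h3]
      have e2 : x0 * (a * (k⁻¹ * x0)⁻¹) = (x0 * a) * (k⁻¹ * x0)⁻¹ := by group
      rw [e2, h]; group
  refine ⟨k, hkK, ?_, ?_⟩
  · rw [hcent]; exact hDidx
  · rw [hkA]; exact hkL

end Cfsg.Agent.Lib.Helper20.PSolvLift
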