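import Mathlib
import Cfsg.Prelude.Def_Local
import Cfsg.Prelude.Def_Transfer
import Cfsg.Agent.Lib.Lead.Coprime
import Cfsg.Agent.Lib.helper17.PIrr
import Cfsg.Agent.Lib.Helper20.PSolvLiftA
import Cfsg.Agent.Lib.Helper20.PSolvLiftB

set_option autoImplicit false
set_option maxHeartbeats 1000000

namespace Cfsg.Agent.Lib.Helper20.PSolvLift

open scoped commutatorElement Pointwise

variable {M : Type*} [Group M]

theorem map_conjMap {N : Type*} [Group N] (f : M →* N) (x : M) (A : Subgroup M) :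
    (A.map (MulAut.conj x).toMonoidHom).map f = (A.map f).map (MulAut.conj (f x)).toMonoidHom := by
  ext y
  constructor
  · rintro ⟨z, ⟨a, ha, rfl⟩, rfl⟩
    refine ⟨f a, ⟨a, ha, rfl⟩, ?_⟩
    simp
  · rintro ⟨z, ⟨a, ha, rfl⟩, rfl⟩
    refine ⟨x * a * x⁻¹, ⟨a, ha, rfl⟩, ?_⟩
    simp

theorem conjMap_le_of_mem {L A : Subgroup M} (hAL : A ≤ L) {x : M} (hx : x ∈ L) :
    A.map (MulAut.conj x).toMonoidHom ≤ L := by
  intro y hy
  obtain ⟨a, ha, rfl⟩ := (mem_conjMap_iff x A y).mp hy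
  exact L.mul_mem (L.mul_mem hx (hAL ha)) (L.inv_mem hx)

/-- the `p'`-part trick: lift an element of `p'`-order along a homomorphism inside a subgroup. -/
theorem exists_coprime_lift [Finite M] {N : Type*} [Group N] {p : ℕ} [hp : Fact p.Prime]
    (f : M →* N) (L : Subgroup M) (l0 : M) (hl0 : l0 ∈ L)
    (hc : (orderOf (f l0)).Coprime p) :
    ∃ l ∈ L, f l = f l0 ∧ (orderOf l).Coprime p := by
  have hpos : 0 < orderOf l0 := orderOf_pos l0
  obtain ⟨k, m, hm, hkm⟩ := Nat.exists_eq_pow_mul_and_not_dvd hpos.ne' p hp.out.ne_one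
  have h1 : orderOf (l0 ^ (p ^ k)) = m := by
    rw [orderOf_pow' l0 (pow_ne_zero k hp.out.ne_zero), hkm, Nat.gcd_eq_right (dvd_mul_right _ _),
      Nat.mul_div_cancel_left _ (pow_pos hp.out.pos k)]
  have hcop : Nat.Coprime (p ^ k) (orderOf (f l0)) := (Nat.Coprime.pow_right k hc).symm
  obtain ⟨m', hm'⟩ := exists_pow_eq_self_of_coprime hcop
  refine ⟨(l0 ^ (p ^ k)) ^ m', L.pow_mem (L.pow_mem hl0 _) _, ?_, ?_⟩
  · rw [map_pow, map_pow, hm']
  · have h2 : orderOf ((l0 ^ (p ^ k)) ^ m') ∣ m := by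
      rw [← h1]; exact orderOf_pow_dvd m'
    have h3 : m.Coprime p := ((Nat.Prime.coprime_iff_not_dvd hp.out).mpr hm).symm
    exact Nat.Coprime.coprime_dvd_left h2 h3

end Cfsg.Agent.Lib.Helper20.PSolvLift
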