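import Mathlib
import Cfsg.Prelude.Def_Local
import Cfsg.Prelude.Def_Transfer
import Cfsg.Agent.Lib.Lead.Coprime
import Cfsg.Agent.Lib.helper17.PIrr
import Cfsg.Agent.Lib.Helper20.PSolvLiftA
import Cfsg.Agent.Lib.Helper20.PSolvLiftB
import Cfsg.Agent.Lib.Helper20.PSolvLiftC

set_option autoImplicit false
set_option maxHeartbeats 1000000

namespace Cfsg.Agent.Lib.Helper20.PSolvLift

open scoped commutatorElement Pointwise

variable {M : Type*} [Group M]

/-- the lifted element with all needed properties. -/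
theorem exists_lift [Finite M] {p : ℕ} [Fact p.Prime]
    (R : Subgroup M) [R.Normal]
    (Kb : Subgroup (M ⧸ R)) [Kb.Normal] (hKb : (Nat.card Kb).Coprime p)
    (hC : Subgroup.centralizer (Kb : Set (M ⧸ R)) ≤ Kb)
    (A : Subgroup M)
    (hAb : Cfsg.IsElementaryAbelian p (A.map (QuotientGroup.mk' R)))
    (hnot : ¬ A ≤ R) :
    ∃ x : M, QuotientGroup.mk' R x ∈ Kb ∧
      ((A.map (QuotientGroup.mk' R)) ⊓
        Subgroup.centralizer ({QuotientGroup.mk' R x} : Set (M ⧸ R))).relIndex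
          (A.map (QuotientGroup.mk' R)) = p ∧
      x ∈ A ⊔ A.map (MulAut.conj x).toMonoidHom ∧ (orderOf x).Coprime p := by
  classical
  set π := QuotientGroup.mk' R with hπ
  set Ab := A.map π with hAbdef
  have hAb1 : Ab ≠ ⊥ := by
    intro h
    apply hnot
    intro a ha
    have : π a ∈ Ab := Subgroup.mem_map_of_mem _ ha
    rw [h, Subgroup.mem_bot] at this
    exact (QuotientGroup.eq_one_iff a).mp this
  let S : M → Prop := fun x => π x ∈ Kb ∧
      (Ab ⊓ Subgroup.centralizer ({π x} : Set (M ⧸ R))).relIndex Ab = p ∧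
      π x ∈ Ab ⊔ Ab.map (MulAut.conj (π x)).toMonoidHom
  have hLmap : ∀ x : M, (A ⊔ A.map (MulAut.conj x).toMonoidHom).map π =
      Ab ⊔ Ab.map (MulAut.conj (π x)).toMonoidHom := by
    intro x
    rw [Subgroup.map_sup, map_conjMap]
  obtain ⟨xb, hxbK, hxbidx, hxbL⟩ := exists_good_elt Kb hKb hC Ab hAb hAb1
  obtain ⟨x0, rfl⟩ := QuotientGroup.mk'_surjective R xb
  have hS0 : S x0 := ⟨hxbK, hxbidx, hxbL⟩
  have hex : ∃ n : ℕ, ∃ x : M, S x ∧ Nat.card ↥(A ⊔ A.map (MulAut.conj x).toMonoidHom) = n :=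
    ⟨_, x0, hS0, rfl⟩
  obtain ⟨x1, hS1, hcard1⟩ := Nat.find_spec hex
  have hmin : ∀ y : M, S y → Nat.find hex ≤ Nat.card ↥(A ⊔ A.map (MulAut.conj y).toMonoidHom) :=
    fun y hy => Nat.find_min' hex ⟨y, hy, rfl⟩
  -- lift
  have h1 : π x1 ∈ (A ⊔ A.map (MulAut.conj x1).toMonoidHom).map π := by
    rw [hLmap]; exact hS1.2.2
  obtain ⟨l0, hl0, hl0x⟩ := h1
  have hco : (orderOf (π l0)).Coprime p := by
    rw [hl0x]
    have h2 : orderOf (π x1) ∣ Nat.card Kb := by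
      have : orderOf (⟨π x1, hS1.1⟩ : Kb) ∣ Nat.card Kb := orderOf_dvd_natCard _
      rwa [← Subgroup.orderOf_coe] at this
    exact Nat.Coprime.coprime_dvd_left h2 hKb
  obtain ⟨l, hlL, hlπ, hlo⟩ := exists_coprime_lift π _ l0 hl0 hco
  have hlx : π l = π x1 := hlπ.trans hl0x
  have hSl : S l := by
    show π l ∈ Kb ∧ _ ∧ _
    rw [hlx]; exact hS1
  have hle : A ⊔ A.map (MulAut.conj l).toMonoidHom ≤ A ⊔ A.map (MulAut.conj x1).toMonoidHom :=
    sup_le le_sup_left (conjMap_le_of_mem le_sup_left hlL)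
  have hge : Nat.card ↥(A ⊔ A.map (MulAut.conj x1).toMonoidHom) ≤
      Nat.card ↥(A ⊔ A.map (MulAut.conj l).toMonoidHom) := by
    rw [hcard1]; exact hmin l hSl
  have heq : A ⊔ A.map (MulAut.conj l).toMonoidHom = A ⊔ A.map (MulAut.conj x1).toMonoidHom :=
    Subgroup.eq_of_le_of_card_ge hle hge
  exact ⟨l, hSl.1, hSl.2.1, by rw [heq]; exact hlL, hlo⟩

end Cfsg.Agent.Lib.Helper20.PSolvLift
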