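import Mathlib
import Cfsg.Prelude.Def_Local
import Cfsg.Prelude.Def_Transfer
import Cfsg.Agent.Lib.Lead.Coprime
import Cfsg.Agent.Lib.helper17.PIrr
import Cfsg.Agent.Lib.Helper20.PSolvLiftA
import Cfsg.Agent.Lib.Helper20.PSolvLiftB
import Cfsg.Agent.Lib.Helper20.PSolvLiftC
import Cfsg.Agent.Lib.Helper20.PSolvLiftD

set_option autoImplicit false
set_option maxHeartbeats 1000000

namespace Cfsg.Agent.Lib.Helper20.PSolvLift

open scoped commutatorElement Pointwise

variable {M : Type*} [Group M]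

theorem main_aux [Finite M] {p : ℕ} [Fact p.Prime]
    (R : Subgroup M) [R.Normal] (hR : IsPGroup p R)
    (Kb : Subgroup (M ⧸ R)) [Kb.Normal] (hKb : (Nat.card Kb).Coprime p)
    (hC : Subgroup.centralizer (Kb : Set (M ⧸ R)) ≤ Kb)
    (A : Subgroup M) (hA : IsPGroup p A)
    (hAb : Cfsg.IsElementaryAbelian p (A.map (QuotientGroup.mk' R)))
    (hnot : ¬ A ≤ R) :
    ∃ x ∈ Kb.comap (QuotientGroup.mk' R),
      x ∈ resOf p (A ⊔ A.map (MulAut.conj x).toMonoidHom) ∧
      resOf p (A ⊔ A.map (MulAut.conj x).toMonoidHom) ≤ Kb.comap (QuotientGroup.mk' R) ∧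
      ⁅resOf p (A ⊔ A.map (MulAut.conj x).toMonoidHom), A⁆ =
        resOf p (A ⊔ A.map (MulAut.conj x).toMonoidHom) ∧
      (A ⊓ coreOf p (A ⊔ A.map (MulAut.conj x).toMonoidHom)).relIndex A = p ∧
      ⁅A ⊓ coreOf p (A ⊔ A.map (MulAut.conj x).toMonoidHom),
        A ⊔ A.map (MulAut.conj x).toMonoidHom⁆ ≤ R := by
  obtain ⟨x, hxK, hxidx, hxL, hxo⟩ := exists_lift R Kb hKb hC A hAb hnot
  set π := QuotientGroup.mk' R with hπ
  set Ab := A.map π with hAbdef
  set xb := π x with hxb
  set L := A ⊔ A.map (MulAut.conj x).toMonoidHom with hL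
  set Bb := Ab ⊓ Subgroup.centralizer ({xb} : Set (M ⧸ R)) with hBb
  set Lb := Ab ⊔ Ab.map (MulAut.conj xb).toMonoidHom with hLb
  have hAL : A ≤ L := le_sup_left
  have hLmap : L.map π = Lb := by
    rw [hL, Subgroup.map_sup, map_conjMap]
  have hAbp : IsPGroup p Ab := hA.map π
  have hπL : ∀ l ∈ L, π l ∈ Lb := fun l hl => by
    rw [← hLmap]; exact Subgroup.mem_map_of_mem _ hl
  -- (Z) Bb is central in Lb
  have hZ : ∀ b ∈ Bb, ∀ y ∈ Lb, b * y = y * b := by
    intro b hb
    have hbA : b ∈ Ab := hb.1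
    have hbx : b ∈ Subgroup.centralizer ({xb} : Set (M ⧸ R)) := hb.2
    have hbx' : xb * b = b * xb := (Subgroup.mem_centralizer_iff.mp hbx) xb rfl
    have hle : Lb ≤ Subgroup.centralizer ({b} : Set (M ⧸ R)) := by
      apply sup_le
      · intro a ha
        rw [Subgroup.mem_centralizer_iff]
        intro h hh
        have : h = b := hh
        rw [this]
        exact Cfsg.Agent.Lib.Helper10.elemAb_commute p hAb hbA ha
      · intro y hy
        obtain ⟨a, ha, rfl⟩ := (mem_conjMap_iff xb Ab y).mp hy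
        rw [Subgroup.mem_centralizer_iff]
        intro h hh
        have : h = b := hh
        rw [this]
        have hab : b * a = a * b := Cfsg.Agent.Lib.Helper10.elemAb_commute p hAb hbA ha
        have hbx'' : b * xb⁻¹ = xb⁻¹ * b := by
          have : b * xb⁻¹ = xb⁻¹ * (xb * b) * xb⁻¹ := by group
          rw [this, hbx']; group
        calc b * (xb * a * xb⁻¹) = (b * xb) * a * xb⁻¹ := by group
          _ = (xb * b) * a * xb⁻¹ := by rw [hbx']
          _ = xb * (b * a) * xb⁻¹ := by group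
          _ = xb * (a * b) * xb⁻¹ := by rw [hab]
          _ = xb * a * (b * xb⁻¹) := by group
          _ = xb * a * (xb⁻¹ * b) := by rw [hbx'']
          _ = xb * a * xb⁻¹ * b := by group
    intro y hy
    have := hle hy
    rw [Subgroup.mem_centralizer_iff] at this
    exact this b rfl
  -- Lb ≤ Kb ⊔ Ab
  have hLbK : Lb ≤ Kb ⊔ Ab := by
    apply sup_le le_sup_right
    intro y hy
    obtain ⟨a, ha, rfl⟩ := (mem_conjMap_iff xb Ab y).mp hy
    have e : xb * a * xb⁻¹ = (xb * (a * xb⁻¹ * a⁻¹)) * a := by group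
    rw [e]
    exact Subgroup.mul_mem_sup (Kb.mul_mem hxK
      (Subgroup.Normal.conj_mem inferInstance _ (Kb.inv_mem hxK) a)) ha
  have hxLL : x ∈ L := hxL
  set U := resOf p L with hU
  set Q := coreOf p L with hQ
  have hQp : IsPGroup p Q := coreOf_isPGroup p L
  have hQn : L ≤ Subgroup.normalizer (Q : Set M) := le_normalizer_coreOf p L
  -- membership of `A ⊓ Q` elements in Bb
  have hsub : ∀ a ∈ A, a ∈ Q → π a ∈ Bb := by
    intro a ha haQ
    refine ⟨Subgroup.mem_map_of_mem _ ha, ?_⟩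
    show π a ∈ Subgroup.centralizer ({xb} : Set (M ⧸ R))
    rw [Subgroup.mem_centralizer_iff]
    intro h hh
    have hh' : h = xb := hh
    rw [hh']
    have hc : x * a * x⁻¹ * a⁻¹ ∈ Q :=
      Q.mul_mem ((Subgroup.mem_normalizer_iff.mp (hQn hxLL) a).mp haQ) (Q.inv_mem haQ)
    have h1 : π (x * a * x⁻¹ * a⁻¹) ∈ Q.map π := Subgroup.mem_map_of_mem _ hc
    have h2 : π (x * a * x⁻¹ * a⁻¹) ∈ Kb := by
      have e : π (x * a * x⁻¹ * a⁻¹) = xb * (π a * xb⁻¹ * (π a)⁻¹) := by
        simp only [map_mul, map_inv, hxb]; group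
      rw [e]
      exact Kb.mul_mem hxK (Subgroup.Normal.conj_mem inferInstance _ (Kb.inv_mem hxK) _)
    have h3 := eq_one_of_pgroup_of_coprime (hQp.map π) hKb h1 h2
    have e : π (x * a * x⁻¹ * a⁻¹) = xb * π a * xb⁻¹ * (π a)⁻¹ := by
      simp only [map_mul, map_inv, hxb]
    rw [e] at h3
    have : xb * π a = (xb * π a * xb⁻¹ * (π a)⁻¹) * (π a * xb) := by group
    rw [this, h3, one_mul]
  refine ⟨x, hxK, ?_, ?_, ?_, ?_, ?_⟩
  · -- (1)
    exact mem_resOf_of_coprime hxLL hxo
  · -- (2)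
    apply resOf_le_of
    intro g hg hgo
    rw [Subgroup.mem_comap]
    have h1 : π g ∈ Kb ⊔ Ab := hLbK (hπL g hg)
    have h2 : (orderOf (π g)).Coprime p := Nat.Coprime.coprime_dvd_left (orderOf_map_dvd π g) hgo
    exact Cfsg.Agent.Lib.helper17.mem_of_mem_sup_of_coprime Kb Ab hAbp h1 h2
  · -- (3)
    have hAU : A ≤ Subgroup.normalizer (U : Set M) := hAL.trans (le_normalizer_resOf p L)
    have hNU : ⁅U, A⁆ ≤ U := Cfsg.Agent.Lib.Lead.commutator_le_left_of_le_normalizer U A hAU
    have hAN : A ≤ Subgroup.normalizer ((⁅U, A⁆ : Subgroup M) : Set M) :=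
      Cfsg.Agent.Lib.Lead.right_le_normalizer_commutator U A hAU
    have hxU : x ∈ U := mem_resOf_of_coprime hxLL hxo
    have hLAN : L ≤ A ⊔ ⁅U, A⁆ := by
      apply sup_le le_sup_left
      intro y hy
      obtain ⟨a, ha, rfl⟩ := (mem_conjMap_iff x A y).mp hy
      have e : x * a * x⁻¹ = a * ⁅a⁻¹, x⁆ := by
        rw [commutatorElement_def]; group
      rw [e]
      apply Subgroup.mul_mem_sup ha
      rw [Subgroup.commutator_comm]
      exact Subgroup.commutator_mem_commutator (A.inv_mem ha) hxU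
    apply le_antisymm hNU
    apply resOf_le_of
    intro g hg hgo
    exact mem_of_mem_sup_of_coprime' A _ hAN hA (hLAN hg) hgo
  · -- (4)
    have hBbp : IsPGroup p Bb := hAbp.to_le inf_le_left
    have hcomap : IsPGroup p (Bb.comap π) := by
      apply hBbp.comap_of_ker_isPGroup
      rw [hπ, QuotientGroup.ker_mk']
      exact hR
    have hN1 : L ⊓ Bb.comap π ≤ Q := by
      apply le_coreOf inf_le_left
      · intro l hl
        have key : ∀ l' ∈ L, ∀ h ∈ L ⊓ Bb.comap π, l' * h * l'⁻¹ ∈ L ⊓ Bb.comap π := by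
          intro l' hl' h hh
          refine ⟨L.mul_mem (L.mul_mem hl' hh.1) (L.inv_mem hl'), ?_⟩
          show l' * h * l'⁻¹ ∈ Bb.comap π
          rw [Subgroup.mem_comap]
          have hb : π h ∈ Bb := hh.2
          have hc := hZ (π h) hb (π l') (hπL l' hl')
          have e : π (l' * h * l'⁻¹) = π h := by
            simp only [map_mul, map_inv]
            rw [← hc]; group
          rw [e]; exact hb
        rw [Subgroup.mem_normalizer_iff]
        intro h
        constructor
        · exact key l hl h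
        · intro hh
          have := key l⁻¹ (L.inv_mem hl) _ hh
          have e : l⁻¹ * (l * h * l⁻¹) * l⁻¹⁻¹ = h := by group
          rwa [e] at this
      · exact hcomap.to_le inf_le_right
    have heq : A ⊓ Q = A ⊓ Bb.comap π := by
      apply le_antisymm
      · intro a ha
        exact ⟨ha.1, hsub a ha.1 ha.2⟩
      · intro a ha
        exact ⟨ha.1, hN1 ⟨hAL ha.1, ha.2⟩⟩
    rw [heq, Subgroup.inf_relIndex_left, Subgroup.relIndex_comap]
    exact hxidx
  · -- (5)
    rw [Subgroup.commutator_le]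
    intro a ha l hl
    have hb : π a ∈ Bb := hsub a ha.1 ha.2
    have hc := hZ (π a) hb (π l) (hπL l hl)
    rw [← QuotientGroup.eq_one_iff]
    show π ⁅a, l⁆ = 1
    rw [map_commutatorElement, commutatorElement_def, hc]; group

end Cfsg.Agent.Lib.Helper20.PSolvLift
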