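import Mathlib
import Cfsg.Agent.Lib.Helper20.Derangement

/-!
# Equality of permutation characters via an invertible intertwining incidence matrix

* `det_ne_zero_of_mul_transpose`: `A Aᵀ = a I + c J` with `a > 0`, `c ≥ 0` ⇒ `det A ≠ 0`.
* `trace_eq_of_intertwine`: `P A = A Q`, `det A ≠ 0` ⇒ `tr P = tr Q`.
* `pm X g`: the permutation matrix of `g`, with trace the number of fixed points.
* `card_fixedBy_eq_of_incidence`: `G` 2-transitive on `X`, `|X| = |Y|`, and a `G`-invariant 0/1
  incidence relation between `X` and `Y` separating some pair of points ⇒ every `g` has the same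
  number of fixed points on `X` and on `Y`.
-/

set_option autoImplicit false

namespace Cfsg.Agent.Lib.Helper20

open Matrix MulAction

section linalg

variable {X : Type*} [Fintype X] [DecidableEq X]

theorem det_ne_zero_of_mul_transpose (A : Matrix X X ℚ) (a c : ℚ) (ha : 0 < a) (hc : 0 ≤ c)
    (h : ∀ i j, (A * Aᵀ) i j = if i = j then a + c else c) : A.det ≠ 0 := by
  intro hdet
  have hM : (A * Aᵀ).det = 0 := by rw [det_mul, hdet, zero_mul]
  obtain ⟨v, hv, hMv⟩ := exists_mulVec_eq_zero_iff.mpr hM
  have hrow : ∀ i, a * v i + c * ∑ j, v j = 0 := by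
    intro i
    have h1 := congrFun hMv i
    simp only [mulVec, dotProduct, Pi.zero_apply] at h1
    rw [← h1]
    have : ∀ j, (A * Aᵀ) i j * v j = (if i = j then a * v j else 0) + c * v j := by
      intro j
      rw [h i j]
      split_ifs <;> ring
    rw [Finset.sum_congr rfl (fun j _ => this j), Finset.sum_add_distrib, Finset.sum_ite_eq,
      if_pos (Finset.mem_univ i), Finset.mul_sum]
  have hsum : (a + c * Fintype.card X) * ∑ j, v j = 0 := by
    have := Finset.sum_congr rfl (fun i (_ : i ∈ Finset.univ) => hrow i)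
    rw [Finset.sum_add_distrib, ← Finset.mul_sum, Finset.sum_const, Finset.card_univ,
      Finset.sum_const_zero, nsmul_eq_mul] at this
    linarith
  have hpos : 0 < a + c * Fintype.card X := by positivity
  have hS : ∑ j, v j = 0 := by
    rcases mul_eq_zero.mp hsum with h | h
    · exact absurd h hpos.ne'
    · exact h
  apply hv
  ext i
  have := hrow i
  rw [hS, mul_zero, add_zero] at this
  rcases mul_eq_zero.mp this with h | h
  · exact absurd h ha.ne'
  · exact h

theorem trace_eq_of_intertwine (P Q A : Matrix X X ℚ) (hA : A.det ≠ 0) (h : P * A = A * Q) :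
    P.trace = Q.trace := by
  have hu : IsUnit A.det := isUnit_iff_ne_zero.mpr hA
  calc P.trace = (P * (A * A⁻¹)).trace := by rw [mul_nonsing_inv A hu, Matrix.mul_one]
    _ = ((A * Q) * A⁻¹).trace := by rw [← Matrix.mul_assoc, h]
    _ = (A⁻¹ * (A * Q)).trace := trace_mul_comm _ _
    _ = Q.trace := by rw [← Matrix.mul_assoc, nonsing_inv_mul A hu, Matrix.one_mul]

end linalg

section perm

variable {G : Type*} [Group G]

/-- the permutation matrix of `g` acting on `X` -/
def pm (X : Type*) [DecidableEq X] [MulAction G X] (g : G) : Matrix X X ℚ :=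
  fun a b => if g • b = a then 1 else 0

theorem trace_pm {X : Type*} [Fintype X] [DecidableEq X] [MulAction G X] (g : G) :
    (pm X g).trace = (Nat.card (fixedBy X g) : ℚ) := by
  change ∑ a, (pm X g) a a = _
  simp only [pm]
  rw [Finset.sum_boole, Nat.card_eq_fintype_card, Fintype.card_subtype]
  rfl

variable {X Y : Type*} [Fintype X] [DecidableEq X] [Fintype Y] [DecidableEq Y]
  [MulAction G X] [MulAction G Y]

theorem pm_mul_eq (A : Matrix X Y ℚ) (hA : ∀ (g : G) (a : X) (y : Y), A (g • a) (g • y) = A a y)
    (g : G) : pm X g * A = A * pm Y g := by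
  ext a y
  simp only [Matrix.mul_apply, pm]
  have h1 : ∑ b, (if g • b = a then (1 : ℚ) else 0) * A b y = A (g⁻¹ • a) y := by
    rw [Finset.sum_eq_single (g⁻¹ • a)]
    · simp
    · intro b _ hb
      rw [if_neg, zero_mul]
      intro h
      apply hb
      rw [← h, inv_smul_smul]
    · intro h; exact absurd (Finset.mem_univ _) h
  have h2 : ∑ z, A a z * (if g • y = z then (1 : ℚ) else 0) = A a (g • y) := by
    rw [Finset.sum_eq_single (g • y)]
    · simp
    · intro z _ hz
      rw [if_neg (Ne.symm hz), mul_zero]
    · intro h; exact absurd (Finset.mem_univ _) h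
  rw [h1, h2]
  have := hA g (g⁻¹ • a) y
  rw [smul_inv_smul] at this
  exact this.symm

/-- equality of fixed point numbers from an invariant incidence matrix -/
theorem card_fixedBy_eq_of_incidence (hcard : Fintype.card X = Fintype.card Y)
    (A : Matrix X Y ℚ) (hA : ∀ (g : G) (a : X) (y : Y), A (g • a) (g • y) = A a y)
    (a c : ℚ) (ha : 0 < a) (hc : 0 ≤ c)
    (hAA : ∀ i j, (A * Aᵀ) i j = if i = j then a + c else c) (g : G) :
    Nat.card (fixedBy X g) = Nat.card (fixedBy Y g) := by
  let e : Y ≃ X := (Fintype.equivOfCardEq hcard).symm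
  set A₁ : Matrix X X ℚ := A.submatrix id e.symm with hA₁
  set Q : Matrix X X ℚ := (pm Y g).submatrix e.symm e.symm with hQ
  have h1 : A₁ * A₁ᵀ = A * Aᵀ := by
    rw [hA₁, transpose_submatrix, submatrix_mul_equiv]
    rfl
  have hdet : A₁.det ≠ 0 := by
    apply det_ne_zero_of_mul_transpose A₁ a c ha hc
    intro i j
    rw [h1]; exact hAA i j
  have h2 : pm X g * A₁ = A₁ * Q := by
    rw [hA₁, hQ, submatrix_mul_equiv, ← pm_mul_eq A hA g]
    ext i j
    simp only [Matrix.mul_apply, Matrix.submatrix_apply, id_eq]
  have h3 := trace_eq_of_intertwine (pm X g) Q A₁ hdet h2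
  have h4 : Q.trace = (pm Y g).trace := by
    change ∑ x, Q x x = ∑ y, (pm Y g) y y
    simp only [hQ, Matrix.submatrix_apply]
    exact Equiv.sum_comp e.symm (fun y => pm Y g y y)
  rw [h4, trace_pm, trace_pm] at h3
  exact_mod_cast h3

end perm

section counting

variable {G : Type*} [Group G] {X : Type*} [MulAction G X]

theorem card_fixedBy_conj (a g : G) :
    Nat.card (fixedBy X (a * g * a⁻¹)) = Nat.card (fixedBy X g) := by
  apply Nat.card_congr
  refine ⟨fun x => ⟨a⁻¹ • (x : X), ?_⟩, fun x => ⟨a • (x : X), ?_⟩, ?_, ?_⟩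
  · have hx : (a * g * a⁻¹) • (x : X) = x := x.2
    rw [mem_fixedBy]
    calc g • a⁻¹ • (x : X) = a⁻¹ • ((a * g * a⁻¹) • (x : X)) := by
          simp only [smul_smul]; congr 1; group
      _ = a⁻¹ • (x : X) := by rw [hx]
  · have hx : g • (x : X) = x := x.2
    rw [mem_fixedBy]
    calc (a * g * a⁻¹) • a • (x : X) = a • g • (x : X) := by
          simp only [smul_smul]; congr 1; group
      _ = a • (x : X) := by rw [hx]
  · intro x; apply Subtype.ext; simp
  · intro x; apply Subtype.ext; simp

/-- `∑_g fix_X(g) fix_{G/H}(g) = (number of H-orbits on X) |G|` -/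
theorem sum_fixedBy_mul_quotient [Fintype G] [Finite X] (H : Subgroup G) :
    ∑ g : G, Nat.card (fixedBy X g) * Nat.card (fixedBy (G ⧸ H) g) =
      Nat.card (orbitRel.Quotient H X) * Nat.card G := by
  classical
  have : Fintype (G ⧸ H) := Fintype.ofFinite _
  -- S y
  let S : G ⧸ H → ℕ := fun y => ∑ g : G, if g • y = y then Nat.card (fixedBy X g) else 0
  have h1 : ∑ g : G, Nat.card (fixedBy X g) * Nat.card (fixedBy (G ⧸ H) g) = ∑ y, S y := by
    have : ∀ g : G, Nat.card (fixedBy X g) * Nat.card (fixedBy (G ⧸ H) g) =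
        ∑ y : G ⧸ H, if g • y = y then Nat.card (fixedBy X g) else 0 := by
      intro g
      rw [Finset.sum_ite, Finset.sum_const_zero, add_zero, Finset.sum_const, smul_eq_mul,
        mul_comm]
      congr 1
      rw [Nat.card_eq_fintype_card, Fintype.card_subtype]
      rfl
    rw [Finset.sum_congr rfl (fun g _ => this g), Finset.sum_comm]
  have hS : ∀ (a : G) (y : G ⧸ H), S (a • y) = S y := by
    intro a y
    simp only [S]
    rw [← Equiv.sum_comp (MulAut.conj a).toEquiv]
    apply Finset.sum_congr rfl
    intro g _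
    have e1 : (MulAut.conj a).toEquiv g = a * g * a⁻¹ := by simp
    rw [e1, card_fixedBy_conj]
    have e2 : (a * g * a⁻¹) • a • y = a • y ↔ g • y = y := by
      rw [smul_smul]
      have : a * g * a⁻¹ * a = a * g := by group
      rw [this, mul_smul]
      exact ⟨fun h => (MulAction.injective a) h, fun h => by rw [h]⟩
    simp only [e2]
  have hS1 : S (QuotientGroup.mk 1) = Nat.card (orbitRel.Quotient H X) * Nat.card H := by
    rw [← burnside_sub (Ω := X) H, Finset.sum_filter]
    apply Finset.sum_congr rfl
    intro g _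
    have : g • (QuotientGroup.mk 1 : G ⧸ H) = QuotientGroup.mk 1 ↔ g ∈ H := by
      change (QuotientGroup.mk (g * 1) : G ⧸ H) = QuotientGroup.mk 1 ↔ g ∈ H
      rw [QuotientGroup.eq]
      simp
    simp only [this]
  have hSall : ∀ y : G ⧸ H, S y = S (QuotientGroup.mk 1) := by
    intro y
    obtain ⟨a, rfl⟩ := QuotientGroup.mk_surjective y
    have : (QuotientGroup.mk a : G ⧸ H) = a • (QuotientGroup.mk 1 : G ⧸ H) := by
      change _ = (QuotientGroup.mk (a * 1) : G ⧸ H)
      rw [mul_one]
    rw [this, hS]
  rw [h1, Finset.sum_congr rfl (fun y _ => hSall y), Finset.sum_const, Finset.card_univ, hS1,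
    smul_eq_mul, ← Nat.card_eq_fintype_card (α := G ⧸ H), ← H.card_mul_index]
  change H.index * _ = _
  ring

/-- a 2-transitive group has exactly two orbits on ordered pairs -/
theorem card_orbits_prod_eq_two [IsMultiplyPretransitive G X 2] (hX : ∃ a b : X, a ≠ b) :
    Nat.card (orbitRel.Quotient G (X × X)) = 2 := by
  classical
  have htr : IsPretransitive G X := isPretransitive_of_is_two_pretransitive
  have h2 : ∀ {a b c d : X}, a ≠ b → c ≠ d → ∃ g : G, g • a = c ∧ g • b = d :=
    fun hab hcd => (is_two_pretransitive_iff (G := G) (α := X)).mp inferInstance hab hcd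
  let f : orbitRel.Quotient G (X × X) → Bool := Quotient.lift (fun p : X × X => decide (p.1 = p.2))
    (by
      rintro ⟨a, b⟩ ⟨c, d⟩ ⟨g, hg⟩
      have h1 : g • c = a := congrArg Prod.fst hg
      have h2 : g • d = b := congrArg Prod.snd hg
      simp only [decide_eq_decide]
      constructor
      · intro h
        apply MulAction.injective g
        change g • c = g • d
        rw [h1, h2, h]
      · intro h
        rw [← h1, ← h2, h])
  have hf : Function.Bijective f := by
    constructor
    · intro q₁ q₂
      induction q₁ using Quotient.inductionOn' with | _ p₁ => ?_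
      induction q₂ using Quotient.inductionOn' with | _ p₂ => ?_
      obtain ⟨a, b⟩ := p₁
      obtain ⟨c, d⟩ := p₂
      intro h
      have h' : decide (a = b) = decide (c = d) := h
      rw [decide_eq_decide] at h'
      apply Quotient.sound'
      by_cases hab : a = b
      · have hcd : c = d := h'.mp hab
        obtain ⟨g, hg⟩ := htr.exists_smul_eq c a
        exact ⟨g, by rw [← hab, ← hcd]; exact Prod.ext hg hg⟩
      · have hcd : c ≠ d := fun h => hab (h'.mpr h)
        obtain ⟨g, hg1, hg2⟩ := h2 hcd hab
        exact ⟨g, Prod.ext hg1 hg2⟩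
    · intro b
      obtain ⟨x, y, hxy⟩ := hX
      cases b
      · exact ⟨Quotient.mk'' (x, y), by
          change decide (x = y) = false
          simp [hxy]⟩
      · exact ⟨Quotient.mk'' (x, x), by
          change decide (x = x) = true
          simp⟩
  rw [Nat.card_congr (Equiv.ofBijective f hf)]
  simp

end counting

end Cfsg.Agent.Lib.Helper20
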