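import Mathlib
import Cfsg.Agent.Lib.helper17.PAct

/-!
# Prime graph: three primes along a normal series are not pairwise non-adjacent

* `exists_orderOf_mul`: a nontrivial `p`-element commuting with an element of prime order `s ≠ p`
  gives an element of order `p * s`.
* `coreA`: a normal abelian `p`-subgroup `A ≠ 1`, a `q`-subgroup `Q ≠ 1` and an element `x` of
  order `r` normalizing `Q` (`p, q, r` distinct primes) force an element of order `pq`, `pr`, `qr`.
* `coreA'`: the same with `A` any normal `p`-subgroup.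
* `three_primes`: `K ≤ M` normal, `p ∣ |K|`, `q ∣ |M : K|`, `r ∣ |G : M|`.
-/

set_option autoImplicit false

namespace Cfsg.Agent.Lib.Helper20

open scoped IsMulCommutative

section basic

variable {G : Type*} [Group G]

theorem exists_orderOf_mul {p s : ℕ} (hp : p.Prime) (hs : s.Prime) (hps : p ≠ s) (a y : G)
    (ha : a ≠ 1) (hap : ∃ k, a ^ p ^ k = 1) (hy : orderOf y = s) (hc : Commute a y) :
    ∃ z : G, orderOf z = p * s := by
  obtain ⟨k, hk⟩ := hap
  obtain ⟨m, -, hord⟩ := (Nat.dvd_prime_pow hp).mp (orderOf_dvd_of_pow_eq_one hk)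
  have hm0 : m ≠ 0 := by
    rintro rfl
    rw [pow_zero, orderOf_eq_one_iff] at hord
    exact ha hord
  have h1 : orderOf (a ^ p ^ (m - 1)) = p := by
    rw [orderOf_pow_of_dvd (pow_ne_zero _ hp.ne_zero)
      (by rw [hord]; exact pow_dvd_pow p (Nat.sub_le m 1)), hord]
    have : p ^ m = p ^ (m - 1) * p := by
      rw [← pow_succ]; congr 1; omega
    rw [this, Nat.mul_div_cancel_left _ (pow_pos hp.pos _)]
  refine ⟨a ^ p ^ (m - 1) * y, ?_⟩
  rw [(hc.pow_left _).orderOf_mul_eq_mul_orderOf_of_coprime, h1, hy]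
  rw [h1, hy]
  exact (Nat.coprime_primes hp hs).mpr hps

/-- `(u x)^n (x^n)⁻¹ ∈ Q` when `u ∈ Q` and `x` normalizes `Q`. -/
theorem mul_pow_mul_inv_mem (Q : Subgroup G) {x u : G} (hx : x ∈ Subgroup.normalizer (Q : Set G))
    (hu : u ∈ Q) (n : ℕ) : (u * x) ^ n * (x ^ n)⁻¹ ∈ Q := by
  induction n with
  | zero => simp
  | succ n ih =>
    have hxn : x ^ n ∈ Subgroup.normalizer (Q : Set G) := Subgroup.pow_mem _ hx n
    have h1 : x ^ n * u * (x ^ n)⁻¹ ∈ Q := (Subgroup.mem_normalizer_iff.mp hxn u).mp hu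
    have e : (u * x) ^ (n + 1) * (x ^ (n + 1))⁻¹ =
        ((u * x) ^ n * (x ^ n)⁻¹) * (x ^ n * u * (x ^ n)⁻¹) := by
      rw [pow_succ, pow_succ]; group
    rw [e]
    exact Q.mul_mem ih h1

/-- elements of the coset `Q x` have order `r`, if there is no element of order `q r`. -/
theorem orderOf_mul_eq {q r : ℕ} [Fact q.Prime] (hr : r.Prime) (hqr : q ≠ r)
    (Q : Subgroup G) (hQ : IsPGroup q Q) {x u : G}
    (hx : x ∈ Subgroup.normalizer (Q : Set G)) (hxr : orderOf x = r) (hu : u ∈ Q)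
    (hno : ¬ ∃ z : G, orderOf z = q * r) : orderOf (u * x) = r := by
  have hq : q.Prime := Fact.out
  set y := u * x with hy
  -- y ^ r ∈ Q
  have h1 : y ^ r ∈ Q := by
    have := mul_pow_mul_inv_mem Q hx hu r
    rwa [← hxr, pow_orderOf_eq_one, inv_one, mul_one, hxr] at this
  obtain ⟨k, hk⟩ := hQ ⟨y ^ r, h1⟩
  have hk' : y ^ (r * q ^ k) = 1 := by
    have := congrArg Subtype.val hk
    rw [pow_mul]
    simpa using this
  have hn1 : orderOf y ∣ r * q ^ k := orderOf_dvd_of_pow_eq_one hk'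
  -- r ∣ orderOf y
  have hrn : r ∣ orderOf y := by
    have h2 := mul_pow_mul_inv_mem Q hx hu (orderOf y)
    rw [pow_orderOf_eq_one, one_mul] at h2
    have h3 : x ^ orderOf y ∈ Q := by simpa using Q.inv_mem h2
    obtain ⟨j, hj⟩ := hQ ⟨x ^ orderOf y, h3⟩
    have hj' : (x ^ orderOf y) ^ q ^ j = 1 := by
      have := congrArg Subtype.val hj
      simpa using this
    have h4 : orderOf (x ^ orderOf y) ∣ q ^ j := orderOf_dvd_of_pow_eq_one hj'
    have h5 : orderOf (x ^ orderOf y) ∣ r := by rw [← hxr]; exact orderOf_pow_dvd _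
    have h6 : orderOf (x ^ orderOf y) = 1 := by
      have hcop : (q ^ j).Coprime r := Nat.Coprime.pow_left _ ((Nat.coprime_primes hq hr).mpr hqr)
      exact Nat.eq_one_of_dvd_coprimes hcop h4 h5
    rw [orderOf_eq_one_iff] at h6
    rw [← hxr]
    exact orderOf_dvd_of_pow_eq_one h6
  -- q ∤ orderOf y
  have hqn : ¬ q ∣ orderOf y := by
    intro hqd
    apply hno
    have hcop : q.Coprime r := (Nat.coprime_primes hq hr).mpr hqr
    have hd : q * r ∣ orderOf y := hcop.mul_dvd_of_dvd_of_dvd hqd hrn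
    obtain ⟨c, hc⟩ := hd
    have hpos : 0 < orderOf y :=
      Nat.pos_of_dvd_of_pos hn1 (Nat.mul_pos hr.pos (pow_pos hq.pos _))
    have hc0 : c ≠ 0 := by
      rintro rfl; rw [mul_zero] at hc; omega
    refine ⟨y ^ c, ?_⟩
    rw [orderOf_pow_of_dvd hc0 ⟨q * r, by rw [hc]; ring⟩, hc,
      Nat.mul_div_cancel _ (Nat.pos_of_ne_zero hc0)]
  have hcop : (orderOf y).Coprime (q ^ k) :=
    Nat.Coprime.pow_right _ ((Nat.Prime.coprime_iff_not_dvd hq).mpr hqn).symm
  have hn2 : orderOf y ∣ r := hcop.dvd_of_dvd_mul_right hn1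
  exact Nat.dvd_antisymm hn2 hrn

end basic

section core

variable {G : Type*} [Group G] [Finite G]

/-- core argument: abelian normal `p`-subgroup -/
theorem coreA {p q r : ℕ} [Fact p.Prime] [Fact q.Prime] [Fact r.Prime]
    (hpq : p ≠ q) (hpr : p ≠ r) (hqr : q ≠ r)
    (A : Subgroup G) [A.Normal] [IsMulCommutative A] (hA : IsPGroup p A) (hA1 : A ≠ ⊥)
    (Q : Subgroup G) (hQ : IsPGroup q Q) (hQ1 : Q ≠ ⊥)
    (x : G) (hx : x ∈ Subgroup.normalizer (Q : Set G)) (hxr : orderOf x = r)
    (h1 : ¬ ∃ z : G, orderOf z = p * q) (h2 : ¬ ∃ z : G, orderOf z = p * r)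
    (h3 : ¬ ∃ z : G, orderOf z = q * r) : False := by
  classical
  have hp : p.Prime := Fact.out
  have hq : q.Prime := Fact.out
  have hr : r.Prime := Fact.out
  have : Fintype Q := Fintype.ofFinite Q
  -- elements of A commuting with elements of order q or r are trivial
  have hfix : ∀ (s : ℕ), s.Prime → p ≠ s → (¬ ∃ z : G, orderOf z = p * s) → ∀ (y : G),
      orderOf y = s → ∀ a : A, MulAut.conjNormal y a = a → a = 1 := by
    intro s hs hps hno y hy a hfix
    by_contra ha
    apply hno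
    have hc : Commute (a : G) y := by
      have := congrArg Subtype.val hfix
      rw [MulAut.conjNormal_apply] at this
      have h' : y * (a : G) = (a : G) * y := by
        calc y * (a : G) = (y * (a : G) * y⁻¹) * y := by group
          _ = (a : G) * y := by rw [this]
      exact h'.symm
    obtain ⟨k, hk⟩ := hA a
    refine exists_orderOf_mul hp hs hps (a : G) y (fun h => ha (Subtype.ext h)) ⟨k, ?_⟩ hy hc
    have := congrArg Subtype.val hk
    simpa using this
  -- the norm over Q vanishes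
  have hTQ : ∀ w : A, ∏ u : Q, MulAut.conjNormal (u : G) w = 1 := by
    intro w
    have hq' : q ∣ Nat.card Q := by
      obtain ⟨k, hk⟩ := IsPGroup.iff_card.mp hQ
      rcases k with _ | k
      · exact absurd (Subgroup.card_eq_one.mp (by simpa using hk)) hQ1
      · rw [hk, pow_succ]; exact dvd_mul_left _ _
    obtain ⟨v, hv⟩ := exists_prime_orderOf_dvd_card' q hq'
    apply hfix q hq hpq h1 (v : G) (by rw [Subgroup.orderOf_coe]; exact hv)
    rw [map_prod]
    have e : ∀ u : Q, MulAut.conjNormal (v : G) (MulAut.conjNormal (u : G) w) =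
        MulAut.conjNormal ((v * u : Q) : G) w := by
      intro u
      rw [Subgroup.coe_mul, map_mul]; rfl
    simp_rw [e]
    exact Fintype.prod_equiv (Equiv.mulLeft v) _ _ (fun u => rfl)
  -- the norm over ⟨y⟩ vanishes for y of order r
  have hCy : ∀ (y : G), orderOf y = r → ∀ w : A,
      ∏ i ∈ Finset.range r, MulAut.conjNormal (y ^ i) w = 1 := by
    intro y hy w
    apply hfix r hr hpr h2 y hy
    rw [map_prod]
    have e : ∀ i : ℕ, MulAut.conjNormal y (MulAut.conjNormal (y ^ i) w) =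
        MulAut.conjNormal (y ^ (i + 1)) w := by
      intro i
      rw [pow_succ', map_mul]; rfl
    simp_rw [e]
    have h4 := Finset.prod_range_succ' (fun i => MulAut.conjNormal (y ^ i) w) r
    have h5 := Finset.prod_range_succ (fun i => MulAut.conjNormal (y ^ i) w) r
    rw [h5] at h4
    have h6 : y ^ r = y ^ 0 := by rw [← hy, pow_orderOf_eq_one, pow_zero]
    simp only [h6] at h4
    exact (mul_right_cancel h4).symm
  -- every w ∈ A is trivial
  apply hA1
  rw [eq_bot_iff]
  intro w0 hw0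
  rw [Subgroup.mem_bot]
  set w : A := ⟨w0, hw0⟩ with hw
  have hmain : ∏ u : Q, ∏ i ∈ Finset.range r, MulAut.conjNormal (((u : G) * x) ^ i) w = 1 := by
    apply Finset.prod_eq_one
    intro u _
    exact hCy _ (orderOf_mul_eq hr hqr Q hQ hx hxr u.2 h3) w
  rw [Finset.prod_comm] at hmain
  rw [Finset.prod_eq_single 0] at hmain
  · -- w ^ |Q| = 1
    simp only [pow_zero, map_one, MulAut.one_apply, Finset.prod_const, Finset.card_univ] at hmain
    obtain ⟨k, hk⟩ := hA w
    obtain ⟨j, hj⟩ := IsPGroup.iff_card.mp hQ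
    rw [← Nat.card_eq_fintype_card, hj] at hmain
    have hd1 : orderOf w ∣ q ^ j := orderOf_dvd_of_pow_eq_one hmain
    have hd2 : orderOf w ∣ p ^ k := orderOf_dvd_of_pow_eq_one hk
    have hcop : (q ^ j).Coprime (p ^ k) :=
      Nat.Coprime.pow _ _ ((Nat.coprime_primes hq hp).mpr hpq.symm)
    have h1' : orderOf w = 1 := Nat.eq_one_of_dvd_coprimes hcop hd1 hd2
    rw [orderOf_eq_one_iff] at h1'
    have := congrArg Subtype.val h1'
    simpa [hw] using this
  · -- the other cosets
    intro i hi hi0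
    rw [Finset.mem_range] at hi
    -- f : Q → Q, u ↦ (u x)^i (x^i)⁻¹
    let f : Q → Q := fun u => ⟨((u : G) * x) ^ i * (x ^ i)⁻¹, mul_pow_mul_inv_mem Q hx u.2 i⟩
    have hfinj : Function.Injective f := by
      intro u u' huu
      have e1 : ((u : G) * x) ^ i = ((u' : G) * x) ^ i := by
        have := congrArg Subtype.val huu
        exact mul_right_cancel this
      -- raise to the inverse power
      have hcop : i.Coprime r := by
        apply Nat.Coprime.symm
        rw [Nat.Prime.coprime_iff_not_dvd hr]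
        intro hd
        have := Nat.le_of_dvd (Nat.pos_of_ne_zero hi0) hd
        omega
      have ho : orderOf ((u : G) * x) = r := orderOf_mul_eq hr hqr Q hQ hx hxr u.2 h3
      have ho' : orderOf ((u' : G) * x) = r := orderOf_mul_eq hr hqr Q hQ hx hxr u'.2 h3
      obtain ⟨m, -, hm⟩ := Nat.exists_mul_mod_eq_one_of_coprime hcop hr.one_lt
      have e2 : ∀ z : G, orderOf z = r → (z ^ i) ^ m = z := by
        intro z hz
        rw [← pow_mul, ← pow_mod_orderOf, hz, hm, pow_one]
      have e3 : (u : G) * x = (u' : G) * x := by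
        rw [← e2 _ ho, ← e2 _ ho', e1]
      exact Subtype.ext (mul_right_cancel e3)
    have hfbij : Function.Bijective f := Finite.injective_iff_bijective.mp hfinj
    have e4 : ∀ u : Q, MulAut.conjNormal (((u : G) * x) ^ i) w =
        MulAut.conjNormal ((f u : Q) : G) (MulAut.conjNormal (x ^ i) w) := by
      intro u
      have : ((u : G) * x) ^ i = ((f u : Q) : G) * x ^ i := by
        change _ = ((u : G) * x) ^ i * (x ^ i)⁻¹ * x ^ i
        group
      rw [this, map_mul]; rfl
    simp_rw [e4]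
    rw [hfbij.prod_comp (fun u' : Q => MulAut.conjNormal (u' : G) (MulAut.conjNormal (x ^ i) w))]
    exact hTQ _
  · intro h0
    exact absurd (Finset.mem_range.mpr hr.pos) h0

/-- the same for an arbitrary normal `p`-subgroup -/
theorem coreA' {p q r : ℕ} [Fact p.Prime] [Fact q.Prime] [Fact r.Prime]
    (hpq : p ≠ q) (hpr : p ≠ r) (hqr : q ≠ r)
    (A : Subgroup G) [A.Normal] (hA : IsPGroup p A) (hA1 : A ≠ ⊥)
    (Q : Subgroup G) (hQ : IsPGroup q Q) (hQ1 : Q ≠ ⊥)
    (x : G) (hx : x ∈ Subgroup.normalizer (Q : Set G)) (hxr : orderOf x = r) :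
    (∃ z : G, orderOf z = p * q) ∨ (∃ z : G, orderOf z = p * r) ∨
      (∃ z : G, orderOf z = q * r) := by
  by_contra hcon
  rw [not_or, not_or] at hcon
  obtain ⟨h1, h2, h3⟩ := hcon
  have hZ1 : A ⊓ Subgroup.centralizer (A : Set G) ≠ ⊥ :=
    Cfsg.Agent.Lib.helper17.inf_centralizer_ne_bot_of_pgroups hA hA hA1 Subgroup.le_normalizer
  have : (Subgroup.centralizer (A : Set G)).Normal := Subgroup.normal_centralizer
  have hZn : (A ⊓ Subgroup.centralizer (A : Set G)).Normal := inferInstance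
  have hZc : IsMulCommutative ↥(A ⊓ Subgroup.centralizer (A : Set G)) :=
    ⟨⟨fun a b => Subtype.ext (Subgroup.mem_centralizer_iff.mp b.2.2 a a.2.1)⟩⟩
  exact coreA hpq hpr hqr (A ⊓ Subgroup.centralizer (A : Set G)) (hA.to_le inf_le_left) hZ1
    Q hQ hQ1 x hx hxr h1 h2 h3

/-- Frattini: a nontrivial `q`-subgroup of `M` normalized by an element of order `r`. -/
theorem exists_q_sub_normalized {q r : ℕ} [Fact q.Prime] [Fact r.Prime] (M : Subgroup G)
    [M.Normal] (hq : q ∣ Nat.card M) (hr : r ∣ M.index) :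
    ∃ Q : Subgroup G, IsPGroup q Q ∧ Q ≠ ⊥ ∧
      ∃ x ∈ Subgroup.normalizer (Q : Set G), orderOf x = r := by
  obtain ⟨Q₀⟩ : Nonempty (Sylow q M) := inferInstance
  have hQ0 : (Q₀ : Subgroup M) ≠ ⊥ := Q₀.ne_bot_of_dvd_card hq
  have hfr : Subgroup.normalizer (((Q₀ : Subgroup M).map M.subtype : Subgroup G) : Set G) ⊔ M = ⊤ :=
    Sylow.normalizer_sup_eq_top Q₀
  set Q := (Q₀ : Subgroup M).map M.subtype with hQdef
  have h1 : M.relIndex (Subgroup.normalizer (Q : Set G)) = M.index := by
    rw [← Subgroup.relIndex_sup_right, hfr, Subgroup.relIndex_top_right]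
  have h2 : r ∣ Nat.card (Subgroup.normalizer (Q : Set G)) := by
    rw [← h1] at hr
    exact hr.trans (Subgroup.relIndex_dvd_card _ _)
  obtain ⟨x, hx⟩ := exists_prime_orderOf_dvd_card' r h2
  refine ⟨Q, Q₀.isPGroup'.map _, ?_, x, x.2, by rw [Subgroup.orderOf_coe]; exact hx⟩
  intro h
  exact hQ0 ((Subgroup.map_eq_bot_iff_of_injective _ M.subtype_injective).mp h)

theorem relIndex_eq_card_div {K M : Subgroup G} (h : K ≤ M) :
    K.relIndex M = Nat.card M / Nat.card K := by
  have h1 := Subgroup.card_mul_index (K.subgroupOf M)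
  rw [Nat.card_congr (Subgroup.subgroupOfEquivOfLe h).toEquiv] at h1
  exact (Nat.div_eq_of_eq_mul_right Nat.card_pos h1.symm).symm

theorem index_eq_card_div (M : Subgroup G) : M.index = Nat.card G / Nat.card M :=
  (Nat.div_eq_of_eq_mul_right Nat.card_pos (Subgroup.card_mul_index M).symm).symm

/-- three primes along a normal series `1 ≤ K ≤ M ≤ G` are not pairwise non-adjacent -/
theorem three_primes {p q r : ℕ} [Fact p.Prime] [Fact q.Prime] [Fact r.Prime]
    (hpq : p ≠ q) (hpr : p ≠ r) (hqr : q ≠ r) (K M : Subgroup G) [K.Normal] [M.Normal]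
    (hKM : K ≤ M) (hpK : p ∣ Nat.card K) (hqM : q ∣ K.relIndex M) (hrG : r ∣ M.index) :
    (∃ z : G, orderOf z = p * q) ∨ (∃ z : G, orderOf z = p * r) ∨
      (∃ z : G, orderOf z = q * r) := by
  obtain ⟨P₀⟩ : Nonempty (Sylow p K) := inferInstance
  have hP0 : (P₀ : Subgroup K) ≠ ⊥ := P₀.ne_bot_of_dvd_card hpK
  have hfr : Subgroup.normalizer (((P₀ : Subgroup K).map K.subtype : Subgroup G) : Set G) ⊔ K = ⊤ :=
    Sylow.normalizer_sup_eq_top P₀
  set P := (P₀ : Subgroup K).map K.subtype with hPdef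
  set N := Subgroup.normalizer (P : Set G) with hNdef
  have hfrM : N ⊔ M = ⊤ := by
    rw [eq_top_iff, ← hfr]; exact sup_le_sup_left hKM N
  have hK1 : K.relIndex N = K.index := by
    rw [← Subgroup.relIndex_sup_right, hfr, Subgroup.relIndex_top_right]
  have hM1 : M.relIndex N = M.index := by
    rw [← Subgroup.relIndex_sup_right, hfrM, Subgroup.relIndex_top_right]
  have h3 : (K ⊓ N).relIndex (M ⊓ N) = K.relIndex M := by
    have e1 : (K ⊓ N).relIndex (M ⊓ N) * (M ⊓ N).relIndex N = (K ⊓ N).relIndex N :=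
      Subgroup.relIndex_mul_relIndex _ _ _ (inf_le_inf_right N hKM) inf_le_right
    rw [Subgroup.inf_relIndex_right, Subgroup.inf_relIndex_right, hK1, hM1] at e1
    have e2 : K.relIndex M * M.index = K.index := Subgroup.relIndex_mul_index hKM
    rw [← e2] at e1
    exact Nat.eq_of_mul_eq_mul_right (Nat.pos_of_ne_zero Subgroup.index_ne_zero_of_finite) e1
  have hq' : q ∣ Nat.card (M.subgroupOf N) := by
    have e : Nat.card (M.subgroupOf N) = Nat.card (M ⊓ N : Subgroup G) := by
      rw [← Subgroup.inf_subgroupOf_right]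
      exact Nat.card_congr (Subgroup.subgroupOfEquivOfLe inf_le_right).toEquiv
    rw [e]
    rw [← h3] at hqM
    exact hqM.trans (Subgroup.relIndex_dvd_card _ _)
  have hr' : r ∣ (M.subgroupOf N).index := by
    change r ∣ M.relIndex N
    rw [hM1]; exact hrG
  obtain ⟨Q, hQ, hQ1, x, hx, hxr⟩ := exists_q_sub_normalized (G := ↥N) (M.subgroupOf N) hq' hr'
  have hPn : (P.subgroupOf N).Normal := Subgroup.normal_in_normalizer
  have hPp : IsPGroup p (P.subgroupOf N) := (P₀.isPGroup'.map K.subtype).comap_subtype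
  have hP1 : P.subgroupOf N ≠ ⊥ := by
    intro h
    rw [Subgroup.subgroupOf_eq_bot] at h
    have hPbot : P = ⊥ := by
      rw [eq_bot_iff]
      intro z hz
      exact h.le_bot ⟨hz, Subgroup.le_normalizer hz⟩
    exact hP0 ((Subgroup.map_eq_bot_iff_of_injective _ K.subtype_injective).mp hPbot)
  rcases coreA' hpq hpr hqr (P.subgroupOf N) hPp hP1 Q hQ hQ1 x hx hxr with ⟨z, hz⟩ | ⟨z, hz⟩ | ⟨z, hz⟩
  · exact Or.inl ⟨(z : G), by rw [Subgroup.orderOf_coe]; exact hz⟩
  · exact Or.inr (Or.inl ⟨(z : G), by rw [Subgroup.orderOf_coe]; exact hz⟩)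
  · exact Or.inr (Or.inr ⟨(z : G), by rw [Subgroup.orderOf_coe]; exact hz⟩)

end core

end Cfsg.Agent.Lib.Helper20
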