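import Mathlib
import Cfsg.Agent.Lib.Helper20.PrimeGraph

/-!
# Prime graph: independent triples and solvable normal subgroups

`solvable_normal_at_most_one`: if `ρ` is a set of at least three primes dividing `|G|`, pairwise
non-adjacent in the prime graph, then at most one prime of `ρ` divides the order of a solvable
normal subgroup.
-/

set_option autoImplicit false

namespace Cfsg.Agent.Lib.Helper20

open scoped commutatorElement

section chain

variable {G : Type*} [Group G]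

/-- the chain `G ≥ K ≥ K' ≥ K'' ≥ ...` -/
def chainE (K : Subgroup G) : ℕ → Subgroup G
  | 0 => ⊤
  | 1 => K
  | (n + 2) => ⁅chainE K (n + 1), chainE K (n + 1)⁆

theorem chainE_zero (K : Subgroup G) : chainE K 0 = ⊤ := rfl
theorem chainE_one (K : Subgroup G) : chainE K 1 = K := rfl
theorem chainE_succ_succ (K : Subgroup G) (n : ℕ) :
    chainE K (n + 2) = ⁅chainE K (n + 1), chainE K (n + 1)⁆ := rfl

theorem chainE_normal (K : Subgroup G) [K.Normal] : ∀ n, (chainE K n).Normal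
  | 0 => by rw [chainE_zero]; infer_instance
  | 1 => by rw [chainE_one]; infer_instance
  | (n + 2) => by
    have := chainE_normal K (n + 1)
    rw [chainE_succ_succ]; infer_instance

theorem chainE_succ_le (K : Subgroup G) [K.Normal] : ∀ n, chainE K (n + 1) ≤ chainE K n
  | 0 => by rw [chainE_zero]; exact le_top
  | (n + 1) => by
    have := chainE_normal K (n + 1)
    rw [chainE_succ_succ]; exact Subgroup.commutator_le_left _ _

theorem chainE_antitone (K : Subgroup G) [K.Normal] : Antitone (chainE K) :=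
  antitone_nat_of_succ_le (chainE_succ_le K)

theorem chainE_eq_map_derivedSeries (K : Subgroup G) (n : ℕ) :
    chainE K (n + 1) = (derivedSeries ↥K n).map K.subtype := by
  induction n with
  | zero =>
    rw [derivedSeries_zero, chainE_one, ← MonoidHom.range_eq_map, Subgroup.range_subtype]
  | succ n ih =>
    rw [chainE_succ_succ, derivedSeries_succ, Subgroup.map_commutator, ← ih]

theorem chainE_eq_bot (K : Subgroup G) (hK : Group.IsSolvable ↥K) : ∃ n, chainE K n = ⊥ := by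
  obtain ⟨n, hn⟩ := hK.solvable
  exact ⟨n + 1, by rw [chainE_eq_map_derivedSeries, hn, Subgroup.map_bot]⟩

end chain

section main

variable {G : Type*} [Group G] [Finite G]

/-- the level of a prime in a chain -/
theorem exists_level (E : ℕ → Subgroup G) (hanti : Antitone E) (ℓ : ℕ) (hℓ : ℓ.Prime)
    (h0 : ℓ ∣ Nat.card (E 0)) (hn : ∃ n, E n = ⊥) :
    ∃ i, ℓ ∣ Nat.card (E i) ∧ ℓ ∣ (E (i + 1)).relIndex (E i) := by
  classical
  have hex : ∃ j, ¬ ℓ ∣ Nat.card (E j) := by
    obtain ⟨n, hn⟩ := hn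
    refine ⟨n, ?_⟩
    rw [hn, Subgroup.card_bot]
    exact hℓ.one_lt.ne' ∘ Nat.dvd_one.mp
  have hj := Nat.find_spec hex
  have hmin := fun m hm => Nat.find_min hex (m := m) hm
  set j := Nat.find hex with hjdef
  have hj0 : j ≠ 0 := by
    intro h
    rw [h] at hj
    exact hj h0
  obtain ⟨i, hi⟩ : ∃ i, j = i + 1 := ⟨j - 1, by omega⟩
  have h1 : ℓ ∣ Nat.card (E i) := by
    have := hmin i (by omega)
    exact not_not.mp this
  refine ⟨i, h1, ?_⟩
  rw [hi] at hj
  have hle : E (i + 1) ≤ E i := hanti (Nat.le_succ i)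
  have hcard : Nat.card (E (i + 1)) * (E (i + 1)).relIndex (E i) = Nat.card (E i) := by
    have h2 := Subgroup.card_mul_index ((E (i + 1)).subgroupOf (E i))
    rw [Nat.card_congr (Subgroup.subgroupOfEquivOfLe hle).toEquiv] at h2
    exact h2
  rw [← hcard] at h1
  rcases (Nat.Prime.dvd_mul hℓ).mp h1 with h | h
  · exact absurd h hj
  · exact h

/-- two primes dividing the order of the same abelian factor -/
theorem same_level (U V : Subgroup G) [V.Normal] (hVU : V ≤ U) (hab : ⁅U, U⁆ ≤ V) (u v : ℕ)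
    (hu : u.Prime) (hv : v.Prime) (huv : u ≠ v) (hud : u ∣ V.relIndex U) (hvd : v ∣ V.relIndex U) :
    ∃ x : G, orderOf x = u * v := by
  have : Fact u.Prime := ⟨hu⟩
  have : Fact v.Prime := ⟨hv⟩
  have hN : (V.subgroupOf U).Normal := inferInstance
  have hcard : Nat.card (↥U ⧸ V.subgroupOf U) = V.relIndex U := rfl
  obtain ⟨x, hx⟩ := exists_prime_orderOf_dvd_card' (G := ↥U ⧸ V.subgroupOf U) u (by rw [hcard]; exact hud)
  obtain ⟨y, hy⟩ := exists_prime_orderOf_dvd_card' (G := ↥U ⧸ V.subgroupOf U) v (by rw [hcard]; exact hvd)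
  have hcomm : ∀ a b : ↥U ⧸ V.subgroupOf U, a * b = b * a := by
    intro a b
    obtain ⟨a, rfl⟩ := QuotientGroup.mk_surjective a
    obtain ⟨b, rfl⟩ := QuotientGroup.mk_surjective b
    rw [← QuotientGroup.mk_mul, ← QuotientGroup.mk_mul, QuotientGroup.eq]
    rw [Subgroup.mem_subgroupOf]
    apply hab
    have e : (((a * b)⁻¹ * (b * a) : ↥U) : G) = ⁅((b : G))⁻¹, ((a : G))⁻¹⁆ := by
      rw [commutatorElement_def]
      push_cast
      group
    rw [e]
    exact Subgroup.commutator_mem_commutator (U.inv_mem b.2) (U.inv_mem a.2)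
  have hxy : orderOf (x * y) = u * v := by
    rw [Commute.orderOf_mul_eq_mul_orderOf_of_coprime (hcomm x y), hx, hy]
    rw [hx, hy]
    exact (Nat.coprime_primes hu hv).mpr huv
  obtain ⟨z, hz⟩ := QuotientGroup.mk_surjective (x * y)
  have hdvd : u * v ∣ orderOf z := by
    rw [← hxy, ← hz]
    exact orderOf_map_dvd (QuotientGroup.mk' (V.subgroupOf U)) z
  obtain ⟨c, hc⟩ := hdvd
  have hpos : 0 < orderOf z := orderOf_pos z
  have hc0 : c ≠ 0 := by
    rintro rfl; rw [mul_zero] at hc; omega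
  refine ⟨((z ^ c : ↥U) : G), ?_⟩
  rw [Subgroup.orderOf_coe, orderOf_pow_of_dvd hc0 ⟨u * v, by rw [hc]; ring⟩, hc,
    Nat.mul_div_cancel _ (Nat.pos_of_ne_zero hc0)]

/-- three primes at strictly decreasing depth of a normal chain -/
theorem chain_contra (E : ℕ → Subgroup G) (hEn : ∀ i, (E i).Normal) (hanti : Antitone E)
    (ρ : Finset ℕ) (hprime : ∀ ℓ ∈ ρ, ℓ.Prime)
    (hno : ∀ u ∈ ρ, ∀ v ∈ ρ, u ≠ v → ¬ ∃ x : G, orderOf x = u * v)
    (ℓ₁ ℓ₂ ℓ₃ : ℕ) (h₁ : ℓ₁ ∈ ρ) (h₂ : ℓ₂ ∈ ρ) (h₃ : ℓ₃ ∈ ρ)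
    (h12 : ℓ₁ ≠ ℓ₂) (h13 : ℓ₁ ≠ ℓ₃) (h23 : ℓ₂ ≠ ℓ₃)
    (a b c : ℕ) (hab : b < a) (hbc : c < b)
    (hl1 : ℓ₁ ∣ Nat.card (E a))
    (hl2 : ℓ₂ ∣ (E (b + 1)).relIndex (E b))
    (hl3 : ℓ₃ ∣ (E (c + 1)).relIndex (E c)) : False := by
  have : Fact ℓ₁.Prime := ⟨hprime _ h₁⟩
  have : Fact ℓ₂.Prime := ⟨hprime _ h₂⟩
  have : Fact ℓ₃.Prime := ⟨hprime _ h₃⟩
  have := hEn a
  have := hEn b
  have hq : ℓ₂ ∣ (E a).relIndex (E b) := by
    rw [← Subgroup.relIndex_mul_relIndex _ _ _ (hanti (by omega : b + 1 ≤ a))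
      (hanti (Nat.le_succ b))]
    exact hl2.mul_left _
  have hr : ℓ₃ ∣ (E b).index := by
    have e1 : (E (c + 1)).relIndex (E c) * (E c).index = (E (c + 1)).index :=
      Subgroup.relIndex_mul_index (hanti (Nat.le_succ c))
    have e2 : (E b).relIndex (E (c + 1)) * (E (c + 1)).index = (E b).index :=
      Subgroup.relIndex_mul_index (hanti (by omega : c + 1 ≤ b))
    rw [← e2, ← e1]
    exact (hl3.mul_right _).mul_left _
  rcases three_primes h12 h13 h23 (E a) (E b) (hanti hab.le) hl1 hq hr with h | h | h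
  · exact hno _ h₁ _ h₂ h12 h
  · exact hno _ h₁ _ h₃ h13 h
  · exact hno _ h₂ _ h₃ h23 h

theorem solvable_normal_at_most_one (ρ : Finset ℕ) (hρ : 3 ≤ ρ.card)
    (hprime : ∀ ℓ ∈ ρ, ℓ.Prime) (hdvd : ∀ ℓ ∈ ρ, ℓ ∣ Nat.card G)
    (hno : ∀ u ∈ ρ, ∀ v ∈ ρ, u ≠ v → ¬ ∃ x : G, orderOf x = u * v)
    (K : Subgroup G) [K.Normal] (hK : Group.IsSolvable ↥K) :
    ∀ r ∈ ρ, ∀ s ∈ ρ, r ∣ Nat.card ↥K → s ∣ Nat.card ↥K → r = s := by
  intro r hr s hs hrK hsK
  by_contra hrs
  -- a third prime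
  obtain ⟨t, ht, htr, hts⟩ : ∃ t ∈ ρ, t ≠ r ∧ t ≠ s := by
    by_contra hcon
    push Not at hcon
    have hsub : ρ ⊆ {r, s} := by
      intro t ht
      by_cases h : t = r
      · simp [h]
      · simp [hcon t ht h]
    have := Finset.card_le_card hsub
    have h2 : ({r, s} : Finset ℕ).card ≤ 2 := Finset.card_le_two
    omega
  set E := chainE K with hE
  have hEn : ∀ i, (E i).Normal := chainE_normal K
  have hanti : Antitone E := chainE_antitone K
  have hbot : ∃ n, E n = ⊥ := by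
    obtain ⟨n, hn⟩ := chainE_eq_bot K hK
    exact ⟨n, hn⟩
  have hE0 : ∀ ℓ ∈ ρ, ℓ ∣ Nat.card (E 0) := by
    intro ℓ hℓ
    rw [hE, chainE_zero, Subgroup.card_top]
    exact hdvd ℓ hℓ
  -- levels
  have hlevK : ∀ ℓ ∈ ρ, ℓ ∣ Nat.card K →
      ∃ i, 1 ≤ i ∧ ℓ ∣ Nat.card (E i) ∧ ℓ ∣ (E (i + 1)).relIndex (E i) := by
    intro ℓ hℓ hℓK
    obtain ⟨i, hi1, hi2⟩ := exists_level (fun i => E (i + 1))
      (fun i j hij => hanti (by omega)) ℓ (hprime ℓ hℓ) (by rw [hE]; exact hℓK)
      (by obtain ⟨n, hn⟩ := hbot; exact ⟨n, by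
            have := hanti (Nat.le_succ n)
            rw [hn] at this
            exact le_bot_iff.mp this⟩)
    exact ⟨i + 1, by omega, hi1, hi2⟩
  obtain ⟨ir, hir1, hir2, hir3⟩ := hlevK r hr hrK
  obtain ⟨is, his1, his2, his3⟩ := hlevK s hs hsK
  obtain ⟨it, hit2, hit3⟩ := exists_level E hanti t (hprime t ht) (hE0 t ht) hbot
  -- abelian factors at levels ≥ 1
  have hsame : ∀ i, 1 ≤ i → ∀ u ∈ ρ, ∀ v ∈ ρ, u ≠ v → u ∣ (E (i + 1)).relIndex (E i) →
      v ∣ (E (i + 1)).relIndex (E i) → False := by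
    intro i hi u hu v hv huv hud hvd
    have := hEn (i + 1)
    obtain ⟨j, rfl⟩ : ∃ j, i = j + 1 := ⟨i - 1, by omega⟩
    exact hno u hu v hv huv (same_level (E (j + 1)) (E (j + 1 + 1)) (hanti (Nat.le_succ _))
      (by rw [hE]; exact le_of_eq (chainE_succ_succ K j).symm) u v (hprime u hu) (hprime v hv) huv
      hud hvd)
  by_cases e1 : ir = is
  · subst e1
    exact hsame ir hir1 r hr s hs hrs hir3 his3
  by_cases e2 : it = ir
  · subst e2
    exact hsame it hir1 t ht r hr htr hit3 hir3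
  by_cases e3 : it = is
  · subst e3
    exact hsame it his1 t ht s hs hts hit3 his3
  have hrs' : s ≠ r := fun h => hrs h.symm
  have hrt : r ≠ t := fun h => htr h.symm
  have hst : s ≠ t := fun h => hts h.symm
  rcases lt_trichotomy ir is with h1 | h1 | h1
  · rcases lt_trichotomy it ir with h2 | h2 | h2
    · -- it < ir < is
      exact chain_contra E hEn hanti ρ hprime hno s r t hs hr ht hrs' hst hrt is ir it h1 h2
        his2 hir3 hit3
    · exact e2 h2
    · rcases lt_trichotomy it is with h3 | h3 | h3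
      · -- ir < it < is
        exact chain_contra E hEn hanti ρ hprime hno s t r hs ht hr hst hrs' htr is it ir h3 h2
          his2 hit3 hir3
      · exact e3 h3
      · -- ir < is < it
        exact chain_contra E hEn hanti ρ hprime hno t s r ht hs hr hts htr hrs' it is ir h3 h1
          hit2 his3 hir3
  · exact e1 h1
  · rcases lt_trichotomy it is with h2 | h2 | h2
    · -- it < is < ir
      exact chain_contra E hEn hanti ρ hprime hno r s t hr hs ht hrs hrt hst ir is it h1 h2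
        hir2 his3 hit3
    · exact e3 h2
    · rcases lt_trichotomy it ir with h3 | h3 | h3
      · -- is < it < ir
        exact chain_contra E hEn hanti ρ hprime hno r t s hr ht hs hrt hrs hts ir it is h3 h2
          hir2 hit3 his3
      · exact e2 h3
      · -- is < ir < it
        exact chain_contra E hEn hanti ρ hprime hno t r s ht hr hs htr hts hrs it ir is h3 h1
          hit2 hir3 his3

end main

end Cfsg.Agent.Lib.Helper20
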