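import Mathlib
import Cfsg.Agent.Lib.Helper20.QuadCount
import Cfsg.Agent.Lib.helper17.Frattini
import Cfsg.Prelude.Def_Transfer

set_option autoImplicit false
open scoped commutatorElement

namespace Cfsg.Agent.Lib.Helper20

section QuadCW


theorem zmod2_sign (x y : ZMod 2) :
    (if x + y = 0 then (1 : ℤ) else -1) = (if x = 0 then 1 else -1) * (if y = 0 then 1 else -1) := by
  revert x y; decide

theorem exists_dual_family (W : Type*) [CommGroup W] [Finite W] (h2 : ∀ a : W, a ^ 2 = 1) :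
    ∃ (n : ℕ) (lam : Fin n → W → ℤ), Nat.card W = 2 ^ n ∧
      (∀ i a, lam i a = 1 ∨ lam i a = -1) ∧
      (∀ i a b, lam i (a * b) = lam i a * lam i b) ∧
      (∀ a, (∀ i, lam i a = 1) → a = 1) := by
  classical
  have : Fact (Nat.Prime 2) := ⟨Nat.prime_two⟩
  let M : Module (ZMod 2) (Additive W) := AddCommGroup.zmodModule (n := 2) (by
    intro x
    show Additive.ofMul ((Additive.toMul x) ^ 2) = 0
    rw [h2]; rfl)
  have hfin : Module.Finite (ZMod 2) (Additive W) := Module.Finite.of_finite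
  let b := Module.finBasis (ZMod 2) (Additive W)
  refine ⟨Module.finrank (ZMod 2) (Additive W),
    fun i a => if b.repr (Additive.ofMul a) i = 0 then 1 else -1, ?_, ?_, ?_, ?_⟩
  · have h1 := Module.natCard_eq_pow_finrank (K := ZMod 2) (V := Additive W)
    rw [Nat.card_zmod] at h1
    rw [← h1]
    exact Nat.card_congr Additive.ofMul
  · intro i a
    dsimp only
    split_ifs
    · left; rfl
    · right; rfl
  · intro i a b
    dsimp only
    rw [ofMul_mul, map_add, Finsupp.add_apply]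
    exact zmod2_sign _ _
  · intro a ha
    have h0 : b.repr (Additive.ofMul a) = 0 := by
      ext i
      rw [Finsupp.zero_apply]
      have := ha i
      dsimp only at this
      by_contra hne
      rw [if_neg hne] at this
      omega
    have h1 : Additive.ofMul a = 0 := by
      have := b.repr.map_eq_zero_iff.mp h0
      exact this
    exact h1

open Classical in
theorem exists_char_family (W : Type*) [CommGroup W] [Finite W] (h2 : ∀ a : W, a ^ 2 = 1) :
    ∃ (n : ℕ) (ε : Finset (Fin n) → W → ℤ), Nat.card W = 2 ^ n ∧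
      (∀ I a, ε I a * ε I a = 1) ∧ (∀ I a b, ε I (a * b) = ε I a * ε I b) ∧ (∀ I, ε I 1 = 1) ∧
      (∀ a, ∑ I : Finset (Fin n), ε I a = if a = 1 then 2 ^ n else 0) := by
  classical
  obtain ⟨n, lam, hcard, hpm, hmul, hker⟩ := exists_dual_family W h2
  have hsq : ∀ i a, lam i a * lam i a = 1 := by
    intro i a
    rcases hpm i a with h | h <;> rw [h] <;> norm_num
  have hone : ∀ i, lam i 1 = 1 := by
    intro i
    have h := hmul i 1 1
    rw [mul_one] at h
    rcases hpm i 1 with h' | h'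
    · exact h'
    · rw [h'] at h; norm_num at h
  refine ⟨n, fun I a => ∏ i ∈ I, lam i a, hcard, ?_, ?_, ?_, ?_⟩
  · intro I a
    dsimp only
    rw [← Finset.prod_mul_distrib]
    exact Finset.prod_eq_one fun i _ => hsq i a
  · intro I a b
    dsimp only
    rw [← Finset.prod_mul_distrib]
    exact Finset.prod_congr rfl fun i _ => hmul i a b
  · intro I
    exact Finset.prod_eq_one fun i _ => hone i
  · intro a
    dsimp only
    have h := Finset.prod_one_add (f := fun i => lam i a) (Finset.univ : Finset (Fin n))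
    rw [Finset.powerset_univ] at h
    rw [← h]
    split_ifs with ha
    · subst ha
      simp only [hone]
      norm_num
    · have : ∃ i, lam i a ≠ 1 := by
        by_contra hcon
        push Not at hcon
        exact ha (hker a hcon)
      obtain ⟨i, hi⟩ := this
      have hi' : lam i a = -1 := (hpm i a).resolve_left hi
      apply Finset.prod_eq_zero (Finset.mem_univ i)
      rw [hi']; norm_num


variable {G : Type*} [Group G]


/-- the "radical" of a sign character composed with the commutator map -/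
def qRad (W : Subgroup G) (hWc : W ≤ Subgroup.center G) (hcomm : ∀ x y : G, ⁅x, y⁆ ∈ W)
    (ε : G → ℤ) (hεm : ∀ a ∈ W, ∀ b ∈ W, ε (a * b) = ε a * ε b) (hε1 : ε 1 = 1) : Subgroup G where
  carrier := {t | ∀ x : G, ε ⁅t, x⁆ = 1}
  one_mem' := by
    intro x
    simp [hε1]
  mul_mem' := by
    intro s t hs ht x
    have h : ⁅s * t, x⁆ = ⁅t, x⁆ * ⁅s, x⁆ := by
      have hc : s * ⁅t, x⁆ = ⁅t, x⁆ * s := (Subgroup.mem_center_iff.mp (hWc (hcomm t x)) s)
      have : ⁅s * t, x⁆ = s * ⁅t, x⁆ * s⁻¹ * ⁅s, x⁆ := by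
        simp [commutatorElement_def, mul_assoc]
      rw [this, hc]; simp [mul_assoc]
    rw [h, hεm _ (hcomm t x) _ (hcomm s x), hs x, ht x]; rfl
  inv_mem' := by
    intro t ht x
    have h : ⁅t⁻¹, x⁆ * ⁅t, x⁆ = 1 := by
      have hc : t⁻¹ * ⁅x, t⁆ = ⁅x, t⁆ * t⁻¹ := (Subgroup.mem_center_iff.mp (hWc (hcomm x t)) t⁻¹)
      have h1 : ⁅t⁻¹, x⁆ = t⁻¹ * ⁅x, t⁆ * t := by
        simp [commutatorElement_def, mul_assoc]
      have h2 : ⁅x, t⁆ * ⁅t, x⁆ = 1 := by
        simp [commutatorElement_def, mul_assoc]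
      rw [h1, hc, mul_assoc, mul_assoc, inv_mul_cancel_left, h2]
    have h2 := hεm _ (hcomm t⁻¹ x) _ (hcomm t x)
    rw [h, hε1, ht x, mul_one] at h2
    exact h2.symm



theorem eps_pm {ε : G → ℤ} {W : Subgroup G} (hεs : ∀ a ∈ W, ε a * ε a = 1) {a : G} (ha : a ∈ W) :
    ε a = 1 ∨ ε a = -1 := by
  have h := hεs a ha
  have h1 : (ε a - 1) * (ε a + 1) = 0 := by ring_nf; ring_nf at h; omega
  rcases mul_eq_zero.mp h1 with h2 | h2
  · left; omega
  · right; omega

open Classical in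
theorem gauss_sq_gen [Fintype G] (W : Subgroup G) (hWc : W ≤ Subgroup.center G)
    (hsq : ∀ x : G, x ^ 2 ∈ W) (hcomm : ∀ x y : G, ⁅x, y⁆ ∈ W)
    (ε : G → ℤ) (hεm : ∀ a ∈ W, ∀ b ∈ W, ε (a * b) = ε a * ε b) (hε1 : ε 1 = 1)
    (hεs : ∀ a ∈ W, ε a * ε a = 1) :
    (∑ x : G, ε (x ^ 2)) * (∑ x : G, ε (x ^ 2)) = 0 ∨
    (∑ x : G, ε (x ^ 2)) * (∑ x : G, ε (x ^ 2)) =
      (Fintype.card G : ℤ) * (Nat.card (qRad W hWc hcomm ε hεm hε1) : ℤ) := by
  set R := qRad W hWc hcomm ε hεm hε1 with hR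
  have hmemR : ∀ t : G, t ∈ R ↔ ∀ x : G, ε ⁅t, x⁆ = 1 := fun t => Iff.rfl
  have hcc : ∀ x y g : G, g * ⁅x, y⁆ = ⁅x, y⁆ * g := fun x y g =>
    Subgroup.mem_center_iff.mp (hWc (hcomm x y)) g
  -- inner sums
  have hinner : ∀ t : G, ∑ x : G, ε ⁅t, x⁆ = if t ∈ R then (Fintype.card G : ℤ) else 0 := by
    intro t
    split_ifs with ht
    · have : ∀ x : G, ε ⁅t, x⁆ = 1 := (hmemR t).mp ht
      simp [this]
    · rw [hmemR] at ht
      push Not at ht
      obtain ⟨y, hy⟩ := ht
      have hy' : ε ⁅t, y⁆ = -1 := (eps_pm hεs (hcomm t y)).resolve_left hy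
      have h1 : ∑ x : G, ε ⁅t, x⁆ = ∑ x : G, ε ⁅t, y * x⁆ :=
        (Equiv.sum_comp (Equiv.mulLeft y) (fun x => ε ⁅t, x⁆)).symm
      have h2 : ∀ x : G, ε ⁅t, y * x⁆ = - ε ⁅t, x⁆ := by
        intro x
        rw [comm_mul_right t y x (hcc t x), hεm _ (hcomm t y) _ (hcomm t x), hy']
        ring
      simp only [h2, Finset.sum_neg_distrib] at h1
      omega
  have hkey : ∀ x t : G, ε (x ^ 2) * ε ((x * t) ^ 2) = ε ⁅t, x⁆ * ε (t ^ 2) := by
    intro x t
    rw [sq_mul_eq x t (hcc t x), hεm _ (hcomm t x) _ (W.mul_mem (hsq x) (hsq t)),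
      hεm _ (hsq x) _ (hsq t)]
    have := hεs _ (hsq x)
    calc ε (x ^ 2) * (ε ⁅t, x⁆ * (ε (x ^ 2) * ε (t ^ 2)))
        = (ε (x ^ 2) * ε (x ^ 2)) * (ε ⁅t, x⁆ * ε (t ^ 2)) := by ring
      _ = ε ⁅t, x⁆ * ε (t ^ 2) := by rw [this, one_mul]
  have hS : (∑ x : G, ε (x ^ 2)) * (∑ x : G, ε (x ^ 2)) =
      (Fintype.card G : ℤ) * ∑ t : G, (if t ∈ R then ε (t ^ 2) else 0) := by
    calc (∑ x : G, ε (x ^ 2)) * (∑ x : G, ε (x ^ 2))
        = ∑ x : G, ∑ y : G, ε (x ^ 2) * ε (y ^ 2) := by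
          rw [Finset.sum_mul_sum]
      _ = ∑ x : G, ∑ t : G, ε (x ^ 2) * ε ((x * t) ^ 2) := by
          refine Finset.sum_congr rfl fun x _ => ?_
          exact (Equiv.sum_comp (Equiv.mulLeft x) (fun y => ε (x ^ 2) * ε (y ^ 2))).symm
      _ = ∑ x : G, ∑ t : G, ε ⁅t, x⁆ * ε (t ^ 2) := by
          refine Finset.sum_congr rfl fun x _ => Finset.sum_congr rfl fun t _ => hkey x t
      _ = ∑ t : G, ∑ x : G, ε ⁅t, x⁆ * ε (t ^ 2) := Finset.sum_comm
      _ = ∑ t : G, (if t ∈ R then (Fintype.card G : ℤ) else 0) * ε (t ^ 2) := by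
          refine Finset.sum_congr rfl fun t _ => ?_
          rw [← Finset.sum_mul, hinner t]
      _ = (Fintype.card G : ℤ) * ∑ t : G, (if t ∈ R then ε (t ^ 2) else 0) := by
          rw [Finset.mul_sum]
          refine Finset.sum_congr rfl fun t _ => ?_
          split_ifs <;> simp
  -- the sum over the radical
  by_cases hall : ∀ t ∈ R, ε (t ^ 2) = 1
  · right
    rw [hS]
    congr 1
    have : ∀ t : G, (if t ∈ R then ε (t ^ 2) else 0) = if t ∈ R then (1 : ℤ) else 0 := by
      intro t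
      split_ifs with ht
      · exact hall t ht
      · rfl
    simp only [this]
    rw [Finset.sum_ite, Finset.sum_const_zero, add_zero, Finset.sum_const, nsmul_eq_mul, mul_one]
    congr 1
    rw [Nat.card_eq_fintype_card, Fintype.card_subtype]
  · left
    rw [hS]
    push Not at hall
    obtain ⟨s, hs, hs2⟩ := hall
    have hs2' : ε (s ^ 2) = -1 := (eps_pm hεs (hsq s)).resolve_left hs2
    set f : G → ℤ := fun t => if t ∈ R then ε (t ^ 2) else 0 with hf
    have h1 : ∑ t : G, f t = ∑ t : G, f (s * t) := (Equiv.sum_comp (Equiv.mulLeft s) f).symm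
    have h2 : ∀ t : G, f (s * t) = - f t := by
      intro t
      simp only [hf]
      have hmem : s * t ∈ R ↔ t ∈ R := by
        constructor
        · intro h
          have := R.mul_mem (R.inv_mem hs) h
          simpa using this
        · intro h; exact R.mul_mem hs h
      by_cases ht : t ∈ R
      · rw [if_pos (hmem.mpr ht), if_pos ht]
        rw [sq_mul_eq s t (hcc t s), hεm _ (hcomm t s) _ (W.mul_mem (hsq s) (hsq t)),
          hεm _ (hsq s) _ (hsq t), (hmemR t).mp ht s, hs2']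
        ring
      · rw [if_neg (fun h => ht (hmem.mp h)), if_neg ht]; simp
    simp only [h2, Finset.sum_neg_distrib] at h1
    have h3 : ∑ t : G, f t = 0 := by omega
    rw [h3, mul_zero]

theorem center_le_qRad (W : Subgroup G) (hWc : W ≤ Subgroup.center G)
    (hcomm : ∀ x y : G, ⁅x, y⁆ ∈ W)
    (ε : G → ℤ) (hεm : ∀ a ∈ W, ∀ b ∈ W, ε (a * b) = ε a * ε b) (hε1 : ε 1 = 1) :
    Subgroup.center G ≤ qRad W hWc hcomm ε hεm hε1 := by
  intro t ht x
  have : ⁅t, x⁆ = 1 := by
    rw [commutatorElement_eq_one_iff_commute]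
    exact (Subgroup.mem_center_iff.mp ht x).symm
  rw [this, hε1]



open Classical in
theorem cw_divides [Finite G] (hG : IsPGroup 2 G) (W : Subgroup G)
    (hWc : W ≤ Subgroup.center G) (hW2 : ∀ a ∈ W, a ^ 2 = 1)
    (hsq : ∀ x : G, x ^ 2 ∈ W) (hcomm : ∀ x y : G, ⁅x, y⁆ ∈ W) :
    Nat.card G * Nat.card (Subgroup.center G) ∣
      (Nat.card W * Nat.card {x : G // x ^ 2 = 1}) ^ 2 := by
  have := Fintype.ofFinite G
  let _ : CommGroup W := { (inferInstance : Group W) with
    mul_comm := fun a b => Subtype.ext (Subgroup.mem_center_iff.mp (hWc b.2) a.1) }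
  have h2 : ∀ a : W, a ^ 2 = 1 := fun a => Subtype.ext (hW2 a.1 a.2)
  obtain ⟨n, ε0, hcardW, hs0, hm0, h10, hsum0⟩ := exists_char_family W h2
  let ε : Finset (Fin n) → G → ℤ := fun I g => if h : g ∈ W then ε0 I ⟨g, h⟩ else 1
  have hεW : ∀ I (a : G) (ha : a ∈ W), ε I a = ε0 I ⟨a, ha⟩ := fun I a ha => dif_pos ha
  have hεm : ∀ I, ∀ a ∈ W, ∀ b ∈ W, ε I (a * b) = ε I a * ε I b := by
    intro I a ha b hb
    rw [hεW I _ (W.mul_mem ha hb), hεW I a ha, hεW I b hb, ← hm0]
    rfl
  have hε1 : ∀ I, ε I 1 = 1 := by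
    intro I
    rw [hεW I 1 W.one_mem]
    exact h10 I
  have hεs : ∀ I, ∀ a ∈ W, ε I a * ε I a = 1 := by
    intro I a ha
    rw [hεW I a ha]; exact hs0 I _
  -- total sum
  have htotal : ∑ I : Finset (Fin n), ∑ x : G, ε I (x ^ 2) =
      ((2 ^ n * Nat.card {x : G // x ^ 2 = 1} : ℕ) : ℤ) := by
    rw [Finset.sum_comm]
    have : ∀ x : G, ∑ I : Finset (Fin n), ε I (x ^ 2) = if x ^ 2 = 1 then (2 : ℤ) ^ n else 0 := by
      intro x
      have h := hsum0 ⟨x ^ 2, hsq x⟩
      simp only [hεW _ _ (hsq x)]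
      rw [h]
      have : ((⟨x ^ 2, hsq x⟩ : W) = 1) ↔ x ^ 2 = 1 := by
        rw [Subtype.ext_iff]; rfl
      simp only [this]
    simp only [this]
    rw [Finset.sum_ite, Finset.sum_const_zero, add_zero, Finset.sum_const, nsmul_eq_mul,
      Nat.card_eq_fintype_card, Fintype.card_subtype]
    push_cast
    ring
  obtain ⟨g, hg⟩ := hG.exists_card_eq
  obtain ⟨ζ, hζ⟩ := (hG.to_subgroup (Subgroup.center G)).exists_card_eq
  have hdiv : ∀ I : Finset (Fin n), ((2 : ℤ) ^ ((g + ζ + 1) / 2)) ∣ ∑ x : G, ε I (x ^ 2) := by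
    intro I
    rcases gauss_sq_gen W hWc hsq hcomm (ε I) (hεm I) (hε1 I) (hεs I) with h | h
    · have : ∑ x : G, ε I (x ^ 2) = 0 := by
        rcases mul_eq_zero.mp h with h' | h' <;> exact h'
      rw [this]; exact dvd_zero _
    · obtain ⟨ρ, hρ⟩ := (hG.to_subgroup (qRad W hWc hcomm (ε I) (hεm I) (hε1 I))).exists_card_eq
      have hle : ζ ≤ ρ := by
        have h1 : Nat.card (Subgroup.center G) ∣ Nat.card (qRad W hWc hcomm (ε I) (hεm I) (hε1 I)) :=
          Subgroup.card_dvd_of_le (center_le_qRad W hWc hcomm (ε I) (hεm I) (hε1 I))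
        rw [hζ, hρ] at h1
        exact (Nat.pow_dvd_pow_iff_le_right (le_refl 2)).mp h1
      rw [hρ, ← Nat.card_eq_fintype_card, hg] at h
      push_cast at h
      rw [← pow_add] at h
      obtain ⟨m, hm, hm2⟩ := sq_pow_two_arith _ _ h
      have hkm : (g + ζ + 1) / 2 ≤ m := by omega
      rcases hm2 with h' | h' <;> rw [h']
      · exact pow_dvd_pow 2 hkm
      · exact (dvd_neg).mpr (pow_dvd_pow 2 hkm)
  have hdvd1 : ((2 : ℤ) ^ ((g + ζ + 1) / 2)) ∣ ((2 ^ n * Nat.card {x : G // x ^ 2 = 1} : ℕ) : ℤ) := by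
    rw [← htotal]
    exact Finset.dvd_sum fun I _ => hdiv I
  have hdvd2 : 2 ^ ((g + ζ + 1) / 2) ∣ 2 ^ n * Nat.card {x : G // x ^ 2 = 1} := by
    have : (((2 : ℕ) ^ ((g + ζ + 1) / 2) : ℕ) : ℤ) ∣ ((2 ^ n * Nat.card {x : G // x ^ 2 = 1} : ℕ) : ℤ) := by
      push_cast
      push_cast at hdvd1
      exact hdvd1
    exact Int.natCast_dvd_natCast.mp this
  rw [hg, hζ, hcardW, ← pow_add]
  calc 2 ^ (g + ζ) ∣ (2 ^ ((g + ζ + 1) / 2)) ^ 2 := by
        rw [← pow_mul]
        exact pow_dvd_pow 2 (by omega)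
    _ ∣ (2 ^ n * Nat.card {x : G // x ^ 2 = 1}) ^ 2 := pow_dvd_pow_of_dvd hdvd2 2



/-- the subgroup of elements of order dividing two, when they are closed under products -/
def invSubgroup (hN : ∀ x y : G, x ^ 2 = 1 → y ^ 2 = 1 → (x * y) ^ 2 = 1) : Subgroup G where
  carrier := {x | x ^ 2 = 1}
  one_mem' := by simp
  mul_mem' := fun {x y} hx hy => hN x y hx hy
  inv_mem' := fun {x} hx => by
    show (x⁻¹) ^ 2 = 1
    rw [inv_pow, hx, inv_one]

theorem mem_invSubgroup (hN : ∀ x y : G, x ^ 2 = 1 → y ^ 2 = 1 → (x * y) ^ 2 = 1) (x : G) :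
    x ∈ invSubgroup hN ↔ x ^ 2 = 1 := Iff.rfl

theorem card_invSubgroup (hN : ∀ x y : G, x ^ 2 = 1 → y ^ 2 = 1 → (x * y) ^ 2 = 1) :
    Nat.card (invSubgroup hN) = Nat.card {x : G // x ^ 2 = 1} := rfl

theorem class_two_central (hcl : (⊤ : Subgroup G).lowerCentralSeries 2 = ⊥) (x y g : G) :
    g * ⁅x, y⁆ = ⁅x, y⁆ * g := by
  have h : ⁅⁅x, y⁆, g⁆ ∈ (⊤ : Subgroup G).lowerCentralSeries 2 := by
    show ⁅⁅x, y⁆, g⁆ ∈ ⁅⁅(⊤ : Subgroup G), ⊤⁆, ⊤⁆
    exact Subgroup.commutator_mem_commutator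
      (Subgroup.commutator_mem_commutator (Subgroup.mem_top x) (Subgroup.mem_top y))
      (Subgroup.mem_top g)
  rw [hcl, Subgroup.mem_bot, commutatorElement_eq_one_iff_commute] at h
  exact h.eq.symm

/-- in a class two group of exponent four whose involutions are closed, commutators are involutions -/
theorem comm_sq_eq_one (hcl : (⊤ : Subgroup G).lowerCentralSeries 2 = ⊥)
    (hexp : ∀ x : G, x ^ 4 = 1) (hN : ∀ x y : G, x ^ 2 = 1 → y ^ 2 = 1 → (x * y) ^ 2 = 1)
    (x y : G) : ⁅y, x⁆ ^ 2 = 1 := by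
  have h4 : ∀ u : G, (u ^ 2) ^ 2 = 1 := fun u => by rw [← pow_mul]; exact hexp u
  have h1 := sq_mul_eq x y (fun g => class_two_central hcl y x g)
  have h2 : ⁅y, x⁆ = (x * y) ^ 2 * (x ^ 2 * y ^ 2)⁻¹ := by rw [h1]; group
  rw [h2]
  apply hN _ _ (h4 _)
  rw [inv_pow]
  rw [hN _ _ (h4 x) (h4 y), inv_one]

theorem sq_central (hcl : (⊤ : Subgroup G).lowerCentralSeries 2 = ⊥)
    (hexp : ∀ x : G, x ^ 4 = 1) (hN : ∀ x y : G, x ^ 2 = 1 → y ^ 2 = 1 → (x * y) ^ 2 = 1)
    (x g : G) : g * x ^ 2 = x ^ 2 * g := by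
  have hc := class_two_central hcl g x
  have h1 : g * x = ⁅g, x⁆ * (x * g) := by simp [commutatorElement_def, mul_assoc]
  have h2 := comm_sq_eq_one hcl hexp hN x g
  calc g * x ^ 2 = (g * x) * x := by rw [pow_two, mul_assoc]
    _ = ⁅g, x⁆ * (x * g) * x := by rw [h1]
    _ = ⁅g, x⁆ * x * (g * x) := by simp [mul_assoc]
    _ = ⁅g, x⁆ * x * (⁅g, x⁆ * (x * g)) := by rw [h1]
    _ = ⁅g, x⁆ * (x * ⁅g, x⁆) * (x * g) := by simp [mul_assoc]
    _ = ⁅g, x⁆ * (⁅g, x⁆ * x) * (x * g) := by rw [hc x]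
    _ = ⁅g, x⁆ ^ 2 * (x ^ 2 * g) := by simp [pow_two, mul_assoc]
    _ = x ^ 2 * g := by rw [h2, one_mul]



theorem exp_four_divides [Finite G] (hG : IsPGroup 2 G)
    (hcl : (⊤ : Subgroup G).lowerCentralSeries 2 = ⊥)
    (hexp : ∀ x : G, x ^ 4 = 1) (hN : ∀ x y : G, x ^ 2 = 1 → y ^ 2 = 1 → (x * y) ^ 2 = 1) :
    Nat.card G * Nat.card (Subgroup.center G) ∣
      (Nat.card ↥(invSubgroup hN ⊓ Subgroup.center G) * Nat.card {x : G // x ^ 2 = 1}) ^ 2 := by
  apply cw_divides hG (invSubgroup hN ⊓ Subgroup.center G) inf_le_right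
  · intro a ha; exact ha.1
  · intro x
    refine ⟨?_, ?_⟩
    · show (x ^ 2) ^ 2 = 1
      rw [← pow_mul]; exact hexp x
    · show x ^ 2 ∈ Subgroup.center G
      rw [Subgroup.mem_center_iff]
      intro g; exact sq_central hcl hexp hN x g
  · intro x y
    refine ⟨comm_sq_eq_one hcl hexp hN y x, ?_⟩
    show ⁅x, y⁆ ∈ Subgroup.center G
    rw [Subgroup.mem_center_iff]
    intro g; exact class_two_central hcl x y g

theorem exp_four_le [Finite G] (hG : IsPGroup 2 G)
    (hcl : (⊤ : Subgroup G).lowerCentralSeries 2 = ⊥)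
    (hexp : ∀ x : G, x ^ 4 = 1) (hN : ∀ x y : G, x ^ 2 = 1 → y ^ 2 = 1 → (x * y) ^ 2 = 1) :
    Nat.card G ≤ Nat.card ↥(invSubgroup hN ⊓ Subgroup.center G) *
      Nat.card {x : G // x ^ 2 = 1} ^ 2 ∧
    Nat.card G * Nat.card (Subgroup.center G) ≤
      (Nat.card ↥(invSubgroup hN ⊓ Subgroup.center G) * Nat.card {x : G // x ^ 2 = 1}) ^ 2 := by
  have hdiv := exp_four_divides hG hcl hexp hN
  set W := invSubgroup hN ⊓ Subgroup.center G with hW
  set j := Nat.card {x : G // x ^ 2 = 1} with hj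
  have hjpos : 0 < j := by
    rw [hj]
    have : Nonempty {x : G // x ^ 2 = 1} := ⟨⟨1, by simp⟩⟩
    exact Nat.card_pos
  have hWpos : 0 < Nat.card W := Nat.card_pos
  have hZpos : 0 < Nat.card (Subgroup.center G) := Nat.card_pos
  have hle : Nat.card G * Nat.card (Subgroup.center G) ≤ (Nat.card W * j) ^ 2 :=
    Nat.le_of_dvd (by positivity) hdiv
  have hWZ : Nat.card W ≤ Nat.card (Subgroup.center G) := Subgroup.card_le_of_le inf_le_right
  refine ⟨?_, hle⟩
  have h1 : Nat.card G * Nat.card (Subgroup.center G) ≤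
      (Nat.card W * j ^ 2) * Nat.card (Subgroup.center G) := by
    calc Nat.card G * Nat.card (Subgroup.center G) ≤ (Nat.card W * j) ^ 2 := hle
      _ = (Nat.card W * j ^ 2) * Nat.card W := by ring
      _ ≤ (Nat.card W * j ^ 2) * Nat.card (Subgroup.center G) := Nat.mul_le_mul_left _ hWZ
  exact Nat.le_of_mul_le_mul_right h1 hZpos



/-- elements whose square lies in a subgroup `M` containing the commutators, `M` central -/
def sqPreimage (M : Subgroup G) (hMc : M ≤ Subgroup.center G) (hcomm : ∀ x y : G, ⁅x, y⁆ ∈ M) :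
    Subgroup G where
  carrier := {x | x ^ 2 ∈ M}
  one_mem' := by simp
  mul_mem' := fun {x y} hx hy => by
    show (x * y) ^ 2 ∈ M
    rw [sq_mul_eq x y (fun g => Subgroup.mem_center_iff.mp (hMc (hcomm y x)) g)]
    exact M.mul_mem (hcomm y x) (M.mul_mem hx hy)
  inv_mem' := fun {x} hx => by
    show (x⁻¹) ^ 2 ∈ M
    rw [inv_pow]; exact M.inv_mem hx

theorem exp_four_lt_of_comm_ne [Finite G] (hG : IsPGroup 2 G)
    (hcl : (⊤ : Subgroup G).lowerCentralSeries 2 = ⊥)
    (hexp : ∀ x : G, x ^ 4 = 1) (hN : ∀ x y : G, x ^ 2 = 1 → y ^ 2 = 1 → (x * y) ^ 2 = 1)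
    (hZ : Subgroup.center G = invSubgroup hN) (hne : commutator G ≠ Subgroup.center G) :
    2 * Nat.card G ≤ Nat.card {x : G // x ^ 2 = 1} ^ 3 := by
  classical
  set N := invSubgroup hN with hNdef
  have hjN : Nat.card {x : G // x ^ 2 = 1} = Nat.card N := rfl
  have hcommZ : commutator G ≤ N := by
    rw [commutator_def, Subgroup.commutator_le]
    intro x _ y _
    rw [← hZ, Subgroup.mem_center_iff]
    intro g; exact class_two_central hcl x y g
  have hH : (commutator G).subgroupOf N ≠ ⊤ := by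
    intro h
    rw [Subgroup.subgroupOf_eq_top] at h
    exact hne (le_antisymm (hZ ▸ hcommZ) (hZ ▸ h))
  obtain ⟨M', hM'co, hHM'⟩ := (eq_top_or_exists_le_coatom _).resolve_left hH
  have hidx : M'.index = 2 := Cfsg.Agent.Lib.Helper1.pgroup_coatom_index (hG.to_subgroup N) hM'co
  set M := M'.map N.subtype with hMdef
  have hMN : M ≤ N := Subgroup.map_subtype_le M'
  have hmemM : ∀ (a : G) (ha : a ∈ N), a ∈ M ↔ (⟨a, ha⟩ : N) ∈ M' := by
    intro a ha
    constructor
    · rintro ⟨b, hb, rfl⟩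
      exact hb
    · intro h
      exact ⟨⟨a, ha⟩, h, rfl⟩
  have hcommM : ∀ x y : G, ⁅x, y⁆ ∈ M := by
    intro x y
    have hc : ⁅x, y⁆ ∈ commutator G := by
      rw [commutator_def]
      exact Subgroup.commutator_mem_commutator (Subgroup.mem_top x) (Subgroup.mem_top y)
    rw [hmemM _ (hcommZ hc)]
    apply hHM'
    exact hc
  have hMc : M ≤ Subgroup.center G := hZ ▸ hMN
  have hcardM : 2 * Nat.card M = Nat.card N := by
    have h1 : Nat.card M = Nat.card M' :=
      Nat.card_congr (M'.equivMapOfInjective N.subtype N.subtype_injective).symm.toEquiv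
    rw [h1, ← Subgroup.card_mul_index M', hidx, mul_comm]
  set K := sqPreimage M hMc hcommM with hKdef
  have hmemK : ∀ x : G, x ∈ K ↔ x ^ 2 ∈ M := fun x => Iff.rfl
  have hNK : N ≤ K := by
    intro x hx
    rw [hmemK]
    have : x ^ 2 = 1 := hx
    rw [this]; exact M.one_mem
  have hsqN : ∀ x : G, x ^ 2 ∈ N := by
    intro x
    show (x ^ 2) ^ 2 = 1
    rw [← pow_mul]; exact hexp x
  -- index of K at most two
  have hGK : Nat.card G ≤ 2 * Nat.card K := by
    by_cases hKtop : K = ⊤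
    · rw [hKtop, Subgroup.card_top]; omega
    · have : ∃ x : G, x ∉ K := by
        by_contra hcon
        push Not at hcon
        exact hKtop (eq_top_iff.mpr fun x _ => hcon x)
      obtain ⟨x, hx⟩ := this
      have hcover : ∀ y : G, y ∈ K ∨ x⁻¹ * y ∈ K := by
        intro y
        by_cases hy : y ∈ K
        · left; exact hy
        · right
          rw [hmemK] at hx hy ⊢
          rw [sq_mul_eq x⁻¹ y (fun g => Subgroup.mem_center_iff.mp (hMc (hcommM y x⁻¹)) g)]
          apply M.mul_mem (hcommM y x⁻¹)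
          have hx' : (x⁻¹) ^ 2 ∉ M := by
            rw [inv_pow]; exact fun h => hx (by simpa using M.inv_mem h)
          rw [hmemM _ (hsqN x⁻¹)] at hx'
          rw [hmemM _ (hsqN y)] at hy
          rw [hmemM _ (N.mul_mem (hsqN x⁻¹) (hsqN y))]
          have := (Subgroup.mul_mem_iff_of_index_two hidx
            (a := (⟨(x⁻¹) ^ 2, hsqN x⁻¹⟩ : N)) (b := (⟨y ^ 2, hsqN y⟩ : N))).mpr
            ⟨fun h => absurd h hx', fun h => absurd h hy⟩
          exact this
      have hsub : (Set.univ : Set G) ⊆ (K : Set G) ∪ (fun k => x * k) '' (K : Set G) := by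
        intro y _
        rcases hcover y with h | h
        · left; exact h
        · right; exact ⟨x⁻¹ * y, h, by simp⟩
      have h1 : Nat.card G = (Set.univ : Set G).ncard := by
        rw [Set.ncard_univ]
      rw [h1]
      calc (Set.univ : Set G).ncard ≤ ((K : Set G) ∪ (fun k => x * k) '' (K : Set G)).ncard :=
            Set.ncard_le_ncard hsub (Set.toFinite _)
        _ ≤ (K : Set G).ncard + ((fun k => x * k) '' (K : Set G)).ncard := Set.ncard_union_le _ _
        _ ≤ (K : Set G).ncard + (K : Set G).ncard :=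
            Nat.add_le_add_left (Set.ncard_image_le (Set.toFinite _)) _
        _ = 2 * Nat.card K := by
            have : (K : Set G).ncard = Nat.card K := by rw [← Nat.card_coe_set_eq]; rfl
            omega
  -- apply the divisibility to `K`
  have hMK : M ≤ K := hMN.trans hNK
  have hdivK := cw_divides (G := K) (hG.to_subgroup K) (M.subgroupOf K)
    (by
      intro a ha
      rw [Subgroup.mem_center_iff]
      intro k
      apply Subtype.ext
      have := Subgroup.mem_center_iff.mp (hMc (Subgroup.mem_subgroupOf.mp ha)) k.1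
      exact this)
    (by
      intro a ha
      apply Subtype.ext
      have : (a : G) ∈ N := hMN (Subgroup.mem_subgroupOf.mp ha)
      exact this)
    (by
      intro x
      rw [Subgroup.mem_subgroupOf]
      exact x.2)
    (by
      intro x y
      rw [Subgroup.mem_subgroupOf]
      exact hcommM x.1 y.1)
  have hKpos : 0 < Nat.card K := Nat.card_pos
  have hle := Nat.le_of_dvd (by
    have h1 : 0 < Nat.card (M.subgroupOf K) := Nat.card_pos
    have h2 : 0 < Nat.card {x : K // x ^ 2 = 1} := by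
      have : Nonempty {x : K // x ^ 2 = 1} := ⟨⟨1, by simp⟩⟩
      exact Nat.card_pos
    positivity) hdivK
  have hW : Nat.card (M.subgroupOf K) = Nat.card M :=
    Nat.card_congr (Subgroup.subgroupOfEquivOfLe hMK).toEquiv
  have hjK : Nat.card {x : K // x ^ 2 = 1} ≤ Nat.card N := by
    apply Nat.card_le_card_of_injective
      (fun x : {x : K // x ^ 2 = 1} => (⟨x.1.1, by
        have := x.2
        show (x.1.1) ^ 2 = 1
        exact congrArg Subtype.val this⟩ : N))
    intro a b hab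
    apply Subtype.ext; apply Subtype.ext
    have := congrArg (fun u : N => (u : G)) hab
    exact this
  have hZK : Nat.card N ≤ Nat.card (Subgroup.center K) := by
    have h1 : Nat.card (N.subgroupOf K) = Nat.card N :=
      Nat.card_congr (Subgroup.subgroupOfEquivOfLe hNK).toEquiv
    rw [← h1]
    apply Subgroup.card_le_of_le
    intro a ha
    rw [Subgroup.mem_center_iff]
    intro k
    apply Subtype.ext
    have hac : (a : G) ∈ Subgroup.center G := by rw [hZ]; exact Subgroup.mem_subgroupOf.mp ha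
    exact Subgroup.mem_center_iff.mp hac k.1
  rw [hW] at hle
  rw [hjN]
  set n := Nat.card N with hn
  set m := Nat.card M with hm
  have h1 : Nat.card K * n ≤ (m * n) ^ 2 := by
    calc Nat.card K * n ≤ Nat.card K * Nat.card (Subgroup.center K) := Nat.mul_le_mul_left _ hZK
      _ ≤ (m * Nat.card {x : K // x ^ 2 = 1}) ^ 2 := hle
      _ ≤ (m * n) ^ 2 := Nat.pow_le_pow_left (Nat.mul_le_mul_left _ hjK) 2
  have hnpos : 0 < n := Nat.card_pos
  have h2 : Nat.card K ≤ m ^ 2 * n := by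
    have : Nat.card K * n ≤ (m ^ 2 * n) * n := by
      calc Nat.card K * n ≤ (m * n) ^ 2 := h1
        _ = (m ^ 2 * n) * n := by ring
    exact Nat.le_of_mul_le_mul_right this hnpos
  calc 2 * Nat.card G ≤ 2 * (2 * Nat.card K) := Nat.mul_le_mul_left _ hGK
    _ ≤ 2 * (2 * (m ^ 2 * n)) := Nat.mul_le_mul_left _ (Nat.mul_le_mul_left _ h2)
    _ = (2 * m) ^ 2 * n := by ring
    _ = n ^ 3 := by rw [hcardM]; ring



theorem exp_four_special [Finite G] (hG : IsPGroup 2 G)
    (hcl : (⊤ : Subgroup G).lowerCentralSeries 2 = ⊥)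
    (hexp : ∀ x : G, x ^ 4 = 1) (hN : ∀ x y : G, x ^ 2 = 1 → y ^ 2 = 1 → (x * y) ^ 2 = 1)
    (hge : Nat.card {x : G // x ^ 2 = 1} ^ 3 ≤ Nat.card G) : Cfsg.IsSpecial 2 G := by
  obtain ⟨h1, h2⟩ := exp_four_le hG hcl hexp hN
  set N := invSubgroup hN with hNdef
  set W := N ⊓ Subgroup.center G with hWdef
  have hjN : Nat.card {x : G // x ^ 2 = 1} = Nat.card N := rfl
  rw [hjN] at h1 h2 hge
  set n := Nat.card N with hn
  have hnpos : 0 < n := Nat.card_pos
  have hWn : Nat.card W ≤ n := Subgroup.card_le_of_le inf_le_left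
  have hWZ : Nat.card W ≤ Nat.card (Subgroup.center G) := Subgroup.card_le_of_le inf_le_right
  have hWeq : Nat.card W = n := by
    apply le_antisymm hWn
    have : n * n ^ 2 ≤ Nat.card W * n ^ 2 := by
      calc n * n ^ 2 = n ^ 3 := by ring
        _ ≤ Nat.card G := hge
        _ ≤ Nat.card W * n ^ 2 := h1
    exact Nat.le_of_mul_le_mul_right this (by positivity)
  have hWN : W = N := Subgroup.eq_of_le_of_card_ge inf_le_left (by rw [hWeq])
  have hZle : Nat.card (Subgroup.center G) ≤ n := by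
    rw [hWeq] at h2
    have : n ^ 3 * Nat.card (Subgroup.center G) ≤ n ^ 3 * n := by
      calc n ^ 3 * Nat.card (Subgroup.center G) ≤ Nat.card G * Nat.card (Subgroup.center G) :=
            Nat.mul_le_mul_right _ hge
        _ ≤ (n * n) ^ 2 := h2
        _ = n ^ 3 * n := by ring
    exact Nat.le_of_mul_le_mul_left this (by positivity)
  have hWZeq : W = Subgroup.center G :=
    Subgroup.eq_of_le_of_card_ge inf_le_right (by rw [hWeq]; exact hZle)
  have hZ : Subgroup.center G = N := by rw [← hWZeq, hWN]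
  have hcomm : commutator G = Subgroup.center G := by
    by_contra hne
    have := exp_four_lt_of_comm_ne hG hcl hexp hN hZ hne
    rw [hjN] at this
    have hGpos : 0 < Nat.card G := Nat.card_pos
    omega
  refine ⟨hG, ?_, hcomm⟩
  apply le_antisymm
  · have : (Subgroup.center G).Normal := inferInstance
    apply Cfsg.Agent.Lib.helper17.frattini_le_of_comm_pow_mem (p := 2) (Subgroup.center G)
    · intro x y
      rw [← hcomm, commutator_def]
      exact Subgroup.commutator_mem_commutator (Subgroup.mem_top x) (Subgroup.mem_top y)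
    · intro x
      rw [hZ]
      show (x ^ 2) ^ 2 = 1
      rw [← pow_mul]; exact hexp x
  · rw [← hcomm]
    exact Cfsg.Agent.Lib.Helper1.pgroup_commutator_le_frattini hG


end QuadCW

end Cfsg.Agent.Lib.Helper20
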