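import Mathlib
import Cfsg.Agent.Lib.helper7.REE.Defs

/-!
# Project REE (helper7), row ARE, SPARE copy of `ar_two_classes` (the verbatim name is in Helper11/REEARE) under the name `reeareh20_two_classes`.
-/

set_option autoImplicit false

namespace Cfsg.Agent.Lib.helper7.REE

open Matrix Polynomial Cfsg.Agent.Lib.helper8

universe u v

/-- `q = 3^(2m+1)` is `3` or `27` modulo `30` -/
theorem reeareh20_qmod (m : ℕ) : qq m % 30 = 3 ∨ qq m % 30 = 27 := by
  induction m with
  | zero => left; simp [qq]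
  | succ m ih =>
    have h : qq (m + 1) = 9 * qq m := by
      unfold qq
      ring
    rw [h]
    rcases ih with h1 | h1 <;> omega

/-- every divisor `≥ 2` of `N₀` is `≥ 7` -/
theorem reeareh20_seven (m : ℕ) (d : ℕ) (hd2 : 2 ≤ d) (hd : d ∣ nn m) : 7 ≤ d := by
  have hq := reeareh20_qmod m
  have hqq : qq m ≤ qq m * qq m := Nat.le_mul_self (qq m)
  have hN : nn m + qq m = qq m * qq m + 1 := by
    unfold nn
    rw [sq]
    omega
  have hsq : (qq m * qq m) % 30 = 9 := by
    rw [Nat.mul_mod]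
    rcases hq with h | h <;> rw [h]
  have hNm : nn m % 30 = 7 ∨ nn m % 30 = 13 := by omega
  by_contra hcon
  have hd6 : d ≤ 6 := by omega
  obtain ⟨e, he⟩ := hd
  interval_cases d <;> omega

/-- the abstract Diophantine core -/
theorem reeareh20_core (q r N : ℕ) (hq : 27 ≤ q) (hr : r * r = 3 * q) (hN : N = q * q - q + 1)
    (h7 : ∀ d, 2 ≤ d → d ∣ N → 7 ≤ d) {ι : Type} [Fintype ι] (a c : ι → ℕ)
    (ha2 : ∀ j, 2 ≤ a j) (hprod : ∏ j, a j = N) (hc : ∀ j, 1 ≤ c j)
    (hsum : ∑ j, c j * (N - N / a j) = 2 * N - 2 * (q + 1)) :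
    ∃ j₁ j₂ : ι, j₁ ≠ j₂ ∧ (∀ j, j = j₁ ∨ j = j₂) ∧ a j₁ = q + r + 1 ∧ a j₂ = q - r + 1 ∧
      c j₁ = 1 ∧ c j₂ = 1 := by
  classical
  have hqq : 27 * q ≤ q * q := Nat.mul_le_mul_right q hq
  have hNbig : 703 ≤ N := by omega
  have hdvd : ∀ j, a j ∣ N := fun j => hprod ▸ Finset.dvd_prod_of_mem a (Finset.mem_univ j)
  have ha7 : ∀ j, 7 ≤ a j := fun j => h7 (a j) (ha2 j) (hdvd j)
  have hab : ∀ j, a j * (N / a j) = N := fun j => Nat.mul_div_cancel' (hdvd j)
  have hb7 : ∀ j, 7 * (N / a j) ≤ N := by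
    intro j
    calc 7 * (N / a j) ≤ a j * (N / a j) := Nat.mul_le_mul_right _ (ha7 j)
      _ = N := hab j
  have hterm : ∀ j, 6 * N ≤ 7 * (c j * (N - N / a j)) := by
    intro j
    have h1 : 1 * (N - N / a j) ≤ c j * (N - N / a j) := Nat.mul_le_mul_right _ (hc j)
    have h2 := hb7 j
    omega
  have hrq : r < q := by
    apply Nat.mul_self_lt_mul_self_iff.1
    omega
  rcases Nat.lt_or_ge (Fintype.card ι) 3 with hcard | hcard
  · interval_cases hcard' : Fintype.card ι
    · -- no class
      have := Fintype.card_eq_zero_iff.1 hcard'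
      rw [Finset.univ_eq_empty, Finset.prod_empty] at hprod
      omega
    · -- one class
      obtain ⟨x, hx⟩ := Fintype.card_eq_one_iff.1 hcard'
      have huniv : (Finset.univ : Finset ι) = {x} := by
        ext y
        simp [hx y]
      rw [huniv, Finset.prod_singleton] at hprod
      rw [huniv, Finset.sum_singleton, hprod, Nat.div_self (by omega)] at hsum
      exfalso
      have h1 := hc x
      rcases Nat.lt_or_ge (c x) 3 with h3 | h3
      · interval_cases hcx : c x
        · omega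
        · omega
      · have h4 : 3 * (N - 1) ≤ c x * (N - 1) := Nat.mul_le_mul_right _ h3
        omega
    · -- two classes
      have hcard2 : Nat.card ι = 2 := by rw [Nat.card_eq_fintype_card]; exact hcard'
      obtain ⟨x, y, hxy, hset⟩ := Nat.card_eq_two_iff.1 hcard2
      have huniv : ({x, y} : Finset ι) = Finset.univ := by
        ext j
        have hj : j ∈ ({x, y} : Set ι) := hset ▸ Set.mem_univ j
        simpa using hj
      rw [← huniv, Finset.prod_pair hxy] at hprod
      rw [← huniv, Finset.sum_pair hxy] at hsum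
      have hall : ∀ j, j = x ∨ j = y := by
        intro j
        have : j ∈ ({x, y} : Finset ι) := huniv ▸ Finset.mem_univ j
        simpa using this
      have hu7 := ha7 x
      have hv7 := ha7 y
      have hbx : N / a x = a y := by
        rw [← hprod]
        exact Nat.mul_div_cancel_left _ (by omega)
      have hby : N / a y = a x := by
        rw [← hprod]
        exact Nat.mul_div_cancel _ (by omega)
      rw [hbx, hby] at hsum
      have h7u : 7 * a x ≤ N := by
        rw [← hprod]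
        calc 7 * a x = a x * 7 := mul_comm _ _
          _ ≤ a x * a y := Nat.mul_le_mul_left _ hv7
      have h7v : 7 * a y ≤ N := by
        rw [← hprod]
        exact Nat.mul_le_mul_right _ hu7
      have hcx : c x = 1 := by
        by_contra hne
        have h2 : 2 ≤ c x := by have := hc x; omega
        have h3 : 2 * (N - a y) ≤ c x * (N - a y) := Nat.mul_le_mul_right _ h2
        have h4 : 1 * (N - a x) ≤ c y * (N - a x) := Nat.mul_le_mul_right _ (hc y)
        omega
      have hcy : c y = 1 := by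
        by_contra hne
        have h2 : 2 ≤ c y := by have := hc y; omega
        have h3 : 2 * (N - a x) ≤ c y * (N - a x) := Nat.mul_le_mul_right _ h2
        have h4 : 1 * (N - a y) ≤ c x * (N - a y) := Nat.mul_le_mul_right _ (hc x)
        omega
      rw [hcx, hcy, one_mul, one_mul] at hsum
      have hs : a x + a y = 2 * q + 2 := by omega
      -- the quadratic
      have hkey : ((a x : ℤ) - (q + 1 + r)) * ((a x : ℤ) - (q + 1 - r)) = 0 := by
        have hsz : (a x : ℤ) + (a y : ℤ) = 2 * q + 2 := by exact_mod_cast hs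
        have hrz : (r : ℤ) * r = 3 * q := by exact_mod_cast hr
        have huv : (a x : ℤ) * (a y : ℤ) = (q : ℤ) * q - q + 1 := by
          have h1 : a x * a y + q = q * q + 1 := by omega
          have h2 : ((a x * a y + q : ℕ) : ℤ) = ((q * q + 1 : ℕ) : ℤ) := by rw [h1]
          push_cast at h2
          linarith
        linear_combination (a x : ℤ) * hsz - huv - hrz
      rcases mul_eq_zero.1 hkey with h | h
      · have hux : a x = q + r + 1 := by
          have : (a x : ℤ) = q + 1 + r := by linarith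
          have h2 : (a x : ℤ) = ((q + r + 1 : ℕ) : ℤ) := by push_cast; linarith
          exact_mod_cast h2
        refine ⟨x, y, hxy, hall, hux, by omega, hcx, hcy⟩
      · have hux : a x + r = q + 1 := by
          have h2 : ((a x + r : ℕ) : ℤ) = ((q + 1 : ℕ) : ℤ) := by push_cast; linarith
          exact_mod_cast h2
        refine ⟨y, x, hxy.symm, fun j => (hall j).symm, by omega, by omega, hcy, hcx⟩
  · -- at least three classes
    exfalso
    have h := Finset.card_nsmul_le_sum Finset.univ (fun j => 7 * (c j * (N - N / a j))) (6 * N)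
      (fun j _ => hterm j)
    rw [← Finset.mul_sum, hsum, smul_eq_mul, Finset.card_univ] at h
    have h3 : 3 * (6 * N) ≤ Fintype.card ι * (6 * N) := Nat.mul_le_mul_right _ hcard
    omega

/-- from the count of `π`-elements to the normalised sum -/
theorem reeareh20_sum (q N T g : ℕ) (hq : 27 ≤ q) (h3 : 3 ∣ q) (hN : N = q * q - q + 1)
    (hT : T = q ^ 3 * (q - 1) * (q + 1)) (hg : g = T * N) {ι : Type} [Fintype ι] (a k : ι → ℕ)
    (ha2 : ∀ j, 2 ≤ a j) (hprod : ∏ j, a j = N) (hk6 : ∀ j, k j ∣ 6) (hdvd : ∀ j, a j * k j ∣ g)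
    (hcount : ∑ j, (g / (a j * k j)) * (a j - 1) = q ^ 3 * (q / 3) * (q ^ 2 - 1) * (q - 2)) :
    ∑ j, (6 / k j) * (N - N / a j) = 2 * N - 2 * (q + 1) := by
  classical
  have hTpos : 0 < T := by
    rw [hT]
    have h1 : 0 < q ^ 3 := Nat.pow_pos (by omega)
    have h2 : 0 < q - 1 := by omega
    exact Nat.mul_pos (Nat.mul_pos h1 h2) (by omega)
  have hadvd : ∀ j, a j ∣ N := fun j => hprod ▸ Finset.dvd_prod_of_mem a (Finset.mem_univ j)
  have hterm : ∀ j, 6 * ((g / (a j * k j)) * (a j - 1)) = T * ((6 / k j) * (N - N / a j)) := by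
    intro j
    have h1 : a j * k j * (g / (a j * k j)) = g := Nat.mul_div_cancel' (hdvd j)
    have h2 : k j * (6 / k j) = 6 := Nat.mul_div_cancel' (hk6 j)
    have h3 : a j * (N / a j) = N := Nat.mul_div_cancel' (hadvd j)
    have hapos : 0 < a j := by have := ha2 j; omega
    have h4 : 6 * (g / (a j * k j)) = (6 / k j) * T * (N / a j) := by
      apply Nat.eq_of_mul_eq_mul_left hapos
      calc a j * (6 * (g / (a j * k j))) = a j * (k j * (6 / k j) * (g / (a j * k j))) := by rw [h2]
        _ = (6 / k j) * (a j * k j * (g / (a j * k j))) := by ring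
        _ = (6 / k j) * (T * (a j * (N / a j))) := by rw [h1, hg, h3]
        _ = a j * ((6 / k j) * T * (N / a j)) := by ring
    have h5 : (N / a j) * (a j - 1) = N - N / a j := by
      rw [Nat.mul_sub_one, mul_comm, h3]
    calc 6 * ((g / (a j * k j)) * (a j - 1)) = (6 * (g / (a j * k j))) * (a j - 1) := by ring
      _ = (6 / k j) * T * (N / a j) * (a j - 1) := by rw [h4]
      _ = T * ((6 / k j) * ((N / a j) * (a j - 1))) := by ring
      _ = T * ((6 / k j) * (N - N / a j)) := by rw [h5]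
  have hL : 6 * ∑ j, (g / (a j * k j)) * (a j - 1) = T * ∑ j, (6 / k j) * (N - N / a j) := by
    rw [Finset.mul_sum, Finset.mul_sum]
    exact Finset.sum_congr rfl (fun j _ => hterm j)
  have hR : 6 * (q ^ 3 * (q / 3) * (q ^ 2 - 1) * (q - 2)) = T * (2 * N - 2 * (q + 1)) := by
    obtain ⟨s, hs⟩ := h3
    have hs3 : q / 3 = s := by rw [hs]; exact Nat.mul_div_cancel_left s (by norm_num)
    obtain ⟨t, ht⟩ : ∃ t, q = t + 2 := ⟨q - 2, by omega⟩
    have e1 : q ^ 2 - 1 = (q - 1) * (q + 1) := by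
      rw [ht]
      have : (t + 2) ^ 2 = t * t + 4 * t + 4 := by ring
      rw [this]
      have h2 : t + 2 - 1 = t + 1 := by omega
      rw [h2]
      have : (t + 1) * (t + 2 + 1) = t * t + 4 * t + 3 := by ring
      rw [this]
      omega
    have e2 : 2 * N - 2 * (q + 1) = 2 * q * (q - 2) := by
      rw [hN, ht]
      have h1 : (t + 2) * (t + 2) = t * t + 4 * t + 4 := by ring
      have h2 : 2 * (t + 2) * (t + 2 - 2) = 2 * (t * t) + 4 * t := by
        rw [Nat.add_sub_cancel]; ring
      rw [h1, h2]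
      omega
    rw [hs3, e1, e2, hT]
    have : q = 3 * s := hs
    calc 6 * (q ^ 3 * s * ((q - 1) * (q + 1)) * (q - 2))
        = q ^ 3 * (q - 1) * (q + 1) * (2 * (3 * s) * (q - 2)) := by ring
      _ = q ^ 3 * (q - 1) * (q + 1) * (2 * q * (q - 2)) := by rw [← this]
  rw [hcount, hR] at hL
  exact (Nat.eq_of_mul_eq_mul_left hTpos hL).symm

/-- ARE. The final Diophantine step: pairwise coprime `a j ≥ 2` with product `N₀`, indices
`k j ∣ 6`, and the count of π-elements force exactly two classes, of orders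
`q + r + 1` and `q - r + 1`, both with `k = 6`.
(Divide by `q³ (q² - 1) / 6`: `∑ (6 / k j) (N₀ - N₀ / a j) = 2 N₀ - 2 (q + 1)`; every `a j ≥ 7`
by ARC; one class or at least three classes or some `k j < 6` are impossible by size; two
classes with `k = 6` give `a₁ + a₂ = 2 (q + 1)`, `a₁ a₂ = N₀`, `(a₁ - a₂)² = 12 q = (2 r)²`.) -/
theorem reeareh20_two_classes (m : ℕ) (hm : 1 ≤ m) {ι : Type} [Fintype ι]
    (a k : ι → ℕ) (ha2 : ∀ j, 2 ≤ a j) (hcop : ∀ i j, i ≠ j → (a i).Coprime (a j))
    (hprod : ∏ j, a j = nn m) (hk6 : ∀ j, k j ∣ 6)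
    (hdvd : ∀ j, a j * k j ∣ gg m)
    (hcount : ∑ j, (gg m / (a j * k j)) * (a j - 1) =
      qq m ^ 3 * (qq m / 3) * (qq m ^ 2 - 1) * (qq m - 2)) :
    ∃ j₁ j₂ : ι, j₁ ≠ j₂ ∧ (∀ j, j = j₁ ∨ j = j₂) ∧ a j₁ = qq m + rr m + 1 ∧
      a j₂ = qq m - rr m + 1 ∧ k j₁ = 6 ∧ k j₂ = 6 := by
  have _ := hcop
  have hq27 : 27 ≤ qq m := by
    unfold qq
    calc 27 = 3 ^ 3 := by norm_num
      _ ≤ 3 ^ (2 * m + 1) := Nat.pow_le_pow_right (by norm_num) (by omega)
  have h3 : 3 ∣ qq m := by
    unfold qq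
    exact dvd_pow_self 3 (by omega)
  have hr : rr m * rr m = 3 * qq m := by
    unfold rr qq
    ring
  have hN : nn m = qq m * qq m - qq m + 1 := by
    unfold nn
    rw [sq]
  have hqq : qq m ≤ qq m * qq m := Nat.le_mul_self (qq m)
  have hg : gg m = qq m ^ 3 * (qq m - 1) * (qq m + 1) * nn m := by
    unfold gg
    have h1 : qq m ^ 3 + 1 = (qq m + 1) * nn m := by
      rw [hN]
      have h2 : qq m * qq m - qq m + 1 + qq m = qq m * qq m + 1 := by omega
      have h4 : (qq m + 1) * (qq m * qq m - qq m + 1) + (qq m + 1) * qq m =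
          (qq m + 1) * (qq m * qq m + 1) := by
        rw [← Nat.mul_add, h2]
      have h5 : (qq m + 1) * (qq m * qq m + 1) = qq m ^ 3 + 1 + (qq m + 1) * qq m := by ring
      omega
    rw [h1]
    ring
  have hsum := reeareh20_sum (qq m) (nn m) (qq m ^ 3 * (qq m - 1) * (qq m + 1)) (gg m) hq27 h3 hN rfl hg
    a k ha2 hprod hk6 hdvd hcount
  have hc : ∀ j, 1 ≤ 6 / k j := by
    intro j
    have hk := Nat.le_of_dvd (by norm_num) (hk6 j)
    have hkpos : 0 < k j := Nat.pos_of_dvd_of_pos (hk6 j) (by norm_num)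
    exact (Nat.one_le_div_iff hkpos).2 hk
  obtain ⟨j₁, j₂, hne, hall, h1, h2, hc1, hc2⟩ :=
    reeareh20_core (qq m) (rr m) (nn m) hq27 hr hN (reeareh20_seven m) a (fun j => 6 / k j) ha2 hprod hc hsum
  have hk : ∀ j, 6 / k j = 1 → k j = 6 := by
    intro j hj
    have h := Nat.mul_div_cancel' (hk6 j)
    rw [hj, mul_one] at h
    exact h
  exact ⟨j₁, j₂, hne, hall, h1, h2, hk j₁ hc1, hk j₂ hc2⟩

end Cfsg.Agent.Lib.helper7.REE
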