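import Mathlib
import Cfsg.Agent.Lib.Helper18.REELA.Defs

/-!
# Project REE, block LA (helper18), row LA02 (`la_charpoly_factor`): an irreducible factor of the characteristic polynomial divides
every polynomial that kills the matrix (base change to `AdjoinRoot g`, eigenvector).
-/

set_option autoImplicit false

namespace Cfsg.Agent.Lib.helper7.REE

open Matrix Polynomial

universe v

section general

variable {F : Type*} [Field F]

/-- LA02 [M]. An irreducible factor of the characteristic polynomial divides every polynomial
that kills the matrix.  (`L = AdjoinRoot g`, `α = root g`: `charpoly (M.map (algebraMap F L))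
= (charpoly M).map _` (`Matrix.charpoly_map`) has the root `α`, so `det (α • 1 - M_L) = 0`
(`Matrix.eval_charpoly`), so there is `v ≠ 0` with `M_L v = α v`
(`Matrix.exists_mulVec_eq_zero_iff`); `P(M_L) = 0` gives `P(α) v = 0`
(`Module.End.aeval_apply_of_hasEigenvector`), so `mk g P = 0`, `AdjoinRoot.mk_eq_zero`.) -/
theorem la_charpoly_factor {n : Type*} [Fintype n] [DecidableEq n]
    (M : Matrix n n F) (P g : F[X]) (hP : aeval M P = 0) (hg : Irreducible g)
    (hgd : g ∣ M.charpoly) : g ∣ P := by
  have : Fact (Irreducible g) := ⟨hg⟩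
  -- `α` is a root of the characteristic polynomial of the base change
  have hroot : ((M.map (algebraMap F (AdjoinRoot g))).charpoly).eval (AdjoinRoot.root g) = 0 := by
    rw [Matrix.charpoly_map]
    obtain ⟨c, hc⟩ := hgd
    rw [hc, Polynomial.map_mul, eval_mul]
    have : (g.map (algebraMap F (AdjoinRoot g))).eval (AdjoinRoot.root g) = 0 := by
      rw [eval_map, AdjoinRoot.algebraMap_eq]
      exact AdjoinRoot.eval₂_root g
    rw [this, zero_mul]
  rw [Matrix.eval_charpoly] at hroot
  obtain ⟨v, hv0, hv⟩ := Matrix.exists_mulVec_eq_zero_iff.2 hroot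
  have hAv : (M.map (algebraMap F (AdjoinRoot g))) *ᵥ v = AdjoinRoot.root g • v := by
    rw [Matrix.sub_mulVec, sub_eq_zero] at hv
    rw [← hv]
    ext i
    simp [Matrix.mulVec, dotProduct, Matrix.scalar_apply, Matrix.diagonal_apply]
  have hev : Module.End.HasEigenvector (Matrix.toLin' (M.map (algebraMap F (AdjoinRoot g))))
      (AdjoinRoot.root g) v :=
    ⟨Module.End.mem_eigenspace_iff.2 (by rw [Matrix.toLin'_apply]; exact hAv), hv0⟩
  have hPA : aeval (M.map (algebraMap F (AdjoinRoot g))) (P.map (algebraMap F (AdjoinRoot g))) = 0 := by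
    rw [aeval_map_algebraMap]
    have h := Polynomial.aeval_algHom_apply ((Algebra.ofId F (AdjoinRoot g)).mapMatrix (m := n)) M P
    rw [hP, map_zero] at h
    exact h
  have hPl : aeval (Matrix.toLin' (M.map (algebraMap F (AdjoinRoot g))))
      (P.map (algebraMap F (AdjoinRoot g))) = 0 := by
    have h := Polynomial.aeval_algHom_apply (Matrix.toLinAlgEquiv' (R := AdjoinRoot g) (n := n))
      (M.map (algebraMap F (AdjoinRoot g))) (P.map (algebraMap F (AdjoinRoot g)))
    rw [hPA, map_zero] at h
    exact h
  have h1 := Module.End.aeval_apply_of_hasEigenvector (p := P.map (algebraMap F (AdjoinRoot g))) hev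
  rw [hPl, LinearMap.zero_apply] at h1
  have h2 : (P.map (algebraMap F (AdjoinRoot g))).eval (AdjoinRoot.root g) = 0 := by
    rcases smul_eq_zero.1 h1.symm with h | h
    · exact h
    · exact absurd h hv0
  rw [eval_map, ← aeval_def, AdjoinRoot.aeval_eq] at h2
  exact AdjoinRoot.mk_eq_zero.1 h2

end general

end Cfsg.Agent.Lib.helper7.REE
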