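import Mathlib
import Cfsg.Agent.Lib.helper8.RSM.Defs

/-!
# Project RSM (helper8), row A4: `nrm_sq` (helper20)
-/

set_option autoImplicit false

namespace Cfsg.Agent.Lib.helper8.RSM

universe u v w

variable {K : Type v} [Field K] [Fintype K] {m : ℕ}

/-- `nrm m a = a ^ (1 + 3 ^ (m + 1))` (any field). -/
theorem rsma4_nrm_eq_pow (a : K) : nrm m a = a ^ (1 + 3 ^ (m + 1)) := by
  unfold nrm
  rw [← pow_mul, pow_add, pow_one, pow_succ]

/-- A4 [S-M]. Every non-zero square is a value of `N`: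
`(3^(m+1) - 1) (3^(m+1) + 1) = 3 q - 1`, so `N (s ^ (3^(m+1) - 1)) = s ^ (3 q - 1) = s ^ 3 / s = s²`. -/
theorem nrm_sq (hK : Fintype.card K = 3 ^ (2 * m + 1)) (s : K) (hs : s ≠ 0) :
    nrm m (s ^ (3 ^ (m + 1) - 1)) = s ^ 2 := by
  have hq : s ^ 3 ^ (2 * m + 1) = s := by
    rw [← hK]
    exact FiniteField.pow_card s
  have h1 : 1 ≤ 3 ^ (m + 1) := Nat.one_le_pow _ _ (by norm_num)
  have hexp : (3 ^ (m + 1) - 1) * (1 + 3 ^ (m + 1)) + 1 = 3 ^ (2 * m + 1) * 3 := by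
    obtain ⟨k, hk⟩ : ∃ k, 3 ^ (m + 1) = k + 1 := ⟨3 ^ (m + 1) - 1, by omega⟩
    have h2 : 3 ^ (2 * m + 1) * 3 = 3 ^ (m + 1) * 3 ^ (m + 1) := by
      rw [← pow_succ, ← pow_add]
      congr 1
      omega
    rw [h2, hk]
    simp only [Nat.add_sub_cancel]
    ring
  rw [rsma4_nrm_eq_pow, ← pow_mul]
  have h3 : s ^ ((3 ^ (m + 1) - 1) * (1 + 3 ^ (m + 1))) * s = s ^ 2 * s := by
    rw [← pow_succ, hexp, pow_mul, hq]
    ring
  exact mul_right_cancel₀ hs h3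

end Cfsg.Agent.Lib.helper8.RSM
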