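import Mathlib
import Cfsg.Agent.Lib.Helper20.HallHigman
import Cfsg.Prelude.Def_CaseTheorems

set_option autoImplicit false

namespace Cfsg.Agent.Lib.Helper20

open scoped commutatorElement

variable {X : Type*} [Group X]

theorem relIndex_mul_card' {K M : Subgroup X} (h : K ≤ M) :
    K.relIndex M * Nat.card K = Nat.card M := by
  have h1 := Subgroup.card_mul_index (K.subgroupOf M)
  rw [Nat.card_congr (Subgroup.subgroupOfEquivOfLe h).toEquiv] at h1
  rw [mul_comm]; exact h1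

theorem mul_mem_iff_of_relIndex_two {Z₁ Z : Subgroup X} (h : Z₁.relIndex Z = 2) {a b : X}
    (ha : a ∈ Z) (hb : b ∈ Z) : a * b ∈ Z₁ ↔ (a ∈ Z₁ ↔ b ∈ Z₁) := by
  have := Subgroup.mul_mem_iff_of_index_two (H := Z₁.subgroupOf Z) h (a := ⟨a, ha⟩) (b := ⟨b, hb⟩)
  simpa [Subgroup.mem_subgroupOf] using this

/-- the subgroup `{1, z}` for an involution `z` -/
def pairSubgroup (z : X) (hz : z ^ 2 = 1) : Subgroup X where
  carrier := {w | w = 1 ∨ w = z}
  mul_mem' := by
    rintro a b (rfl | rfl) (rfl | rfl)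
    · left; simp
    · right; simp
    · right; simp
    · left; rw [← pow_two]; exact hz
  one_mem' := Or.inl rfl
  inv_mem' := by
    rintro a (rfl | rfl)
    · left; simp
    · right
      rw [inv_eq_iff_mul_eq_one, ← pow_two]; exact hz

theorem mem_pairSubgroup (z : X) (hz : z ^ 2 = 1) (w : X) :
    w ∈ pairSubgroup z hz ↔ w = 1 ∨ w = z := Iff.rfl

theorem card_pairSubgroup (z : X) (hz : z ^ 2 = 1) (hz1 : z ≠ 1) :
    Nat.card (pairSubgroup z hz) = 2 := by
  have : ((pairSubgroup z hz : Subgroup X) : Set X) = {1, z} := by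
    ext w; simp [pairSubgroup]
  show Nat.card ((pairSubgroup z hz : Subgroup X) : Set X) = 2
  rw [this, Nat.card_coe_set_eq, Set.ncard_pair (Ne.symm hz1)]

/-- left translate bound -/
theorem ncard_translate_le [Finite X] (t : X) (Y : Set X) : ((fun y => t * y) '' Y).ncard ≤ Y.ncard :=
  Set.ncard_image_le (Set.toFinite Y)

theorem exists_mem_notMem_of_ncard_lt [Finite X] (H : Subgroup X) (T : Set X)
    (h : T.ncard < Nat.card H) : ∃ u ∈ H, u ∉ T := by
  by_contra hcon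
  push Not at hcon
  have h1 : (H : Set X) ⊆ T := fun u hu => hcon u hu
  have h2 : (H : Set X).ncard ≤ T.ncard := Set.ncard_le_ncard h1 (Set.toFinite T)
  rw [← Nat.card_coe_set_eq] at h2
  have h3 : Nat.card (H : Set X) = Nat.card H := rfl
  omega

/-- Core bound: a class two 2-group `Q` with central elementary abelian `Z` of order 4 containing
all squares, all commutators and all involutions has order at most `128`. -/
theorem card_le_of_involutions_central [Finite X] (Q Z : Subgroup X) (hZQ : Z ≤ Q)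
    (hZc : Z ≤ Subgroup.centralizer (Q : Set X)) (hcomm : ⁅Q, Q⁆ ≤ Z)
    (hsq : ∀ g ∈ Q, g ^ 2 ∈ Z) (hZ2 : ∀ w ∈ Z, w ^ 2 = 1) (hZ4 : Nat.card Z = 4)
    (hinv : ∀ g ∈ Q, g ^ 2 = 1 → g ∈ Z) : Nat.card Q ≤ 128 := by
  classical
  by_cases hQZ : Q ≤ Z
  · have := Subgroup.card_le_of_le hQZ
    omega
  obtain ⟨x, hxQ, hxZ⟩ := SetLike.not_le_iff_exists.mp hQZ
  -- centrality helper
  have hcen : ∀ w ∈ Z, ∀ g ∈ Q, g * w = w * g := by
    intro w hw g hg
    exact (Subgroup.mem_centralizer_iff.mp (hZc hw)) g hg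
  set z := x ^ 2 with hz
  have hzZ : z ∈ Z := hsq x hxQ
  have hz2 : z ^ 2 = 1 := hZ2 z hzZ
  have hz1 : z ≠ 1 := fun h => hxZ (hinv x hxQ h)
  set Z₁ := pairSubgroup z hz2 with hZ₁
  have hZ₁Z : Z₁ ≤ Z := by
    rintro w (rfl | rfl)
    · exact Z.one_mem
    · exact hzZ
  have hrel : Z₁.relIndex Z = 2 := by
    have h1 := relIndex_mul_card' hZ₁Z
    rw [card_pairSubgroup z hz2 hz1, hZ4] at h1
    omega
  -- commutators are in Z and central
  have hcZ : ∀ g ∈ Q, ∀ h ∈ Q, ⁅g, h⁆ ∈ Z := fun g hg h hh =>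
    hcomm (Subgroup.commutator_mem_commutator hg hh)
  -- H = C_Q(x)
  set H : Subgroup X := Q ⊓ Subgroup.centralizer {x} with hH
  have hHQ : H ≤ Q := inf_le_left
  have hHx : ∀ u ∈ H, u * x = x * u := by
    intro u hu
    exact ((Subgroup.mem_centralizer_iff.mp hu.2) x rfl).symm
  -- |Q| ≤ 4 |H|
  have hQH : Nat.card Q ≤ 4 * Nat.card H := by
    let φ : Q →* Z := MonoidHom.mk' (fun g => ⟨⁅(g : X), x⁆, hcZ g g.2 x hxQ⟩) (by
      intro g h
      apply Subtype.ext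
      show ⁅(g : X) * (h : X), x⁆ = ⁅(g : X), x⁆ * ⁅(h : X), x⁆
      have e : ⁅(g : X) * (h : X), x⁆ = (g : X) * ⁅(h : X), x⁆ * (g : X)⁻¹ * ⁅(g : X), x⁆ := by
        simp only [commutatorElement_def]; group
      rw [e, hcen _ (hcZ h h.2 x hxQ) g g.2, mul_inv_cancel_right]
      exact hcen _ (hcZ g g.2 x hxQ) _ (hZQ (hcZ h h.2 x hxQ)))
    have hker : φ.ker = H.subgroupOf Q := by
      ext g
      rw [MonoidHom.mem_ker, Subgroup.mem_subgroupOf]
      constructor
      · intro hg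
        have h1 : ⁅(g : X), x⁆ = 1 := congrArg Subtype.val hg
        rw [commutatorElement_eq_one_iff_commute] at h1
        refine ⟨g.2, ?_⟩
        show (g : X) ∈ Subgroup.centralizer {x}
        rw [Subgroup.mem_centralizer_iff]
        intro y hy
        rw [Set.mem_singleton_iff] at hy
        rw [hy]; exact h1.eq.symm
      · intro hg
        apply Subtype.ext
        show ⁅(g : X), x⁆ = 1
        rw [commutatorElement_eq_one_iff_commute]
        exact hHx g hg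
    have h1 := Subgroup.card_mul_index φ.ker
    rw [Subgroup.index_ker, hker, Nat.card_congr (Subgroup.subgroupOfEquivOfLe hHQ).toEquiv] at h1
    have h2 : Nat.card φ.range ≤ 4 := by
      rw [← hZ4]; exact Subgroup.card_le_card_group _
    calc Nat.card Q = Nat.card H * Nat.card φ.range := h1.symm
      _ ≤ Nat.card H * 4 := Nat.mul_le_mul_left _ h2
      _ = 4 * Nat.card H := mul_comm _ _
  -- |H| ≤ 32
  suffices hH32 : Nat.card H ≤ 32 by omega
  by_contra hbig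
  push Not at hbig
  set Y : Set X := (Z : Set X) ∪ (fun y => x * y) '' (Z : Set X) with hY
  have hZn : (Z : Set X).ncard = 4 := by
    rw [← Nat.card_coe_set_eq]; exact hZ4
  have hYn : Y.ncard ≤ 8 := by
    refine le_trans (Set.ncard_union_le _ _) ?_
    have := ncard_translate_le x (Z : Set X)
    omega
  -- (m1)
  have m1 : ∀ u ∈ H, u ^ 2 ∈ Z₁ → u ∈ Y := by
    intro u hu hu2
    rcases hu2 with h1 | h1
    · left; exact hinv u (hHQ hu) h1
    · right
      refine ⟨x⁻¹ * u, ?_, by group⟩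
      apply hinv _ (Q.mul_mem (Q.inv_mem hxQ) (hHQ hu))
      have hc : Commute x⁻¹ u := by
        have : Commute u x := hHx u hu
        exact this.symm.inv_left
      rw [hc.mul_pow, inv_pow, h1, ← hz, inv_mul_cancel]
  -- (m2)
  have m2 : ∀ a ∈ H, ∀ b ∈ H, a ∉ Y → b ∉ Y → a * b ∉ Y → ⁅b⁻¹, a⁻¹⁆ ∉ Z₁ := by
    intro a ha b hb haY hbY habY hc
    have ha2 : a ^ 2 ∉ Z₁ := fun h => haY (m1 a ha h)
    have hb2 : b ^ 2 ∉ Z₁ := fun h => hbY (m1 b hb h)
    have hab2 : (a * b) ^ 2 ∉ Z₁ := fun h => habY (m1 _ (H.mul_mem ha hb) h)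
    have hcZ' : ⁅b⁻¹, a⁻¹⁆ ∈ Z := hcZ _ (Q.inv_mem (hHQ hb)) _ (Q.inv_mem (hHQ ha))
    have hrel' : b * a = a * b * ⁅b⁻¹, a⁻¹⁆ := by
      simp only [commutatorElement_def]; group
    have hcx : Commute ⁅b⁻¹, a⁻¹⁆ a := (hcen _ hcZ' a (hHQ ha)).symm
    have hcy : Commute ⁅b⁻¹, a⁻¹⁆ b := (hcen _ hcZ' b (hHQ hb)).symm
    have hpow := hh_mul_pow a b _ hrel' hcx hcy 2
    have hch : Nat.choose 2 2 = 1 := by decide
    rw [hch, pow_one] at hpow
    have h1 : a ^ 2 * b ^ 2 ∈ Z₁ :=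
      (mul_mem_iff_of_relIndex_two hrel (hsq a (hHQ ha)) (hsq b (hHQ hb))).mpr
        ⟨fun h => absurd h ha2, fun h => absurd h hb2⟩
    apply hab2
    rw [hpow]
    exact Z₁.mul_mem h1 hc
  -- choose a, b, c
  obtain ⟨a, haH, haY⟩ := exists_mem_notMem_of_ncard_lt H Y (by omega)
  have hT1 : (Y ∪ (fun y => a⁻¹ * y) '' Y).ncard ≤ 16 := by
    refine le_trans (Set.ncard_union_le _ _) ?_
    have := ncard_translate_le a⁻¹ Y
    omega
  obtain ⟨b, hbH, hbT⟩ := exists_mem_notMem_of_ncard_lt H _ (lt_of_le_of_lt hT1 (by omega))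
  have hbY : b ∉ Y := fun h => hbT (Or.inl h)
  have habY : a * b ∉ Y := fun h => hbT (Or.inr ⟨a * b, h, by group⟩)
  have hT2 : (Y ∪ (fun y => a⁻¹ * y) '' Y ∪ (fun y => b⁻¹ * y) '' Y ∪
      (fun y => (a * b)⁻¹ * y) '' Y).ncard ≤ 32 := by
    refine le_trans (Set.ncard_union_le _ _) ?_
    have h1 := ncard_translate_le (a * b)⁻¹ Y
    have h2 : (Y ∪ (fun y => a⁻¹ * y) '' Y ∪ (fun y => b⁻¹ * y) '' Y).ncard ≤ 24 := by
      refine le_trans (Set.ncard_union_le _ _) ?_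
      have := ncard_translate_le b⁻¹ Y
      omega
    omega
  obtain ⟨c, hcH, hcT⟩ := exists_mem_notMem_of_ncard_lt H _ (lt_of_le_of_lt hT2 hbig)
  have hcY : c ∉ Y := fun h => hcT (Or.inl (Or.inl (Or.inl h)))
  have hacY : a * c ∉ Y := fun h => hcT (Or.inl (Or.inl (Or.inr ⟨a * c, h, by group⟩)))
  have hbcY : b * c ∉ Y := fun h => hcT (Or.inl (Or.inr ⟨b * c, h, by group⟩))
  have habcY : a * (b * c) ∉ Y := fun h => hcT (Or.inr ⟨a * (b * c), h, by group⟩)
  have k1 := m2 a haH b hbH haY hbY habY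
  have k2 := m2 a haH c hcH haY hcY hacY
  have k3 := m2 a haH (b * c) (H.mul_mem hbH hcH) haY hbcY habcY
  -- bimultiplicativity
  have hbm : ⁅(b * c)⁻¹, a⁻¹⁆ = ⁅c⁻¹, a⁻¹⁆ * ⁅b⁻¹, a⁻¹⁆ := by
    have e : ⁅(b * c)⁻¹, a⁻¹⁆ = c⁻¹ * ⁅b⁻¹, a⁻¹⁆ * (c⁻¹)⁻¹ * ⁅c⁻¹, a⁻¹⁆ := by
      simp only [commutatorElement_def]; group
    have hb' : ⁅b⁻¹, a⁻¹⁆ ∈ Z := hcZ _ (Q.inv_mem (hHQ hbH)) _ (Q.inv_mem (hHQ haH))
    have hc' : ⁅c⁻¹, a⁻¹⁆ ∈ Z := hcZ _ (Q.inv_mem (hHQ hcH)) _ (Q.inv_mem (hHQ haH))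
    rw [e, hcen _ hb' c⁻¹ (Q.inv_mem (hHQ hcH)), mul_inv_cancel_right]
    exact hcen _ hc' _ (hZQ hb')
  apply k3
  rw [hbm]
  exact (mul_mem_iff_of_relIndex_two hrel
    (hcZ _ (Q.inv_mem (hHQ hcH)) _ (Q.inv_mem (hHQ haH)))
    (hcZ _ (Q.inv_mem (hHQ hbH)) _ (Q.inv_mem (hHQ haH)))).mpr
    ⟨fun h => absurd h k2, fun h => absurd h k1⟩

theorem card_dvd_of_free {Γ α : Type*} [Group Γ] [MulAction Γ α] [Finite Γ] [Finite α]
    (h : ∀ a : α, MulAction.stabilizer Γ a = ⊥) : Nat.card Γ ∣ Nat.card α := by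
  classical
  let _ : Fintype (MulAction.orbitRel.Quotient Γ α) := Fintype.ofFinite _
  rw [Nat.card_congr (MulAction.selfEquivSigmaOrbits Γ α), Nat.card_sigma]
  apply Finset.dvd_sum
  intro ω _
  rw [Nat.card_coe_set_eq, ← MulAction.index_stabilizer, h, Subgroup.index_bot]

/-- Piece A: a group acting semiregularly by conjugation on `P₀ ∖ Φ`. -/
theorem card_dvd_sub_of_semiregular [Finite X] (D P₀ Φ : Subgroup X)
    (hDP : D ≤ Subgroup.normalizer (P₀ : Set X)) (hDΦ : D ≤ Subgroup.normalizer (Φ : Set X))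
    (hΦP : Φ ≤ P₀)
    (hfree : ∀ g ∈ D, g ≠ 1 → ∀ x ∈ P₀, x ∉ Φ → g * x * g⁻¹ ≠ x) :
    Nat.card D ∣ Nat.card P₀ - Nat.card Φ := by
  classical
  let S : Set X := (P₀ : Set X) \ (Φ : Set X)
  let act : MulAction D S :=
    { smul := fun g s => ⟨(g : X) * s * (g : X)⁻¹, by
        refine ⟨(Subgroup.mem_normalizer_iff.mp (hDP g.2) _).mp s.2.1, ?_⟩
        intro h
        exact s.2.2 ((Subgroup.mem_normalizer_iff.mp (hDΦ g.2) _).mpr h)⟩
      one_smul := by
        intro s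
        apply Subtype.ext
        show ((1 : D) : X) * s * ((1 : D) : X)⁻¹ = s
        simp
      mul_smul := by
        intro g h s
        apply Subtype.ext
        show ((g * h : D) : X) * s * ((g * h : D) : X)⁻¹ = (g : X) * ((h : X) * s * (h : X)⁻¹) * (g : X)⁻¹
        rw [Subgroup.coe_mul]; group }
  have hstab : ∀ s : S, MulAction.stabilizer D s = ⊥ := by
    intro s
    rw [Subgroup.eq_bot_iff_forall]
    intro g hg
    by_contra hg1
    have h1 : (g : X) ≠ 1 := fun h => hg1 (Subtype.ext h)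
    have h2 : g • s = s := hg
    have h3 : (g : X) * s * (g : X)⁻¹ = s := congrArg Subtype.val h2
    exact hfree g g.2 h1 s s.2.1 s.2.2 h3
  have h1 := card_dvd_of_free (Γ := D) (α := S) hstab
  have h2 : Nat.card S = Nat.card P₀ - Nat.card Φ := by
    rw [Nat.card_coe_set_eq, Set.ncard_diff hΦP (Set.toFinite _)]
    rfl
  rw [h2] at h1
  exact h1

/-- Piece B: elements of order dividing 3 in a cyclic group of order `3^n`. -/
theorem mem_zpowers_pow_of_pow_three [Finite X] (d : X) (n : ℕ) (hn : 1 ≤ n) (hd : orderOf d = 3 ^ n)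
    (h : X) (hh : h ∈ Subgroup.zpowers d) (h3 : h ^ 3 = 1) :
    h ∈ Subgroup.zpowers (d ^ 3 ^ (n - 1)) := by
  obtain ⟨k, rfl⟩ := Subgroup.mem_zpowers_iff.mp hh
  have h1 : d ^ (k * 3) = 1 := by
    rw [zpow_mul]
    exact_mod_cast h3
  have h2 : (orderOf d : ℤ) ∣ k * 3 := orderOf_dvd_iff_zpow_eq_one.mpr h1
  rw [hd] at h2
  obtain ⟨m, hm⟩ : ∃ m, n = m + 1 := ⟨n - 1, by omega⟩
  subst hm
  simp only [Nat.add_sub_cancel]
  have h4 : ((3 : ℤ) ^ m) ∣ k := by
    have h5 : ((3 : ℕ) ^ (m + 1) : ℕ) = (3 : ℤ) ^ m * 3 := by push_cast; ring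
    rw [h5] at h2
    exact Int.dvd_of_mul_dvd_mul_right (by norm_num) h2
  obtain ⟨j, rfl⟩ := h4
  rw [Subgroup.mem_zpowers_iff]
  refine ⟨j, ?_⟩
  rw [zpow_mul]
  norm_cast

/-- the closure of a set of pairwise commuting involutions is elementary abelian -/
theorem elemAb_closure (K : Set X) (hcomm : ∀ a ∈ K, ∀ b ∈ K, a * b = b * a)
    (hsq : ∀ a ∈ K, a ^ 2 = 1) :
    (∀ a ∈ Subgroup.closure K, ∀ b ∈ Subgroup.closure K, a * b = b * a) ∧
      ∀ w ∈ Subgroup.closure K, w ^ 2 = 1 := by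
  have h1 : Subgroup.closure K ≤ Subgroup.centralizer K := by
    rw [Subgroup.closure_le]
    intro a ha
    rw [SetLike.mem_coe, Subgroup.mem_centralizer_iff]
    intro b hb
    exact hcomm b hb a ha
  have h2 : Subgroup.closure K ≤ Subgroup.centralizer (Subgroup.closure K : Set X) := by
    rw [Subgroup.le_centralizer_iff, Subgroup.closure_le]
    intro a ha
    rw [SetLike.mem_coe, Subgroup.mem_centralizer_iff]
    intro b hb
    exact ((Subgroup.mem_centralizer_iff.mp (h1 hb)) a ha).symm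
  have hc : ∀ a ∈ Subgroup.closure K, ∀ b ∈ Subgroup.closure K, a * b = b * a := by
    intro a ha b hb
    exact ((Subgroup.mem_centralizer_iff.mp (h2 hb)) a ha)
  refine ⟨hc, ?_⟩
  let Ω : Subgroup X :=
    { carrier := {w | w ∈ Subgroup.closure K ∧ w ^ 2 = 1}
      mul_mem' := by
        rintro a b ⟨ha, ha2⟩ ⟨hb, hb2⟩
        refine ⟨Subgroup.mul_mem _ ha hb, ?_⟩
        have : Commute a b := hc a ha b hb
        rw [this.mul_pow, ha2, hb2, one_mul]
      one_mem' := ⟨Subgroup.one_mem _, one_pow _⟩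
      inv_mem' := by
        rintro a ⟨ha, ha2⟩
        exact ⟨Subgroup.inv_mem _ ha, by rw [inv_pow, ha2, inv_one]⟩ }
  have hΩ : Subgroup.closure K ≤ Ω := by
    rw [Subgroup.closure_le]
    intro a ha
    exact ⟨Subgroup.subset_closure ha, hsq a ha⟩
  intro w hw
  exact (hΩ hw).2

/-- rank hypothesis, unfolded: elementary abelian subgroups of `P` have order at most 4 -/
theorem card_le_four_of_elemAb (P : Subgroup X)
    (hrank : ∀ V : Subgroup X, V ≤ P → IsMulCommutative V → Cfsg.PRankLE 2 2 V)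
    (E : Subgroup X) (hEP : E ≤ P) (hcomm : ∀ a ∈ E, ∀ b ∈ E, a * b = b * a)
    (hsq : ∀ a ∈ E, a ^ 2 = 1) : Nat.card E ≤ 4 := by
  have hE : IsMulCommutative E := ⟨⟨fun a b => Subtype.ext (hcomm a a.2 b b.2)⟩⟩
  have h1 := hrank E hEP hE (⊤ : Subgroup E)
    ⟨⟨fun a b => Subtype.ext (Subtype.ext (hcomm a a.1.2 b b.1.2))⟩⟩
    (by
      intro a _
      apply Subtype.ext
      have := hsq a a.2
      simpa using this)
  rw [Subgroup.card_top] at h1
  norm_num at h1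
  exact h1

/-- fixed point congruence for a 3-group acting by conjugation -/
theorem card_modEq_one_of_no_fixed [Finite X] (D Z : Subgroup X) (n : ℕ) (hD : Nat.card D = 3 ^ n)
    (hDZ : D ≤ Subgroup.normalizer (Z : Set X))
    (hfix : ∀ w ∈ Z, (∀ g ∈ D, g * w * g⁻¹ = w) → w = 1) : Nat.card Z ≡ 1 [MOD 3] := by
  have : Fact (Nat.Prime 3) := ⟨Nat.prime_three⟩
  have hDp : IsPGroup 3 D := IsPGroup.of_card hD
  let act : MulAction D Z := MulAction.compHom Z (Z.normalizerMonoidHom.comp (Subgroup.inclusion hDZ))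
  have hact : ∀ (g : D) (w : Z), ((g • w : Z) : X) = (g : X) * w * (g : X)⁻¹ := fun g w => rfl
  have h1 := hDp.card_modEq_card_fixedPoints Z
  have h2 : Nat.card (MulAction.fixedPoints D Z) = 1 := by
    rw [Nat.card_eq_one_iff_unique]
    constructor
    · constructor
      rintro ⟨a, ha⟩ ⟨b, hb⟩
      apply Subtype.ext
      have ha1 : (a : X) = 1 := hfix a a.2 (fun g hg => by
        have := ha ⟨g, hg⟩
        have h3 := congrArg Subtype.val this
        rw [hact] at h3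
        exact h3)
      have hb1 : (b : X) = 1 := hfix b b.2 (fun g hg => by
        have := hb ⟨g, hg⟩
        have h3 := congrArg Subtype.val this
        rw [hact] at h3
        exact h3)
      apply Subtype.ext
      rw [ha1, hb1]
    · refine ⟨⟨1, ?_⟩⟩
      intro g
      apply Subtype.ext
      rw [hact]
      simp
  rw [h2] at h1
  exact h1

end Cfsg.Agent.Lib.Helper20
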