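import Mathlib
import Cfsg.Agent.Lib.Helper20.ThreeOnTwo
import Cfsg.Agent.Lib.Helper1.CoprimeGen
import Cfsg.Agent.Lib.Helper1.Cores
import Cfsg.Agent.Lib.helper17.PAct
import Cfsg.Agent.S3738

set_option autoImplicit false

namespace Cfsg.Agent.Lib.Helper20

open Cfsg.Agent.Lib.Lead
open scoped Pointwise

variable {G : Type*} [Group G]

/-- fixed point congruence for a `p`-group acting by conjugation on a subgroup -/
theorem card_modEq_card_inf_centralizer [Finite G] (p : ℕ) [Fact p.Prime] (D Z : Subgroup G)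
    (hD : IsPGroup p D) (hDZ : D ≤ Subgroup.normalizer (Z : Set G)) :
    Nat.card Z ≡ Nat.card ↥(Z ⊓ Subgroup.centralizer (D : Set G)) [MOD p] := by
  let act : MulAction D Z := MulAction.compHom Z (Z.normalizerMonoidHom.comp (Subgroup.inclusion hDZ))
  have hact : ∀ (g : D) (w : Z), ((g • w : Z) : G) = (g : G) * w * (g : G)⁻¹ := fun g w => rfl
  have h1 := hD.card_modEq_card_fixedPoints Z
  have h2 : Nat.card (MulAction.fixedPoints D Z) =
      Nat.card ↥(Z ⊓ Subgroup.centralizer (D : Set G)) := by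
    apply Nat.card_congr
    refine ⟨fun w => ⟨(w.1 : G), ⟨w.1.2, ?_⟩⟩, fun w => ⟨⟨(w : G), w.2.1⟩, ?_⟩, ?_, ?_⟩
    · show (w.1 : G) ∈ Subgroup.centralizer (D : Set G)
      rw [Subgroup.mem_centralizer_iff]
      intro g hg
      have h3 := w.2 ⟨g, hg⟩
      have h4 := congrArg Subtype.val h3
      rw [hact] at h4
      calc g * (w.1 : G) = g * (w.1 : G) * g⁻¹ * g := by group
        _ = (w.1 : G) * g := by rw [h4]
    · intro g
      apply Subtype.ext
      rw [hact]
      have h3 := (Subgroup.mem_centralizer_iff.mp w.2.2) g g.2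
      show (g : G) * (w : G) * (g : G)⁻¹ = (w : G)
      rw [h3]; group
    · intro w; rfl
    · intro w; rfl
  rw [h2] at h1
  exact h1

theorem centralizer_zpowers (g : G) :
    Subgroup.centralizer ((Subgroup.zpowers g : Subgroup G) : Set G) = Subgroup.centralizer {g} := by
  apply le_antisymm
  · apply Subgroup.centralizer_le
    intro x hx
    rw [Set.mem_singleton_iff] at hx
    rw [hx]; exact Subgroup.mem_zpowers g
  · intro x hx
    rw [Subgroup.mem_centralizer_iff] at hx ⊢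
    intro y hy
    obtain ⟨k, rfl⟩ := Subgroup.mem_zpowers_iff.mp hy
    have : Commute g x := hx g rfl
    exact (this.zpow_left k).eq

theorem orderOf_pow_pred {p : ℕ} (hp : p.Prime) (x : G) (k : ℕ) (hx : orderOf x = p ^ k) (hk : k ≠ 0) :
    orderOf (x ^ p ^ (k - 1)) = p := by
  rw [orderOf_pow_of_dvd (pow_ne_zero _ hp.ne_zero) (by rw [hx]; exact pow_dvd_pow p (by omega)), hx,
    Nat.pow_div (by omega) hp.pos]
  have : k - (k - 1) = 1 := by omega
  rw [this, pow_one]

/-- an involution inside a nontrivial 2-subgroup -/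
theorem exists_involution [Finite G] (T : Subgroup G) (hT : IsPGroup 2 T) (hne : T ≠ ⊥) :
    ∃ u ∈ T, u ≠ 1 ∧ u ^ 2 = 1 := by
  obtain ⟨w, hw1⟩ := (Subgroup.ne_bot_iff_exists_ne_one).mp hne
  obtain ⟨k, hk⟩ := (IsPGroup.iff_orderOf.mp hT) w
  rw [← Subgroup.orderOf_coe] at hk
  have hk0 : k ≠ 0 := by
    rintro rfl
    rw [pow_zero, orderOf_eq_one_iff] at hk
    exact hw1 (Subtype.ext hk)
  have h2 := orderOf_pow_pred Nat.prime_two (w : G) k hk hk0
  refine ⟨(w : G) ^ 2 ^ (k - 1), T.pow_mem w.2 _, ?_, ?_⟩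
  · intro h
    rw [h, orderOf_one] at h2
    omega
  · have h3 := pow_orderOf_eq_one ((w : G) ^ 2 ^ (k - 1))
    rw [h2] at h3
    exact h3

theorem eq_of_card_two [Finite G] (I : Subgroup G) (hI : Nat.card I = 2) {a b : G} (ha : a ∈ I)
    (hb : b ∈ I) (ha1 : a ≠ 1) (hb1 : b ≠ 1) : a = b := by
  have ha2 : a ^ 2 = 1 := by
    have := pow_card_eq_one' (G := I) (x := ⟨a, ha⟩)
    rw [hI] at this
    exact congrArg Subtype.val this
  have hle : pairSubgroup a ha2 ≤ I := by
    rintro w (rfl | rfl)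
    · exact I.one_mem
    · exact ha
  have heq : pairSubgroup a ha2 = I := by
    apply Subgroup.eq_of_le_of_card_ge hle
    rw [card_pairSubgroup a ha2 ha1, hI]
  have : b ∈ pairSubgroup a ha2 := by rw [heq]; exact hb
  rcases this with h | h
  · exact absurd h hb1
  · exact h.symm

/-- absorbing a commuting involution -/
theorem mem_of_commutes_of_card_four [Finite G]
    (hno : ∀ E : Subgroup G, (∀ a ∈ E, ∀ b ∈ E, a * b = b * a) → (∀ a ∈ E, a ^ 2 = 1) →
      Nat.card E ≤ 4)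
    (Z : Subgroup G) (hZc : ∀ a ∈ Z, ∀ b ∈ Z, a * b = b * a) (hZ2 : ∀ a ∈ Z, a ^ 2 = 1)
    (hZ4 : Nat.card Z = 4) (u : G) (hu : ∀ a ∈ Z, a * u = u * a) (hu2 : u ^ 2 = 1) : u ∈ Z := by
  by_contra huZ
  set K : Set G := (Z : Set G) ∪ {u} with hK
  have hKcomm : ∀ a ∈ K, ∀ b ∈ K, a * b = b * a := by
    rintro a (ha | ha) b (hb | hb)
    · exact hZc a ha b hb
    · rw [Set.mem_singleton_iff] at hb; rw [hb]; exact hu a ha
    · rw [Set.mem_singleton_iff] at ha; rw [ha]; exact (hu b hb).symm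
    · rw [Set.mem_singleton_iff] at ha hb; rw [ha, hb]
  have hKsq : ∀ a ∈ K, a ^ 2 = 1 := by
    rintro a (ha | ha)
    · exact hZ2 a ha
    · rw [Set.mem_singleton_iff] at ha; rw [ha]; exact hu2
  obtain ⟨hEc, hE2⟩ := elemAb_closure K hKcomm hKsq
  have hE4 := hno _ hEc hE2
  have hlt : Z < Subgroup.closure K := by
    refine lt_of_le_of_ne ?_ ?_
    · intro a ha; exact Subgroup.subset_closure (Or.inl ha)
    · intro he
      apply huZ
      rw [he]
      exact Subgroup.subset_closure (Or.inr rfl)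
  have := Cfsg.Agent.Lib.Lead.card_lt_card_of_lt hlt
  omega

/-- an elementary abelian 2-subgroup of order more than 4 contains one of order 8 -/
theorem exists_E8 [Finite G] (E : Subgroup G) (hEc : ∀ a ∈ E, ∀ b ∈ E, a * b = b * a)
    (hE2 : ∀ a ∈ E, a ^ 2 = 1) (hE : 4 < Nat.card E) :
    ∃ E' : Subgroup G, (∀ a ∈ E', ∀ b ∈ E', a * b = b * a) ∧ (∀ a ∈ E', a ^ 2 = 1) ∧
      Nat.card E' = 8 := by
  have : Fact (Nat.Prime 2) := ⟨Nat.prime_two⟩
  have hp : IsPGroup 2 E := by
    intro a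
    refine ⟨1, ?_⟩
    apply Subtype.ext
    have := hE2 a a.2
    simpa using this
  obtain ⟨k, hk⟩ := IsPGroup.iff_card.mp hp
  have hk3 : 3 ≤ k := by
    by_contra hcon
    push Not at hcon
    have : 2 ^ k ≤ 2 ^ 2 := Nat.pow_le_pow_right (by norm_num) (by omega)
    omega
  have hdvd : 2 ^ 3 ∣ Nat.card E := by rw [hk]; exact pow_dvd_pow 2 hk3
  obtain ⟨K, hK⟩ := Sylow.exists_subgroup_card_pow_prime 2 hdvd
  refine ⟨K.map E.subtype, ?_, ?_, ?_⟩
  · rintro _ ⟨a, _, rfl⟩ _ ⟨b, _, rfl⟩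
    exact hEc a a.2 b b.2
  · rintro _ ⟨a, _, rfl⟩
    exact hE2 a a.2
  · rw [Subgroup.card_map_of_injective E.subtype_injective, hK]; norm_num

/-- Part I: structure of `Z = Ω₁(Z(O₂(G)))` under the rank hypothesis. -/
theorem e8_part1 [Finite G]
    (hno : ∀ E : Subgroup G, (∀ a ∈ E, ∀ b ∈ E, a * b = b * a) → (∀ a ∈ E, a ^ 2 = 1) →
      Nat.card E ≤ 4)
    (hchar : Subgroup.centralizer (Cfsg.pCore 2 G : Set G) ≤ Cfsg.pCore 2 G)
    (hG1 : ∃ x : G, x ≠ 1)
    (d : G) (hd : IsPGroup 3 ↥(Subgroup.zpowers d))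
    (W : Subgroup G) (hWc : ∀ a ∈ W, ∀ b ∈ W, a * b = b * a) (hW2 : ∀ a ∈ W, a ^ 2 = 1)
    (hW1 : W ≠ ⊥) (hdW : d ∈ Subgroup.normalizer (W : Set G))
    (hfpf : W ⊓ Subgroup.centralizer {d} = ⊥) :
    W.Normal ∧ Nat.card W = 4 ∧ W ≤ Cfsg.pCore 2 G ∧
      W ≤ Subgroup.centralizer (Cfsg.pCore 2 G : Set G) ∧
      ∀ u ∈ Cfsg.pCore 2 G, u ^ 2 = 1 → u ∈ W := by
  classical
  have : Fact (Nat.Prime 2) := ⟨Nat.prime_two⟩
  have : Fact (Nat.Prime 3) := ⟨Nat.prime_three⟩
  set R := Cfsg.pCore 2 G with hR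
  have hRn : R.Normal := Cfsg.Agent.Lib.Helper1.pCore_normal 2
  have hRp : IsPGroup 2 R := Cfsg.Agent.Lib.Helper1.pCore_isPGroup 2
  have hWp : IsPGroup 2 W := by
    intro a
    refine ⟨1, ?_⟩
    apply Subtype.ext
    have := hW2 a a.2
    simpa using this
  -- |W| = 4
  have hDW : Subgroup.zpowers d ≤ Subgroup.normalizer (W : Set G) := by
    rw [Subgroup.zpowers_le]; exact hdW
  have hW4 : Nat.card W = 4 := by
    have h1 := card_modEq_card_inf_centralizer 3 (Subgroup.zpowers d) W hd hDW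
    rw [centralizer_zpowers, hfpf, Subgroup.card_bot] at h1
    have h2 := hno W hWc hW2
    obtain ⟨j, hj⟩ := IsPGroup.iff_card.mp hWp
    have hj2 : j ≤ 2 := by
      by_contra hcon
      push Not at hcon
      have : 2 ^ 3 ≤ 2 ^ j := Nat.pow_le_pow_right (by norm_num) hcon
      omega
    have hj0 : j ≠ 0 := by
      rintro rfl
      rw [pow_zero] at hj
      exact hW1 (Subgroup.card_eq_one.mp hj)
    have hj12 : j = 1 ∨ j = 2 := by omega
    rcases hj12 with rfl | rfl
    · rw [hj] at h1; exact absurd h1 (by decide)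
    · rw [hj]; norm_num
  -- R ≠ ⊥
  have hRne : R ≠ ⊥ := by
    intro h
    obtain ⟨x, hx⟩ := hG1
    have h1 : x ∈ Subgroup.centralizer (R : Set G) := by
      rw [h, Subgroup.mem_centralizer_iff]
      intro y hy
      have : y = 1 := by simpa using hy
      rw [this]; simp
    have h2 := hchar h1
    rw [h, Subgroup.mem_bot] at h2
    exact hx h2
  -- Z = Ω₁(Z(R))
  let Z : Subgroup G :=
    { carrier := {w | w ∈ R ∧ (∀ r ∈ R, r * w = w * r) ∧ w ^ 2 = 1}
      mul_mem' := by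
        rintro a b ⟨ha, hac, ha2⟩ ⟨hb, hbc, hb2⟩
        refine ⟨R.mul_mem ha hb, ?_, ?_⟩
        · intro r hr
          rw [← mul_assoc, hac r hr, mul_assoc, hbc r hr, mul_assoc]
        · have : Commute a b := hbc a ha
          rw [this.mul_pow, ha2, hb2, one_mul]
      one_mem' := ⟨R.one_mem, by intro r _; simp, one_pow _⟩
      inv_mem' := by
        rintro a ⟨ha, hac, ha2⟩
        refine ⟨R.inv_mem ha, ?_, by rw [inv_pow, ha2, inv_one]⟩
        intro r hr
        have : Commute r a := hac r hr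
        exact this.inv_right.eq }
  have hZmem : ∀ w, w ∈ Z ↔ w ∈ R ∧ (∀ r ∈ R, r * w = w * r) ∧ w ^ 2 = 1 := fun w => Iff.rfl
  have hZn : Z.Normal := by
    constructor
    intro w hw x
    obtain ⟨hwR, hwc, hw2⟩ := hw
    refine ⟨hRn.conj_mem w hwR x, ?_, ?_⟩
    · intro r hr
      have h1 := hwc (x⁻¹ * r * x) (by
        have := hRn.conj_mem r hr x⁻¹
        simpa using this)
      calc r * (x * w * x⁻¹) = x * ((x⁻¹ * r * x) * w) * x⁻¹ := by group
        _ = x * (w * (x⁻¹ * r * x)) * x⁻¹ := by rw [h1]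
        _ = x * w * x⁻¹ * r := by group
    · rw [conj_pow, hw2]; group
  have hZc : ∀ a ∈ Z, ∀ b ∈ Z, a * b = b * a := fun a ha b hb => hb.2.1 a ha.1
  have hZ2 : ∀ a ∈ Z, a ^ 2 = 1 := fun a ha => ha.2.2
  have hZp : IsPGroup 2 Z := by
    intro a
    refine ⟨1, ?_⟩
    apply Subtype.ext
    have := hZ2 a a.2
    simpa using this
  -- Z ≠ ⊥
  have hZne : Z ≠ ⊥ := by
    haveI : Nontrivial R := (Subgroup.nontrivial_iff_ne_bot R).mpr hRne
    have hcn : Nontrivial (Subgroup.center R) := hRp.center_nontrivial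
    have hcne : (Subgroup.center ↥R).map R.subtype ≠ ⊥ := by
      intro h
      rw [Subgroup.map_eq_bot_iff_of_injective _ R.subtype_injective] at h
      exact (Subgroup.nontrivial_iff_ne_bot _).mp hcn h
    have hcp : IsPGroup 2 ((Subgroup.center ↥R).map R.subtype) :=
      (hRp.to_subgroup _).map _
    obtain ⟨u, hu, hu1, hu2⟩ := exists_involution _ hcp hcne
    intro h
    apply hu1
    have : u ∈ Z := by
      obtain ⟨y, hy, rfl⟩ := hu
      refine ⟨y.2, ?_, hu2⟩
      intro r hr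
      exact congrArg Subtype.val ((Subgroup.mem_center_iff.mp hy) ⟨r, hr⟩)
    rw [h, Subgroup.mem_bot] at this
    exact this
  have hZ4le : Nat.card Z ≤ 4 := hno Z hZc hZ2
  obtain ⟨j, hj⟩ := IsPGroup.iff_card.mp hZp
  have hj2 : j ≤ 2 := by
    by_contra hcon
    push Not at hcon
    have : 2 ^ 3 ≤ 2 ^ j := Nat.pow_le_pow_right (by norm_num) hcon
    omega
  have hj0 : j ≠ 0 := by
    rintro rfl
    rw [pow_zero] at hj
    exact hZne (Subgroup.card_eq_one.mp hj)
  have hfpf' : ∀ w ∈ W, d * w = w * d → w = 1 := by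
    intro w hw hdw
    have : w ∈ W ⊓ Subgroup.centralizer {d} := by
      refine ⟨hw, ?_⟩
      show w ∈ Subgroup.centralizer {d}
      rw [Subgroup.mem_centralizer_iff]
      intro y hy
      rw [Set.mem_singleton_iff] at hy
      rw [hy]; exact hdw
    rw [hfpf, Subgroup.mem_bot] at this
    exact this
  -- |Z| = 4
  have hZ4 : Nat.card Z = 4 := by
    have hj12 : j = 1 ∨ j = 2 := by omega
    rcases hj12 with rfl | rfl
    · exfalso
      rw [pow_one] at hj
      obtain ⟨z, hz1⟩ := (Subgroup.ne_bot_iff_exists_ne_one).mp hZne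
      have hz1' : (z : G) ≠ 1 := fun h => hz1 (Subtype.ext h)
      -- z is central in G
      have hzc : ∀ x : G, x * z = z * x := by
        intro x
        have h1 : x * z * x⁻¹ ∈ Z := hZn.conj_mem z z.2 x
        have h2 : x * (z : G) * x⁻¹ ≠ 1 := by
          intro h
          apply hz1'
          have : (z : G) = x⁻¹ * (x * z * x⁻¹) * x := by group
          rw [this, h]; group
        have h3 := eq_of_card_two Z hj h1 z.2 h2 hz1'
        calc x * (z : G) = x * z * x⁻¹ * x := by group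
          _ = z * x := by rw [h3]
      have hzW : (z : G) ∈ W :=
        mem_of_commutes_of_card_four hno W hWc hW2 hW4 z (fun a _ => hzc a) (hZ2 z z.2)
      exact hz1' (hfpf' z hzW (hzc d))
    · rw [hj]; norm_num
  -- W ∩ Z ≠ 1
  have hWZ : Subgroup.normalizer (Z : Set G) = ⊤ := Subgroup.normalizer_eq_top_iff.mpr hZn
  have hfix : Z ⊓ Subgroup.centralizer (W : Set G) ≠ ⊥ := by
    intro h
    have h1 := card_modEq_card_inf_centralizer 2 W Z hWp (by rw [hWZ]; exact le_top)
    rw [h, Subgroup.card_bot, hZ4] at h1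
    exact absurd h1 (by decide)
  obtain ⟨z₁, hz₁⟩ := (Subgroup.ne_bot_iff_exists_ne_one).mp hfix
  have hz₁1 : (z₁ : G) ≠ 1 := fun h => hz₁ (Subtype.ext h)
  have hz₁Z : (z₁ : G) ∈ Z := z₁.2.1
  have hz₁W : (z₁ : G) ∈ W := by
    apply mem_of_commutes_of_card_four hno W hWc hW2 hW4 z₁ _ (hZ2 _ hz₁Z)
    intro a ha
    exact (Subgroup.mem_centralizer_iff.mp z₁.2.2) a ha
  -- W ⊓ Z is d-invariant, hence everything
  have hI : Nat.card ↥(W ⊓ Z) = 4 := by
    have hIp : IsPGroup 2 ↥(W ⊓ Z) := hWp.to_le inf_le_left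
    obtain ⟨i, hi⟩ := IsPGroup.iff_card.mp hIp
    have hile : Nat.card ↥(W ⊓ Z) ≤ 4 := by
      rw [← hW4]; exact Subgroup.card_le_of_le inf_le_left
    have hi2 : i ≤ 2 := by
      by_contra hcon
      push Not at hcon
      have : 2 ^ 3 ≤ 2 ^ i := Nat.pow_le_pow_right (by norm_num) hcon
      omega
    have hine : W ⊓ Z ≠ ⊥ := by
      intro h
      have : (z₁ : G) ∈ W ⊓ Z := ⟨hz₁W, hz₁Z⟩
      rw [h, Subgroup.mem_bot] at this
      exact hz₁1 this
    have hi0 : i ≠ 0 := by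
      rintro rfl
      rw [pow_zero] at hi
      exact hine (Subgroup.card_eq_one.mp hi)
    have hi12 : i = 1 ∨ i = 2 := by omega
    rcases hi12 with rfl | rfl
    · exfalso
      rw [pow_one] at hi
      have h1 : d * z₁ * d⁻¹ ∈ W ⊓ Z :=
        ⟨(Subgroup.mem_normalizer_iff.mp hdW _).mp hz₁W, hZn.conj_mem _ hz₁Z d⟩
      have h2 : d * (z₁ : G) * d⁻¹ ≠ 1 := by
        intro h
        apply hz₁1
        have : (z₁ : G) = d⁻¹ * (d * z₁ * d⁻¹) * d := by group
        rw [this, h]; group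
      have h3 := eq_of_card_two (W ⊓ Z) hi h1 ⟨hz₁W, hz₁Z⟩ h2 hz₁1
      apply hz₁1
      apply hfpf' _ hz₁W
      calc d * (z₁ : G) = d * z₁ * d⁻¹ * d := by group
        _ = z₁ * d := by rw [h3]
    · rw [hi]; norm_num
  have hIW : W ⊓ Z = W := Subgroup.eq_of_le_of_card_ge inf_le_left (by rw [hI, hW4])
  have hIZ : W ⊓ Z = Z := Subgroup.eq_of_le_of_card_ge inf_le_right (by rw [hI, hZ4])
  have hWZeq : W = Z := hIW.symm.trans hIZ
  refine ⟨hWZeq ▸ hZn, hW4, ?_, ?_, ?_⟩
  · rw [hWZeq]; intro w hw; exact hw.1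
  · rw [hWZeq]
    intro w hw
    rw [Subgroup.mem_centralizer_iff]
    intro r hr
    exact hw.2.1 r hr
  · intro u hu hu2
    apply mem_of_commutes_of_card_four hno W hWc hW2 hW4 u _ hu2
    intro a ha
    rw [hWZeq] at ha
    exact (ha.2.1 u hu).symm

theorem card_two_or_four [Finite G] (I W : Subgroup G) (hIW : I ≤ W) (hW4 : Nat.card W = 4)
    (hW2 : ∀ a ∈ W, a ^ 2 = 1) (hne : I ≠ ⊥) : Nat.card I = 2 ∨ Nat.card I = 4 := by
  have : Fact (Nat.Prime 2) := ⟨Nat.prime_two⟩
  have hIp : IsPGroup 2 I := by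
    intro a
    refine ⟨1, ?_⟩
    apply Subtype.ext
    have := hW2 a (hIW a.2)
    simpa using this
  obtain ⟨i, hi⟩ := IsPGroup.iff_card.mp hIp
  have hile : Nat.card I ≤ 4 := by
    rw [← hW4]; exact Subgroup.card_le_of_le hIW
  have hi2 : i ≤ 2 := by
    by_contra hcon
    push Not at hcon
    have : 2 ^ 3 ≤ 2 ^ i := Nat.pow_le_pow_right (by norm_num) hcon
    omega
  have hi0 : i ≠ 0 := by
    rintro rfl
    rw [pow_zero] at hi
    exact hne (Subgroup.card_eq_one.mp hi)
  have hi12 : i = 1 ∨ i = 2 := by omega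
  rcases hi12 with rfl | rfl
  · left; rw [hi]; norm_num
  · right; rw [hi]; norm_num

/-- Part II: the Sylow 3-subgroup argument. -/
theorem e8_part2 [Finite G]
    (hno : ∀ E : Subgroup G, (∀ a ∈ E, ∀ b ∈ E, a * b = b * a) → (∀ a ∈ E, a ^ 2 = 1) →
      Nat.card E ≤ 4)
    (hchar : Subgroup.centralizer (Cfsg.pCore 2 G : Set G) ≤ Cfsg.pCore 2 G)
    (g : G) (hg : orderOf g = 6)
    (d : G) (hd : IsPGroup 3 ↥(Subgroup.zpowers d))
    (W : Subgroup G) (hWc : ∀ a ∈ W, ∀ b ∈ W, a * b = b * a) (hW2 : ∀ a ∈ W, a ^ 2 = 1)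
    (hWn : W.Normal) (hW4 : Nat.card W = 4) (hWR : W ≤ Cfsg.pCore 2 G)
    (hWcR : W ≤ Subgroup.centralizer (Cfsg.pCore 2 G : Set G))
    (hinv : ∀ u ∈ Cfsg.pCore 2 G, u ^ 2 = 1 → u ∈ W)
    (hfpf' : ∀ w ∈ W, d * w = w * d → w = 1) : False := by
  classical
  have : Fact (Nat.Prime 2) := ⟨Nat.prime_two⟩
  have : Fact (Nat.Prime 3) := ⟨Nat.prime_three⟩
  set R := Cfsg.pCore 2 G with hR
  have hRn : R.Normal := Cfsg.Agent.Lib.Helper1.pCore_normal 2
  have hRp : IsPGroup 2 R := Cfsg.Agent.Lib.Helper1.pCore_isPGroup 2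
  have hWN : Subgroup.normalizer (W : Set G) = ⊤ := Subgroup.normalizer_eq_top_iff.mpr hWn
  have hWne : W ≠ ⊥ := by
    intro h
    rw [h, Subgroup.card_bot] at hW4
    omega
  set c := g ^ 2 with hc
  set t := g ^ 3 with ht
  have hcord : orderOf c = 3 := by
    rw [hc, orderOf_pow_of_dvd (by norm_num) (by rw [hg]; norm_num), hg]
  have htord : orderOf t = 2 := by
    rw [ht, orderOf_pow_of_dvd (by norm_num) (by rw [hg]; norm_num), hg]
  have hct : Commute c t := (Commute.refl g).pow_pow 2 3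
  have ht2 : t ^ 2 = 1 := by rw [← htord]; exact pow_orderOf_eq_one t
  have ht1 : t ≠ 1 := by
    intro h
    rw [h, orderOf_one] at htord
    omega
  have hc1 : c ≠ 1 := by
    intro h
    rw [h, orderOf_one] at hcord
    omega
  have hc3 : c ^ 3 = 1 := by rw [← hcord]; exact pow_orderOf_eq_one c
  -- Step 7: c centralises W
  have hmemC : ∀ (y w : G), w ∈ Subgroup.centralizer {y} ↔ y * w = w * y := by
    intro y w
    rw [Subgroup.mem_centralizer_iff]
    constructor
    · intro h; exact h y rfl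
    · intro h z hz
      rw [Set.mem_singleton_iff] at hz
      rw [hz]; exact h
  have hItne : W ⊓ Subgroup.centralizer {t} ≠ ⊥ := by
    intro h
    have htp : IsPGroup 2 (Subgroup.zpowers t) :=
      IsPGroup.of_card (n := 1) (by rw [Nat.card_zpowers, htord, pow_one])
    have h1 := card_modEq_card_inf_centralizer 2 (Subgroup.zpowers t) W htp (by rw [hWN]; exact le_top)
    rw [centralizer_zpowers, h, Subgroup.card_bot, hW4] at h1
    exact absurd h1 (by decide)
  obtain ⟨w₀, hw₀W, hw₀1, hw₀c⟩ : ∃ w₀ ∈ W, w₀ ≠ 1 ∧ c * w₀ = w₀ * c := by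
    rcases card_two_or_four _ W inf_le_left hW4 hW2 hItne with h2 | h4
    · obtain ⟨w₀, hw₀⟩ := (Subgroup.ne_bot_iff_exists_ne_one).mp hItne
      have hw₀1 : (w₀ : G) ≠ 1 := fun h => hw₀ (Subtype.ext h)
      have hw₀t : t * (w₀ : G) = w₀ * t := (hmemC t w₀).mp w₀.2.2
      refine ⟨w₀, w₀.2.1, hw₀1, ?_⟩
      have h1 : c * w₀ * c⁻¹ ∈ W ⊓ Subgroup.centralizer {t} := by
        refine ⟨hWn.conj_mem _ w₀.2.1 c, ?_⟩
        show c * (w₀ : G) * c⁻¹ ∈ Subgroup.centralizer {t}
        rw [hmemC]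
        have e1 : t * c = c * t := hct.eq.symm
        calc t * (c * (w₀ : G) * c⁻¹) = (t * c) * w₀ * c⁻¹ := by group
          _ = c * (t * w₀) * c⁻¹ := by rw [e1]; group
          _ = c * (w₀ * t) * c⁻¹ := by rw [hw₀t]
          _ = c * w₀ * (t * c⁻¹) := by group
          _ = c * w₀ * (c⁻¹ * t) := by rw [hct.inv_left.eq]
          _ = c * w₀ * c⁻¹ * t := by group
      have h2' : c * (w₀ : G) * c⁻¹ ≠ 1 := by
        intro h
        apply hw₀1
        have : (w₀ : G) = c⁻¹ * (c * w₀ * c⁻¹) * c := by group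
        rw [this, h]; group
      have h3 := eq_of_card_two _ h2 h1 w₀.2 h2' hw₀1
      calc c * (w₀ : G) = c * w₀ * c⁻¹ * c := by group
        _ = w₀ * c := by rw [h3]
    · have hIW : W ⊓ Subgroup.centralizer {t} = W :=
        Subgroup.eq_of_le_of_card_ge inf_le_left (by rw [h4, hW4])
      have htW : t ∈ W := by
        apply mem_of_commutes_of_card_four hno W hWc hW2 hW4 t _ ht2
        intro a ha
        have : a ∈ W ⊓ Subgroup.centralizer {t} := by rw [hIW]; exact ha
        exact ((hmemC t a).mp this.2).symm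
      exact ⟨t, htW, ht1, hct.eq⟩
  have hcW : ∀ w ∈ W, c * w = w * c := by
    have hIcne : W ⊓ Subgroup.centralizer {c} ≠ ⊥ := by
      intro h
      have : w₀ ∈ W ⊓ Subgroup.centralizer {c} := ⟨hw₀W, (hmemC c w₀).mpr hw₀c⟩
      rw [h, Subgroup.mem_bot] at this
      exact hw₀1 this
    have hcp : IsPGroup 3 (Subgroup.zpowers c) :=
      IsPGroup.of_card (n := 1) (by rw [Nat.card_zpowers, hcord, pow_one])
    have h1 := card_modEq_card_inf_centralizer 3 (Subgroup.zpowers c) W hcp (by rw [hWN]; exact le_top)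
    rw [centralizer_zpowers, hW4] at h1
    rcases card_two_or_four _ W inf_le_left hW4 hW2 hIcne with h2 | h4
    · rw [h2] at h1; exact absurd h1 (by decide)
    · have hIW : W ⊓ Subgroup.centralizer {c} = W :=
        Subgroup.eq_of_le_of_card_ge inf_le_left (by rw [h4, hW4])
      intro w hw
      have : w ∈ W ⊓ Subgroup.centralizer {c} := by rw [hIW]; exact hw
      exact (hmemC c w).mp this.2
  -- Step 8: Sylow
  have hcp : IsPGroup 3 (Subgroup.zpowers c) :=
    IsPGroup.of_card (n := 1) (by rw [Nat.card_zpowers, hcord, pow_one])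
  obtain ⟨S, hS⟩ := hcp.exists_le_sylow
  obtain ⟨S', hS'⟩ := hd.exists_le_sylow
  obtain ⟨x, hx⟩ := MulAction.exists_smul_eq G S S'
  have hcS : c ∈ (S : Subgroup G) := hS (Subgroup.mem_zpowers c)
  have hdS' : d ∈ (S' : Subgroup G) := hS' (Subgroup.mem_zpowers d)
  set e := x⁻¹ * d * x with he
  have heS : e ∈ (S : Subgroup G) := by
    rw [← hx, Sylow.coe_subgroup_smul, Subgroup.mem_pointwise_smul_iff_inv_smul_mem] at hdS'
    have : (MulAut.conj x)⁻¹ • d = x⁻¹ * d * x := by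
      rw [MulAut.smul_def, MulAut.conj_inv_apply]
    rw [this] at hdS'
    exact hdS'
  have hfe : ∀ w ∈ W, e * w = w * e → w = 1 := by
    intro w hw hew
    have h1 : x * w * x⁻¹ ∈ W := hWn.conj_mem w hw x
    have h2 : d * (x * w * x⁻¹) = (x * w * x⁻¹) * d := by
      have : x * (e * w) * x⁻¹ = x * (w * e) * x⁻¹ := by rw [hew]
      rw [he] at this
      calc d * (x * w * x⁻¹) = x * (x⁻¹ * d * x * w) * x⁻¹ := by group
        _ = x * (w * (x⁻¹ * d * x)) * x⁻¹ := this
        _ = (x * w * x⁻¹) * d := by group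
    have h3 := hfpf' _ h1 h2
    have : w = x⁻¹ * (x * w * x⁻¹) * x := by group
    rw [this, h3]; group
  have he1 : e ≠ 1 := by
    intro h
    obtain ⟨w, hw⟩ := (Subgroup.ne_bot_iff_exists_ne_one).mp hWne
    apply hw
    apply Subtype.ext
    apply hfe w w.2
    rw [h]; simp
  obtain ⟨n, hn⟩ := (IsPGroup.iff_orderOf.mp S.isPGroup') ⟨e, heS⟩
  rw [Subgroup.orderOf_mk] at hn
  have hn1 : 1 ≤ n := by
    by_contra hcon
    have : n = 0 := by omega
    rw [this, pow_zero, orderOf_eq_one_iff] at hn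
    exact he1 hn
  have hRN : Subgroup.normalizer (R : Set G) = ⊤ := Subgroup.normalizer_eq_top_iff.mpr hRn
  -- fixed points on R
  have hRfix : ∀ a : G, (∀ w ∈ W, a * w = w * a → w = 1) → R ⊓ Subgroup.centralizer {a} = ⊥ := by
    intro a ha
    by_contra hne
    obtain ⟨u, hu, hu1, hu2⟩ := exists_involution _ (hRp.to_le inf_le_left) hne
    exact hu1 (ha u (hinv u hu.1 hu2) ((hmemC a u).mp hu.2))
  have heord : orderOf e = 3 := by
    apply Cfsg.Agent.S3738.result e n hn1 hn R hRp (by rw [hRN]; trivial)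
    · -- faithful
      rw [eq_bot_iff]
      intro y hy
      have h1 : y ∈ (S : Subgroup G) ⊓ R := by
        refine ⟨?_, hchar hy.2⟩
        have : Subgroup.zpowers e ≤ S := by rw [Subgroup.zpowers_le]; exact heS
        exact this hy.1
      have h2 : Disjoint (S : Subgroup G) R :=
        IsPGroup.disjoint_of_ne 3 2 (by norm_num) _ _ S.isPGroup' hRp
      rw [disjoint_iff] at h2
      rw [h2] at h1
      exact h1
    · exact hRfix e hfe
    · intro V hVR hVc A hAc hA2
      have h1 := hno (A.map V.subtype)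
        (by
          rintro _ ⟨a, _, rfl⟩ _ ⟨b, _, rfl⟩
          have := hAc.is_comm.comm ⟨a, ‹a ∈ A›⟩ ⟨b, ‹b ∈ A›⟩
          exact congrArg (fun z : A => ((z : V) : G)) this)
        (by
          rintro _ ⟨a, ha, rfl⟩
          have := hA2 a ha
          have h2 := congrArg (fun z : V => (z : G)) this
          simpa using h2)
      rw [Subgroup.card_map_of_injective V.subtype_injective] at h1
      norm_num
      exact h1
  have he3 : e ^ 3 = 1 := by rw [← heord]; exact pow_orderOf_eq_one e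
  -- central element of S centralising W
  have hCWn : (Subgroup.centralizer (W : Set G)).Normal := inferInstance
  set N : Subgroup S := (Subgroup.centralizer (W : Set G)).subgroupOf S with hN
  have hNn : N.Normal := hCWn.subgroupOf S
  have hNne : N ≠ ⊥ := by
    intro h
    have : (⟨c, hcS⟩ : S) ∈ N := by
      rw [hN, Subgroup.mem_subgroupOf]
      show c ∈ Subgroup.centralizer (W : Set G)
      rw [Subgroup.mem_centralizer_iff]
      intro w hw
      exact (hcW w hw).symm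
    rw [h, Subgroup.mem_bot] at this
    exact hc1 (congrArg Subtype.val this)
  haveI : Group.IsNilpotent S := S.isPGroup'.isNilpotent
  have hNZ := Cfsg.Agent.Lib.helper17.nilpotent_normal_inf_center_ne_bot N hNne
  obtain ⟨c₁, hc₁⟩ := (Subgroup.ne_bot_iff_exists_ne_one).mp hNZ
  have hc₁1 : ((c₁ : S) : G) ≠ 1 := fun h => hc₁ (Subtype.ext (Subtype.ext h))
  obtain ⟨k, hk⟩ := (IsPGroup.iff_orderOf.mp S.isPGroup') (c₁ : S)
  rw [← Subgroup.orderOf_coe] at hk
  have hk0 : k ≠ 0 := by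
    rintro rfl
    rw [pow_zero, orderOf_eq_one_iff] at hk
    exact hc₁1 hk
  set c₂ : G := ((c₁ : S) : G) ^ 3 ^ (k - 1) with hc₂
  have hc₂ord : orderOf c₂ = 3 := orderOf_pow_pred Nat.prime_three _ k hk hk0
  have hc₂S : c₂ ∈ (S : Subgroup G) := Subgroup.pow_mem _ (c₁ : S).2 _
  have hc₂3 : c₂ ^ 3 = 1 := by rw [← hc₂ord]; exact pow_orderOf_eq_one c₂
  have hc₁W : ∀ w ∈ W, ((c₁ : S) : G) * w = w * ((c₁ : S) : G) := by
    intro w hw
    have h1 : ((c₁ : S) : G) ∈ Subgroup.centralizer (W : Set G) :=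
      Subgroup.mem_subgroupOf.mp c₁.2.1
    rw [Subgroup.mem_centralizer_iff] at h1
    exact (h1 w hw).symm
  have hc₂W : ∀ w ∈ W, c₂ * w = w * c₂ := by
    intro w hw
    have : Commute ((c₁ : S) : G) w := hc₁W w hw
    exact (this.pow_left _).eq
  have hc₁cen : ∀ s ∈ (S : Subgroup G), s * ((c₁ : S) : G) = ((c₁ : S) : G) * s := by
    intro s hs
    have h1 : (c₁ : S) ∈ Subgroup.center S := c₁.2.2
    have h2 := (Subgroup.mem_center_iff.mp h1) ⟨s, hs⟩
    exact congrArg Subtype.val h2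
  have hec₂ : Commute e c₂ := by
    have : Commute e ((c₁ : S) : G) := hc₁cen e heS
    exact this.pow_right _
  -- apply the generation lemma
  have hsolR : Group.IsSolvable R := by
    haveI : Group.IsNilpotent R := hRp.isNilpotent
    infer_instance
  obtain ⟨m, hm⟩ := IsPGroup.iff_card.mp hRp
  obtain ⟨l, hl⟩ := IsPGroup.iff_card.mp S.isPGroup'
  have hcopSR : (Nat.card (S : Subgroup G)).Coprime (Nat.card R) := by
    rw [hm, hl]
    exact Nat.Coprime.pow _ _ (by norm_num)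
  have hcop3R : (3 : ℕ).Coprime (Nat.card R) := by
    rw [hm]
    exact Nat.Coprime.pow_right _ (by norm_num)
  have hfin := Cfsg.Agent.Lib.Helper1.core_solvable (S : Subgroup G) 3 c₂ e hc₂S heS hec₂ hc₂3 he3
    (Subgroup.centralizer {c₂}) _ R rfl hsolR (by rw [hRN]; exact le_top) hcopSR hcop3R
    (by
      intro j
      rw [hRfix]
      · exact bot_le
      · intro w hw hcomm
        apply hfe w hw
        have h1 : Commute (c₂ ^ j.val) w := (show Commute c₂ w from hc₂W w hw).pow_left _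
        have h2 : e * (c₂ ^ j.val * w) = w * e * c₂ ^ j.val := by
          calc e * (c₂ ^ j.val * w) = e * c₂ ^ j.val * w := by group
            _ = w * (e * c₂ ^ j.val) := hcomm
            _ = w * e * c₂ ^ j.val := by group
        rw [h1.eq] at h2
        have h3 : e * w * c₂ ^ j.val = w * e * c₂ ^ j.val := by
          rw [← h2]; group
        exact mul_right_cancel h3)
    inf_le_right
  have hc₂R : c₂ ∈ R := by
    apply hchar
    rw [Subgroup.mem_centralizer_iff]
    intro r hr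
    exact ((hmemC c₂ r).mp (hfin hr)).symm
  obtain ⟨q, hq⟩ := (IsPGroup.iff_orderOf.mp hRp) ⟨c₂, hc₂R⟩
  rw [Subgroup.orderOf_mk, hc₂ord] at hq
  rcases q with _ | _ | q
  · norm_num at hq
  · norm_num at hq
  · have : 2 ^ (q + 2) = 4 * 2 ^ q := by ring
    omega

end Cfsg.Agent.Lib.Helper20
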