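import Mathlib
import Cfsg.Agent.Lib.Helper20.S3571.Defs
import Cfsg.Agent.Lib.Helper20.AutAlt3

set_option autoImplicit false

namespace Cfsg.Agent.Lib.Helper20.S3571
open Equiv

/-- BR2: for `m ≠ 6` conjugation by `g` on `T ≅ A_m` is conjugation by a permutation. -/
theorem aut_is_conj (m : ℕ) (hm : 5 ≤ m) (hm6 : m ≠ 6) {G : Type*} [Group G] (T : Subgroup G)
    (hT : T.Normal) (eT : ↥T ≃* ↥(alternatingGroup (Fin m))) (g : G) :
    ∃ σ : Perm (Fin m), ∀ (t : G) (ht : t ∈ T),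
      ((eT ⟨g * t * g⁻¹, hT.conj_mem t ht g⟩ : ↥(alternatingGroup (Fin m))) : Perm (Fin m)) =
        σ * ((eT ⟨t, ht⟩ : ↥(alternatingGroup (Fin m))) : Perm (Fin m)) * σ⁻¹ := by
  have := hT
  let ψ : MulAut ↥T := MulAut.conjNormal g
  let φ : MulAut ↥(alternatingGroup (Fin m)) := eT.symm.trans (ψ.trans eT)
  have hbij := AutAlt.conjNormal_bijective (X := Fin m) (by rw [Fintype.card_fin]; omega)
    (by rw [Fintype.card_fin]; exact hm6)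
  obtain ⟨σ, hσ⟩ := hbij.2 φ
  refine ⟨σ, ?_⟩
  intro t ht
  have h1 : φ (eT ⟨t, ht⟩) = eT (ψ ⟨t, ht⟩) := by
    simp [φ]
  have h2 : ψ ⟨t, ht⟩ = ⟨g * t * g⁻¹, hT.conj_mem t ht g⟩ := by
    apply Subtype.ext
    exact MulAut.conjNormal_apply g ⟨t, ht⟩
  have h3 : ((MulAut.conjNormal σ (eT ⟨t, ht⟩) : ↥(alternatingGroup (Fin m))) : Perm (Fin m)) =
      σ * ((eT ⟨t, ht⟩ : ↥(alternatingGroup (Fin m))) : Perm (Fin m)) * σ⁻¹ :=
    MulAut.conjNormal_apply σ (eT ⟨t, ht⟩)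
  rw [← h3, hσ, h1, h2]

end Cfsg.Agent.Lib.Helper20.S3571
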