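import Mathlib
import Cfsg.Agent.Lib.Helper20.S3571.Defs
import Cfsg.Agent.Lib.Helper20.S3571BR2

set_option autoImplicit false

namespace Cfsg.Agent.Lib.Helper20.S3571
open Equiv
open scoped Pointwise

/-- the map `T → Perm (Fin m)` -/
def h20map {G : Type*} [Group G] (T : Subgroup G) (m : ℕ)
    (eT : ↥T ≃* ↥(alternatingGroup (Fin m))) : ↥T →* Perm (Fin m) :=
  (alternatingGroup (Fin m)).subtype.comp eT.toMonoidHom

theorem h20map_apply {G : Type*} [Group G] (T : Subgroup G) (m : ℕ)
    (eT : ↥T ≃* ↥(alternatingGroup (Fin m))) (t : ↥T) :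
    h20map T m eT t = ((eT t : ↥(alternatingGroup (Fin m))) : Perm (Fin m)) := rfl

theorem h20map_injective {G : Type*} [Group G] (T : Subgroup G) (m : ℕ)
    (eT : ↥T ≃* ↥(alternatingGroup (Fin m))) : Function.Injective (h20map T m eT) := by
  intro a b hab
  rw [h20map_apply, h20map_apply] at hab
  exact eT.injective (Subtype.ext hab)

theorem h20map_mem_alt {G : Type*} [Group G] (T : Subgroup G) (m : ℕ)
    (eT : ↥T ≃* ↥(alternatingGroup (Fin m))) (t : ↥T) :
    h20map T m eT t ∈ alternatingGroup (Fin m) := (eT t).2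

theorem h20map_surj {G : Type*} [Group G] (T : Subgroup G) (m : ℕ)
    (eT : ↥T ≃* ↥(alternatingGroup (Fin m))) (a : Perm (Fin m))
    (ha : a ∈ alternatingGroup (Fin m)) : ∃ t : ↥T, h20map T m eT t = a := by
  refine ⟨eT.symm ⟨a, ha⟩, ?_⟩
  rw [h20map_apply]
  simp

theorem stabImage_eq {G Ω : Type*} [Group G] [MulAction G Ω] (T : Subgroup G) (m : ℕ)
    (eT : ↥T ≃* ↥(alternatingGroup (Fin m))) (ω : Ω) :
    stabImage T m eT ω = Subgroup.map (h20map T m eT) (MulAction.stabilizer ↥T ω) := rfl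

/-- membership in `stabImage` -/
theorem h20map_mem_stabImage {G Ω : Type*} [Group G] [MulAction G Ω] (T : Subgroup G) (m : ℕ)
    (eT : ↥T ≃* ↥(alternatingGroup (Fin m))) (ω : Ω) (t : ↥T) :
    h20map T m eT t ∈ stabImage T m eT ω ↔ (t : G) • ω = ω := by
  rw [stabImage_eq, Subgroup.mem_map_iff_mem (h20map_injective T m eT),
    MulAction.mem_stabilizer_iff]
  rfl

/-- BR3: the maximality principle from primitivity. -/
theorem mp_of_primitive (m : ℕ) (hm : 5 ≤ m) (hm6 : m ≠ 6) {G Ω : Type*} [Group G] [Finite G]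
    [MulAction G Ω] [Nontrivial Ω] (hprim : MulAction.IsPreprimitive G Ω) (T : Subgroup G)
    (hT : T.Normal) (eT : ↥T ≃* ↥(alternatingGroup (Fin m))) (ω : Ω) :
    MP m (stabImage T m eT ω) := by
  intro L hHL hLA hinv
  set f := h20map T m eT with hf
  set M : Subgroup G := MulAction.stabilizer G ω with hM
  have hco : IsCoatom M := MulAction.IsPreprimitive.isCoatom_stabilizer_of_isPreprimitive (G := G) (X := Ω) ω
  -- the preimage of `L` in `G`
  set LG : Subgroup G := (L.comap f).map T.subtype with hLG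
  have memLG : ∀ x : G, x ∈ LG ↔ ∃ hx : x ∈ T, f ⟨x, hx⟩ ∈ L := by
    intro x
    constructor
    · rintro ⟨t, ht, rfl⟩
      exact ⟨t.2, ht⟩
    · rintro ⟨hx, h⟩
      exact ⟨⟨x, hx⟩, h, rfl⟩
  -- `M` normalises `LG`
  have hnorm : ∀ g ∈ M, ∀ l ∈ LG, g * l * g⁻¹ ∈ LG := by
    intro g hg l hl
    obtain ⟨σ, hσ⟩ := aut_is_conj m hm hm6 T hT eT g
    have hgω : g • ω = ω := hg
    have hgω' : g⁻¹ • ω = ω := by
      rw [inv_smul_eq_iff, hgω]
    have hσN : ∀ h : Perm (Fin m), h ∈ stabImage T m eT ω ↔ σ * h * σ⁻¹ ∈ stabImage T m eT ω := by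
      intro h
      constructor
      · intro hh
        rw [stabImage_eq] at hh
        obtain ⟨⟨t, ht⟩, hts, rfl⟩ := hh
        have h1 := hσ t ht
        rw [← h20map_apply, ← h20map_apply] at h1
        rw [← h1, h20map_mem_stabImage]
        have hts' : t • ω = ω := hts
        show (g * t * g⁻¹) • ω = ω
        rw [mul_smul, mul_smul, hgω', hts', hgω]
      · intro hh
        rw [stabImage_eq] at hh
        obtain ⟨⟨t', ht'⟩, hts, heq⟩ := hh
        have hts' : t' • ω = ω := hts
        have ht : g⁻¹ * t' * g ∈ T := by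
          have := hT.conj_mem t' ht' g⁻¹
          simpa using this
        have h1 := hσ (g⁻¹ * t' * g) ht
        rw [← h20map_apply, ← h20map_apply] at h1
        have h2 : (⟨g * (g⁻¹ * t' * g) * g⁻¹, hT.conj_mem _ ht g⟩ : ↥T) = ⟨t', ht'⟩ := by
          apply Subtype.ext
          simp [mul_assoc]
        rw [h2] at h1
        have h3 : h = h20map T m eT ⟨g⁻¹ * t' * g, ht⟩ := by
          have : σ * h * σ⁻¹ = σ * h20map T m eT ⟨g⁻¹ * t' * g, ht⟩ * σ⁻¹ := by
            rw [← h1]; exact heq.symm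
          have := mul_right_cancel (mul_left_cancel this)
          exact this
        rw [h3, h20map_mem_stabImage]
        show (g⁻¹ * t' * g) • ω = ω
        rw [mul_smul, mul_smul, hgω, hts', hgω']
    have hL := hinv σ hσN
    obtain ⟨hlT, hlL⟩ := (memLG l).mp hl
    rw [memLG]
    refine ⟨hT.conj_mem l hlT g, ?_⟩
    have h1 := hσ l hlT
    rw [← h20map_apply, ← h20map_apply] at h1
    rw [hf, h1]
    exact hL _ hlL
  by_cases hle : LG ≤ M
  · -- `L = H`
    left
    apply le_antisymm _ hHL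
    intro l hl
    obtain ⟨t, rfl⟩ := h20map_surj T m eT l (hLA hl)
    rw [h20map_mem_stabImage]
    have : (t : G) ∈ LG := (memLG _).mpr ⟨t.2, hl⟩
    exact hle this
  · -- `L = A_m`
    right
    have hlt : M < LG ⊔ M := by
      apply lt_of_le_of_ne le_sup_right
      intro heq
      apply hle
      rw [heq]
      exact le_sup_left
    have htop : LG ⊔ M = ⊤ := hco.2 _ hlt
    have hMn : M ≤ Subgroup.normalizer (LG : Set G) := by
      intro g hg
      rw [Subgroup.mem_normalizer_iff]
      intro h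
      constructor
      · intro hh
        exact hnorm g hg h hh
      · intro hh
        have := hnorm g⁻¹ (inv_mem hg) _ hh
        simpa [mul_assoc] using this
    have hprod := Subgroup.coe_mul_of_right_le_normalizer_left LG M hMn
    apply le_antisymm hLA
    intro a ha
    obtain ⟨t, rfl⟩ := h20map_surj T m eT a ha
    have h1 : (t : G) ∈ ((LG ⊔ M : Subgroup G) : Set G) := by
      rw [htop]; exact Set.mem_univ _
    rw [hprod] at h1
    obtain ⟨l, hl, g, hg, hlg⟩ := h1
    obtain ⟨hlT, hlL⟩ := (memLG l).mp hl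
    have hgT : g ∈ T := by
      have : g = l⁻¹ * (t : G) := by
        rw [← hlg]; simp
      rw [this]
      exact T.mul_mem (T.inv_mem hlT) t.2
    have hgL : f ⟨g, hgT⟩ ∈ L := by
      apply hHL
      rw [hf, h20map_mem_stabImage]
      exact hg
    have : t = (⟨l, hlT⟩ : ↥T) * ⟨g, hgT⟩ := by
      apply Subtype.ext
      exact hlg.symm
    rw [this, map_mul]
    exact L.mul_mem hlL hgL

end Cfsg.Agent.Lib.Helper20.S3571
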