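import Mathlib
import Cfsg.Agent.Lib.Helper11.SST1
import Cfsg.Agent.Lib.Helper11.SST2

set_option autoImplicit false

namespace Cfsg.Agent.Lib.Helper20.SS

/-- the common step: from `8 k^3 X < 2^e` and `2^e * 4^mn * (2k)^(3k) ≤ (4n)^(3k)`. -/
theorem h20_B_step {n k X e mn : ℕ} (hk : 0 < k) (h1 : 8 * k ^ 3 * X < 2 ^ e)
    (h2 : 2 ^ e * 4 ^ mn * (2 * k) ^ (3 * k) ≤ (4 * n) ^ (3 * k)) :
    X * 4 ^ mn * (2 * k) ^ (3 * k + 3) < (4 * n) ^ (3 * k) := by
  have h3 : (2 * k) ^ (3 * k + 3) = (2 * k) ^ (3 * k) * (8 * k ^ 3) := by ring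
  have hpos : 0 < 4 ^ mn * (2 * k) ^ (3 * k) := by positivity
  calc X * 4 ^ mn * (2 * k) ^ (3 * k + 3)
      = (8 * k ^ 3 * X) * (4 ^ mn * (2 * k) ^ (3 * k)) := by rw [h3]; ring
    _ < 2 ^ e * (4 ^ mn * (2 * k) ^ (3 * k)) := Nat.mul_lt_mul_of_pos_right h1 hpos
    _ = 2 ^ e * 4 ^ mn * (2 * k) ^ (3 * k) := by ring
    _ ≤ (4 * n) ^ (3 * k) := h2

theorem h20_two_pow_half_le (k : ℕ) : 2 ^ (k / 2) ≤ 2 ^ k :=
  Nat.pow_le_pow_right (by norm_num) (Nat.div_le_self k 2)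

/-- SS-B: arithmetic of the range `2k ≤ n ≤ k^(3/2)`, `k` large. -/
theorem arith_B {n k : ℕ} (hk : 2 ^ 16 ≤ k) (hkn : 2 * k ≤ n) (hnk : n ^ 2 ≤ k ^ 3) :
    n ^ (Nat.sqrt n + 6) * 4 ^ min (3 * k) n * (2 * k) ^ (3 * k + 3) < (4 * n) ^ (3 * k) := by
  have hk0 : 0 < k := lt_of_lt_of_le (by norm_num) hk
  rcases Nat.lt_or_ge (8 * k) n with h8 | h8
  · -- (iv) `8k < n`
    have hT2 := arith_T2 hk h8 hnk
    have hmin : min (3 * k) n = 3 * k := min_eq_left (by omega)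
    rw [hmin]
    apply h20_B_step hk0 hT2
    calc 2 ^ (6 * k) * 4 ^ (3 * k) * (2 * k) ^ (3 * k)
        = (4 * (8 * k)) ^ (3 * k) := by
          rw [show (2:ℕ) ^ (6 * k) = 4 ^ (3 * k) by
            rw [show (4:ℕ) = 2 ^ 2 by norm_num, ← pow_mul]; congr 1; ring]
          rw [← mul_pow, ← mul_pow]; congr 1; ring
      _ ≤ (4 * n) ^ (3 * k) := Nat.pow_le_pow_left (by omega) _
  · have hT1 := arith_T1 hk h8
    rcases Nat.lt_or_ge (3 * k) n with h3 | h3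
    · -- (iii) `3k < n ≤ 8k`
      have hmin : min (3 * k) n = 3 * k := min_eq_left (by omega)
      rw [hmin]
      apply h20_B_step hk0 hT1
      have e1 : (2:ℕ) ^ (k / 2) * 4 ^ (3 * k) * (2 * k) ^ (3 * k)
          ≤ 2 ^ k * 4 ^ (3 * k) * (2 * k) ^ (3 * k) := by
        apply Nat.mul_le_mul_right
        apply Nat.mul_le_mul_right
        exact h20_two_pow_half_le k
      have e5 : (2:ℕ) ^ k * 4 ^ (3 * k) * (2 * k) ^ (3 * k) ≤ (4 * (3 * k)) ^ (3 * k) := by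
        have l : (2:ℕ) ^ k * 4 ^ (3 * k) * (2 * k) ^ (3 * k) = (2 * 64 * (8 * k ^ 3)) ^ k := by
          rw [show (4:ℕ) ^ (3 * k) = 64 ^ k by rw [pow_mul]; norm_num,
            show (2 * k) ^ (3 * k) = (8 * k ^ 3) ^ k by rw [pow_mul]; congr 1; ring,
            ← mul_pow, ← mul_pow]
        have r : (4 * (3 * k)) ^ (3 * k) = (1728 * k ^ 3) ^ k := by
          rw [pow_mul]; congr 1; ring
        rw [l, r]
        apply Nat.pow_le_pow_left
        nlinarith [pow_pos hk0 3]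
      calc (2:ℕ) ^ (k / 2) * 4 ^ (3 * k) * (2 * k) ^ (3 * k)
          ≤ 2 ^ k * 4 ^ (3 * k) * (2 * k) ^ (3 * k) := e1
        _ ≤ (4 * (3 * k)) ^ (3 * k) := e5
        _ ≤ (4 * n) ^ (3 * k) := Nat.pow_le_pow_left (by omega) _
    · -- `n ≤ 3k`
      have hmin : min (3 * k) n = n := min_eq_right h3
      rw [hmin]
      apply h20_B_step hk0 hT1
      rcases Nat.lt_or_ge (5 * k) (2 * n) with h5 | h5
      · -- (ii) `5k < 2n`, `n ≤ 3k`
        have a1 : (4:ℕ) ^ n ≤ 4 ^ (3 * k) := Nat.pow_le_pow_right (by norm_num) h3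
        have a2 : (10 * k) ^ (3 * k) ≤ (4 * n) ^ (3 * k) := Nat.pow_le_pow_left (by omega) _
        have a3 : (2:ℕ) ^ (k / 2) * 4 ^ (3 * k) * (2 * k) ^ (3 * k) ≤ (10 * k) ^ (3 * k) := by
          -- compare squares
          apply (Nat.pow_le_pow_iff_left (two_ne_zero)).mp
          have l : ((2:ℕ) ^ (k / 2) * 4 ^ (3 * k) * (2 * k) ^ (3 * k)) ^ 2
              ≤ (2 * (64 * (8 * k ^ 3)) ^ 2) ^ k := by
            have : ((2:ℕ) ^ (k / 2)) ^ 2 ≤ 2 ^ k := by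
              rw [← pow_mul]
              exact Nat.pow_le_pow_right (by norm_num) (by omega)
            calc ((2:ℕ) ^ (k / 2) * 4 ^ (3 * k) * (2 * k) ^ (3 * k)) ^ 2
                = ((2:ℕ) ^ (k / 2)) ^ 2 * ((4 ^ (3 * k) * (2 * k) ^ (3 * k)) ^ 2) := by ring
              _ ≤ 2 ^ k * ((4 ^ (3 * k) * (2 * k) ^ (3 * k)) ^ 2) := Nat.mul_le_mul_right _ this
              _ = (2 * (64 * (8 * k ^ 3)) ^ 2) ^ k := by
                  rw [show (4:ℕ) ^ (3 * k) = 64 ^ k by rw [pow_mul]; norm_num,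
                    show (2 * k) ^ (3 * k) = (8 * k ^ 3) ^ k by rw [pow_mul]; congr 1; ring,
                    ← mul_pow, ← pow_mul, mul_comm k 2, pow_mul, ← mul_pow]
          have r : ((10 * k) ^ (3 * k)) ^ 2 = ((1000 * k ^ 3) ^ 2) ^ k := by
            rw [show (1000 * k ^ 3) = (10 * k) ^ 3 by ring, ← pow_mul, ← pow_mul, ← pow_mul]
            congr 1; ring
          rw [r]
          refine l.trans (Nat.pow_le_pow_left ?_ _)
          nlinarith [pow_pos hk0 3, pow_pos hk0 6]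
        calc (2:ℕ) ^ (k / 2) * 4 ^ n * (2 * k) ^ (3 * k)
            ≤ 2 ^ (k / 2) * 4 ^ (3 * k) * (2 * k) ^ (3 * k) := by
              apply Nat.mul_le_mul_right
              exact Nat.mul_le_mul_left _ a1
          _ ≤ (10 * k) ^ (3 * k) := a3
          _ ≤ (4 * n) ^ (3 * k) := a2
      · -- (i) `2n ≤ 5k`
        have a1 : (4:ℕ) ^ n ≤ 2 ^ (5 * k) := by
          rw [show (4:ℕ) = 2 ^ 2 by norm_num, ← pow_mul]
          exact Nat.pow_le_pow_right (by norm_num) (by omega)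
        have a2 : (8 * k) ^ (3 * k) ≤ (4 * n) ^ (3 * k) := Nat.pow_le_pow_left (by omega) _
        have a3 : (2:ℕ) ^ (k / 2) * 2 ^ (5 * k) * (2 * k) ^ (3 * k) ≤ (8 * k) ^ (3 * k) := by
          have l : (2:ℕ) ^ (k / 2) * 2 ^ (5 * k) * (2 * k) ^ (3 * k)
              ≤ 2 ^ k * 2 ^ (5 * k) * (2 * k) ^ (3 * k) := by
            apply Nat.mul_le_mul_right
            apply Nat.mul_le_mul_right
            exact h20_two_pow_half_le k
          have r : (2:ℕ) ^ k * 2 ^ (5 * k) * (2 * k) ^ (3 * k) = (8 * k) ^ (3 * k) := by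
            rw [show (8 * k) ^ (3 * k) = (512 * k ^ 3) ^ k by rw [pow_mul]; congr 1; ring,
              show (2 * k) ^ (3 * k) = (8 * k ^ 3) ^ k by rw [pow_mul]; congr 1; ring,
              show (2:ℕ) ^ (5 * k) = 32 ^ k by rw [pow_mul]; norm_num,
              ← mul_pow, ← mul_pow]
            congr 1; ring
          exact l.trans r.le
        calc (2:ℕ) ^ (k / 2) * 4 ^ n * (2 * k) ^ (3 * k)
            ≤ 2 ^ (k / 2) * 2 ^ (5 * k) * (2 * k) ^ (3 * k) := by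
              apply Nat.mul_le_mul_right
              exact Nat.mul_le_mul_left _ a1
          _ ≤ (8 * k) ^ (3 * k) := a3
          _ ≤ (4 * n) ^ (3 * k) := a2

end Cfsg.Agent.Lib.Helper20.SS
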