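import Mathlib

set_option autoImplicit false
set_option maxRecDepth 100000

namespace Cfsg.Agent.Lib.Helper20.SS

/-- the property: a prime `p ≤ n` with `(n - p)^3 < n^2` -/
def h20NearP (n : ℕ) : Prop := ∃ p : ℕ, p.Prime ∧ p ≤ n ∧ (n - p) ^ 3 < n ^ 2

/-- one link of the chain -/
theorem h20_link (q q' : ℕ) (hq : q.Prime) (hstep : (q' - 1 - q) ^ 3 < q ^ 2) :
    ∀ n : ℕ, q ≤ n → n < q' → h20NearP n := by
  intro n h1 h2
  refine ⟨q, hq, h1, ?_⟩
  have h3 : n - q ≤ q' - 1 - q := by omega
  calc (n - q) ^ 3 ≤ (q' - 1 - q) ^ 3 := Nat.pow_le_pow_left h3 3
    _ < q ^ 2 := hstep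
    _ ≤ n ^ 2 := Nat.pow_le_pow_left h1 2

/-- joining two adjacent ranges -/
theorem h20_join {a b c : ℕ} (h1 : ∀ n : ℕ, a ≤ n → n < b → h20NearP n)
    (h2 : ∀ n : ℕ, b ≤ n → n < c → h20NearP n) : ∀ n : ℕ, a ≤ n → n < c → h20NearP n := by
  intro n ha hc
  rcases Nat.lt_or_ge n b with h | h
  · exact h1 n ha h
  · exact h2 n h hc

theorem h20_blk0 : ∀ n : ℕ, 2 ≤ n → n < 547 → h20NearP n :=
  (h20_join (h20_link 2 3 (by norm_num) (by norm_num))
  (h20_join (h20_link 3 5 (by norm_num) (by norm_num))
  (h20_join (h20_link 5 7 (by norm_num) (by norm_num))
  (h20_join (h20_link 7 11 (by norm_num) (by norm_num))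
  (h20_join (h20_link 11 13 (by norm_num) (by norm_num))
  (h20_join (h20_link 13 19 (by norm_num) (by norm_num))
  (h20_join (h20_link 19 23 (by norm_num) (by norm_num))
  (h20_join (h20_link 23 31 (by norm_num) (by norm_num))
  (h20_join (h20_link 31 41 (by norm_num) (by norm_num))
  (h20_join (h20_link 41 53 (by norm_num) (by norm_num))
  (h20_join (h20_link 53 67 (by norm_num) (by norm_num))
  (h20_join (h20_link 67 83 (by norm_num) (by norm_num))
  (h20_join (h20_link 83 103 (by norm_num) (by norm_num))
  (h20_join (h20_link 103 113 (by norm_num) (by norm_num))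
  (h20_join (h20_link 113 137 (by norm_num) (by norm_num))
  (h20_join (h20_link 137 163 (by norm_num) (by norm_num))
  (h20_join (h20_link 163 193 (by norm_num) (by norm_num))
  (h20_join (h20_link 193 227 (by norm_num) (by norm_num))
  (h20_join (h20_link 227 263 (by norm_num) (by norm_num))
  (h20_join (h20_link 263 293 (by norm_num) (by norm_num))
  (h20_join (h20_link 293 337 (by norm_num) (by norm_num))
  (h20_join (h20_link 337 383 (by norm_num) (by norm_num))
  (h20_join (h20_link 383 433 (by norm_num) (by norm_num))
  (h20_join (h20_link 433 491 (by norm_num) (by norm_num))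
  (h20_link 491 547 (by norm_num) (by norm_num))))))))))))))))))))))))))

theorem h20_blk1 : ∀ n : ℕ, 547 ≤ n → n < 4133 → h20NearP n :=
  (h20_join (h20_link 547 613 (by norm_num) (by norm_num))
  (h20_join (h20_link 613 683 (by norm_num) (by norm_num))
  (h20_join (h20_link 683 761 (by norm_num) (by norm_num))
  (h20_join (h20_link 761 839 (by norm_num) (by norm_num))
  (h20_join (h20_link 839 919 (by norm_num) (by norm_num))
  (h20_join (h20_link 919 1013 (by norm_num) (by norm_num))
  (h20_join (h20_link 1013 1109 (by norm_num) (by norm_num))
  (h20_join (h20_link 1109 1217 (by norm_num) (by norm_num))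
  (h20_join (h20_link 1217 1327 (by norm_num) (by norm_num))
  (h20_join (h20_link 1327 1447 (by norm_num) (by norm_num))
  (h20_join (h20_link 1447 1571 (by norm_num) (by norm_num))
  (h20_join (h20_link 1571 1699 (by norm_num) (by norm_num))
  (h20_join (h20_link 1699 1831 (by norm_num) (by norm_num))
  (h20_join (h20_link 1831 1979 (by norm_num) (by norm_num))
  (h20_join (h20_link 1979 2137 (by norm_num) (by norm_num))
  (h20_join (h20_link 2137 2297 (by norm_num) (by norm_num))
  (h20_join (h20_link 2297 2467 (by norm_num) (by norm_num))
  (h20_join (h20_link 2467 2647 (by norm_num) (by norm_num))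
  (h20_join (h20_link 2647 2837 (by norm_num) (by norm_num))
  (h20_join (h20_link 2837 3037 (by norm_num) (by norm_num))
  (h20_join (h20_link 3037 3229 (by norm_num) (by norm_num))
  (h20_join (h20_link 3229 3433 (by norm_num) (by norm_num))
  (h20_join (h20_link 3433 3659 (by norm_num) (by norm_num))
  (h20_join (h20_link 3659 3889 (by norm_num) (by norm_num))
  (h20_link 3889 4133 (by norm_num) (by norm_num))))))))))))))))))))))))))

theorem h20_blk2 : ∀ n : ℕ, 4133 ≤ n → n < 14057 → h20NearP n :=
  (h20_join (h20_link 4133 4391 (by norm_num) (by norm_num))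
  (h20_join (h20_link 4391 4657 (by norm_num) (by norm_num))
  (h20_join (h20_link 4657 4933 (by norm_num) (by norm_num))
  (h20_join (h20_link 4933 5209 (by norm_num) (by norm_num))
  (h20_join (h20_link 5209 5507 (by norm_num) (by norm_num))
  (h20_join (h20_link 5507 5813 (by norm_num) (by norm_num))
  (h20_join (h20_link 5813 6133 (by norm_num) (by norm_num))
  (h20_join (h20_link 6133 6469 (by norm_num) (by norm_num))
  (h20_join (h20_link 6469 6803 (by norm_num) (by norm_num))
  (h20_join (h20_link 6803 7159 (by norm_num) (by norm_num))
  (h20_join (h20_link 7159 7529 (by norm_num) (by norm_num))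
  (h20_join (h20_link 7529 7907 (by norm_num) (by norm_num))
  (h20_join (h20_link 7907 8297 (by norm_num) (by norm_num))
  (h20_join (h20_link 8297 8707 (by norm_num) (by norm_num))
  (h20_join (h20_link 8707 9127 (by norm_num) (by norm_num))
  (h20_join (h20_link 9127 9551 (by norm_num) (by norm_num))
  (h20_join (h20_link 9551 9973 (by norm_num) (by norm_num))
  (h20_join (h20_link 9973 10433 (by norm_num) (by norm_num))
  (h20_join (h20_link 10433 10909 (by norm_num) (by norm_num))
  (h20_join (h20_link 10909 11399 (by norm_num) (by norm_num))
  (h20_join (h20_link 11399 11903 (by norm_num) (by norm_num))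
  (h20_join (h20_link 11903 12421 (by norm_num) (by norm_num))
  (h20_join (h20_link 12421 12953 (by norm_num) (by norm_num))
  (h20_join (h20_link 12953 13499 (by norm_num) (by norm_num))
  (h20_link 13499 14057 (by norm_num) (by norm_num))))))))))))))))))))))))))

theorem h20_blk3 : ∀ n : ℕ, 14057 ≤ n → n < 33703 → h20NearP n :=
  (h20_join (h20_link 14057 14639 (by norm_num) (by norm_num))
  (h20_join (h20_link 14639 15233 (by norm_num) (by norm_num))
  (h20_join (h20_link 15233 15823 (by norm_num) (by norm_num))
  (h20_join (h20_link 15823 16453 (by norm_num) (by norm_num))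
  (h20_join (h20_link 16453 17099 (by norm_num) (by norm_num))
  (h20_join (h20_link 17099 17761 (by norm_num) (by norm_num))
  (h20_join (h20_link 17761 18439 (by norm_num) (by norm_num))
  (h20_join (h20_link 18439 19121 (by norm_num) (by norm_num))
  (h20_join (h20_link 19121 19819 (by norm_num) (by norm_num))
  (h20_join (h20_link 19819 20551 (by norm_num) (by norm_num))
  (h20_join (h20_link 20551 21283 (by norm_num) (by norm_num))
  (h20_join (h20_link 21283 22051 (by norm_num) (by norm_num))
  (h20_join (h20_link 22051 22817 (by norm_num) (by norm_num))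
  (h20_join (h20_link 22817 23609 (by norm_num) (by norm_num))
  (h20_join (h20_link 23609 24421 (by norm_num) (by norm_num))
  (h20_join (h20_link 24421 25261 (by norm_num) (by norm_num))
  (h20_join (h20_link 25261 26119 (by norm_num) (by norm_num))
  (h20_join (h20_link 26119 26993 (by norm_num) (by norm_num))
  (h20_join (h20_link 26993 27893 (by norm_num) (by norm_num))
  (h20_join (h20_link 27893 28813 (by norm_num) (by norm_num))
  (h20_join (h20_link 28813 29753 (by norm_num) (by norm_num))
  (h20_join (h20_link 29753 30713 (by norm_num) (by norm_num))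
  (h20_join (h20_link 30713 31687 (by norm_num) (by norm_num))
  (h20_join (h20_link 31687 32687 (by norm_num) (by norm_num))
  (h20_link 32687 33703 (by norm_num) (by norm_num))))))))))))))))))))))))))

theorem h20_blk4 : ∀ n : ℕ, 33703 ≤ n → n < 66467 → h20NearP n :=
  (h20_join (h20_link 33703 34747 (by norm_num) (by norm_num))
  (h20_join (h20_link 34747 35809 (by norm_num) (by norm_num))
  (h20_join (h20_link 35809 36887 (by norm_num) (by norm_num))
  (h20_join (h20_link 36887 37993 (by norm_num) (by norm_num))
  (h20_join (h20_link 37993 39119 (by norm_num) (by norm_num))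
  (h20_join (h20_link 39119 40253 (by norm_num) (by norm_num))
  (h20_join (h20_link 40253 41413 (by norm_num) (by norm_num))
  (h20_join (h20_link 41413 42589 (by norm_num) (by norm_num))
  (h20_join (h20_link 42589 43801 (by norm_num) (by norm_num))
  (h20_join (h20_link 43801 45013 (by norm_num) (by norm_num))
  (h20_join (h20_link 45013 46279 (by norm_num) (by norm_num))
  (h20_join (h20_link 46279 47569 (by norm_num) (by norm_num))
  (h20_join (h20_link 47569 48871 (by norm_num) (by norm_num))
  (h20_join (h20_link 48871 50207 (by norm_num) (by norm_num))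
  (h20_join (h20_link 50207 51563 (by norm_num) (by norm_num))
  (h20_join (h20_link 51563 52937 (by norm_num) (by norm_num))
  (h20_join (h20_link 52937 54347 (by norm_num) (by norm_num))
  (h20_join (h20_link 54347 55763 (by norm_num) (by norm_num))
  (h20_join (h20_link 55763 57223 (by norm_num) (by norm_num))
  (h20_join (h20_link 57223 58699 (by norm_num) (by norm_num))
  (h20_join (h20_link 58699 60209 (by norm_num) (by norm_num))
  (h20_join (h20_link 60209 61729 (by norm_num) (by norm_num))
  (h20_join (h20_link 61729 63281 (by norm_num) (by norm_num))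
  (h20_join (h20_link 63281 64853 (by norm_num) (by norm_num))
  (h20_link 64853 66467 (by norm_num) (by norm_num))))))))))))))))))))))))))

theorem h20_blk5 : ∀ n : ℕ, 66467 ≤ n → n < 115693 → h20NearP n :=
  (h20_join (h20_link 66467 68099 (by norm_num) (by norm_num))
  (h20_join (h20_link 68099 69767 (by norm_num) (by norm_num))
  (h20_join (h20_link 69767 71453 (by norm_num) (by norm_num))
  (h20_join (h20_link 71453 73141 (by norm_num) (by norm_num))
  (h20_join (h20_link 73141 74887 (by norm_num) (by norm_num))
  (h20_join (h20_link 74887 76651 (by norm_num) (by norm_num))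
  (h20_join (h20_link 76651 78439 (by norm_num) (by norm_num))
  (h20_join (h20_link 78439 80263 (by norm_num) (by norm_num))
  (h20_join (h20_link 80263 82073 (by norm_num) (by norm_num))
  (h20_join (h20_link 82073 83939 (by norm_num) (by norm_num))
  (h20_join (h20_link 83939 85853 (by norm_num) (by norm_num))
  (h20_join (h20_link 85853 87797 (by norm_num) (by norm_num))
  (h20_join (h20_link 87797 89767 (by norm_num) (by norm_num))
  (h20_join (h20_link 89767 91771 (by norm_num) (by norm_num))
  (h20_join (h20_link 91771 93787 (by norm_num) (by norm_num))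
  (h20_join (h20_link 93787 95819 (by norm_num) (by norm_num))
  (h20_join (h20_link 95819 97883 (by norm_num) (by norm_num))
  (h20_join (h20_link 97883 100003 (by norm_num) (by norm_num))
  (h20_join (h20_link 100003 102149 (by norm_num) (by norm_num))
  (h20_join (h20_link 102149 104327 (by norm_num) (by norm_num))
  (h20_join (h20_link 104327 106543 (by norm_num) (by norm_num))
  (h20_join (h20_link 106543 108791 (by norm_num) (by norm_num))
  (h20_join (h20_link 108791 111053 (by norm_num) (by norm_num))
  (h20_join (h20_link 111053 113363 (by norm_num) (by norm_num))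
  (h20_link 113363 115693 (by norm_num) (by norm_num))))))))))))))))))))))))))

theorem h20_blk6 : ∀ n : ℕ, 115693 ≤ n → n < 185021 → h20NearP n :=
  (h20_join (h20_link 115693 118061 (by norm_num) (by norm_num))
  (h20_join (h20_link 118061 120431 (by norm_num) (by norm_num))
  (h20_join (h20_link 120431 122869 (by norm_num) (by norm_num))
  (h20_join (h20_link 122869 125339 (by norm_num) (by norm_num))
  (h20_join (h20_link 125339 127843 (by norm_num) (by norm_num))
  (h20_join (h20_link 127843 130379 (by norm_num) (by norm_num))
  (h20_join (h20_link 130379 132949 (by norm_num) (by norm_num))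
  (h20_join (h20_link 132949 135533 (by norm_num) (by norm_num))
  (h20_join (h20_link 135533 138163 (by norm_num) (by norm_num))
  (h20_join (h20_link 138163 140831 (by norm_num) (by norm_num))
  (h20_join (h20_link 140831 143537 (by norm_num) (by norm_num))
  (h20_join (h20_link 143537 146273 (by norm_num) (by norm_num))
  (h20_join (h20_link 146273 149033 (by norm_num) (by norm_num))
  (h20_join (h20_link 149033 151841 (by norm_num) (by norm_num))
  (h20_join (h20_link 151841 154681 (by norm_num) (by norm_num))
  (h20_join (h20_link 154681 157561 (by norm_num) (by norm_num))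
  (h20_join (h20_link 157561 160453 (by norm_num) (by norm_num))
  (h20_join (h20_link 160453 163403 (by norm_num) (by norm_num))
  (h20_join (h20_link 163403 166363 (by norm_num) (by norm_num))
  (h20_join (h20_link 166363 169373 (by norm_num) (by norm_num))
  (h20_join (h20_link 169373 172433 (by norm_num) (by norm_num))
  (h20_join (h20_link 172433 175523 (by norm_num) (by norm_num))
  (h20_join (h20_link 175523 178643 (by norm_num) (by norm_num))
  (h20_join (h20_link 178643 181813 (by norm_num) (by norm_num))
  (h20_link 181813 185021 (by norm_num) (by norm_num))))))))))))))))))))))))))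

theorem h20_blk7 : ∀ n : ℕ, 185021 ≤ n → n < 277741 → h20NearP n :=
  (h20_join (h20_link 185021 188261 (by norm_num) (by norm_num))
  (h20_join (h20_link 188261 191537 (by norm_num) (by norm_num))
  (h20_join (h20_link 191537 194839 (by norm_num) (by norm_num))
  (h20_join (h20_link 194839 198197 (by norm_num) (by norm_num))
  (h20_join (h20_link 198197 201589 (by norm_num) (by norm_num))
  (h20_join (h20_link 201589 205019 (by norm_num) (by norm_num))
  (h20_join (h20_link 205019 208493 (by norm_num) (by norm_num))
  (h20_join (h20_link 208493 211997 (by norm_num) (by norm_num))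
  (h20_join (h20_link 211997 215531 (by norm_num) (by norm_num))
  (h20_join (h20_link 215531 219119 (by norm_num) (by norm_num))
  (h20_join (h20_link 219119 222731 (by norm_num) (by norm_num))
  (h20_join (h20_link 222731 226397 (by norm_num) (by norm_num))
  (h20_join (h20_link 226397 230107 (by norm_num) (by norm_num))
  (h20_join (h20_link 230107 233861 (by norm_num) (by norm_num))
  (h20_join (h20_link 233861 237631 (by norm_num) (by norm_num))
  (h20_join (h20_link 237631 241463 (by norm_num) (by norm_num))
  (h20_join (h20_link 241463 245339 (by norm_num) (by norm_num))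
  (h20_join (h20_link 245339 249257 (by norm_num) (by norm_num))
  (h20_join (h20_link 249257 253159 (by norm_num) (by norm_num))
  (h20_join (h20_link 253159 257161 (by norm_num) (by norm_num))
  (h20_join (h20_link 257161 261169 (by norm_num) (by norm_num))
  (h20_join (h20_link 261169 265249 (by norm_num) (by norm_num))
  (h20_join (h20_link 265249 269377 (by norm_num) (by norm_num))
  (h20_join (h20_link 269377 273527 (by norm_num) (by norm_num))
  (h20_link 273527 277741 (by norm_num) (by norm_num))))))))))))))))))))))))))

theorem h20_blk8 : ∀ n : ℕ, 277741 ≤ n → n < 397469 → h20NearP n :=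
  (h20_join (h20_link 277741 281993 (by norm_num) (by norm_num))
  (h20_join (h20_link 281993 286289 (by norm_num) (by norm_num))
  (h20_join (h20_link 286289 290627 (by norm_num) (by norm_num))
  (h20_join (h20_link 290627 295007 (by norm_num) (by norm_num))
  (h20_join (h20_link 295007 299419 (by norm_num) (by norm_num))
  (h20_join (h20_link 299419 303889 (by norm_num) (by norm_num))
  (h20_join (h20_link 303889 308383 (by norm_num) (by norm_num))
  (h20_join (h20_link 308383 312943 (by norm_num) (by norm_num))
  (h20_join (h20_link 312943 317539 (by norm_num) (by norm_num))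
  (h20_join (h20_link 317539 322193 (by norm_num) (by norm_num))
  (h20_join (h20_link 322193 326881 (by norm_num) (by norm_num))
  (h20_join (h20_link 326881 331613 (by norm_num) (by norm_num))
  (h20_join (h20_link 331613 336403 (by norm_num) (by norm_num))
  (h20_join (h20_link 336403 341233 (by norm_num) (by norm_num))
  (h20_join (h20_link 341233 346117 (by norm_num) (by norm_num))
  (h20_join (h20_link 346117 351047 (by norm_num) (by norm_num))
  (h20_join (h20_link 351047 356023 (by norm_num) (by norm_num))
  (h20_join (h20_link 356023 361033 (by norm_num) (by norm_num))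
  (h20_join (h20_link 361033 366103 (by norm_num) (by norm_num))
  (h20_join (h20_link 366103 371213 (by norm_num) (by norm_num))
  (h20_join (h20_link 371213 376373 (by norm_num) (by norm_num))
  (h20_join (h20_link 376373 381569 (by norm_num) (by norm_num))
  (h20_join (h20_link 381569 386809 (by norm_num) (by norm_num))
  (h20_join (h20_link 386809 392113 (by norm_num) (by norm_num))
  (h20_link 392113 397469 (by norm_num) (by norm_num))))))))))))))))))))))))))

theorem h20_blk9 : ∀ n : ℕ, 397469 ≤ n → n < 547513 → h20NearP n :=
  (h20_join (h20_link 397469 402869 (by norm_num) (by norm_num))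
  (h20_join (h20_link 402869 408311 (by norm_num) (by norm_num))
  (h20_join (h20_link 408311 413807 (by norm_num) (by norm_num))
  (h20_join (h20_link 413807 419351 (by norm_num) (by norm_num))
  (h20_join (h20_link 419351 424939 (by norm_num) (by norm_num))
  (h20_join (h20_link 424939 430589 (by norm_num) (by norm_num))
  (h20_join (h20_link 430589 436291 (by norm_num) (by norm_num))
  (h20_join (h20_link 436291 442033 (by norm_num) (by norm_num))
  (h20_join (h20_link 442033 447829 (by norm_num) (by norm_num))
  (h20_join (h20_link 447829 453683 (by norm_num) (by norm_num))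
  (h20_join (h20_link 453683 459523 (by norm_num) (by norm_num))
  (h20_join (h20_link 459523 465469 (by norm_num) (by norm_num))
  (h20_join (h20_link 465469 471467 (by norm_num) (by norm_num))
  (h20_join (h20_link 471467 477523 (by norm_num) (by norm_num))
  (h20_join (h20_link 477523 483629 (by norm_num) (by norm_num))
  (h20_join (h20_link 483629 489791 (by norm_num) (by norm_num))
  (h20_join (h20_link 489791 495983 (by norm_num) (by norm_num))
  (h20_join (h20_link 495983 502247 (by norm_num) (by norm_num))
  (h20_join (h20_link 502247 508559 (by norm_num) (by norm_num))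
  (h20_join (h20_link 508559 514903 (by norm_num) (by norm_num))
  (h20_join (h20_link 514903 521317 (by norm_num) (by norm_num))
  (h20_join (h20_link 521317 527789 (by norm_num) (by norm_num))
  (h20_join (h20_link 527789 534311 (by norm_num) (by norm_num))
  (h20_join (h20_link 534311 540877 (by norm_num) (by norm_num))
  (h20_link 540877 547513 (by norm_num) (by norm_num))))))))))))))))))))))))))

theorem h20_blk10 : ∀ n : ℕ, 547513 ≤ n → n < 731413 → h20NearP n :=
  (h20_join (h20_link 547513 554189 (by norm_num) (by norm_num))
  (h20_join (h20_link 554189 560929 (by norm_num) (by norm_num))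
  (h20_join (h20_link 560929 567719 (by norm_num) (by norm_num))
  (h20_join (h20_link 567719 574547 (by norm_num) (by norm_num))
  (h20_join (h20_link 574547 581459 (by norm_num) (by norm_num))
  (h20_join (h20_link 581459 588403 (by norm_num) (by norm_num))
  (h20_join (h20_link 588403 595411 (by norm_num) (by norm_num))
  (h20_join (h20_link 595411 602489 (by norm_num) (by norm_num))
  (h20_join (h20_link 602489 609619 (by norm_num) (by norm_num))
  (h20_join (h20_link 609619 616799 (by norm_num) (by norm_num))
  (h20_join (h20_link 616799 624037 (by norm_num) (by norm_num))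
  (h20_join (h20_link 624037 631339 (by norm_num) (by norm_num))
  (h20_join (h20_link 631339 638699 (by norm_num) (by norm_num))
  (h20_join (h20_link 638699 646103 (by norm_num) (by norm_num))
  (h20_join (h20_link 646103 653563 (by norm_num) (by norm_num))
  (h20_join (h20_link 653563 661093 (by norm_num) (by norm_num))
  (h20_join (h20_link 661093 668677 (by norm_num) (by norm_num))
  (h20_join (h20_link 668677 676297 (by norm_num) (by norm_num))
  (h20_join (h20_link 676297 683983 (by norm_num) (by norm_num))
  (h20_join (h20_link 683983 691739 (by norm_num) (by norm_num))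
  (h20_join (h20_link 691739 699557 (by norm_num) (by norm_num))
  (h20_join (h20_link 699557 707437 (by norm_num) (by norm_num))
  (h20_join (h20_link 707437 715373 (by norm_num) (by norm_num))
  (h20_join (h20_link 715373 723361 (by norm_num) (by norm_num))
  (h20_link 723361 731413 (by norm_num) (by norm_num))))))))))))))))))))))))))

theorem h20_blk11 : ∀ n : ℕ, 731413 ≤ n → n < 952559 → h20NearP n :=
  (h20_join (h20_link 731413 739523 (by norm_num) (by norm_num))
  (h20_join (h20_link 739523 747679 (by norm_num) (by norm_num))
  (h20_join (h20_link 747679 755903 (by norm_num) (by norm_num))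
  (h20_join (h20_link 755903 764189 (by norm_num) (by norm_num))
  (h20_join (h20_link 764189 772537 (by norm_num) (by norm_num))
  (h20_join (h20_link 772537 780953 (by norm_num) (by norm_num))
  (h20_join (h20_link 780953 789419 (by norm_num) (by norm_num))
  (h20_join (h20_link 789419 797957 (by norm_num) (by norm_num))
  (h20_join (h20_link 797957 806549 (by norm_num) (by norm_num))
  (h20_join (h20_link 806549 815209 (by norm_num) (by norm_num))
  (h20_join (h20_link 815209 823913 (by norm_num) (by norm_num))
  (h20_join (h20_link 823913 832693 (by norm_num) (by norm_num))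
  (h20_join (h20_link 832693 841541 (by norm_num) (by norm_num))
  (h20_join (h20_link 841541 850453 (by norm_num) (by norm_num))
  (h20_join (h20_link 850453 859423 (by norm_num) (by norm_num))
  (h20_join (h20_link 859423 868459 (by norm_num) (by norm_num))
  (h20_join (h20_link 868459 877543 (by norm_num) (by norm_num))
  (h20_join (h20_link 877543 886667 (by norm_num) (by norm_num))
  (h20_join (h20_link 886667 895889 (by norm_num) (by norm_num))
  (h20_join (h20_link 895889 905171 (by norm_num) (by norm_num))
  (h20_join (h20_link 905171 914521 (by norm_num) (by norm_num))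
  (h20_join (h20_link 914521 923939 (by norm_num) (by norm_num))
  (h20_join (h20_link 923939 933421 (by norm_num) (by norm_num))
  (h20_join (h20_link 933421 942943 (by norm_num) (by norm_num))
  (h20_link 942943 952559 (by norm_num) (by norm_num))))))))))))))))))))))))))

theorem h20_blk12 : ∀ n : ℕ, 952559 ≤ n → n < 1214489 → h20NearP n :=
  (h20_join (h20_link 952559 962237 (by norm_num) (by norm_num))
  (h20_join (h20_link 962237 971981 (by norm_num) (by norm_num))
  (h20_join (h20_link 971981 981769 (by norm_num) (by norm_num))
  (h20_join (h20_link 981769 991643 (by norm_num) (by norm_num))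
  (h20_join (h20_link 991643 1001587 (by norm_num) (by norm_num))
  (h20_join (h20_link 1001587 1011589 (by norm_num) (by norm_num))
  (h20_join (h20_link 1011589 1021663 (by norm_num) (by norm_num))
  (h20_join (h20_link 1021663 1031761 (by norm_num) (by norm_num))
  (h20_join (h20_link 1031761 1041961 (by norm_num) (by norm_num))
  (h20_join (h20_link 1041961 1052237 (by norm_num) (by norm_num))
  (h20_join (h20_link 1052237 1062563 (by norm_num) (by norm_num))
  (h20_join (h20_link 1062563 1072969 (by norm_num) (by norm_num))
  (h20_join (h20_link 1072969 1083449 (by norm_num) (by norm_num))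
  (h20_join (h20_link 1083449 1093997 (by norm_num) (by norm_num))
  (h20_join (h20_link 1093997 1104613 (by norm_num) (by norm_num))
  (h20_join (h20_link 1104613 1115299 (by norm_num) (by norm_num))
  (h20_join (h20_link 1115299 1126043 (by norm_num) (by norm_num))
  (h20_join (h20_link 1126043 1136843 (by norm_num) (by norm_num))
  (h20_join (h20_link 1136843 1147717 (by norm_num) (by norm_num))
  (h20_join (h20_link 1147717 1158679 (by norm_num) (by norm_num))
  (h20_join (h20_link 1158679 1169687 (by norm_num) (by norm_num))
  (h20_join (h20_link 1169687 1180771 (by norm_num) (by norm_num))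
  (h20_join (h20_link 1180771 1191941 (by norm_num) (by norm_num))
  (h20_join (h20_link 1191941 1203179 (by norm_num) (by norm_num))
  (h20_link 1203179 1214489 (by norm_num) (by norm_num))))))))))))))))))))))))))

theorem h20_blk13 : ∀ n : ℕ, 1214489 ≤ n → n < 1520611 → h20NearP n :=
  (h20_join (h20_link 1214489 1225871 (by norm_num) (by norm_num))
  (h20_join (h20_link 1225871 1237309 (by norm_num) (by norm_num))
  (h20_join (h20_link 1237309 1248833 (by norm_num) (by norm_num))
  (h20_join (h20_link 1248833 1260419 (by norm_num) (by norm_num))
  (h20_join (h20_link 1260419 1272079 (by norm_num) (by norm_num))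
  (h20_join (h20_link 1272079 1283797 (by norm_num) (by norm_num))
  (h20_join (h20_link 1283797 1295603 (by norm_num) (by norm_num))
  (h20_join (h20_link 1295603 1307483 (by norm_num) (by norm_num))
  (h20_join (h20_link 1307483 1319429 (by norm_num) (by norm_num))
  (h20_join (h20_link 1319429 1331443 (by norm_num) (by norm_num))
  (h20_join (h20_link 1331443 1343519 (by norm_num) (by norm_num))
  (h20_join (h20_link 1343519 1355693 (by norm_num) (by norm_num))
  (h20_join (h20_link 1355693 1367929 (by norm_num) (by norm_num))
  (h20_join (h20_link 1367929 1380251 (by norm_num) (by norm_num))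
  (h20_join (h20_link 1380251 1392631 (by norm_num) (by norm_num))
  (h20_join (h20_link 1392631 1405099 (by norm_num) (by norm_num))
  (h20_join (h20_link 1405099 1417639 (by norm_num) (by norm_num))
  (h20_join (h20_link 1417639 1430243 (by norm_num) (by norm_num))
  (h20_join (h20_link 1430243 1442923 (by norm_num) (by norm_num))
  (h20_join (h20_link 1442923 1455683 (by norm_num) (by norm_num))
  (h20_join (h20_link 1455683 1468517 (by norm_num) (by norm_num))
  (h20_join (h20_link 1468517 1481413 (by norm_num) (by norm_num))
  (h20_join (h20_link 1481413 1494403 (by norm_num) (by norm_num))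
  (h20_join (h20_link 1494403 1507469 (by norm_num) (by norm_num))
  (h20_link 1507469 1520611 (by norm_num) (by norm_num))))))))))))))))))))))))))

theorem h20_blk14 : ∀ n : ℕ, 1520611 ≤ n → n < 1874399 → h20NearP n :=
  (h20_join (h20_link 1520611 1533817 (by norm_num) (by norm_num))
  (h20_join (h20_link 1533817 1547101 (by norm_num) (by norm_num))
  (h20_join (h20_link 1547101 1560473 (by norm_num) (by norm_num))
  (h20_join (h20_link 1560473 1573927 (by norm_num) (by norm_num))
  (h20_join (h20_link 1573927 1587449 (by norm_num) (by norm_num))
  (h20_join (h20_link 1587449 1601051 (by norm_num) (by norm_num))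
  (h20_join (h20_link 1601051 1614733 (by norm_num) (by norm_num))
  (h20_join (h20_link 1614733 1628491 (by norm_num) (by norm_num))
  (h20_join (h20_link 1628491 1642327 (by norm_num) (by norm_num))
  (h20_join (h20_link 1642327 1656247 (by norm_num) (by norm_num))
  (h20_join (h20_link 1656247 1670213 (by norm_num) (by norm_num))
  (h20_join (h20_link 1670213 1684289 (by norm_num) (by norm_num))
  (h20_join (h20_link 1684289 1698427 (by norm_num) (by norm_num))
  (h20_join (h20_link 1698427 1712639 (by norm_num) (by norm_num))
  (h20_join (h20_link 1712639 1726951 (by norm_num) (by norm_num))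
  (h20_join (h20_link 1726951 1741339 (by norm_num) (by norm_num))
  (h20_join (h20_link 1741339 1755799 (by norm_num) (by norm_num))
  (h20_join (h20_link 1755799 1770337 (by norm_num) (by norm_num))
  (h20_join (h20_link 1770337 1784963 (by norm_num) (by norm_num))
  (h20_join (h20_link 1784963 1799639 (by norm_num) (by norm_num))
  (h20_join (h20_link 1799639 1814431 (by norm_num) (by norm_num))
  (h20_join (h20_link 1814431 1829299 (by norm_num) (by norm_num))
  (h20_join (h20_link 1829299 1844257 (by norm_num) (by norm_num))
  (h20_join (h20_link 1844257 1859281 (by norm_num) (by norm_num))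
  (h20_link 1859281 1874399 (by norm_num) (by norm_num))))))))))))))))))))))))))

theorem h20_blk15 : ∀ n : ℕ, 1874399 ≤ n → n < 2279161 → h20NearP n :=
  (h20_join (h20_link 1874399 1889579 (by norm_num) (by norm_num))
  (h20_join (h20_link 1889579 1904849 (by norm_num) (by norm_num))
  (h20_join (h20_link 1904849 1920211 (by norm_num) (by norm_num))
  (h20_join (h20_link 1920211 1935641 (by norm_num) (by norm_num))
  (h20_join (h20_link 1935641 1951153 (by norm_num) (by norm_num))
  (h20_join (h20_link 1951153 1966697 (by norm_num) (by norm_num))
  (h20_join (h20_link 1966697 1982381 (by norm_num) (by norm_num))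
  (h20_join (h20_link 1982381 1998133 (by norm_num) (by norm_num))
  (h20_join (h20_link 1998133 2013989 (by norm_num) (by norm_num))
  (h20_join (h20_link 2013989 2029921 (by norm_num) (by norm_num))
  (h20_join (h20_link 2029921 2045929 (by norm_num) (by norm_num))
  (h20_join (h20_link 2045929 2062043 (by norm_num) (by norm_num))
  (h20_join (h20_link 2062043 2078243 (by norm_num) (by norm_num))
  (h20_join (h20_link 2078243 2094523 (by norm_num) (by norm_num))
  (h20_join (h20_link 2094523 2110891 (by norm_num) (by norm_num))
  (h20_join (h20_link 2110891 2127347 (by norm_num) (by norm_num))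
  (h20_join (h20_link 2127347 2143877 (by norm_num) (by norm_num))
  (h20_join (h20_link 2143877 2160469 (by norm_num) (by norm_num))
  (h20_join (h20_link 2160469 2177167 (by norm_num) (by norm_num))
  (h20_join (h20_link 2177167 2193959 (by norm_num) (by norm_num))
  (h20_join (h20_link 2193959 2210837 (by norm_num) (by norm_num))
  (h20_join (h20_link 2210837 2227801 (by norm_num) (by norm_num))
  (h20_join (h20_link 2227801 2244859 (by norm_num) (by norm_num))
  (h20_join (h20_link 2244859 2261993 (by norm_num) (by norm_num))
  (h20_link 2261993 2279161 (by norm_num) (by norm_num))))))))))))))))))))))))))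

theorem h20_blk16 : ∀ n : ℕ, 2279161 ≤ n → n < 2738539 → h20NearP n :=
  (h20_join (h20_link 2279161 2296447 (by norm_num) (by norm_num))
  (h20_join (h20_link 2296447 2313851 (by norm_num) (by norm_num))
  (h20_join (h20_link 2313851 2331337 (by norm_num) (by norm_num))
  (h20_join (h20_link 2331337 2348911 (by norm_num) (by norm_num))
  (h20_join (h20_link 2348911 2366543 (by norm_num) (by norm_num))
  (h20_join (h20_link 2366543 2384297 (by norm_num) (by norm_num))
  (h20_join (h20_link 2384297 2402107 (by norm_num) (by norm_num))
  (h20_join (h20_link 2402107 2420017 (by norm_num) (by norm_num))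
  (h20_join (h20_link 2420017 2438027 (by norm_num) (by norm_num))
  (h20_join (h20_link 2438027 2456141 (by norm_num) (by norm_num))
  (h20_join (h20_link 2456141 2474321 (by norm_num) (by norm_num))
  (h20_join (h20_link 2474321 2492603 (by norm_num) (by norm_num))
  (h20_join (h20_link 2492603 2510971 (by norm_num) (by norm_num))
  (h20_join (h20_link 2510971 2529421 (by norm_num) (by norm_num))
  (h20_join (h20_link 2529421 2547973 (by norm_num) (by norm_num))
  (h20_join (h20_link 2547973 2566601 (by norm_num) (by norm_num))
  (h20_join (h20_link 2566601 2585347 (by norm_num) (by norm_num))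
  (h20_join (h20_link 2585347 2604167 (by norm_num) (by norm_num))
  (h20_join (h20_link 2604167 2623091 (by norm_num) (by norm_num))
  (h20_join (h20_link 2623091 2642111 (by norm_num) (by norm_num))
  (h20_join (h20_link 2642111 2661221 (by norm_num) (by norm_num))
  (h20_join (h20_link 2661221 2680421 (by norm_num) (by norm_num))
  (h20_join (h20_link 2680421 2699713 (by norm_num) (by norm_num))
  (h20_join (h20_link 2699713 2719081 (by norm_num) (by norm_num))
  (h20_link 2719081 2738539 (by norm_num) (by norm_num))))))))))))))))))))))))))

theorem h20_blk17 : ∀ n : ℕ, 2738539 ≤ n → n < 3256093 → h20NearP n :=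
  (h20_join (h20_link 2738539 2758109 (by norm_num) (by norm_num))
  (h20_join (h20_link 2758109 2777771 (by norm_num) (by norm_num))
  (h20_join (h20_link 2777771 2797523 (by norm_num) (by norm_num))
  (h20_join (h20_link 2797523 2817371 (by norm_num) (by norm_num))
  (h20_join (h20_link 2817371 2837309 (by norm_num) (by norm_num))
  (h20_join (h20_link 2837309 2857339 (by norm_num) (by norm_num))
  (h20_join (h20_link 2857339 2877473 (by norm_num) (by norm_num))
  (h20_join (h20_link 2877473 2897689 (by norm_num) (by norm_num))
  (h20_join (h20_link 2897689 2917973 (by norm_num) (by norm_num))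
  (h20_join (h20_link 2917973 2938391 (by norm_num) (by norm_num))
  (h20_join (h20_link 2938391 2958887 (by norm_num) (by norm_num))
  (h20_join (h20_link 2958887 2979497 (by norm_num) (by norm_num))
  (h20_join (h20_link 2979497 3000199 (by norm_num) (by norm_num))
  (h20_join (h20_link 3000199 3021001 (by norm_num) (by norm_num))
  (h20_join (h20_link 3021001 3041893 (by norm_num) (by norm_num))
  (h20_join (h20_link 3041893 3062881 (by norm_num) (by norm_num))
  (h20_join (h20_link 3062881 3083963 (by norm_num) (by norm_num))
  (h20_join (h20_link 3083963 3105143 (by norm_num) (by norm_num))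
  (h20_join (h20_link 3105143 3126427 (by norm_num) (by norm_num))
  (h20_join (h20_link 3126427 3147797 (by norm_num) (by norm_num))
  (h20_join (h20_link 3147797 3169273 (by norm_num) (by norm_num))
  (h20_join (h20_link 3169273 3190829 (by norm_num) (by norm_num))
  (h20_join (h20_link 3190829 3212483 (by norm_num) (by norm_num))
  (h20_join (h20_link 3212483 3234251 (by norm_num) (by norm_num))
  (h20_link 3234251 3256093 (by norm_num) (by norm_num))))))))))))))))))))))))))

theorem h20_blk18 : ∀ n : ℕ, 3256093 ≤ n → n < 3835157 → h20NearP n :=
  (h20_join (h20_link 3256093 3278057 (by norm_num) (by norm_num))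
  (h20_join (h20_link 3278057 3300103 (by norm_num) (by norm_num))
  (h20_join (h20_link 3300103 3322261 (by norm_num) (by norm_num))
  (h20_join (h20_link 3322261 3344521 (by norm_num) (by norm_num))
  (h20_join (h20_link 3344521 3366877 (by norm_num) (by norm_num))
  (h20_join (h20_link 3366877 3389339 (by norm_num) (by norm_num))
  (h20_join (h20_link 3389339 3411901 (by norm_num) (by norm_num))
  (h20_join (h20_link 3411901 3434489 (by norm_num) (by norm_num))
  (h20_join (h20_link 3434489 3457253 (by norm_num) (by norm_num))
  (h20_join (h20_link 3457253 3480101 (by norm_num) (by norm_num))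
  (h20_join (h20_link 3480101 3503063 (by norm_num) (by norm_num))
  (h20_join (h20_link 3503063 3526111 (by norm_num) (by norm_num))
  (h20_join (h20_link 3526111 3549253 (by norm_num) (by norm_num))
  (h20_join (h20_link 3549253 3572519 (by norm_num) (by norm_num))
  (h20_join (h20_link 3572519 3595877 (by norm_num) (by norm_num))
  (h20_join (h20_link 3595877 3619339 (by norm_num) (by norm_num))
  (h20_join (h20_link 3619339 3642911 (by norm_num) (by norm_num))
  (h20_join (h20_link 3642911 3666583 (by norm_num) (by norm_num))
  (h20_join (h20_link 3666583 3690361 (by norm_num) (by norm_num))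
  (h20_join (h20_link 3690361 3714241 (by norm_num) (by norm_num))
  (h20_join (h20_link 3714241 3738223 (by norm_num) (by norm_num))
  (h20_join (h20_link 3738223 3762299 (by norm_num) (by norm_num))
  (h20_join (h20_link 3762299 3786481 (by norm_num) (by norm_num))
  (h20_join (h20_link 3786481 3810769 (by norm_num) (by norm_num))
  (h20_link 3810769 3835157 (by norm_num) (by norm_num))))))))))))))))))))))))))

theorem h20_blk19 : ∀ n : ℕ, 3835157 ≤ n → n < 4479187 → h20NearP n :=
  (h20_join (h20_link 3835157 3859649 (by norm_num) (by norm_num))
  (h20_join (h20_link 3859649 3884239 (by norm_num) (by norm_num))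
  (h20_join (h20_link 3884239 3908921 (by norm_num) (by norm_num))
  (h20_join (h20_link 3908921 3933733 (by norm_num) (by norm_num))
  (h20_join (h20_link 3933733 3958627 (by norm_num) (by norm_num))
  (h20_join (h20_link 3958627 3983641 (by norm_num) (by norm_num))
  (h20_join (h20_link 3983641 4008769 (by norm_num) (by norm_num))
  (h20_join (h20_link 4008769 4033979 (by norm_num) (by norm_num))
  (h20_join (h20_link 4033979 4059317 (by norm_num) (by norm_num))
  (h20_join (h20_link 4059317 4084757 (by norm_num) (by norm_num))
  (h20_join (h20_link 4084757 4110283 (by norm_num) (by norm_num))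
  (h20_join (h20_link 4110283 4135933 (by norm_num) (by norm_num))
  (h20_join (h20_link 4135933 4161697 (by norm_num) (by norm_num))
  (h20_join (h20_link 4161697 4187569 (by norm_num) (by norm_num))
  (h20_join (h20_link 4187569 4213543 (by norm_num) (by norm_num))
  (h20_join (h20_link 4213543 4239611 (by norm_num) (by norm_num))
  (h20_join (h20_link 4239611 4265801 (by norm_num) (by norm_num))
  (h20_join (h20_link 4265801 4292089 (by norm_num) (by norm_num))
  (h20_join (h20_link 4292089 4318487 (by norm_num) (by norm_num))
  (h20_join (h20_link 4318487 4344997 (by norm_num) (by norm_num))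
  (h20_join (h20_link 4344997 4371617 (by norm_num) (by norm_num))
  (h20_join (h20_link 4371617 4398353 (by norm_num) (by norm_num))
  (h20_join (h20_link 4398353 4425181 (by norm_num) (by norm_num))
  (h20_join (h20_link 4425181 4452131 (by norm_num) (by norm_num))
  (h20_link 4452131 4479187 (by norm_num) (by norm_num))))))))))))))))))))))))))

theorem h20_blk20 : ∀ n : ℕ, 4479187 ≤ n → n < 5191513 → h20NearP n :=
  (h20_join (h20_link 4479187 4506349 (by norm_num) (by norm_num))
  (h20_join (h20_link 4506349 4533631 (by norm_num) (by norm_num))
  (h20_join (h20_link 4533631 4561009 (by norm_num) (by norm_num))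
  (h20_join (h20_link 4561009 4588499 (by norm_num) (by norm_num))
  (h20_join (h20_link 4588499 4616113 (by norm_num) (by norm_num))
  (h20_join (h20_link 4616113 4643801 (by norm_num) (by norm_num))
  (h20_join (h20_link 4643801 4671613 (by norm_num) (by norm_num))
  (h20_join (h20_link 4671613 4699549 (by norm_num) (by norm_num))
  (h20_join (h20_link 4699549 4727579 (by norm_num) (by norm_num))
  (h20_join (h20_link 4727579 4755703 (by norm_num) (by norm_num))
  (h20_join (h20_link 4755703 4783979 (by norm_num) (by norm_num))
  (h20_join (h20_link 4783979 4812371 (by norm_num) (by norm_num))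
  (h20_join (h20_link 4812371 4840841 (by norm_num) (by norm_num))
  (h20_join (h20_link 4840841 4869433 (by norm_num) (by norm_num))
  (h20_join (h20_link 4869433 4898123 (by norm_num) (by norm_num))
  (h20_join (h20_link 4898123 4926953 (by norm_num) (by norm_num))
  (h20_join (h20_link 4926953 4955893 (by norm_num) (by norm_num))
  (h20_join (h20_link 4955893 4984949 (by norm_num) (by norm_num))
  (h20_join (h20_link 4984949 5014123 (by norm_num) (by norm_num))
  (h20_join (h20_link 5014123 5043413 (by norm_num) (by norm_num))
  (h20_join (h20_link 5043413 5072813 (by norm_num) (by norm_num))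
  (h20_join (h20_link 5072813 5102333 (by norm_num) (by norm_num))
  (h20_join (h20_link 5102333 5131969 (by norm_num) (by norm_num))
  (h20_join (h20_link 5131969 5161703 (by norm_num) (by norm_num))
  (h20_link 5161703 5191513 (by norm_num) (by norm_num))))))))))))))))))))))))))

theorem h20_blk21 : ∀ n : ℕ, 5191513 ≤ n → n < 5975831 → h20NearP n :=
  (h20_join (h20_link 5191513 5221459 (by norm_num) (by norm_num))
  (h20_join (h20_link 5221459 5251549 (by norm_num) (by norm_num))
  (h20_join (h20_link 5251549 5281751 (by norm_num) (by norm_num))
  (h20_join (h20_link 5281751 5312071 (by norm_num) (by norm_num))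
  (h20_join (h20_link 5312071 5342503 (by norm_num) (by norm_num))
  (h20_join (h20_link 5342503 5373061 (by norm_num) (by norm_num))
  (h20_join (h20_link 5373061 5403719 (by norm_num) (by norm_num))
  (h20_join (h20_link 5403719 5434501 (by norm_num) (by norm_num))
  (h20_join (h20_link 5434501 5465389 (by norm_num) (by norm_num))
  (h20_join (h20_link 5465389 5496409 (by norm_num) (by norm_num))
  (h20_join (h20_link 5496409 5527549 (by norm_num) (by norm_num))
  (h20_join (h20_link 5527549 5558783 (by norm_num) (by norm_num))
  (h20_join (h20_link 5558783 5590111 (by norm_num) (by norm_num))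
  (h20_join (h20_link 5590111 5621599 (by norm_num) (by norm_num))
  (h20_join (h20_link 5621599 5653211 (by norm_num) (by norm_num))
  (h20_join (h20_link 5653211 5684941 (by norm_num) (by norm_num))
  (h20_join (h20_link 5684941 5716787 (by norm_num) (by norm_num))
  (h20_join (h20_link 5716787 5748731 (by norm_num) (by norm_num))
  (h20_join (h20_link 5748731 5780821 (by norm_num) (by norm_num))
  (h20_join (h20_link 5780821 5813023 (by norm_num) (by norm_num))
  (h20_join (h20_link 5813023 5845349 (by norm_num) (by norm_num))
  (h20_join (h20_link 5845349 5877797 (by norm_num) (by norm_num))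
  (h20_join (h20_link 5877797 5910361 (by norm_num) (by norm_num))
  (h20_join (h20_link 5910361 5943043 (by norm_num) (by norm_num))
  (h20_link 5943043 5975831 (by norm_num) (by norm_num))))))))))))))))))))))))))

theorem h20_blk22 : ∀ n : ℕ, 5975831 ≤ n → n < 6835657 → h20NearP n :=
  (h20_join (h20_link 5975831 6008759 (by norm_num) (by norm_num))
  (h20_join (h20_link 6008759 6041809 (by norm_num) (by norm_num))
  (h20_join (h20_link 6041809 6074969 (by norm_num) (by norm_num))
  (h20_join (h20_link 6074969 6108247 (by norm_num) (by norm_num))
  (h20_join (h20_link 6108247 6141661 (by norm_num) (by norm_num))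
  (h20_join (h20_link 6141661 6175181 (by norm_num) (by norm_num))
  (h20_join (h20_link 6175181 6208831 (by norm_num) (by norm_num))
  (h20_join (h20_link 6208831 6242609 (by norm_num) (by norm_num))
  (h20_join (h20_link 6242609 6276509 (by norm_num) (by norm_num))
  (h20_join (h20_link 6276509 6310531 (by norm_num) (by norm_num))
  (h20_join (h20_link 6310531 6344669 (by norm_num) (by norm_num))
  (h20_join (h20_link 6344669 6378937 (by norm_num) (by norm_num))
  (h20_join (h20_link 6378937 6413333 (by norm_num) (by norm_num))
  (h20_join (h20_link 6413333 6447841 (by norm_num) (by norm_num))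
  (h20_join (h20_link 6447841 6482479 (by norm_num) (by norm_num))
  (h20_join (h20_link 6482479 6517213 (by norm_num) (by norm_num))
  (h20_join (h20_link 6517213 6552101 (by norm_num) (by norm_num))
  (h20_join (h20_link 6552101 6587111 (by norm_num) (by norm_num))
  (h20_join (h20_link 6587111 6622211 (by norm_num) (by norm_num))
  (h20_join (h20_link 6622211 6657473 (by norm_num) (by norm_num))
  (h20_join (h20_link 6657473 6692863 (by norm_num) (by norm_num))
  (h20_join (h20_link 6692863 6728369 (by norm_num) (by norm_num))
  (h20_join (h20_link 6728369 6764003 (by norm_num) (by norm_num))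
  (h20_join (h20_link 6764003 6799769 (by norm_num) (by norm_num))
  (h20_link 6799769 6835657 (by norm_num) (by norm_num))))))))))))))))))))))))))

theorem h20_blk23 : ∀ n : ℕ, 6835657 ≤ n → n < 7774279 → h20NearP n :=
  (h20_join (h20_link 6835657 6871661 (by norm_num) (by norm_num))
  (h20_join (h20_link 6871661 6907799 (by norm_num) (by norm_num))
  (h20_join (h20_link 6907799 6944059 (by norm_num) (by norm_num))
  (h20_join (h20_link 6944059 6980453 (by norm_num) (by norm_num))
  (h20_join (h20_link 6980453 7016963 (by norm_num) (by norm_num))
  (h20_join (h20_link 7016963 7053601 (by norm_num) (by norm_num))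
  (h20_join (h20_link 7053601 7090333 (by norm_num) (by norm_num))
  (h20_join (h20_link 7090333 7127231 (by norm_num) (by norm_num))
  (h20_join (h20_link 7127231 7164263 (by norm_num) (by norm_num))
  (h20_join (h20_link 7164263 7201427 (by norm_num) (by norm_num))
  (h20_join (h20_link 7201427 7238711 (by norm_num) (by norm_num))
  (h20_join (h20_link 7238711 7276127 (by norm_num) (by norm_num))
  (h20_join (h20_link 7276127 7313671 (by norm_num) (by norm_num))
  (h20_join (h20_link 7313671 7351349 (by norm_num) (by norm_num))
  (h20_join (h20_link 7351349 7389149 (by norm_num) (by norm_num))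
  (h20_join (h20_link 7389149 7427083 (by norm_num) (by norm_num))
  (h20_join (h20_link 7427083 7465127 (by norm_num) (by norm_num))
  (h20_join (h20_link 7465127 7503317 (by norm_num) (by norm_num))
  (h20_join (h20_link 7503317 7541627 (by norm_num) (by norm_num))
  (h20_join (h20_link 7541627 7580081 (by norm_num) (by norm_num))
  (h20_join (h20_link 7580081 7618657 (by norm_num) (by norm_num))
  (h20_join (h20_link 7618657 7657357 (by norm_num) (by norm_num))
  (h20_join (h20_link 7657357 7696207 (by norm_num) (by norm_num))
  (h20_join (h20_link 7696207 7735181 (by norm_num) (by norm_num))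
  (h20_link 7735181 7774279 (by norm_num) (by norm_num))))))))))))))))))))))))))

theorem h20_blk24 : ∀ n : ℕ, 7774279 ≤ n → n < 8795123 → h20NearP n :=
  (h20_join (h20_link 7774279 7813517 (by norm_num) (by norm_num))
  (h20_join (h20_link 7813517 7852877 (by norm_num) (by norm_num))
  (h20_join (h20_link 7852877 7892347 (by norm_num) (by norm_num))
  (h20_join (h20_link 7892347 7931977 (by norm_num) (by norm_num))
  (h20_join (h20_link 7931977 7971739 (by norm_num) (by norm_num))
  (h20_join (h20_link 7971739 8011643 (by norm_num) (by norm_num))
  (h20_join (h20_link 8011643 8051677 (by norm_num) (by norm_num))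
  (h20_join (h20_link 8051677 8091829 (by norm_num) (by norm_num))
  (h20_join (h20_link 8091829 8132101 (by norm_num) (by norm_num))
  (h20_join (h20_link 8132101 8172539 (by norm_num) (by norm_num))
  (h20_join (h20_link 8172539 8213089 (by norm_num) (by norm_num))
  (h20_join (h20_link 8213089 8253793 (by norm_num) (by norm_num))
  (h20_join (h20_link 8253793 8294617 (by norm_num) (by norm_num))
  (h20_join (h20_link 8294617 8335583 (by norm_num) (by norm_num))
  (h20_join (h20_link 8335583 8376691 (by norm_num) (by norm_num))
  (h20_join (h20_link 8376691 8417921 (by norm_num) (by norm_num))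
  (h20_join (h20_link 8417921 8459299 (by norm_num) (by norm_num))
  (h20_join (h20_link 8459299 8500783 (by norm_num) (by norm_num))
  (h20_join (h20_link 8500783 8542427 (by norm_num) (by norm_num))
  (h20_join (h20_link 8542427 8584193 (by norm_num) (by norm_num))
  (h20_join (h20_link 8584193 8626109 (by norm_num) (by norm_num))
  (h20_join (h20_link 8626109 8668157 (by norm_num) (by norm_num))
  (h20_join (h20_link 8668157 8710343 (by norm_num) (by norm_num))
  (h20_join (h20_link 8710343 8752657 (by norm_num) (by norm_num))
  (h20_link 8752657 8795123 (by norm_num) (by norm_num))))))))))))))))))))))))))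

theorem h20_blk25 : ∀ n : ℕ, 8795123 ≤ n → n < 9901783 → h20NearP n :=
  (h20_join (h20_link 8795123 8837729 (by norm_num) (by norm_num))
  (h20_join (h20_link 8837729 8880463 (by norm_num) (by norm_num))
  (h20_join (h20_link 8880463 8923339 (by norm_num) (by norm_num))
  (h20_join (h20_link 8923339 8966359 (by norm_num) (by norm_num))
  (h20_join (h20_link 8966359 9009509 (by norm_num) (by norm_num))
  (h20_join (h20_link 9009509 9052801 (by norm_num) (by norm_num))
  (h20_join (h20_link 9052801 9096229 (by norm_num) (by norm_num))
  (h20_join (h20_link 9096229 9139789 (by norm_num) (by norm_num))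
  (h20_join (h20_link 9139789 9183491 (by norm_num) (by norm_num))
  (h20_join (h20_link 9183491 9227329 (by norm_num) (by norm_num))
  (h20_join (h20_link 9227329 9271313 (by norm_num) (by norm_num))
  (h20_join (h20_link 9271313 9315433 (by norm_num) (by norm_num))
  (h20_join (h20_link 9315433 9359671 (by norm_num) (by norm_num))
  (h20_join (h20_link 9359671 9404051 (by norm_num) (by norm_num))
  (h20_join (h20_link 9404051 9448603 (by norm_num) (by norm_num))
  (h20_join (h20_link 9448603 9493271 (by norm_num) (by norm_num))
  (h20_join (h20_link 9493271 9538103 (by norm_num) (by norm_num))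
  (h20_join (h20_link 9538103 9583073 (by norm_num) (by norm_num))
  (h20_join (h20_link 9583073 9628187 (by norm_num) (by norm_num))
  (h20_join (h20_link 9628187 9673439 (by norm_num) (by norm_num))
  (h20_join (h20_link 9673439 9718837 (by norm_num) (by norm_num))
  (h20_join (h20_link 9718837 9764317 (by norm_num) (by norm_num))
  (h20_join (h20_link 9764317 9810001 (by norm_num) (by norm_num))
  (h20_join (h20_link 9810001 9855823 (by norm_num) (by norm_num))
  (h20_link 9855823 9901783 (by norm_num) (by norm_num))))))))))))))))))))))))))

theorem h20_blk26 : ∀ n : ℕ, 9901783 ≤ n → n < 11097649 → h20NearP n :=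
  (h20_join (h20_link 9901783 9947867 (by norm_num) (by norm_num))
  (h20_join (h20_link 9947867 9994109 (by norm_num) (by norm_num))
  (h20_join (h20_link 9994109 10040507 (by norm_num) (by norm_num))
  (h20_join (h20_link 10040507 10087027 (by norm_num) (by norm_num))
  (h20_join (h20_link 10087027 10133701 (by norm_num) (by norm_num))
  (h20_join (h20_link 10133701 10180517 (by norm_num) (by norm_num))
  (h20_join (h20_link 10180517 10227467 (by norm_num) (by norm_num))
  (h20_join (h20_link 10227467 10274533 (by norm_num) (by norm_num))
  (h20_join (h20_link 10274533 10321783 (by norm_num) (by norm_num))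
  (h20_join (h20_link 10321783 10369189 (by norm_num) (by norm_num))
  (h20_join (h20_link 10369189 10416719 (by norm_num) (by norm_num))
  (h20_join (h20_link 10416719 10464413 (by norm_num) (by norm_num))
  (h20_join (h20_link 10464413 10512247 (by norm_num) (by norm_num))
  (h20_join (h20_link 10512247 10560227 (by norm_num) (by norm_num))
  (h20_join (h20_link 10560227 10608347 (by norm_num) (by norm_num))
  (h20_join (h20_link 10608347 10656617 (by norm_num) (by norm_num))
  (h20_join (h20_link 10656617 10705033 (by norm_num) (by norm_num))
  (h20_join (h20_link 10705033 10753597 (by norm_num) (by norm_num))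
  (h20_join (h20_link 10753597 10802303 (by norm_num) (by norm_num))
  (h20_join (h20_link 10802303 10851163 (by norm_num) (by norm_num))
  (h20_join (h20_link 10851163 10900157 (by norm_num) (by norm_num))
  (h20_join (h20_link 10900157 10949303 (by norm_num) (by norm_num))
  (h20_join (h20_link 10949303 10998607 (by norm_num) (by norm_num))
  (h20_join (h20_link 10998607 11048057 (by norm_num) (by norm_num))
  (h20_link 11048057 11097649 (by norm_num) (by norm_num))))))))))))))))))))))))))

theorem h20_blk27 : ∀ n : ℕ, 11097649 ≤ n → n < 12386147 → h20NearP n :=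
  (h20_join (h20_link 11097649 11147377 (by norm_num) (by norm_num))
  (h20_join (h20_link 11147377 11197279 (by norm_num) (by norm_num))
  (h20_join (h20_link 11197279 11247307 (by norm_num) (by norm_num))
  (h20_join (h20_link 11247307 11297491 (by norm_num) (by norm_num))
  (h20_join (h20_link 11297491 11347837 (by norm_num) (by norm_num))
  (h20_join (h20_link 11347837 11398301 (by norm_num) (by norm_num))
  (h20_join (h20_link 11398301 11448929 (by norm_num) (by norm_num))
  (h20_join (h20_link 11448929 11499727 (by norm_num) (by norm_num))
  (h20_join (h20_link 11499727 11550659 (by norm_num) (by norm_num))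
  (h20_join (h20_link 11550659 11601731 (by norm_num) (by norm_num))
  (h20_join (h20_link 11601731 11652967 (by norm_num) (by norm_num))
  (h20_join (h20_link 11652967 11704337 (by norm_num) (by norm_num))
  (h20_join (h20_link 11704337 11755879 (by norm_num) (by norm_num))
  (h20_join (h20_link 11755879 11807573 (by norm_num) (by norm_num))
  (h20_join (h20_link 11807573 11859383 (by norm_num) (by norm_num))
  (h20_join (h20_link 11859383 11911369 (by norm_num) (by norm_num))
  (h20_join (h20_link 11911369 11963509 (by norm_num) (by norm_num))
  (h20_join (h20_link 11963509 12015811 (by norm_num) (by norm_num))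
  (h20_join (h20_link 12015811 12068257 (by norm_num) (by norm_num))
  (h20_join (h20_link 12068257 12120863 (by norm_num) (by norm_num))
  (h20_join (h20_link 12120863 12173617 (by norm_num) (by norm_num))
  (h20_join (h20_link 12173617 12226537 (by norm_num) (by norm_num))
  (h20_join (h20_link 12226537 12279587 (by norm_num) (by norm_num))
  (h20_join (h20_link 12279587 12332779 (by norm_num) (by norm_num))
  (h20_link 12332779 12386147 (by norm_num) (by norm_num))))))))))))))))))))))))))

theorem h20_blk28 : ∀ n : ℕ, 12386147 ≤ n → n < 13770959 → h20NearP n :=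
  (h20_join (h20_link 12386147 12439673 (by norm_num) (by norm_num))
  (h20_join (h20_link 12439673 12493361 (by norm_num) (by norm_num))
  (h20_join (h20_link 12493361 12547187 (by norm_num) (by norm_num))
  (h20_join (h20_link 12547187 12601181 (by norm_num) (by norm_num))
  (h20_join (h20_link 12601181 12655333 (by norm_num) (by norm_num))
  (h20_join (h20_link 12655333 12709633 (by norm_num) (by norm_num))
  (h20_join (h20_link 12709633 12764071 (by norm_num) (by norm_num))
  (h20_join (h20_link 12764071 12818677 (by norm_num) (by norm_num))
  (h20_join (h20_link 12818677 12873439 (by norm_num) (by norm_num))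
  (h20_join (h20_link 12873439 12928327 (by norm_num) (by norm_num))
  (h20_join (h20_link 12928327 12983401 (by norm_num) (by norm_num))
  (h20_join (h20_link 12983401 13038637 (by norm_num) (by norm_num))
  (h20_join (h20_link 13038637 13094023 (by norm_num) (by norm_num))
  (h20_join (h20_link 13094023 13149571 (by norm_num) (by norm_num))
  (h20_join (h20_link 13149571 13205279 (by norm_num) (by norm_num))
  (h20_join (h20_link 13205279 13261123 (by norm_num) (by norm_num))
  (h20_join (h20_link 13261123 13317133 (by norm_num) (by norm_num))
  (h20_join (h20_link 13317133 13373303 (by norm_num) (by norm_num))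
  (h20_join (h20_link 13373303 13429627 (by norm_num) (by norm_num))
  (h20_join (h20_link 13429627 13486127 (by norm_num) (by norm_num))
  (h20_join (h20_link 13486127 13542773 (by norm_num) (by norm_num))
  (h20_join (h20_link 13542773 13599589 (by norm_num) (by norm_num))
  (h20_join (h20_link 13599589 13656557 (by norm_num) (by norm_num))
  (h20_join (h20_link 13656557 13713683 (by norm_num) (by norm_num))
  (h20_link 13713683 13770959 (by norm_num) (by norm_num))))))))))))))))))))))))))

theorem h20_blk29 : ∀ n : ℕ, 13770959 ≤ n → n < 15255353 → h20NearP n :=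
  (h20_join (h20_link 13770959 13828411 (by norm_num) (by norm_num))
  (h20_join (h20_link 13828411 13886023 (by norm_num) (by norm_num))
  (h20_join (h20_link 13886023 13943779 (by norm_num) (by norm_num))
  (h20_join (h20_link 13943779 14001709 (by norm_num) (by norm_num))
  (h20_join (h20_link 14001709 14059783 (by norm_num) (by norm_num))
  (h20_join (h20_link 14059783 14118037 (by norm_num) (by norm_num))
  (h20_join (h20_link 14118037 14176433 (by norm_num) (by norm_num))
  (h20_join (h20_link 14176433 14235007 (by norm_num) (by norm_num))
  (h20_join (h20_link 14235007 14293739 (by norm_num) (by norm_num))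
  (h20_join (h20_link 14293739 14352623 (by norm_num) (by norm_num))
  (h20_join (h20_link 14352623 14411669 (by norm_num) (by norm_num))
  (h20_join (h20_link 14411669 14470891 (by norm_num) (by norm_num))
  (h20_join (h20_link 14470891 14530267 (by norm_num) (by norm_num))
  (h20_join (h20_link 14530267 14589793 (by norm_num) (by norm_num))
  (h20_join (h20_link 14589793 14649493 (by norm_num) (by norm_num))
  (h20_join (h20_link 14649493 14709361 (by norm_num) (by norm_num))
  (h20_join (h20_link 14709361 14769373 (by norm_num) (by norm_num))
  (h20_join (h20_link 14769373 14829547 (by norm_num) (by norm_num))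
  (h20_join (h20_link 14829547 14889877 (by norm_num) (by norm_num))
  (h20_join (h20_link 14889877 14950387 (by norm_num) (by norm_num))
  (h20_join (h20_link 14950387 15011071 (by norm_num) (by norm_num))
  (h20_join (h20_link 15011071 15071891 (by norm_num) (by norm_num))
  (h20_join (h20_link 15071891 15132893 (by norm_num) (by norm_num))
  (h20_join (h20_link 15132893 15194041 (by norm_num) (by norm_num))
  (h20_link 15194041 15255353 (by norm_num) (by norm_num))))))))))))))))))))))))))

theorem h20_blk30 : ∀ n : ℕ, 15255353 ≤ n → n < 16777259 → h20NearP n :=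
  (h20_join (h20_link 15255353 15316859 (by norm_num) (by norm_num))
  (h20_join (h20_link 15316859 15378491 (by norm_num) (by norm_num))
  (h20_join (h20_link 15378491 15440323 (by norm_num) (by norm_num))
  (h20_join (h20_link 15440323 15502321 (by norm_num) (by norm_num))
  (h20_join (h20_link 15502321 15564487 (by norm_num) (by norm_num))
  (h20_join (h20_link 15564487 15626813 (by norm_num) (by norm_num))
  (h20_join (h20_link 15626813 15689291 (by norm_num) (by norm_num))
  (h20_join (h20_link 15689291 15751963 (by norm_num) (by norm_num))
  (h20_join (h20_link 15751963 15814801 (by norm_num) (by norm_num))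
  (h20_join (h20_link 15814801 15877753 (by norm_num) (by norm_num))
  (h20_join (h20_link 15877753 15940921 (by norm_num) (by norm_num))
  (h20_join (h20_link 15940921 16004207 (by norm_num) (by norm_num))
  (h20_join (h20_link 16004207 16067707 (by norm_num) (by norm_num))
  (h20_join (h20_link 16067707 16131373 (by norm_num) (by norm_num))
  (h20_join (h20_link 16131373 16195211 (by norm_num) (by norm_num))
  (h20_join (h20_link 16195211 16259207 (by norm_num) (by norm_num))
  (h20_join (h20_link 16259207 16323379 (by norm_num) (by norm_num))
  (h20_join (h20_link 16323379 16387727 (by norm_num) (by norm_num))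
  (h20_join (h20_link 16387727 16452239 (by norm_num) (by norm_num))
  (h20_join (h20_link 16452239 16516919 (by norm_num) (by norm_num))
  (h20_join (h20_link 16516919 16581743 (by norm_num) (by norm_num))
  (h20_join (h20_link 16581743 16646743 (by norm_num) (by norm_num))
  (h20_join (h20_link 16646743 16711921 (by norm_num) (by norm_num))
  (h20_link 16711921 16777259 (by norm_num) (by norm_num)))))))))))))))))))))))))

theorem h20_all : ∀ n : ℕ, 2 ≤ n → n < 16777259 → h20NearP n :=
  (h20_join h20_blk0 (h20_join h20_blk1 (h20_join h20_blk2 (h20_join h20_blk3 (h20_join h20_blk4 (h20_join h20_blk5 (h20_join h20_blk6 (h20_join h20_blk7 (h20_join h20_blk8 (h20_join h20_blk9 (h20_join h20_blk10 (h20_join h20_blk11 (h20_join h20_blk12 (h20_join h20_blk13 (h20_join h20_blk14 (h20_join h20_blk15 (h20_join h20_blk16 (h20_join h20_blk17 (h20_join h20_blk18 (h20_join h20_blk19 (h20_join h20_blk20 (h20_join h20_blk21 (h20_join h20_blk22 (h20_join h20_blk23 (h20_join h20_blk24 (h20_join h20_blk25 (h20_join h20_blk26 (h20_join h20_blk27 (h20_join h20_blk28 (h20_join h20_blk29 h20_blk30))))))))))))))))))))))))))))))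

/-- SS-CH (backup copy under another name) -/
theorem h20_prime_near {n : ℕ} (h2 : 2 ≤ n) (hN : n ≤ 2 ^ 24) :
    ∃ p : ℕ, p.Prime ∧ p ≤ n ∧ (n - p) ^ 3 < n ^ 2 :=
  h20_all n h2 (lt_of_le_of_lt hN (by norm_num))

end Cfsg.Agent.Lib.Helper20.SS
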