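import Mathlib

set_option autoImplicit false

namespace Cfsg.Agent.Lib.Helper20.SS

/-- a prime `p > k` with `n % p < k` divides `C(n,k)`. -/
theorem h20_dvd_choose_of_mod_lt {n k p : ℕ} (hp : p.Prime) (hkp : k < p) (hmod : n % p < k)
    (hkn : k ≤ n) : p ∣ n.choose k := by
  have h1 : p ∣ n.descFactorial k := by
    rw [Nat.descFactorial_eq_prod_range]
    apply Dvd.dvd.trans _ (Finset.dvd_prod_of_mem _ (Finset.mem_range.mpr hmod))
    exact (Nat.modEq_iff_dvd' (Nat.mod_le n p)).mp (Nat.mod_modEq n p)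
  rw [Nat.descFactorial_eq_factorial_mul_choose] at h1
  rcases (Nat.Prime.dvd_mul hp).mp h1 with h | h
  · exact absurd ((Nat.Prime.dvd_factorial hp).mp h) (not_le.mpr hkp)
  · exact h

/-- the primes below 55 -/
def h20_smallPrimes : List ℕ := [2, 3, 5, 7, 11, 13, 17, 19, 23, 29, 31, 37, 41, 43, 47, 53]

theorem h20_smallPrimes_prime : ∀ p ∈ h20_smallPrimes, p.Prime := by
  intro p hp
  simp only [h20_smallPrimes, List.mem_cons, List.not_mem_nil, or_false] at hp
  rcases hp with rfl | rfl | rfl | rfl | rfl | rfl | rfl | rfl | rfl | rfl | rfl | rfl | rfl |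
    rfl | rfl | rfl <;> norm_num

theorem h20_check_table : ∀ k < 18, ∀ n < 55, 0 < k → 2 * k ≤ n →
    ∃ p ∈ h20_smallPrimes, k < p ∧ n % p < k := by
  decide

/-- SS-S2 (backup copy under another name): the finitely many cases `k < 18`, `n ≤ 54`. -/
theorem h20_check_small {n k : ℕ} (hk : 0 < k) (hk' : k < 18) (hkn : 2 * k ≤ n) (hn : n ≤ 54) :
    ∃ p : ℕ, p.Prime ∧ k < p ∧ p ∣ n.choose k := by
  obtain ⟨p, hp, hkp, hmod⟩ := h20_check_table k hk' n (by omega) hk hkn
  exact ⟨p, h20_smallPrimes_prime p hp, hkp,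
    h20_dvd_choose_of_mod_lt (h20_smallPrimes_prime p hp) hkp hmod (by omega)⟩

end Cfsg.Agent.Lib.Helper20.SS
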