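import Mathlib
import Cfsg.Agent.Lib.helper8.SylowBasic
import Cfsg.Agent.Lib.helper8.SimpleEmbed
import Cfsg.Agent.Lib.helper8.Burnside
import Cfsg.Agent.Lib.helper8.SylowConj
import Cfsg.Agent.Lib.helper8.SubgroupCard
import Cfsg.Agent.S0985
import Cfsg.Agent.Lib.Helper22.S496INV

/-!
# Project S496 (S0496), piece 720-C1: `s720_forty_struct`

A simple group of order 720 with `n_3 = 40` and self-centralizing Sylow 5-subgroups has a subgroup `D`
of order 3 with `|N(D)| = 72` all of whose subgroups of order 8 are nonabelian.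
-/

set_option autoImplicit false

namespace Cfsg.Agent.Lib.helper3.S496

open Subgroup Cfsg.Agent.Lib.helper8

section
variable {G : Type*} [Group G] [Finite G] [IsSimpleGroup G]

theorem c1_hG3 (hG : Nat.card G = 720) : Nat.card G = 3 ^ 2 * 80 := by rw [hG]; norm_num

theorem c1_hnc (hG : Nat.card G = 720) : ¬ IsMulCommutative G :=
  h8_not_comm_of_card (by rw [hG]; norm_num)

theorem c1_card_P (hG : Nat.card G = 720) (P : Sylow 3 G) : Nat.card (P : Subgroup G) = 9 := by
  have := h8_sylow_card 3 2 80 (c1_hG3 hG) (by norm_num) P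
  simpa using this

theorem c1_card_N (hG : Nat.card G = 720) (h40 : Nat.card (Sylow 3 G) = 40) (P : Sylow 3 G) :
    Nat.card (normalizer ((P : Subgroup G) : Set G)) = 18 := by
  have := h8_card_normalizer_sylow 3 P
  rw [h40, hG] at this
  omega

theorem c1_comm (hG : Nat.card G = 720) (P : Sylow 3 G) :
    ∀ a ∈ (P : Subgroup G), ∀ b ∈ (P : Subgroup G), a * b = b * a :=
  h8_comm_of_card_prime_sq 3 (P : Subgroup G) (by rw [c1_card_P hG P]; norm_num)

theorem c1_le_centralizer (hG : Nat.card G = 720) (P : Sylow 3 G) :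
    (P : Subgroup G) ≤ centralizer ((P : Subgroup G) : Set G) := by
  intro x hx
  rw [mem_centralizer_iff]
  intro y hy
  exact c1_comm hG P y hy x hx

theorem c1_card_C (hG : Nat.card G = 720) (h40 : Nat.card (Sylow 3 G) = 40) (P : Sylow 3 G) :
    Nat.card (centralizer ((P : Subgroup G) : Set G)) = 9 := by
  have h1 := h8_card_centralizer_mul_relIndex (P : Subgroup G)
  rw [c1_card_N hG h40 P] at h1
  have h2 : 9 ∣ Nat.card (centralizer ((P : Subgroup G) : Set G)) := by
    rw [← c1_card_P hG P]; exact card_dvd_of_le (c1_le_centralizer hG P)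
  have h3 : (centralizer ((P : Subgroup G) : Set G)).relIndex
      (normalizer ((P : Subgroup G) : Set G)) ≠ 1 := by
    intro h
    exact h8_simple_not_normalizer_le_centralizer 3 2 80 (c1_hG3 hG) (by norm_num) (by norm_num)
      (by norm_num) P (h8_normalizer_le_centralizer_of_relIndex _ h)
  obtain ⟨k, hk⟩ := h2
  rw [hk] at h1 ⊢
  generalize (centralizer ((P : Subgroup G) : Set G)).relIndex
      (normalizer ((P : Subgroup G) : Set G)) = r at h1 h3
  have hk2 : k ≤ 2 := by
    rcases Nat.eq_zero_or_pos r with hr | hr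
    · subst hr; omega
    · nlinarith
  interval_cases k
  · omega
  · rfl
  · exfalso; apply h3; omega

theorem c1_centralizer_eq (hG : Nat.card G = 720) (h40 : Nat.card (Sylow 3 G) = 40) (P : Sylow 3 G) :
    centralizer ((P : Subgroup G) : Set G) = P := by
  symm
  apply eq_of_le_of_card_ge (c1_le_centralizer hG P)
  rw [c1_card_C hG h40 P, c1_card_P hG P]

theorem c1_exists_invol (hG : Nat.card G = 720) (h40 : Nat.card (Sylow 3 G) = 40) (P : Sylow 3 G) :
    ∃ s ∈ normalizer ((P : Subgroup G) : Set G), orderOf s = 2 := by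
  haveI : Fact (Nat.Prime 2) := ⟨Nat.prime_two⟩
  obtain ⟨x, hx⟩ := exists_prime_orderOf_dvd_card' (G := normalizer ((P : Subgroup G) : Set G)) 2
    (by rw [c1_card_N hG h40 P]; norm_num)
  exact ⟨x, x.2, by rw [Subgroup.orderOf_coe]; exact hx⟩

theorem c1_relIndex_two (hG : Nat.card G = 720) (h40 : Nat.card (Sylow 3 G) = 40) (P : Sylow 3 G) :
    (P : Subgroup G).relIndex (normalizer ((P : Subgroup G) : Set G)) = 2 := by
  have := h8_card_mul_relIndex (le_normalizer : (P : Subgroup G) ≤ normalizer ((P : Subgroup G) : Set G))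
  rw [c1_card_P hG P, c1_card_N hG h40 P] at this
  omega

/-- every element of `N(P)` lies in `P` or inverts `P` -/
theorem c1_normalizer_dichotomy (hG : Nat.card G = 720) (h40 : Nat.card (Sylow 3 G) = 40)
    (P : Sylow 3 G) (n : G) (hn : n ∈ normalizer ((P : Subgroup G) : Set G)) :
    n ∈ (P : Subgroup G) ∨ ∀ x ∈ (P : Subgroup G), n * x * n⁻¹ = x⁻¹ := by
  by_cases hnP : n ∈ (P : Subgroup G)
  · left; exact hnP
  right
  obtain ⟨s, hsN, hs2⟩ := c1_exists_invol hG h40 P
  have hinv := invol_inverts (c1_hnc hG) 3 P (c1_comm hG P)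
    (by rw [c1_card_N hG h40 P, c1_card_P hG P]) s hsN hs2
  have hidx : ((P : Subgroup G).subgroupOf (normalizer ((P : Subgroup G) : Set G))).index = 2 :=
    c1_relIndex_two hG h40 P
  have hsP : s ∉ (P : Subgroup G) := by
    intro h
    have := (P : Subgroup G).orderOf_dvd_natCard h
    rw [hs2, c1_card_P hG P] at this
    norm_num at this
  have key := Subgroup.mul_mem_iff_of_index_two hidx
    (a := (⟨n, hn⟩ : normalizer ((P : Subgroup G) : Set G))) (b := ⟨s, hsN⟩)
  rw [mem_subgroupOf, mem_subgroupOf, mem_subgroupOf] at key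
  have hns : n * s ∈ (P : Subgroup G) :=
    key.mpr ⟨fun h => absurd h hnP, fun h => absurd h hsP⟩
  intro x hx
  have hs1 : s * s = 1 := by rw [← pow_two, ← hs2, pow_orderOf_eq_one]
  have e : n * x * n⁻¹ = (n * s) * (s * x * s⁻¹) * (n * s)⁻¹ := by
    have : (n * s) * (s * x * s⁻¹) * (n * s)⁻¹ = n * (s * s) * x * (s * s)⁻¹ * n⁻¹ := by group
    rw [this, hs1]; simp
  rw [e, hinv x hx]
  have := c1_comm hG P (n * s) hns x⁻¹ (inv_mem hx)
  rw [this]; group

theorem c1_normalizer_le (hG : Nat.card G = 720) (h40 : Nat.card (Sylow 3 G) = 40) (P : Sylow 3 G)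
    (D : Subgroup G) (hD : D ≤ P) :
    normalizer ((P : Subgroup G) : Set G) ≤ normalizer (D : Set G) := by
  intro n hn
  have key : ∀ m ∈ normalizer ((P : Subgroup G) : Set G), ∀ d ∈ D, m * d * m⁻¹ ∈ D := by
    intro m hm d hd
    rcases c1_normalizer_dichotomy hG h40 P m hm with h | h
    · have := c1_comm hG P m h d (hD hd)
      rw [this, mul_inv_cancel_right]; exact hd
    · rw [h d (hD hd)]; exact inv_mem hd
  rw [mem_normalizer_iff]
  intro d
  constructor
  · exact key n hn d
  · intro h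
    have := key n⁻¹ (inv_mem hn) _ h
    have e : n⁻¹ * (n * d * n⁻¹) * n⁻¹⁻¹ = d := by group
    rwa [e] at this

theorem c1_exists_pair (hG : Nat.card G = 720) (h40 : Nat.card (Sylow 3 G) = 40) :
    ∃ P R : Sylow 3 G, P ≠ R ∧ Nat.card ((P : Subgroup G) ⊓ R : Subgroup G) = 3 := by
  have h := Cfsg.Agent.S0985.result (G := G) 3 2 (by rw [h40]; decide)
  obtain ⟨P, R, hPR, hidx⟩ := h
  refine ⟨P, R, hPR, ?_⟩
  have h1 := h8_card_inf_mul_relIndex (R : Subgroup G) (P : Subgroup G)
  rw [c1_card_P hG P] at h1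
  have h2 : (R : Subgroup G).relIndex P ≤ 3 := by simpa [relIndex] using hidx
  have h3 : (R : Subgroup G).relIndex P ≠ 1 := by
    intro h
    rw [relIndex_eq_one] at h
    exact hPR (h8_sylow_eq_of_le 3 P R h)
  rw [inf_comm]
  generalize (R : Subgroup G).relIndex P = r at h1 h2 h3
  interval_cases r <;> omega

/-- an element of order dividing 3 equal to its inverse is trivial -/
theorem c1_no_invert (D : Subgroup G) (hD : Nat.card D = 3) (d : G) (hd : d ∈ D) (h : d⁻¹ = d) :
    d = 1 := by
  have h3 : d ^ 3 = 1 := by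
    have := D.orderOf_dvd_natCard hd
    rw [hD] at this
    exact orderOf_dvd_iff_pow_eq_one.mp this
  have h2 : d * d = 1 := by
    nth_rewrite 1 [← h]; exact inv_mul_cancel d
  calc d = d ^ 3 * (d * d)⁻¹ := by group
    _ = 1 := by rw [h3, h2]; simp

theorem c1_exists_ne_one (D : Subgroup G) (hD : Nat.card D = 3) : ∃ d ∈ D, d ≠ 1 := by
  by_contra hcon
  push Not at hcon
  have : D = ⊥ := (Subgroup.eq_bot_iff_forall D).mpr hcon
  rw [this, Subgroup.card_bot] at hD
  omega

theorem c1_five_not_dvd (hG : Nat.card G = 720)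
    (hC5 : ∀ P : Sylow 5 G, Nat.card (Subgroup.centralizer ((P : Subgroup G) : Set G)) = 5)
    (D : Subgroup G) (hD : Nat.card D = 3) : ¬ 5 ∣ Nat.card (normalizer (D : Set G)) := by
  intro h5
  haveI : Fact (Nat.Prime 5) := ⟨by norm_num⟩
  obtain ⟨g, hg⟩ := exists_prime_orderOf_dvd_card' (G := normalizer (D : Set G)) 5 h5
  have hg5 : orderOf (g : G) = 5 := by rw [Subgroup.orderOf_coe]; exact hg
  have hrel := h8_relIndex_centralizer_normalizer_dvd_prime 3 (by norm_num) D hD
  have hgC : (g : G) ∈ centralizer (D : Set G) := by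
    have hnorm : ((centralizer (D : Set G)).subgroupOf (normalizer (D : Set G))).Normal := by
      rw [← normalizerMonoidHom_ker]; infer_instance
    have h1 : g ^ ((centralizer (D : Set G)).subgroupOf (normalizer (D : Set G))).index ∈
        (centralizer (D : Set G)).subgroupOf (normalizer (D : Set G)) := pow_index_mem _ g
    have h2 : g ^ 2 ∈ (centralizer (D : Set G)).subgroupOf (normalizer (D : Set G)) := by
      have hdvd : ((centralizer (D : Set G)).subgroupOf (normalizer (D : Set G))).index ∣ 2 := hrel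
      obtain ⟨c, hc⟩ := hdvd
      rw [hc, pow_mul]
      exact pow_mem h1 c
    have h3 : g = (g ^ 2) ^ 3 := by
      have h5' : g ^ 5 = 1 := by rw [← hg]; exact pow_orderOf_eq_one g
      calc g = g ^ 5 * g := by rw [h5', one_mul]
        _ = (g ^ 2) ^ 3 := by group
    have h4 : g ∈ (centralizer (D : Set G)).subgroupOf (normalizer (D : Set G)) := by
      rw [h3]; exact pow_mem h2 3
    exact mem_subgroupOf.mp h4
  have hz : IsPGroup 5 (zpowers (g : G)) :=
    IsPGroup.of_card (n := 1) (by rw [Nat.card_zpowers, hg5]; norm_num)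
  obtain ⟨P5, hP5⟩ := hz.exists_le_sylow
  have hP5card : Nat.card (P5 : Subgroup G) = 5 := by
    have := h8_sylow_card 5 1 144 (by rw [hG]; norm_num) (by norm_num) P5
    simpa using this
  have hzP : zpowers (g : G) = P5 :=
    eq_of_le_of_card_ge hP5 (by rw [hP5card, Nat.card_zpowers, hg5])
  have hDC : D ≤ centralizer ((P5 : Subgroup G) : Set G) := by
    intro d hd
    rw [mem_centralizer_iff]
    intro x hx
    have hx' : x ∈ zpowers (g : G) := by rw [hzP]; exact hx
    obtain ⟨k, rfl⟩ := mem_zpowers_iff.mp hx'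
    have hc : Commute (g : G) d := (mem_centralizer_iff.mp hgC d hd).symm
    exact (hc.zpow_left k).eq
  have := card_dvd_of_le hDC
  rw [hD, hC5 P5] at this
  norm_num at this

theorem c1_card_M_ge (hG : Nat.card G = 720) (h40 : Nat.card (Sylow 3 G) = 40) (P R : Sylow 3 G)
    (hD : Nat.card ((P : Subgroup G) ⊓ R : Subgroup G) = 3) (M : Subgroup G)
    (hN1 : normalizer ((P : Subgroup G) : Set G) ≤ M)
    (hN2 : normalizer ((R : Subgroup G) : Set G) ≤ M) : 54 ≤ Nat.card M := by
  have h1 := h8_card_mul_relIndex hN1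
  have h2 := h8_card_mul_relIndex hN2
  have h3 := h8_card_mul_relIndex
    ((inf_le_left.trans hN1 : normalizer ((P : Subgroup G) : Set G) ⊓
      normalizer ((R : Subgroup G) : Set G) ≤ M))
  have h4 : (normalizer ((P : Subgroup G) : Set G) ⊓ normalizer ((R : Subgroup G) : Set G)).relIndex M
      ≤ (normalizer ((P : Subgroup G) : Set G)).relIndex M *
        (normalizer ((R : Subgroup G) : Set G)).relIndex M := relIndex_inf_le
  have hI : Nat.card (normalizer ((P : Subgroup G) : Set G) ⊓
      normalizer ((R : Subgroup G) : Set G) : Subgroup G) ≤ 6 := by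
    have e := h8_card_inf_mul_relIndex (P : Subgroup G)
      (normalizer ((P : Subgroup G) : Set G) ⊓ normalizer ((R : Subgroup G) : Set G))
    have hidx := c1_relIndex_two hG h40 P
    have e1 : (P : Subgroup G).relIndex
        (normalizer ((P : Subgroup G) : Set G) ⊓ normalizer ((R : Subgroup G) : Set G)) ≤ 2 := by
      have := relIndex_le_of_le_right (H := (P : Subgroup G))
        (inf_le_left : normalizer ((P : Subgroup G) : Set G) ⊓
          normalizer ((R : Subgroup G) : Set G) ≤ normalizer ((P : Subgroup G) : Set G))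
        (by rw [hidx]; norm_num)
      rwa [hidx] at this
    have e2 : Nat.card ((P : Subgroup G) ⊓ (normalizer ((P : Subgroup G) : Set G) ⊓
        normalizer ((R : Subgroup G) : Set G)) : Subgroup G) ≤ 3 := by
      have hle : (P : Subgroup G) ⊓ (normalizer ((P : Subgroup G) : Set G) ⊓
          normalizer ((R : Subgroup G) : Set G)) ≤ (P : Subgroup G) ⊓ R := by
        apply le_inf inf_le_left
        exact h8_le_sylow_of_le_normalizer 3 R _ (IsPGroup.to_le P.2 inf_le_left)
          (inf_le_right.trans inf_le_right)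
      have h := Nat.le_of_dvd (by rw [hD]; norm_num) (card_dvd_of_le hle)
      rw [hD] at h
      exact h
    calc Nat.card (normalizer ((P : Subgroup G) : Set G) ⊓
          normalizer ((R : Subgroup G) : Set G) : Subgroup G)
        = _ := e.symm
      _ ≤ 3 * 2 := Nat.mul_le_mul e2 e1
  rw [c1_card_N hG h40 P] at h1
  rw [c1_card_N hG h40 R] at h2
  generalize (normalizer ((P : Subgroup G) : Set G)).relIndex M = a at h1 h4
  generalize (normalizer ((R : Subgroup G) : Set G)).relIndex M = b at h2 h4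
  generalize (normalizer ((P : Subgroup G) : Set G) ⊓
    normalizer ((R : Subgroup G) : Set G)).relIndex M = ri at h3 h4
  generalize Nat.card (normalizer ((P : Subgroup G) : Set G) ⊓
      normalizer ((R : Subgroup G) : Set G) : Subgroup G) = i at h3 hI
  have hMpos : 0 < Nat.card M := Nat.card_pos
  by_contra hlt
  push Not at hlt
  have ha : a ≤ 2 := by omega
  have hab : a = b := by omega
  subst hab
  interval_cases a
  · omega
  · -- m = 18, ri ≤ 1
    have : ri = 1 := by
      rcases Nat.eq_zero_or_pos ri with h | h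
      · subst h; omega
      · omega
    subst this; omega
  · -- m = 36, ri ≤ 4, i ≤ 6
    have : i * ri ≤ 6 * 4 := Nat.mul_le_mul hI h4
    omega

/-- conjugating an involution of `M` into a given subgroup of order 8 (`|M| = 72`) -/
theorem c1_conj_into (M T : Subgroup G) (hTM : T ≤ M) (hM : Nat.card M = 72) (hT : Nat.card T = 8)
    (s : G) (hsM : s ∈ M) (hs2 : orderOf s = 2) : ∃ m ∈ M, m * s * m⁻¹ ∈ T := by
  haveI : Fact (Nat.Prime 2) := ⟨Nat.prime_two⟩
  have hfac : (Nat.card M).factorization 2 = 3 :=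
    h8_factorization_of_eq 2 3 9 _ Nat.prime_two (by rw [hM]; norm_num) (by norm_num)
  let TS : Sylow 2 M := Sylow.ofCard (T.subgroupOf M)
    (by rw [h8_card_subgroupOf hTM, hT, hfac]; norm_num)
  have hz : IsPGroup 2 (zpowers (⟨s, hsM⟩ : M)) :=
    IsPGroup.of_card (n := 1) (by
      rw [Nat.card_zpowers, ← Subgroup.orderOf_coe]; simpa using hs2)
  obtain ⟨S', hS'⟩ := hz.exists_le_sylow
  obtain ⟨m, hm⟩ := MulAction.exists_smul_eq M S' TS
  refine ⟨m, m.2, ?_⟩
  have h1 : (⟨s, hsM⟩ : M) ∈ (S' : Subgroup M) := hS' (mem_zpowers _)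
  have h2 : m * ⟨s, hsM⟩ * m⁻¹ ∈ ((m • S' : Sylow 2 M) : Subgroup M) := by
    rw [h8_mem_smul_sylow]
    have e : m⁻¹ * (m * ⟨s, hsM⟩ * m⁻¹) * m = ⟨s, hsM⟩ := by group
    rw [e]; exact h1
  rw [hm] at h2
  have h3 : ((TS : Sylow 2 M) : Subgroup M) = T.subgroupOf M := rfl
  rw [h3, mem_subgroupOf] at h2
  simpa using h2

/-- the normal 3-complement of `Q = C(D)` -/
theorem c1_normal_four (hG : Nat.card G = 720) (P : Sylow 3 G) (Q : Subgroup G)
    (hPQ : (P : Subgroup G) ≤ Q) (hQ : Nat.card Q = 36)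
    (hNQ : ∀ q ∈ Q, q ∈ normalizer ((P : Subgroup G) : Set G) → q ∈ (P : Subgroup G)) :
    ∃ V : Subgroup G, V ≤ Q ∧ Nat.card V = 4 ∧ (∀ q ∈ Q, ∀ v ∈ V, q * v * q⁻¹ ∈ V) ∧
      ∀ x ∈ Q, x ^ 4 = 1 → x ∈ V := by
  let PQ : Sylow 3 Q := P.subtype hPQ
  have hcoe : (PQ : Subgroup Q) = (P : Subgroup G).subgroupOf Q := Sylow.coe_subtype P hPQ
  have hN : normalizer ((PQ : Subgroup Q) : Set Q) ≤ centralizer ((PQ : Subgroup Q) : Set Q) := by
    intro q hq
    have hqN : (q : G) ∈ normalizer ((P : Subgroup G) : Set G) := by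
      apply h8_mem_normalizer_of_conj_le 3 P
      intro x hx
      have hq' := (mem_normalizer_iff.mp (inv_mem hq)) (⟨x, hPQ hx⟩ : Q)
      rw [hcoe, mem_subgroupOf, mem_subgroupOf] at hq'
      have := hq'.mp hx
      simpa using this
    have hqP := hNQ q q.2 hqN
    rw [mem_centralizer_iff]
    intro y hy
    have hyP : (y : G) ∈ (P : Subgroup G) := by
      rw [SetLike.mem_coe, hcoe, mem_subgroupOf] at hy; exact hy
    apply Subtype.ext
    simp only [Subgroup.coe_mul]
    exact c1_comm hG P y hyP q hqP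
  have hc := MonoidHom.ker_transferSylow_isComplement' PQ hN
  have hcard := hc.card_mul_card
  have hPQcard : Nat.card (PQ : Subgroup Q) = 9 := by
    rw [hcoe, h8_card_subgroupOf hPQ, c1_card_P hG P]
  have hV' : Nat.card (MonoidHom.transferSylow PQ hN).ker = 4 := by
    rw [hPQcard, hQ] at hcard; omega
  refine ⟨(MonoidHom.transferSylow PQ hN).ker.map Q.subtype, map_subtype_le _, ?_, ?_, ?_⟩
  · rw [card_map_of_injective Q.subtype_injective]; exact hV'
  · rintro q hq _ ⟨v, hv, rfl⟩
    refine ⟨⟨q, hq⟩ * v * ⟨q, hq⟩⁻¹, ?_, rfl⟩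
    exact (inferInstance : (MonoidHom.transferSylow PQ hN).ker.Normal).conj_mem v hv ⟨q, hq⟩
  · intro x hx h4
    refine ⟨⟨x, hx⟩, ?_, rfl⟩
    rw [SetLike.mem_coe, MonoidHom.mem_ker]
    have e4 : ((MonoidHom.transferSylow PQ hN) ⟨x, hx⟩) ^ 4 = 1 := by
      rw [← map_pow]
      have : (⟨x, hx⟩ : Q) ^ 4 = 1 := Subtype.ext (by simpa using h4)
      rw [this, map_one]
    have e9 : ((MonoidHom.transferSylow PQ hN) ⟨x, hx⟩) ^ 9 = 1 := by
      rw [← hPQcard]; exact pow_card_eq_one'
    calc (MonoidHom.transferSylow PQ hN) ⟨x, hx⟩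
        = ((MonoidHom.transferSylow PQ hN) ⟨x, hx⟩) ^ 9 *
          (((MonoidHom.transferSylow PQ hN) ⟨x, hx⟩) ^ 4)⁻¹ ^ 2 := by group
      _ = 1 := by rw [e4, e9]; simp

/-- 720-C1 -/
theorem s720_forty_struct (hG : Nat.card G = 720)
    (hC5 : ∀ P : Sylow 5 G, Nat.card (Subgroup.centralizer ((P : Subgroup G) : Set G)) = 5)
    (h40 : Nat.card (Sylow 3 G) = 40) :
    ∃ D : Subgroup G, Nat.card D = 3 ∧ Nat.card (Subgroup.normalizer (D : Set G)) = 72 ∧
      ∀ T : Subgroup G, T ≤ Subgroup.normalizer (D : Set G) → Nat.card T = 8 →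
        ∃ a ∈ T, ∃ b ∈ T, a * b ≠ b * a := by
  have hnc := c1_hnc hG
  obtain ⟨P, R, hPR, hD⟩ := c1_exists_pair hG h40
  set D : Subgroup G := (P : Subgroup G) ⊓ R with hDdef
  have hDP : D ≤ (P : Subgroup G) := inf_le_left
  have hDR : D ≤ (R : Subgroup G) := inf_le_right
  have hN1 : normalizer ((P : Subgroup G) : Set G) ≤ normalizer (D : Set G) :=
    c1_normalizer_le hG h40 P D hDP
  have hN2 : normalizer ((R : Subgroup G) : Set G) ≤ normalizer (D : Set G) :=
    c1_normalizer_le hG h40 R D hDR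
  -- the order of `M = N(D)`
  have hM72 : Nat.card (normalizer (D : Set G)) = 72 := by
    have h_a : Nat.card (normalizer (D : Set G)) ∣ 720 := hG ▸ Subgroup.card_subgroup_dvd_card _
    have h_b : 18 ∣ Nat.card (normalizer (D : Set G)) := by
      rw [← c1_card_N hG h40 P]; exact card_dvd_of_le hN1
    have h_c := c1_five_not_dvd hG hC5 D hD
    have h_d := c1_card_M_ge hG h40 P R hD _ hN1 hN2
    have h_e : Nat.card (normalizer (D : Set G)) ≠ 144 := by
      intro h
      have hidx : (normalizer (D : Set G)).index = 5 := by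
        have := (normalizer (D : Set G)).card_mul_index
        rw [h, hG] at this; omega
      have hne : normalizer (D : Set G) ≠ ⊤ := by
        intro ht
        rw [ht, Subgroup.card_top, hG] at h; omega
      have := h8_simple_two_mul_card_dvd_factorial hnc _ hne
      rw [hidx, hG] at this
      norm_num [Nat.factorial] at this
    obtain ⟨k, hk⟩ := h_b
    rw [hk] at h_a h_c h_d h_e ⊢
    have hk40 : k ∣ 40 := by
      have : 18 * k ∣ 18 * 40 := by simpa using h_a
      exact Nat.dvd_of_mul_dvd_mul_left (by norm_num) this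
    have hkle : k ≤ 40 := Nat.le_of_dvd (by norm_num) hk40
    interval_cases k <;> first | omega | (exfalso; revert hk40; decide) | (exfalso; apply h_c; decide)
  refine ⟨D, hD, hM72, ?_⟩
  intro T hTM hT8
  by_contra hab
  push Not at hab
  -- the centralizer of `D`
  obtain ⟨s, hsN, hs2⟩ := c1_exists_invol hG h40 P
  have hinv := invol_inverts hnc 3 P (c1_comm hG P)
    (by rw [c1_card_N hG h40 P, c1_card_P hG P]) s hsN hs2
  have hsM : s ∈ normalizer (D : Set G) := hN1 hsN
  obtain ⟨d0, hd0D, hd01⟩ := c1_exists_ne_one D hD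
  have hrel := h8_relIndex_centralizer_normalizer_dvd_prime 3 (by norm_num) D hD
  have hQcard := h8_card_centralizer_mul_relIndex D
  have hrel1 : (centralizer (D : Set G)).relIndex (normalizer (D : Set G)) ≠ 1 := by
    intro h
    have hMQ : normalizer (D : Set G) ≤ centralizer (D : Set G) := relIndex_eq_one.mp h
    have h1 := (mem_centralizer_iff.mp (hMQ hsM)) d0 hd0D
    have h2 := hinv d0 (hDP hd0D)
    have h3 : d0⁻¹ = d0 := by rw [← h2, ← h1]; group
    exact hd01 (c1_no_invert D hD d0 hd0D h3)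
  have hrel2 : (centralizer (D : Set G)).relIndex (normalizer (D : Set G)) = 2 := by
    have h0 : (centralizer (D : Set G)).relIndex (normalizer (D : Set G)) ∣ 2 := hrel
    have := Nat.le_of_dvd (by norm_num) h0
    have hpos : (centralizer (D : Set G)).relIndex (normalizer (D : Set G)) ≠ 0 := by
      intro h; rw [h] at h0; norm_num at h0
    omega
  have hQ36 : Nat.card (centralizer (D : Set G)) = 36 := by
    rw [hrel2, hM72] at hQcard; omega
  have hPQ : (P : Subgroup G) ≤ centralizer (D : Set G) := by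
    intro x hx
    rw [mem_centralizer_iff]
    intro d hd
    exact c1_comm hG P d (hDP hd) x hx
  have hNQ : ∀ q ∈ centralizer (D : Set G), q ∈ normalizer ((P : Subgroup G) : Set G) →
      q ∈ (P : Subgroup G) := by
    intro q hqQ hqN
    rcases c1_normalizer_dichotomy hG h40 P q hqN with h | h
    · exact h
    · exfalso
      have h1 := (mem_centralizer_iff.mp hqQ) d0 hd0D
      have h2 := h d0 (hDP hd0D)
      have h3 : d0⁻¹ = d0 := by rw [← h2, ← h1]; group
      exact hd01 (c1_no_invert D hD d0 hd0D h3)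
  obtain ⟨V, hVQ, hV4, hVnorm, hVuniq⟩ := c1_normal_four hG P _ hPQ hQ36 hNQ
  -- `V ≤ T`
  have hVT : V ≤ T := by
    have hT0 := h8_card_inf_mul_relIndex (centralizer (D : Set G)) T
    rw [hT8] at hT0
    have hrT : (centralizer (D : Set G)).relIndex T ≤ 2 := by
      have := relIndex_le_of_le_right (H := centralizer (D : Set G)) hTM (by rw [hrel2]; norm_num)
      rwa [hrel2] at this
    have hdvd : Nat.card (centralizer (D : Set G) ⊓ T : Subgroup G) ∣ 36 := by
      rw [← hQ36]; exact card_dvd_of_le inf_le_left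
    have h4 : Nat.card (centralizer (D : Set G) ⊓ T : Subgroup G) = 4 := by
      generalize (centralizer (D : Set G)).relIndex T = r at hT0 hrT
      generalize Nat.card (centralizer (D : Set G) ⊓ T : Subgroup G) = c at hT0 hdvd
      interval_cases r
      · omega
      · exfalso
        have : c = 8 := by omega
        subst this; norm_num at hdvd
      · omega
    have hle : centralizer (D : Set G) ⊓ T ≤ V := by
      intro x hx
      apply hVuniq x hx.1
      have := (centralizer (D : Set G) ⊓ T).orderOf_dvd_natCard hx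
      rw [h4] at this
      exact orderOf_dvd_iff_pow_eq_one.mp this
    have heq : centralizer (D : Set G) ⊓ T = V :=
      eq_of_le_of_card_ge hle (by rw [hV4, h4])
    rw [← heq]; exact inf_le_right
  -- an involution of `T` inverting a Sylow 3-subgroup
  obtain ⟨m, hmM, hmT⟩ := c1_conj_into _ T hTM hM72 hT8 s hsM hs2
  have hP'mem : ∀ y, y ∈ ((m • P : Sylow 3 G) : Subgroup G) ↔ m⁻¹ * y * m ∈ (P : Subgroup G) :=
    fun y => h8_mem_smul_sylow 3 m y P
  have htinv : ∀ y ∈ ((m • P : Sylow 3 G) : Subgroup G),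
      (m * s * m⁻¹) * y * (m * s * m⁻¹)⁻¹ = y⁻¹ := by
    intro y hy
    have h1 := hinv _ ((hP'mem y).mp hy)
    have e : (m * s * m⁻¹) * y * (m * s * m⁻¹)⁻¹ = m * (s * (m⁻¹ * y * m) * s⁻¹) * m⁻¹ := by group
    rw [e, h1]; group
  have hDP' : D ≤ ((m • P : Sylow 3 G) : Subgroup G) := by
    intro d hd
    rw [hP'mem]
    have : m⁻¹ * d * m ∈ D := by
      have := (mem_normalizer_iff.mp (inv_mem hmM) d).mp hd
      simpa using this
    exact hDP this
  have hP'Q : ((m • P : Sylow 3 G) : Subgroup G) ≤ centralizer (D : Set G) := fun y hy =>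
    mem_centralizer_iff.mpr (fun d hd => c1_comm hG (m • P) d (hDP' hd) y hy)
  have hVP' : V ≤ ((m • P : Sylow 3 G) : Subgroup G) := by
    intro v hv
    rw [← c1_centralizer_eq hG h40 (m • P), mem_centralizer_iff]
    intro y hy
    have hw : y * v * y⁻¹ ∈ V := hVnorm y (hP'Q hy) v hv
    have ht_w : (m * s * m⁻¹) * (y * v * y⁻¹) = (y * v * y⁻¹) * (m * s * m⁻¹) :=
      hab _ hmT _ (hVT hw)
    have ht_v : (m * s * m⁻¹) * v = v * (m * s * m⁻¹) := hab _ hmT v (hVT hv)
    have hty := htinv y hy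
    generalize m * s * m⁻¹ = t at ht_w ht_v hty
    have h1 : y⁻¹ * v * y = y * v * y⁻¹ := by
      have key : t * (y * v * y⁻¹) * t⁻¹ = (t * y * t⁻¹) * (t * v * t⁻¹) * (t * y * t⁻¹)⁻¹ := by
        group
      rw [hty] at key
      have e1 : t * (y * v * y⁻¹) * t⁻¹ = y * v * y⁻¹ := by rw [ht_w]; group
      have e2 : t * v * t⁻¹ = v := by rw [ht_v]; group
      rw [e1, e2] at key
      rw [key]; group
    have h2 : (y * y) * v = v * (y * y) := by
      calc (y * y) * v = y * (y * v * y⁻¹) * y := by group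
        _ = y * (y⁻¹ * v * y) * y := by rw [h1]
        _ = v * (y * y) := by group
    have h9 : y ^ 9 = 1 := by
      have := ((m • P : Sylow 3 G) : Subgroup G).orderOf_dvd_natCard hy
      rw [c1_card_P hG (m • P)] at this
      exact orderOf_dvd_iff_pow_eq_one.mp this
    have h3 : y = (y * y) ^ 5 := by
      calc y = y ^ 9 * y := by rw [h9, one_mul]
        _ = y ^ 10 := by rw [← pow_succ]
        _ = (y * y) ^ 5 := by rw [← pow_two, ← pow_mul]
    rw [h3]
    exact (Commute.pow_left (h2 : Commute (y * y) v) 5).eq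
  have := card_dvd_of_le hVP'
  rw [hV4, c1_card_P hG (m • P)] at this
  norm_num at this

end

end Cfsg.Agent.Lib.helper3.S496
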