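import Mathlib
import Cfsg.Agent.Lib.helper3.S5953.Defs

/-!
# S5953 rows A3 (r_not_dvd_q) + A4 (arith_suff) (helper20).
-/

set_option autoImplicit false
set_option linter.unusedVariables false

namespace Cfsg.Agent.Lib.helper3.S5953

open Polynomial Module

/-- A3 [S] QUNIT: `r ≠ p` does not divide `q`. -/
theorem r_not_dvd_q {F : Type*} [Field F] [Fintype F] {p : ℕ} [Fact p.Prime] [CharP F p] {q : ℕ}
    (hF : Fintype.card F = q ^ 2) (r : ℕ) [Fact r.Prime] (hrp : r ≠ p) : ¬ r ∣ q := by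
  have hpp : p.Prime := Fact.out
  have hrr : r.Prime := Fact.out
  obtain ⟨e, _, he⟩ := FiniteField.card F p
  rw [hF] at he
  intro hrq
  have h1 : r ∣ p ^ (e : ℕ) := by
    rw [← he]
    exact dvd_pow hrq (by norm_num)
  have h2 : r ∣ p := hrr.dvd_of_dvd_pow h1
  exact hrp ((Nat.prime_dvd_prime_iff_eq hrr hpp).mp h2)

/-- A4 [M] ARITHS: the arithmetic of the sufficiency direction. -/
theorem arith_suff (i b c n m fixd cycd tdim r : ℕ) (hi : 1 ≤ i) (hb : b = bb i) (hc : c = cc i)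
    (hmn : 2 * m ≤ n) (hsum : fixd + cycd = n) (hbc : b ∣ cycd) (hbt : b ∣ tdim)
    (hbr : b ∣ r - 1) (hT2 : 2 * tdim ≤ cycd)
    (hT : (i % 4 ≠ 2 ∧ 2 * tdim = cycd) ∨ (i % 4 = 2 ∧ cycd ≤ 2 * tdim + (r - 1)))
    (h1 : 2 * (m % b) ≤ n % c)
    (h2 : i % 4 ≠ 2 ∨ (r - 1) / b + 2 * (m / b) ≤ n / b) :
    ∃ w1 s : ℕ, 2 * w1 ≤ fixd ∧ s * b ≤ tdim ∧ m = w1 + s * b := by
  have hcb : 1 ≤ b ∧ ((i % 4 ≠ 2 ∧ c = 2 * b) ∨ (i % 4 = 2 ∧ c = b)) := by
    rw [hb, hc]
    unfold bb cc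
    simp only [Nat.even_iff]
    split_ifs <;> omega
  obtain ⟨hb1, hcb⟩ := hcb
  obtain ⟨T, hT'⟩ := hbt
  obtain ⟨C, hC⟩ := hbc
  obtain ⟨R, hR⟩ := hbr
  have hm := Nat.div_add_mod m b
  have hm0lt : m % b < b := Nat.mod_lt _ hb1
  have hRdiv : (r - 1) / b = R := by
    rw [hR]
    exact Nat.mul_div_cancel_left R hb1
  -- `n % c ≤ fixd`
  have hmod : n % c ≤ fixd := by
    rcases hcb with ⟨hi4, hc2⟩ | ⟨hi4, hc1⟩
    · rcases hT with ⟨-, hTe⟩ | ⟨hi4', -⟩
      · have hn : n = fixd + (2 * b) * T := by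
          rw [← hsum, ← hTe, hT']
          ring
        rw [hc2, hn, Nat.add_mul_mod_self_left]
        exact Nat.mod_le _ _
      · exact absurd hi4' hi4
    · have hn : n = fixd + b * C := by rw [← hsum, hC]
      rw [hc1, hn, Nat.add_mul_mod_self_left]
      exact Nat.mod_le _ _
  by_cases hMT : m / b ≤ T
  · refine ⟨m % b, m / b, by omega, ?_, ?_⟩
    · rw [hT', mul_comm]
      exact Nat.mul_le_mul_left b hMT
    · rw [mul_comm (m / b) b]
      omega
  · have hMT' : T + 1 ≤ m / b := by omega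
    have hbT : b * T + b ≤ b * (m / b) := by
      have := Nat.mul_le_mul_left b hMT'
      rw [mul_add, mul_one] at this
      exact this
    refine ⟨m - b * T, T, ?_, ?_, ?_⟩
    · rcases hcb with ⟨hi4, hc2⟩ | ⟨hi4, hc1⟩
      · rcases hT with ⟨-, hTe⟩ | ⟨hi4', -⟩
        · rw [hT'] at hTe
          omega
        · exact absurd hi4' hi4
      · rcases hT with ⟨hi4', -⟩ | ⟨-, hTle⟩
        · exact absurd hi4 hi4'
        · rcases h2 with hi4' | h2
          · exact absurd hi4 hi4'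
          · rw [hRdiv] at h2
            have h3 := Nat.mul_le_mul_left b h2
            rw [mul_add] at h3
            have h4 : b * (2 * (m / b)) = 2 * (b * (m / b)) := by ring
            rw [h4] at h3
            have h5 := Nat.div_add_mod n b
            rw [hc1] at h1
            rw [hT', hR] at hTle
            omega
    · rw [hT', mul_comm]
    · rw [mul_comm T b]
      omega

end Cfsg.Agent.Lib.helper3.S5953
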