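import Mathlib
import Cfsg.Agent.Lib.helper3.S5953.Defs
import Cfsg.Agent.Lib.helper3.S5953.Defs2
import Cfsg.Agent.Lib.Helper25.S5953A1
import Cfsg.Agent.Lib.helper23.S5953A2
import Cfsg.Agent.Lib.Helper20.S5953A3
import Cfsg.Agent.Lib.Helper26.S5953N2
import Cfsg.Agent.Lib.Helper9.S5953N7
import Cfsg.Agent.Lib.Helper16.S5953N8
import Cfsg.Agent.Lib.Helper16.S5953N9
import Cfsg.Agent.Lib.Helper21.S5955N8
import Cfsg.Agent.Lib.Helper13.S5955N7

/-!
# Project S5953, row N11 (distel), CORE (helper20): the statements of N3 (`cauchy_fpf`), N4 (`bsum_ctx`), N5 (`bsum_fix`)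
as hypotheses; N2, N7, N8, N9, A1, A2, A3, `Helper13.S5955.cosets`, `s5955n7_core` are cited (transplant of Helper1 `S5955N11core`).
-/

set_option autoImplicit false
set_option linter.unusedVariables false

namespace Cfsg.Agent.Lib.helper3.S5953

open Polynomial Module

theorem s5953n11_core {F : Type*} [Field F] [Fintype F] {p : ℕ} [Fact p.Prime] [CharP F p] {q : ℕ}
    (hF : Fintype.card F = q ^ 2) (r : ℕ) [Fact r.Prime] (hrp : r ≠ p) (hr2 : r ≠ 2) (n i b : ℕ)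
    (hi : i = orderOf (q : ZMod r)) (hi2 : i % 4 = 2) (hb : b = bb i) (hbn : b ≤ n)
    (hN3 : ∀ (c : ℕ), c = cc (orderOf (q : ZMod r)) → ∀ y : Module.End F (Fin c → F),
      HCtx q r 1 y → y ≠ 1 →
      fixS y = ⊥ ∧ (orderOf (q : ZMod r) % 4 = 2 →
        ∀ U : Submodule F (Fin c → F), HInv y U → U = ⊥ ∨ U = ⊤))
    (hN4 : ∀ (A w : ℕ) (y : Fin A → Module.End F (Fin b → F)), (∀ a, HCtx q r 1 (y a)) →
      HCtx q r 1 (bsumX (Fin w) y))
    (hN5 : ∀ (A w : ℕ) (y : Fin A → Module.End F (Fin b → F)), (∀ a, fixS (y a) = ⊥) →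
      finrank F (fixS (bsumX (Fin w) y)) = Fintype.card (Fin w) ∧
        (1 ≤ A → Nonempty (Fin b) → bsumX (Fin w) y ≠ 1)) :
    ∃ y : Module.End F (Fin n → F), HCtx q r 1 y ∧ y ≠ 1 ∧
      finrank F (fixS y) + b * min ((r - 1) / b) (n / b) = n ∧
      ∀ W : Submodule F (Fin n → F), HInv y W → HTI q W → W ≤ fixS y := by
  classical
  have hr : r.Prime := Fact.out
  have hp : p.Prime := Fact.out
  have hrq : ¬ r ∣ q := r_not_dvd_q hF r hrp
  have hq0 : q ≠ 0 := by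
    rintro rfl
    exact hrq (dvd_zero r)
  have hrF : ¬ r ∣ Fintype.card F := by
    rw [hF]
    intro hdvd
    exact hrq (hr.dvd_of_dvd_pow hdvd)
  -- `b = cc i = ord_r(q²)`
  have hbc : b = cc (orderOf (q : ZMod r)) := by
    rw [hb, hi]
    unfold bb cc
    have he : Even (orderOf (q : ZMod r)) := by
      rw [Nat.even_iff]
      omega
    rw [if_pos he, if_neg (by omega), if_pos (by omega)]
  have hord : orderOf ((Fintype.card F : ℕ) : ZMod r) = b := by
    rw [hF, ord_sq, ← hi, ← hb]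
  have hbpos : 0 < b := by
    rw [← hord]
    exact Cfsg.Agent.Lib.Helper24.el_ord_pos (F := F) (p := p) r hrp
  have hbdvd : b ∣ r - 1 := by
    have hne0 : ((Fintype.card F : ℕ) : ZMod r) ≠ 0 := by
      rw [Ne, ZMod.natCast_eq_zero_iff]
      exact hrF
    rw [← hord]
    apply orderOf_dvd_of_pow_eq_one
    exact ZMod.pow_card_sub_one_eq_one hne0
  have hr1 : 0 < r - 1 := by
    have := hr.two_le
    omega
  have hble : b ≤ r - 1 := Nat.le_of_dvd hr1 hbdvd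
  -- the basic block
  have hneg : (-(q : ZMod r)) ^ b = 1 := by
    have h1 := ord_neg q r hr2 hrq
    rw [← hbc] at h1
    rw [← h1]
    exact pow_orderOf_eq_one _
  obtain ⟨y0, hy0, hy01⟩ := cauchy hF r b hbpos hneg
  obtain ⟨hfix0, hirr0'⟩ := hN3 b hbc y0 hy0 hy01
  have hirr0 : ∀ U : Submodule F (Fin b → F), HInv y0 U → U = ⊥ ∨ U = ⊤ :=
    hirr0' (by rw [← hi]; exact hi2)
  have hy0r : y0 ^ r = 1 := by
    rw [hy0.pow, one_smul]
  have hcosets : ∃ l : Fin ((r - 1) / b) → ℕ, (∀ a, ¬ r ∣ l a) ∧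
      ∀ a a', a ≠ a' → ∀ e : ℕ, ¬ (l a' ≡ l a * Fintype.card F ^ e [MOD r]) := by
    have h1 := Cfsg.Agent.Lib.Helper13.S5955.cosets (Fintype.card F) r hrF
    rw [hord] at h1
    exact h1
  obtain ⟨l, hl, hlcos⟩ := hcosets
  obtain ⟨A, hA⟩ : ∃ A : ℕ, A = min ((r - 1) / b) (n / b) := ⟨_, rfl⟩
  have hAt : A ≤ (r - 1) / b := by rw [hA]; exact min_le_left _ _
  have hAd : A ≤ n / b := by rw [hA]; exact min_le_right _ _
  have ht1 : 1 ≤ (r - 1) / b := (Nat.le_div_iff_mul_le hbpos).mpr (by omega)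
  have hd1 : 1 ≤ n / b := (Nat.le_div_iff_mul_le hbpos).mpr (by omega)
  have hA1 : 1 ≤ A := by rw [hA]; exact le_min ht1 hd1
  have hAb : A * b ≤ n := by
    calc A * b ≤ (n / b) * b := Nat.mul_le_mul_right b hAd
      _ ≤ n := Nat.div_mul_le_self _ _
  obtain ⟨w, hw⟩ : ∃ w : ℕ, w = n - A * b := ⟨_, rfl⟩
  let ι : Fin A → Fin ((r - 1) / b) := Fin.castLE hAt
  have hιinj : Function.Injective ι := Fin.castLE_injective hAt
  let y : Fin A → Module.End F (Fin b → F) := fun a => y0 ^ (l (ι a))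
  have hyall : ∀ a, HCtx q r 1 (y a) ∧ fixS (y a) = ⊥ ∧
      ∀ U : Submodule F (Fin b → F), HInv (y a) U → U = ⊥ ∨ U = ⊤ :=
    fun a => pow_irr hy0 hfix0 hirr0 (l (ι a)) (hl (ι a))
  have hyctx : ∀ a, HCtx q r 1 (y a) := fun a => (hyall a).1
  have hyfix : ∀ a, fixS (y a) = ⊥ := fun a => (hyall a).2.1
  have hyirr : ∀ a, ∀ U : Submodule F (Fin b → F), HInv (y a) U → U = ⊥ ∨ U = ⊤ :=
    fun a => (hyall a).2.2
  have hne : Nonempty (Fin b) := ⟨⟨0, hbpos⟩⟩
  have hnt : Nontrivial (Fin b → F) := by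
    have : Nonempty (Fin b) := hne
    infer_instance
  have hydist : ∀ a a', a ≠ a' → ¬ ∃ φ : (Fin b → F) ≃ₗ[F] (Fin b → F),
      ∀ v, φ (y a v) = y a' (φ v) := by
    intro a a' hab
    have hab' : ι a ≠ ι a' := fun hcon => hab (hιinj hcon)
    rintro ⟨φ, hφ⟩
    exact Cfsg.Agent.Lib.Helper13.S5955.s5955n7_core r hrp y0 hy0r hy01 hirr0 (l (ι a)) (l (ι a'))
      (hl (ι a)) (hlcos (ι a) (ι a') hab') φ hφ
  have hctx : HCtx q r 1 (bsumX (Fin w) y) := hN4 A w y hyctx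
  obtain ⟨hfixw, hne1⟩ := hN5 A w y hyfix
  have hdist : ∀ W : Submodule F (BIdx A (Fin b) (Fin w) → F), HInv (bsumX (Fin w) y) W →
      HTI q W → W ≤ fixS (bsumX (Fin w) y) := by
    intro W hW hWti
    have : Nonempty (Fin b) := hne
    exact bsum_dist hq0 hr.pos y hyctx hyfix hyirr hydist W hW hWti
  have hcard : Fintype.card (BIdx A (Fin b) (Fin w)) = n := by
    rw [Fintype.card_sum, Fintype.card_prod, Fintype.card_fin, Fintype.card_fin, Fintype.card_fin, hw]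
    omega
  let e : BIdx A (Fin b) (Fin w) ≃ Fin n := Fintype.equivFinOfCardEq hcard
  obtain ⟨hctx', hfixdim, hscal, -, hsub, -⟩ := transport e (bsumX (Fin w) y) hctx
  refine ⟨reX e (bsumX (Fin w) y), hctx', ?_, ?_, hsub hdist⟩
  · intro h1
    have h2 : reX e (bsumX (Fin w) y) = (1 : F) • 1 := by rw [h1, one_smul]
    have h3 := (hscal 1).mp h2
    rw [one_smul] at h3
    exact hne1 hA1 hne h3
  · rw [hfixdim, hfixw, Fintype.card_fin, hw, ← hA]
    have : b * A = A * b := mul_comm _ _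
    omega

end Cfsg.Agent.Lib.helper3.S5953
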