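import Mathlib
import Cfsg.Agent.Lib.helper3.S5953.Defs
import Cfsg.Agent.Lib.Helper25.S5953A1

/-!
# Project S5953, row N3 (cauchy_fpf), CORE (helper20): the statements of T5 (`split`) and S1 (`nsd`) for the context as hypotheses.
-/

set_option autoImplicit false
set_option linter.unusedVariables false

namespace Cfsg.Agent.Lib.helper3.S5953

open Polynomial Module
open Cfsg.Agent.Lib.Helper24

theorem s5953n3_core {F : Type*} [Field F] [Fintype F] {p : ℕ} [Fact p.Prime] [CharP F p] {q : ℕ}
    (hF : Fintype.card F = q ^ 2) (r : ℕ) [Fact r.Prime] (hrp : r ≠ p) (hr2 : r ≠ 2) (c : ℕ)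
    (hc : c = cc (orderOf (q : ZMod r))) (y : Module.End F (Fin c → F)) (hy : HCtx q r 1 y)
    (hy1 : y ≠ 1)
    (hsplit : HOrth q (fixS y) (cycS r y) ∧ IsCompl (fixS y) (cycS r y) ∧ HND q (fixS y) ∧
      HND q (cycS r y))
    (hnsd : ∀ N : Submodule F (Fin c → F), HInv y N → HND q N → N ≤ cycS r y → N ≠ ⊥ →
      cc (orderOf (q : ZMod r)) ≤ finrank F N) :
    fixS y = ⊥ ∧ (orderOf (q : ZMod r) % 4 = 2 →
      ∀ U : Submodule F (Fin c → F), HInv y U → U = ⊥ ∨ U = ⊤) := by
  obtain ⟨-, hcompl, -, hcnd⟩ := hsplit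
  have hcinv : HInv y (cycS r y) := el_inv_ker y (cyclotomic r F)
  -- `cycS ≠ ⊥`
  have hc0 : cycS r y ≠ ⊥ := by
    intro h0
    apply hy1
    have htop : fixS y = ⊤ := by
      have := hcompl.sup_eq_top
      rw [h0, sup_bot_eq] at this
      exact this
    apply LinearMap.ext
    intro v
    have hv : v ∈ fixS y := by rw [htop]; exact Submodule.mem_top
    have h1 : aeval y (X - 1 : F[X]) v = 0 := LinearMap.mem_ker.mp hv
    rw [map_sub, aeval_X, map_one, LinearMap.sub_apply, Module.End.one_apply, sub_eq_zero] at h1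
    rw [h1, Module.End.one_apply]
  have hdim : c ≤ finrank F (cycS r y) := by
    have h1 := hnsd _ hcinv hcnd le_rfl hc0
    rw [← hc] at h1
    exact h1
  have hVdim : finrank F (Fin c → F) = c := Module.finrank_fin_fun F
  have hctop : cycS r y = ⊤ := by
    apply Submodule.eq_top_of_finrank_eq
    have := Submodule.finrank_le (cycS r y)
    omega
  refine ⟨?_, ?_⟩
  · have := hcompl.inf_eq_bot
    rw [hctop, inf_top_eq] at this
    exact this
  · intro hi4 U hU
    -- irreducible factors of `Φ_r` have degree `bb i = c`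
    have hbc : orderOf ((Fintype.card F : ℕ) : ZMod r) = c := by
      have hcc : cc (orderOf (q : ZMod r)) = bb (orderOf (q : ZMod r)) := by
        unfold bb cc
        have he : Even (orderOf (q : ZMod r)) := by
          rw [Nat.even_iff]
          omega
        rw [if_pos he, if_neg (by omega), if_pos hi4]
      rw [hF, ord_sq, ← hcc, ← hc]
    have hQ0 : cyclotomic r F ≠ 0 := cyclotomic_ne_zero r F
    have hkill : ∀ u ∈ U, aeval y (cyclotomic r F) u = 0 := by
      intro u _
      have : u ∈ cycS r y := by rw [hctop]; exact Submodule.mem_top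
      exact LinearMap.mem_ker.mp this
    have hd : ∀ P : F[X], Irreducible P → P ∣ cyclotomic r F → P.natDegree = c :=
      fun P hP hPQ => by rw [← hbc]; exact el_cyc_deg r hrp P hP hPQ
    have hcpos : 0 < c := by
      rw [← hbc]
      exact el_ord_pos (F := F) r hrp
    have hdvd : c ∣ finrank F U := el_dvd_dim y U hU (cyclotomic r F) hQ0 hkill c hcpos hd
    have hle : finrank F U ≤ c := by
      have := Submodule.finrank_le U
      omega
    obtain ⟨k, hk⟩ := hdvd
    rcases Nat.eq_zero_or_pos k with h0 | h0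
    · left
      apply Submodule.finrank_eq_zero.mp
      rw [hk, h0, mul_zero]
    · right
      apply Submodule.eq_top_of_finrank_eq
      rw [hVdim]
      have : c * 1 ≤ c * k := Nat.mul_le_mul_left c h0
      omega

end Cfsg.Agent.Lib.helper3.S5953
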