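import Mathlib
import Cfsg.Agent.Lib.helper3.S5953.Defs
import Cfsg.Agent.Lib.Helper20.S5953N3core
import Cfsg.Agent.Lib.Helper27.S5953T5
import Cfsg.Agent.Lib.Lead.S5953S1

/-!
# Project S5953, row N3 (cauchy_fpf), verbatim (helper20): `s5953n3_core` + T5 `split` (helper27) + S1 `nsd` (lead).
-/

set_option autoImplicit false
set_option linter.unusedVariables false

namespace Cfsg.Agent.Lib.helper3.S5953

open Polynomial Module

/-- N3 [M] FPF: for `c = ord_r(-q)` such an isometry is fixed-point-free (S1), and irreducible if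
`i ≡ 2 (mod 4)` (then `b = c`). -/
theorem cauchy_fpf {F : Type*} [Field F] [Fintype F] {p : ℕ} [Fact p.Prime] [CharP F p] {q : ℕ}
    (hF : Fintype.card F = q ^ 2) (r : ℕ) [Fact r.Prime] (hrp : r ≠ p) (hr2 : r ≠ 2) (c : ℕ)
    (hc : c = cc (orderOf (q : ZMod r))) (y : Module.End F (Fin c → F)) (hy : HCtx q r 1 y)
    (hy1 : y ≠ 1) :
    fixS y = ⊥ ∧ (orderOf (q : ZMod r) % 4 = 2 →
      ∀ U : Submodule F (Fin c → F), HInv y U → U = ⊥ ∨ U = ⊤) :=
  s5953n3_core hF r hrp hr2 c hc y hy hy1 (split hF hrp hy)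
    (fun N hN hNnd hNc hN0 => nsd hF hrp hr2 hy N hN hNnd hNc hN0)

end Cfsg.Agent.Lib.helper3.S5953
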