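import Mathlib
import Cfsg.Agent.Lib.helper3.S5953.Defs
import Cfsg.Agent.Lib.helper3.S5953.Defs2
import Cfsg.Agent.Lib.Helper20.S5953N11core
import Cfsg.Agent.Lib.Helper20.S5953N3
import Cfsg.Agent.Lib.Helper26.S5953N45

/-!
# Project S5953, row N11 (distel), verbatim (helper20): `s5953n11_core` + N3 `cauchy_fpf` + helper26's `s5953n4_core` (N4) and `bsum_fix` (N5).
-/

set_option autoImplicit false
set_option linter.unusedVariables false

namespace Cfsg.Agent.Lib.helper3.S5953

open Polynomial Module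

/-- N11 [L] DISTEL: `i ≡ 2 (mod 4)`: an isometry `≠ 1` of order `r` with `min((r-1)/b, n/b)`
pairwise non-isomorphic irreducible blocks (powers `y0 ^ l_a`, `l_a` coset representatives of
`⟨q²⟩`: `Helper13.S5955.cosets` with `q := card F`, `Helper13.S5955.s5955n7_core`, N8, N7): all
t.i. invariant subspaces lie in the fixed space. -/
theorem distel {F : Type*} [Field F] [Fintype F] {p : ℕ} [Fact p.Prime] [CharP F p] {q : ℕ}
    (hF : Fintype.card F = q ^ 2) (r : ℕ) [Fact r.Prime] (hrp : r ≠ p) (hr2 : r ≠ 2) (n i b : ℕ)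
    (hi : i = orderOf (q : ZMod r)) (hi2 : i % 4 = 2) (hb : b = bb i) (hbn : b ≤ n) :
    ∃ y : Module.End F (Fin n → F), HCtx q r 1 y ∧ y ≠ 1 ∧
      finrank F (fixS y) + b * min ((r - 1) / b) (n / b) = n ∧
      ∀ W : Submodule F (Fin n → F), HInv y W → HTI q W → W ≤ fixS y :=
  s5953n11_core hF r hrp hr2 n i b hi hi2 hb hbn
    (fun c hc y hy hy1 => cauchy_fpf hF r hrp hr2 c hc y hy hy1)
    (fun A w y hy => s5953n4_core (Or.inl rfl) one_ne_zero y hy)
    (fun A w y hfix => bsum_fix y hfix)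

end Cfsg.Agent.Lib.helper3.S5953
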