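import Mathlib
import Cfsg.Agent.Lib.helper3.S5953.Defs
import Cfsg.Agent.Lib.Helper20.S5953T1
import Cfsg.Agent.Lib.Helper25.S5953T4

/-!
# Project S5953, rows S3 (distinct_bound) and S4 (lag_dist), CORES (helper20)

`s5953s3_core`: the statement of `distinct_bound` with the statements of T7 (`peel_nd`) and T11 (`genline`), specialised to
the context, as hypotheses (transplant of helper17's `S5955T10core`).
`s5953s4_core`: the statement of `lag_dist` with the statements of T6 (`peel_ti`) and S3 as hypotheses (transplant of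
Helper18's `S5955T11core`).
-/

set_option autoImplicit false
set_option linter.unusedVariables false

namespace Cfsg.Agent.Lib.helper3.S5953

open Polynomial Module
open Cfsg.Agent.Lib.Helper24

/-- the linear functional `u ↦ h(u, w)` -/
def s5953s3_lf {F : Type*} [Field F] {ι : Type*} [Fintype ι] (q : ℕ) (w : ι → F) : (ι → F) →ₗ[F] F where
  toFun := fun u => hermI ι F q u w
  map_add' := fun a b => hermI_add_left q a b w
  map_smul' := fun c a => by
    rw [hermI_smul_left]
    rfl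

theorem s5953s3_lf_apply {F : Type*} [Field F] {ι : Type*} [Fintype ι] (q : ℕ) (w u : ι → F) :
    s5953s3_lf q w u = hermI ι F q u w := rfl

/-- orthogonality is symmetric -/
theorem s5953s3_orth_symm {F : Type*} [Field F] [Fintype F] {q : ℕ} (hF : Fintype.card F = q ^ 2)
    {ι : Type*} [Fintype ι] (u v : ι → F) (huv : hermI ι F q u v = 0) : hermI ι F q v u = 0 := by
  have hq : q ≠ 0 := by
    rintro rfl
    have h1 : 1 < Fintype.card F := Fintype.one_lt_card
    rw [hF] at h1
    omega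
  rw [hermI_conj hF u v, huv, zero_pow hq]

/-- the span of the orbit of `v` -/
theorem s5953s3_orbit_span {F : Type*} [Field F] [Fintype F] {q : ℕ} (hF : Fintype.card F = q ^ 2)
    {ι : Type*} [Fintype ι] {x : Module.End F (ι → F)} (v : ι → F)
    (hvB : ∀ a b : ℕ, hermI ι F q ((x ^ a) v) ((x ^ b) v) = 0) :
    v ∈ Submodule.span F (Set.range (fun a : ℕ => (x ^ a) v)) ∧
      HInv x (Submodule.span F (Set.range (fun a : ℕ => (x ^ a) v))) ∧
      HTI q (Submodule.span F (Set.range (fun a : ℕ => (x ^ a) v))) := by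
  refine ⟨?_, ?_, ?_⟩
  · apply Submodule.subset_span
    exact ⟨0, by simp⟩
  · show ElInv x _
    rw [← el_inv_iff, Submodule.map_span_le]
    rintro _ ⟨a, rfl⟩
    apply Submodule.subset_span
    refine ⟨a + 1, ?_⟩
    show (x ^ (a + 1)) v = x ((x ^ a) v)
    rw [pow_succ', Module.End.mul_apply]
  · have h1 : ∀ b : ℕ, Submodule.span F (Set.range (fun a : ℕ => (x ^ a) v)) ≤
        LinearMap.ker (s5953s3_lf q ((x ^ b) v)) := by
      intro b
      rw [Submodule.span_le]
      rintro _ ⟨a, rfl⟩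
      exact LinearMap.mem_ker.mpr (hvB a b)
    have h2 : ∀ w ∈ Submodule.span F (Set.range (fun a : ℕ => (x ^ a) v)),
        Submodule.span F (Set.range (fun a : ℕ => (x ^ a) v)) ≤ LinearMap.ker (s5953s3_lf q w) := by
      intro w hw
      rw [Submodule.span_le]
      rintro _ ⟨b, rfl⟩
      have h3 : hermI ι F q w ((x ^ b) v) = 0 := LinearMap.mem_ker.mp (h1 b hw)
      exact LinearMap.mem_ker.mpr (s5953s3_orth_symm hF _ _ h3)
    intro u hu w hw
    exact LinearMap.mem_ker.mp (h2 w hw hu)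

/-- the generalised induction -/
theorem s5953s3_gen {F : Type*} [Field F] [Fintype F] {p : ℕ} [Fact p.Prime] [CharP F p]
    {q n : ℕ} (hF : Fintype.card F = q ^ 2) {r : ℕ} [Fact r.Prime] (hrp : r ≠ p)
    {y : Module.End F (Fin n → F)} (h : HCtx q r 1 y)
    (hodd : Odd (orderOf ((Fintype.card F : ℕ) : ZMod r)))
    (hT7 : ∀ N U : Submodule F (Fin n → F), HInv y N → HND q N → U ≤ N → HInv y U → HND q U →
      ∃ N' : Submodule F (Fin n → F), N' ≤ N ∧ HInv y N' ∧ HND q N' ∧ HOrth q U N' ∧ Disjoint U N' ∧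
        finrank F N' + finrank F U = finrank F N)
    (hT11 : ∀ M : Submodule F (Fin n → F), HInv y M → ∀ f : F[X], Irreducible f →
      Odd f.natDegree → (∀ u ∈ M, aeval y f u = 0) → 2 * f.natDegree ≤ finrank F M →
      ∃ v ∈ M, v ≠ 0 ∧ ∀ a b : ℕ, hermI (Fin n) F q ((y ^ a) v) ((y ^ b) v) = 0) :
    ∀ k : ℕ, ∀ (Q : F[X]) (N : Submodule F (Fin n → F)), finrank F N = k → Q ∣ cyclotomic r F →
      HInv y N → (∀ u ∈ N, aeval y Q u = 0) → HND q N →
      (∀ U : Submodule F (Fin n → F), U ≤ N → HInv y U → HTI q U → U = ⊥) →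
      finrank F N ≤ Q.natDegree := by
  have hrpr : r.Prime := Fact.out
  intro k
  induction k using Nat.strong_induction_on with
  | _ k ih =>
    intro Q N hn hQ hN hkill hNnd hno
    set i := orderOf ((Fintype.card F : ℕ) : ZMod r) with hi
    have hipos : 0 < i := el_ord_pos (F := F) r hrp
    have hQ0 : Q ≠ 0 := ne_zero_of_dvd_ne_zero (cyclotomic_ne_zero r F) hQ
    have hd : ∀ P : F[X], Irreducible P → P ∣ Q → P.natDegree = i :=
      fun P hP hPQ => el_cyc_deg r hrp P hP (hPQ.trans hQ)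
    by_cases hNbot : N = ⊥
    · rw [hNbot, finrank_bot]
      exact Nat.zero_le _
    have hdvd : i ∣ finrank F N := el_dvd_dim y N hN Q hQ0 hkill i hipos hd
    have hpos : 0 < finrank F N :=
      Nat.pos_of_ne_zero (fun h0 => hNbot (Submodule.finrank_eq_zero.mp h0))
    have hile : i ≤ finrank F N := Nat.le_of_dvd hpos hdvd
    obtain ⟨U1, hU1N, hU1, hU1d⟩ := el_exists_dim y N hN Q hQ0 hkill i hd 1
      (by rw [one_mul]; exact hile)
    rw [one_mul] at hU1d
    -- U1 is non-degenerate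
    have hRinv : HInv y (U1 ⊓ hperp q U1) :=
      el_inv_inf hU1 (perp_inv hrpr.pos h U1 hU1)
    have hRti : HTI q (U1 ⊓ hperp q U1) := by
      intro u hu v hv
      exact (mem_hperp q U1 u).mp hu.2 v hv.1
    have hR : U1 ⊓ hperp q U1 = ⊥ :=
      hno _ (inf_le_left.trans hU1N) hRinv hRti
    have hU1nd : HND q U1 := by
      intro u hu hall
      have hmem : u ∈ U1 ⊓ hperp q U1 :=
        Submodule.mem_inf.mpr ⟨hu, (mem_hperp q U1 u).mpr hall⟩
      rw [hR] at hmem
      exact (Submodule.mem_bot F).mp hmem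
    obtain ⟨N', hN'N, hN', hN'nd, -, hDisj, hdim⟩ := hT7 N U1 hN hNnd hU1N hU1 hU1nd
    -- an irreducible factor killing U1
    have hU1bot : U1 ≠ ⊥ := by
      intro hb
      rw [hb, finrank_bot] at hU1d
      omega
    obtain ⟨u0, hu0, hu00⟩ := Submodule.exists_mem_ne_zero_of_ne_bot hU1bot
    obtain ⟨w, hwU, hw0, P, hPirr, hPQ, hPw⟩ := el_find y ⊥ U1 hU1 Q Q.natDegree Q hQ0 le_rfl
      dvd_rfl u0 hu0 (by simpa using hu00)
      (by rw [hkill u0 (hU1N hu0)]; exact Submodule.zero_mem _)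
    have hPw' : aeval y P w = 0 := (Submodule.mem_bot F).mp hPw
    have hw0' : w ≠ 0 := by simpa using hw0
    have hPdeg : P.natDegree = i := hd P hPirr hPQ
    have hU1P : U1 ≤ LinearMap.ker (aeval y P) := by
      have hKinv : HInv y (U1 ⊓ LinearMap.ker (aeval y P)) := el_inv_inf hU1 (el_inv_ker y P)
      have hKkill : ∀ u ∈ U1 ⊓ LinearMap.ker (aeval y P), aeval y Q u = 0 :=
        fun u hu => hkill u (hU1N hu.1)
      have hKdvd : i ∣ finrank F ↥(U1 ⊓ LinearMap.ker (aeval y P)) :=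
        el_dvd_dim y _ hKinv Q hQ0 hKkill i hipos hd
      have hKne : U1 ⊓ LinearMap.ker (aeval y P) ≠ ⊥ := by
        intro hb
        have : w ∈ U1 ⊓ LinearMap.ker (aeval y P) := ⟨hwU, LinearMap.mem_ker.mpr hPw'⟩
        rw [hb] at this
        exact hw0' ((Submodule.mem_bot F).mp this)
      have hKpos : 0 < finrank F ↥(U1 ⊓ LinearMap.ker (aeval y P)) :=
        Nat.pos_of_ne_zero (fun h0 => hKne (Submodule.finrank_eq_zero.mp h0))
      have hKge : finrank F U1 ≤ finrank F ↥(U1 ⊓ LinearMap.ker (aeval y P)) := by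
        rw [hU1d]
        exact Nat.le_of_dvd hKpos hKdvd
      have hKeq : U1 ⊓ LinearMap.ker (aeval y P) = U1 :=
        Submodule.eq_of_le_of_finrank_le inf_le_left hKge
      rw [← hKeq]
      exact inf_le_right
    -- N' meets ker P(y) trivially
    have hK2 : N' ⊓ LinearMap.ker (aeval y P) = ⊥ := by
      by_contra hK2ne
      have hK2inv : HInv y (N' ⊓ LinearMap.ker (aeval y P)) := el_inv_inf hN' (el_inv_ker y P)
      have hK2kill : ∀ u ∈ N' ⊓ LinearMap.ker (aeval y P), aeval y Q u = 0 :=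
        fun u hu => hkill u (hN'N hu.1)
      have hK2dvd : i ∣ finrank F ↥(N' ⊓ LinearMap.ker (aeval y P)) :=
        el_dvd_dim y _ hK2inv Q hQ0 hK2kill i hipos hd
      have hK2pos : 0 < finrank F ↥(N' ⊓ LinearMap.ker (aeval y P)) :=
        Nat.pos_of_ne_zero (fun h0 => hK2ne (Submodule.finrank_eq_zero.mp h0))
      have hK2ge : i ≤ finrank F ↥(N' ⊓ LinearMap.ker (aeval y P)) := Nat.le_of_dvd hK2pos hK2dvd
      obtain ⟨U2, hU2K, hU2, hU2d⟩ := el_exists_dim y _ hK2inv Q hQ0 hK2kill i hd 1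
        (by rw [one_mul]; exact hK2ge)
      rw [one_mul] at hU2d
      have hU2N' : U2 ≤ N' := hU2K.trans inf_le_left
      have hMinv : HInv y (U1 ⊔ U2) := el_inv_sup hU1 hU2
      have hMle : U1 ⊔ U2 ≤ LinearMap.ker (aeval y P) := sup_le hU1P (hU2K.trans inf_le_right)
      have hMkill : ∀ u ∈ U1 ⊔ U2, aeval y P u = 0 := fun u hu => LinearMap.mem_ker.mp (hMle hu)
      have hMN : U1 ⊔ U2 ≤ N := sup_le hU1N (hU2N'.trans hN'N)
      have hinf : U1 ⊓ U2 = ⊥ := (hDisj.mono_right hU2N').eq_bot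
      have hMdim : finrank F ↥(U1 ⊔ U2) = 2 * i := by
        have := Submodule.finrank_sup_add_finrank_inf_eq U1 U2
        rw [hinf, finrank_bot, hU1d, hU2d] at this
        omega
      obtain ⟨v, hvM, hv0, hvB⟩ := hT11 (U1 ⊔ U2) hMinv P hPirr (by rw [hPdeg]; exact hodd) hMkill
        (by rw [hMdim, hPdeg])
      obtain ⟨hvT, hTinv, hTti⟩ := s5953s3_orbit_span hF (x := y) v hvB
      have hTle : Submodule.span F (Set.range (fun a : ℕ => (y ^ a) v)) ≤ N := by
        rw [Submodule.span_le]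
        rintro _ ⟨a, rfl⟩
        exact hMN (el_pow_mem hMinv a hvM)
      have hT0 := hno _ hTle hTinv hTti
      rw [hT0] at hvT
      exact hv0 ((Submodule.mem_bot F).mp hvT)
    -- N' is killed by Q / P
    obtain ⟨Q', rfl⟩ := hPQ
    have hP0 : P ≠ 0 := left_ne_zero_of_mul hQ0
    have hQ'0 : Q' ≠ 0 := right_ne_zero_of_mul hQ0
    have hkill' : ∀ u ∈ N', aeval y Q' u = 0 := by
      intro u hu
      have h1 : aeval y Q' u ∈ N' := el_aeval_mem hN' Q' hu
      have h2 : aeval y P (aeval y Q' u) = 0 := by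
        rw [← Module.End.mul_apply, ← map_mul]
        exact hkill u (hN'N hu)
      have h3 : aeval y Q' u ∈ N' ⊓ LinearMap.ker (aeval y P) := ⟨h1, LinearMap.mem_ker.mpr h2⟩
      rw [hK2] at h3
      exact (Submodule.mem_bot F).mp h3
    have hQ'dvd : Q' ∣ cyclotomic r F := (Dvd.intro_left P rfl).trans hQ
    have hlt : finrank F N' < k := by
      rw [← hn, ← hdim, hU1d]
      omega
    have hrec := ih (finrank F N') hlt Q' N' rfl hQ'dvd hN' hkill' hN'nd
      (fun U hU => hno U (hU.trans hN'N))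
    rw [natDegree_mul hP0 hQ'0, hPdeg, ← hdim, hU1d]
    omega

/-- S3 core: `distinct_bound` from the statements of T7 and T11. -/
theorem s5953s3_core {F : Type*} [Field F] [Fintype F] {p : ℕ} [Fact p.Prime] [CharP F p]
    {q n : ℕ} (hF : Fintype.card F = q ^ 2) {r : ℕ} [Fact r.Prime] (hrp : r ≠ p)
    {y : Module.End F (Fin n → F)} (h : HCtx q r 1 y)
    (hodd : Odd (orderOf ((Fintype.card F : ℕ) : ZMod r)))
    (hT7 : ∀ N U : Submodule F (Fin n → F), HInv y N → HND q N → U ≤ N → HInv y U → HND q U →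
      ∃ N' : Submodule F (Fin n → F), N' ≤ N ∧ HInv y N' ∧ HND q N' ∧ HOrth q U N' ∧ Disjoint U N' ∧
        finrank F N' + finrank F U = finrank F N)
    (hT11 : ∀ M : Submodule F (Fin n → F), HInv y M → ∀ f : F[X], Irreducible f →
      Odd f.natDegree → (∀ u ∈ M, aeval y f u = 0) → 2 * f.natDegree ≤ finrank F M →
      ∃ v ∈ M, v ≠ 0 ∧ ∀ a b : ℕ, hermI (Fin n) F q ((y ^ a) v) ((y ^ b) v) = 0)
    (N : Submodule F (Fin n → F)) (hN : HInv y N) (hNc : N ≤ cycS r y) (hNnd : HND q N)
    (hno : ∀ U : Submodule F (Fin n → F), U ≤ N → HInv y U → HTI q U → U = ⊥) :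
    finrank F N ≤ r - 1 := by
  have hrpr : r.Prime := Fact.out
  have := s5953s3_gen hF hrp h hodd hT7 hT11 (finrank F N) (cyclotomic r F) N rfl dvd_rfl hN
    (fun u hu => LinearMap.mem_ker.mp (hNc hu)) hNnd hno
  rwa [natDegree_cyclotomic, Nat.totient_prime hrpr] at this

/-- the sum of two orthogonal totally isotropic subspaces is totally isotropic -/
theorem s5953s4_hti_sup {F : Type*} [Field F] [Fintype F] {q : ℕ} (hF : Fintype.card F = q ^ 2)
    {ι : Type*} [Fintype ι] (U T : Submodule F (ι → F)) (hU : HTI q U) (hT : HTI q T)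
    (hUT : ∀ u ∈ U, ∀ t ∈ T, hermI ι F q u t = 0) : HTI q (U ⊔ T) := by
  have hTU : ∀ t ∈ T, ∀ u ∈ U, hermI ι F q t u = 0 :=
    fun t ht u hu => s5953s3_orth_symm hF u t (hUT u hu t ht)
  -- left-linearity through the functional, right side by symmetry
  have key : ∀ b ∈ U ⊔ T, ∀ a ∈ U ⊔ T, hermI ι F q a b = 0 := by
    have hgen : ∀ b, (b ∈ U ∨ b ∈ T) → ∀ a ∈ U ⊔ T, hermI ι F q a b = 0 := by
      intro b hb a ha
      obtain ⟨u, hu, t, ht, rfl⟩ := Submodule.mem_sup.mp ha
      rw [hermI_add_left]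
      rcases hb with hb | hb
      · rw [hU u hu b hb, hTU t ht b hb, add_zero]
      · rw [hUT u hu b hb, hT t ht b hb, add_zero]
    intro b hb a ha
    obtain ⟨u', hu', t', ht', rfl⟩ := Submodule.mem_sup.mp hb
    -- `h(a, u' + t') = 0` via symmetry: `h(u' + t', a) = 0`
    apply s5953s3_orth_symm hF
    rw [hermI_add_left]
    rw [s5953s3_orth_symm hF a u' (hgen u' (Or.inl hu') a ha),
      s5953s3_orth_symm hF a t' (hgen t' (Or.inr ht') a ha), add_zero]
  intro a ha b hb
  exact key b hb a ha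

/-- S4 core -/
theorem s5953s4_core {F : Type*} [Field F] [Fintype F] {q n : ℕ} (hF : Fintype.card F = q ^ 2)
    {r : ℕ} {y : Module.End F (Fin n → F)}
    (hpeel : ∀ N U : Submodule F (Fin n → F), HInv y N → HND q N → U ≤ N → HInv y U → HTI q U →
      ∃ N' : Submodule F (Fin n → F), N' ≤ N ∧ HInv y N' ∧ HND q N' ∧ HOrth q U N' ∧ Disjoint U N' ∧
        finrank F N' + 2 * finrank F U = finrank F N)
    (C : Submodule F (Fin n → F))
    (hdist : ∀ N : Submodule F (Fin n → F), HInv y N → N ≤ C → HND q N →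
      (∀ U : Submodule F (Fin n → F), U ≤ N → HInv y U → HTI q U → U = ⊥) → finrank F N ≤ r - 1)
    (N : Submodule F (Fin n → F)) (hN : HInv y N) (hNc : N ≤ C) (hNnd : HND q N) :
    ∃ T : Submodule F (Fin n → F), T ≤ N ∧ HInv y T ∧ HTI q T ∧
      finrank F N ≤ 2 * finrank F T + (r - 1) := by
  induction' hn : finrank F N using Nat.strong_induction_on with k ih generalizing N
  by_cases hex : ∃ U : Submodule F (Fin n → F), U ≤ N ∧ HInv y U ∧ HTI q U ∧ U ≠ ⊥
  · obtain ⟨U, hUN, hU, hUti, hUne⟩ := hex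
    obtain ⟨N', hN'N, hN', hN'nd, hUN', hdisj, hdim⟩ := hpeel N U hN hNnd hUN hU hUti
    have hUpos : 0 < finrank F U := by
      rcases Nat.eq_zero_or_pos (finrank F U) with h0 | h0
      · exact absurd (Submodule.finrank_eq_zero.mp h0) hUne
      · exact h0
    have hlt : finrank F N' < k := by omega
    obtain ⟨T', hT'N', hT', hT'ti, hT'dim⟩ := ih (finrank F N') hlt N' hN' (hN'N.trans hNc) hN'nd rfl
    refine ⟨U ⊔ T', sup_le hUN (hT'N'.trans hN'N), el_inv_sup hU hT', ?_, ?_⟩
    · exact s5953s4_hti_sup hF U T' hUti hT'ti (fun u hu t ht => hUN' u hu t (hT'N' ht))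
    · have hdisj' : Disjoint U T' := hdisj.mono_right hT'N'
      have h1 := Submodule.finrank_sup_add_finrank_inf_eq U T'
      rw [disjoint_iff.mp hdisj', finrank_bot, add_zero] at h1
      rw [h1]
      omega
  · push Not at hex
    refine ⟨⊥, bot_le, el_inv_bot y, ?_, ?_⟩
    · intro u hu v _
      rw [(Submodule.mem_bot F).mp hu]
      exact hermI_zero_left q v
    · rw [finrank_bot, mul_zero, zero_add, ← hn]
      exact hdist N hN hNc hNnd hex

end Cfsg.Agent.Lib.helper3.S5953
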