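import Mathlib
import Cfsg.Agent.Lib.helper3.S5953.Defs
import Cfsg.Agent.Lib.Helper20.S5953S3core
import Cfsg.Agent.Lib.Helper9.S5953T7
import Cfsg.Agent.Lib.helper3.S5953T11
import Cfsg.Agent.Lib.Helper27.S5953T6

/-!
# Project S5953, rows S3 (distinct_bound) + S4 (lag_dist), verbatim (helper20): cores + T7 `peel_nd` (helper9) + T11 `genline` (helper3) +
T6 `peel_ti` (helper27).
-/

set_option autoImplicit false
set_option linter.unusedVariables false

namespace Cfsg.Agent.Lib.helper3.S5953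

open Polynomial Module

/-- S3 [L] DISTINCT: `b = ord_r(q²)` odd: a non-degenerate invariant `N ≤ ker Φ_r(y)` without
non-zero t.i. invariant subspaces has dimension at most `r - 1`
(transplant helper17 `S5955T10core`, with T11 in place of Chevalley-Warning). -/
theorem distinct_bound {F : Type*} [Field F] [Fintype F] {p : ℕ} [Fact p.Prime] [CharP F p]
    {q n : ℕ} (hF : Fintype.card F = q ^ 2) {r : ℕ} [Fact r.Prime] (hrp : r ≠ p)
    {y : Module.End F (Fin n → F)} (h : HCtx q r 1 y)
    (hodd : Odd (orderOf ((Fintype.card F : ℕ) : ZMod r)))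
    (N : Submodule F (Fin n → F)) (hN : HInv y N) (hNc : N ≤ cycS r y) (hNnd : HND q N)
    (hno : ∀ U : Submodule F (Fin n → F), U ≤ N → HInv y U → HTI q U → U = ⊥) :
    finrank F N ≤ r - 1 :=
  s5953s3_core hF hrp h hodd
    (fun N U hN hNnd hUN hU hUnd => peel_nd hF (Fact.out : r.Prime).pos h N U hN hNnd hUN hU hUnd)
    (fun M hM f hirr ht hkill hdim => genline hF (Fact.out : r.Prime).pos h M hM f hirr ht hkill hdim)
    N hN hNc hNnd hno

/-- S4 [M] LAGDIST: `b` odd: a non-degenerate invariant `N ≤ ker Φ_r(y)` has a t.i. invariant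
subspace `T` with `dim N ≤ 2 dim T + (r - 1)` (transplant Helper18 `S5955T11`). -/
theorem lag_dist {F : Type*} [Field F] [Fintype F] {p : ℕ} [Fact p.Prime] [CharP F p]
    {q n : ℕ} (hF : Fintype.card F = q ^ 2) {r : ℕ} [Fact r.Prime] (hrp : r ≠ p)
    {y : Module.End F (Fin n → F)} (h : HCtx q r 1 y)
    (hodd : Odd (orderOf ((Fintype.card F : ℕ) : ZMod r)))
    (N : Submodule F (Fin n → F)) (hN : HInv y N) (hNc : N ≤ cycS r y) (hNnd : HND q N) :
    ∃ T : Submodule F (Fin n → F), T ≤ N ∧ HInv y T ∧ HTI q T ∧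
      finrank F N ≤ 2 * finrank F T + (r - 1) :=
  s5953s4_core hF
    (fun N U hN hNnd hUN hU hUti =>
      peel_ti hF (Cfsg.Agent.Lib.Helper24.el_cast_ne_zero (F := F) r hrp) h N U hN hNnd hUN hU hUti)
    (cycS r y)
    (fun N hN hNc hNnd hno => distinct_bound hF hrp h hodd N hN hNc hNnd hno)
    N hN hNc hNnd

end Cfsg.Agent.Lib.helper3.S5953
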