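import Mathlib
import Cfsg.Agent.Lib.Helper19.S5954.Defs
import Cfsg.Agent.Lib.helper3.S5953.Defs
import Cfsg.Agent.Lib.Lead.Unitary
import Cfsg.Agent.Lib.Helper10.S5954USTD
import Cfsg.Agent.Lib.Helper24.ElR

/-!
# S5954 row TPS (helper20), CORE: `r = p`, sufficiency.  The conclusion of `top_p_suff` (with `AllFix` unfolded) from the
statement of USTRUCT (`h_struct` at `N = ⊤`) as a hypothesis; all the glue of part X (Frobenius, norm, root, context, standard form) is proved here.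
-/

set_option autoImplicit false
set_option linter.unusedVariables false

namespace Cfsg.Agent.Lib.Helper19.S5954

open Polynomial Module Cfsg.Agent.Lib.Helper13.S5955 Cfsg.Agent.Lib.helper14.JTa Cfsg.Agent.Lib.Helper11.S5956U

variable {F : Type*} [Field F] [Fintype F] {p : ℕ} [Fact p.Prime] [CharP F p] {q : ℕ}

theorem s5954tps_q_gt (hq : Fintype.card F = q ^ 2) : 1 < q := by
  have h1 : 1 < Fintype.card F := Fintype.one_lt_card
  rw [hq] at h1
  by_contra hle
  have h2 : q ≤ 1 := by omega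
  have h3 : q ^ 2 ≤ 1 ^ 2 := Nat.pow_le_pow_left h2 2
  omega

/-- the Frobenius `a ↦ a ^ q` moves some element when `|F| = q ^ 2` -/
theorem s5954tps_moved (hq : Fintype.card F = q ^ 2) (σ : F →+* F) (hσ : ∀ a, σ a = a ^ q) :
    ∃ a, σ a ≠ a := by
  by_contra hcon
  push Not at hcon
  have hq2 : 1 < q := s5954tps_q_gt hq
  have hpoly : (X ^ q - X : F[X]) ≠ 0 := FiniteField.X_pow_card_sub_X_ne_zero F hq2
  have hdeg : (X ^ q - X : F[X]).natDegree = q := FiniteField.X_pow_card_sub_X_natDegree_eq F hq2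
  have hsub : (Finset.univ : Finset F).val ⊆ (X ^ q - X : F[X]).roots := by
    intro a _
    rw [Polynomial.mem_roots hpoly, Polynomial.IsRoot.def]
    simp only [eval_sub, eval_pow, eval_X]
    rw [← hσ a, hcon a, sub_self]
  have hle := Polynomial.card_le_degree_of_subset_roots hsub
  rw [Finset.card_univ, hdeg, hq] at hle
  nlinarith

/-- `p` is prime to `q + 1` -/
theorem s5954tps_coprime (hq : Fintype.card F = q ^ 2) : Nat.Coprime p (q + 1) := by
  have hpp : p.Prime := Fact.out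
  obtain ⟨e, _, he⟩ := FiniteField.card F p
  rw [hq] at he
  have hdvd : q ∣ p ^ (e : ℕ) := ⟨q, by rw [← he]; ring⟩
  obtain ⟨j, -, hj⟩ := (Nat.dvd_prime_pow hpp).mp hdvd
  have hq2 : 1 < q := s5954tps_q_gt hq
  have hj0 : j ≠ 0 := by
    intro h0
    rw [h0, pow_zero] at hj
    omega
  have hpq : p ∣ q := by
    rw [hj]
    exact dvd_pow_self p hj0
  rw [Nat.Prime.coprime_iff_not_dvd hpp]
  intro h3
  have h4 : p ∣ 1 := by
    have := Nat.dvd_sub h3 hpq
    have e1 : q + 1 - q = 1 := by omega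
    rwa [e1] at this
  exact hpp.one_lt.ne' (Nat.dvd_one.mp h4)

/-- `p`-th roots in the norm-one group -/
theorem s5954tps_root (hq : Fintype.card F = q ^ 2) (z : F) (hz : z ^ (q + 1) = 1) :
    ∃ w : F, w ^ (q + 1) = 1 ∧ w ^ p = z := by
  have hcop := s5954tps_coprime (F := F) (p := p) hq
  have hq1 : 1 < q + 1 := by
    have := s5954tps_q_gt hq
    omega
  obtain ⟨a, -, ha⟩ := Nat.exists_mul_mod_eq_one_of_coprime hcop hq1
  refine ⟨z ^ a, ?_, ?_⟩
  · rw [← pow_mul, mul_comm, pow_mul, hz, one_pow]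
  · rw [← pow_mul, mul_comm, ← Nat.div_add_mod (p * a) (q + 1), ha, pow_add, pow_mul, hz, one_pow,
      one_mul, pow_one]

theorem s5954tps_core (hq : Fintype.card F = q ^ 2) (n m : ℕ) (hn : 3 ≤ n) (hm : 1 ≤ m)
    (hmn : 2 * m < n) (h : PCh p n m)
    (hstruct : ∀ (σ : F →+* F) (y : Module.End F (Fin n → F)), HCtx p σ (stdH n σ) y →
      (y - 1) ^ p = 0 →
      ∃ μ : Multiset ℕ, (∀ a ∈ μ, 0 < a ∧ a ≤ p) ∧
        μ.sum = finrank F (⊤ : Submodule F (Fin n → F)) ∧
        (∀ j, rdk y ⊤ j = tyf μ j) ∧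
        ∀ ν : Multiset ℕ, ν ≤ μ →
          ∃ W : Submodule F (Fin n → F), W ≤ ⊤ ∧ SInv y W ∧ HND (stdH n σ) W ∧
            finrank F W = ν.sum)
    (x : Matrix.SpecialLinearGroup (Fin n) F) (hx : x ∈ Cfsg.SU n F q)
    (hxp : ∃ z : F, ((x ^ p : Matrix.SpecialLinearGroup (Fin n) F) : Matrix (Fin n) (Fin n) F) =
      z • (1 : Matrix (Fin n) (Fin n) F)) :
    Fixes n m q (x : Matrix (Fin n) (Fin n) F) := by
  classical
  obtain ⟨z, hz⟩ := hxp
  obtain ⟨σ, hσ⟩ := Cfsg.Agent.Lib.Lead.exists_frob hq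
  have hσσ := Cfsg.Agent.Lib.Lead.frob_frob hq σ hσ
  have hstd : ∀ u v : Fin n → F, stdH n σ u v = Cfsg.hermForm n F q v u :=
    fun u v => Cfsg.Agent.Lib.helper6.HF.hB_apply σ hσ u v
  -- `x` and `x ^ p` are isometries
  have hpres : ∀ (g : Matrix.SpecialLinearGroup (Fin n) F), g ∈ Cfsg.SU n F q → ∀ u v : Fin n → F,
      Cfsg.hermForm n F q (Matrix.toLin' (g : Matrix (Fin n) (Fin n) F) u)
        (Matrix.toLin' (g : Matrix (Fin n) (Fin n) F) v) = Cfsg.hermForm n F q u v :=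
    fun g hg u v => Cfsg.Agent.Lib.helper3.S5953.su_pres g hg u v
  have hsmulL : ∀ (c : F) (u v : Fin n → F),
      Cfsg.hermForm n F q (c • u) v = c * Cfsg.hermForm n F q u v :=
    fun c u v => Cfsg.Agent.Lib.helper3.S5953.hermI_smul_left q c u v
  have hsmulR : ∀ (c : F) (u v : Fin n → F),
      Cfsg.hermForm n F q u (c • v) = c ^ q * Cfsg.hermForm n F q u v :=
    fun c u v => Cfsg.Agent.Lib.helper3.S5953.hermI_smul_right q c u v
  -- the norm of `z`
  have hzn : z ^ (q + 1) = 1 := by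
    have hn0 : 0 < n := by omega
    let e : Fin n → F := Pi.single ⟨0, hn0⟩ 1
    have hee : Cfsg.hermForm n F q e e = 1 := by
      unfold Cfsg.hermForm
      rw [Finset.sum_eq_single ⟨0, hn0⟩]
      · simp [e]
      · intro i _ hi
        simp [e, Pi.single_eq_of_ne hi]
      · intro hh; exact absurd (Finset.mem_univ _) hh
    have h1 := hpres (x ^ p) (Subgroup.pow_mem _ hx p) e e
    rw [hz, Matrix.toLin'_apply, Matrix.smul_mulVec, Matrix.one_mulVec, hsmulL, hsmulR,
      hee, mul_one] at h1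
    rw [pow_succ, mul_comm]
    exact h1
  have hz0 : z ≠ 0 := by
    intro h0
    rw [h0, zero_pow (by omega)] at hzn
    exact zero_ne_one hzn
  obtain ⟨w, hwn, hwp⟩ := s5954tps_root (p := p) hq z hzn
  have hw0 : w ≠ 0 := by
    intro h0
    rw [h0, zero_pow (by omega)] at hwn
    exact zero_ne_one hwn
  -- the unipotent isometry `y = w⁻¹ x`
  let X : Module.End F (Fin n → F) := Matrix.toLin' (x : Matrix (Fin n) (Fin n) F)
  let y : Module.End F (Fin n → F) := w⁻¹ • X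
  have hXp : X ^ p = z • 1 := by
    show (Matrix.toLin' (x : Matrix (Fin n) (Fin n) F)) ^ p = z • 1
    rw [← Matrix.toLin'_pow]
    have h1 : ((x : Matrix (Fin n) (Fin n) F)) ^ p = z • (1 : Matrix (Fin n) (Fin n) F) := by
      rw [← hz]
      simp
    rw [h1, map_smul, Matrix.toLin'_one]
    rfl
  have hyp : y ^ p = 1 := by
    show (w⁻¹ • X) ^ p = 1
    rw [_root_.smul_pow, hXp, inv_pow, hwp, smul_smul, inv_mul_cancel₀ hz0, one_smul]
  have hwinv : w⁻¹ * (w⁻¹) ^ q = 1 := by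
    rw [← pow_succ', inv_pow, hwn, inv_one]
  have hctx : HCtx p σ (stdH n σ) y := by
    refine ⟨hσσ, s5954tps_moved hq σ hσ, (std_facts n σ hσσ).1, (std_facts n σ hσσ).2, ?_, hyp⟩
    intro u v
    rw [hstd, hstd]
    show Cfsg.hermForm n F q (w⁻¹ • X v) (w⁻¹ • X u) = Cfsg.hermForm n F q v u
    rw [hsmulL, hsmulR, ← mul_assoc, hwinv, one_mul]
    exact hpres x hx v u
  have hnil : (y - 1) ^ p = 0 := by
    rw [Cfsg.Agent.Lib.Helper24.el_sub_one_pow_char, hyp, sub_self]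
  obtain ⟨μ, hμ, hsum, -, hsub⟩ := hstruct σ y hctx hnil
  rw [finrank_top, Module.finrank_fin_fun] at hsum
  obtain ⟨ν, hνμ, hνsum⟩ := h μ hμ hsum
  obtain ⟨W, -, hWinv, hWnd, hWdim⟩ := hsub ν hνμ
  refine ⟨W, by rw [hWdim, hνsum], ?_, ?_⟩
  · intro u hu hu0
    by_contra hcon
    push Not at hcon
    apply hu0
    apply hWnd u hu
    intro v hv
    have h1 := hcon v hv
    -- `H(u, v) = 0` gives `H(v, u) = 0`
    rw [hstd]
    have h2 : σ (stdH n σ v u) = stdH n σ u v := (std_facts n σ hσσ).1 v u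
    rw [hstd, hstd, h1, map_zero] at h2
    exact h2.symm
  · rintro _ ⟨v, hv, rfl⟩
    have h1 : X v = w • y v := by
      show X v = w • (w⁻¹ • X) v
      rw [LinearMap.smul_apply, smul_smul, mul_inv_cancel₀ hw0, one_smul]
    show X v ∈ W
    rw [h1]
    exact W.smul_mem w (hWinv v hv)

end Cfsg.Agent.Lib.Helper19.S5954
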