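import Mathlib
import Cfsg.Agent.Lib.Helper19.S5954.Defs
import Cfsg.Agent.Lib.Helper19.S5954.DefsTop
import Cfsg.Agent.Lib.Helper20.S5954TPScore
import Cfsg.Agent.Lib.Helper29.S5954USTRUCT

/-!
# S5954 row TPS (helper20): `r = p`, sufficiency (`s5954tps_core` + USTRUCT (helper29)).
-/

set_option autoImplicit false
set_option linter.unusedVariables false

namespace Cfsg.Agent.Lib.Helper19.S5954

open Cfsg.Agent.Lib.helper3.S5953 (cc)

variable {F : Type*} [Field F] [Fintype F] {p : ℕ} [Fact p.Prime] [CharP F p] {q : ℕ}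

/-- TPS [M] (r = p, sufficiency; rows XFROB, XNORM, XROOT (`p ∤ q + 1`), XCTX, then `(y - 1)^p = y^p - 1 = 0`, USTRUCT on `N = ⊤` gives the type `μ` with
`μ.sum = n`, `PCh` gives `ν`, USTRUCT gives `W`; XSTD turns `HND (stdH n σ) W` into the frozen clause). -/
theorem top_p_suff (hq : Fintype.card F = q ^ 2) (n m : ℕ) (hn : 3 ≤ n) (hm : 1 ≤ m) (hmn : 2 * m < n)
    (h : PCh p n m) : AllFix F n m q p := by
  intro x hx hxp _
  exact s5954tps_core hq n m hn hm hmn h
    (fun σ y hctx hnil => h_struct (Fact.out : p.Prime).pos hctx p hnil ⊤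
      (fun v _ => Submodule.mem_top) (fun u _ hu => hctx.nd u (fun v => hu v Submodule.mem_top)))
    x hx hxp

end Cfsg.Agent.Lib.Helper19.S5954
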