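import Mathlib
import Cfsg.Agent.Lib.Helper19.S5954.Defs
import Cfsg.Agent.Lib.Helper20.S5956UTYPELE

/-!
# S5954 row USUB (helper20), CORE: the dimension of an invariant nondegenerate subspace is a sub-sum of the type
(UPEEL with `N = ⊤` and USTRUCT on `W` as hypotheses).
-/

set_option autoImplicit false
set_option linter.unusedVariables false

namespace Cfsg.Agent.Lib.Helper19.S5954

open Polynomial Module Cfsg.Agent.Lib.Helper13.S5955 Cfsg.Agent.Lib.helper14.JTa Cfsg.Agent.Lib.Helper11.S5956U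

variable {F : Type*} [Field F] {V : Type*} [AddCommGroup V] [Module F V]

theorem s5954usub_core [FiniteDimensional F V] {r : ℕ} (hr : 0 < r) {σ : F →+* F} {B : V →ₛₗ[σ] V →ₗ[F] F}
    {x : Module.End F V} (h : HCtx r σ B x) (p : ℕ) (hM : (x - 1) ^ p = 0) (μ : Multiset ℕ)
    (hμ0 : ∀ a ∈ μ, 0 < a) (hμ : ∀ j, dk (x - 1) j = tyf μ j)
    (W : Submodule F V) (hW : SInv x W) (hWnd : HND B W)
    (hpeel : ∃ N' : Submodule F V, N' ≤ (⊤ : Submodule F V) ∧ SInv x N' ∧ HND B N' ∧ HOrth B W N' ∧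
      Disjoint W N' ∧ finrank F N' + finrank F W = finrank F (⊤ : Submodule F V))
    (hstruct : ∃ μ' : Multiset ℕ, (∀ a ∈ μ', 0 < a ∧ a ≤ p) ∧ μ'.sum = finrank F W ∧
      (∀ j, rdk x W j = tyf μ' j) ∧
      ∀ ν : Multiset ℕ, ν ≤ μ' →
        ∃ W' : Submodule F V, W' ≤ W ∧ SInv x W' ∧ HND B W' ∧ finrank F W' = ν.sum) :
    ∃ ν : Multiset ℕ, ν ≤ μ ∧ ν.sum = finrank F W := by
  obtain ⟨N', -, hN', -, -, hdis, hdim⟩ := hpeel
  obtain ⟨μ', hμ', hsum, hrdk, -⟩ := hstruct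
  have hc : IsCompl W N' := by
    refine ⟨hdis, ?_⟩
    rw [codisjoint_iff]
    apply Submodule.eq_top_of_finrank_eq
    have h1 := Submodule.finrank_sup_add_finrank_inf_eq W N'
    rw [hdis.eq_bot, finrank_bot, add_zero] at h1
    rw [finrank_top] at hdim
    omega
  exact ⟨μ', type_le x W N' hW hN' hc μ μ' hμ0 (fun a ha => (hμ' a ha).1) hμ hrdk, hsum⟩

end Cfsg.Agent.Lib.Helper19.S5954
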