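import Mathlib
import Cfsg.Agent.Lib.Helper19.S5954.Defs
import Cfsg.Agent.Lib.Helper20.S5954USUBcore
import Cfsg.Agent.Lib.Helper10.S5954UPEEL
import Cfsg.Agent.Lib.Helper29.S5954USTRUCT

/-!
# S5954 row USUB (helper20): the dimension of an invariant nondegenerate subspace is a sub-sum of the type
(`s5954usub_core` + UPEEL (helper10) + USTRUCT (helper29)).
-/

set_option autoImplicit false
set_option linter.unusedVariables false

namespace Cfsg.Agent.Lib.Helper19.S5954

open Polynomial Module Cfsg.Agent.Lib.Helper13.S5955 Cfsg.Agent.Lib.helper14.JTa Cfsg.Agent.Lib.Helper11.S5956U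

variable {F : Type*} [Field F] {V : Type*} [AddCommGroup V] [Module F V]

/-- USUB [M] (UPEEL with `N = ⊤`, `type_le`, USTRUCT on `W`): the dimension of an invariant nondegenerate subspace is a sub-sum of the type. -/
theorem h_sub_type [FiniteDimensional F V] {r : ℕ} (hr : 0 < r) {σ : F →+* F} {B : V →ₛₗ[σ] V →ₗ[F] F}
    {x : Module.End F V} (h : HCtx r σ B x) (p : ℕ) (hM : (x - 1) ^ p = 0) (μ : Multiset ℕ)
    (hμ0 : ∀ a ∈ μ, 0 < a) (hμ : ∀ j, dk (x - 1) j = tyf μ j)
    (W : Submodule F V) (hW : SInv x W) (hWnd : HND B W) :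
    ∃ ν : Multiset ℕ, ν ≤ μ ∧ ν.sum = finrank F W :=
  s5954usub_core hr h p hM μ hμ0 hμ W hW hWnd
    (h_peel hr h ⊤ W (fun v _ => Submodule.mem_top)
      (fun u _ hu => h.nd u (fun v => hu v Submodule.mem_top)) le_top hW hWnd)
    (h_struct hr h p hM W hW hWnd)

end Cfsg.Agent.Lib.Helper19.S5954
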