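import Mathlib
import Cfsg.Agent.Lib.Helper13.S5955.Defs2
import Cfsg.Agent.Lib.Helper5.S5955T5
import Cfsg.Agent.Lib.Helper5.S5955T7

set_option autoImplicit false

/-!
# Project S5955, row R1 (invol_suff): an involutory isometry of a symplectic space of dimension `2d`
(`2 ≠ 0`) has totally isotropic invariant subspaces of every dimension `m ≤ d`.
-/

namespace Cfsg.Agent.Lib.Helper13.S5955

open Polynomial Module

/-- alternating implies skew -/
theorem s5955r1_skew {F : Type*} [Field F] {V : Type*} [AddCommGroup V] [Module F V]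
    {B : LinearMap.BilinForm F V} (halt : ∀ v, B v v = 0) (u v : V) : B u v = - B v u := by
  have h := halt (u + v)
  simp only [map_add, LinearMap.add_apply, halt u, halt v, zero_add, add_zero] at h
  exact eq_neg_of_add_eq_zero_right h

/-- the sum of two orthogonal, disjoint, totally isotropic invariant subspaces -/
theorem s5955r1_sup {F : Type*} [Field F] {V : Type*} [AddCommGroup V] [Module F V]
    [FiniteDimensional F V] {B : LinearMap.BilinForm F V} (halt : ∀ v, B v v = 0)
    (x : Module.End F V) (T1 T2 : Submodule F V) (h1 : SInv x T1) (h2 : SInv x T2)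
    (t1 : STI B T1) (t2 : STI B T2) (ho : SOrth B T1 T2) (hd : Disjoint T1 T2) :
    SInv x (T1 ⊔ T2) ∧ STI B (T1 ⊔ T2) ∧ finrank F ↥(T1 ⊔ T2) = finrank F T1 + finrank F T2 := by
  refine ⟨?_, ?_, ?_⟩
  · intro w hw
    obtain ⟨a, ha, b, hb, rfl⟩ := Submodule.mem_sup.mp hw
    rw [map_add]
    exact Submodule.add_mem _ (Submodule.mem_sup_left (h1 a ha)) (Submodule.mem_sup_right (h2 b hb))
  · intro u hu v hv
    obtain ⟨a, ha, b, hb, rfl⟩ := Submodule.mem_sup.mp hu
    obtain ⟨a', ha', b', hb', rfl⟩ := Submodule.mem_sup.mp hv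
    simp only [map_add, LinearMap.add_apply]
    rw [t1 a ha a' ha', t2 b hb b' hb', ho a ha b' hb', s5955r1_skew halt b a', ho a' ha' b hb]
    simp
  · have h := Submodule.finrank_sup_add_finrank_inf_eq T1 T2
    rw [hd.eq_bot, finrank_bot, add_zero] at h
    exact h

/-- R1 [M] INVOL: an involutory isometry (`2 ≠ 0`) has t.i. invariant subspaces of every
dimension `m ≤ d`. -/
theorem invol_suff {F : Type*} [Field F] {V : Type*} [AddCommGroup V] [Module F V]
    [FiniteDimensional F V] (h2 : (2 : F) ≠ 0) {B : LinearMap.BilinForm F V}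
    {x : Module.End F V} (h : SCtx 2 B x) (d m : ℕ) (hV : finrank F V = 2 * d) (hm : m ≤ d) :
    TId B x m := by
  have hxx : ∀ v, x (x v) = v := by
    intro v
    have := congrArg (fun f : Module.End F V => f v) h.pow
    simpa [pow_two] using this
  set P : Submodule F V := LinearMap.ker (x - 1) with hP
  set M : Submodule F V := LinearMap.ker (x + 1) with hM
  have memP : ∀ v, v ∈ P ↔ x v = v := by
    intro v
    rw [hP, LinearMap.mem_ker, LinearMap.sub_apply, Module.End.one_apply, sub_eq_zero]
  have memM : ∀ v, v ∈ M ↔ x v = -v := by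
    intro v
    rw [hM, LinearMap.mem_ker, LinearMap.add_apply, Module.End.one_apply, add_eq_zero_iff_eq_neg]
  have two_smul_zero : ∀ v : V, v + v = 0 → v = 0 := by
    intro v hv
    have : (2 : F) • v = 0 := by rw [two_smul]; exact hv
    rcases smul_eq_zero.mp this with h' | h'
    · exact absurd h' h2
    · exact h'
  have hdisj : Disjoint P M := by
    rw [Submodule.disjoint_def]
    intro v hvP hvM
    have e1 := (memP v).mp hvP
    have e2 := (memM v).mp hvM
    apply two_smul_zero
    have : v = -v := e1.symm.trans e2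
    calc v + v = v + -v := by rw [← this]
      _ = 0 := add_neg_cancel v
  have hcod : Codisjoint P M := by
    rw [codisjoint_iff, eq_top_iff]
    intro v _
    have e : v = (2 : F)⁻¹ • (v + x v) + (2 : F)⁻¹ • (v - x v) := by
      rw [← smul_add]
      have : v + x v + (v - x v) = (2 : F) • v := by rw [two_smul]; abel
      rw [this, smul_smul, inv_mul_cancel₀ h2, one_smul]
    rw [e]
    refine Submodule.add_mem _ (Submodule.mem_sup_left ?_) (Submodule.mem_sup_right ?_)
    · refine Submodule.smul_mem _ _ ?_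
      rw [memP, map_add, hxx, add_comm]
    · refine Submodule.smul_mem _ _ ?_
      rw [memM, map_sub, hxx, neg_sub]
  have hcompl : IsCompl P M := ⟨hdisj, hcod⟩
  have hdim : finrank F P + finrank F M = 2 * d := by
    rw [Submodule.finrank_add_eq_of_isCompl hcompl, hV]
  have horth : SOrth B P M := by
    intro u hu w hw
    have e := h.pres u w
    rw [(memP u).mp hu, (memM w).mp hw, map_neg] at e
    have e2 : B u w + B u w = 0 := by
      nth_rewrite 1 [← e]
      exact neg_add_cancel _
    have : (2 : F) * B u w = 0 := by rw [two_mul]; exact e2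
    rcases mul_eq_zero.mp this with h' | h'
    · exact absurd h' h2
    · exact h'
  have hndP : SND B P := by
    intro u hu hall
    apply h.nd u
    intro v
    have hv : v ∈ P ⊔ M := by rw [hcompl.sup_eq_top]; trivial
    obtain ⟨a, ha, b, hb, rfl⟩ := Submodule.mem_sup.mp hv
    rw [map_add, hall a ha, horth u hu b hb, add_zero]
  have hndM : SND B M := by
    intro u hu hall
    apply h.nd u
    intro v
    have hv : v ∈ P ⊔ M := by rw [hcompl.sup_eq_top]; trivial
    obtain ⟨a, ha, b, hb, rfl⟩ := Submodule.mem_sup.mp hv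
    rw [map_add, hall b hb, s5955r1_skew h.alt u a, horth a ha u hu, neg_zero, add_zero]
  obtain ⟨a, ha⟩ := nd_even B h.alt P hndP
  obtain ⟨b, hb⟩ := nd_even B h.alt M hndM
  have hab : a + b = d := by omega
  obtain ⟨T1, hT1P, hT1ti, hT1d⟩ := ti_sub B h.alt P hndP (min m a) (by omega)
  obtain ⟨T2, hT2M, hT2ti, hT2d⟩ := ti_sub B h.alt M hndM (m - min m a) (by omega)
  have hI1 : SInv x T1 := by
    intro w hw
    rw [(memP w).mp (hT1P hw)]
    exact hw
  have hI2 : SInv x T2 := by
    intro w hw
    rw [(memM w).mp (hT2M hw)]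
    exact Submodule.neg_mem _ hw
  have ho : SOrth B T1 T2 := fun u hu w hw => horth u (hT1P hu) w (hT2M hw)
  have hd' : Disjoint T1 T2 := hdisj.mono hT1P hT2M
  obtain ⟨hi, hti, hfr⟩ := s5955r1_sup h.alt x T1 T2 hI1 hI2 hT1ti hT2ti ho hd'
  refine ⟨T1 ⊔ T2, hi, hti, ?_⟩
  rw [hfr, hT1d, hT2d]
  omega

end Cfsg.Agent.Lib.Helper13.S5955
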