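import Mathlib
import Cfsg.Agent.Lib.Helper13.S5955.Defs2
import Cfsg.Agent.Lib.Helper5.S5955T6
import Cfsg.Agent.Lib.Lead.S5955T3
import Cfsg.Agent.Lib.helper3.C3OCWQ
import Cfsg.Agent.Lib.Helper20.S5955R1

set_option autoImplicit false

/-!
# Project S5955, row R3 (sqneg_suff_even): an isometry with `x * x = -1` of a symplectic space of
dimension `2d` over a finite field (`2 ≠ 0`) has totally isotropic invariant subspaces of every even
dimension `m ≤ d`.  (Also an own copy of row R2 as `s5955r3_sq`.)
-/

namespace Cfsg.Agent.Lib.Helper13.S5955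

open Polynomial Module

/-- subspaces of every dimension below the dimension -/
theorem s5955r3_sub {F : Type*} [Field F] {V : Type*} [AddCommGroup V] [Module F V]
    [FiniteDimensional F V] (E : Submodule F V) (m : ℕ) (hm : m ≤ finrank F E) :
    ∃ W : Submodule F V, W ≤ E ∧ finrank F W = m := by
  let b := Module.finBasis F E
  let f : Fin m → E := fun i => b (Fin.castLE hm i)
  have hli : LinearIndependent F f := b.linearIndependent.comp _ (Fin.castLE_injective hm)
  refine ⟨(Submodule.span F (Set.range f)).map E.subtype, ?_, ?_⟩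
  · exact Submodule.map_subtype_le E _
  · rw [Submodule.finrank_map_subtype_eq, finrank_span_eq_card hli, Fintype.card_fin]

theorem s5955r3_two {F : Type*} [Field F] {V : Type*} [AddCommGroup V] [Module F V]
    (h2 : (2 : F) ≠ 0) (v : V) (hv : v + v = 0) : v = 0 := by
  have : (2 : F) • v = 0 := by rw [two_smul]; exact hv
  rcases smul_eq_zero.mp this with h' | h'
  · exact absurd h' h2
  · exact h'

theorem s5955r3_two' {F : Type*} [Field F] (h2 : (2 : F) ≠ 0) (a : F) (ha : a + a = 0) : a = 0 := by
  have : (2 : F) * a = 0 := by rw [two_mul]; exact ha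
  rcases mul_eq_zero.mp this with h' | h'
  · exact absurd h' h2
  · exact h'

/-- own copy of row R2: an isometry with `x * x = -1`, when `-1 = ι ^ 2` in `F`. -/
theorem s5955r3_sq {F : Type*} [Field F] {V : Type*} [AddCommGroup V] [Module F V]
    [FiniteDimensional F V] (h2 : (2 : F) ≠ 0) {B : LinearMap.BilinForm F V}
    {x : Module.End F V} (h : SCtx 4 B x) (hx : x * x = -1) (ι : F) (hι : ι ^ 2 = -1)
    (d m : ℕ) (hV : finrank F V = 2 * d) (hm : m ≤ d) : TId B x m := by
  have hxx : ∀ v, x (x v) = -v := by
    intro v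
    have := congrArg (fun f : Module.End F V => f v) hx
    simpa using this
  have hι0 : ι ≠ 0 := by
    rintro rfl
    simp at hι
  set P : Submodule F V := LinearMap.ker (x - ι • (1 : Module.End F V)) with hP
  set M : Submodule F V := LinearMap.ker (x + ι • (1 : Module.End F V)) with hM
  have memP : ∀ v, v ∈ P ↔ x v = ι • v := by
    intro v
    rw [hP, LinearMap.mem_ker, LinearMap.sub_apply, LinearMap.smul_apply, Module.End.one_apply,
      sub_eq_zero]
  have memM : ∀ v, v ∈ M ↔ x v = -(ι • v) := by
    intro v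
    rw [hM, LinearMap.mem_ker, LinearMap.add_apply, LinearMap.smul_apply, Module.End.one_apply,
      add_eq_zero_iff_eq_neg]
  have hdisj : Disjoint P M := by
    rw [Submodule.disjoint_def]
    intro v hvP hvM
    have e1 := (memP v).mp hvP
    have e2 := (memM v).mp hvM
    have e3 : ι • v = -(ι • v) := e1.symm.trans e2
    have e4 : ι • v = 0 := by
      apply s5955r3_two h2
      calc ι • v + ι • v = ι • v + -(ι • v) := by rw [← e3]
        _ = 0 := add_neg_cancel _
    rcases smul_eq_zero.mp e4 with h' | h'
    · exact absurd h' hι0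
    · exact h'
  have hcod : Codisjoint P M := by
    rw [codisjoint_iff, eq_top_iff]
    intro v _
    have h2ι : (2 * ι : F) ≠ 0 := mul_ne_zero h2 hι0
    have e : v = (2 * ι)⁻¹ • (ι • v + x v) + (2 * ι)⁻¹ • (ι • v - x v) := by
      rw [← smul_add]
      have : ι • v + x v + (ι • v - x v) = (2 * ι) • v := by rw [mul_smul, two_smul]; abel
      rw [this, smul_smul, inv_mul_cancel₀ h2ι, one_smul]
    rw [e]
    refine Submodule.add_mem _ (Submodule.mem_sup_left ?_) (Submodule.mem_sup_right ?_)
    · refine Submodule.smul_mem _ _ ?_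
      rw [memP, map_add, map_smul, hxx, smul_add, smul_smul, ← pow_two, hι, neg_one_smul]
      abel
    · refine Submodule.smul_mem _ _ ?_
      rw [memM, map_sub, map_smul, hxx, smul_sub, smul_smul, ← pow_two, hι, neg_one_smul]
      abel
  have hcompl : IsCompl P M := ⟨hdisj, hcod⟩
  have hdim : finrank F P + finrank F M = 2 * d := by
    rw [Submodule.finrank_add_eq_of_isCompl hcompl, hV]
  have hkey : ∀ u v : V, B (ι • u) (ι • v) = -(B u v) := by
    intro u v
    simp only [map_smul, LinearMap.smul_apply, smul_eq_mul]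
    rw [← mul_assoc, ← pow_two, hι, neg_one_mul]
  have htiP : STI B P := by
    intro u hu v hv
    have e := h.pres u v
    rw [(memP u).mp hu, (memP v).mp hv, hkey] at e
    apply s5955r3_two' h2
    nth_rewrite 1 [← e]
    exact neg_add_cancel _
  have htiM : STI B M := by
    intro u hu v hv
    have e := h.pres u v
    rw [(memM u).mp hu, (memM v).mp hv] at e
    simp only [map_neg, LinearMap.neg_apply, neg_neg] at e
    rw [hkey] at e
    apply s5955r3_two' h2
    nth_rewrite 1 [← e]
    exact neg_add_cancel _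
  have hndtop : SND B (⊤ : Submodule F V) := fun u _ hu => h.nd u (fun v => hu v trivial)
  have hleM : 2 * finrank F M ≤ 2 * d := by
    have := ti_le_half B ⊤ M hndtop le_top htiM
    rw [finrank_top, hV] at this
    exact this
  obtain ⟨W, hWP, hWd⟩ := s5955r3_sub P m (by omega)
  refine ⟨W, ?_, ?_, hWd⟩
  · intro w hw
    rw [(memP w).mp (hWP hw)]
    exact Submodule.smul_mem _ _ hw
  · intro u hu v hv
    exact htiP u (hWP hu) v (hWP hv)

/-- the inductive core when `-1` is not a square: peel off `⟨v, x v⟩` for a zero `v` of the quadric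
`B(v, x v)` (Chevalley-Warning). -/
theorem s5955r3_core {F : Type*} [Field F] [Fintype F] {V : Type*} [AddCommGroup V]
    [Module F V] [FiniteDimensional F V] (h2 : (2 : F) ≠ 0) {B : LinearMap.BilinForm F V}
    {x : Module.End F V} (h : SCtx 4 B x) (hx : x * x = -1) (hno : ¬ ∃ ι : F, ι ^ 2 = -1) :
    ∀ k : ℕ, ∀ N : Submodule F V, SInv x N → SND B N → 4 * k ≤ finrank F N →
      ∃ W : Submodule F V, W ≤ N ∧ SInv x W ∧ STI B W ∧ finrank F W = 2 * k := by
  have hxx : ∀ v, x (x v) = -v := by
    intro v
    have := congrArg (fun f : Module.End F V => f v) hx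
    simpa using this
  have h4 : ((4 : ℕ) : F) ≠ 0 := by
    have : ((4 : ℕ) : F) = 2 * 2 := by norm_num
    rw [this]
    exact mul_ne_zero h2 h2
  intro k
  induction k with
  | zero =>
    intro N _ _ _
    refine ⟨⊥, bot_le, ?_, ?_, by rw [finrank_bot]⟩
    · intro w hw
      rw [(Submodule.mem_bot F).mp hw, map_zero]
      exact Submodule.zero_mem _
    · intro u hu v _
      rw [(Submodule.mem_bot F).mp hu, map_zero, LinearMap.zero_apply]
  | succ k ih =>
    intro N hN hNnd hdim
    -- Chevalley-Warning
    let β : ↥N →ₗ[F] ↥N →ₗ[F] F := (B.compl₂ x).domRestrict₁₂ N N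
    obtain ⟨y, hy0, hy⟩ := Cfsg.Agent.Lib.Helper10.C3O.cw_quad (F := F) (Y := ↥N) (ι := Unit)
      (fun _ => β) (fun _ => 0) (by simp only [Fintype.card_unit]; omega)
    have hvx : B (y : V) (x (y : V)) = 0 := by
      have := hy ()
      simp only [β, LinearMap.domRestrict₁₂_apply, LinearMap.compl₂_apply, LinearMap.zero_apply,
        add_zero] at this
      exact this
    set v : V := (y : V) with hv
    have hv0 : v ≠ 0 := by
      intro h0
      apply hy0
      exact Subtype.ext h0
    have hvN : v ∈ N := y.2
    -- linear independence of `v, x v`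
    have key : ∀ s t : F, s • v + t • x v = 0 → s = 0 ∧ t = 0 := by
      intro s t hst
      have ht : t = 0 := by
        by_contra ht
        apply hno
        refine ⟨-s / t, ?_⟩
        have hxv : x v = (-s / t) • v := by
          have e1 : t • x v = -(s • v) := eq_neg_of_add_eq_zero_right hst
          calc x v = t⁻¹ • (t • x v) := by rw [smul_smul, inv_mul_cancel₀ ht, one_smul]
            _ = (-s / t) • v := by rw [e1, smul_neg, smul_smul, ← neg_smul]; congr 1; field_simp
        have e2 : ((-s / t) ^ 2 + 1) • v = 0 := by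
          rw [add_smul, one_smul, pow_two, ← smul_smul, ← hxv, ← map_smul, ← hxv, hxx]
          exact neg_add_cancel v
        rcases smul_eq_zero.mp e2 with h' | h'
        · exact eq_neg_of_add_eq_zero_left h'
        · exact absurd h' hv0
      subst ht
      rw [zero_smul, add_zero] at hst
      rcases smul_eq_zero.mp hst with h' | h'
      · exact ⟨h', rfl⟩
      · exact absurd h' hv0
    have hli : LinearIndependent F ![v, x v] := LinearIndependent.pair_iff.mpr key
    set U : Submodule F V := Submodule.span F (Set.range ![v, x v]) with hU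
    have hUd : finrank F U = 2 := by
      rw [hU, finrank_span_eq_card hli, Fintype.card_fin]
    have memU : ∀ w, w ∈ U ↔ ∃ a b : F, a • v + b • x v = w := by
      intro w
      rw [hU, Submodule.mem_span_range_iff_exists_fun]
      constructor
      · rintro ⟨c, hc⟩
        refine ⟨c 0, c 1, ?_⟩
        rw [← hc, Fin.sum_univ_two]
        rfl
      · rintro ⟨a, b, hab⟩
        refine ⟨![a, b], ?_⟩
        rw [← hab, Fin.sum_univ_two]
        rfl
    have hUN : U ≤ N := by
      intro w hw
      obtain ⟨a, b, rfl⟩ := (memU w).mp hw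
      exact Submodule.add_mem _ (Submodule.smul_mem _ _ hvN) (Submodule.smul_mem _ _ (hN v hvN))
    have hUinv : SInv x U := by
      intro w hw
      obtain ⟨a, b, rfl⟩ := (memU w).mp hw
      rw [memU]
      refine ⟨-b, a, ?_⟩
      rw [map_add, map_smul, map_smul, hxx, smul_neg, neg_smul]
      abel
    have hxvv : B (x v) v = 0 := by
      rw [s5955r1_skew h.alt, hvx, neg_zero]
    have hUti : STI B U := by
      intro u hu w hw
      obtain ⟨a, b, rfl⟩ := (memU u).mp hu
      obtain ⟨a', b', rfl⟩ := (memU w).mp hw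
      simp only [map_add, map_smul, LinearMap.add_apply, LinearMap.smul_apply, h.alt v,
        h.alt (x v), hvx, hxvv, smul_zero, add_zero]
    obtain ⟨N', hN'N, hN'inv, hN'nd, hUN', hdisj, hN'd⟩ :=
      peel_ti h4 h N U hN hNnd hUN hUinv hUti
    obtain ⟨W', hW'N', hW'inv, hW'ti, hW'd⟩ := ih N' hN'inv hN'nd (by omega)
    have ho : SOrth B U W' := fun u hu w hw => hUN' u hu w (hW'N' hw)
    have hd' : Disjoint U W' := hdisj.mono le_rfl hW'N'
    obtain ⟨hi, hti, hfr⟩ := s5955r1_sup h.alt x U W' hUinv hW'inv hUti hW'ti ho hd'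
    refine ⟨U ⊔ W', sup_le hUN (hW'N'.trans hN'N), hi, hti, ?_⟩
    rw [hfr, hUd, hW'd]
    ring

/-- R3 [M-L] SQNEGE: an isometry with `x * x = -1` over a finite field, `m` even
(Chevalley-Warning on the single quadric `B(v, x v)`, then peel). -/
theorem sqneg_suff_even {F : Type*} [Field F] [Fintype F] {V : Type*} [AddCommGroup V]
    [Module F V] [FiniteDimensional F V] (h2 : (2 : F) ≠ 0) {B : LinearMap.BilinForm F V}
    {x : Module.End F V} (h : SCtx 4 B x) (hx : x * x = -1)
    (d m : ℕ) (hV : finrank F V = 2 * d) (hm : m ≤ d) (hme : Even m) : TId B x m := by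
  by_cases hι : ∃ ι : F, ι ^ 2 = -1
  · obtain ⟨ι, hι⟩ := hι
    exact s5955r3_sq h2 h hx ι hι d m hV hm
  · obtain ⟨k, hk⟩ := hme
    have hndtop : SND B (⊤ : Submodule F V) := fun u _ hu => h.nd u (fun v => hu v trivial)
    have hinvtop : SInv x (⊤ : Submodule F V) := fun w _ => trivial
    obtain ⟨W, -, hWinv, hWti, hWd⟩ := s5955r3_core h2 h hx hι k ⊤ hinvtop hndtop
      (by rw [finrank_top, hV]; omega)
    exact ⟨W, hWinv, hWti, by rw [hWd, hk]; ring⟩

end Cfsg.Agent.Lib.Helper13.S5955
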