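import Mathlib
import Cfsg.Agent.Lib.helper3.S5956.Defs
import Cfsg.Agent.Lib.Lead.S5955T2
import Cfsg.Agent.Lib.Helper5.S5955T7
import Cfsg.Agent.Lib.Helper25.S5956A1
import Cfsg.Agent.Lib.Helper20.S5956A2
import Cfsg.Agent.Lib.Helper20.S5956O4
import Cfsg.Agent.Lib.Helper20.S5956O5

set_option autoImplicit false

/-!
# Project S5956, row O6 (suff_odd): the abstract sufficiency theorem for odd `r ≠ p`.
-/

namespace Cfsg.Agent.Lib.helper3.S5956

open Polynomial Module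
open Cfsg.Agent.Lib.Helper13.S5955 Cfsg.Agent.Lib.Helper24

universe u

/-- the arithmetic of O6 -/
theorem s5956o6_arith (c d m A fixd : ℕ) (hcpos : 0 < c) (hce : Even c) (hme : Even m)
    (hmd : m ≤ 2 * d) (hsum : fixd + c * A = 2 * d) (h2 : m % c ≤ (2 * d) % c) :
    ∃ b w : ℕ, b ≤ A ∧ m = w + c * b ∧ Even w ∧ w ≤ fixd := by
  have hmod : (2 * d) % c = fixd % c := by
    rw [← hsum, Nat.add_mul_mod_self_left]
  have hfm : fixd % c ≤ fixd := Nat.mod_le _ _
  have hdm := Nat.div_add_mod m c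
  rcases le_total (m / c) A with hle | hle
  · refine ⟨m / c, m % c, hle, by omega, ?_, by omega⟩
    have h1 : Even (c * (m / c)) := hce.mul_right _
    have h3 : m % c = m - c * (m / c) := by omega
    rw [h3]
    exact (Nat.even_sub (by omega)).mpr ⟨fun _ => h1, fun _ => hme⟩
  · have h1 : c * A ≤ c * (m / c) := Nat.mul_le_mul_left c hle
    refine ⟨A, m - c * A, le_rfl, by omega, ?_, by omega⟩
    have h4 : Even (c * A) := hce.mul_right _
    exact (Nat.even_sub (by omega)).mpr ⟨fun _ => h4, fun _ => hme⟩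

/-- O6 [M-L] SUFFODD: the abstract sufficiency theorem for odd `r ≠ p`. -/
theorem suff_odd {F : Type*} [Field F] [Fintype F] {p : ℕ} [Fact p.Prime] [CharP F p]
    {V : Type*} [AddCommGroup V] [Module F V] [FiniteDimensional F V]
    {r : ℕ} [Fact r.Prime] (hrp : r ≠ p) (hr2 : r ≠ 2) {B : LinearMap.BilinForm F V}
    {x : Module.End F V} (h : SCtx r B x) (d m : ℕ) (hV : finrank F V = 2 * d)
    (hme : Even m) (hmd : m ≤ 2 * d) (i c : ℕ)
    (hi : i = orderOf ((Fintype.card F : ℕ) : ZMod r)) (hc : c = if Even i then i else 2 * i)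
    (h1 : c ≤ m) (h2 : m % c ≤ (2 * d) % c) : NDd B x m := by
  obtain ⟨hort, hcompl, hfnd, hcnd⟩ := split hrp h
  have hipos : 0 < i := by rw [hi]; exact el_ord_pos (F := F) (p := p) r hrp
  have hcpos : 0 < c := by rw [hc]; split_ifs <;> omega
  have hce : Even c := by
    rw [hc]
    split_ifs with hie
    · exact hie
    · exact even_two_mul i
  have hcinv : SInv x (cycS r x) := el_inv_ker x _
  obtain ⟨A, hA⟩ := cyc_nd_dvd hrp h i c hi hc (cycS r x) hcinv le_rfl hcnd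
  have hsum : finrank F (fixS x) + c * A = 2 * d := by
    rw [← hA, Submodule.finrank_add_eq_of_isCompl hcompl, hV]
  obtain ⟨b, w, hbA, hmw, hwe, hwf⟩ :=
    s5956o6_arith c d m A (finrank F (fixS x)) hcpos hce hme hmd hsum h2
  obtain ⟨U2, hU2c, hU2inv, hU2nd, hU2d⟩ :=
    nd_ladder hrp hr2 h i c hi hc b (cycS r x) hcinv le_rfl hcnd
      (by rw [hA]; exact Nat.mul_le_mul_left c hbA)
  obtain ⟨j, hj⟩ := hwe
  obtain ⟨U1, hU1f, hU1nd, hU1d⟩ := nd_sub B h.alt (fixS x) hfnd j (by omega)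
  have hU1inv : SInv x U1 := el_inv_of_le_fix x U1 hU1f
  have ho : SOrth B U1 U2 := fun u hu v hv => hort u (hU1f hu) v (hU2c hv)
  obtain ⟨hnd, -, hfr⟩ := nd_sup B h.alt U1 U2 hU1nd hU2nd ho
  refine ⟨U1 ⊔ U2, el_inv_sup hU1inv hU2inv, hnd, ?_⟩
  rw [hfr, hU1d, hU2d, hmw, hj]
  ring

end Cfsg.Agent.Lib.helper3.S5956
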