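import Mathlib
import Cfsg.Agent.Lib.helper3.S5956.Defs
import Cfsg.Agent.Lib.Lead.S5955T2
import Cfsg.Agent.Lib.Helper20.S5956O5

set_option autoImplicit false

/-!
# Project S5956, row O7 (nec_dim_nd): the dimension of a nondegenerate invariant subspace is
`w0 + c * b` with `w0 ≤ dim C_V(x)`.
-/

namespace Cfsg.Agent.Lib.helper3.S5956

open Polynomial Module
open Cfsg.Agent.Lib.Helper13.S5955 Cfsg.Agent.Lib.Helper24

universe u

/-- an invariant `W` is the direct sum of its fixed part and its cyclotomic part; if `W` is nondegenerate,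
so is the cyclotomic part. -/
theorem s5956o7_parts {F : Type*} [Field F] [Fintype F] {p : ℕ} [Fact p.Prime] [CharP F p]
    {V : Type*} [AddCommGroup V] [Module F V] [FiniteDimensional F V]
    {r : ℕ} [Fact r.Prime] (hrp : r ≠ p) {B : LinearMap.BilinForm F V}
    {x : Module.End F V} (h : SCtx r B x)
    (W : Submodule F V) (hW : SInv x W) (hWnd : SND B W) :
    finrank F W = finrank F ↥(W ⊓ fixS x) + finrank F ↥(W ⊓ cycS r x) ∧
      SInv x (W ⊓ cycS r x) ∧ SND B (W ⊓ cycS r x) ∧ SND B (W ⊓ fixS x) := by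
  obtain ⟨hort, hcompl, -, -⟩ := split hrp h
  have hcop : IsCoprime (X - 1 : F[X]) (cyclotomic r F) := el_cyc_coprime (F := F) (p := p) r hrp
  have hkill : aeval x ((X - 1) * cyclotomic r F) = 0 := el_cyc_kill r x h.pow
  have hsplit : finrank F W = finrank F ↥(W ⊓ fixS x) + finrank F ↥(W ⊓ cycS r x) :=
    el_split_W x (cyclotomic r F) hcop hkill W hW
  have hskew : ∀ u v : V, B u v = - B v u := by
    intro u v
    have h1 := h.alt (u + v)
    simp only [map_add, LinearMap.add_apply, h.alt u, h.alt v, zero_add, add_zero] at h1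
    exact eq_neg_of_add_eq_zero_right h1
  have hdis : Disjoint (W ⊓ fixS x) (W ⊓ cycS r x) :=
    hcompl.disjoint.mono inf_le_right inf_le_right
  have hsup : (W ⊓ fixS x) ⊔ (W ⊓ cycS r x) = W := by
    apply Submodule.eq_of_le_of_finrank_eq (sup_le inf_le_left inf_le_left)
    have := Submodule.finrank_sup_add_finrank_inf_eq (W ⊓ fixS x) (W ⊓ cycS r x)
    rw [hdis.eq_bot, finrank_bot, add_zero] at this
    rw [this]
    exact hsplit.symm
  refine ⟨hsplit, el_inv_inf hW (el_inv_ker x _), ?_, ?_⟩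
  · intro u hu hall
    apply hWnd u hu.1
    intro w hw
    rw [← hsup] at hw
    obtain ⟨a, ha, b, hb, rfl⟩ := Submodule.mem_sup.mp hw
    rw [map_add, hall b hb, add_zero, hskew, hort a ha.2 u hu.2, neg_zero]
  · intro u hu hall
    apply hWnd u hu.1
    intro w hw
    rw [← hsup] at hw
    obtain ⟨a, ha, b, hb, rfl⟩ := Submodule.mem_sup.mp hw
    rw [map_add, hall a ha, zero_add, hort u hu.2 b hb.2]

/-- O7 [M] NECDIM: the dimension of a nondegenerate invariant subspace. -/
theorem nec_dim_nd {F : Type*} [Field F] [Fintype F] {p : ℕ} [Fact p.Prime] [CharP F p]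
    {V : Type*} [AddCommGroup V] [Module F V] [FiniteDimensional F V]
    {r : ℕ} [Fact r.Prime] (hrp : r ≠ p) {B : LinearMap.BilinForm F V}
    {x : Module.End F V} (h : SCtx r B x) (i c : ℕ)
    (hi : i = orderOf ((Fintype.card F : ℕ) : ZMod r)) (hc : c = if Even i then i else 2 * i)
    (W : Submodule F V) (hW : SInv x W) (hWnd : SND B W) :
    ∃ w0 b : ℕ, finrank F W = w0 + c * b ∧ w0 ≤ finrank F (fixS x) := by
  obtain ⟨hsplit, hW2inv, hW2nd, -⟩ := s5956o7_parts hrp h W hW hWnd
  obtain ⟨b, hb⟩ := cyc_nd_dvd hrp h i c hi hc (W ⊓ cycS r x) hW2inv inf_le_right hW2nd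
  refine ⟨finrank F ↥(W ⊓ fixS x), b, ?_, Submodule.finrank_mono inf_le_right⟩
  rw [hsplit, hb]

end Cfsg.Agent.Lib.helper3.S5956
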