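import Mathlib
import Cfsg.Agent.Lib.helper3.S77.Defs
import Cfsg.Prelude.Def_Sporadic_a

/-!
# Project S77 (helper3, S0429): piece ASM1, the Steiner system `S(3,6,22)` on the 22 cocliques of
size 21 (from the two counts as hypotheses)
-/

set_option autoImplicit false

namespace Cfsg.Agent.Lib.Helper20.S77

open Cfsg.Agent.Lib.helper3.S77 Finset Cfsg

universe u

variable {V : Type u} [Fintype V] [DecidableEq V] (G : SimpleGraph V) [DecidableRel G.Adj]

open Classical in
/-- the 21-cocliques -/
noncomputable def cocs : Finset (Finset V) := univ.filter (fun C => IsCoc21 G C)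

/-- the 21-cocliques through `x` -/
noncomputable def thr (x : V) : Finset (Finset V) := (cocs G).filter (fun C => x ∈ C)

theorem mem_cocs (C : Finset V) : C ∈ cocs G ↔ IsCoc21 G C := by
  classical
  simp [cocs]

theorem mem_thr (x : V) (C : Finset V) : C ∈ thr G x ↔ IsCoc21 G C ∧ x ∈ C := by
  simp [thr, mem_cocs]

theorem thr_subset (x : V) : thr G x ⊆ cocs G := Finset.filter_subset _ _

section counts

variable (h6 : ∀ o, {C : Finset V | IsCoc21 G C ∧ o ∈ C}.ncard = 6)
  (h2 : ∀ o x, o ≠ x → ¬G.Adj o x → {C : Finset V | IsCoc21 G C ∧ o ∈ C ∧ x ∈ C}.ncard = 2)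

include h6 in
theorem card_thr (x : V) : (thr G x).card = 6 := by
  rw [← h6 x, ← Set.ncard_coe_finset]
  congr 1
  ext C
  simp [mem_thr]

include h2 in
theorem card_thr_inter {x y : V} (hxy : x ≠ y) (hadj : ¬G.Adj x y) :
    (thr G x ∩ thr G y).card = 2 := by
  rw [← h2 x y hxy hadj, ← Set.ncard_coe_finset]
  congr 1
  ext C
  simp only [Finset.coe_inter, Set.mem_inter_iff, Finset.mem_coe, mem_thr, Set.mem_setOf_eq]
  tauto

theorem thr_inter_adj {x y : V} (hadj : G.Adj x y) : thr G x ∩ thr G y = ∅ := by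
  rw [Finset.eq_empty_iff_forall_notMem]
  intro C hC
  rw [Finset.mem_inter, mem_thr, mem_thr] at hC
  exact hC.1.1.2 x hC.1.2 y hC.2.2 hadj

include h6 in
theorem card_cocs (h : Is77 G) : (cocs G).card = 22 := by
  have h1 : ∑ x : V, (thr G x).card = ∑ C ∈ cocs G, C.card := by
    have e1 : ∀ x : V, (thr G x).card = ∑ C ∈ cocs G, if x ∈ C then 1 else 0 := by
      intro x
      rw [thr, Finset.card_filter]
    have e2 : ∀ C : Finset V, C.card = ∑ x : V, if x ∈ C then 1 else 0 := by
      intro C
      rw [← Finset.card_filter, Finset.filter_mem_eq_inter, Finset.univ_inter]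
    rw [Finset.sum_congr rfl (fun x _ => e1 x), Finset.sum_comm]
    exact Finset.sum_congr rfl (fun C _ => (e2 C).symm)
  rw [Finset.sum_congr rfl (fun x _ => card_thr G h6 x), Finset.sum_const, Finset.card_univ, h.card,
    Finset.sum_congr rfl (fun C hC => ((mem_cocs G C).1 hC).1), Finset.sum_const] at h1
  simp only [smul_eq_mul] at h1
  omega

end counts

/-- the points of the Steiner system -/
abbrev Pt : Type u := ↥(cocs G)

/-- the block of a vertex: the 21-cocliques through it -/
noncomputable def hb (x : V) : Finset (Pt G) := (thr G x).subtype (fun C => C ∈ cocs G)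

theorem mem_hb (x : V) (C : Pt G) : C ∈ hb G x ↔ x ∈ C.1 := by
  rw [hb, Finset.mem_subtype, mem_thr]
  exact ⟨fun hh => hh.2, fun hh => ⟨(mem_cocs G C.1).1 C.2, hh⟩⟩

theorem card_subtype_of_subset {s : Finset (Finset V)} (hs : s ⊆ cocs G) :
    (s.subtype (fun C => C ∈ cocs G)).card = s.card := by
  rw [Finset.card_subtype, Finset.filter_true_of_mem (fun C hC => hs hC)]

theorem hb_inter (x y : V) :
    hb G x ∩ hb G y = (thr G x ∩ thr G y).subtype (fun C => C ∈ cocs G) := by
  ext C
  simp only [hb, Finset.mem_inter, Finset.mem_subtype]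

section counts2

variable (h6 : ∀ o, {C : Finset V | IsCoc21 G C ∧ o ∈ C}.ncard = 6)
  (h2 : ∀ o x, o ≠ x → ¬G.Adj o x → {C : Finset V | IsCoc21 G C ∧ o ∈ C ∧ x ∈ C}.ncard = 2)

include h6 in
theorem card_hb (x : V) : (hb G x).card = 6 := by
  rw [hb, card_subtype_of_subset G (thr_subset G x), card_thr G h6]

include h2 in
theorem card_hb_inter {x y : V} (hxy : x ≠ y) :
    (hb G x ∩ hb G y).card = if G.Adj x y then 0 else 2 := by
  rw [hb_inter, card_subtype_of_subset G
    (fun C hC => thr_subset G x (Finset.mem_inter.1 hC).1)]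
  split_ifs with hadj
  · rw [thr_inter_adj G hadj, Finset.card_empty]
  · exact card_thr_inter G h2 hxy hadj

include h2 in
theorem card_hb_inter_le {x y : V} (hxy : x ≠ y) : (hb G x ∩ hb G y).card ≤ 2 := by
  rw [card_hb_inter G h2 hxy]
  split_ifs <;> omega

include h6 h2 in
theorem hb_injective : Function.Injective (hb G) := by
  intro x y hxy
  by_contra hne
  have h1 := card_hb_inter_le G h2 hne
  rw [← hxy, Finset.inter_self, card_hb G h6] at h1
  omega

include h6 h2 in
theorem steiner (h : Is77 G) : IsSteinerSystem 3 6 (Set.range (hb G)) := by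
  classical
  have hP : Fintype.card (Pt G) = 22 := by
    rw [Fintype.card_coe, card_cocs G h6 h]
  refine ⟨?_, ?_⟩
  · rintro b ⟨x, rfl⟩
    exact card_hb G h6 x
  · -- uniqueness of the vertex
    have huniq : ∀ (s : Finset (Pt G)), s.card = 3 → ∀ x y, s ⊆ hb G x → s ⊆ hb G y → x = y := by
      intro s hs x y hx hy
      by_contra hne
      have h1 := card_hb_inter_le G h2 hne
      have h3 : s.card ≤ (hb G x ∩ hb G y).card :=
        Finset.card_le_card (Finset.subset_inter hx hy)
      omega
    -- existence by counting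
    have hdisj : ((univ : Finset V) : Set V).PairwiseDisjoint
        (fun x => Finset.powersetCard 3 (hb G x)) := by
      intro x _ y _ hne
      rw [Function.onFun, Finset.disjoint_left]
      intro s hsx hsy
      rw [Finset.mem_powersetCard] at hsx hsy
      exact hne (huniq s hsx.2 x y hsx.1 hsy.1)
    have hU : (univ : Finset V).biUnion (fun x => Finset.powersetCard 3 (hb G x)) =
        Finset.powersetCard 3 (univ : Finset (Pt G)) := by
      apply Finset.eq_of_subset_of_card_le
      · intro s hs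
        rw [Finset.mem_biUnion] at hs
        obtain ⟨x, -, hs⟩ := hs
        rw [Finset.mem_powersetCard] at hs ⊢
        exact ⟨Finset.subset_univ _, hs.2⟩
      · rw [Finset.card_biUnion hdisj, Finset.card_powersetCard, Finset.card_univ, hP]
        have : ∀ x ∈ (univ : Finset V), (Finset.powersetCard 3 (hb G x)).card = 20 := by
          intro x _
          rw [Finset.card_powersetCard, card_hb G h6 x]
          rfl
        rw [Finset.sum_congr rfl this, Finset.sum_const, Finset.card_univ, h.card]
        decide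
    intro s hs
    have hs' : s ∈ Finset.powersetCard 3 (univ : Finset (Pt G)) := by
      rw [Finset.mem_powersetCard]
      exact ⟨Finset.subset_univ _, hs⟩
    rw [← hU, Finset.mem_biUnion] at hs'
    obtain ⟨x, -, hsx⟩ := hs'
    rw [Finset.mem_powersetCard] at hsx
    refine ⟨hb G x, ⟨Set.mem_range_self x, hsx.1⟩, ?_⟩
    rintro b ⟨⟨y, rfl⟩, hy⟩
    rw [huniq s hs y x hy hsx.1]

include h6 h2 in
theorem graph_iso : Nonempty (G ≃g blockGraph (Set.range (hb G))) := by
  classical
  have hinj := hb_injective G h6 h2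
  let f : V → ↥(Set.range (hb G)) := fun x => ⟨hb G x, Set.mem_range_self x⟩
  have hf : Function.Bijective f := by
    constructor
    · intro x y hxy
      exact hinj (congrArg Subtype.val hxy)
    · rintro ⟨b, x, rfl⟩
      exact ⟨x, rfl⟩
  refine ⟨⟨Equiv.ofBijective f hf, ?_⟩⟩
  intro x y
  change (blockGraph (Set.range (hb G))).Adj (f x) (f y) ↔ G.Adj x y
  rw [blockGraph, SimpleGraph.fromRel_adj]
  change (f x ≠ f y ∧ (Disjoint (hb G x) (hb G y) ∨ Disjoint (hb G y) (hb G x))) ↔ G.Adj x y
  constructor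
  · rintro ⟨hne, hd⟩
    have hxy : x ≠ y := fun hh => hne (by rw [hh])
    have hd' : Disjoint (hb G x) (hb G y) := hd.elim id (fun hh => hh.symm)
    have h0 : (hb G x ∩ hb G y).card = 0 := by
      rw [Finset.disjoint_iff_inter_eq_empty.1 hd', Finset.card_empty]
    rw [card_hb_inter G h2 hxy] at h0
    by_contra hadj
    rw [if_neg hadj] at h0
    omega
  · intro hadj
    have hxy : x ≠ y := G.ne_of_adj hadj
    refine ⟨fun hh => hxy (hf.1 hh), Or.inl ?_⟩
    rw [Finset.disjoint_iff_inter_eq_empty, ← Finset.card_eq_zero, card_hb_inter G h2 hxy,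
      if_pos hadj]

end counts2

theorem steiner_of_coc (h : Is77 G)
    (h6 : ∀ o, {C : Finset V | IsCoc21 G C ∧ o ∈ C}.ncard = 6)
    (h2 : ∀ o x, o ≠ x → ¬G.Adj o x → {C : Finset V | IsCoc21 G C ∧ o ∈ C ∧ x ∈ C}.ncard = 2) :
    ∃ (P : Type u) (_ : Fintype P) (_ : DecidableEq P) (B : Set (Finset P)),
      Fintype.card P = 22 ∧ IsSteinerSystem 3 6 B ∧ Nonempty (G ≃g blockGraph B) := by
  refine ⟨Pt G, inferInstance, inferInstance, Set.range (hb G), ?_, steiner G h6 h2 h,
    graph_iso G h6 h2⟩
  rw [Fintype.card_coe, card_cocs G h6 h]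

end Cfsg.Agent.Lib.Helper20.S77
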