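import Mathlib
import Cfsg.Agent.Lib.helper3.S77.Defs

/-!
# Project S77 (helper3, S0429): piece HOF, a 21-coclique meets the neighbourhood of every outside
vertex in 6 vertices (variance argument)
-/

set_option autoImplicit false

namespace Cfsg.Agent.Lib.Helper20.S77

open Cfsg.Agent.Lib.helper3.S77 Finset

universe u

variable {V : Type u} [Fintype V] [DecidableEq V] (G : SimpleGraph V) [DecidableRel G.Adj]

/-- adjacency indicator -/
def ai (v x : V) : ℤ := if G.Adj v x then 1 else 0

theorem card_filter_eq_sum_ai (C : Finset V) (v : V) :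
    ((C.filter (fun x => G.Adj v x)).card : ℤ) = ∑ x ∈ C, ai G v x := by
  unfold ai
  rw [Finset.card_filter]
  push_cast
  rfl

theorem coc21_regular (h : Is77 G) {C : Finset V} (hC : IsCoc21 G C) {v : V} (hv : v ∉ C) :
    (C.filter (fun x => G.Adj v x)).card = 6 := by
  obtain ⟨hcard, hcoc⟩ := hC
  -- the complement
  set D : Finset V := univ.filter (fun w => w ∉ C) with hD
  have hDcard : (D.card : ℤ) = 56 := by
    have h1 : D.card + C.card = Fintype.card V := by
      have : D = univ \ C := by
        ext w
        simp [hD]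
      rw [this, Finset.card_sdiff_add_card_eq_card (Finset.subset_univ C), Finset.card_univ]
    rw [hcard, h.card] at h1
    have : D.card = 56 := by omega
    rw [this]
    rfl
  -- neighbours of a vertex of C are outside C
  have hout : ∀ x ∈ C, ∀ w, G.Adj x w → w ∈ D := by
    intro x hx w hxw
    rw [hD, Finset.mem_filter]
    exact ⟨Finset.mem_univ _, fun hw => hcoc x hx w hw hxw⟩
  -- first moment
  have hS1 : ∀ x ∈ C, ∑ w ∈ D, ai G w x = 16 := by
    intro x hx
    have : ∑ w ∈ D, ai G w x = ((univ.filter (fun w => G.Adj x w)).card : ℤ) := by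
      unfold ai
      rw [Finset.card_filter]
      push_cast
      rw [← Finset.sum_subset (Finset.subset_univ D)]
      · refine Finset.sum_congr rfl fun w _ => ?_
        simp only [G.adj_comm w x]
      · intro w _ hw
        rw [if_neg]
        intro hxw
        exact hw (hout x hx w hxw)
    rw [this, h.deg x]
    rfl
  -- second moment
  have hS2 : ∀ x ∈ C, ∀ y ∈ C, ∑ w ∈ D, ai G w x * ai G w y = if x = y then 16 else 4 := by
    intro x hx y hy
    have : ∑ w ∈ D, ai G w x * ai G w y =
        ((univ.filter (fun w => G.Adj x w ∧ G.Adj y w)).card : ℤ) := by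
      unfold ai
      rw [Finset.card_filter]
      push_cast
      rw [← Finset.sum_subset (Finset.subset_univ D)]
      · refine Finset.sum_congr rfl fun w _ => ?_
        simp only [G.adj_comm w x, G.adj_comm w y]
        split_ifs <;> simp_all
      · intro w _ hw
        rw [if_neg]
        rintro ⟨hxw, -⟩
        exact hw (hout x hx w hxw)
    rw [this]
    split_ifs with hxy
    · subst hxy
      have : (univ.filter (fun w => G.Adj x w ∧ G.Adj x w)) = univ.filter (fun w => G.Adj x w) := by
        ext w
        simp
      rw [this, h.deg x]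
      rfl
    · rw [h.mu x y hxy (hcoc x hx y hy)]
      rfl
  set d : V → ℤ := fun w => ∑ x ∈ C, ai G w x with hd
  have hsum1 : ∑ w ∈ D, d w = 336 := by
    simp only [hd]
    rw [Finset.sum_comm, Finset.sum_congr rfl hS1, Finset.sum_const, hcard]
    norm_num
  have hsum2 : ∑ w ∈ D, d w * d w = 2016 := by
    have h1 : ∀ w, d w * d w = ∑ x ∈ C, ∑ y ∈ C, ai G w x * ai G w y := by
      intro w
      simp only [hd]
      rw [Finset.sum_mul_sum]
    rw [Finset.sum_congr rfl (fun w _ => h1 w), Finset.sum_comm]
    have h2 : ∀ x ∈ C, ∑ w ∈ D, ∑ y ∈ C, ai G w x * ai G w y = 96 := by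
      intro x hx
      rw [Finset.sum_comm, Finset.sum_congr rfl (fun y hy => hS2 x hx y hy)]
      rw [Finset.sum_ite, Finset.sum_const, Finset.sum_const]
      have e1 : (C.filter (fun y => x = y)).card = 1 := by
        rw [Finset.filter_eq C x, if_pos hx, Finset.card_singleton]
      have e2 : (C.filter (fun y => ¬x = y)).card = 20 := by
        have := Finset.card_filter_add_card_filter_not (s := C) (fun y => x = y)
        rw [e1, hcard] at this
        omega
      rw [e1, e2]
      norm_num
    rw [Finset.sum_congr rfl h2, Finset.sum_const, hcard]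
    norm_num
  have hvar : ∑ w ∈ D, (d w - 6) * (d w - 6) = 0 := by
    have : ∀ w, (d w - 6) * (d w - 6) = d w * d w - 12 * d w + 36 := fun w => by ring
    rw [Finset.sum_congr rfl (fun w _ => this w), Finset.sum_add_distrib, Finset.sum_sub_distrib,
      ← Finset.mul_sum, hsum1, hsum2, Finset.sum_const, nsmul_eq_mul, hDcard]
    norm_num
  have hzero := (Finset.sum_eq_zero_iff_of_nonneg (fun w _ => mul_self_nonneg (d w - 6))).1 hvar
  have hvD : v ∈ D := by
    rw [hD, Finset.mem_filter]
    exact ⟨Finset.mem_univ _, hv⟩
  have hdv : d v = 6 := by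
    have := hzero v hvD
    have h0 : d v - 6 = 0 := mul_self_eq_zero.1 this
    linarith
  have := card_filter_eq_sum_ai G C v
  rw [show ∑ x ∈ C, ai G v x = d v from rfl, hdv] at this
  exact_mod_cast this

end Cfsg.Agent.Lib.Helper20.S77
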