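import Mathlib
import Cfsg.Agent.S0999
import Cfsg.Agent.Lib.helper6.PSL2Index

/-!
# Project S983 (S0983), row E1: numeric form of S0999 (Brauer-Reynolds).
-/

set_option autoImplicit false

namespace Cfsg.Agent.Lib.helper3.S983

/-- a group which is not commutative is not cyclic -/
theorem s983e1_not_cyclic {G : Type*} [Group G] (hG : ¬ IsMulCommutative G) : ¬ IsCyclic G := by
  intro hc
  apply hG
  let _ : CommGroup G := IsCyclic.commGroup
  exact ⟨⟨fun a b => mul_comm a b⟩⟩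

/-- the two orders `|PSL_2(p)|`, `|PSL_2(p - 1)|` from an isomorphism with `PSL_2(F)` -/
theorem s983e1_card {G : Type*} [Group G] [Finite G] (p : ℕ) (hp : p.Prime) (h3 : 3 < p)
    (F : Type) [Field F] [Fintype F]
    (iso : G ≃* Matrix.ProjectiveSpecialLinearGroup (Fin 2) F) :
    (Fintype.card F = p → 2 * Nat.card G = p * (p ^ 2 - 1)) ∧
      (∀ m : ℕ, Fintype.card F = 2 ^ m → p = 2 ^ m + 1 → Nat.card G = (p - 2) * (p - 1) * p) := by
  have h1 := Cfsg.Agent.Lib.helper6.PSL2Index.card_PSL2_mul (F := F)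
  rw [← Nat.card_congr iso.toEquiv] at h1
  refine ⟨fun hF => ?_, fun m hF hpm => ?_⟩
  · rw [hF] at h1
    have hodd : Odd p := hp.odd_of_ne_two (by omega)
    have hg : Nat.gcd 2 (p - 1) = 2 := by
      obtain ⟨k, hk⟩ := hodd
      have : p - 1 = 2 * k := by omega
      rw [this]
      exact Nat.gcd_mul_right_right 2 k |> fun h => by simp
    rw [hg] at h1
    rw [mul_comm]
    exact h1
  · rw [hF] at h1
    have hm2 : 2 ≤ m := by
      by_contra hcon
      have : m = 0 ∨ m = 1 := by omega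
      rcases this with rfl | rfl <;> omega
    have hg : Nat.gcd 2 (2 ^ m - 1) = 1 := by
      have hodd : ¬ 2 ∣ 2 ^ m - 1 := by
        have h2 : 2 ∣ 2 ^ m := dvd_pow_self 2 (by omega)
        have hpos : 1 ≤ 2 ^ m := Nat.one_le_two_pow
        omega
      exact (Nat.Prime.coprime_iff_not_dvd Nat.prime_two).mpr hodd
    rw [hg, mul_one] at h1
    rw [h1, hpm]
    have e1 : 2 ^ m + 1 - 2 = 2 ^ m - 1 := by omega
    have e2 : 2 ^ m + 1 - 1 = 2 ^ m := by omega
    rw [e1, e2]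
    have hpos : 1 ≤ 2 ^ m := Nat.one_le_two_pow
    have e3 : (2 ^ m) ^ 2 - 1 = (2 ^ m - 1) * (2 ^ m + 1) := by
      obtain ⟨t, ht⟩ : ∃ t, 2 ^ m = t + 1 := ⟨2 ^ m - 1, by omega⟩
      rw [ht]
      simp only [Nat.add_sub_cancel]
      have : (t + 1) ^ 2 = t * (t + 1 + 1) + 1 := by ring
      rw [this, Nat.add_sub_cancel]
    rw [e3]
    ring

/-- E1 -/
theorem e1_kill {G : Type*} [Group G] [Finite G] [IsSimpleGroup G] (hG : ¬ IsMulCommutative G)
    (p : ℕ) (hp : p.Prime) (hdvd : p ∣ Nat.card G) (hbig : Nat.card G < p ^ 3) :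
    2 * Nat.card G = p * (p ^ 2 - 1) ∨ Nat.card G = (p - 2) * (p - 1) * p := by
  rcases Cfsg.Agent.S0999.result (s983e1_not_cyclic hG) p hp hdvd hbig with
    ⟨F, iF, iFt, hF, h3, ⟨iso⟩⟩ | ⟨m, F, iF, iFt, hF, hpm, h3, ⟨iso⟩⟩
  · left
    exact (s983e1_card p hp h3 F iso).1 hF
  · right
    exact (s983e1_card p hp h3 F iso).2 m hF hpm

end Cfsg.Agent.Lib.helper3.S983
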