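import Mathlib
import Cfsg.Agent.S0997
import Cfsg.Agent.Lib.Helper20.S983E1

/-!
# Project S983 (S0983), row E2: numeric form of S0997 (Brauer-Tuan).
-/

set_option autoImplicit false

namespace Cfsg.Agent.Lib.helper3.S983

/-- E2 -/
theorem e2_kill {G : Type*} [Group G] [Finite G] [IsSimpleGroup G] (hG : ¬ IsMulCommutative G)
    (p q b g₀ : ℕ) (hp : p.Prime) (hq : q.Prime) (hpq : p ≠ q) (hp5 : 5 ≤ p)
    (hcard : Nat.card G = p * q ^ b * g₀) (hg : g₀ < p - 1) :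
    2 * Nat.card G = p * (p ^ 2 - 1) ∨ Nat.card G = (p - 2) * (p - 1) * p := by
  rcases Cfsg.Agent.S0997.result (s983e1_not_cyclic hG) p q b g₀ hp hq hpq hcard hg with
    ⟨m, F, iF, iFt, hF, -, ⟨iso⟩⟩ | ⟨m, F, iF, iFt, hF, hpm, h3, ⟨iso⟩⟩
  · left
    exact (s983e1_card p hp (by omega) F iso).1 hF
  · right
    exact (s983e1_card p hp h3 F iso).2 m hF hpm

end Cfsg.Agent.Lib.helper3.S983
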