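import Mathlib
import Cfsg.Agent.Lib.helper7.BR.Defs
import Cfsg.Agent.Lib.Helper16.BRSET2
import Cfsg.Agent.Lib.Helper1.BRSET3
import Cfsg.Agent.Lib.Helper13.BTPB3
import Cfsg.Agent.Lib.helper8.BTXDEG
import Cfsg.Agent.Lib.helper8.BTYDEG
import Cfsg.Agent.Lib.helper23.BRDIV
import Cfsg.Agent.Lib.helper23.BRCLS

/-!
# S0983, order row 4680 = 2³ · 3² · 5 · 13: no simple group of order 4680.
`n_13 = 40` is the only possibility, `|N_G(P)| = 117`, `e = |N : C| ∈ {1, 3}`, `e ≠ 1` (Burnside), so `e = 3`, `|C_G(P)| = 39`,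
`|G : C_G(P)| = 120`.  Principal 13-block (`pb_values3`, `e = 3`): `X = {1, χ₁, χ₂}` with signed degrees in `{40, -12}`
(divisors of 120 congruent to `± 1` mod 13), four exceptional characters of signed degree `ε z ∈ {3, 120, -10}`:
`1 + a₁ D₁ + a₂ D₂ = ε z` has no solution.
-/

set_option autoImplicit false
set_option linter.unusedVariables false
set_option linter.unusedSectionVars false
set_option linter.style.haveILetI false

namespace Cfsg.Agent.Lib.Helper20.S983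

open Classical
open scoped ComplexConjugate
open Cfsg.Agent.Lib.helper7.BR Cfsg.Agent.Lib.Helper25 Cfsg.Agent.Lib.Helper29
open Cfsg.Agent.Lib.Helper13.BT Cfsg.Agent.Lib.helper2

universe u

instance s983n4680_fact13 : Fact (Nat.Prime 13) := ⟨by norm_num⟩

section fin

variable {G : Type u} [Group G] [Fintype G]

/-- SETUP: a simple group of order 4680 is perfect; its Sylow 13-subgroups have order 13 and are not normal. -/
theorem s983n4680_setup [IsSimpleGroup G] (hG : Nat.card G = 4680) :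
    commutator G = ⊤ ∧
      ∀ P : Sylow 13 G, Nat.card ↥(P : Subgroup G) = 13 ∧ ¬ (P : Subgroup G).Normal := by
  have hcne : Subgroup.center G ≠ ⊤ := by
    intro h
    haveI : Fact (Nat.Prime 2) := ⟨Nat.prime_two⟩
    obtain ⟨x, hx⟩ := exists_prime_orderOf_dvd_card' (G := G) 2 (by rw [hG]; norm_num)
    have hxn : (Subgroup.zpowers x).Normal := by
      refine ⟨fun n _ g => ?_⟩
      have hc : n ∈ Subgroup.center G := by rw [h]; exact Subgroup.mem_top n
      rw [Subgroup.mem_center_iff] at hc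
      rw [hc g, mul_inv_cancel_right]
      assumption
    have hcard : Nat.card ↥(Subgroup.zpowers x) = 2 := by rw [Nat.card_zpowers, hx]
    rcases hxn.eq_bot_or_eq_top with h1 | h1
    · rw [h1, Subgroup.card_bot] at hcard
      omega
    · rw [h1, Subgroup.card_top, hG] at hcard
      omega
  refine ⟨?_, ?_⟩
  · have hn : (commutator G).Normal := by
      rw [commutator_def]
      exact Subgroup.commutator_normal ⊤ ⊤
    rcases hn.eq_bot_or_eq_top with h | h
    · exfalso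
      rw [commutator_eq_bot_iff_center_eq_top] at h
      exact hcne h
    · exact h
  · intro P
    have hcard : Nat.card ↥(P : Subgroup G) = 13 := by
      obtain ⟨k, hk⟩ := IsPGroup.iff_card.mp P.isPGroup'
      have hdvd : Nat.card ↥(P : Subgroup G) ∣ 4680 := by
        rw [← hG]
        exact Subgroup.card_subgroup_dvd_card _
      have h5 : 13 ∣ Nat.card ↥(P : Subgroup G) := P.dvd_card_of_dvd_card (by rw [hG]; norm_num)
      rcases Nat.lt_or_ge k 2 with hk2 | hk2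
      · interval_cases k
        · rw [hk] at h5
          norm_num at h5
        · rw [hk]
          norm_num
      · exfalso
        have h25 : 13 ^ 2 ∣ 4680 := (pow_dvd_pow 13 hk2).trans (hk ▸ hdvd)
        norm_num at h25
    refine ⟨hcard, fun hN => ?_⟩
    rcases hN.eq_bot_or_eq_top with h1 | h1
    · rw [h1, Subgroup.card_bot] at hcard
      omega
    · rw [h1, Subgroup.card_top, hG] at hcard
      omega

/-- the arithmetic of the order formula `4680 = 13 q w (1 + 13 n)` -/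
theorem s983n4680_num (q w n : ℕ) (hq : q ∣ 12) (hq1 : q ≠ 1) (hw : 1 ≤ w) (hn : 1 ≤ n)
    (h : 4680 = 13 * q * w * (1 + n * 13)) : n = 3 ∧ q = 3 ∧ w = 3 := by
  have hq12 : q ≤ 12 := Nat.le_of_dvd (by norm_num) hq
  have hq0 : 1 ≤ q := Nat.pos_of_dvd_of_pos hq (by norm_num)
  have hqw : 1 ≤ q * w := Nat.mul_pos hq0 hw
  have hmul := Nat.mul_le_mul_right (1 + n * 13) hqw
  have hn' : n ≤ 27 := by nlinarith
  interval_cases n <;> interval_cases q <;> omega

/-- signed degrees of the non-exceptional characters: divisors of 120 congruent to `± 1` modulo 13 -/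
theorem s983n4680_divX (D : ℕ) (a : ℤ) (ha : a = 1 ∨ a = -1) (hD2 : 2 ≤ D) (hDdvd : D ∣ 120)
    (hDc : (13 : ℤ) ∣ (D : ℤ) - a) : (a = 1 ∧ D = 40) ∨ (a = -1 ∧ D = 12) := by
  have hD120 : D ≤ 120 := Nat.le_of_dvd (by norm_num) hDdvd
  rcases ha with rfl | rfl
  · left
    refine ⟨rfl, ?_⟩
    interval_cases D <;> omega
  · right
    refine ⟨rfl, ?_⟩
    interval_cases D <;> omega

/-- signed degree of the exceptional characters: divisors of 120 congruent to `± 3` modulo 13 -/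
theorem s983n4680_divY (z : ℕ) (ε : ℤ) (hε : ε = 1 ∨ ε = -1) (hz1 : 1 ≤ z) (hzdvd : z ∣ 120)
    (hzc : (13 : ℤ) ∣ (z : ℤ) - ε * 3) : (ε = 1 ∧ (z = 3 ∨ z = 120)) ∨ (ε = -1 ∧ z = 10) := by
  have hz120 : z ≤ 120 := Nat.le_of_dvd (by norm_num) hzdvd
  rcases hε with rfl | rfl
  · left
    refine ⟨rfl, ?_⟩
    interval_cases z <;> omega
  · right
    refine ⟨rfl, ?_⟩
    interval_cases z <;> omega

/-- the block case: `|N_G(P) : C_G(P)| = 3`, `|C_G(P)| = 39` is impossible in a perfect group of order 4680 -/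
theorem s983n4680_block (hperf : commutator G = ⊤) (hG : Nat.card G = 4680) (P : Sylow 13 G)
    (hP : Nat.card ↥(P : Subgroup G) = 13) (hq : (cen P).relIndex (nrm P) = 3)
    (hC : Nat.card ↥(cen P) = 39) : False := by
  obtain ⟨X, Y, a, ε, hB⟩ := pb_values3 P hP 3 hq (by norm_num) (by norm_num)
  obtain ⟨hd1, ha1, hge, hcong, hdvd⟩ := X_degrees hperf hP hB
  obtain ⟨z, hz1, hzY, hzc, hrel⟩ := Y_degrees hP hB
  have hci : (cen P).index = 120 := by
    have h1 := Subgroup.card_mul_index (cen P)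
    rw [hC, hG] at h1
    omega
  have hX2 : (X.erase (trivIrr G)).card = 2 := by
    rw [Finset.card_erase_of_mem hB.triv_mem, hB.cardX]
  obtain ⟨χ₁, χ₂, hne12, hχ⟩ := Finset.card_eq_two.mp hX2
  have hχ₁mem : χ₁ ∈ X.erase (trivIrr G) := by rw [hχ]; simp
  have hχ₂mem : χ₂ ∈ X.erase (trivIrr G) := by rw [hχ]; simp
  have hχ₁X : χ₁ ∈ X := Finset.mem_of_mem_erase hχ₁mem
  have hχ₂X : χ₂ ∈ X := Finset.mem_of_mem_erase hχ₂mem
  have hχ₁ne : χ₁ ≠ trivIrr G := Finset.ne_of_mem_erase hχ₁mem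
  have hχ₂ne : χ₂ ≠ trivIrr G := Finset.ne_of_mem_erase hχ₂mem
  have hsum : ∑ ξ ∈ X, a ξ * (leoDeg ξ : ℤ) =
      1 + a χ₁ * (leoDeg χ₁ : ℤ) + a χ₂ * (leoDeg χ₂ : ℤ) := by
    rw [← Finset.add_sum_erase X _ hB.triv_mem, hχ, Finset.sum_pair hne12, ha1, hd1]
    push_cast
    ring
  rw [hsum] at hrel
  obtain ⟨x₀, hx₀, hx₀1⟩ := btxdeg_exists P hP
  have hx13 : 13 ∣ orderOf x₀ := by rw [btxdeg_orderOf P hP x₀ hx₀ hx₀1]
  have hDdvd : ∀ χ ∈ X, leoDeg χ ∣ 120 := by
    intro χ hχX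
    rw [← hci]
    exact deg_dvd_of_pm_one P hP χ (a χ) (hB.a_pm χ hχX) x₀ hx₀ hx₀1 (hB.valX χ hχX x₀ hx13) _
      (leoDeg_spec χ)
  have hzdvd : z ∣ 120 := by
    rw [← hci]
    exact exc_deg_dvd P hP Y z (fun η hη => by rw [leoDeg_spec η, hzY η hη]) ε hB.eps_pm x₀ hx₀ hx₀1
      (hB.sumY x₀ hx13)
  have h1 := s983n4680_divX (leoDeg χ₁) (a χ₁) (hB.a_pm χ₁ hχ₁X) (hge χ₁ hχ₁X hχ₁ne)
    (hDdvd χ₁ hχ₁X) (hcong χ₁ hχ₁X)
  have h2 := s983n4680_divX (leoDeg χ₂) (a χ₂) (hB.a_pm χ₂ hχ₂X) (hge χ₂ hχ₂X hχ₂ne)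
    (hDdvd χ₂ hχ₂X) (hcong χ₂ hχ₂X)
  have h3 := s983n4680_divY z ε hB.eps_pm hz1 hzdvd (by exact_mod_cast hzc)
  rcases h1 with ⟨e1, e1'⟩ | ⟨e1, e1'⟩ <;> rcases h2 with ⟨e2, e2'⟩ | ⟨e2, e2'⟩ <;>
  rcases h3 with ⟨e3, e3' | e3'⟩ | ⟨e3, e3'⟩ <;>
  · rw [e1, e1', e2, e2', e3, e3'] at hrel
    norm_num at hrel

end fin

/-- S0983, order row 4680: there is no simple group of order 4680. -/
theorem no_simple_4680 {G : Type*} [Group G] [Finite G] [IsSimpleGroup G]
    (hG : Nat.card G = 4680) : False := by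
  haveI : Fintype G := Fintype.ofFinite G
  obtain ⟨hperf, hS⟩ := s983n4680_setup hG
  obtain ⟨P⟩ : Nonempty (Sylow 13 G) := inferInstance
  obtain ⟨hP, hPn⟩ := hS P
  obtain ⟨q, w, n, hqdvd, hq1, hw1, hn1, hqrel, hC, hN, hNidx, hCidx, hGcard⟩ :=
    order_formula P hP hPn
  have hne1 : q ≠ 1 := by
    have := relIndex_ne_one hperf P hP
    rwa [hqrel] at this
  rw [hG] at hGcard
  obtain ⟨rfl, rfl, rfl⟩ := s983n4680_num q w n hqdvd hne1 hw1 hn1 hGcard
  exact s983n4680_block hperf hG P hP hqrel (by rw [hC])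

end Cfsg.Agent.Lib.Helper20.S983
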