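import Cfsg.Agent.Lib.Helper20.SA3.Defs

/-!
Project SA3 (S2285, designer helper20): row FIN2 core: S2285 from the statements of MA
(`sa3_alt_pres6`, `sa3_sym_pres6`) and FIN1 (`sa3_three_gen`).
-/

namespace Cfsg.Agent.Lib.helper7.SAP

open Equiv

/-- FIN2 core. -/
theorem sa3fin2_core
    (hA : ∀ n : ℕ, 5 ≤ n → ∃ rels : Finset (FreeGroup (Fin 2)), rels.card ≤ 6 ∧
      Nonempty (PresentedGroup (↑rels : Set (FreeGroup (Fin 2))) ≃* alternatingGroup (Fin n)))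
    (hS : ∀ n : ℕ, 5 ≤ n → ∃ rels : Finset (FreeGroup (Fin 2)), rels.card ≤ 6 ∧
      Nonempty (PresentedGroup (↑rels : Set (FreeGroup (Fin 2))) ≃* Perm (Fin n)))
    (h3 : ∀ {G : Type} [Group G], (∃ rels : Finset (FreeGroup (Fin 2)), rels.card ≤ 6 ∧
        Nonempty (PresentedGroup (↑rels : Set (FreeGroup (Fin 2))) ≃* G)) →
      ∃ rels : Finset (FreeGroup (Fin 3)), rels.card ≤ 7 ∧
        Nonempty (PresentedGroup (↑rels : Set (FreeGroup (Fin 3))) ≃* G))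
    (n : ℕ) (hn : 5 ≤ n) :
    (∃ rels : Finset (FreeGroup (Fin 3)), rels.card ≤ 7 ∧ Nonempty (PresentedGroup (↑rels : Set (FreeGroup (Fin 3))) ≃* Equiv.Perm (Fin n))) ∧ (∃ rels : Finset (FreeGroup (Fin 3)), rels.card ≤ 7 ∧ Nonempty (PresentedGroup (↑rels : Set (FreeGroup (Fin 3))) ≃* ↥(alternatingGroup (Fin n)))) :=
  ⟨h3 (hS n hn), h3 (hA n hn)⟩

end Cfsg.Agent.Lib.helper7.SAP
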