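import Cfsg.Agent.Lib.Helper20.SA3.Defs

/-!
Project SA3 (S2285, designer helper20): rows M1 (`sa3_merge`), M2 (`sa3_exps`), M3 (`sa3_rv`), verbatim.
-/

namespace Cfsg.Agent.Lib.helper7.SAP

open Equiv

universe u

/-- conjugation by `β` of a power -/
theorem sa3m1_conj_pow {G : Type u} [Group G] (β x : G) (n : ℕ) :
    β * x ^ n * β⁻¹ = (β * x * β⁻¹) ^ n := by
  rw [conj_pow]

/-- M1 [S]: the merge lemma (see header). -/
theorem sa3_merge {G : Type u} [Group G] (a g β : G) (p m e rv : ℕ)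
    (hc : a ^ p = g ^ (3 * m)) (hβc : β * a ^ p = a ^ p * β)
    (hβa : β * a * β⁻¹ = a ^ rv) (hβz : β * g ^ (m * e) * β⁻¹ = (g ^ (m * e))⁻¹)
    (hrv : 1 ≤ rv) (hcop : Nat.Coprime (rv - 1) (2 * e)) :
    a ^ p = 1 ∧ g ^ (3 * m) = 1 := by
  set c : G := a ^ p with hcdef
  -- `β` commutes with `c` and its powers
  have hconj : β * c * β⁻¹ = c := by rw [hβc]; group
  have hconjpow : ∀ n : ℕ, β * c ^ n * β⁻¹ = c ^ n := by
    intro n; rw [sa3m1_conj_pow, hconj]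
  -- `c = c ^ rv`
  have h1 : c = c ^ rv := by
    have : β * c * β⁻¹ = (β * a * β⁻¹) ^ p := by rw [hcdef, sa3m1_conj_pow]
    rw [hconj, hβa, ← pow_mul, mul_comm, pow_mul] at this
    exact this
  have h2 : c ^ (rv - 1) = 1 := by
    have h3 : c ^ rv = c ^ (rv - 1) * c := by
      rw [← pow_succ]; congr 1; omega
    rw [h3] at h1
    exact (right_eq_mul.1 h1)
  -- `z ^ 3 = c ^ e`
  have hz3 : (g ^ (m * e)) ^ 3 = c ^ e := by
    rw [hc, ← pow_mul, ← pow_mul]; congr 1; ring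
  have h4 : c ^ e = (c ^ e)⁻¹ := by
    have : β * (g ^ (m * e)) ^ 3 * β⁻¹ = (β * g ^ (m * e) * β⁻¹) ^ 3 := by rw [sa3m1_conj_pow]
    rw [hβz, inv_pow, hz3, hconjpow] at this
    exact this
  have h5 : c ^ (2 * e) = 1 := by
    rw [two_mul, pow_add]
    nth_rewrite 1 [h4]
    exact inv_mul_cancel _
  have h6 : orderOf c ∣ Nat.gcd (rv - 1) (2 * e) :=
    Nat.dvd_gcd (orderOf_dvd_of_pow_eq_one h2) (orderOf_dvd_of_pow_eq_one h5)
  rw [hcop] at h6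
  have h7 : c = 1 := by
    rw [← orderOf_eq_one_iff]; exact Nat.dvd_one.1 h6
  exact ⟨h7, by rw [← hc]; exact h7⟩

/-- M2 [S]: explicit exponents for splitting `g = z τ` (`m ≡ 1 (3)`: `e = 1`, `ez = m`, `et = 2m+1`;
`m ≡ 2 (3)`: `e = 2`, `ez = 2m`, `et = m+1`). -/
theorem sa3_exps (m : ℕ) (hm : 0 < m) (h3 : ¬ 3 ∣ m) :
    ∃ ez et e : ℕ, (e = 1 ∨ e = 2) ∧ ez = m * e ∧ ez % 3 = 1 ∧ m ∣ ez ∧ 3 ∣ et ∧ et % m = 1 % m ∧
      (ez + et) % (3 * m) = 1 % (3 * m) := by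
  have h3' : m % 3 = 1 ∨ m % 3 = 2 := by omega
  rcases h3' with h | h
  · refine ⟨m, 2 * m + 1, 1, Or.inl rfl, (mul_one m).symm, h, dvd_rfl, by omega, ?_, ?_⟩
    · rw [show 2 * m + 1 = 1 + m * 2 by ring, Nat.add_mul_mod_self_left]
    · rw [show m + (2 * m + 1) = 1 + 3 * m * 1 by ring, Nat.add_mul_mod_self_left]
  · refine ⟨m * 2, m + 1, 2, Or.inr rfl, rfl, by omega, Dvd.intro _ rfl, by omega, ?_, ?_⟩
    · rw [show m + 1 = 1 + m * 1 by ring, Nat.add_mul_mod_self_left]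
    · rw [show m * 2 + (m + 1) = 1 + 3 * m * 1 by ring, Nat.add_mul_mod_self_left]

/-- M3 [S]: an even representative of `r` (`r.val` or `r.val + p`). -/
theorem sa3_rv (p : ℕ) [Fact p.Prime] (hp : 3 ≤ p) (r : (ZMod p)ˣ) :
    ∃ rv : ℕ, 1 ≤ rv ∧ Even rv ∧ rv % p = (r : ZMod p).val := by
  have hpr : p.Prime := Fact.out
  have hodd : Odd p := hpr.odd_of_ne_two (by omega)
  have hlt : (r : ZMod p).val < p := ZMod.val_lt _
  have hpos : 1 ≤ (r : ZMod p).val := by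
    rw [Nat.one_le_iff_ne_zero, Ne, ZMod.val_eq_zero]
    exact r.ne_zero
  rcases Nat.even_or_odd (r : ZMod p).val with h | h
  · exact ⟨(r : ZMod p).val, hpos, h, Nat.mod_eq_of_lt hlt⟩
  · refine ⟨(r : ZMod p).val + p, by omega, h.add_odd hodd, ?_⟩
    rw [Nat.add_mod_right, Nat.mod_eq_of_lt hlt]

end Cfsg.Agent.Lib.helper7.SAP
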