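import Cfsg.Agent.Lib.Helper20.SA3.Defs
import Cfsg.Agent.Lib.Helper20.SA3M1
import Cfsg.Agent.Lib.Helper25.SAPPRES5

/-!
Project SA3 (S2285, designer helper20): rows M4 (`sa3_common_of_merged`) and P1 (`sa3_merged_perm`),
verbatim.
-/

namespace Cfsg.Agent.Lib.helper7.SAP

open Equiv

universe u

/-- an element commuting with both generators commutes with every value of `FreeGroup.lift ![a, g]` -/
theorem sa3m4_comm_lift {G : Type u} [Group G] (a g c : G) (hca : c * a = a * c) (hcg : c * g = g * c)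
    (w : FreeGroup (Fin 2)) : FreeGroup.lift ![a, g] w * c = c * FreeGroup.lift ![a, g] w := by
  have h1 : (FreeGroup.lift ![a, g]).range ≤ Subgroup.centralizer {c} := by
    apply FreeGroup.range_lift_le
    rintro _ ⟨i, rfl⟩
    rw [SetLike.mem_coe, Subgroup.mem_centralizer_iff]
    intro h hh
    rw [Set.mem_singleton_iff] at hh
    subst hh
    fin_cases i
    · exact hca
    · exact hcg
  have h2 := h1 (MonoidHom.mem_range.2 ⟨w, rfl⟩)
  rw [Subgroup.mem_centralizer_iff] at h2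
  exact (h2 c rfl).symm

/-- an even number `≥ 1` minus one is coprime to `2 e`, `e = 1` or `2` -/
theorem sa3m4_coprime (rv e : ℕ) (he : e = 1 ∨ e = 2) (hrv1 : 1 ≤ rv) (hrv2 : Even rv) :
    Nat.Coprime (rv - 1) (2 * e) := by
  have hodd : Odd (rv - 1) := by
    obtain ⟨t, ht⟩ := hrv2
    exact ⟨t - 1, by omega⟩
  have h2 : Nat.Coprime (rv - 1) 2 := Nat.coprime_two_right.2 hodd
  rcases he with rfl | rfl
  · simpa using h2
  · exact Nat.Coprime.mul_right h2 h2

/-- M4 [M]: in a group where the merged relators hold, the common relators hold (M1). -/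
theorem sa3_common_of_merged (p k l : ℕ) [Fact p.Prime] {G : Type u} [Group G] (a g : G)
    (e ez et rv : ℕ) (r : (ZMod p)ˣ) (he : e = 1 ∨ e = 2) (hez : ez = (l + k) * e)
    (hrv1 : 1 ≤ rv) (hrv2 : Even rv) (hrvp : rv % p = (r : ZMod p).val)
    (Bw Nw : FreeGroup (Fin 2))
    (hrel : ∀ w ∈ sa3_relsMerged p l k ez et rv Bw Nw, FreeGroup.lift ![a, g] w = 1) :
    ∀ w ∈ relsCommon p l k ez et (r : ZMod p).val Bw Nw, FreeGroup.lift ![a, g] w = 1 := by
  set φ : FreeGroup (Fin 2) →* G := FreeGroup.lift ![a, g] with hφ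
  have hφA : φ wA = a := by simp [hφ, wA]
  have hφG : φ wG = g := by simp [hφ, wG]
  have q1 : a ^ p = g ^ (3 * (l + k)) := by
    have := hrel (wA ^ p * (wG ^ (3 * (l + k)))⁻¹) (by simp [sa3_relsMerged])
    rw [map_mul, map_inv, map_pow, map_pow, hφA, hφG, mul_inv_eq_one] at this
    exact this
  have q3 := hrel ((wG ^ ez * (wA * wG ^ ez * wA⁻¹)) ^ 2) (by simp [sa3_relsMerged])
  have q4 : φ Bw * a * (φ Bw)⁻¹ = a ^ rv := by
    have := hrel (Bw * wA * Bw⁻¹ * (wA ^ rv)⁻¹) (by simp [sa3_relsMerged])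
    rw [map_mul, map_mul, map_mul, map_inv, map_inv, map_pow, hφA, mul_inv_eq_one] at this
    exact this
  have q5 := hrel (Bw * wG ^ ez * Bw⁻¹ * wG ^ ez) (by simp [sa3_relsMerged])
  have q5' : φ Bw * g ^ ((l + k) * e) * (φ Bw)⁻¹ = (g ^ ((l + k) * e))⁻¹ := by
    have := q5
    rw [map_mul, map_mul, map_mul, map_inv, map_pow, hφG, mul_eq_one_iff_eq_inv, hez] at this
    exact this
  have q6 := hrel (((Nw⁻¹ * wG ^ et) * (wA ^ l * Bw * (wA ^ l)⁻¹)) *
      ((wA ^ l * Bw * (wA ^ l)⁻¹) * (Nw⁻¹ * wG ^ et))⁻¹) (by simp [sa3_relsMerged])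
  -- `c = a ^ p` is central
  have hca : a ^ p * a = a * a ^ p := (Commute.pow_self a p).eq
  have hcg : a ^ p * g = g * a ^ p := by rw [q1]; exact (Commute.pow_self g _).eq
  have hβc : φ Bw * a ^ p = a ^ p * φ Bw := sa3m4_comm_lift a g (a ^ p) hca hcg Bw
  obtain ⟨hap, hgm⟩ := sa3_merge a g (φ Bw) p (l + k) e rv q1 hβc q4 q5' hrv1
    (sa3m4_coprime rv e he hrv1 hrv2)
  have harv : a ^ rv = a ^ (r : ZMod p).val := by
    rw [pow_eq_pow_mod rv hap, hrvp]
  intro w hw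
  simp only [relsCommon, List.mem_cons, List.not_mem_nil, or_false] at hw
  rcases hw with rfl | rfl | rfl | rfl | rfl | rfl
  · rw [map_pow, hφA, hap]
  · rw [map_pow, hφG, hgm]
  · exact q3
  · rw [map_mul, map_mul, map_mul, map_inv, map_inv, map_pow, hφA, ← harv, mul_inv_eq_one]
    exact q4
  · exact q5
  · exact q6

/-- P1 [S-M]: the merged relators hold in `Perm (Pt p k)` (PRES5 `rels_perm`). -/
theorem sa3_merged_perm (p k l : ℕ) [Fact p.Prime] (hlp : l + 1 ≤ p) (hl : 1 ≤ l) (r : (ZMod p)ˣ)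
    (ez et rv : ℕ) (hz3 : ez % 3 = 1) (hzm : (l + k) ∣ ez) (ht3 : 3 ∣ et)
    (htm : et % (l + k) = 1 % (l + k)) (hrvp : rv % p = (r : ZMod p).val)
    (Bw Nw : FreeGroup (Fin 2)) (hB : evP p k l Bw = bh k r) (hN : evP p k l Nw = nh p k l) :
    ∀ w ∈ sa3_relsMerged p l k ez et rv Bw Nw, evP p k l w = 1 := by
  have hc := rels_perm p k l hlp hl r ez et hz3 hzm ht3 htm Bw Nw hB hN
  have c1 := hc (wA ^ p) (by simp [relsCommon])
  have c2 := hc (wG ^ (3 * (l + k))) (by simp [relsCommon])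
  have c3' := hc ((wG ^ ez * (wA * wG ^ ez * wA⁻¹)) ^ 2) (by simp [relsCommon])
  have c4 := hc (Bw * wA * Bw⁻¹ * (wA ^ (r : ZMod p).val)⁻¹) (by simp [relsCommon])
  have c5 := hc (Bw * wG ^ ez * Bw⁻¹ * wG ^ ez) (by simp [relsCommon])
  have c6 := hc (((Nw⁻¹ * wG ^ et) * (wA ^ l * Bw * (wA ^ l)⁻¹)) *
      ((wA ^ l * Bw * (wA ^ l)⁻¹) * (Nw⁻¹ * wG ^ et))⁻¹) (by simp [relsCommon])
  have hap : (evP p k l wA) ^ p = 1 := by rw [← map_pow]; exact c1
  have harv : (evP p k l wA) ^ rv = (evP p k l wA) ^ (r : ZMod p).val := by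
    rw [pow_eq_pow_mod rv hap, hrvp]
  intro w hw
  simp only [sa3_relsMerged, List.mem_cons, List.not_mem_nil, or_false] at hw
  rcases hw with rfl | rfl | rfl | rfl | rfl
  · rw [map_mul, map_inv, c1, c2, inv_one, mul_one]
  · exact c3'
  · rw [map_mul, map_inv, map_pow, harv, ← map_pow, ← map_inv, ← map_mul]
    exact c4
  · exact c5
  · exact c6

end Cfsg.Agent.Lib.helper7.SAP
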