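import Mathlib
import Cfsg.Agent.Lib.helper7.SAP.Defs
import Cfsg.Agent.Lib.helper23.SAPGL1
import Cfsg.Agent.Lib.Helper25.SAPGL2
import Cfsg.Agent.Lib.helper8.SAPPERM5
import Cfsg.Agent.Lib.Helper12.SAPGL3core
import Cfsg.Agent.Lib.helper2.SAPGL4
import Cfsg.Agent.Lib.Helper20.SAPGL5core

/-!
# Project SAP (designer helper7), rows GL5 `glue_theta_act` and GL6 `glue_tau_old`, verbatim (writer helper20)

Express wrappers: GL3 is taken through helper12's `sapgl3_core` applied to the landed rows GL1 (`glue_psi_zo`, helper23), GL2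
(`glue_injOn_old`, helper25), PERM5 (`nh_conj_zh`, helper8), so this file does not wait for the verbatim `glue_nu_act`; GL4
(`glue_beta'_act`) is helper2's landed row.
-/

namespace Cfsg.Agent.Lib.helper7.SAP

open Equiv

universe u

section glue
variable {p k l : ℕ} {G : Type u} [Group G]

/-- the statement of GL3 (own-name copy through `sapgl3_core`) -/
theorem sapgl5_nu_act [Fact p.Prime] (H : GlueHyp p k l G) (x : ZMod p) :
    H.ν * zo H.a H.z x * H.ν⁻¹ = (zo H.a H.z (nuI p l x)) ^ (sgn l) :=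
  sapgl3_core H (glue_psi_zo H) (glue_injOn_old H)
    (fun y => nh_conj_zh p k l H.hlp (by have := H.hkl; omega) y) x

/-- GL5 [M] -/
theorem glue_theta_act [Fact p.Prime] (H : GlueHyp p k l G) (x : ZMod p) (hx : x ≠ (l : ZMod p)) :
    (H.ν⁻¹ * H.τ) * zo H.a H.z x * (H.ν⁻¹ * H.τ)⁻¹ = (zo H.a H.z x) ^ (sgn l) :=
  sapgl5_core H (sapgl5_nu_act H) (glue_beta'_act H) x hx

/-- GL6 [S-M] -/
theorem glue_tau_old [Fact p.Prime] (H : GlueHyp p k l G) (x : ZMod p) (hx : x ≠ (l : ZMod p)) :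
    H.τ * zo H.a H.z x * H.τ⁻¹ = zo H.a H.z (nuI p l x) :=
  sapgl6_core H (sapgl5_nu_act H) (glue_theta_act H) x hx

end glue

end Cfsg.Agent.Lib.helper7.SAP
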