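import Mathlib
import Cfsg.Agent.Lib.helper17.SLP.Defs
import Cfsg.Agent.Lib.helper3.SP4.Defs

/-!
# Project SP4 (designer helper3), rows T1 `tor_comm` and T2 `tor_weyl`, cores (writer helper20)

`sp4t1_core`, `sp4t2_core`: the statements of T1, T2 with the statement of R3 (`r_basic`, for all `φ`) as hypothesis; T2 also takes the
statement of T1.
-/

set_option autoImplicit false

namespace Cfsg.Agent.Lib.helper3.SP4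

open Cfsg.Agent.Lib.helper17.SLP

universe u v

section T

variable {F : Type u} [Field F] [Fintype F] {G : Type v} [Group G]

omit [Fintype F] in
theorem sp4t1_core
    (hR3 : ∀ φ : Matrix.SpecialLinearGroup (Fin 2) F →* G,
      (∀ s t, rx φ (s + t) = rx φ s * rx φ t) ∧ rx φ 0 = 1 ∧ (∀ t, rx φ (-t) = (rx φ t)⁻¹) ∧
      (∀ s r : Fˣ, rh φ (s * r) = rh φ s * rh φ r) ∧ rh φ 1 = 1 ∧ (∀ s : Fˣ, rh φ s⁻¹ = (rh φ s)⁻¹) ∧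
      (∀ (s : Fˣ) (i : ℤ), rh φ (s ^ i) = rh φ s ^ i) ∧ (∀ s : Fˣ, Act (rh φ s) (rx φ) ((s : F) ^ 2)) ∧
      (∀ s : Fˣ, rn φ * rh φ s * (rn φ)⁻¹ = (rh φ s)⁻¹) ∧ rn φ ^ 2 = rh φ (-1))
    (ζ : Fˣ) (hζ : ∀ y : Fˣ, y ∈ Subgroup.zpowers ζ)
    (φa φb : Matrix.SpecialLinearGroup (Fin 2) F →* G) (H : Hyp ζ φa φb) :
    ∀ s r : Fˣ, Commute (rh φa s) (rh φb r) := by
  intro s r
  obtain ⟨i, rfl⟩ := Subgroup.mem_zpowers_iff.mp (hζ s)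
  obtain ⟨j, rfl⟩ := Subgroup.mem_zpowers_iff.mp (hζ r)
  obtain ⟨-, -, -, -, -, -, hza, -⟩ := hR3 φa
  obtain ⟨-, -, -, -, -, -, hzb, -⟩ := hR3 φb
  rw [hza, hzb]
  exact H.T1.zpow_zpow i j

omit [Fintype F] in
theorem sp4t2_core
    (hR3 : ∀ φ : Matrix.SpecialLinearGroup (Fin 2) F →* G,
      (∀ s t, rx φ (s + t) = rx φ s * rx φ t) ∧ rx φ 0 = 1 ∧ (∀ t, rx φ (-t) = (rx φ t)⁻¹) ∧
      (∀ s r : Fˣ, rh φ (s * r) = rh φ s * rh φ r) ∧ rh φ 1 = 1 ∧ (∀ s : Fˣ, rh φ s⁻¹ = (rh φ s)⁻¹) ∧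
      (∀ (s : Fˣ) (i : ℤ), rh φ (s ^ i) = rh φ s ^ i) ∧ (∀ s : Fˣ, Act (rh φ s) (rx φ) ((s : F) ^ 2)) ∧
      (∀ s : Fˣ, rn φ * rh φ s * (rn φ)⁻¹ = (rh φ s)⁻¹) ∧ rn φ ^ 2 = rh φ (-1))
    (ζ : Fˣ) (hζ : ∀ y : Fˣ, y ∈ Subgroup.zpowers ζ)
    (φa φb : Matrix.SpecialLinearGroup (Fin 2) F →* G) (H : Hyp ζ φa φb)
    (hT1 : ∀ s r : Fˣ, Commute (rh φa s) (rh φb r)) :
    (∀ r : Fˣ, rn φa * rh φb r * (rn φa)⁻¹ = rh φb r * rh φa r) ∧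
      (∀ s : Fˣ, rn φb * rh φa s * (rn φb)⁻¹ = rh φa s * rh φb (s ^ 2)) ∧
      (∀ r : Fˣ, (rn φa)⁻¹ * rh φb r * rn φa = rh φb r * rh φa r) ∧
      (∀ s : Fˣ, (rn φb)⁻¹ * rh φa s * rn φb = rh φa s * rh φb (s ^ 2)) := by
  obtain ⟨-, -, -, -, -, -, hza, -, hwa, -⟩ := hR3 φa
  obtain ⟨-, -, -, -, -, -, hzb, -, hwb, -⟩ := hR3 φb
  have h1 : ∀ r : Fˣ, rn φa * rh φb r * (rn φa)⁻¹ = rh φb r * rh φa r := by
    intro r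
    obtain ⟨j, rfl⟩ := Subgroup.mem_zpowers_iff.mp (hζ r)
    rw [hza, hzb, ← conj_zpow, H.N4]
    exact (hT1 ζ ζ).symm.mul_zpow j
  have h2 : ∀ s : Fˣ, rn φb * rh φa s * (rn φb)⁻¹ = rh φa s * rh φb (s ^ 2) := by
    intro s
    obtain ⟨i, rfl⟩ := Subgroup.mem_zpowers_iff.mp (hζ s)
    have e : ((ζ ^ i) ^ 2 : Fˣ) = ζ ^ (2 * i) := by
      rw [← zpow_natCast, ← zpow_mul, mul_comm]
      norm_num
    rw [e, hza, hzb, ← conj_zpow, H.N5]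
    have hc : Commute (rh φa ζ) (rh φb ζ ^ 2) := (hT1 ζ ζ).pow_right 2
    rw [hc.mul_zpow i, ← zpow_natCast, ← zpow_mul]
    norm_num
  refine ⟨h1, h2, ?_, ?_⟩
  · intro r
    have h3 : rn φa * (rh φb r * rh φa r) * (rn φa)⁻¹ = rh φb r := by
      calc rn φa * (rh φb r * rh φa r) * (rn φa)⁻¹
          = (rn φa * rh φb r * (rn φa)⁻¹) * (rn φa * rh φa r * (rn φa)⁻¹) := by group
        _ = rh φb r * rh φa r * (rh φa r)⁻¹ := by rw [h1, hwa]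
        _ = rh φb r := by group
    conv_lhs => rw [← h3]
    group
  · intro s
    have h4 : rn φb * (rh φa s * rh φb (s ^ 2)) * (rn φb)⁻¹ = rh φa s := by
      calc rn φb * (rh φa s * rh φb (s ^ 2)) * (rn φb)⁻¹
          = (rn φb * rh φa s * (rn φb)⁻¹) * (rn φb * rh φb (s ^ 2) * (rn φb)⁻¹) := by group
        _ = rh φa s * rh φb (s ^ 2) * (rh φb (s ^ 2))⁻¹ := by rw [h2, hwb]
        _ = rh φa s := by group
    conv_lhs => rw [← h4]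
    group

end T

end Cfsg.Agent.Lib.helper3.SP4
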