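import Mathlib
import Cfsg.Agent.Lib.helper17.SLP.Defs
import Cfsg.Agent.Lib.helper3.SP4.Defs
import Cfsg.Agent.Lib.Helper28.SP4R3
import Cfsg.Agent.Lib.Helper20.SP4T1core

/-!
# Project SP4 (designer helper3), rows T1 `tor_comm` and T2 `tor_weyl`, verbatim (writer helper20)

`sp4t1_core`, `sp4t2_core` applied to the landed row R3 (`r_basic`, helper28).
-/

set_option autoImplicit false

namespace Cfsg.Agent.Lib.helper3.SP4

open Cfsg.Agent.Lib.helper17.SLP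

universe u v

section T

variable {F : Type u} [Field F] [Fintype F] {G : Type v} [Group G]

set_option linter.unusedSectionVars false in
/-- T1 [S-M] -/
theorem tor_comm (ζ : Fˣ) (hζ : ∀ y : Fˣ, y ∈ Subgroup.zpowers ζ)
    (φa φb : Matrix.SpecialLinearGroup (Fin 2) F →* G) (H : Hyp ζ φa φb) :
    ∀ s r : Fˣ, Commute (rh φa s) (rh φb r) :=
  sp4t1_core (fun φ => r_basic φ) ζ hζ φa φb H

set_option linter.unusedSectionVars false in
/-- T2 [M] -/
theorem tor_weyl (ζ : Fˣ) (hζ : ∀ y : Fˣ, y ∈ Subgroup.zpowers ζ)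
    (φa φb : Matrix.SpecialLinearGroup (Fin 2) F →* G) (H : Hyp ζ φa φb) :
    (∀ r : Fˣ, rn φa * rh φb r * (rn φa)⁻¹ = rh φb r * rh φa r) ∧
      (∀ s : Fˣ, rn φb * rh φa s * (rn φb)⁻¹ = rh φa s * rh φb (s ^ 2)) ∧
      (∀ r : Fˣ, (rn φa)⁻¹ * rh φb r * rn φa = rh φb r * rh φa r) ∧
      (∀ s : Fˣ, (rn φb)⁻¹ * rh φa s * rn φb = rh φa s * rh φb (s ^ 2)) :=
  sp4t2_core (fun φ => r_basic φ) ζ hζ φa φb H (tor_comm ζ hζ φa φb H)

end T

end Cfsg.Agent.Lib.helper3.SP4
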