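import Mathlib
import Cfsg.Agent.Lib.helper7.SPC.Defs

/-!
# Project SPC, row C3 (`dim_list`): the dimension of the sum of a list of blocks is the sum of the parts.
-/

set_option autoImplicit false

namespace Cfsg.Agent.Lib.helper7.SPC

universe u

open Module

variable {F : Type u} [Field F]

theorem spcc3_sum (T T' : Trip F) :
    finrank F (TSum T T').V = finrank F T.V + finrank F T'.V := by
  show finrank F (T.V × T'.V) = _
  rw [Module.finrank_prod]

theorem spcc3_zero : finrank F (TZero F).V = 0 := by
  show finrank F PUnit.{u + 1} = 0
  exact Module.finrank_zero_of_subsingleton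

theorem spcc3_blk (b : Blk F) : finrank F b.trip.V = b.parts.sum := by
  cases b with
  | A k c =>
    show finrank F (Fin k → F) = ({k} : Multiset ℕ).sum
    rw [Module.finrank_fin_fun, Multiset.sum_singleton]
  | H k =>
    show finrank F (Fin k ⊕ Fin k → F) = ({k, k} : Multiset ℕ).sum
    rw [Module.finrank_pi, Fintype.card_sum, Fintype.card_fin]
    simp

/-- C3 [S-M]: induction on `L`: `finrank (Fin k → F) = k`, `finrank (Fin k ⊕ Fin k → F) = k + k`, `Module.finrank_prod`, `finrank PUnit = 0`. -/
theorem dim_list (L : List (Blk F)) : finrank F (sumList L).V = (partsL L).sum := by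
  induction L with
  | nil =>
    rw [sumList_nil, spcc3_zero]
    rfl
  | cons b L ih =>
    rw [sumList_cons, spcc3_sum, ih, spcc3_blk]
    unfold partsL
    rw [List.map_cons, List.sum_cons, Multiset.sum_add]

end Cfsg.Agent.Lib.helper7.SPC
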