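import Mathlib
import Cfsg.Agent.Lib.helper7.SPC.Defs

/-!
# Project SPC, row Y3 (`cay_conj`): conjugacy in `Sp` of elements with `g ^ p = 1` is conjugacy of the Cayley transforms.

`A ^ p = 1`, `p` odd: `A + 1` is invertible (`(A + 1) z = 0` gives `A z = -z`, `z = A ^ p z = - z`).
`cay A = 1 - 2 (A + 1)⁻¹`, so `H cay A = cay A' H ↔ H (A + 1)⁻¹ = (A' + 1)⁻¹ H ↔ (A' + 1) H = H (A + 1) ↔ A' H = H A`.
-/

set_option autoImplicit false

namespace Cfsg.Agent.Lib.helper7.SPC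

universe u

variable {F : Type u} [Field F]

theorem spcy3_two_ne_zero {p : ℕ} [Fact p.Prime] [CharP F p] (hp : p ≠ 2) : (2 : F) ≠ 0 := by
  intro h
  have h1 : ((2 : ℕ) : F) = 0 := by exact_mod_cast h
  rw [CharP.cast_eq_zero_iff F p 2] at h1
  have hp' : p.Prime := Fact.out
  exact hp ((Nat.prime_dvd_prime_iff_eq hp' Nat.prime_two).1 h1)

/-- `A ^ p = 1` with `p` odd: `A + 1` is invertible -/
theorem spcy3_unit {p : ℕ} [Fact p.Prime] [CharP F p] (hp : p ≠ 2) {n : Type} [Fintype n]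
    [DecidableEq n] (A : Matrix n n F) (hA : A ^ p = 1) : IsUnit (A + 1).det := by
  have h2 : (2 : F) ≠ 0 := spcy3_two_ne_zero hp
  have hp' : p.Prime := Fact.out
  have hodd : Odd p := hp'.odd_of_ne_two hp
  rw [← Matrix.isUnit_iff_isUnit_det, ← Matrix.mulVec_injective_iff_isUnit]
  intro v w hvw
  have h0 : (A + 1).mulVec (v - w) = 0 := by rw [Matrix.mulVec_sub, hvw, sub_self]
  have h1 : A.mulVec (v - w) = -(v - w) := by
    rw [Matrix.add_mulVec, Matrix.one_mulVec] at h0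
    exact eq_neg_of_add_eq_zero_left h0
  have hk : ∀ k : ℕ, (A ^ k).mulVec (v - w) = (-1 : F) ^ k • (v - w) := by
    intro k
    induction k with
    | zero => rw [pow_zero, pow_zero, Matrix.one_mulVec, one_smul]
    | succ k ih =>
      rw [pow_succ, ← Matrix.mulVec_mulVec, h1, Matrix.mulVec_neg, ih, pow_succ, mul_neg_one,
        neg_smul]
  have h3 := hk p
  rw [hA, Matrix.one_mulVec, hodd.neg_one_pow, neg_one_smul] at h3
  have h4 : (2 : F) • (v - w) = 0 := by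
    rw [two_smul]
    nth_rewrite 1 [h3]
    exact neg_add_cancel _
  have h5 : v - w = 0 := (smul_eq_zero.1 h4).resolve_left h2
  exact sub_eq_zero.1 h5

/-- `cay A = 1 - 2 (A + 1)⁻¹` -/
theorem spcy3_cay_eq {n : Type} [Fintype n] [DecidableEq n] (A : Matrix n n F)
    (hA : IsUnit (A + 1).det) : cay A = 1 - (2 : F) • (A + 1)⁻¹ := by
  unfold cay
  have e : A - 1 = (A + 1) - (2 : F) • (1 : Matrix n n F) := by
    rw [two_smul]
    abel
  rw [e, sub_mul, Matrix.mul_nonsing_inv _ hA, Matrix.smul_mul, one_mul]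

/-- the matrix form of Y3 -/
theorem spcy3_core {n : Type} [Fintype n] [DecidableEq n] (h2 : (2 : F) ≠ 0) (A A' H : Matrix n n F)
    (hA : IsUnit (A + 1).det) (hA' : IsUnit (A' + 1).det) :
    H * cay A = cay A' * H ↔ H * A = A' * H := by
  rw [spcy3_cay_eq A hA, spcy3_cay_eq A' hA', mul_sub, sub_mul, mul_one, one_mul, sub_right_inj,
    Matrix.mul_smul, Matrix.smul_mul]
  constructor
  · intro h
    have h' : H * (A + 1)⁻¹ = (A' + 1)⁻¹ * H := smul_right_injective _ h2 h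
    have h3 : (A' + 1) * H = H * (A + 1) := by
      calc (A' + 1) * H = (A' + 1) * H * ((A + 1)⁻¹ * (A + 1)) := by
            rw [Matrix.nonsing_inv_mul _ hA, mul_one]
        _ = (A' + 1) * (H * (A + 1)⁻¹) * (A + 1) := by simp only [mul_assoc]
        _ = (A' + 1) * ((A' + 1)⁻¹ * H) * (A + 1) := by rw [h']
        _ = H * (A + 1) := by rw [← mul_assoc (A' + 1), Matrix.mul_nonsing_inv _ hA', one_mul]
    rw [add_mul, mul_add, one_mul, mul_one] at h3
    exact (add_right_cancel h3).symm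
  · intro h
    have h3 : (A' + 1) * H = H * (A + 1) := by rw [add_mul, mul_add, one_mul, mul_one, h]
    congr 1
    calc H * (A + 1)⁻¹ = ((A' + 1)⁻¹ * (A' + 1)) * H * (A + 1)⁻¹ := by
          rw [Matrix.nonsing_inv_mul _ hA', one_mul]
      _ = (A' + 1)⁻¹ * ((A' + 1) * H) * (A + 1)⁻¹ := by simp only [mul_assoc]
      _ = (A' + 1)⁻¹ * (H * (A + 1)) * (A + 1)⁻¹ := by rw [h3]
      _ = (A' + 1)⁻¹ * H := by
          rw [mul_assoc, mul_assoc, Matrix.mul_nonsing_inv _ hA, mul_one]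

/-- Y3 [M]: `→`: `g' = h g h⁻¹`, `cay (h A h⁻¹) = h (cay A) h⁻¹` (`(h A h⁻¹ + 1)⁻¹ = h (A + 1)⁻¹ h⁻¹`).  `←`: `cay` is injective on such elements: `N (A + 1) = A - 1` gives `(1 - N) A = 1 + N`,
`A = (1 - N)⁻¹ (1 + N)` (`N` nilpotent); apply to `h g h⁻¹` and `g'`. -/
theorem cay_conj {p : ℕ} [Fact p.Prime] [CharP F p] (hp : p ≠ 2) (m : ℕ)
    (g g' : Matrix.symplecticGroup (Fin m) F) (hg : g ^ p = 1) (hg' : g' ^ p = 1) :
    IsConj g g' ↔ ∃ h : Matrix.symplecticGroup (Fin m) F,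
      (h : Matrix (Fin m ⊕ Fin m) (Fin m ⊕ Fin m) F) * cay (g : Matrix (Fin m ⊕ Fin m) (Fin m ⊕ Fin m) F) =
        cay (g' : Matrix (Fin m ⊕ Fin m) (Fin m ⊕ Fin m) F) * (h : Matrix (Fin m ⊕ Fin m) (Fin m ⊕ Fin m) F) := by
  have h2 : (2 : F) ≠ 0 := spcy3_two_ne_zero hp
  have hA : IsUnit ((g : Matrix (Fin m ⊕ Fin m) (Fin m ⊕ Fin m) F) + 1).det := by
    apply spcy3_unit hp
    have := congrArg Subtype.val hg
    rwa [SubmonoidClass.coe_pow] at this
  have hA' : IsUnit ((g' : Matrix (Fin m ⊕ Fin m) (Fin m ⊕ Fin m) F) + 1).det := by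
    apply spcy3_unit hp
    have := congrArg Subtype.val hg'
    rwa [SubmonoidClass.coe_pow] at this
  rw [isConj_iff]
  constructor
  · rintro ⟨c, hc⟩
    refine ⟨c, ?_⟩
    rw [spcy3_core h2 _ _ _ hA hA']
    rw [mul_inv_eq_iff_eq_mul] at hc
    have := congrArg Subtype.val hc
    exact this
  · rintro ⟨c, hc⟩
    refine ⟨c, ?_⟩
    rw [spcy3_core h2 _ _ _ hA hA'] at hc
    rw [mul_inv_eq_iff_eq_mul]
    exact Subtype.ext hc

end Cfsg.Agent.Lib.helper7.SPC
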