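import Mathlib
import Cfsg.Prelude.Def_GeometricClasses
import Cfsg.Agent.Lib.Lead.SPU.Defs

set_option autoImplicit false
set_option linter.unusedVariables false
set_option linter.unusedSectionVars false

/-!
# Project SPU (leader: lead) -> S5665 : piece SETUP (helper20).

`setup` VERBATIM; extras `spusetup_*`.
-/

namespace Cfsg.Agent.Lib.Lead.SPU

open Matrix Module Cfsg.Agent.Lib.helper6 Cfsg.Agent.S5646 Cfsg.Agent.S5647
  Cfsg.Agent.Lib.Helper28.SpPair

variable {m : ℕ} {F : Type*} [Field F]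

/-- structure of a quadratic field subalgebra (any index type; after `helper14.FldA.exists_gen`) -/
theorem spusetup_gen {ι : Type} [Fintype ι] [DecidableEq ι] (K : Subalgebra F (Matrix ι ι F))
    (hK : Cfsg.Geo.IsFieldSubalgebra 2 K) :
    ∃ (κ : Matrix ι ι F) (T D : F), κ ∈ K ∧
      (∀ M : Matrix ι ι F, M ∈ K ↔ ∃ a b : F, M = a • (1 : Matrix ι ι F) + b • κ) ∧
      κ * κ = T • κ - D • (1 : Matrix ι ι F) ∧
      (∀ t : F, t * t - T * t + D ≠ 0) ∧
      (∀ a : F, κ ≠ a • (1 : Matrix ι ι F)) := by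
  classical
  have hfr : finrank F K.toSubmodule = 2 := hK.finrank_eq
  -- a non-scalar element
  obtain ⟨κ, hκK, hκns⟩ : ∃ κ ∈ K, ∀ a : F, κ ≠ a • (1 : Matrix ι ι F) := by
    by_contra hcon
    push Not at hcon
    have hle : K.toSubmodule ≤ Submodule.span F {(1 : Matrix ι ι F)} := by
      intro M hM
      obtain ⟨a, ha⟩ := hcon M hM
      rw [Submodule.mem_span_singleton]
      exact ⟨a, ha.symm⟩
    have h1 := Submodule.finrank_mono hle
    have h2 : finrank F (Submodule.span F {(1 : Matrix ι ι F)}) ≤ 1 := by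
      have := finrank_span_le_card (R := F) ({(1 : Matrix ι ι F)} : Set _)
      simpa using this
    omega
  have h1ne : (1 : Matrix ι ι F) ≠ 0 := by
    intro h
    exact hκns 0 (by rw [zero_smul, ← Matrix.mul_one κ, h, Matrix.mul_zero])
  have hli : LinearIndependent F ![(1 : Matrix ι ι F), κ] := by
    rw [LinearIndependent.pair_iff]
    intro a b hab
    have hb : b = 0 := by
      by_contra hb
      apply hκns (-(b⁻¹ * a))
      have : b • κ = -(a • (1 : Matrix ι ι F)) := eq_neg_of_add_eq_zero_right hab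
      calc κ = b⁻¹ • (b • κ) := by rw [smul_smul, inv_mul_cancel₀ hb, one_smul]
        _ = -(b⁻¹ * a) • (1 : Matrix ι ι F) := by
            rw [this, smul_neg, smul_smul, neg_smul]
    refine ⟨?_, hb⟩
    rw [hb, zero_smul, add_zero] at hab
    by_contra ha
    apply h1ne
    rw [← one_smul F (1 : Matrix ι ι F), ← inv_mul_cancel₀ ha, mul_smul, hab, smul_zero]
  have hspanle : Submodule.span F (Set.range ![(1 : Matrix ι ι F), κ]) ≤
      K.toSubmodule := by
    rw [Submodule.span_le]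
    rintro _ ⟨i, rfl⟩
    fin_cases i
    · exact K.one_mem
    · exact hκK
  have hspanfr : finrank F (Submodule.span F (Set.range ![(1 : Matrix ι ι F), κ])) = 2 := by
    rw [finrank_span_eq_card hli]
    simp
  have hspaneq : Submodule.span F (Set.range ![(1 : Matrix ι ι F), κ]) =
      K.toSubmodule :=
    Submodule.eq_of_le_of_finrank_eq hspanle (by rw [hspanfr, hfr])
  have hmem : ∀ M : Matrix ι ι F, M ∈ K ↔
      ∃ a b : F, M = a • (1 : Matrix ι ι F) + b • κ := by
    intro M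
    have : M ∈ K ↔ M ∈ K.toSubmodule := Iff.rfl
    rw [this, ← hspaneq]
    have e : Set.range ![(1 : Matrix ι ι F), κ] = {1, κ} := by
      ext y
      simp only [Set.mem_range, Set.mem_insert_iff, Set.mem_singleton_iff]
      constructor
      · rintro ⟨i, rfl⟩
        fin_cases i
        · left; rfl
        · right; rfl
      · rintro (rfl | rfl)
        · exact ⟨0, rfl⟩
        · exact ⟨1, rfl⟩
    rw [e, Submodule.mem_span_pair]
    constructor
    · rintro ⟨a, b, h⟩
      exact ⟨a, b, h.symm⟩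
    · rintro ⟨a, b, h⟩
      exact ⟨a, b, h.symm⟩
  obtain ⟨a₀, b₀, hκκ⟩ := (hmem (κ * κ)).mp (K.mul_mem hκK hκK)
  refine ⟨κ, b₀, -a₀, hκK, hmem, ?_, ?_, hκns⟩
  · rw [hκκ, neg_smul, sub_neg_eq_add, add_comm]
  · intro t ht
    -- (κ - t)(κ - (b₀ - t)) = 0
    set A : Matrix ι ι F := κ - t • (1 : Matrix ι ι F) with hA
    set B : Matrix ι ι F := κ - (b₀ - t) • (1 : Matrix ι ι F) with hB
    have hAK : A ∈ K := K.sub_mem hκK (K.smul_mem K.one_mem t)
    have hBK : B ∈ K := K.sub_mem hκK (K.smul_mem K.one_mem _)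
    have hA0 : A ≠ 0 := fun h => hκns t (sub_eq_zero.mp h)
    have hB0 : B ≠ 0 := fun h => hκns (b₀ - t) (sub_eq_zero.mp h)
    have hAB : A * B = 0 := by
      rw [hA, hB, Matrix.sub_mul, Matrix.mul_sub, Matrix.mul_sub, hκκ]
      simp only [Matrix.smul_mul, Matrix.mul_smul, Matrix.one_mul, Matrix.mul_one, smul_smul]
      have e : a₀ • (1 : Matrix ι ι F) + b₀ • κ - (b₀ - t) • κ -
          (t • κ - ((b₀ - t) * t) • (1 : Matrix ι ι F)) =
          (a₀ + (b₀ - t) * t) • (1 : Matrix ι ι F) := by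
        rw [sub_smul, add_smul]
        abel
      rw [e]
      have : a₀ + (b₀ - t) * t = 0 := by linear_combination -ht
      rw [this, zero_smul]
    obtain ⟨y, hyK, hy⟩ := hK.inv A hAK hA0
    apply hB0
    calc B = (y * A) * B := by rw [← hK.comm A hAK y hyK, hy, Matrix.one_mul]
      _ = y * (A * B) := Matrix.mul_assoc _ _ _
      _ = 0 := by rw [hAB, Matrix.mul_zero]

/-- two vectors with the same `f (u, ·)` for all `u` are equal -/
theorem spusetup_vec_ext {x y : Fin m ⊕ Fin m → F}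
    (h : ∀ u, Cfsg.sympForm m F u x = Cfsg.sympForm m F u y) : x = y := by
  by_contra hne
  have h0 : x - y ≠ 0 := sub_ne_zero.mpr hne
  obtain ⟨u, hu⟩ := sympForm_nondeg m (x - y) h0
  apply hu
  rw [sympForm_swap, sympForm_sub_right, h u, sub_self, neg_zero]

/-- two matrices with the same `f (u, · v)` for all `u, v` are equal -/
theorem spusetup_mat_ext {A B : Matrix (Fin m ⊕ Fin m) (Fin m ⊕ Fin m) F}
    (h : ∀ u v, Cfsg.sympForm m F u (A *ᵥ v) = Cfsg.sympForm m F u (B *ᵥ v)) : A = B := by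
  apply Matrix.toLin'.injective
  apply LinearMap.ext
  intro v
  rw [Matrix.toLin'_apply, Matrix.toLin'_apply]
  exact spusetup_vec_ext (fun u => h u v)

/-- the adjoint of a generator `κ` of a quadratic field subalgebra (`κ² = T κ - D`), when it lies in `K` and `K` is not
self-adjoint, is `T - κ`. -/
theorem spusetup_adj (K : Subalgebra F (Matrix (Fin m ⊕ Fin m) (Fin m ⊕ Fin m) F))
    (hK : Cfsg.Geo.IsFieldSubalgebra 2 K) {κ κ' : Matrix (Fin m ⊕ Fin m) (Fin m ⊕ Fin m) F} {T D : F}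
    (hκK : κ ∈ K) (hκ'K : κ' ∈ K)
    (hspan : ∀ M : Matrix (Fin m ⊕ Fin m) (Fin m ⊕ Fin m) F, M ∈ K ↔
      ∃ a b : F, M = a • (1 : Matrix (Fin m ⊕ Fin m) (Fin m ⊕ Fin m) F) + b • κ)
    (hsq : κ * κ = T • κ - D • (1 : Matrix (Fin m ⊕ Fin m) (Fin m ⊕ Fin m) F))
    (hadj' : ∀ u v : Fin m ⊕ Fin m → F, Cfsg.sympForm m F (κ *ᵥ u) v = Cfsg.sympForm m F u (κ' *ᵥ v))
    (hnsa : ¬ Cfsg.Geo.IsSelfAdjointFor (Cfsg.sympForm m F) K) :
    ∀ u v : Fin m ⊕ Fin m → F, Cfsg.sympForm m F (κ *ᵥ u) v =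
      T * Cfsg.sympForm m F u v - Cfsg.sympForm m F u (κ *ᵥ v) := by
  -- `κ'² = T κ' - D`
  have hsq' : κ' * κ' = T • κ' - D • (1 : Matrix (Fin m ⊕ Fin m) (Fin m ⊕ Fin m) F) := by
    apply spusetup_mat_ext
    intro u v
    have e1 : Cfsg.sympForm m F u ((κ' * κ') *ᵥ v) = Cfsg.sympForm m F ((κ * κ) *ᵥ u) v := by
      rw [← Matrix.mulVec_mulVec, ← Matrix.mulVec_mulVec, hadj', hadj']
    rw [e1, hsq, Matrix.sub_mulVec, Matrix.smul_mulVec, Matrix.smul_mulVec, Matrix.one_mulVec,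
      Matrix.sub_mulVec, Matrix.smul_mulVec, Matrix.smul_mulVec, Matrix.one_mulVec,
      sympForm_sub_left, sympForm_smul_left, sympForm_smul_left, sympForm_sub_right,
      sympForm_smul_right, sympForm_smul_right, hadj']
  have hcomm : κ' * κ = κ * κ' := hK.comm κ' hκ'K κ hκK
  set A : Matrix (Fin m ⊕ Fin m) (Fin m ⊕ Fin m) F := κ' - κ with hA
  set B : Matrix (Fin m ⊕ Fin m) (Fin m ⊕ Fin m) F :=
    κ' - (T • (1 : Matrix (Fin m ⊕ Fin m) (Fin m ⊕ Fin m) F) - κ) with hB
  have hAK : A ∈ K := K.sub_mem hκ'K hκK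
  have hBK : B ∈ K := K.sub_mem hκ'K (K.sub_mem (K.smul_mem K.one_mem T) hκK)
  have hAB : A * B = 0 := by
    rw [hA, hB, Matrix.sub_mul, Matrix.mul_sub, Matrix.mul_sub, Matrix.mul_sub, Matrix.mul_sub,
      hsq', hcomm, hsq]
    simp only [Matrix.mul_smul, Matrix.mul_one]
    abel
  by_cases hA0 : A = 0
  · -- `κ' = κ` : `K` self-adjoint
    exfalso
    apply hnsa
    have hκκ' : κ' = κ := sub_eq_zero.mp hA0
    intro k hk u v
    obtain ⟨a, b, rfl⟩ := (hspan k).mp hk
    rw [Matrix.add_mulVec, Matrix.smul_mulVec, Matrix.smul_mulVec, Matrix.one_mulVec,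
      Matrix.add_mulVec, Matrix.smul_mulVec, Matrix.smul_mulVec, Matrix.one_mulVec,
      sympForm_add_left, sympForm_smul_left, sympForm_smul_left, sympForm_add_right,
      sympForm_smul_right, sympForm_smul_right, hadj', hκκ']
  · obtain ⟨y, hyK, hy⟩ := hK.inv A hAK hA0
    have hB0 : B = 0 := by
      calc B = (y * A) * B := by rw [← hK.comm A hAK y hyK, hy, Matrix.one_mul]
        _ = y * (A * B) := Matrix.mul_assoc _ _ _
        _ = 0 := by rw [hAB, Matrix.mul_zero]
    have hκ' : κ' = T • (1 : Matrix (Fin m ⊕ Fin m) (Fin m ⊕ Fin m) F) - κ := sub_eq_zero.mp hB0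
    intro u v
    rw [hadj', hκ', Matrix.sub_mulVec, Matrix.smul_mulVec, Matrix.one_mulVec, sympForm_sub_right,
      sympForm_smul_right]

/-- one direction of the normaliser criterion: `g j = ε j g`, `ε² = 1` ⇒ `g` normalises `K = {a + b j}` -/
theorem spusetup_norm_of {ι : Type} [Fintype ι] [DecidableEq ι] (K : Subalgebra F (Matrix ι ι F))
    (j : Matrix ι ι F)
    (hspan : ∀ M : Matrix ι ι F, M ∈ K ↔ ∃ a b : F, M = a • (1 : Matrix ι ι F) + b • j)
    (g : Matrix.GeneralLinearGroup ι F) (ε : F) (hε : ε * ε = 1)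
    (hg : (g : Matrix ι ι F) * j = ε • (j * (g : Matrix ι ι F))) :
    g ∈ Cfsg.Geo.subalgebraNormalizer K := by
  have hGGi : (g : Matrix ι ι F) * ((g⁻¹ : Matrix.GeneralLinearGroup ι F) : Matrix ι ι F) = 1 :=
    Units.mul_inv g
  have hGiG : ((g⁻¹ : Matrix.GeneralLinearGroup ι F) : Matrix ι ι F) * (g : Matrix ι ι F) = 1 :=
    Units.inv_mul g
  -- `G j Gi = ε j`
  have h1 : (g : Matrix ι ι F) * j * ((g⁻¹ : Matrix.GeneralLinearGroup ι F) : Matrix ι ι F) = ε • j := by
    rw [hg, Matrix.smul_mul, Matrix.mul_assoc, hGGi, Matrix.mul_one]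
  -- `Gi j G = ε j`
  have h2 : ((g⁻¹ : Matrix.GeneralLinearGroup ι F) : Matrix ι ι F) * j * (g : Matrix ι ι F) = ε • j := by
    have : ((g⁻¹ : Matrix.GeneralLinearGroup ι F) : Matrix ι ι F) * ((g : Matrix ι ι F) * j) = j := by
      rw [← Matrix.mul_assoc, hGiG, Matrix.one_mul]
    rw [hg, Matrix.mul_smul, ← Matrix.mul_assoc] at this
    calc ((g⁻¹ : Matrix.GeneralLinearGroup ι F) : Matrix ι ι F) * j * (g : Matrix ι ι F)
        = (ε * ε) • (((g⁻¹ : Matrix.GeneralLinearGroup ι F) : Matrix ι ι F) * j * (g : Matrix ι ι F)) := by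
          rw [hε, one_smul]
      _ = ε • j := by rw [mul_smul, this]
  show ∀ k : Matrix ι ι F, k ∈ K ↔
    (g : Matrix ι ι F) * k * ((g⁻¹ : Matrix.GeneralLinearGroup ι F) : Matrix ι ι F) ∈ K
  intro k
  constructor
  · intro hk
    obtain ⟨a, b, rfl⟩ := (hspan k).mp hk
    rw [hspan]
    refine ⟨a, b * ε, ?_⟩
    rw [Matrix.mul_add, Matrix.add_mul, Matrix.mul_smul, Matrix.mul_smul, Matrix.smul_mul,
      Matrix.smul_mul, Matrix.mul_one, hGGi, h1, smul_smul]
  · intro hk
    obtain ⟨a, b, hab⟩ := (hspan _).mp hk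
    rw [hspan]
    refine ⟨a, b * ε, ?_⟩
    calc k = ((g⁻¹ : Matrix.GeneralLinearGroup ι F) : Matrix ι ι F) *
          ((g : Matrix ι ι F) * k * ((g⁻¹ : Matrix.GeneralLinearGroup ι F) : Matrix ι ι F)) *
          (g : Matrix ι ι F) := by
          rw [Matrix.mul_assoc, Matrix.mul_assoc, hGiG, Matrix.mul_one, ← Matrix.mul_assoc, hGiG,
            Matrix.one_mul]
      _ = a • (1 : Matrix ι ι F) + (b * ε) • j := by
          rw [hab, Matrix.mul_add, Matrix.add_mul, Matrix.mul_smul, Matrix.mul_smul,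
            Matrix.smul_mul, Matrix.smul_mul, Matrix.mul_one, hGiG, h2, smul_smul]

/-- the normaliser of `K = {a + b j}` (`j² = c0` a non-square, `2 ≠ 0`) is `{g : g j = ± j g}` -/
theorem spusetup_norm {ι : Type} [Fintype ι] [DecidableEq ι] (K : Subalgebra F (Matrix ι ι F))
    (j : Matrix ι ι F) (c0 : F) (h2 : (2 : F) ≠ 0)
    (hspan : ∀ M : Matrix ι ι F, M ∈ K ↔ ∃ a b : F, M = a • (1 : Matrix ι ι F) + b • j)
    (hsq : j * j = c0 • (1 : Matrix ι ι F)) (hnsq : ∀ x : F, x * x ≠ c0)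
    (h1 : (1 : Matrix ι ι F) ≠ 0) (g : Matrix.GeneralLinearGroup ι F) :
    g ∈ Cfsg.Geo.subalgebraNormalizer K ↔
      ((g : Matrix ι ι F) * j = j * (g : Matrix ι ι F) ∨
       (g : Matrix ι ι F) * j = -(j * (g : Matrix ι ι F))) := by
  have hGGi : (g : Matrix ι ι F) * ((g⁻¹ : Matrix.GeneralLinearGroup ι F) : Matrix ι ι F) = 1 :=
    Units.mul_inv g
  have hGiG : ((g⁻¹ : Matrix.GeneralLinearGroup ι F) : Matrix ι ι F) * (g : Matrix ι ι F) = 1 :=
    Units.inv_mul g
  have hc0 : c0 ≠ 0 := fun h => hnsq 0 (by rw [h, mul_zero])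
  -- `1, j` independent
  have hind : ∀ a b : F, a • (1 : Matrix ι ι F) + b • j = 0 → a = 0 ∧ b = 0 := by
    intro a b hab
    have hb : b = 0 := by
      by_contra hb
      have hj : j = (-(b⁻¹ * a)) • (1 : Matrix ι ι F) := by
        have : b • j = -(a • (1 : Matrix ι ι F)) := eq_neg_of_add_eq_zero_right hab
        calc j = b⁻¹ • (b • j) := by rw [smul_smul, inv_mul_cancel₀ hb, one_smul]
          _ = -(b⁻¹ * a) • (1 : Matrix ι ι F) := by
              rw [this, smul_neg, smul_smul, neg_smul]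
      have e : j * j = ((-(b⁻¹ * a)) * (-(b⁻¹ * a))) • (1 : Matrix ι ι F) := by
        rw [hj, Matrix.smul_mul, Matrix.mul_smul, Matrix.one_mul, smul_smul]
      rw [hsq] at e
      have e2 : (c0 - (-(b⁻¹ * a)) * (-(b⁻¹ * a))) • (1 : Matrix ι ι F) = 0 := by
        rw [sub_smul, ← e, sub_self]
      rcases smul_eq_zero.mp e2 with h | h
      · exact hnsq _ (sub_eq_zero.mp h).symm
      · exact h1 h
    refine ⟨?_, hb⟩
    rw [hb, zero_smul, add_zero] at hab
    rcases smul_eq_zero.mp hab with h | h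
    · exact h
    · exact absurd h h1
  constructor
  · intro hg
    have hg' : ∀ k : Matrix ι ι F, k ∈ K ↔
      (g : Matrix ι ι F) * k * ((g⁻¹ : Matrix.GeneralLinearGroup ι F) : Matrix ι ι F) ∈ K := hg
    have hjK : j ∈ K := (hspan j).mpr ⟨0, 1, by rw [zero_smul, zero_add, one_smul]⟩
    obtain ⟨a, b, hab⟩ := (hspan _).mp ((hg' j).mp hjK)
    -- square
    have hs2 : ((g : Matrix ι ι F) * j * ((g⁻¹ : Matrix.GeneralLinearGroup ι F) : Matrix ι ι F)) *
        ((g : Matrix ι ι F) * j * ((g⁻¹ : Matrix.GeneralLinearGroup ι F) : Matrix ι ι F)) =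
        c0 • (1 : Matrix ι ι F) := by
      calc ((g : Matrix ι ι F) * j * ((g⁻¹ : Matrix.GeneralLinearGroup ι F) : Matrix ι ι F)) *
          ((g : Matrix ι ι F) * j * ((g⁻¹ : Matrix.GeneralLinearGroup ι F) : Matrix ι ι F))
          = (g : Matrix ι ι F) * j *
            (((g⁻¹ : Matrix.GeneralLinearGroup ι F) : Matrix ι ι F) * (g : Matrix ι ι F)) * j *
            ((g⁻¹ : Matrix.GeneralLinearGroup ι F) : Matrix ι ι F) := by
            simp only [Matrix.mul_assoc]
        _ = (g : Matrix ι ι F) * (j * j) * ((g⁻¹ : Matrix.GeneralLinearGroup ι F) : Matrix ι ι F) := by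
            rw [hGiG, Matrix.mul_one, Matrix.mul_assoc (g : Matrix ι ι F) j j]
        _ = c0 • (1 : Matrix ι ι F) := by
            rw [hsq, Matrix.mul_smul, Matrix.mul_one, Matrix.smul_mul, hGGi]
    have hs3 : (a • (1 : Matrix ι ι F) + b • j) * (a • (1 : Matrix ι ι F) + b • j) =
        (a * a + b * b * c0) • (1 : Matrix ι ι F) + (2 * a * b) • j := by
      simp only [Matrix.add_mul, Matrix.mul_add, Matrix.smul_mul, Matrix.mul_smul, Matrix.one_mul,
        Matrix.mul_one, hsq, smul_smul]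
      module
    rw [hab, hs3] at hs2
    have hs4 : (a * a + b * b * c0 - c0) • (1 : Matrix ι ι F) + (2 * a * b) • j = 0 := by
      rw [sub_smul, ← hs2]
      abel
    obtain ⟨e1, e2⟩ := hind _ _ hs4
    have hab0 : a * b = 0 := by
      rcases mul_eq_zero.mp e2 with h | h
      · rcases mul_eq_zero.mp h with h' | h'
        · exact absurd h' h2
        · rw [h', zero_mul]
      · rw [h, mul_zero]
    have hb0 : b ≠ 0 := by
      intro hb
      rw [hb] at e1
      exact hnsq a (by linear_combination e1)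
    have ha0 : a = 0 := by
      rcases mul_eq_zero.mp hab0 with h | h
      · exact h
      · exact absurd h hb0
    have hbb : b * b = 1 := by
      rw [ha0] at e1
      have : (b * b - 1) * c0 = 0 := by linear_combination e1
      rcases mul_eq_zero.mp this with h | h
      · exact sub_eq_zero.mp h
      · exact absurd h hc0
    have hb1 : b = 1 ∨ b = -1 := by
      have : (b - 1) * (b + 1) = 0 := by linear_combination hbb
      rcases mul_eq_zero.mp this with h | h
      · left; exact sub_eq_zero.mp h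
      · right; exact eq_neg_of_add_eq_zero_left h
    have hGj : (g : Matrix ι ι F) * j = b • (j * (g : Matrix ι ι F)) := by
      calc (g : Matrix ι ι F) * j
          = ((g : Matrix ι ι F) * j * ((g⁻¹ : Matrix.GeneralLinearGroup ι F) : Matrix ι ι F)) *
            (g : Matrix ι ι F) := by
            rw [Matrix.mul_assoc, hGiG, Matrix.mul_one]
        _ = b • (j * (g : Matrix ι ι F)) := by
            rw [hab, ha0, zero_smul, zero_add, Matrix.smul_mul]
    rcases hb1 with h | h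
    · left
      rw [hGj, h, one_smul]
    · right
      rw [hGj, h, neg_smul, one_smul]
  · rintro (h | h)
    · exact spusetup_norm_of K j hspan g 1 (by ring) (by rw [h, one_smul])
    · exact spusetup_norm_of K j hspan g (-1) (by ring) (by rw [h, neg_smul, one_smul])

/-- SETUP [M-L] : the data `j, c0` from the statement's hypotheses, and `N(K) = {g : g j g⁻¹ = ± j}`. -/
theorem setup [Fintype F] (hodd : Odd (Fintype.card F))
    (K : Subalgebra F (Matrix (Fin m ⊕ Fin m) (Fin m ⊕ Fin m) F))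
    (hK : Cfsg.Geo.IsFieldSubalgebra 2 K)
    (hac : Cfsg.Geo.IsAdjointClosedFor (Cfsg.sympForm m F) K)
    (hnsa : ¬ Cfsg.Geo.IsSelfAdjointFor (Cfsg.sympForm m F) K) :
    ∃ (j : Matrix (Fin m ⊕ Fin m) (Fin m ⊕ Fin m) F) (c0 : F), JS j c0 ∧
      ∀ g : Matrix.GeneralLinearGroup (Fin m ⊕ Fin m) F,
        g ∈ Cfsg.Geo.subalgebraNormalizer K ↔
          ((g : Matrix (Fin m ⊕ Fin m) (Fin m ⊕ Fin m) F) * j = j * (g : Matrix (Fin m ⊕ Fin m) (Fin m ⊕ Fin m) F) ∨
           (g : Matrix (Fin m ⊕ Fin m) (Fin m ⊕ Fin m) F) * j = -(j * (g : Matrix (Fin m ⊕ Fin m) (Fin m ⊕ Fin m) F))) := by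
  have h2 : (2 : F) ≠ 0 := Cfsg.Agent.S0292.two_ne_zero_of_odd rfl hodd
  obtain ⟨κ, T, D, hκK, hspan, hsq, hirr, hns⟩ := spusetup_gen K hK
  obtain ⟨κ', hκ'K, hadj'⟩ := hac κ hκK
  have hadj := spusetup_adj K hK hκK hκ'K hspan hsq hadj' hnsa
  have h1ne : (1 : Matrix (Fin m ⊕ Fin m) (Fin m ⊕ Fin m) F) ≠ 0 := by
    intro h
    exact hns 0 (by rw [zero_smul, ← Matrix.mul_one κ, h, Matrix.mul_zero])
  set j : Matrix (Fin m ⊕ Fin m) (Fin m ⊕ Fin m) F :=
    (2 : F) • κ - T • (1 : Matrix (Fin m ⊕ Fin m) (Fin m ⊕ Fin m) F) with hj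
  have hjsq : j * j = (T * T - 4 * D) • (1 : Matrix (Fin m ⊕ Fin m) (Fin m ⊕ Fin m) F) := by
    rw [hj]
    simp only [Matrix.sub_mul, Matrix.mul_sub, Matrix.smul_mul, Matrix.mul_smul, Matrix.one_mul,
      Matrix.mul_one, hsq, smul_smul]
    module
  have hnsq : ∀ x : F, x * x ≠ T * T - 4 * D := by
    intro x hx
    apply hirr ((T + x) / 2)
    field_simp
    linear_combination hx
  have hjadj : ∀ u v : Fin m ⊕ Fin m → F,
      Cfsg.sympForm m F (j *ᵥ u) v = - Cfsg.sympForm m F u (j *ᵥ v) := by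
    intro u v
    rw [hj, Matrix.sub_mulVec, Matrix.smul_mulVec, Matrix.smul_mulVec, Matrix.one_mulVec,
      Matrix.sub_mulVec, Matrix.smul_mulVec, Matrix.smul_mulVec, Matrix.one_mulVec,
      sympForm_sub_left, sympForm_smul_left, sympForm_smul_left, sympForm_sub_right,
      sympForm_smul_right, sympForm_smul_right, hadj]
    ring
  have hspanj : ∀ M : Matrix (Fin m ⊕ Fin m) (Fin m ⊕ Fin m) F, M ∈ K ↔
      ∃ a b : F, M = a • (1 : Matrix (Fin m ⊕ Fin m) (Fin m ⊕ Fin m) F) + b • j := by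
    intro M
    rw [hspan]
    constructor
    · rintro ⟨a, b, rfl⟩
      refine ⟨a + b * T / 2, b / 2, ?_⟩
      rw [hj, smul_sub, smul_smul, smul_smul, div_mul_cancel₀ b h2, add_smul]
      have : b * T / 2 = b / 2 * T := by ring
      rw [this]
      abel
    · rintro ⟨a, b, rfl⟩
      refine ⟨a - b * T, b * 2, ?_⟩
      rw [hj, smul_sub, smul_smul, smul_smul, sub_smul]
      abel
  exact ⟨j, T * T - 4 * D, ⟨h2, hjsq, hnsq, hjadj⟩,
    fun g => spusetup_norm K j (T * T - 4 * D) h2 hspanj hjsq hnsq h1ne g⟩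

end Cfsg.Agent.Lib.Lead.SPU
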