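import Mathlib
import Cfsg.Prelude.Def_GeometricClasses
import Cfsg.Agent.Lib.Lead.SPU.Defs

set_option autoImplicit false
set_option linter.unusedVariables false
set_option linter.unusedSectionVars false

/-!
# Project SPU (leader: lead) -> S5665 : piece STEP1A (helper20).

`step1a` VERBATIM; extras `spustep1a_*` (own copy of the unitary transvection, so that the piece only depends on `Defs`).
-/

namespace Cfsg.Agent.Lib.Lead.SPU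

open Matrix Cfsg.Agent.Lib.helper6 Cfsg.Agent.S5646 Cfsg.Agent.S5647 Cfsg.Agent.Lib.Helper28.SpPair

variable {m : ℕ} {F : Type*} [Field F] {j j1 : Matrix (Fin m ⊕ Fin m) (Fin m ⊕ Fin m) F} {c0 : F}
  {M : Subgroup (Matrix.GeneralLinearGroup (Fin m ⊕ Fin m) F)}

theorem spustep1a_c0_ne (hJ : JS j c0) : c0 ≠ 0 := by
  intro h
  exact hJ.nsq 0 (by rw [h, mul_zero])

theorem spustep1a_jj (hJ : JS j c0) (x : Fin m ⊕ Fin m → F) : j *ᵥ (j *ᵥ x) = c0 • x := by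
  rw [Matrix.mulVec_mulVec, hJ.sq, Matrix.smul_mulVec, Matrix.one_mulVec]

theorem spustep1a_fjj (hJ : JS j c0) (x y : Fin m ⊕ Fin m → F) :
    Cfsg.sympForm m F (j *ᵥ x) (j *ᵥ y) = - (c0 * Cfsg.sympForm m F x y) := by
  rw [hJ.adj, spustep1a_jj hJ, sympForm_smul_right]

/-- own copy of the unitary transvection `τ_{v,a} = t_v(a) t_{jv}(-a/c0)` in `C_Sp(j)`. -/
theorem spustep1a_utv (hJ : JS j c0) (v : Fin m ⊕ Fin m → F) (hv : Qj j v = 0) (a : F) :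
    ∃ g : Matrix.GeneralLinearGroup (Fin m ⊕ Fin m) F, InC j g ∧
      ∀ x, (g : Matrix (Fin m ⊕ Fin m) (Fin m ⊕ Fin m) F) *ᵥ x = tauAct j c0 a v x := by
  obtain ⟨t1, ht1, ht1S⟩ := tsGL v a
  obtain ⟨t2, ht2, ht2S⟩ := tsGL (j *ᵥ v) (-(a / c0))
  have hc0 := spustep1a_c0_ne hJ
  have hvjv : Cfsg.sympForm m F v (j *ᵥ v) = 0 := hv
  have hjvv : Cfsg.sympForm m F (j *ᵥ v) v = 0 := sf_zero_swap hvjv
  have hact : ∀ x, ((t1 * t2 : Matrix.GeneralLinearGroup (Fin m ⊕ Fin m) F) :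
      Matrix (Fin m ⊕ Fin m) (Fin m ⊕ Fin m) F) *ᵥ x = tauAct j c0 a v x := by
    intro x
    rw [Units.val_mul, ← Matrix.mulVec_mulVec, ts_apply t2 _ _ ht2, ts_apply t1 _ _ ht1]
    unfold tauAct
    simp only [sympForm_add_left, sympForm_smul_left, hjvv]
    module
  refine ⟨t1 * t2, ⟨(Cfsg.spGL m F).mul_mem ht1S ht2S, ?_⟩, hact⟩
  rw [Matrix.ext_iff_mulVec]
  intro x
  rw [← Matrix.mulVec_mulVec, ← Matrix.mulVec_mulVec, hact, hact]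
  unfold tauAct
  simp only [Matrix.mulVec_add, Matrix.mulVec_sub, Matrix.mulVec_smul, spustep1a_jj hJ,
    spustep1a_fjj hJ, hJ.adj x v]
  have hd : a / c0 * c0 = a := by field_simp
  rw [show (a / c0) • (-(c0 * Cfsg.sympForm m F x v)) • j *ᵥ v
      = -((a / c0 * c0) • Cfsg.sympForm m F x v • j *ᵥ v) by module,
    show (a / c0) • Cfsg.sympForm m F x (j *ᵥ v) • c0 • v
      = (a / c0 * c0) • Cfsg.sympForm m F x (j *ᵥ v) • v by module, hd]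
  module

/-- the core computation, with `utv_ex` and `c0 ≠ 0` as hypotheses -/
theorem spustep1a_core (h2 : (2 : F) ≠ 0) (hc0 : c0 ≠ 0)
    (p : Fin m ⊕ Fin m → F)
    (hutv : ∀ a : F, ∃ g : Matrix.GeneralLinearGroup (Fin m ⊕ Fin m) F, InC j1 g ∧
      ∀ x, (g : Matrix (Fin m ⊕ Fin m) (Fin m ⊕ Fin m) F) *ᵥ x = tauAct j1 c0 a p x)
    (hM : M ≤ Cfsg.spGL m F) (hC1 : ∀ g, InC j1 g → g ∈ M)
    (hp1 : Qj j1 p = 0)
    (y1 : Matrix.GeneralLinearGroup (Fin m ⊕ Fin m) F) (hy : y1 ∈ M)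
    (hyp : (y1 : Matrix (Fin m ⊕ Fin m) (Fin m ⊕ Fin m) F) *ᵥ p = p)
    (hperp : Cfsg.sympForm m F (j1 *ᵥ p)
      ((y1 : Matrix (Fin m ⊕ Fin m) (Fin m ⊕ Fin m) F) *ᵥ (j1 *ᵥ p)) = 0) :
    SR M (j1 *ᵥ p - (y1 : Matrix (Fin m ⊕ Fin m) (Fin m ⊕ Fin m) F) *ᵥ (j1 *ᵥ p))
      (j1 *ᵥ p + (y1 : Matrix (Fin m ⊕ Fin m) (Fin m ⊕ Fin m) F) *ᵥ (j1 *ᵥ p)) := by
  intro t B hB
  obtain ⟨E, hEC, hE⟩ := hutv (-(2 * c0 * t))
  obtain ⟨E', hEC', hE'⟩ := hutv (2 * c0 * t)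
  have hEM : E ∈ M := hC1 E hEC
  have hEM' : E' ∈ M := hC1 E' hEC'
  have hiso := (mem_spGL_iff y1).mp (hM hy)
  have e1 : ∀ x y, Cfsg.sympForm m F (((y1⁻¹ : Matrix.GeneralLinearGroup (Fin m ⊕ Fin m) F) :
      Matrix (Fin m ⊕ Fin m) (Fin m ⊕ Fin m) F) *ᵥ x) y =
      Cfsg.sympForm m F x ((y1 : Matrix (Fin m ⊕ Fin m) (Fin m ⊕ Fin m) F) *ᵥ y) := by
    intro x y
    have := hiso (((y1⁻¹ : Matrix.GeneralLinearGroup (Fin m ⊕ Fin m) F) :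
      Matrix (Fin m ⊕ Fin m) (Fin m ⊕ Fin m) F) *ᵥ x) y
    rw [gl_cancel'] at this
    exact this.symm
  have hpq : Cfsg.sympForm m F p (j1 *ᵥ p) = 0 := hp1
  have hqp : Cfsg.sympForm m F (j1 *ᵥ p) p = 0 := sf_zero_swap hpq
  -- f (y1 q, p) = f (y1 q, y1 p) = f (q, p) = 0
  have hq'p : Cfsg.sympForm m F
      ((y1 : Matrix (Fin m ⊕ Fin m) (Fin m ⊕ Fin m) F) *ᵥ (j1 *ᵥ p)) p = 0 := by
    have := hiso (j1 *ᵥ p) p
    rw [hyp] at this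
    rw [this, hqp]
  have hq'q : Cfsg.sympForm m F
      ((y1 : Matrix (Fin m ⊕ Fin m) (Fin m ⊕ Fin m) F) *ᵥ (j1 *ᵥ p)) (j1 *ᵥ p) = 0 :=
    sf_zero_swap hperp
  have : B = E * (y1 * E' * y1⁻¹) := by
    apply glx
    intro x
    rw [hB, Units.val_mul, Units.val_mul, Units.val_mul, ← Matrix.mulVec_mulVec,
      ← Matrix.mulVec_mulVec, ← Matrix.mulVec_mulVec, hE', hE]
    unfold tauAct srAct
    simp only [Matrix.mulVec_add, Matrix.mulVec_sub, Matrix.mulVec_smul, gl_cancel', hyp, e1,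
      sympForm_add_left, sympForm_sub_left, sympForm_smul_left, sympForm_add_right,
      sympForm_sub_right, sympForm_self, hpq, hq'p, hq'q]
    have hd : (2 * c0 * t) / c0 = 2 * t := by field_simp
    have hd' : (-(2 * c0 * t)) / c0 = -(2 * t) := by field_simp
    rw [hd, hd']
    module
  rw [this]
  exact M.mul_mem hEM (M.mul_mem (M.mul_mem hy hEM') (M.inv_mem hy))

/-- STEP1A [M] : the computation.  `q := j1 p`, `E_a` acts as `tauAct j1 c0 a p`, `E_a ∈ M`;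
`E_a * (y1 * E_a * y1⁻¹)⁻¹` acts as `srAct (-a/(2 c0)) (q - y1 q) (q + y1 q)`. -/
theorem step1a (hJ1 : JS j1 c0) (hM : M ≤ Cfsg.spGL m F) (hC1 : ∀ g, InC j1 g → g ∈ M)
    (p : Fin m ⊕ Fin m → F) (hp1 : Qj j1 p = 0)
    (y1 : Matrix.GeneralLinearGroup (Fin m ⊕ Fin m) F) (hy : y1 ∈ M)
    (hyp : (y1 : Matrix (Fin m ⊕ Fin m) (Fin m ⊕ Fin m) F) *ᵥ p = p)
    (hperp : Cfsg.sympForm m F (j1 *ᵥ p)
      ((y1 : Matrix (Fin m ⊕ Fin m) (Fin m ⊕ Fin m) F) *ᵥ (j1 *ᵥ p)) = 0) :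
    SR M (j1 *ᵥ p - (y1 : Matrix (Fin m ⊕ Fin m) (Fin m ⊕ Fin m) F) *ᵥ (j1 *ᵥ p))
      (j1 *ᵥ p + (y1 : Matrix (Fin m ⊕ Fin m) (Fin m ⊕ Fin m) F) *ᵥ (j1 *ᵥ p)) :=
  spustep1a_core hJ1.two (spustep1a_c0_ne hJ1) p (fun a => spustep1a_utv hJ1 p hp1 a)
    hM hC1 hp1 y1 hy hyp hperp

end Cfsg.Agent.Lib.Lead.SPU
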