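import Mathlib
import Cfsg.Prelude.Def_GeometricClasses
import Cfsg.Agent.Lib.Helper27.ASC.Defs
import Cfsg.Agent.Lib.helper6.Symp
import Cfsg.Agent.S5646

/-!
# Project SPX, piece PR3 : `Sp_2m`, `m ≥ 2`, normalises no proper extension field (verbatim)
-/

set_option autoImplicit false
set_option linter.unusedVariables false
set_option linter.unusedSectionVars false

namespace Cfsg.Agent.Lib.helper6.SPX

open Cfsg Cfsg.Geo Cfsg.Agent.Lib.Helper27.ASC
open scoped MatrixGroups Matrix Kronecker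

variable {m : ℕ} {F : Type*} [Field F] [Fintype F]

omit [Fintype F] in
/-- a matrix all of whose vectors are eigenvectors is a scalar (any finite index type) -/
theorem spxpr3_scalar_of_eigen {ι : Type*} [Fintype ι] [DecidableEq ι] (a : Matrix ι ι F)
    (h : ∀ u : ι → F, ∃ l : F, a *ᵥ u = l • u) : ∃ α : F, a = α • (1 : Matrix ι ι F) := by
  classical
  have hcol : ∀ i j, i ≠ j → a i j = 0 := by
    intro i j hij
    obtain ⟨l, hl⟩ := h (Pi.single j 1)
    have := congrFun hl i
    rw [Matrix.mulVec_single_one] at this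
    simpa [Pi.single_apply, hij] using this
  have hdiag : ∀ i j, a i i = a j j := by
    intro i j
    by_cases hij : i = j
    · rw [hij]
    obtain ⟨l, hl⟩ := h (Pi.single i 1 + Pi.single j 1)
    have h1 := congrFun hl i
    have h2 := congrFun hl j
    rw [Matrix.mulVec_add, Matrix.mulVec_single_one, Matrix.mulVec_single_one] at h1 h2
    simp only [Pi.add_apply, Matrix.col_apply, Pi.smul_apply, smul_eq_mul, Pi.single_apply] at h1 h2
    rw [hcol i j hij] at h1
    rw [hcol j i (Ne.symm hij)] at h2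
    simp [hij, Ne.symm hij] at h1 h2
    rw [h1, h2]
  rcases isEmpty_or_nonempty ι with he | ⟨⟨i₀⟩⟩
  · refine ⟨0, ?_⟩
    ext i j
    exact (he.false i).elim
  · refine ⟨a i₀ i₀, ?_⟩
    ext i j
    simp only [Matrix.smul_apply, Matrix.one_apply, smul_eq_mul]
    by_cases hij : i = j
    · subst hij
      simp [hdiag i i₀]
    · simp [hij, hcol i j hij]

omit [Fintype F] in
/-- `T k - k T`, `T` a symplectic transvection, kills a non-zero vector when `2 m ≥ 3` -/
theorem spxpr3_det_zero (hm : 2 ≤ m) (v : Fin m ⊕ Fin m → F) (k : Matrix (Fin m ⊕ Fin m) (Fin m ⊕ Fin m) F) :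
    (sympTransvection m v (1 : F) * k - k * sympTransvection m v (1 : F)).det = 0 := by
  classical
  rw [← Matrix.exists_mulVec_eq_zero_iff]
  let f : ((Fin m ⊕ Fin m) → F) →ₗ[F] (Fin 2 → F) :=
    { toFun := fun w => ![sympForm m F w v, sympForm m F (k *ᵥ w) v]
      map_add' := by
        intro w w'
        ext s
        fin_cases s <;> simp [Matrix.mulVec_add, Cfsg.Agent.Lib.helper6.sympForm_add_left]
      map_smul' := by
        intro c w
        ext s
        fin_cases s <;> simp [Matrix.mulVec_smul, Cfsg.Agent.Lib.helper6.sympForm_smul_left] }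
  have hker : LinearMap.ker f ≠ ⊥ := by
    apply LinearMap.ker_ne_bot_of_finrank_lt
    simp only [Module.finrank_fintype_fun_eq_card, Fintype.card_fin, Fintype.card_sum]
    omega
  obtain ⟨w, hw, hw0⟩ := (Submodule.ne_bot_iff _).mp hker
  refine ⟨w, hw0, ?_⟩
  have hfw : f w = 0 := hw
  have h1 : sympForm m F w v = 0 := by
    have := congrFun hfw 0
    simpa [f] using this
  have h2 : sympForm m F (k *ᵥ w) v = 0 := by
    have := congrFun hfw 1
    simpa [f] using this
  rw [Matrix.sub_mulVec, ← Matrix.mulVec_mulVec, ← Matrix.mulVec_mulVec,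
    Cfsg.Agent.Lib.helper6.sympTransvection_mulVec, Cfsg.Agent.Lib.helper6.sympTransvection_mulVec, h1, h2]
  simp

/-- an element of a field subalgebra normalised by `Sp` commutes with every symplectic transvection -/
theorem spxpr3_commute (hm : 2 ≤ m) {r : ℕ} (K : Subalgebra F (Matrix (Fin m ⊕ Fin m) (Fin m ⊕ Fin m) F))
    (hK : IsFieldSubalgebra r K) (hSp : spGL m F ≤ subalgebraNormalizer K)
    (k : Matrix (Fin m ⊕ Fin m) (Fin m ⊕ Fin m) F) (hk : k ∈ K) (v : Fin m ⊕ Fin m → F) :
    sympTransvection m v (1 : F) * k = k * sympTransvection m v (1 : F) := by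
  classical
  by_contra hne
  obtain ⟨t, ht, htSp⟩ := Cfsg.Agent.S5646.tsGL v (1 : F)
  have htN := hSp htSp
  have hmem : (t : Matrix (Fin m ⊕ Fin m) (Fin m ⊕ Fin m) F) * k *
      ((t⁻¹ : GL (Fin m ⊕ Fin m) F) : Matrix (Fin m ⊕ Fin m) (Fin m ⊕ Fin m) F) ∈ K := (htN k).1 hk
  set δ : Matrix (Fin m ⊕ Fin m) (Fin m ⊕ Fin m) F :=
    (t : Matrix (Fin m ⊕ Fin m) (Fin m ⊕ Fin m) F) * k *
      ((t⁻¹ : GL (Fin m ⊕ Fin m) F) : Matrix (Fin m ⊕ Fin m) (Fin m ⊕ Fin m) F) - k with hδ
  have hδK : δ ∈ K := K.sub_mem hmem hk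
  have hinv : ((t⁻¹ : GL (Fin m ⊕ Fin m) F) : Matrix (Fin m ⊕ Fin m) (Fin m ⊕ Fin m) F) *
      (t : Matrix (Fin m ⊕ Fin m) (Fin m ⊕ Fin m) F) = 1 := by
    rw [← Units.val_mul, inv_mul_cancel, Units.val_one]
  have hδt : δ * (t : Matrix (Fin m ⊕ Fin m) (Fin m ⊕ Fin m) F) =
      sympTransvection m v (1 : F) * k - k * sympTransvection m v (1 : F) := by
    rw [hδ, sub_mul, mul_assoc, hinv, mul_one, ht]
  have hδ0 : δ ≠ 0 := by
    intro h0
    apply hne
    have : sympTransvection m v (1 : F) * k - k * sympTransvection m v (1 : F) = 0 := by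
      rw [← hδt, h0, zero_mul]
    exact sub_eq_zero.mp this
  obtain ⟨y, hyK, hy⟩ := hK.inv δ hδK hδ0
  have hdδ : δ.det ≠ 0 := by
    intro h0
    have := congrArg Matrix.det hy
    rw [Matrix.det_mul, h0, zero_mul, Matrix.det_one] at this
    exact zero_ne_one this
  have hdt : (t : Matrix (Fin m ⊕ Fin m) (Fin m ⊕ Fin m) F).det ≠ 0 := by
    intro h0
    have := congrArg Matrix.det hinv
    rw [Matrix.det_mul, h0, mul_zero, Matrix.det_one] at this
    exact zero_ne_one this
  have hz := spxpr3_det_zero hm v k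
  rw [← hδt, Matrix.det_mul] at hz
  exact (mul_ne_zero hdδ hdt) hz

/-- PR3 : `Sp_2m`, `m ≥ 2`, normalises no proper extension field.  (`t = 1 + N` a transvection, `k ∈ K`: `t k t⁻¹ - k ∈ K` has
rank at most 2 < 2m, but the non-zero elements of `K` are invertible: `k` commutes with all transvections, so `k` is scalar.) -/
theorem pr_sp_field (hm : 2 ≤ m) {r : ℕ} (hr : 2 ≤ r) (K : Subalgebra F (Matrix (Fin m ⊕ Fin m) (Fin m ⊕ Fin m) F))
    (hK : IsFieldSubalgebra r K) : ¬ spGL m F ≤ subalgebraNormalizer K := by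
  classical
  intro hSp
  have hKbot : K ≤ ⊥ := by
    intro k hk
    have heig : ∀ u : Fin m ⊕ Fin m → F, ∃ l : F, k *ᵥ u = l • u := by
      intro u
      by_cases hu : u = 0
      · exact ⟨0, by rw [hu, Matrix.mulVec_zero, smul_zero]⟩
      obtain ⟨x, hx⟩ := Cfsg.Agent.Lib.helper6.sympForm_nondeg m u hu
      have hx' : sympForm m F x u ≠ 0 := by
        rw [Cfsg.Agent.Lib.helper6.sympForm_swap]
        exact neg_ne_zero.mpr hx
      have hc := spxpr3_commute hm K hK hSp k hk u
      have h1 := congrArg (fun M => M *ᵥ x) hc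
      simp only [← Matrix.mulVec_mulVec, Cfsg.Agent.Lib.helper6.sympTransvection_mulVec, one_mul,
        Matrix.mulVec_add, Matrix.mulVec_smul] at h1
      have h2 : sympForm m F (k *ᵥ x) u • u = sympForm m F x u • (k *ᵥ u) := add_left_cancel h1
      refine ⟨(sympForm m F x u)⁻¹ * sympForm m F (k *ᵥ x) u, ?_⟩
      rw [← smul_smul, h2, smul_smul, inv_mul_cancel₀ hx', one_smul]
    obtain ⟨α, rfl⟩ := spxpr3_scalar_of_eigen k heig
    rw [Algebra.mem_bot]
    exact ⟨α, by rw [Algebra.algebraMap_eq_smul_one]⟩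
  have hKeq : K = ⊥ := le_bot_iff.mp hKbot
  haveI : Nonempty (Fin m ⊕ Fin m) := ⟨Sum.inl ⟨0, by omega⟩⟩
  have h1 : Module.finrank F K = 1 := by
    rw [hKeq]
    exact Subalgebra.finrank_bot
  rw [hK.finrank_eq] at h1
  omega

end Cfsg.Agent.Lib.helper6.SPX
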