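import Mathlib
import Cfsg.Prelude.Def_LieTypeChar
import Cfsg.Prelude.Def_ChevStructure
import Cfsg.Prelude.Def_ChevF4
import Cfsg.Prelude.Def_LieTwisted
import Cfsg.Agent.Lib.helper8.ChevTwU2
import Cfsg.Agent.Lib.helper8.ChevRee7
import Cfsg.Agent.Lib.helper14.SQD.Defs
import Cfsg.Agent.Lib.helper14.SQD.DefsTF

/-!
# Project SQD (designer helper14), block TF, rows TF6b `tfForm_cls` and TF6c `tfForm_cen`, cores (writer helper20)

`sqdtf6b_core`, `sqdtf6c_core`: the statements of TF6b, TF6c with the statement of TF4b (`conj_cls`, for the given `R`) as hypothesis.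
The root tables (`h8sW chevF4 (tfWd j) s` for `s = 27, 25, 28, 30`, positivity, order) are checked by `decide +kernel`.
-/

set_option autoImplicit false

namespace Cfsg.Agent.Lib.helper14.SQD

open Cfsg Cfsg.Lie Cfsg.Lie.ChevalleyDatum Cfsg.Agent.Lib.helper8

universe u v

/-- the root table for the four families `cls(t, 0)` -/
theorem sqdtf6b_tab : ∀ j < 8, 4 ≤ j →
    (∀ i ∈ tfWd j, i < chevF4.rank) ∧ h8sW chevF4 (tfWd j) 27 = tfLead j ∧
      chevF4.IsPosRoot (tfLead j) ∧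
      ∀ s ∈ [25, 28, 30], chevF4.IsPosRoot (h8sW chevF4 (tfWd j) s) ∧
        h8sW chevF4 (tfWd j) s ≠ tfLead j ∧ posiF4 (tfLead j) ≤ posiF4 (h8sW chevF4 (tfWd j) s) := by
  decide +kernel

/-- the root table for the four central families `cls(0, t)` -/
theorem sqdtf6c_tab : ∀ j < 12, 8 ≤ j →
    (∀ i ∈ tfWd (j - 4), i < chevF4.rank) ∧ h8sW chevF4 (tfWd (j - 4)) 28 = tfLead j ∧
      chevF4.IsPosRoot (tfLead j) ∧
      chevF4.IsPosRoot (h8sW chevF4 (tfWd (j - 4)) 30) ∧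
        h8sW chevF4 (tfWd (j - 4)) 30 ≠ tfLead j ∧
        posiF4 (tfLead j) ≤ posiF4 (h8sW chevF4 (tfWd (j - 4)) 30) := by
  decide +kernel

section

variable {K : Type u} [Field K] {hB : H8Base.{u} chevF4}

/-- a root element of a later root is a generator of `h8WkSet` -/
theorem sqdtf6_mem_Wk (k r : ℕ) (hr : chevF4.IsPosRoot r) (hne : r ≠ k) (hle : posiF4 k ≤ posiF4 r) (c : K) :
    h8xU chevF4 hB r c ∈ Subgroup.closure (h8WkSet chevF4 K posiF4 k) :=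
  Subgroup.subset_closure ⟨r, c, hr, hne, hle, h8xU_val chevF4 hB r c⟩

theorem sqdtf6b_core [CharP K 2] (R : H8TF K hB)
    (hTF4b : ∀ (w : List ℕ), (∀ i ∈ w, i < chevF4.rank) → ∀ (t v : K),
      (h8nWU chevF4 hB w : GL chevF4.Idx K) * h8tfCls R 27 25 28 30 t v *
          (h8nWU chevF4 hB w : GL chevF4.Idx K)⁻¹ =
        h8xU chevF4 hB (h8sW chevF4 w 27) (R.f t) * h8xU chevF4 hB (h8sW chevF4 w 25) t *
          h8xU chevF4 hB (h8sW chevF4 w 28) (R.f t * t + v) *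
          h8xU chevF4 hB (h8sW chevF4 w 30) ((R.f v) ^ 2)) :
    ∀ j, 4 ≤ j → j < 8 → TfForm R j := by
  intro j h4 h8 t
  obtain ⟨hw, h27, hlead, htab⟩ := sqdtf6b_tab j h8 h4
  obtain ⟨p25, n25, l25⟩ := htab 25 (by simp)
  obtain ⟨p28, n28, l28⟩ := htab 28 (by simp)
  obtain ⟨p30, n30, l30⟩ := htab 30 (by simp)
  have hgen : tfGen R j t = h8xU chevF4 hB (tfLead j) (R.f t) *
      (h8xU chevF4 hB (h8sW chevF4 (tfWd j) 25) t *
        h8xU chevF4 hB (h8sW chevF4 (tfWd j) 28) (R.f t * t + 0) *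
        h8xU chevF4 hB (h8sW chevF4 (tfWd j) 30) ((R.f 0) ^ 2)) := by
    unfold tfGen
    rw [if_neg (by omega), if_pos h8, hTF4b (tfWd j) hw t 0, h27]
    simp only [mul_assoc]
  have hco : tfCo R j t = R.f t := by
    unfold tfCo
    rw [if_pos h8]
  refine ⟨?_, _, ?_, by rw [hgen, hco]⟩
  · rw [hgen]
    exact Subgroup.mul_mem _ (h8xU_mem_Ub chevF4 hB posiF4 _ _ hlead le_rfl _)
      (Subgroup.mul_mem _ (Subgroup.mul_mem _ (h8xU_mem_Ub chevF4 hB posiF4 _ _ p25 l25 _)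
        (h8xU_mem_Ub chevF4 hB posiF4 _ _ p28 l28 _)) (h8xU_mem_Ub chevF4 hB posiF4 _ _ p30 l30 _))
  · exact Subgroup.mul_mem _ (Subgroup.mul_mem _ (sqdtf6_mem_Wk _ _ p25 n25 l25 _)
      (sqdtf6_mem_Wk _ _ p28 n28 l28 _)) (sqdtf6_mem_Wk _ _ p30 n30 l30 _)

theorem sqdtf6c_core [CharP K 2] (R : H8TF K hB)
    (hTF4b : ∀ (w : List ℕ), (∀ i ∈ w, i < chevF4.rank) → ∀ (t v : K),
      (h8nWU chevF4 hB w : GL chevF4.Idx K) * h8tfCls R 27 25 28 30 t v *
          (h8nWU chevF4 hB w : GL chevF4.Idx K)⁻¹ =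
        h8xU chevF4 hB (h8sW chevF4 w 27) (R.f t) * h8xU chevF4 hB (h8sW chevF4 w 25) t *
          h8xU chevF4 hB (h8sW chevF4 w 28) (R.f t * t + v) *
          h8xU chevF4 hB (h8sW chevF4 w 30) ((R.f v) ^ 2)) :
    ∀ j, 8 ≤ j → j < 12 → TfForm R j := by
  intro j h8 h12 t
  obtain ⟨hw, h28, hlead, p30, n30, l30⟩ := sqdtf6c_tab j h12 h8
  have hgen : tfGen R j t = h8xU chevF4 hB (tfLead j) t *
      h8xU chevF4 hB (h8sW chevF4 (tfWd (j - 4)) 30) ((R.f t) ^ 2) := by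
    unfold tfGen
    rw [if_neg (by omega), if_neg (by omega), hTF4b (tfWd (j - 4)) hw 0 t, h28, map_zero,
      h8xU_zero', h8xU_zero', zero_mul, zero_add, one_mul, one_mul]
  have hco : tfCo R j t = t := by
    unfold tfCo
    rw [if_neg (by omega)]
  refine ⟨?_, _, sqdtf6_mem_Wk _ _ p30 n30 l30 _, by rw [hgen, hco]⟩
  rw [hgen]
  exact Subgroup.mul_mem _ (h8xU_mem_Ub chevF4 hB posiF4 _ _ hlead le_rfl _)
    (h8xU_mem_Ub chevF4 hB posiF4 _ _ p30 l30 _)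

end

end Cfsg.Agent.Lib.helper14.SQD
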