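import Mathlib
import Cfsg.Prelude.Def_LieTypeChar
import Cfsg.Prelude.Def_ChevStructure
import Cfsg.Prelude.Def_ChevF4
import Cfsg.Prelude.Def_LieTwisted
import Cfsg.Agent.Lib.helper14.SQD.Defs
import Cfsg.Agent.Lib.helper14.SQD.DefsTF
import Cfsg.Agent.Lib.helper14.SQD.TF4
import Cfsg.Agent.Lib.Helper20.SQDTF6bcore

/-!
# Project SQD (designer helper14), block TF, rows TF6b `tfForm_cls` and TF6c `tfForm_cen`, verbatim (writer helper20)

`sqdtf6b_core`, `sqdtf6c_core` applied to the landed row TF4b (`conj_cls`).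
-/

set_option autoImplicit false

namespace Cfsg.Agent.Lib.helper14.SQD

open Cfsg Cfsg.Lie Cfsg.Lie.ChevalleyDatum Cfsg.Agent.Lib.helper8

universe u v

/-- TF6b [M]. -/
theorem tfForm_cls {K : Type u} [Field K] [CharP K 2] {hB : H8Base.{u} chevF4} (R : H8TF K hB) :
    ∀ j, 4 ≤ j → j < 8 → TfForm R j :=
  sqdtf6b_core R (fun w hw t v => conj_cls R w hw t v)

/-- TF6c [M]. -/
theorem tfForm_cen {K : Type u} [Field K] [CharP K 2] {hB : H8Base.{u} chevF4} (R : H8TF K hB) :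
    ∀ j, 8 ≤ j → j < 12 → TfForm R j :=
  sqdtf6c_core R (fun w hw t v => conj_cls R w hw t v)

end Cfsg.Agent.Lib.helper14.SQD
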