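import Mathlib
import Cfsg.Prelude.Def_LieTypeChar
import Cfsg.Agent.Lib.helper14.SQD.Defs
import Cfsg.Agent.Lib.helper14.SQD.DefsU
import Cfsg.Agent.Lib.Helper18.SQDUF
import Cfsg.Agent.Lib.Helper13.SQDUE4
import Cfsg.Agent.Lib.Helper20.SQDUE8core

/-!
# Project SQD (designer helper14), row UE8 `lowE_mem_range`, verbatim (writer helper20)

`sqdue8_core` applied to the landed rows UF2 (`frobE_frobE`, helper18) and UE4 (`mem_range_psiE`, helper13).
-/

set_option autoImplicit false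

namespace Cfsg.Agent.Lib.helper14.SQD

open Cfsg Cfsg.Lie Matrix

universe u v

section UE
variable {F : Type} [Field F] [Fintype F] [CharP F 2] (e : ℕ) {k : ℕ}

/-- UE8 [M]. -/
theorem lowE_mem_range (hF : Fintype.card F = (2 ^ e) ^ 2) (a : F) (ha : a ^ 2 ^ e + a = 1) :
    (∀ T ∈ hermAdd k (frobE F e), ∀ w : GL (Fin k ⊕ Fin k) F,
      (w : Matrix (Fin k ⊕ Fin k) (Fin k ⊕ Fin k) F) = Matrix.fromBlocks 1 0 T 1 →
        w ∈ (psiE (k := k) (F := F) (2 ^ e) a).range) ∧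
    ∀ g : GL (Fin k) F, (g : Matrix (Fin k) (Fin k) F).det = 1 →
      levHom (frobE F e) g ∈ (psiE (k := k) (F := F) (2 ^ e) a).range :=
  sqdue8_core e (frobE_frobE e hF) a (fun w => mem_range_psiE e a ha w)

end UE

end Cfsg.Agent.Lib.helper14.SQD
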