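import Mathlib

/-!
# Schur-ring style arguments for a regular subgroup (function form)

`G` acts on `Ω`, `H` is a group with a hom `ι : H →* G` acting regularly on `Ω` (base point `ω₀`).
A subset `T` of `H` is *invariant* if `T ω₀` is invariant under the stabilizer of `ω₀`.
We prove: invariant elements of the group algebra are closed under multiplication (Schur),
and, for primitive `G`: an invariant set inside a proper subgroup is `⊆ {1}`; an invariant set
stable under left multiplication by a nontrivial subgroup contains `1`.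
For commutative `H` with exactly `p` solutions of `u ^ p = 1`, an invariant set `T` contains
`x * u` (`u ^ p = 1`) whenever `x ∈ T`, `x ^ p ≠ 1` (Schur's `p`-th power trick).
-/

namespace Cfsg.Agent.Lib.Helper20.SRing

open MulAction MonoidAlgebra

section Block

variable {G Ω : Type*} [Group G] [MulAction G Ω]

theorem isBlock_of_equiv (E : Ω → Ω → Prop) (hE : Equivalence E)
    (hinv : ∀ (g : G) (α β : Ω), E α β → E (g • α) (g • β)) (ω₀ : Ω) :
    IsBlock G {β | E ω₀ β} := by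
  rw [isBlock_iff_smul_eq_of_mem]
  intro g a ha hga
  change E ω₀ a at ha
  change E ω₀ (g • a) at hga
  have h1 : E (g • ω₀) (g • a) := hinv g _ _ ha
  have h2 : E ω₀ (g • ω₀) := hE.trans hga (hE.symm h1)
  ext x
  rw [Set.mem_smul_set_iff_inv_smul_mem]
  change E ω₀ (g⁻¹ • x) ↔ E ω₀ x
  constructor
  · intro hx
    have := hinv g _ _ hx
    rw [smul_inv_smul] at this
    exact hE.trans h2 this
  · intro hx
    have := hinv g⁻¹ _ _ (hE.trans (hE.symm h2) hx)
    rwa [inv_smul_smul] at this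

theorem class_trivial (hprim : IsPreprimitive G Ω) (E : Ω → Ω → Prop) (hE : Equivalence E)
    (hinv : ∀ (g : G) (α β : Ω), E α β → E (g • α) (g • β)) (ω₀ : Ω) :
    (∀ β, E ω₀ β → β = ω₀) ∨ (∀ β, E ω₀ β) := by
  have hB := isBlock_of_equiv E hE hinv ω₀
  rcases hprim.isTrivialBlock_of_isBlock hB with h | h
  · left
    intro β hβ
    exact h hβ (hE.refl ω₀)
  · right
    intro β
    have : β ∈ {β | E ω₀ β} := by rw [h]; exact Set.mem_univ _
    exact this

end Block

section Regular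

variable {G Ω : Type*} [Group G] [MulAction G Ω] {H : Type*} [Group H] (ι : H →* G) (ω₀ : Ω)

/-- `T ⊆ H` is invariant: `T ω₀` is stable under the stabilizer of `ω₀`. -/
def InvSet (T : Set H) : Prop :=
  ∀ g ∈ stabilizer G ω₀, ∀ h h' : H, g • (ι h • ω₀) = ι h' • ω₀ → h ∈ T → h' ∈ T

/-- The Cayley relation of `T` transported to `Ω`. -/
def Rel (T : Set H) (α β : Ω) : Prop :=
  ∃ c : H, ∃ t ∈ T, α = ι c • ω₀ ∧ β = ι (c * t) • ω₀

variable {ι ω₀}

theorem inj_of_reg (hinj : ∀ c : H, ι c • ω₀ = ω₀ → c = 1) {c c' : H}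
    (h : ι c • ω₀ = ι c' • ω₀) : c = c' := by
  have : ι (c'⁻¹ * c) • ω₀ = ω₀ := by
    rw [map_mul, mul_smul, h, ← mul_smul, ← map_mul, inv_mul_cancel, map_one, one_smul]
  have := hinj _ this
  rw [inv_mul_eq_one] at this
  exact this.symm

theorem rel_smul (hsurj : ∀ ω : Ω, ∃ c : H, ι c • ω₀ = ω) {T : Set H} (hT : InvSet ι ω₀ T)
    (g : G) {α β : Ω} (h : Rel ι ω₀ T α β) : Rel ι ω₀ T (g • α) (g • β) := by
  obtain ⟨c, t, ht, rfl, rfl⟩ := h
  obtain ⟨c', hc'⟩ := hsurj (g • ι c • ω₀)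
  have hk : (ι c')⁻¹ * g * ι c ∈ stabilizer G ω₀ := by
    rw [mem_stabilizer_iff, mul_smul, mul_smul, ← hc', inv_smul_smul]
  obtain ⟨t', ht'⟩ := hsurj (((ι c')⁻¹ * g * ι c) • ι t • ω₀)
  have ht'T : t' ∈ T := hT _ hk t t' ht'.symm ht
  refine ⟨c', t', ht'T, hc'.symm, ?_⟩
  simp only [map_mul, mul_smul] at ht' ⊢
  rw [ht', smul_inv_smul]

theorem rel_smul_iff (hsurj : ∀ ω : Ω, ∃ c : H, ι c • ω₀ = ω) {T : Set H} (hT : InvSet ι ω₀ T)
    (g : G) {α β : Ω} : Rel ι ω₀ T (g • α) β ↔ Rel ι ω₀ T α (g⁻¹ • β) := by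
  constructor
  · intro h
    have := rel_smul hsurj hT g⁻¹ h
    rwa [inv_smul_smul] at this
  · intro h
    have := rel_smul hsurj hT g h
    rwa [smul_inv_smul] at this

theorem rel_iff (hinj : ∀ c : H, ι c • ω₀ = ω₀ → c = 1) {T : Set H} (c : H) (γ : Ω) :
    Rel ι ω₀ T (ι c • ω₀) γ ↔ ∃ t ∈ T, γ = ι (c * t) • ω₀ := by
  constructor
  · rintro ⟨c₁, t, ht, h1, h2⟩
    have := inj_of_reg hinj h1
    subst this
    exact ⟨t, ht, h2⟩
  · rintro ⟨t, ht, h⟩
    exact ⟨c, t, ht, rfl, h⟩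

/-- An invariant set contained in a proper subgroup is `⊆ {1}` (primitive case). -/
theorem invSet_le_subgroup (hprim : IsPreprimitive G Ω)
    (hsurj : ∀ ω : Ω, ∃ c : H, ι c • ω₀ = ω) (hinj : ∀ c : H, ι c • ω₀ = ω₀ → c = 1)
    {T : Set H} (hT : InvSet ι ω₀ T) (K : Subgroup H) (hK : K ≠ ⊤) (hTK : ∀ t ∈ T, t ∈ K) :
    ∀ t ∈ T, t = 1 := by
  set E : Ω → Ω → Prop := Relation.EqvGen (Rel ι ω₀ T) with hE
  have hEq : Equivalence E := Relation.EqvGen.is_equivalence _
  have hinv : ∀ (g : G) (α β : Ω), E α β → E (g • α) (g • β) := by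
    intro g α β h
    induction h with
    | rel x y h => exact Relation.EqvGen.rel _ _ (rel_smul hsurj hT g h)
    | refl x => exact Relation.EqvGen.refl _
    | symm x y _ ih => exact Relation.EqvGen.symm _ _ ih
    | trans x y z _ _ ih1 ih2 => exact Relation.EqvGen.trans _ _ _ ih1 ih2
  have hcos : ∀ α β, E α β → ∀ c c' : H, α = ι c • ω₀ → β = ι c' • ω₀ → c⁻¹ * c' ∈ K := by
    intro α β h
    induction h with
    | rel x y h =>
      intro c c' hc hc'
      obtain ⟨c₁, t, ht, h1, h2⟩ := h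
      have e1 : c₁ = c := inj_of_reg hinj (h1.symm.trans hc)
      have e2 : c₁ * t = c' := inj_of_reg hinj (h2.symm.trans hc')
      rw [← e2, ← e1, inv_mul_cancel_left]
      exact hTK t ht
    | refl x =>
      intro c c' hc hc'
      have : c = c' := inj_of_reg hinj (hc.symm.trans hc')
      rw [this, inv_mul_cancel]
      exact K.one_mem
    | symm x y _ ih =>
      intro c c' hc hc'
      have := K.inv_mem (ih c' c hc' hc)
      rwa [mul_inv_rev, inv_inv] at this
    | trans x y z _ _ ih1 ih2 =>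
      intro c c' hc hc'
      obtain ⟨d, hd⟩ := hsurj y
      have := K.mul_mem (ih1 c d hc hd.symm) (ih2 d c' hd.symm hc')
      rwa [mul_assoc, mul_inv_cancel_left] at this
  rcases class_trivial hprim E hEq hinv ω₀ with h | h
  · intro t ht
    have hr : Rel ι ω₀ T ω₀ (ι t • ω₀) := ⟨1, t, ht, by simp, by simp⟩
    have := h _ (Relation.EqvGen.rel _ _ hr)
    exact hinj t this
  · exfalso
    apply hK
    rw [eq_top_iff]
    intro c _
    have := hcos _ _ (h (ι c • ω₀)) 1 c (by simp) rfl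
    simpa using this

/-- An invariant nonempty set stable under left multiplication by a nontrivial subgroup
contains `1` (primitive case). -/
theorem one_mem_of_stable (hprim : IsPreprimitive G Ω)
    (hsurj : ∀ ω : Ω, ∃ c : H, ι c • ω₀ = ω) (hinj : ∀ c : H, ι c • ω₀ = ω₀ → c = 1)
    {T : Set H} (hT : InvSet ι ω₀ T) (hne : T.Nonempty) (P : Subgroup H) (hP : P ≠ ⊥)
    (hPT : ∀ u ∈ P, ∀ t ∈ T, u * t ∈ T) : (1 : H) ∈ T := by
  set E : Ω → Ω → Prop := fun α β => ∀ γ, Rel ι ω₀ T α γ ↔ Rel ι ω₀ T β γ with hE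
  have hEq : Equivalence E :=
    ⟨fun _ _ => Iff.rfl, fun h γ => (h γ).symm, fun h1 h2 γ => (h1 γ).trans (h2 γ)⟩
  have hinv : ∀ (g : G) (α β : Ω), E α β → E (g • α) (g • β) := by
    intro g α β h γ
    rw [rel_smul_iff hsurj hT, rel_smul_iff hsurj hT]
    exact h _
  obtain ⟨u, hu1⟩ := (Subgroup.ne_bot_iff_exists_ne_one).1 hP
  have hu1' : (u : H) ≠ 1 := by
    intro h; apply hu1; exact Subtype.ext h
  have hEu : E ω₀ (ι (u : H) • ω₀) := by
    intro γ
    have h0 : Rel ι ω₀ T ω₀ γ ↔ ∃ t ∈ T, γ = ι (1 * t) • ω₀ := by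
      have := rel_iff (T := T) hinj (1 : H) γ
      simpa using this
    rw [h0, rel_iff hinj]
    constructor
    · rintro ⟨t, ht, rfl⟩
      refine ⟨(u : H)⁻¹ * t, hPT _ (P.inv_mem u.2) t ht, ?_⟩
      rw [mul_inv_cancel_left, one_mul]
    · rintro ⟨t, ht, rfl⟩
      exact ⟨(u : H) * t, hPT _ u.2 t ht, by rw [one_mul]⟩
  rcases class_trivial hprim E hEq hinv ω₀ with h | h
  · exfalso
    exact hu1' (hinj _ (h _ hEu))
  · obtain ⟨t₀, ht₀⟩ := hne
    have h1 := h (ι t₀⁻¹ • ω₀) ω₀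
    have h2 : Rel ι ω₀ T (ι t₀⁻¹ • ω₀) ω₀ := by
      rw [rel_iff hinj]
      exact ⟨t₀, ht₀, by simp⟩
    have h3 := h1.2 h2
    obtain ⟨c₁, t₁, ht₁, e1, e2⟩ := h3
    have hc1 : c₁ = 1 := by
      apply hinj; exact e1.symm
    subst hc1
    have : t₁ = 1 := by
      apply hinj
      rw [one_mul] at e2
      exact e2.symm
    rwa [this] at ht₁

end Regular

end Cfsg.Agent.Lib.Helper20.SRing
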