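import Mathlib
import Cfsg.Agent.Lib.Helper20.SRing

/-!
# Schur's theorem on the transitivity module and the `p`-th power trick
-/

namespace Cfsg.Agent.Lib.Helper20.SRing

open MulAction MonoidAlgebra

section Alg

variable {G Ω : Type*} [Group G] [MulAction G Ω] {H : Type*} [Group H] [Fintype H]
  (ι : H →* G) (ω₀ : Ω) {R : Type*} [Semiring R]

/-- invariant element of the group algebra -/
def InvEl (a : MonoidAlgebra R H) : Prop :=
  ∀ g ∈ stabilizer G ω₀, ∀ h h' : H, g • (ι h • ω₀) = ι h' • ω₀ → a.coeff h = a.coeff h'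

variable {ι ω₀}

theorem invEl_mul (hsurj : ∀ ω : Ω, ∃ c : H, ι c • ω₀ = ω)
    (hinj : ∀ c : H, ι c • ω₀ = ω₀ → c = 1) {a b : MonoidAlgebra R H}
    (ha : InvEl ι ω₀ a) (hb : InvEl ι ω₀ b) : InvEl ι ω₀ (a * b) := by
  intro g hg x x' hx
  rw [coeff_mul_apply_left, coeff_mul_apply_left, Finsupp.sum_fintype _ _ (by simp),
    Finsupp.sum_fintype _ _ (by simp)]
  choose σ hσ using fun s : H => hsurj (g • ι s • ω₀)
  have hσinj : Function.Injective σ := by
    intro s s' h
    have h1 := hσ s
    rw [h, hσ s'] at h1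
    have h2 : ι s' • ω₀ = ι s • ω₀ := by
      have := congrArg (fun z => g⁻¹ • z) h1
      simpa using this
    exact (inj_of_reg hinj h2).symm
  have hσbij : Function.Bijective σ := (Finite.injective_iff_bijective).1 hσinj
  apply Fintype.sum_bijective σ hσbij
  intro s
  have e1 : a.coeff s = a.coeff (σ s) := ha g hg s (σ s) (hσ s).symm
  have hk : (ι (σ s))⁻¹ * g * ι s ∈ stabilizer G ω₀ := by
    rw [mem_stabilizer_iff, mul_smul, mul_smul, ← hσ s, inv_smul_smul]
  have e2 : b.coeff (s⁻¹ * x) = b.coeff ((σ s)⁻¹ * x') := by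
    apply hb _ hk
    simp only [map_mul, map_inv, mul_smul]
    rw [smul_inv_smul, hx]
  rw [e1, e2]

theorem invEl_pow (hsurj : ∀ ω : Ω, ∃ c : H, ι c • ω₀ = ω)
    (hinj : ∀ c : H, ι c • ω₀ = ω₀ → c = 1) {a : MonoidAlgebra R H}
    (ha : InvEl ι ω₀ a) : ∀ n : ℕ, InvEl ι ω₀ (a ^ (n + 1))
  | 0 => by simpa using ha
  | (n + 1) => by
    rw [pow_succ]
    exact invEl_mul hsurj hinj (invEl_pow hsurj hinj ha n) ha

end Alg

section Frob

variable {G Ω : Type*} [Group G] [MulAction G Ω] {H : Type*} [Group H] [Finite H]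
  {ι : H →* G} {ω₀ : Ω}

theorem coset_subset (hcomm : ∀ a b : H, a * b = b * a) (hprim : IsPreprimitive G Ω)
    (hsurj : ∀ ω : Ω, ∃ c : H, ι c • ω₀ = ω) (hinj : ∀ c : H, ι c • ω₀ = ω₀ → c = 1)
    (p : ℕ) [hp : Fact p.Prime] (hker : Nat.card {u : H // u ^ p = 1} = p)
    {T : Set H} (hT : InvSet ι ω₀ T) {x : H} (hx : x ∈ T) (hxp : x ^ p ≠ 1) :
    ∀ u : H, u ^ p = 1 → x * u ∈ T := by
  classical
  haveI : Fintype H := Fintype.ofFinite H
  letI : CommGroup H := { ‹Group H› with mul_comm := hcomm }
  haveI : CharP (MonoidAlgebra (ZMod p) H) p :=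
    charP_of_injective_algebraMap (R := ZMod p) (A := MonoidAlgebra (ZMod p) H) (by
      intro a b h
      have := congrArg (fun x => x.coeff 1) h
      simpa using this) p
  set φ : H → ZMod p := fun h => if h ∈ T then 1 else 0 with hφ
  set a : MonoidAlgebra (ZMod p) H := ∑ h, single h (φ h) with ha_def
  have hacoeff : ∀ h, a.coeff h = φ h := by
    intro h
    rw [ha_def, coeff_sum]
    simp [Finsupp.single_apply]
  have ha : InvEl ι ω₀ a := by
    intro g hg h h' e
    rw [hacoeff, hacoeff]
    have hiff : h ∈ T ↔ h' ∈ T :=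
      ⟨hT g hg h h' e, hT g⁻¹ (inv_mem hg) h' h (by rw [← e, inv_smul_smul])⟩
    simp only [hφ, hiff]
  have hap : InvEl ι ω₀ (a ^ p) := by
    have hk : p = (p - 1) + 1 := by have := hp.out.pos; omega
    have := invEl_pow hsurj hinj ha (p - 1)
    rwa [← hk] at this
  have hpow : a ^ p = ∑ h, single (h ^ p) (φ h) := by
    rw [ha_def, sum_pow_char]
    congr 1
    ext h : 1
    rw [single_pow, ZMod.pow_card]
  have hcoeff : ∀ y, (a ^ p).coeff y =
      ((Finset.univ.filter (fun h : H => h ∈ T ∧ h ^ p = y)).card : ZMod p) := by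
    intro y
    rw [hpow, coeff_sum, Finset.card_filter]
    simp only [coeff_single, Finsupp.coe_finsetSum, Finset.sum_apply, Finsupp.single_apply,
      Nat.cast_sum]
    apply Finset.sum_congr rfl
    intro h _
    by_cases h1 : h ∈ T <;> by_cases h2 : h ^ p = y <;> simp [hφ, h1, h2]
  set S : Set H := {y | (a ^ p).coeff y ≠ 0} with hS
  have hSinv : InvSet ι ω₀ S := by
    intro g hg h h' e hh
    change (a ^ p).coeff h' ≠ 0
    rw [← hap g hg h h' e]
    exact hh
  set K : Subgroup H := (powMonoidHom p : H →* H).range with hK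
  have hSK : ∀ y ∈ S, y ∈ K := by
    intro y hy
    change (a ^ p).coeff y ≠ 0 at hy
    rw [hcoeff] at hy
    have : (Finset.univ.filter (fun h : H => h ∈ T ∧ h ^ p = y)).card ≠ 0 := by
      intro h0; apply hy; rw [h0]; simp
    obtain ⟨h, hh⟩ := Finset.card_ne_zero.1 this
    rw [Finset.mem_filter] at hh
    exact ⟨h, hh.2.2⟩
  have hKtop : K ≠ ⊤ := by
    intro htop
    have hsur : Function.Surjective (powMonoidHom p : H →* H) :=
      MonoidHom.range_eq_top.1 htop
    have hinj' : Function.Injective (powMonoidHom p : H →* H) :=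
      (Finite.injective_iff_surjective).2 hsur
    have hsub : Subsingleton {u : H // u ^ p = 1} := by
      constructor
      intro u v
      apply Subtype.ext
      apply hinj'
      change (u : H) ^ p = (v : H) ^ p
      rw [u.2, v.2]
    have hle := Finite.card_le_one_iff_subsingleton.2 hsub
    rw [hker] at hle
    have := hp.out.two_le
    omega
  have hS1 := invSet_le_subgroup hprim hsurj hinj hSinv K hKtop hSK
  have hzero : (a ^ p).coeff (x ^ p) = 0 := by
    by_contra hne
    exact hxp (hS1 _ hne)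
  rw [hcoeff] at hzero
  set A := Finset.univ.filter (fun h : H => h ∈ T ∧ h ^ p = x ^ p) with hA
  set B := Finset.univ.filter (fun h : H => h ^ p = x ^ p) with hB
  have hdvd : p ∣ A.card := (ZMod.natCast_eq_zero_iff _ _).1 hzero
  have hAB : A ⊆ B := by
    intro h hh
    rw [hA, Finset.mem_filter] at hh
    rw [hB, Finset.mem_filter]
    exact ⟨hh.1, hh.2.2⟩
  have hxA : x ∈ A := by
    rw [hA, Finset.mem_filter]; exact ⟨Finset.mem_univ _, hx, rfl⟩
  have hApos : 0 < A.card := Finset.card_pos.2 ⟨x, hxA⟩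
  have hBcard : B.card = p := by
    have h1 : B.card = (Finset.univ.filter (fun u : H => u ^ p = 1)).card := by
      symm
      apply Finset.card_bij (fun u _ => x * u)
      · intro u hu
        rw [Finset.mem_filter] at hu
        rw [hB, Finset.mem_filter]
        refine ⟨Finset.mem_univ _, ?_⟩
        rw [mul_pow, hu.2, mul_one]
      · intro u _ v _ h
        exact mul_left_cancel h
      · intro h hh
        rw [hB, Finset.mem_filter] at hh
        refine ⟨x⁻¹ * h, ?_, by rw [mul_inv_cancel_left]⟩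
        rw [Finset.mem_filter]
        refine ⟨Finset.mem_univ _, ?_⟩
        rw [mul_pow, hh.2, inv_pow, inv_mul_cancel]
    rw [h1, ← Fintype.card_subtype, ← Nat.card_eq_fintype_card, hker]
  have hle : p ≤ A.card := Nat.le_of_dvd hApos hdvd
  have hAeqB : A = B := Finset.eq_of_subset_of_card_le hAB (by rw [hBcard]; exact hle)
  intro u hu
  have : x * u ∈ B := by
    rw [hB, Finset.mem_filter]
    refine ⟨Finset.mem_univ _, ?_⟩
    rw [mul_pow, hu, mul_one]
  rw [← hAeqB, hA, Finset.mem_filter] at this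
  exact this.2.1

/-- Schur/Wielandt: regular commutative `H` with exactly `p` (resp. `q`) solutions of
`u ^ p = 1` (resp. `u ^ q = 1`), `p ≠ q`, in a primitive group: the point stabilizer is
transitive on the remaining points. -/
theorem stab_trans_of_two_primes (hcomm : ∀ a b : H, a * b = b * a) (hprim : IsPreprimitive G Ω)
    (hsurj : ∀ ω : Ω, ∃ c : H, ι c • ω₀ = ω) (hinj : ∀ c : H, ι c • ω₀ = ω₀ → c = 1)
    (p q : ℕ) [hp : Fact p.Prime] [hq : Fact q.Prime] (hpq : p ≠ q)
    (hkp : Nat.card {u : H // u ^ p = 1} = p) (hkq : Nat.card {u : H // u ^ q = 1} = q)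
    (x x' : H) (hx : x ≠ 1) (hx' : x' ≠ 1) :
    ∃ g ∈ stabilizer G ω₀, g • (ι x • ω₀) = ι x' • ω₀ := by
  classical
  -- the orbit set of `x`
  have key : ∀ x : H, x ≠ 1 → ∀ z : H, z ^ q = 1 → z ≠ 1 →
      ∃ g ∈ stabilizer G ω₀, g • (ι x • ω₀) = ι z • ω₀ := by
    intro x hx z hzq hz1
    set T : Set H := {c | ∃ g ∈ stabilizer G ω₀, g • (ι x • ω₀) = ι c • ω₀} with hTdef
    have hT : InvSet ι ω₀ T := by
      rintro g hg h h' e ⟨k, hk, hkx⟩
      exact ⟨g * k, mul_mem hg hk, by rw [mul_smul, hkx, e]⟩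
    have hxT : x ∈ T := ⟨1, one_mem _, by rw [one_smul]⟩
    have h1T : (1 : H) ∉ T := by
      rintro ⟨g, hg, hgx⟩
      apply hx
      apply hinj
      rw [map_one, one_smul] at hgx
      have : g⁻¹ • (g • (ι x • ω₀)) = g⁻¹ • ω₀ := by rw [hgx]
      rw [inv_smul_smul] at this
      rw [this]
      exact (inv_mem hg : g⁻¹ ∈ stabilizer G ω₀)
    -- Step 1: some element of `T` has `p`-th power one
    have step1 : ∃ y ∈ T, y ^ p = 1 := by
      by_contra hcon
      push Not at hcon
      set P : Subgroup H :=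
        { carrier := {u | u ^ p = 1}
          one_mem' := by simp
          mul_mem' := by
            intro a b ha hb
            change (a * b) ^ p = 1
            have hc : Commute a b := hcomm a b
            rw [hc.mul_pow, ha, hb, one_mul]
          inv_mem' := by
            intro a ha
            change a⁻¹ ^ p = 1
            rw [inv_pow, ha, inv_one] } with hPdef
      have hPne : P ≠ ⊥ := by
        intro hbot
        have hsub : Subsingleton {u : H // u ^ p = 1} := by
          constructor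
          intro u v
          apply Subtype.ext
          have hu : (u : H) ∈ P := u.2
          have hv : (v : H) ∈ P := v.2
          rw [hbot, Subgroup.mem_bot] at hu hv
          rw [hu, hv]
        have hle := Finite.card_le_one_iff_subsingleton.2 hsub
        rw [hkp] at hle
        have := hp.out.two_le
        omega
      apply h1T
      apply one_mem_of_stable hprim hsurj hinj hT ⟨x, hxT⟩ P hPne
      intro u hu t ht
      rw [hcomm u t]
      exact coset_subset hcomm hprim hsurj hinj p hkp hT ht (hcon t ht) u hu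
    obtain ⟨y, hyT, hyp⟩ := step1
    have hy1 : y ≠ 1 := by
      intro h; rw [h] at hyT; exact h1T hyT
    -- `y ^ q ≠ 1`
    have hyq : y ^ q ≠ 1 := by
      intro hyq
      apply hy1
      have h1 : orderOf y ∣ p := orderOf_dvd_of_pow_eq_one hyp
      have h2 : orderOf y ∣ q := orderOf_dvd_of_pow_eq_one hyq
      have hcop : Nat.Coprime p q := (Nat.coprime_primes hp.out hq.out).2 hpq
      have : orderOf y ∣ 1 := by
        have := Nat.dvd_gcd h1 h2
        rwa [hcop.gcd_eq_one] at this
      exact orderOf_eq_one_iff.1 (Nat.dvd_one.1 this)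
    have hyz : y * z ∈ T := coset_subset hcomm hprim hsurj hinj q hkq hT hyT hyq z hzq
    have hyzp : (y * z) ^ p ≠ 1 := by
      have hc : Commute y z := hcomm y z
      rw [hc.mul_pow, hyp, one_mul]
      intro hzp
      apply hz1
      have h1 : orderOf z ∣ p := orderOf_dvd_of_pow_eq_one hzp
      have h2 : orderOf z ∣ q := orderOf_dvd_of_pow_eq_one hzq
      have hcop : Nat.Coprime p q := (Nat.coprime_primes hp.out hq.out).2 hpq
      have : orderOf z ∣ 1 := by
        have := Nat.dvd_gcd h1 h2
        rwa [hcop.gcd_eq_one] at this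
      exact orderOf_eq_one_iff.1 (Nat.dvd_one.1 this)
    have hzT : y * z * y⁻¹ ∈ T :=
      coset_subset hcomm hprim hsurj hinj p hkp hT hyz hyzp y⁻¹ (by rw [inv_pow, hyp, inv_one])
    have : y * z * y⁻¹ = z := by rw [hcomm y z, mul_inv_cancel_right]
    rw [this] at hzT
    exact hzT
  -- a nontrivial element of order `q`
  obtain ⟨z, hzq, hz1⟩ : ∃ z : H, z ^ q = 1 ∧ z ≠ 1 := by
    by_contra hcon
    push Not at hcon
    have hsub : Subsingleton {u : H // u ^ q = 1} := by
      constructor
      intro u v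
      apply Subtype.ext
      rw [hcon u u.2, hcon v v.2]
    have hle := Finite.card_le_one_iff_subsingleton.2 hsub
    rw [hkq] at hle
    have := hq.out.two_le
    omega
  obtain ⟨g, hg, hgx⟩ := key x hx z hzq hz1
  obtain ⟨g', hg', hgx'⟩ := key x' hx' z hzq hz1
  refine ⟨g'⁻¹ * g, mul_mem (inv_mem hg') hg, ?_⟩
  rw [mul_smul, hgx, ← hgx', inv_smul_smul]

end Frob

end Cfsg.Agent.Lib.Helper20.SRing
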