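import Mathlib

/-!
# A power-sum lemma over `ZMod p`

If `A ⊆ (ZMod p) \ {0}` is nonempty and the number of representations `c = a + b` (`a b ∈ A`)
is `≡ 2|A|` for `c ∈ A` and `≡ 0` for `c ∉ A`, `c ≠ 0`, then `|A| ≥ (p+1)/2`.
-/

namespace Cfsg.Agent.Lib.Helper20.SRing

open Finset Polynomial

section PowerSum

variable (p : ℕ) [hp : Fact p.Prime] (A : Finset (ZMod p))

/-- the power sums of `A` -/
noncomputable def ps (j : ℕ) : ZMod p := ∑ a ∈ A, a ^ j

theorem sum_add_pow (n : ℕ) :
    ∑ a ∈ A, ∑ b ∈ A, (a + b) ^ n =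
      ∑ j ∈ range (n + 1), (n.choose j : ZMod p) * ps p A j * ps p A (n - j) := by
  simp only [add_pow]
  rw [Finset.sum_congr rfl (fun a _ => Finset.sum_comm)]
  rw [Finset.sum_comm]
  apply Finset.sum_congr rfl
  intro j _
  unfold ps
  rw [mul_assoc, Finset.sum_mul_sum, Finset.mul_sum]
  apply Finset.sum_congr rfl
  intro a _
  rw [Finset.mul_sum]
  apply Finset.sum_congr rfl
  intro b _
  ring

theorem sum_add_fun (f : ZMod p → ZMod p) :
    ∑ a ∈ A, ∑ b ∈ A, f (a + b) =
      ∑ c : ZMod p, ((A.filter (fun a => c - a ∈ A)).card : ZMod p) * f c := by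
  have h1 : ∀ a ∈ A, ∑ b ∈ A, f (a + b) = ∑ c : ZMod p, if c - a ∈ A then f c else 0 := by
    intro a _
    rw [← Finset.sum_filter]
    apply Finset.sum_nbij' (fun b => a + b) (fun c => c - a)
    · intro b hb
      simp only [Finset.mem_filter, Finset.mem_univ, true_and]
      simpa using hb
    · intro c hc
      simp only [Finset.mem_filter, Finset.mem_univ, true_and] at hc
      exact hc
    · intro b _; ring
    · intro c _; ring
    · intro b _; rfl
  rw [Finset.sum_congr rfl h1, Finset.sum_comm]
  apply Finset.sum_congr rfl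
  intro c _
  rw [← Finset.sum_filter, Finset.sum_const, nsmul_eq_mul]

variable {p A}

theorem ps_identity (hA0 : (0 : ZMod p) ∉ A)
    (hcount : ∀ c : ZMod p, c ≠ 0 →
      ((A.filter (fun a => c - a ∈ A)).card : ZMod p) =
        if c ∈ A then 2 * (A.card : ZMod p) else 0)
    (n : ℕ) (hn : 1 ≤ n) :
    ∑ j ∈ range (n + 1), (n.choose j : ZMod p) * ps p A j * ps p A (n - j) =
      2 * (A.card : ZMod p) * ps p A n := by
  rw [← sum_add_pow, sum_add_fun p A (fun c => c ^ n)]
  have h2 : ∀ c : ZMod p, ((A.filter (fun a => c - a ∈ A)).card : ZMod p) * c ^ n =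
      if c ∈ A then 2 * (A.card : ZMod p) * c ^ n else 0 := by
    intro c
    by_cases hc : c = 0
    · subst hc
      rw [zero_pow (by omega), mul_zero]
      simp [hA0]
    · rw [hcount c hc]
      split_ifs <;> simp
  rw [Finset.sum_congr rfl (fun c _ => h2 c), ← Finset.sum_filter]
  have : (Finset.univ.filter (fun c : ZMod p => c ∈ A)) = A := by
    ext c; simp
  rw [this]
  unfold ps
  rw [Finset.mul_sum]

theorem ps_zero : ps p A 0 = (A.card : ZMod p) := by
  unfold ps; simp

theorem ps_vanish (hA0 : (0 : ZMod p) ∉ A)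
    (hcount : ∀ c : ZMod p, c ≠ 0 →
      ((A.filter (fun a => c - a ∈ A)).card : ZMod p) =
        if c ∈ A then 2 * (A.card : ZMod p) else 0) :
    ∀ k : ℕ, 1 ≤ k → 2 * k ≤ p - 1 → ps p A k = 0 := by
  intro k
  induction k using Nat.strong_induction_on with
  | _ k ih =>
    intro hk1 hk2
    have hid := ps_identity hA0 hcount (2 * k) (by omega)
    have key : ∀ (f : ℕ → ZMod p) (m : ℕ),
        ∑ j ∈ range (m + 2), f j = f 0 + (∑ j ∈ range m, f (j + 1)) + f (m + 1) := by
      intro f m
      rw [Finset.sum_range_succ, Finset.sum_range_succ']; ring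
    have e : 2 * k + 1 = (2 * k - 1) + 2 := by omega
    rw [e, key] at hid
    have e2 : 2 * k - 1 + 1 = 2 * k := by omega
    rw [e2] at hid
    have hlast : ((2 * k).choose (2 * k) : ZMod p) * ps p A (2 * k) * ps p A (2 * k - 2 * k) =
        (A.card : ZMod p) * ps p A (2 * k) := by
      rw [Nat.choose_self, Nat.sub_self, ps_zero]; ring
    have hfirst : ((2 * k).choose 0 : ZMod p) * ps p A 0 * ps p A (2 * k - 0) =
        (A.card : ZMod p) * ps p A (2 * k) := by
      rw [Nat.choose_zero_right, Nat.sub_zero, ps_zero]; ring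
    rw [hlast, hfirst] at hid
    have hmid : ∑ j ∈ range (2 * k - 1),
        ((2 * k).choose (j + 1) : ZMod p) * ps p A (j + 1) * ps p A (2 * k - (j + 1)) =
        ((2 * k).choose k : ZMod p) * ps p A k * ps p A k := by
      rw [Finset.sum_eq_single (k - 1)]
      · have h1 : k - 1 + 1 = k := by omega
        have h2 : 2 * k - k = k := by omega
        rw [h1, h2]
      · intro j hj hjk
        rw [Finset.mem_range] at hj
        by_cases hlt : j + 1 < k
        · rw [ih (j + 1) hlt (by omega) (by omega)]; ring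
        · have hgt : k < j + 1 := by omega
          rw [ih (2 * k - (j + 1)) (by omega) (by omega) (by omega)]; ring
      · intro hnot
        exfalso; apply hnot
        rw [Finset.mem_range]; omega
    rw [hmid] at hid
    have hid2 := hid
    have hzero : ((2 * k).choose k : ZMod p) * ps p A k * ps p A k = 0 := by
      linear_combination hid2
    have hch : ((2 * k).choose k : ZMod p) ≠ 0 := by
      intro h0
      rw [ZMod.natCast_eq_zero_iff] at h0
      have hdvd : p ∣ (2 * k).factorial := by
        have := Nat.choose_mul_factorial_mul_factorial (show k ≤ 2 * k by omega)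
        rw [← this, mul_assoc]
        exact dvd_mul_of_dvd_left h0 _
      rw [hp.out.dvd_factorial] at hdvd
      have := hp.out.two_le
      omega
    rw [mul_assoc] at hzero
    rcases mul_eq_zero.1 hzero with h | h
    · exact absurd h hch
    · exact mul_self_eq_zero.1 h

theorem powersum_bound (hA0 : (0 : ZMod p) ∉ A) (hAne : A.Nonempty)
    (hcount : ∀ c : ZMod p, c ≠ 0 →
      ((A.filter (fun a => c - a ∈ A)).card : ZMod p) =
        if c ∈ A then 2 * (A.card : ZMod p) else 0) :
    (p + 1) / 2 ≤ A.card := by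
  by_contra hlt
  push Not at hlt
  have hd1 : 1 ≤ A.card := Finset.card_pos.2 hAne
  have hp2 := hp.out.two_le
  have hd2 : 2 * A.card ≤ p - 1 := by omega
  have hvan := ps_vanish hA0 hcount
  set g : (ZMod p)[X] := ∏ a ∈ A, (X - C a) with hg
  have hdeg : g.natDegree = A.card := by
    rw [hg, Polynomial.natDegree_finsetProd_X_sub_C_eq_card]
  have heval : ∀ a ∈ A, g.eval a = 0 := by
    intro a ha
    rw [hg, Polynomial.eval_prod]
    apply Finset.prod_eq_zero ha
    simp
  have hsum : ∑ a ∈ A, g.eval a = 0 := Finset.sum_eq_zero heval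
  have hexp : ∑ a ∈ A, g.eval a = ∑ j ∈ range (A.card + 1), g.coeff j * ps p A j := by
    rw [Finset.sum_congr rfl (fun a _ => Polynomial.eval_eq_sum_range (p := g) a), hdeg,
      Finset.sum_comm]
    apply Finset.sum_congr rfl
    intro j _
    unfold ps
    rw [Finset.mul_sum]
  rw [hexp, Finset.sum_range_succ'] at hsum
  have hmid : ∑ j ∈ range A.card, g.coeff (j + 1) * ps p A (j + 1) = 0 := by
    apply Finset.sum_eq_zero
    intro j hj
    rw [Finset.mem_range] at hj
    rw [hvan (j + 1) (by omega) (by omega), mul_zero]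
  rw [hmid, zero_add, ps_zero] at hsum
  have hc0 : g.coeff 0 ≠ 0 := by
    rw [Polynomial.coeff_zero_eq_eval_zero, hg, Polynomial.eval_prod]
    rw [Finset.prod_ne_zero_iff]
    intro a ha
    simp only [eval_sub, eval_X, eval_C, zero_sub, ne_eq, neg_eq_zero]
    intro h; rw [h] at ha; exact hA0 ha
  have hcard0 : (A.card : ZMod p) ≠ 0 := by
    intro h0
    rw [ZMod.natCast_eq_zero_iff] at h0
    have := Nat.le_of_dvd (by omega) h0
    omega
  rcases mul_eq_zero.1 hsum with h | h
  · exact hc0 h
  · exact hcard0 h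

end PowerSum

end Cfsg.Agent.Lib.Helper20.SRing
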