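import Mathlib
import Cfsg.Agent.Lib.Helper20.SRing2
import Cfsg.Agent.Lib.Helper20.SRing3

/-!
# Burnside–Schur for a regular commutative group with cyclic `p`-socle and exponent `> p`

`H` commutative, regular in a primitive group `G`, with exactly `p` solutions of `u ^ p = 1`
and some element with `h ^ p ≠ 1`. Then the point stabilizer is transitive on the remaining
points.
-/

namespace Cfsg.Agent.Lib.Helper20.SRing

open MulAction MonoidAlgebra

section Periodic

variable {H : Type*} [Group H] [Fintype H]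

theorem periodic_sum_zero (p : ℕ) [hp : Fact p.Prime] (P : Subgroup H) (hP : Nat.card P = p)
    (F : H → ZMod p) (hF : ∀ s u : H, u ∈ P → F (s * u) = F s) : ∑ s, F s = 0 := by
  classical
  rw [← Finset.sum_fiberwise (Finset.univ) (QuotientGroup.mk : H → H ⧸ P) F]
  apply Finset.sum_eq_zero
  intro q _
  induction q using QuotientGroup.induction_on with
  | H r =>
    have hconst : ∀ a ∈ Finset.univ.filter (fun a : H => (a : H ⧸ P) = (r : H ⧸ P)),
        F a = F r := by
      intro a ha
      rw [Finset.mem_filter] at ha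
      have h1 : a⁻¹ * r ∈ P := QuotientGroup.eq.1 ha.2
      have := hF a _ h1
      rw [mul_inv_cancel_left] at this
      exact this.symm
    rw [Finset.sum_congr rfl hconst, Finset.sum_const]
    have hcard : (Finset.univ.filter (fun a : H => (a : H ⧸ P) = (r : H ⧸ P))).card = p := by
      have himg : Finset.univ.filter (fun a : H => (a : H ⧸ P) = (r : H ⧸ P)) =
          Finset.univ.image (fun u : P => r * (u : H)) := by
        ext a
        simp only [Finset.mem_filter, Finset.mem_univ, true_and, Finset.mem_image]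
        constructor
        · intro ha
          have h1 : r⁻¹ * a ∈ P := QuotientGroup.eq.1 ha.symm
          exact ⟨⟨_, h1⟩, by simp⟩
        · rintro ⟨u, rfl⟩
          symm
          rw [QuotientGroup.eq]
          simp
      rw [himg, Finset.card_image_of_injective]
      · rw [Finset.card_univ, ← Nat.card_eq_fintype_card, hP]
      · intro u v h
        exact Subtype.ext (mul_left_cancel h)
    rw [hcard, nsmul_eq_mul, ZMod.natCast_self, zero_mul]

theorem conv_decomp (hcomm : ∀ a b : H, a * b = b * a) (p : ℕ) [hp : Fact p.Prime]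
    (P : Subgroup H) (hP : Nat.card P = p)
    (φ α β : H → ZMod p) (hφ : ∀ h, φ h = α h + β h) (hα : ∀ h, h ∉ P → α h = 0)
    (hβ : ∀ h u, u ∈ P → β (h * u) = β h) (y : H) :
    ∑ s, φ s * φ (s⁻¹ * y) = ∑ s, α s * α (s⁻¹ * y) + 2 * (∑ s, α s) * β y := by
  have h1 : ∑ s, α s * β (s⁻¹ * y) = (∑ s, α s) * β y := by
    rw [Finset.sum_mul]
    apply Finset.sum_congr rfl
    intro s _
    by_cases hs : s ∈ P
    · rw [hcomm s⁻¹ y, hβ y _ (P.inv_mem hs)]
    · rw [hα s hs, zero_mul, zero_mul]
  have h2 : ∑ s, β s * α (s⁻¹ * y) = (∑ s, α s) * β y := by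
    rw [Finset.sum_mul]
    rw [← Equiv.sum_comp ((Equiv.inv H).trans (Equiv.mulLeft y))
      (fun s => β s * α (s⁻¹ * y))]
    apply Finset.sum_congr rfl
    intro t _
    simp only [Equiv.trans_apply, Equiv.inv_apply, Equiv.coe_mulLeft]
    have : (y * t⁻¹)⁻¹ * y = t := by
      rw [mul_inv_rev, inv_inv, mul_assoc, inv_mul_cancel, mul_one]
    rw [this]
    by_cases ht : t ∈ P
    · rw [hβ y _ (P.inv_mem ht), mul_comm]
    · rw [hα t ht, mul_zero, zero_mul]
  have h3 : ∑ s, β s * β (s⁻¹ * y) = 0 := by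
    apply periodic_sum_zero p P hP
    intro s u hu
    rw [hβ s u hu]
    congr 1
    have : (s * u)⁻¹ * y = (s⁻¹ * y) * u⁻¹ := by
      rw [mul_inv_rev, hcomm u⁻¹ s⁻¹, mul_assoc, mul_assoc, hcomm u⁻¹ y]
    rw [this, hβ _ _ (P.inv_mem hu)]
  calc ∑ s, φ s * φ (s⁻¹ * y)
      = ∑ s, (α s * α (s⁻¹ * y) + α s * β (s⁻¹ * y) + β s * α (s⁻¹ * y)
          + β s * β (s⁻¹ * y)) := by
        apply Finset.sum_congr rfl
        intro s _
        rw [hφ, hφ]; ring
    _ = _ := by
        rw [Finset.sum_add_distrib, Finset.sum_add_distrib, Finset.sum_add_distrib, h1, h2, h3]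
        ring

end Periodic

section PowSurj

variable {H : Type*} [Group H] [Finite H]

theorem pow_val_add (p : ℕ) [hp : Fact p.Prime] (z : H) (hz : orderOf z = p) (a b : ZMod p) :
    z ^ (a + b).val = z ^ a.val * z ^ b.val := by
  rw [ZMod.val_add, ← pow_add]
  have := pow_mod_orderOf z (a.val + b.val)
  rw [hz] at this
  exact this

theorem pow_val_inj (p : ℕ) [hp : Fact p.Prime] (z : H) (hz : orderOf z = p) :
    Function.Injective (fun k : ZMod p => z ^ k.val) := by
  intro a b h
  simp only at h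
  rw [pow_eq_pow_iff_modEq, hz] at h
  apply ZMod.val_injective
  have ha := ZMod.val_lt a
  have hb := ZMod.val_lt b
  exact Nat.ModEq.eq_of_lt_of_lt h ha hb

theorem pow_val_surj (p : ℕ) [hp : Fact p.Prime] (hker : Nat.card {u : H // u ^ p = 1} = p)
    (z : H) (hz : orderOf z = p) (u : H) (hu : u ^ p = 1) : ∃ k : ZMod p, z ^ k.val = u := by
  classical
  haveI : Fintype H := Fintype.ofFinite H
  have hsub : Finset.univ.image (fun k : ZMod p => z ^ k.val) ⊆
      Finset.univ.filter (fun u : H => u ^ p = 1) := by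
    intro v hv
    rw [Finset.mem_image] at hv
    obtain ⟨k, _, rfl⟩ := hv
    rw [Finset.mem_filter]
    refine ⟨Finset.mem_univ _, ?_⟩
    have hzp : z ^ p = 1 := by
      have := pow_orderOf_eq_one z
      rwa [hz] at this
    rw [← pow_mul, mul_comm, pow_mul, hzp, one_pow]
  have hcard : (Finset.univ.filter (fun u : H => u ^ p = 1)).card ≤
      (Finset.univ.image (fun k : ZMod p => z ^ k.val)).card := by
    rw [Finset.card_image_of_injective _ (pow_val_inj p z hz), Finset.card_univ, ZMod.card,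
      ← Fintype.card_subtype, ← Nat.card_eq_fintype_card, hker]
  have heq := Finset.eq_of_subset_of_card_le hsub hcard
  have : u ∈ Finset.univ.filter (fun u : H => u ^ p = 1) := by
    rw [Finset.mem_filter]; exact ⟨Finset.mem_univ _, hu⟩
  rw [← heq, Finset.mem_image] at this
  obtain ⟨k, _, hk⟩ := this
  exact ⟨k, hk⟩

theorem exists_order_p (p : ℕ) [hp : Fact p.Prime] (hker : Nat.card {u : H // u ^ p = 1} = p) :
    ∃ z : H, orderOf z = p := by
  by_contra hcon
  push Not at hcon
  have hsub : Subsingleton {u : H // u ^ p = 1} := by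
    constructor
    intro u v
    apply Subtype.ext
    have h1 : ∀ w : H, w ^ p = 1 → w = 1 := by
      intro w hw
      have hd : orderOf w ∣ p := orderOf_dvd_of_pow_eq_one hw
      rcases (Nat.dvd_prime hp.out).1 hd with h | h
      · exact orderOf_eq_one_iff.1 h
      · exact absurd h (hcon w)
    rw [h1 u u.2, h1 v v.2]
  have hle := Finite.card_le_one_iff_subsingleton.2 hsub
  rw [hker] at hle
  have := hp.out.two_le
  omega

end PowSurj

section Orbit

variable {G Ω : Type*} [Group G] [MulAction G Ω] {H : Type*} [Group H]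
  (ι : H →* G) (ω₀ : Ω)

/-- the set of `c` with `c ω₀` in the stabilizer-orbit of `x ω₀` -/
def Orb (x : H) : Set H := {c | ∃ g ∈ stabilizer G ω₀, g • (ι x • ω₀) = ι c • ω₀}

variable {ι ω₀}

theorem orb_invSet (x : H) : InvSet ι ω₀ (Orb ι ω₀ x) := by
  rintro g hg h h' e ⟨k, hk, hkx⟩
  exact ⟨g * k, mul_mem hg hk, by rw [mul_smul, hkx, e]⟩

theorem orb_self (x : H) : x ∈ Orb ι ω₀ x := ⟨1, one_mem _, by rw [one_smul]⟩

theorem one_not_mem_orb (hinj : ∀ c : H, ι c • ω₀ = ω₀ → c = 1) {x : H} (hx : x ≠ 1) :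
    (1 : H) ∉ Orb ι ω₀ x := by
  rintro ⟨g, hg, hgx⟩
  apply hx
  apply hinj
  rw [map_one, one_smul] at hgx
  have : g⁻¹ • (g • (ι x • ω₀)) = g⁻¹ • ω₀ := by rw [hgx]
  rw [inv_smul_smul] at this
  rw [this]
  exact (inv_mem hg : g⁻¹ ∈ stabilizer G ω₀)

theorem invSet_iff {T : Set H} (hT : InvSet ι ω₀ T) {g : G} (hg : g ∈ stabilizer G ω₀)
    {h h' : H} (e : g • (ι h • ω₀) = ι h' • ω₀) : h ∈ T ↔ h' ∈ T :=
  ⟨hT g hg h h' e, hT g⁻¹ (inv_mem hg) h' h (by rw [← e, inv_smul_smul])⟩

end Orbit

end Cfsg.Agent.Lib.Helper20.SRing
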