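import Mathlib
import Cfsg.Agent.Lib.Helper20.SRing4

/-!
# Burnside–Schur: the main counting argument
-/

namespace Cfsg.Agent.Lib.Helper20.SRing

open MulAction MonoidAlgebra

section Main

variable {G Ω : Type*} [Group G] [MulAction G Ω] {H : Type*} [Group H] [Finite H]
  {ι : H →* G} {ω₀ : Ω}

open Classical in
theorem orbit_meets_P (hcomm : ∀ a b : H, a * b = b * a) (hprim : IsPreprimitive G Ω)
    (hsurj : ∀ ω : Ω, ∃ c : H, ι c • ω₀ = ω) (hinj : ∀ c : H, ι c • ω₀ = ω₀ → c = 1)
    (p : ℕ) [hp : Fact p.Prime] (hker : Nat.card {u : H // u ^ p = 1} = p)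
    (hnotall : ∃ h : H, h ^ p ≠ 1) (z : H) (hz : orderOf z = p) (x : H) (hx : x ≠ 1) :
    (p + 1) / 2 ≤ (Finset.univ.filter (fun k : ZMod p => z ^ k.val ∈ Orb ι ω₀ x)).card := by
  classical
  haveI : Fintype H := Fintype.ofFinite H
  set T := Orb ι ω₀ x with hTdef
  have hT : InvSet ι ω₀ T := orb_invSet x
  have hxT : x ∈ T := orb_self x
  have h1T : (1 : H) ∉ T := one_not_mem_orb hinj hx
  -- the subgroup `P`
  set P : Subgroup H :=
    { carrier := {u | u ^ p = 1}
      one_mem' := by simp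
      mul_mem' := by
        intro a b ha hb
        change (a * b) ^ p = 1
        have hc : Commute a b := hcomm a b
        rw [hc.mul_pow, ha, hb, one_mul]
      inv_mem' := by
        intro a ha
        change a⁻¹ ^ p = 1
        rw [inv_pow, ha, inv_one] } with hPdef
  have hPmem : ∀ u : H, u ∈ P ↔ u ^ p = 1 := fun u => Iff.rfl
  have hPcard : Nat.card P = p := hker
  have hPtop : P ≠ ⊤ := by
    intro htop
    obtain ⟨h, hh⟩ := hnotall
    apply hh
    rw [← hPmem, htop]
    exact Subgroup.mem_top _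
  have hzp : z ^ p = 1 := by
    have := pow_orderOf_eq_one z
    rwa [hz] at this
  have hz1 : z ≠ 1 := by
    intro h
    rw [h, orderOf_one] at hz
    have := hp.out.two_le
    omega
  have hPbot : P ≠ ⊥ := by
    intro hbot
    apply hz1
    have : z ∈ P := hzp
    rwa [hbot, Subgroup.mem_bot] at this
  -- the parametrisation `e`
  set e : ZMod p → H := fun k => z ^ k.val with he
  have he0 : e 0 = 1 := by simp [he]
  have hadd : ∀ a b, e (a + b) = e a * e b := fun a b => pow_val_add p z hz a b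
  have hsub : ∀ c k, (e k)⁻¹ * e c = e (c - k) := by
    intro c k
    have := hadd k (c - k)
    rw [add_sub_cancel] at this
    rw [this, inv_mul_cancel_left]
  have heinj : Function.Injective e := pow_val_inj p z hz
  have heP : ∀ k, e k ∈ P := by
    intro k
    change (z ^ k.val) ^ p = 1
    rw [← pow_mul, mul_comm, pow_mul, hzp, one_pow]
  have hesurj : ∀ u ∈ P, ∃ k, e k = u := fun u hu => pow_val_surj p hker z hz u hu
  -- cosets
  have hcos : ∀ t ∈ T, t ∉ P → ∀ u ∈ P, t * u ∈ T := by
    intro t ht htP u hu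
    exact coset_subset hcomm hprim hsurj hinj p hker hT ht htP u hu
  have step2 : ∃ y ∈ T, y ∈ P := by
    by_contra hcon
    push Not at hcon
    apply h1T
    apply one_mem_of_stable hprim hsurj hinj hT ⟨x, hxT⟩ P hPbot
    intro u hu t ht
    rw [hcomm u t]
    exact hcos t ht (hcon t ht) u hu
  have step3 : ∀ c : H, c ≠ 1 → ∃ t ∈ Orb ι ω₀ c, t ∉ P := by
    intro c hc
    by_contra hcon
    push Not at hcon
    exact hc (invSet_le_subgroup hprim hsurj hinj (orb_invSet c) P hPtop hcon c (orb_self c))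
  -- indicator functions
  set φ : H → ZMod p := fun h => if h ∈ T then 1 else 0 with hφdef
  set α : H → ZMod p := fun h => if h ∈ T ∧ h ∈ P then 1 else 0 with hαdef
  set β : H → ZMod p := fun h => if h ∈ T ∧ h ∉ P then 1 else 0 with hβdef
  have hφ : ∀ h, φ h = α h + β h := by
    intro h
    by_cases h1 : h ∈ T <;> by_cases h2 : h ∈ P <;> simp [hφdef, hαdef, hβdef, h1, h2]
  have hα : ∀ h, h ∉ P → α h = 0 := by
    intro h h2
    simp [hαdef, h2]
  have hβ0 : ∀ h, h ∈ P → β h = 0 := by
    intro h h2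
    simp [hβdef, h2]
  have hβφ : ∀ h, h ∉ P → β h = φ h := by
    intro h h2
    simp [hβdef, hφdef, h2]
  have hβper : ∀ h u, u ∈ P → β (h * u) = β h := by
    intro h u hu
    have hiff : (h * u ∈ T ∧ h * u ∉ P) ↔ (h ∈ T ∧ h ∉ P) := by
      constructor
      · rintro ⟨h1, h2⟩
        have h3 : h ∉ P := fun h3 => h2 (P.mul_mem h3 hu)
        refine ⟨?_, h3⟩
        have := hcos _ h1 h2 u⁻¹ (P.inv_mem hu)
        rwa [mul_inv_cancel_right] at this
      · rintro ⟨h1, h2⟩
        refine ⟨hcos _ h1 h2 u hu, ?_⟩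
        intro h3
        apply h2
        have := P.mul_mem h3 (P.inv_mem hu)
        rwa [mul_inv_cancel_right] at this
    simp only [hβdef, hiff]
  -- the group algebra element
  set a : MonoidAlgebra (ZMod p) H := ∑ h, single h (φ h) with ha_def
  have hacoeff : ∀ h, a.coeff h = φ h := by
    intro h
    rw [ha_def, coeff_sum]
    simp [Finsupp.single_apply]
  have ha : InvEl ι ω₀ a := by
    intro g hg h h' e
    rw [hacoeff, hacoeff]
    have hiff : h ∈ T ↔ h' ∈ T := invSet_iff hT hg e
    simp only [hφdef, hiff]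
  have haa : InvEl ι ω₀ (a * a) := invEl_mul hsurj hinj ha ha
  have hN : ∀ y, (a * a).coeff y = ∑ s, φ s * φ (s⁻¹ * y) := by
    intro y
    rw [coeff_mul_apply_left, Finsupp.sum_fintype _ _ (by simp)]
    apply Finset.sum_congr rfl
    intro s _
    rw [hacoeff, hacoeff]
  have hdec := conv_decomp hcomm p P hPcard φ α β hφ hα hβper
  have key : ∀ c ∈ P, c ≠ 1 → ∑ s, α s * α (s⁻¹ * c) = 2 * (∑ s, α s) * φ c := by
    intro c hcP hc1
    obtain ⟨t, ⟨g, hg, hgt⟩, htP⟩ := step3 c hc1
    have e1 : (a * a).coeff c = (a * a).coeff t := haa g hg c t hgt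
    rw [hN, hN, hdec, hdec, hβ0 c hcP, hβφ t htP] at e1
    have hzero : ∑ s, α s * α (s⁻¹ * t) = 0 := by
      apply Finset.sum_eq_zero
      intro s _
      by_cases hs : s ∈ P
      · have : s⁻¹ * t ∉ P := by
          intro h
          apply htP
          have := P.mul_mem hs h
          rwa [mul_inv_cancel_left] at this
        rw [hα _ this, mul_zero]
      · rw [hα _ hs, zero_mul]
    have hφct : φ t = φ c := by
      have hiff : c ∈ T ↔ t ∈ T := invSet_iff hT hg hgt
      simp only [hφdef, hiff]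
    rw [hzero, hφct, mul_zero, add_zero, zero_add] at e1
    exact e1
  -- transfer to `ZMod p`
  set A' : Finset (ZMod p) := Finset.univ.filter (fun k : ZMod p => e k ∈ T) with hA'
  have hmemA : ∀ k, k ∈ A' ↔ e k ∈ T := by
    intro k
    rw [hA', Finset.mem_filter]
    simp
  have hsumP : ∀ F : H → ZMod p, (∀ s, s ∉ P → F s = 0) → ∑ s, F s = ∑ k : ZMod p, F (e k) := by
    intro F hF
    rw [← Finset.sum_image (s := Finset.univ) (g := e) (f := F) (fun a _ b _ h => heinj h)]
    symm
    apply Finset.sum_subset (Finset.subset_univ _)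
    intro s _ hs
    apply hF
    intro hsP
    apply hs
    obtain ⟨k, hk⟩ := hesurj s hsP
    rw [Finset.mem_image]
    exact ⟨k, Finset.mem_univ _, hk⟩
  have hαe : ∀ k, α (e k) = if k ∈ A' then 1 else 0 := by
    intro k
    have : (e k ∈ T ∧ e k ∈ P) ↔ k ∈ A' := by
      rw [hmemA]
      exact ⟨fun h => h.1, fun h => ⟨h, heP k⟩⟩
    simp only [hαdef, this]
  have hAcard : ∑ s, α s = (A'.card : ZMod p) := by
    rw [hsumP α hα, Finset.sum_congr rfl (fun k _ => hαe k), Finset.sum_ite_mem]
    simp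
  have hA0 : (0 : ZMod p) ∉ A' := by
    rw [hmemA, he0]
    exact h1T
  have hAne : A'.Nonempty := by
    obtain ⟨y, hyT, hyP⟩ := step2
    obtain ⟨k, hk⟩ := hesurj y hyP
    refine ⟨k, ?_⟩
    rw [hmemA, hk]
    exact hyT
  have hcount : ∀ c : ZMod p, c ≠ 0 →
      ((A'.filter (fun a => c - a ∈ A')).card : ZMod p) =
        if c ∈ A' then 2 * (A'.card : ZMod p) else 0 := by
    intro c hc
    have hec1 : e c ≠ 1 := by
      intro h
      rw [← he0] at h
      exact hc (heinj h)
    have hk := key (e c) (heP c) hec1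
    rw [hsumP (fun s => α s * α (s⁻¹ * e c)) (fun s hs => by
      change α s * α (s⁻¹ * e c) = 0
      rw [hα s hs, zero_mul]), hAcard] at hk
    have h1 : ∀ k : ZMod p, α (e k) * α ((e k)⁻¹ * e c) =
        if (k ∈ A' ∧ c - k ∈ A') then 1 else 0 := by
      intro k
      rw [hsub, hαe, hαe]
      by_cases h1 : k ∈ A' <;> by_cases h2 : c - k ∈ A' <;> simp [h1, h2]
    rw [Finset.sum_congr rfl (fun k _ => h1 k)] at hk
    rw [Finset.card_filter]
    have h2 : ∀ k ∈ A', (if c - k ∈ A' then (1 : ℕ) else 0) =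
        if (k ∈ A' ∧ c - k ∈ A') then 1 else 0 := by
      intro k hk
      simp [hk]
    rw [Finset.sum_congr rfl h2]
    have h3 : ∑ k ∈ A', (if (k ∈ A' ∧ c - k ∈ A') then (1 : ℕ) else 0) =
        ∑ k : ZMod p, if (k ∈ A' ∧ c - k ∈ A') then (1 : ℕ) else 0 := by
      apply Finset.sum_subset (Finset.subset_univ _)
      intro k _ hk
      simp [hk]
    rw [h3]
    push_cast
    rw [hk]
    have : φ (e c) = if c ∈ A' then 1 else 0 := by
      simp only [hφdef, hmemA]
    rw [this]
    split_ifs <;> simp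
  exact powersum_bound hA0 hAne hcount

/-- Burnside–Schur for commutative regular `H` with cyclic `p`-socle and exponent `> p`. -/
theorem stab_trans_of_prime_power (hcomm : ∀ a b : H, a * b = b * a)
    (hprim : IsPreprimitive G Ω)
    (hsurj : ∀ ω : Ω, ∃ c : H, ι c • ω₀ = ω) (hinj : ∀ c : H, ι c • ω₀ = ω₀ → c = 1)
    (p : ℕ) [hp : Fact p.Prime] (hker : Nat.card {u : H // u ^ p = 1} = p)
    (hnotall : ∃ h : H, h ^ p ≠ 1) (x x' : H) (hx : x ≠ 1) (hx' : x' ≠ 1) :
    ∃ g ∈ stabilizer G ω₀, g • (ι x • ω₀) = ι x' • ω₀ := by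
  classical
  obtain ⟨z, hz⟩ := exists_order_p (H := H) p hker
  have h1 := orbit_meets_P hcomm hprim hsurj hinj p hker hnotall z hz x hx
  have h2 := orbit_meets_P hcomm hprim hsurj hinj p hker hnotall z hz x' hx'
  set A1 := Finset.univ.filter (fun k : ZMod p => z ^ k.val ∈ Orb ι ω₀ x) with hA1
  set A2 := Finset.univ.filter (fun k : ZMod p => z ^ k.val ∈ Orb ι ω₀ x') with hA2
  have hnd : ¬ Disjoint A1 A2 := by
    intro hd
    have hcard := Finset.card_union_of_disjoint hd
    have hsub : A1 ∪ A2 ⊆ Finset.univ.erase (0 : ZMod p) := by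
      intro k hk
      rw [Finset.mem_erase]
      refine ⟨?_, Finset.mem_univ _⟩
      rintro rfl
      rw [Finset.mem_union] at hk
      rcases hk with hk | hk
      · rw [hA1, Finset.mem_filter] at hk
        have := hk.2
        simp only [ZMod.val_zero, pow_zero] at this
        exact one_not_mem_orb hinj hx this
      · rw [hA2, Finset.mem_filter] at hk
        have := hk.2
        simp only [ZMod.val_zero, pow_zero] at this
        exact one_not_mem_orb hinj hx' this
    have hle := Finset.card_le_card hsub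
    rw [Finset.card_erase_of_mem (Finset.mem_univ _), Finset.card_univ, ZMod.card, hcard] at hle
    have := hp.out.two_le
    omega
  rw [Finset.not_disjoint_iff] at hnd
  obtain ⟨k, hk1, hk2⟩ := hnd
  rw [hA1, Finset.mem_filter] at hk1
  rw [hA2, Finset.mem_filter] at hk2
  obtain ⟨g₁, hg₁, e₁⟩ := hk1.2
  obtain ⟨g₂, hg₂, e₂⟩ := hk2.2
  refine ⟨g₂⁻¹ * g₁, mul_mem (inv_mem hg₂) hg₁, ?_⟩
  rw [mul_smul, e₁, ← e₂, inv_smul_smul]

end Main

end Cfsg.Agent.Lib.Helper20.SRing
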