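import Mathlib
import Cfsg.Agent.Lib.helper6.SSCONJ.Defs

/-!
# Project SSCONJ, row COMP: a semisimple matrix with a prescribed (monic) characteristic polynomial.
Module-level construction by induction on the degree: `c = g * c'` with `g` monic irreducible; `AdjoinRoot g × V'` with
`(multiplication by the root) × φ'`; a squarefree polynomial killing the endomorphism is carried along.
-/

set_option autoImplicit false
set_option linter.unusedVariables false

open Polynomial

namespace Cfsg.Agent.Lib.helper6.SSCONJ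

universe u

/-- realisation of a polynomial as the characteristic polynomial of an endomorphism killed by a squarefree polynomial -/
def ssconjcomp_Real {F : Type u} [Field F] (c : F[X]) : Prop :=
  ∃ (V : Type u) (_ : AddCommGroup V) (_ : Module F V) (_ : Module.Finite F V) (φ : Module.End F V)
    (s : F[X]), φ.charpoly = c ∧ Squarefree s ∧ aeval φ s = 0

theorem ssconjcomp_real_one {F : Type u} [Field F] : ssconjcomp_Real (1 : F[X]) := by
  refine ⟨PUnit.{u + 1}, inferInstance, inferInstance, inferInstance, 0, 1, ?_, squarefree_one, ?_⟩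
  · have h1 : (0 : Module.End F PUnit.{u + 1}).charpoly.natDegree = 0 := by
      rw [LinearMap.charpoly_natDegree]
      exact Module.finrank_zero_of_subsingleton
    exact Polynomial.eq_one_of_monic_natDegree_zero (LinearMap.charpoly_monic _) h1
  · exact Subsingleton.elim _ _

theorem ssconjcomp_real_mul {F : Type u} [Field F] (g c' : F[X]) (hg : g.Monic) (hirr : Irreducible g)
    (h : ssconjcomp_Real c') : ssconjcomp_Real (g * c') := by
  obtain ⟨V', i1, i2, i3, φ', s', hφ', hs', hk'⟩ := h
  have hg0 : g ≠ 0 := hg.ne_zero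
  have : Fact (Irreducible g) := ⟨hirr⟩
  have : Module.Finite F (AdjoinRoot g) := (AdjoinRoot.powerBasis hg0).finite
  let ρ : Module.End F (AdjoinRoot g) := Algebra.lmul F (AdjoinRoot g) (AdjoinRoot.root g)
  have hρc : ρ.charpoly = g := by
    have h1 := charpoly_leftMulMatrix (AdjoinRoot.powerBasis hg0)
    rw [Algebra.leftMulMatrix_apply, LinearMap.charpoly_toMatrix] at h1
    have h2 : (AdjoinRoot.powerBasis hg0).gen = AdjoinRoot.root g := rfl
    rw [h2, AdjoinRoot.minpoly_root hg0, hg.leadingCoeff, inv_one, C_1, mul_one] at h1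
    exact h1
  have hρk : ∀ p : F[X], g ∣ p → aeval ρ p = 0 := by
    intro p hp
    show aeval (Algebra.lmul F (AdjoinRoot g) (AdjoinRoot.root g)) p = 0
    rw [aeval_algHom_apply, AdjoinRoot.aeval_eq, AdjoinRoot.mk_eq_zero.mpr hp, map_zero]
  obtain ⟨s, hs, hgs, hs's⟩ : ∃ s : F[X], Squarefree s ∧ g ∣ s ∧ s' ∣ s := by
    by_cases hd : g ∣ s'
    · exact ⟨s', hs', hd, dvd_rfl⟩
    · refine ⟨g * s', ?_, dvd_mul_right g s', dvd_mul_left s' g⟩
      rw [squarefree_mul_iff]
      exact ⟨(hirr.isRelPrime_iff_not_dvd).mpr hd, hirr.squarefree, hs'⟩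
  have hk's : aeval φ' s = 0 := by
    obtain ⟨t, ht⟩ := hs's
    rw [ht, map_mul, hk', zero_mul]
  refine ⟨AdjoinRoot g × V', inferInstance, inferInstance, inferInstance, ρ.prodMap φ', s, ?_, hs, ?_⟩
  · rw [LinearMap.charpoly_prodMap, hρc, hφ']
  · have h1 : ρ.prodMap φ' = LinearMap.prodMapAlgHom F (AdjoinRoot g) V' (ρ, φ') := rfl
    rw [h1, aeval_algHom_apply, aeval_prod_apply, hρk s hgs, hk's]
    exact map_zero _

theorem ssconjcomp_real {F : Type u} [Field F] : ∀ (n : ℕ) (c : F[X]), c.Monic → c.natDegree = n →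
    ssconjcomp_Real c := by
  intro n
  induction n using Nat.strong_induction_on with
  | _ n ih =>
    intro c hc hn
    by_cases hu : IsUnit c
    · have : c = 1 := hc.eq_one_of_isUnit hu
      rw [this]
      exact ssconjcomp_real_one
    · obtain ⟨g₀, hg₀, hdvd⟩ := WfDvdMonoid.exists_irreducible_factor hu hc.ne_zero
      have hg₀0 : g₀ ≠ 0 := hg₀.ne_zero
      set g := g₀ * C g₀.leadingCoeff⁻¹ with hgdef
      have hgm : g.Monic := monic_mul_leadingCoeff_inv hg₀0
      have hgi : Irreducible g := irreducible_mul_leadingCoeff_inv.mpr hg₀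
      have hgd : g ∣ c := by
        have hunit : IsUnit (C g₀.leadingCoeff⁻¹ : F[X]) :=
          Polynomial.isUnit_C.mpr (IsUnit.mk0 _ (inv_ne_zero (leadingCoeff_ne_zero.mpr hg₀0)))
        exact (hunit.mul_right_dvd).mpr hdvd
      obtain ⟨c', hc'⟩ := hgd
      have hc'm : c'.Monic := by
        rw [hc'] at hc
        exact hgm.of_mul_monic_left hc
      have hdeg : c.natDegree = g.natDegree + c'.natDegree := by
        rw [hc', hgm.natDegree_mul hc'm]
      have hgpos : 0 < g.natDegree := hgi.natDegree_pos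
      have hlt : c'.natDegree < n := by omega
      rw [hc']
      exact ssconjcomp_real_mul g c' hgm hgi (ih _ hlt c' hc'm rfl)

variable {F : Type*} [Field F]

/-- COMP -/
theorem exists_ss_matrix (c : F[X]) (hc : c.Monic) (hsep : c.Separable ∨ PerfectField F) (n : ℕ) (hn : c.natDegree = n) :
    ∃ y : Matrix (Fin n) (Fin n) F, y.charpoly = c ∧ Module.End.IsSemisimple (Matrix.toLin' y) := by
  obtain ⟨V, i1, i2, i3, φ, s, hφ, hs, hk⟩ := ssconjcomp_real n c hc hn
  have hfr : Module.finrank F V = n := by
    rw [← LinearMap.charpoly_natDegree φ, hφ, hn]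
  let b : Module.Basis (Fin n) F V := Module.finBasisOfFinrankEq F V hfr
  refine ⟨LinearMap.toMatrix b b φ, ?_, ?_⟩
  · rw [LinearMap.charpoly_toMatrix, hφ]
  · apply Module.End.isSemisimple_of_squarefree_aeval_eq_zero hs
    have h1 : LinearMap.toMatrix b b φ = LinearMap.toMatrixAlgEquiv b φ := rfl
    have h2 : ∀ M : Matrix (Fin n) (Fin n) F, Matrix.toLin' M = Matrix.toLinAlgEquiv' M := fun _ => rfl
    rw [h2, aeval_algHom_apply, h1, aeval_algHom_apply, hk, map_zero, map_zero]

end Cfsg.Agent.Lib.helper6.SSCONJ
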