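import Mathlib
import Cfsg.Agent.Lib.helper6.SSCONJ.Defs
import Cfsg.Agent.Lib.helper6.SSCONJMAIN
import Cfsg.Agent.Lib.Helper20.SSCONJMATcore
import Cfsg.Agent.Lib.Helper28.SSCONJSSPOW

set_option autoImplicit false

/-!
# Project SSCONJ, row MAT: semisimple matrices with the same characteristic polynomial are conjugate
under `GL n F` (matrix form of `ss_equiv`), and the order form `conj_of_pow_eq_one`.
-/

open Polynomial

namespace Cfsg.Agent.Lib.helper6.SSCONJ

universe u v

variable {F : Type*} [Field F]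

/-- MAT -/
theorem ss_conj_matrix {n : Type*} [Fintype n] [DecidableEq n] (x y : Matrix n n F)
    (hx : Module.End.IsSemisimple (Matrix.toLin' x)) (hy : Module.End.IsSemisimple (Matrix.toLin' y)) (hc : x.charpoly = y.charpoly) :
    ∃ g : GL n F, (g : Matrix n n F) * x * ((g⁻¹ : GL n F) : Matrix n n F) = y :=
  ssconjmat_core x y (ss_equiv (Matrix.toLin' x) (Matrix.toLin' y) hx hy
    (by rw [Matrix.charpoly_toLin', Matrix.charpoly_toLin', hc]))

/-- ORD -/
theorem conj_of_pow_eq_one {n : Type*} [Fintype n] [DecidableEq n] (x y : Matrix n n F) (r : ℕ) (hr : (r : F) ≠ 0)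
    (hx : x ^ r = 1) (hy : y ^ r = 1) (hc : x.charpoly = y.charpoly) :
    ∃ g : GL n F, (g : Matrix n n F) * x * ((g⁻¹ : GL n F) : Matrix n n F) = y :=
  ss_conj_matrix x y (ss_of_pow_eq_one x r hr hx) (ss_of_pow_eq_one y r hr hy) hc

end Cfsg.Agent.Lib.helper6.SSCONJ
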