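import Mathlib
import Cfsg.Agent.Lib.Helper24.SU3M.Defs

/-!
# Project SU3M, row FL1: `fk_lemma`, VERBATIM from `Helper24/SU3M/Skel.lean.txt`.
-/

set_option autoImplicit false
set_option linter.unusedSectionVars false

namespace Cfsg.Agent.Lib.Helper24.SU3M

universe u

section FL

variable {F : Type u} [Field F]

/-- FL1 -/
theorem fk_lemma {Y C : Type*} [CommGroup C] (f : F → Y → C) (hadd : ∀ a a' y, f (a + a') y = f a y * f a' y) (lam : F) (m : Y → Y) (n : ℕ)
    (hm : ∀ y, m^[n] y = y) (hinv : ∀ a y, f (lam * a) (m y) = f a y) (hlam : lam ^ n ≠ 1) : ∀ a y, f a y = 1 := by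
  have h0 : ∀ y, f 0 y = 1 := by
    intro y
    have := hadd 0 0 y
    rw [add_zero] at this
    exact (mul_eq_left.mp this.symm)
  have hneg : ∀ a y, f (-a) y = (f a y)⁻¹ := by
    intro a y
    have := hadd a (-a) y
    rw [add_neg_cancel, h0] at this
    exact (eq_inv_of_mul_eq_one_right this.symm)
  have hit : ∀ j a y, f (lam ^ j * a) (m^[j] y) = f a y := by
    intro j
    induction j with
    | zero => intro a y; simp
    | succ j ih =>
      intro a y
      rw [Function.iterate_succ_apply', pow_succ', mul_assoc, hinv, ih]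
  have hn : ∀ a y, f (lam ^ n * a) y = f a y := by
    intro a y
    have := hit n a y
    rwa [hm] at this
  have hne : lam ^ n - 1 ≠ 0 := sub_ne_zero.mpr hlam
  have key : ∀ a y, f ((lam ^ n - 1) * a) y = 1 := by
    intro a y
    have e : (lam ^ n - 1) * a = lam ^ n * a + -a := by ring
    rw [e, hadd, hn, hneg, mul_inv_cancel]
  intro a y
  have := key ((lam ^ n - 1)⁻¹ * a) y
  rwa [mul_inv_cancel_left₀ hne] at this

end FL

end Cfsg.Agent.Lib.Helper24.SU3M
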