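import Mathlib
import Cfsg.Agent.Lib.Helper19.SU5.Defs
import Cfsg.Agent.Lib.Helper19.SU5.Defs2
import Cfsg.Agent.Lib.Helper27.STU.Defs2
import Cfsg.Agent.Lib.Helper27.STU.Sub
import Cfsg.Agent.Lib.Helper27.STU.Frob
import Cfsg.Agent.Lib.Helper19.MODMain
import Cfsg.Agent.Lib.Helper20.GLO.Defs
import Cfsg.Agent.Lib.Helper9.GLOP13
import Cfsg.Prelude.Def_Classical

/-!
# Project SU5 (designer helper19), rows X2 + X3 (cores): the generators of `B1` for GLO P14 from ANY generating tuple of `SUm F True`, and the odd case of S2291 from the statement of X1.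
-/

set_option autoImplicit false
set_option linter.unusedSectionVars false

namespace Cfsg.Agent.Lib.Helper19.SU5

open Cfsg.Agent.Lib.helper17.SLP Cfsg.Agent.Lib.helper3.SP4 Cfsg.Agent.Lib.Helper22.SU4
open Cfsg.Agent.Lib.Helper27.STU (Lam XpM XmM XpS XmS SUm XpU XmU SysU)
open Cfsg.Agent.Lib.helper3.STC (ng sws)

universe u v w

/-- the generators of `B1 S₂`: only the two long root subgroups on the index `1` qualify -/
theorem su5x2_B1_eq {F : Type u} [Field F] [StarRing F] {L : Type v} [Group L] (S₂ : SysU F True (Fin 2) L) :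
    Cfsg.Agent.Lib.Helper20.GLO.B1 S₂ =
      Subgroup.closure (Set.range (S₂.xl (Sum.inl 1)) ∪ Set.range (S₂.xl (Sum.inr 1))) := by
  unfold Cfsg.Agent.Lib.Helper20.GLO.B1 SysU.XQ
  apply le_antisymm
  · rw [Subgroup.closure_le]
    rintro g (⟨a, b, t, hab, hab', ⟨ha, hb⟩, rfl⟩ | ⟨a, ξ, ⟨ha, -⟩, rfl⟩)
    · exfalso
      rcases a with a | a <;> rcases b with b | b <;>
        simp only [Cfsg.Agent.Lib.helper3.STC.ab] at ha hb <;> subst ha <;> subst hb
      · exact hab rfl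
      · exact hab' rfl
      · exact hab' rfl
      · exact hab rfl
    · rcases a with a | a <;> simp only [Cfsg.Agent.Lib.helper3.STC.ab] at ha <;> subst ha
      · exact Subgroup.subset_closure (Or.inl ⟨ξ, rfl⟩)
      · exact Subgroup.subset_closure (Or.inr ⟨ξ, rfl⟩)
  · rw [Subgroup.closure_le]
    rintro g (⟨ξ, rfl⟩ | ⟨ξ, rfl⟩)
    · exact Subgroup.subset_closure (Or.inr ⟨Sum.inl 1, ξ, ⟨rfl, rfl⟩, rfl⟩)
    · exact Subgroup.subset_closure (Or.inr ⟨Sum.inr 1, ξ, ⟨rfl, rfl⟩, rfl⟩)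

/-- X2 (core): any generating tuple of `SUm F True` gives a generating tuple of `B1 S₂`. -/
theorem su5x2_core {F : Type u} [Field F] [StarRing F] {L : Type v} [Group L] (S₂ : SysU F True (Fin 2) L)
    {n : ℕ} (g : Fin n → ↥(SUm F True)) (hg : Subgroup.closure (Set.range g) = ⊤) :
    ∃ b : Fin n → L, (∀ i, b i ∈ Cfsg.Agent.Lib.Helper20.GLO.B1 S₂) ∧
      (Cfsg.Agent.Lib.Helper20.GLO.B1 S₂ : Set L) ⊆ Subgroup.closure (Set.range b) := by
  obtain ⟨ρ, hρ⟩ := S₂.r1 (Sum.inl 1)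
  have hng : ng (Sum.inl 1 : Fin 2 ⊕ Fin 2) = Sum.inr 1 := rfl
  have hp : ∀ ξ, ρ (XpU ξ) = S₂.xl (Sum.inl 1) ξ := fun ξ => (hρ ξ).1
  have hm : ∀ ξ, ρ (XmU ξ) = S₂.xl (Sum.inr 1) ξ := fun ξ => by rw [← hng]; exact (hρ ξ).2
  -- the range of `ρ` is `B1`
  have hrange : ρ.range = Cfsg.Agent.Lib.Helper20.GLO.B1 S₂ := by
    rw [su5x2_B1_eq, MonoidHom.range_eq_map, ← SysU.sub_SUm_closure_top F True, MonoidHom.map_closure]
    congr 1
    rw [Set.image_union, ← Set.range_comp, ← Set.range_comp]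
    congr 1
    · ext x
      simp only [Set.mem_range, Function.comp_apply, hp]
    · ext x
      simp only [Set.mem_range, Function.comp_apply, hm]
  refine ⟨fun i => ρ (g i), fun i => ?_, ?_⟩
  · rw [← hrange]
    exact ⟨g i, rfl⟩
  · have : Subgroup.closure (Set.range fun i => ρ (g i)) = ρ.range := by
      rw [MonoidHom.range_eq_map, ← hg, MonoidHom.map_closure, ← Set.range_comp]
      rfl
    rw [this, hrange]

/-- X3 (core): the odd case of S2291 from the statements of X1 and X2. -/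
theorem su5x3_core {F : Type u} [Field F] [Fintype F] {q : ℕ} (hF : Fintype.card F = q ^ 2) (m : ℕ) (hm : 2 ≤ m)
    (hX1 : ∃ rels : Finset (FreeGroup (Fin 6)), rels.card ≤ 54 ∧
      Nonempty (PresentedGroup (↑rels : Set (FreeGroup (Fin 6))) ≃* ↥(Cfsg.SU 5 F q)))
    (hX2 : letI := Cfsg.Agent.Lib.Helper27.STU.frobStar hF
      ∀ C₂ : Cfsg.Agent.Lib.Helper19.MOD.Ctx F 5 q 2 True, ∃ b : Fin 3 → ↥(Cfsg.SU 5 F q),
        (∀ i, b i ∈ Cfsg.Agent.Lib.Helper20.GLO.B1 (Cfsg.Agent.Lib.Helper19.MOD.sys C₂)) ∧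
          (Cfsg.Agent.Lib.Helper20.GLO.B1 (Cfsg.Agent.Lib.Helper19.MOD.sys C₂) : Set ↥(Cfsg.SU 5 F q)) ⊆
            Subgroup.closure (Set.range b)) :
    ∃ (k : ℕ) (R : Finset (FreeGroup (Fin k))), R.card ≤ 77 ∧
      Nonempty (PresentedGroup (↑R : Set (FreeGroup (Fin k))) ≃* ↥(Cfsg.SU (2 * m + 1) F q)) := by
  obtain ⟨relsL, hcard, ⟨eL⟩⟩ := hX1
  rcases Nat.lt_or_ge m 3 with h | h
  · have h2 : m = 2 := by omega
    subst h2
    exact ⟨6, relsL, by omega, ⟨eL⟩⟩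
  · obtain ⟨k, R, hR, hiso⟩ := Cfsg.Agent.Lib.Helper20.GLO.glue_odd_of_gens hF m h relsL eL 3 hX2
    exact ⟨k, R, by omega, hiso⟩

end Cfsg.Agent.Lib.Helper19.SU5
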