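import Mathlib
import Cfsg.Agent.Lib.Helper20.SU5X2core
import Cfsg.Agent.Lib.Helper27.SU5X1
import Cfsg.Agent.Lib.Helper27.SU5X2

/-!
# Project SU5 (designer helper19), part 2, row X3 (`su_odd_mainU`), VERBATIM vs `Helper19/SU5/Skel2.lean.txt` (helper20): the odd case of S2291, from X1 `su5_mainU` and X2 `b1_gensU` (helper27) through `su5x3_core`.
-/

set_option autoImplicit false

namespace Cfsg.Agent.Lib.Helper19.SU5

open Cfsg.Agent.Lib.helper17.SLP Cfsg.Agent.Lib.helper3.SP4 Cfsg.Agent.Lib.Helper22.SU4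
open Cfsg.Agent.Lib.Helper27.STU (Lam XpM XmM XpS XmS SUm XpU XmU SysU)
open Cfsg.Agent.Lib.helper3.STC (ng sws)
open Cfsg.Agent.Lib.helper3.SU5 (Dat Tab5 Pre)

universe u v w

/-- X3 [S]  the odd case of S2291 (hypothesis `hO` of `Cfsg.Agent.Lib.Helper27.s2291_core`): `m = 2`: X1; `m ≥ 3`: GLO P14 `Cfsg.Agent.Lib.Helper20.GLO.glue_odd_of_gens hF m hm relsL eL 3 (b1_gensU hF)` with X1: `6 + 54 + (6 + 3 * 3) = 75`. -/
theorem su_odd_mainU {F : Type u} [Field F] [Fintype F] {q : ℕ} (hF : Fintype.card F = q ^ 2) (m : ℕ) (hm : 2 ≤ m) :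
    ∃ (k : ℕ) (R : Finset (FreeGroup (Fin k))), R.card ≤ 77 ∧
      Nonempty (PresentedGroup (↑R : Set (FreeGroup (Fin k))) ≃* ↥(Cfsg.SU (2 * m + 1) F q)) :=
  su5x3_core hF m hm (su5_mainU hF) (b1_gensU hF)

end Cfsg.Agent.Lib.Helper19.SU5
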