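import Cfsg.Agent.Lib.Helper20.SUnP6Gen
import Cfsg.Agent.Lib.helper2.SUnP5

set_option autoImplicit false
set_option linter.unusedSectionVars false
set_option linter.unusedVariables false

/-! Project SUn (S2282), piece P6 (helper20): the chain argument. -/

namespace Cfsg.Agent.Lib.Helper20.SUnP6

open Matrix Cfsg.Agent.Lib.helper15.SUn Cfsg.Agent.Lib.Helper28.UGen

variable {F : Type*} [Field F] [Fintype F] {n : ℕ} {q : ℕ} {σ : F ≃+* F}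

theorem chain (hF : Fintype.card F = q ^ 2) (hσ : ∀ x, σ x = x ^ q)
    (hf : Cfsg.Geo.IsUnitaryForm σ (Cfsg.hermForm n F q)) {m : ℕ} (hm : 1 ≤ m)
    (hn : n = 2 * m + 1) {E Fv : ℕ → Fin n → F} {d : Fin n → F} (fr : Frame q m E Fv d)
    {H : Subgroup ↥(Cfsg.SU n F q)}
    (hE : ∀ i, i < m → E i ∈ DD σ H) (hFv : ∀ i, i < m → Fv i ∈ DD σ H)
    {s t : F} (hs : s ≠ 0) (hy : E (m - 1) + s • d + t • Fv (m - 1) ∈ DD σ H)
    {kk : ℕ → F} (hkk : ∀ i, i + 1 < m → kk i ≠ 0)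
    (hlink : ∀ i, i + 1 < m → E i + kk i • E (i + 1) ∈ DD σ H) :
    ∀ y : Fin n → F, Cfsg.hermForm n F q y y = 0 → y ∈ DD σ H :=
  chain_of hF hσ hf hm hn fr
    (fun a' ha' hk _ _ _ hp he hfD hY hz0 hz0i hz0a hz0e hz0f hz =>
      Cfsg.Agent.Lib.helper2.SUnP5.lemB hF hσ hf a' ha' hk hp he hfD hY hz0 hz0i hz0a hz0e hz0f hz)
    hE hFv hs hy hkk hlink

end Cfsg.Agent.Lib.Helper20.SUnP6
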