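import Cfsg.Agent.Lib.helper15.SUn.Iso
import Cfsg.Agent.Lib.Helper28.UGen2
import Cfsg.Agent.Lib.Helper28.UHerm
import Cfsg.Agent.S0780
import Cfsg.Agent.Lib.helper2.SUnP4

set_option autoImplicit false
set_option linter.unusedSectionVars false
set_option linter.unusedVariables false

/-! Project SUn (S2282), piece P6 (helper20): the chain argument, with Lemma B as a hypothesis. -/

namespace Cfsg.Agent.Lib.Helper20.SUnP6

open Matrix Cfsg.Agent.Lib.helper15.SUn Cfsg.Agent.Lib.Helper28.UGen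

variable {F : Type*} [Field F] [Fintype F] {n : ℕ} {q : ℕ} {σ : F ≃+* F}

/-- `dim j = 2 j`, in a form adapted to `Fin.cons` -/
def dim : ℕ → ℕ
  | 0 => 0
  | j + 1 => dim j + 1 + 1

theorem dim_eq (j : ℕ) : dim j = 2 * j := by
  induction j with
  | zero => rfl
  | succ j ih => rw [dim, ih]; ring

/-- the family `E 0, Fv 0, …, E (j-1), Fv (j-1)` -/
def fam (E Fv : ℕ → Fin n → F) : (j : ℕ) → Fin (dim j) → (Fin n → F)
  | 0 => Fin.elim0
  | j + 1 => (Fin.cons (E j) (Fin.cons (Fv j) (fam E Fv j) : Fin (dim j + 1) → (Fin n → F)) :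
      Fin (dim j + 1 + 1) → (Fin n → F))

theorem perp_fam (f : (Fin n → F) → (Fin n → F) → F) (E Fv : ℕ → Fin n → F) (j : ℕ)
    (v : Fin n → F) :
    Perp f (fam E Fv j) v ↔ ∀ i, i < j → f v (E i) = 0 ∧ f v (Fv i) = 0 := by
  induction j with
  | zero =>
    constructor
    · intro _ i hi; omega
    · intro _ i; exact Fin.elim0 i
  | succ j ih =>
    have : Perp f (fam E Fv (j + 1)) v ↔ f v (E j) = 0 ∧ (f v (Fv j) = 0 ∧ Perp f (fam E Fv j) v) := by
      show Perp f (Fin.cons (E j) (Fin.cons (Fv j) (fam E Fv j))) v ↔ _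
      rw [perp_cons, perp_cons]
    rw [this, ih]
    constructor
    · rintro ⟨h1, h2, h3⟩ i hi
      rcases Nat.lt_succ_iff_lt_or_eq.mp hi with h | h
      · exact h3 i h
      · subst h; exact ⟨h1, h2⟩
    · intro h
      exact ⟨(h j (by omega)).1, (h j (by omega)).2, fun i hi => h i (by omega)⟩

variable {m : ℕ} {E Fv : ℕ → Fin n → F} {d : Fin n → F}

theorem perp_fam_E (fr : Frame q m E Fv d) {j : ℕ} (hj : j < m) {l : ℕ} (hl : l ≤ j) :
    Perp (Cfsg.hermForm n F q) (fam E Fv l) (E j) := by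
  rw [perp_fam]
  intro i hi
  refine ⟨fr.ee j i hj (by omega), ?_⟩
  rw [fr.ef j i hj (by omega), if_neg (by omega)]

theorem perp_fam_F (fr : Frame q m E Fv d) {j : ℕ} (hj : j < m) {l : ℕ} (hl : l ≤ j) :
    Perp (Cfsg.hermForm n F q) (fam E Fv l) (Fv j) := by
  rw [perp_fam]
  intro i hi
  refine ⟨?_, fr.ff j i hj (by omega)⟩
  rw [fr.fe j i hj (by omega), if_neg (by omega)]

theorem nd_fam (hf : Cfsg.Geo.IsUnitaryForm σ (Cfsg.hermForm n F q)) (fr : Frame q m E Fv d)
    (j : ℕ) (hj : j ≤ m) : Nd (Cfsg.hermForm n F q) (fam E Fv j) := by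
  induction j with
  | zero => exact nd_e0
  | succ j ih =>
    have hjm : j < m := by omega
    show Nd (Cfsg.hermForm n F q) (Fin.cons (E j) (Fin.cons (Fv j) (fam E Fv j)))
    apply nd_cons2 hf _ (ih (by omega)) _ _ (perp_fam_E fr hjm le_rfl) (perp_fam_F fr hjm le_rfl)
      (fr.ee j j hjm hjm) (fr.ff j j hjm hjm)
    rw [fr.fe j j hjm hjm, if_pos rfl]
    exact one_ne_zero

theorem hp_fam (fr : Frame q m E Fv d) {j : ℕ} (hj : j < m) :
    HP (Cfsg.hermForm n F q) (fam E Fv j) (E j) (Fv j) where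
  hu := fr.ee j j hj hj
  hv := fr.ff j j hj hj
  hvu := by rw [fr.fe j j hj hj, if_pos rfl]
  hua := perp_fam_E fr hj le_rfl
  hva := perp_fam_F fr hj le_rfl

/-- the chain argument, Lemma B being a hypothesis -/
theorem chain_of (hF : Fintype.card F = q ^ 2) (hσ : ∀ x, σ x = x ^ q)
    (hf : Cfsg.Geo.IsUnitaryForm σ (Cfsg.hermForm n F q)) {m : ℕ} (hm : 1 ≤ m)
    (hn : n = 2 * m + 1) {E Fv : ℕ → Fin n → F} {d : Fin n → F} (fr : Frame q m E Fv d)
    {H : Subgroup ↥(Cfsg.SU n F q)}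
    (lemB : ∀ {k : ℕ} (a' : Fin k → Fin n → F), Nd (Cfsg.hermForm n F q) a' → k + 5 ≤ n →
      ∀ {e f z0 : Fin n → F}, HP (Cfsg.hermForm n F q) a' e f → e ∈ DD σ H → f ∈ DD σ H →
      (∀ v : Fin n → F, Cfsg.hermForm n F q v v = 0 → Perp (Cfsg.hermForm n F q) a' v →
        Cfsg.hermForm n F q v e = 0 → Cfsg.hermForm n F q v f = 0 → v ∈ DD σ H) →
      z0 ≠ 0 → Cfsg.hermForm n F q z0 z0 = 0 → Perp (Cfsg.hermForm n F q) a' z0 →
      Cfsg.hermForm n F q z0 e = 0 → Cfsg.hermForm n F q z0 f = 0 → z0 + e ∈ DD σ H →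
      ∀ v : Fin n → F, Cfsg.hermForm n F q v v = 0 → Perp (Cfsg.hermForm n F q) a' v →
        v ∈ DD σ H)
    (hE : ∀ i, i < m → E i ∈ DD σ H) (hFv : ∀ i, i < m → Fv i ∈ DD σ H)
    {s t : F} (hs : s ≠ 0) (hy : E (m - 1) + s • d + t • Fv (m - 1) ∈ DD σ H)
    {kk : ℕ → F} (hkk : ∀ i, i + 1 < m → kk i ≠ 0)
    (hlink : ∀ i, i + 1 < m → E i + kk i • E (i + 1) ∈ DD σ H) :
    ∀ y : Fin n → F, Cfsg.hermForm n F q y y = 0 → y ∈ DD σ H := by
  have hm1 : m - 1 < m := by omega
  -- the base case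
  have base : ∀ v : Fin n → F, Cfsg.hermForm n F q v v = 0 →
      Perp (Cfsg.hermForm n F q) (fam E Fv (m - 1)) v → v ∈ DD σ H := by
    have hya : Perp (Cfsg.hermForm n F q) (fam E Fv (m - 1))
        (E (m - 1) + s • d + t • Fv (m - 1)) := by
      rw [perp_fam]
      intro i hi
      have him : i < m := by omega
      constructor
      · rw [herm_add_left, herm_add_left, herm_smul_left, herm_smul_left,
          fr.ee (m - 1) i hm1 him, fr.de i him, fr.fe (m - 1) i hm1 him, if_neg (by omega)]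
        ring
      · rw [herm_add_left, herm_add_left, herm_smul_left, herm_smul_left,
          fr.ef (m - 1) i hm1 him, fr.df i him, fr.ff (m - 1) i hm1 him, if_neg (by omega)]
        ring
    have hyf : Cfsg.hermForm n F q (E (m - 1) + s • d + t • Fv (m - 1)) (Fv (m - 1)) = 1 := by
      rw [herm_add_left, herm_add_left, herm_smul_left, herm_smul_left,
        fr.ef (m - 1) (m - 1) hm1 hm1, fr.df (m - 1) hm1, fr.ff (m - 1) (m - 1) hm1 hm1,
        if_pos rfl]
      ring
    have hye : Cfsg.hermForm n F q (E (m - 1) + s • d + t • Fv (m - 1)) (E (m - 1)) = t := by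
      rw [herm_add_left, herm_add_left, herm_smul_left, herm_smul_left,
        fr.ee (m - 1) (m - 1) hm1 hm1, fr.de (m - 1) hm1, fr.fe (m - 1) (m - 1) hm1 hm1,
        if_pos rfl]
      ring
    have hsd : E (m - 1) + s • d + t • Fv (m - 1) -
        Cfsg.hermForm n F q (E (m - 1) + s • d + t • Fv (m - 1)) (Fv (m - 1)) • E (m - 1) -
        Cfsg.hermForm n F q (E (m - 1) + s • d + t • Fv (m - 1)) (E (m - 1)) • Fv (m - 1) =
        s • d := by
      rw [hyf, hye, one_smul]; abel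
    refine Cfsg.Agent.Lib.helper2.SUnP4.lemA2 hF hσ hf (fam E Fv (m - 1)) (nd_fam hf fr _ (by omega))
      (by rw [dim_eq]; omega) (hp_fam fr hm1) (hE _ hm1) (hFv _ hm1) hy hya ?_
    rw [hsd, herm_smul_left, herm_smul_right hσ, fr.dd, mul_one]
    have hσs : σ s ≠ 0 := fun h => hs ((map_eq_zero σ).mp h)
    exact mul_ne_zero hs hσs
  -- downward induction
  have step : ∀ i, i ≤ m - 1 → ∀ v : Fin n → F, Cfsg.hermForm n F q v v = 0 →
      Perp (Cfsg.hermForm n F q) (fam E Fv (m - 1 - i)) v → v ∈ DD σ H := by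
    intro i
    induction i with
    | zero => intro _; exact base
    | succ i ih =>
      intro hi
      have ih' := ih (by omega)
      obtain ⟨j, hj⟩ : ∃ j, j = m - 1 - (i + 1) := ⟨_, rfl⟩
      have hj1 : m - 1 - i = j + 1 := by omega
      rw [← hj]
      rw [hj1] at ih'
      have hjm : j < m := by omega
      have hj1m : j + 1 < m := by omega
      have hEj1 : E (j + 1) ≠ 0 := by
        intro h
        have := fr.fe (j + 1) (j + 1) hj1m hj1m
        rw [h, herm_zero_right hσ, if_pos rfl] at this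
        exact zero_ne_one this
      refine lemB (fam E Fv j) (nd_fam hf fr j (by omega)) (by rw [dim_eq]; omega)
        (hp_fam fr hjm) (hE j hjm) (hFv j hjm) ?_ (z0 := kk j • E (j + 1))
        (smul_ne_zero (hkk j hj1m) hEj1) ?_ ?_ ?_ ?_ ?_
      · intro v hv hpv hve hvf
        apply ih' v hv
        rw [perp_fam] at hpv ⊢
        intro l hl
        rcases Nat.lt_succ_iff_lt_or_eq.mp hl with h | h
        · exact hpv l h
        · subst h; exact ⟨hve, hvf⟩
      · rw [herm_smul_left, herm_smul_right hσ, fr.ee _ _ hj1m hj1m]; ring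
      · rw [perp_fam]
        intro l hl
        have hlm : l < m := by omega
        constructor
        · rw [herm_smul_left, fr.ee _ _ hj1m hlm, mul_zero]
        · rw [herm_smul_left, fr.ef _ _ hj1m hlm, if_neg (by omega), mul_zero]
      · rw [herm_smul_left, fr.ee _ _ hj1m hjm, mul_zero]
      · rw [herm_smul_left, fr.ef _ _ hj1m hjm, if_neg (by omega), mul_zero]
      · rw [add_comm]; exact hlink j hj1m
  intro y hy0
  have := step (m - 1) le_rfl y hy0
  rw [Nat.sub_self] at this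
  exact this (fun i => Fin.elim0 i)

end Cfsg.Agent.Lib.Helper20.SUnP6
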