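import Cfsg.Agent.Lib.helper15.SUn.Iso

set_option autoImplicit false

/-! Project SUn (S2282), piece P8b (helper20), generic part: `frame_ext` and regularity of a
matrix acting on a frame like the clean regular unipotent. -/

namespace Cfsg.Agent.Lib.Helper20.SUnP8b

open Matrix Cfsg.Agent.Lib.helper15.SUn

variable {F : Type*} [Field F] [Fintype F] {n : ℕ} {q : ℕ} {σ : F ≃+* F}
variable {m : ℕ} {E Fv : ℕ → Fin n → F} {d : Fin n → F}

theorem mulVec_finsum (M : Matrix (Fin n) (Fin n) F) {ι : Type*} (s : Finset ι)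
    (g : ι → Fin n → F) : M *ᵥ (∑ i ∈ s, g i) = ∑ i ∈ s, M *ᵥ g i := by
  classical
  induction s using Finset.induction_on with
  | empty => simp
  | insert a s ha ih => rw [Finset.sum_insert ha, Finset.sum_insert ha, Matrix.mulVec_add, ih]

theorem frame_ext (fr : Frame q m E Fv d) {M N : Matrix (Fin n) (Fin n) F}
    (hE : ∀ i, i < m → M *ᵥ E i = N *ᵥ E i) (hFv : ∀ i, i < m → M *ᵥ Fv i = N *ᵥ Fv i)
    (hd : M *ᵥ d = N *ᵥ d) : M = N := by
  apply mat_ext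
  intro x
  rw [fr.span x, Matrix.mulVec_add, Matrix.mulVec_add, mulVec_finsum, mulVec_finsum,
    Matrix.mulVec_smul, Matrix.mulVec_smul, hd]
  congr 1
  apply Finset.sum_congr rfl
  intro i hi
  rw [Finset.mem_range] at hi
  rw [Matrix.mulVec_add, Matrix.mulVec_add, Matrix.mulVec_smul, Matrix.mulVec_smul,
    Matrix.mulVec_smul, Matrix.mulVec_smul, hE i hi, hFv i hi]

theorem pow_succ_mulVec (N : Matrix (Fin n) (Fin n) F) (k : ℕ) (x : Fin n → F) :
    (N ^ (k + 1)) *ᵥ x = (N ^ k) *ᵥ (N *ᵥ x) := by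
  rw [pow_succ, Matrix.mulVec_mulVec]

theorem pow_mulVec_zero_of_le {N : Matrix (Fin n) (Fin n) F} {k l : ℕ} {x : Fin n → F}
    (h : (N ^ k) *ᵥ x = 0) (hkl : k ≤ l) : (N ^ l) *ᵥ x = 0 := by
  obtain ⟨r, rfl⟩ := Nat.exists_eq_add_of_le hkl
  rw [add_comm, pow_add, ← Matrix.mulVec_mulVec, h, Matrix.mulVec_zero]

/-- generic regularity statement -/
theorem regular_of_action (hσ : ∀ x, σ x = x ^ q) (fr : Frame q m E Fv d) (hm : 1 ≤ m)
    (hn : n = 2 * m + 1) (u : Matrix (Fin n) (Fin n) F) (al : ℕ → F) (a c : F)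
    (h0 : u *ᵥ E 0 = E 0)
    (h1 : ∀ j, j + 1 < m → u *ᵥ E (j + 1) = E (j + 1) + al j • (u *ᵥ E j))
    (h2 : u *ᵥ d = d + a • (u *ᵥ E (m - 1)))
    (h3 : u *ᵥ Fv (m - 1) = Fv (m - 1) - σ a • d + c • (u *ᵥ E (m - 1)))
    (h4 : ∀ j, j + 1 < m → u *ᵥ Fv j = Fv j - σ (al j) • Fv (j + 1))
    (hal : ∀ j, j + 1 < m → al j ≠ 0) (ha : a ≠ 0) :
    IsNilpotent (u - 1) ∧ (u - 1) ^ (n - 1) ≠ 0 := by
  obtain ⟨N, hN⟩ : ∃ N : Matrix (Fin n) (Fin n) F, N = u - 1 := ⟨_, rfl⟩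
  rw [← hN]
  have hNv : ∀ x, N *ᵥ x = u *ᵥ x - x := by
    intro x; rw [hN, Matrix.sub_mulVec, Matrix.one_mulVec]
  have huv : ∀ x, u *ᵥ x = x + N *ᵥ x := by
    intro x; rw [hNv]; abel
  -- `E 0 ≠ 0`
  have hE0 : E 0 ≠ 0 := by
    intro h
    have := fr.fe 0 0 (by omega) (by omega)
    rw [h, herm_zero_right hσ, if_pos rfl] at this
    exact zero_ne_one this
  -- the `E j`
  have hEj : ∀ j, j < m → ∃ θ : F, θ ≠ 0 ∧ (N ^ j) *ᵥ E j = θ • E 0 ∧ (N ^ (j + 1)) *ᵥ E j = 0 := by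
    intro j
    induction j with
    | zero =>
      intro _
      refine ⟨1, one_ne_zero, by simp, ?_⟩
      rw [zero_add, pow_one, hNv, h0, sub_self]
    | succ j ih =>
      intro hj
      obtain ⟨θ, hθ, hj1, hj2⟩ := ih (by omega)
      have hNE : N *ᵥ E (j + 1) = al j • (E j + N *ᵥ E j) := by
        rw [hNv, h1 j hj, huv]; abel
      refine ⟨al j * θ, mul_ne_zero (hal j hj) hθ, ?_, ?_⟩
      · rw [pow_succ_mulVec, hNE, Matrix.mulVec_smul, Matrix.mulVec_add, hj1,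
          ← pow_succ_mulVec, hj2, add_zero, smul_smul]
      · rw [pow_succ_mulVec, hNE, Matrix.mulVec_smul, Matrix.mulVec_add, hj2,
          ← pow_succ_mulVec, pow_mulVec_zero_of_le hj2 (by omega), add_zero, smul_zero]
  obtain ⟨θ, hθ, hθ1, hθ2⟩ := hEj (m - 1) (by omega)
  have hm1 : m - 1 + 1 = m := by omega
  rw [hm1] at hθ2
  -- `d`
  have hNd : N *ᵥ d = a • (E (m - 1) + N *ᵥ E (m - 1)) := by
    rw [hNv, h2, huv]; abel
  have hd1 : (N ^ m) *ᵥ d = (a * θ) • E 0 := by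
    have : (N ^ m) *ᵥ d = (N ^ (m - 1 + 1)) *ᵥ d := by rw [hm1]
    rw [this, pow_succ_mulVec, hNd, Matrix.mulVec_smul, Matrix.mulVec_add, hθ1,
      ← pow_succ_mulVec, hm1, hθ2, add_zero, smul_smul]
  have hd2 : (N ^ (m + 1)) *ᵥ d = 0 := by
    rw [pow_succ_mulVec, hNd, Matrix.mulVec_smul, Matrix.mulVec_add, hθ2, ← pow_succ_mulVec,
      pow_mulVec_zero_of_le hθ2 (by omega), add_zero, smul_zero]
  -- `Fv (m - 1)`
  have hNf : N *ᵥ Fv (m - 1) = -(σ a • d) + c • (E (m - 1) + N *ᵥ E (m - 1)) := by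
    rw [hNv, h3, huv]; abel
  have hf1 : (N ^ (m + 1)) *ᵥ Fv (m - 1) = (-(σ a * (a * θ))) • E 0 := by
    rw [pow_succ_mulVec, hNf, Matrix.mulVec_add, Matrix.mulVec_neg, Matrix.mulVec_smul,
      Matrix.mulVec_smul, Matrix.mulVec_add, hd1, hθ2, ← pow_succ_mulVec,
      pow_mulVec_zero_of_le hθ2 (by omega), add_zero, smul_zero, add_zero, smul_smul, neg_smul]
  have hf2 : (N ^ (m + 2)) *ᵥ Fv (m - 1) = 0 := by
    rw [pow_succ_mulVec, hNf, Matrix.mulVec_add, Matrix.mulVec_neg, Matrix.mulVec_smul,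
      Matrix.mulVec_smul, Matrix.mulVec_add, hd2, pow_mulVec_zero_of_le hθ2 (by omega),
      ← pow_succ_mulVec, pow_mulVec_zero_of_le hθ2 (by omega), add_zero, smul_zero, smul_zero,
      neg_zero, add_zero]
  have hσa : σ a ≠ 0 := by
    intro h
    exact ha ((map_eq_zero σ).mp h)
  -- the `Fv (m - 1 - i)`
  have hFj : ∀ i, i < m → ∃ φ : F, φ ≠ 0 ∧
      (N ^ (m + 1 + i)) *ᵥ Fv (m - 1 - i) = φ • E 0 ∧ (N ^ (m + 2 + i)) *ᵥ Fv (m - 1 - i) = 0 := by
    intro i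
    induction i with
    | zero =>
      intro _
      exact ⟨-(σ a * (a * θ)), neg_ne_zero.mpr (mul_ne_zero hσa (mul_ne_zero ha hθ)), hf1, hf2⟩
    | succ i ih =>
      intro hi
      obtain ⟨φ, hφ, hi1, hi2⟩ := ih (by omega)
      have hidx : m - 1 - (i + 1) + 1 = m - 1 - i := by omega
      have hlt : m - 1 - (i + 1) + 1 < m := by omega
      have hNF : N *ᵥ Fv (m - 1 - (i + 1)) = -(σ (al (m - 1 - (i + 1))) • Fv (m - 1 - i)) := by
        rw [hNv, h4 _ hlt, hidx]; abel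
      have hσal : σ (al (m - 1 - (i + 1))) ≠ 0 := by
        intro h
        exact hal _ hlt ((map_eq_zero σ).mp h)
      refine ⟨-(σ (al (m - 1 - (i + 1))) * φ), neg_ne_zero.mpr (mul_ne_zero hσal hφ), ?_, ?_⟩
      · have : m + 1 + (i + 1) = (m + 1 + i) + 1 := by omega
        rw [this, pow_succ_mulVec, hNF, Matrix.mulVec_neg, Matrix.mulVec_smul, hi1, smul_smul,
          neg_smul]
      · have : m + 2 + (i + 1) = (m + 2 + i) + 1 := by omega
        rw [this, pow_succ_mulVec, hNF, Matrix.mulVec_neg, Matrix.mulVec_smul, hi2, smul_zero,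
          neg_zero]
  constructor
  · -- nilpotent
    refine ⟨2 * m + 1, ?_⟩
    apply frame_ext fr
    · intro i hi
      obtain ⟨_, _, _, h⟩ := hEj i hi
      rw [pow_mulVec_zero_of_le h (by omega), Matrix.zero_mulVec]
    · intro i hi
      obtain ⟨_, _, _, h⟩ := hFj (m - 1 - i) (by omega)
      have : m - 1 - (m - 1 - i) = i := by omega
      rw [this] at h
      rw [pow_mulVec_zero_of_le h (by omega), Matrix.zero_mulVec]
    · rw [pow_mulVec_zero_of_le hd2 (by omega), Matrix.zero_mulVec]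
  · intro hcon
    obtain ⟨φ, hφ, h, _⟩ := hFj (m - 1) (by omega)
    have h1' : m + 1 + (m - 1) = n - 1 := by omega
    have h2' : m - 1 - (m - 1) = 0 := by omega
    rw [h1', h2', hcon, Matrix.zero_mulVec] at h
    exact (smul_ne_zero hφ hE0) h.symm

end Cfsg.Agent.Lib.Helper20.SUnP8b
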