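import Cfsg.Agent.Lib.Helper19.SW.Defs
import Cfsg.Agent.Lib.Helper10.SWC2
import Cfsg.Agent.Lib.Helper10.SWC1
import Cfsg.Agent.Lib.Helper20.WongId

/-!
Project SW (helper19), piece C3a (helper20): `case_Z3`, `s3_of_ne_bot`, `case_S3`.
-/

set_option autoImplicit false

namespace Cfsg.Agent.Lib.Helper19.SW

open Cfsg.Agent.Lib.Helper20.WongId

variable {G : Type*} [Group G] [Finite G] {Ω : Type*} [MulAction G Ω] [FaithfulSMul G Ω]

section C3a

variable (hprim : MulAction.IsPreprimitive G Ω) (a b : Ω)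
  (h3 : Nat.card (MulAction.orbit (MulAction.stabilizer G a) b) = 3)
include hprim h3

theorem c3_mem_Ts (x : G) : x ∈ Ts G a b ↔ x • a = a ∧ x • b = b := by
  unfold Ts
  rw [Subgroup.mem_inf, MulAction.mem_stabilizer_iff, MulAction.mem_stabilizer_iff]

/-- if `G_a` normalises `T` then `T = 1`. -/
theorem c3_bot_of_normalized
    (hn : ∀ g ∈ MulAction.stabilizer G a, ∀ t ∈ Ts G a b, g * t * g⁻¹ ∈ Ts G a b) :
    Ts G a b = ⊥ := by
  obtain ⟨n, hna, hnT⟩ := exists_normalizing hprim a b h3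
  have hnB : ∀ k ∈ MulAction.stabilizer G b, ∀ t ∈ Ts G a b, k * t * k⁻¹ ∈ Ts G a b := by
    intro k hk t ht
    -- k = n g n⁻¹ with g ∈ G_a
    have hg : n⁻¹ * k * n ∈ MulAction.stabilizer G a := by
      rw [MulAction.mem_stabilizer_iff] at hk ⊢
      rw [mul_smul, mul_smul, hna, hk, ← hna, inv_smul_smul]
    have h1 : n⁻¹ * t * n ∈ Ts G a b := by
      rw [← hnT]
      have : n * (n⁻¹ * t * n) * n⁻¹ = t := by group
      rw [this]; exact ht
    have h2 := hn _ hg _ h1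
    have h3' := (hnT _).mpr h2
    have : n * ((n⁻¹ * k * n) * (n⁻¹ * t * n) * (n⁻¹ * k * n)⁻¹) * n⁻¹ = k * t * k⁻¹ := by group
    rwa [this] at h3'
  have hnormal : (Ts G a b).Normal :=
    c1_normal_of_sup (MulAction.stabilizer G a) (MulAction.stabilizer G b) (Ts G a b)
      (stab_sup hprim a b h3) hn hnB
  exact stab_corefree hprim a b h3 a (Ts G a b) hnormal inf_le_left

/-- `T ≠ 1`: `T` moves an out-neighbour of `a` (otherwise `T` is normal in `G_a`, hence in `G_b`, hence in `G`). -/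
theorem s3_of_ne_bot (hT : Ts G a b ≠ ⊥) :
    ∃ t ∈ Ts G a b, ∃ w', (∃ g : G, g • a = a ∧ g • b = w') ∧ t • w' ≠ w' := by
  by_contra hcon
  push Not at hcon
  apply hT
  apply c3_bot_of_normalized hprim a b h3
  intro g hg t ht
  rw [MulAction.mem_stabilizer_iff] at hg
  rw [c3_mem_Ts hprim a b h3] at ht ⊢
  have hg' : g⁻¹ • a = a := by
    conv_lhs => rw [← hg]
    exact inv_smul_smul g a
  constructor
  · rw [mul_smul, mul_smul, hg', ht.1, hg]
  · have h1 := hcon t ((c3_mem_Ts hprim a b h3 t).mpr ht) (g⁻¹ • b) ⟨g⁻¹, hg', rfl⟩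
    rw [mul_smul, mul_smul, h1, smul_inv_smul]

/-- `T = 1`: `G_a` is cyclic of order 3. -/
theorem case_Z3 (hT : Ts G a b = ⊥) :
    Nonempty (MulAction.stabilizer G a ≃* Multiplicative (ZMod 3)) := by
  have h1 := relIndex_a hprim a b h3
  have h2 : MulAction.stabilizer G a ⊓ MulAction.stabilizer G b = ⊥ := hT
  rw [h2, Subgroup.relIndex_bot_left] at h1
  exact rec_Z3 h1

theorem c3_mem_Qo (x : G) :
    x ∈ Qo G (fun u w => ∃ g : G, g • a = u ∧ g • b = w) a ↔
      x • a = a ∧ ∀ g : G, g • a = a → x • g • b = g • b := by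
  unfold Qo
  rw [Subgroup.mem_inf, MulAction.mem_stabilizer_iff]
  simp only [Subgroup.mem_iInf, Set.mem_setOf_eq, MulAction.mem_stabilizer_iff]
  constructor
  · rintro ⟨h1, h2⟩
    exact ⟨h1, fun g hg => h2 (g • b) ⟨g, hg, rfl⟩⟩
  · rintro ⟨h1, h2⟩
    refine ⟨h1, ?_⟩
    rintro w ⟨g, hg, rfl⟩
    exact h2 g hg

theorem c3_Qo_le_Ts : Qo G (fun u w => ∃ g : G, g • a = u ∧ g • b = w) a ≤ Ts G a b := by
  intro x hx
  rw [c3_mem_Qo hprim a b h3] at hx
  rw [c3_mem_Ts hprim a b h3]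
  refine ⟨hx.1, ?_⟩
  have := hx.2 1 (one_smul _ _)
  rwa [one_smul] at this

theorem c3_card_Gs : Nat.card (MulAction.stabilizer G a) = 3 * Nat.card (Ts G a b) := by
  have h1 := Cfsg.Agent.Lib.Helper10.SWRed.card_mul_relIndex'
    (T := MulAction.stabilizer G a ⊓ MulAction.stabilizer G b) (H := MulAction.stabilizer G a) inf_le_left
  rw [relIndex_a hprim a b h3] at h1
  show _ = 3 * Nat.card (MulAction.stabilizer G a ⊓ MulAction.stabilizer G b : Subgroup G)
  omega

/-- the permutation representation of `G_a` on the out-neighbours has kernel `Q_a`; hence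
`|G_a|` divides `6 |Q_a|`. -/
theorem c3_card_dvd :
    Nat.card (MulAction.stabilizer G a) ∣
      6 * Nat.card (Qo G (fun u w => ∃ g : G, g • a = u ∧ g • b = w) a) := by
  classical
  let A := MulAction.stabilizer G a
  let φ : A →* Equiv.Perm (MulAction.orbit A b) := MulAction.toPermHom A (MulAction.orbit A b)
  have hker : φ.ker = (Qo G (fun u w => ∃ g : G, g • a = u ∧ g • b = w) a).subgroupOf A := by
    ext x
    rw [MonoidHom.mem_ker, Subgroup.mem_subgroupOf, c3_mem_Qo hprim a b h3]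
    constructor
    · intro hx
      refine ⟨x.2, fun g hg => ?_⟩
      have hmem : g • b ∈ MulAction.orbit A b := ⟨⟨g, hg⟩, rfl⟩
      have h5 := congrArg (fun σ : Equiv.Perm (MulAction.orbit A b) => ((σ ⟨g • b, hmem⟩ : MulAction.orbit A b) : Ω)) hx
      exact h5
    · rintro ⟨-, hx⟩
      ext ⟨w, hw⟩
      obtain ⟨g, rfl⟩ := hw
      show (x : G) • ((g : G) • b) = (g : G) • b
      exact hx g g.2
  have hcardP : Nat.card (Equiv.Perm (MulAction.orbit A b)) = 6 := by
    haveI : Finite (MulAction.orbit A b) := Nat.finite_of_card_ne_zero (by rw [h3]; norm_num)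
    haveI : Fintype (MulAction.orbit A b) := Fintype.ofFinite _
    rw [Nat.card_eq_fintype_card, Fintype.card_perm, ← Nat.card_eq_fintype_card, h3]
    rfl
  have h1 : Nat.card φ.range ∣ 6 := hcardP ▸ Subgroup.card_subgroup_dvd_card φ.range
  have h2 := φ.ker.card_mul_index
  rw [Subgroup.index_ker] at h2
  have h4 : Nat.card φ.ker = Nat.card (Qo G (fun u w => ∃ g : G, g • a = u ∧ g • b = w) a) := by
    rw [hker]
    exact Nat.card_congr (Subgroup.subgroupOfEquivOfLe
      ((c3_Qo_le_Ts hprim a b h3).trans inf_le_left)).toEquiv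
  rw [← h2, h4, mul_comm]
  exact Nat.mul_dvd_mul_right h1 _

/-- `T` is not normal in `G_a` when `T ≠ 1`. -/
theorem c3_not_normal (hT : Ts G a b ≠ ⊥) :
    ¬ ((Ts G a b).subgroupOf (MulAction.stabilizer G a)).Normal := by
  intro hn
  apply hT
  apply c3_bot_of_normalized hprim a b h3
  intro g hg t ht
  have htA : t ∈ MulAction.stabilizer G a := ((c3_mem_Ts hprim a b h3 t).mp ht).1
  have := hn.conj_mem ⟨t, htA⟩ (Subgroup.mem_subgroupOf.mpr ht) ⟨g, hg⟩
  exact Subgroup.mem_subgroupOf.mp this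

theorem c3_card_Ts_ge (hT : Ts G a b ≠ ⊥) : ∃ k : ℕ, 1 ≤ k ∧ Nat.card (Ts G a b) = 2 ^ k := by
  obtain ⟨k, hk⟩ := (IsPGroup.iff_card (p := 2)).mp (two_T hprim a b h3)
  refine ⟨k, ?_, hk⟩
  rcases k with _ | k
  · exfalso
    rw [pow_zero] at hk
    exact hT (Subgroup.card_eq_one.mp hk)
  · omega

/-- `T ≠ 1` and `Q_a = 1`: `G_a ≅ S3`. -/
theorem case_S3 (hT : Ts G a b ≠ ⊥)
    (hQ : Qo G (fun u w => ∃ g : G, g • a = u ∧ g • b = w) a = ⊥) :
    Nonempty (MulAction.stabilizer G a ≃* Equiv.Perm (Fin 3)) := by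
  have h1 := c3_card_dvd hprim a b h3
  rw [hQ, Subgroup.card_bot, mul_one] at h1
  have h2 := c3_card_Gs hprim a b h3
  obtain ⟨k, hk1, hk⟩ := c3_card_Ts_ge hprim a b h3 hT
  have hT2 : Nat.card (Ts G a b) = 2 := by
    rw [h2, hk] at h1
    have h6 : 3 * 2 ^ k ≤ 6 := Nat.le_of_dvd (by norm_num) h1
    have : 2 ^ k ≤ 2 := by omega
    have h2k : 2 ^ 1 ≤ 2 ^ k := Nat.pow_le_pow_right (by norm_num) hk1
    rw [hk]; omega
  have hA6 : Nat.card (MulAction.stabilizer G a) = 6 := by rw [h2, hT2]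
  refine rec_S3 hA6 ((Ts G a b).subgroupOf (MulAction.stabilizer G a)) ?_
    (c3_not_normal hprim a b h3 hT)
  have hle : Ts G a b ≤ MulAction.stabilizer G a := inf_le_left
  rw [Nat.card_congr (Subgroup.subgroupOfEquivOfLe hle).toEquiv, hT2]

end C3a

end Cfsg.Agent.Lib.Helper19.SW
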