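import Cfsg.Agent.Lib.Helper20.SWC3a

/-!
Project SW (helper19), piece C3b (helper20): `case_D12`.
-/

set_option autoImplicit false

namespace Cfsg.Agent.Lib.Helper19.SW

open Cfsg.Agent.Lib.Helper20.WongId

/-- a subgroup of prime relative index 3 is maximal -/
theorem c3_eq_of_relIndex_three {G : Type*} [Group G] {T H A : Subgroup G} (h3 : T.relIndex A = 3)
    (hTH : T ≤ H) (hHA : H ≤ A) (hne : ¬ H ≤ T) : H = A := by
  have h1 := Subgroup.relIndex_mul_relIndex T H A hTH hHA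
  rw [h3] at h1
  have h2 : T.relIndex H ≠ 1 := fun h => hne (Subgroup.relIndex_eq_one.mp h)
  have h4 : T.relIndex H ∣ 3 := ⟨_, h1.symm⟩
  have h5 : T.relIndex H = 3 := by
    rcases (Nat.dvd_prime Nat.prime_three).mp h4 with h | h
    · exact absurd h h2
    · exact h
  rw [h5] at h1
  have h6 : H.relIndex A = 1 := by omega
  exact le_antisymm hHA (Subgroup.relIndex_eq_one.mp h6)

variable {G : Type*} [Group G] [Finite G] {Ω : Type*} [MulAction G Ω] [FaithfulSMul G Ω]

section C3b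

variable (hprim : MulAction.IsPreprimitive G Ω) (a b : Ω)
  (h3 : Nat.card (MulAction.orbit (MulAction.stabilizer G a) b) = 3)
include hprim h3

/-- `Q_a` is normalised by `G_a`. -/
theorem c3_Qo_normal {g q : G} (hg : g ∈ MulAction.stabilizer G a)
    (hq : q ∈ Qo G (fun u w => ∃ g : G, g • a = u ∧ g • b = w) a) :
    g * q * g⁻¹ ∈ Qo G (fun u w => ∃ g : G, g • a = u ∧ g • b = w) a := by
  rw [MulAction.mem_stabilizer_iff] at hg
  rw [c3_mem_Qo hprim a b h3] at hq ⊢
  have hg' : g⁻¹ • a = a := by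
    conv_lhs => rw [← hg]
    exact inv_smul_smul g a
  constructor
  · rw [mul_smul, mul_smul, hg', hq.1, hg]
  · intro k hk
    have h1 := hq.2 (g⁻¹ * k) (by rw [mul_smul, hk, hg'])
    rw [mul_smul, mul_smul, ← mul_smul g⁻¹ k b, h1, mul_smul, smul_inv_smul]

/-- a subgroup of `T` normalised by `G_a` lies in `Q_a`. -/
theorem c3_le_Qo_of_le_Ts (K : Subgroup G) (hK : K ≤ Ts G a b)
    (hn : ∀ g ∈ MulAction.stabilizer G a, ∀ x ∈ K, g * x * g⁻¹ ∈ K) :
    K ≤ Qo G (fun u w => ∃ g : G, g • a = u ∧ g • b = w) a := by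
  intro x hx
  rw [c3_mem_Qo hprim a b h3]
  refine ⟨((c3_mem_Ts hprim a b h3 x).mp (hK hx)).1, fun g hg => ?_⟩
  have hg' : g⁻¹ ∈ MulAction.stabilizer G a :=
    Subgroup.inv_mem _ (MulAction.mem_stabilizer_iff.mpr hg)
  have h1 := hK (hn g⁻¹ hg' x hx)
  have h2 := ((c3_mem_Ts hprim a b h3 _).mp h1).2
  rw [inv_inv, mul_smul, mul_smul] at h2
  calc x • g • b = g • (g⁻¹ • x • g • b) := by rw [smul_inv_smul]
    _ = g • b := by rw [h2]

/-- `|T| = 2 |Q_a|` when `T ≠ 1`. -/
theorem c3_card_Ts_Qo (hT : Ts G a b ≠ ⊥) :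
    Nat.card (Ts G a b) = 2 * Nat.card (Qo G (fun u w => ∃ g : G, g • a = u ∧ g • b = w) a) := by
  have h1 := c3_card_dvd hprim a b h3
  rw [c3_card_Gs hprim a b h3] at h1
  have h2 : Nat.card (Ts G a b) ∣
      2 * Nat.card (Qo G (fun u w => ∃ g : G, g • a = u ∧ g • b = w) a) := by
    have : 3 * Nat.card (Ts G a b) ∣
        3 * (2 * Nat.card (Qo G (fun u w => ∃ g : G, g • a = u ∧ g • b = w) a)) := by
      rw [← mul_assoc]; exact h1
    exact (Nat.mul_dvd_mul_iff_left (by norm_num)).mp this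
  have hle := c3_Qo_le_Ts hprim a b h3
  have h4 : Nat.card (Qo G (fun u w => ∃ g : G, g • a = u ∧ g • b = w) a) ∣ Nat.card (Ts G a b) :=
    Subgroup.card_dvd_of_le hle
  have hne : Nat.card (Qo G (fun u w => ∃ g : G, g • a = u ∧ g • b = w) a) ≠ Nat.card (Ts G a b) := by
    intro heq
    have hEq : Qo G (fun u w => ∃ g : G, g • a = u ∧ g • b = w) a = Ts G a b :=
      Subgroup.eq_of_le_of_card_ge hle heq.ge
    obtain ⟨t, ht, w', ⟨g, hg, rfl⟩, hmove⟩ := s3_of_ne_bot hprim a b h3 hT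
    rw [← hEq, c3_mem_Qo hprim a b h3] at ht
    exact hmove (ht.2 g hg)
  obtain ⟨m, hm⟩ := h4
  have hpos : 0 < Nat.card (Qo G (fun u w => ∃ g : G, g • a = u ∧ g • b = w) a) := Nat.card_pos
  rw [hm] at h2 hne ⊢
  have h5 : m ∣ 2 := by
    rw [mul_comm 2] at h2
    exact (Nat.mul_dvd_mul_iff_left hpos).mp h2
  rcases (Nat.dvd_prime Nat.prime_two).mp h5 with h | h
  · exfalso; apply hne; rw [h, mul_one]
  · rw [h, mul_comm]

/-- if `C_{G_a}(Q_a) ≰ Q_a`, some element of order 3 of `G_a` centralises `Q_a`. -/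
theorem c3_exists_order_three (hT : Ts G a b ≠ ⊥)
    (hc : ¬ MulAction.stabilizer G a ⊓
        Subgroup.centralizer (Qo G (fun u w => ∃ g : G, g • a = u ∧ g • b = w) a : Set G) ≤
      Qo G (fun u w => ∃ g : G, g • a = u ∧ g • b = w) a) :
    ∃ d : G, d ∈ MulAction.stabilizer G a ∧
      (∀ q ∈ Qo G (fun u w => ∃ g : G, g • a = u ∧ g • b = w) a, q * d = d * q) ∧ orderOf d = 3 := by
  classical
  haveI : Fact (Nat.Prime 3) := ⟨by norm_num⟩
  set Q := Qo G (fun u w => ∃ g : G, g • a = u ∧ g • b = w) a with hQdef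
  set A := MulAction.stabilizer G a with hAdef
  set K := A ⊓ Subgroup.centralizer (Q : Set G) with hKdef
  have hKn : ∀ g ∈ A, ∀ x ∈ K, g * x * g⁻¹ ∈ K := by
    intro g hg x hx
    rw [hKdef, Subgroup.mem_inf] at hx ⊢
    refine ⟨A.mul_mem (A.mul_mem hg hx.1) (A.inv_mem hg), ?_⟩
    rw [Subgroup.mem_centralizer_iff]
    intro q hq
    have hq' : g⁻¹ * q * g ∈ Q := by
      have := c3_Qo_normal hprim a b h3 (A.inv_mem hg) hq
      rwa [inv_inv] at this
    have h1 := (Subgroup.mem_centralizer_iff.mp hx.2) _ hq'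
    calc q * (g * x * g⁻¹) = g * ((g⁻¹ * q * g) * x) * g⁻¹ := by group
      _ = g * (x * (g⁻¹ * q * g)) * g⁻¹ := by rw [h1]
      _ = g * x * g⁻¹ * q := by group
  have hKT : ¬ K ≤ Ts G a b := fun h => hc (c3_le_Qo_of_le_Ts hprim a b h3 K h hKn)
  have hTA : Ts G a b ≤ A := inf_le_left
  have hsup : K ⊔ Ts G a b = A := by
    apply c3_eq_of_relIndex_three (relIndex_a hprim a b h3) le_sup_right
      (sup_le inf_le_left hTA)
    intro h
    exact hKT (le_sup_left.trans h)
  -- pass to the group `A`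
  have hK'n : (K.subgroupOf A).Normal := by
    constructor
    intro x hx g
    rw [Subgroup.mem_subgroupOf] at hx ⊢
    exact hKn g g.2 x hx
  have hsup' : K.subgroupOf A ⊔ (Ts G a b).subgroupOf A = ⊤ := by
    rw [← Subgroup.subgroupOf_sup inf_le_left hTA, hsup]
    exact Subgroup.subgroupOf_self A
  have hidx : (K.subgroupOf A).index = (K.subgroupOf A).relIndex ((Ts G a b).subgroupOf A) := by
    have := Subgroup.relIndex_sup_left ((Ts G a b).subgroupOf A) (K.subgroupOf A)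
    rw [hsup', Subgroup.relIndex_top_right] at this
    exact this
  have hdvd : (K.subgroupOf A).index ∣ Nat.card (Ts G a b) := by
    rw [hidx]
    have h1 := Subgroup.relIndex_dvd_card (K.subgroupOf A) ((Ts G a b).subgroupOf A)
    rwa [Nat.card_congr (Subgroup.subgroupOfEquivOfLe hTA).toEquiv] at h1
  obtain ⟨k, hk1, hk⟩ := c3_card_Ts_ge hprim a b h3 hT
  have h3K : 3 ∣ Nat.card (K.subgroupOf A) := by
    have h1 := (K.subgroupOf A).card_mul_index
    rw [c3_card_Gs hprim a b h3] at h1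
    have h2 : 3 ∣ Nat.card (K.subgroupOf A) * (K.subgroupOf A).index := by
      rw [h1]; exact dvd_mul_right 3 _
    have hco : Nat.Coprime 3 (K.subgroupOf A).index := by
      apply Nat.Coprime.coprime_dvd_right hdvd
      rw [hk]
      exact Nat.Coprime.pow_right k (by norm_num)
    exact hco.dvd_of_dvd_mul_right h2
  obtain ⟨d, hd⟩ := exists_prime_orderOf_dvd_card' (G := K.subgroupOf A) 3 h3K
  refine ⟨((d : A) : G), (d : A).2, ?_, ?_⟩
  · have hdK : ((d : A) : G) ∈ K := Subgroup.mem_subgroupOf.mp d.2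
    have hdK2 : ((d : A) : G) ∈ A ⊓ Subgroup.centralizer (Q : Set G) := hdK
    exact fun q hq => (Subgroup.mem_centralizer_iff.mp (Subgroup.mem_inf.mp hdK2).2) q hq
  · rw [← hd, Subgroup.orderOf_coe, Subgroup.orderOf_coe]

theorem c3_mem_Qb (n x : G) :
    x ∈ (Qo G (fun u w => ∃ g : G, g • a = u ∧ g • b = w) a).map (MulAut.conj n).toMonoidHom ↔
      n⁻¹ * x * n ∈ Qo G (fun u w => ∃ g : G, g • a = u ∧ g • b = w) a := by
  rw [Subgroup.mem_map]
  constructor
  · rintro ⟨q, hq, rfl⟩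
    have : n⁻¹ * ((MulAut.conj n).toMonoidHom q) * n = q := by
      simp [MulAut.conj_apply, mul_assoc]
    rw [this]; exact hq
  · intro h
    refine ⟨_, h, ?_⟩
    simp [MulAut.conj_apply, mul_assoc]

/-- `Q_b = n Q_a n⁻¹` is normalised by `G_b`. -/
theorem c3_Qb_normal (n : G) (hna : n • a = b) {g x : G} (hg : g ∈ MulAction.stabilizer G b)
    (hx : x ∈ (Qo G (fun u w => ∃ g : G, g • a = u ∧ g • b = w) a).map
      (MulAut.conj n).toMonoidHom) :
    g * x * g⁻¹ ∈ (Qo G (fun u w => ∃ g : G, g • a = u ∧ g • b = w) a).map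
      (MulAut.conj n).toMonoidHom := by
  rw [c3_mem_Qb hprim a b h3] at hx ⊢
  have hg' : n⁻¹ * g * n ∈ MulAction.stabilizer G a := by
    rw [MulAction.mem_stabilizer_iff] at hg ⊢
    rw [mul_smul, mul_smul, hna, hg, ← hna, inv_smul_smul]
  have := c3_Qo_normal hprim a b h3 hg' hx
  have h2 : n⁻¹ * g * n * (n⁻¹ * x * n) * (n⁻¹ * g * n)⁻¹ = n⁻¹ * (g * x * g⁻¹) * n := by group
  rwa [h2] at this

/-- `D = Q_a ∩ Q_b = 1` when `C_{G_a}(Q_a) ≰ Q_a`. -/
theorem c3_D_bot (hT : Ts G a b ≠ ⊥)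
    (hc : ¬ MulAction.stabilizer G a ⊓
        Subgroup.centralizer (Qo G (fun u w => ∃ g : G, g • a = u ∧ g • b = w) a : Set G) ≤
      Qo G (fun u w => ∃ g : G, g • a = u ∧ g • b = w) a)
    (n : G) (hna : n • a = b) (hnT : ∀ x, n * x * n⁻¹ ∈ Ts G a b ↔ x ∈ Ts G a b) :
    Qo G (fun u w => ∃ g : G, g • a = u ∧ g • b = w) a ⊓
      (Qo G (fun u w => ∃ g : G, g • a = u ∧ g • b = w) a).map (MulAut.conj n).toMonoidHom = ⊥ := by
  classical
  obtain ⟨d, hdA, hdQ, hd3⟩ := c3_exists_order_three hprim a b h3 hT hc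
  set Q := Qo G (fun u w => ∃ g : G, g • a = u ∧ g • b = w) a with hQdef
  set Qb := Q.map (MulAut.conj n).toMonoidHom with hQbdef
  obtain ⟨k, hk1, hk⟩ := c3_card_Ts_ge hprim a b h3 hT
  have hQT : Q ≤ Ts G a b := c3_Qo_le_Ts hprim a b h3
  have hTA : Ts G a b ≤ MulAction.stabilizer G a := inf_le_left
  have hTB : Ts G a b ≤ MulAction.stabilizer G b := inf_le_right
  have hdT : d ∉ Ts G a b := by
    intro h
    have := Subgroup.orderOf_dvd_natCard _ h
    rw [hd3, hk] at this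
    have h2 : (3 : ℕ) ∣ 2 := Nat.Prime.dvd_of_dvd_pow Nat.prime_three this
    omega
  -- T normalises D
  have hTN : Ts G a b ≤ Subgroup.normalizer ((Q ⊓ Qb : Subgroup G) : Set G) := by
    intro t ht
    rw [Subgroup.mem_normalizer_iff]
    intro x
    constructor
    · intro hx
      exact ⟨c3_Qo_normal hprim a b h3 (hTA ht) hx.1, c3_Qb_normal hprim a b h3 n hna (hTB ht) hx.2⟩
    · intro hx
      have ht' := (Ts G a b).inv_mem ht
      have h1 := c3_Qo_normal hprim a b h3 (hTA ht') hx.1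
      have h2 := c3_Qb_normal hprim a b h3 n hna (hTB ht') hx.2
      have e : t⁻¹ * (t * x * t⁻¹) * t⁻¹⁻¹ = x := by group
      rw [e] at h1 h2
      exact ⟨h1, h2⟩
  -- d normalises D
  have hdN : d ∈ Subgroup.normalizer ((Q ⊓ Qb : Subgroup G) : Set G) := by
    rw [Subgroup.mem_normalizer_iff]
    intro x
    constructor
    · intro hx
      have : d * x * d⁻¹ = x := by
        rw [← hdQ x hx.1]; group
      rw [this]; exact hx
    · intro hx
      have h1 := hdQ _ hx.1
      have : x = d * x * d⁻¹ := by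
        have h2 : d * x * d⁻¹ * d = d * (d * x * d⁻¹) := h1
        have h3' : d * x * d⁻¹ * d = d * x := by group
        rw [h3'] at h2
        exact mul_left_cancel h2
      rw [this]; exact hx
  have hAN : MulAction.stabilizer G a ≤ Subgroup.normalizer ((Q ⊓ Qb : Subgroup G) : Set G) := by
    have hsup : Ts G a b ⊔ Subgroup.zpowers d = MulAction.stabilizer G a := by
      apply c3_eq_of_relIndex_three (relIndex_a hprim a b h3) le_sup_left
        (sup_le hTA ((Subgroup.zpowers_le).mpr hdA))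
      intro h
      exact hdT (h (le_sup_right (a := Ts G a b) (Subgroup.mem_zpowers d)))
    rw [← hsup]
    exact sup_le hTN ((Subgroup.zpowers_le).mpr hdN)
  -- the conjugate element d_b
  have hdbB : n * d * n⁻¹ ∈ MulAction.stabilizer G b := by
    rw [MulAction.mem_stabilizer_iff] at hdA ⊢
    rw [mul_smul, mul_smul, ← hna, inv_smul_smul, hdA]
  have hdbT : n * d * n⁻¹ ∉ Ts G a b := fun h => hdT ((hnT d).mp h)
  have hdbN : n * d * n⁻¹ ∈ Subgroup.normalizer ((Q ⊓ Qb : Subgroup G) : Set G) := by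
    have hcomm : ∀ x ∈ Qb, x * (n * d * n⁻¹) = (n * d * n⁻¹) * x := by
      intro x hx
      rw [hQbdef, c3_mem_Qb hprim a b h3] at hx
      have h1 := hdQ _ hx
      calc x * (n * d * n⁻¹) = n * ((n⁻¹ * x * n) * d) * n⁻¹ := by group
        _ = n * (d * (n⁻¹ * x * n)) * n⁻¹ := by rw [h1]
        _ = n * d * n⁻¹ * x := by group
    rw [Subgroup.mem_normalizer_iff]
    intro x
    constructor
    · intro hx
      have : n * d * n⁻¹ * x * (n * d * n⁻¹)⁻¹ = x := by
        rw [← hcomm x hx.2]; group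
      rw [this]; exact hx
    · intro hx
      have h1 := hcomm _ hx.2
      have : x = n * d * n⁻¹ * x * (n * d * n⁻¹)⁻¹ := by
        have h2 : n * d * n⁻¹ * x * (n * d * n⁻¹)⁻¹ * (n * d * n⁻¹) =
            n * d * n⁻¹ * (n * d * n⁻¹ * x * (n * d * n⁻¹)⁻¹) := h1
        have h3' : n * d * n⁻¹ * x * (n * d * n⁻¹)⁻¹ * (n * d * n⁻¹) = n * d * n⁻¹ * x := by group
        rw [h3'] at h2
        exact mul_left_cancel h2
      rw [this]; exact hx
  have hBN : MulAction.stabilizer G b ≤ Subgroup.normalizer ((Q ⊓ Qb : Subgroup G) : Set G) := by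
    have hsup : Ts G a b ⊔ Subgroup.zpowers (n * d * n⁻¹) = MulAction.stabilizer G b := by
      apply c3_eq_of_relIndex_three (relIndex_b hprim a b h3) le_sup_left
        (sup_le hTB ((Subgroup.zpowers_le).mpr hdbB))
      intro h
      exact hdbT (h (le_sup_right (a := Ts G a b) (Subgroup.mem_zpowers _)))
    rw [← hsup]
    exact sup_le hTN ((Subgroup.zpowers_le).mpr hdbN)
  have hnormal : (Q ⊓ Qb).Normal :=
    c1_normal_of_sup (MulAction.stabilizer G a) (MulAction.stabilizer G b) (Q ⊓ Qb)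
      (stab_sup hprim a b h3)
      (fun g hg x hx => (Subgroup.mem_normalizer_iff.mp (hAN hg) x).mp hx)
      (fun g hg x hx => (Subgroup.mem_normalizer_iff.mp (hBN hg) x).mp hx)
  exact stab_corefree hprim a b h3 a (Q ⊓ Qb) hnormal (inf_le_left.trans (hQT.trans hTA))

/-- `Q_a ≠ 1` and `C_{G_a}(Q_a) ≰ Q_a`: `G_a ≅ D12`. -/
theorem case_D12 (hT : Ts G a b ≠ ⊥)
    (hQ : Qo G (fun u w => ∃ g : G, g • a = u ∧ g • b = w) a ≠ ⊥)
    (hc : ¬ MulAction.stabilizer G a ⊓
        Subgroup.centralizer (Qo G (fun u w => ∃ g : G, g • a = u ∧ g • b = w) a : Set G) ≤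
      Qo G (fun u w => ∃ g : G, g • a = u ∧ g • b = w) a) :
    Nonempty (MulAction.stabilizer G a ≃* DihedralGroup 6) := by
  classical
  obtain ⟨n, hna, hnT⟩ := exists_normalizing hprim a b h3
  have hD := c3_D_bot hprim a b h3 hT hc n hna hnT
  set Q := Qo G (fun u w => ∃ g : G, g • a = u ∧ g • b = w) a with hQdef
  set Qb := Q.map (MulAut.conj n).toMonoidHom with hQbdef
  have hQT : Q ≤ Ts G a b := c3_Qo_le_Ts hprim a b h3
  have hTA : Ts G a b ≤ MulAction.stabilizer G a := inf_le_left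
  have hQbT : Qb ≤ Ts G a b := by
    intro x hx
    rw [hQbdef, c3_mem_Qb hprim a b h3] at hx
    have := (hnT _).mpr (hQT hx)
    have e : n * (n⁻¹ * x * n) * n⁻¹ = x := by group
    rwa [e] at this
  have hcardQb : Nat.card Qb = Nat.card Q :=
    Subgroup.card_map_of_injective (MulAut.conj n).injective
  have hTQ := c3_card_Ts_Qo hprim a b h3 hT
  have hrelQ : Q.relIndex (Ts G a b) = 2 := by
    have h1 := Cfsg.Agent.Lib.Helper10.SWRed.card_mul_relIndex' hQT
    rw [hTQ] at h1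
    have hpos : 0 < Nat.card Q := Nat.card_pos
    nlinarith
  have hrelQb : Qb.relIndex (Ts G a b) = 2 := by
    have h1 := Cfsg.Agent.Lib.Helper10.SWRed.card_mul_relIndex' hQbT
    rw [hTQ, hcardQb] at h1
    have hpos : 0 < Nat.card Q := Nat.card_pos
    nlinarith
  -- |Q| = 2
  have hQ2 : Nat.card Q = 2 := by
    have h1 : Nat.card Q = Qb.relIndex Q := by
      rw [← Subgroup.inf_relIndex_right, inf_comm, hD, Subgroup.relIndex_bot_left]
    have h2 : Qb.relIndex Q ≤ Qb.relIndex (Ts G a b) :=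
      Subgroup.relIndex_le_of_le_right hQT (by rw [hrelQb]; norm_num)
    have h3' : Nat.card Q ≠ 1 := fun h => hQ (Subgroup.card_eq_one.mp h)
    have hpos : 0 < Nat.card Q := Nat.card_pos
    omega
  have hT4 : Nat.card (Ts G a b) = 4 := by rw [hTQ, hQ2]
  have hA12 : Nat.card (MulAction.stabilizer G a) = 12 := by
    rw [c3_card_Gs hprim a b h3, hT4]
  -- T is elementary abelian
  have hsq : ∀ t ∈ Ts G a b, t * t = 1 := by
    intro t ht
    have h1 : t * t ∈ Q := by
      have := Subgroup.mul_self_mem_of_index_two (H := Q.subgroupOf (Ts G a b)) hrelQ ⟨t, ht⟩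
      exact Subgroup.mem_subgroupOf.mp this
    have h2 : t * t ∈ Qb := by
      have := Subgroup.mul_self_mem_of_index_two (H := Qb.subgroupOf (Ts G a b)) hrelQb ⟨t, ht⟩
      exact Subgroup.mem_subgroupOf.mp this
    have h3' : t * t ∈ Q ⊓ Qb := ⟨h1, h2⟩
    rw [hD] at h3'
    exact Subgroup.mem_bot.mp h3'
  refine rec_D12 hA12 ((Ts G a b).subgroupOf (MulAction.stabilizer G a)) ?_ ?_
    (c3_not_normal hprim a b h3 hT)
  · rw [Nat.card_congr (Subgroup.subgroupOfEquivOfLe hTA).toEquiv, hT4]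
  · intro t ht
    have := hsq (t : G) (Subgroup.mem_subgroupOf.mp ht)
    exact Subtype.ext this

end C3b

end Cfsg.Agent.Lib.Helper19.SW
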