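import Mathlib

/-!
# Groups with no proper nontrivial `Φ`-invariant normal subgroup are powers of a simple group

`exists_simple_pow`: if `N` is a nontrivial finite group and `Φ` a subgroup of `MulAut N` such that
the only normal `Φ`-invariant subgroups of `N` are `⊥` and `⊤`, then `N ≃* (Fin m → T)` for a simple
group `T : Type` and `m > 0`.   (Applications: minimal normal subgroups, characteristically simple
groups.)
-/

set_option autoImplicit false

namespace Cfsg.Agent.Lib.Helper20

universe u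

/-- every finite group has a copy in `Type` -/
theorem exists_type0_copy (S : Type u) [Group S] [Finite S] :
    ∃ (T : Type) (_ : Group T), Nonempty (S ≃* T) := by
  exact ⟨Shrink.{0} S, inferInstance, ⟨(Shrink.mulEquiv : Shrink.{0} S ≃* S).symm⟩⟩

/-- `(Fin m → T) × T ≃* (Fin (m+1) → T)` -/
def snocMulEquiv (T : Type*) [Group T] (m : ℕ) : (Fin m → T) × T ≃* (Fin (m + 1) → T) where
  toFun p := Fin.snoc p.1 p.2
  invFun f := (Fin.init f, f (Fin.last m))
  left_inv p := by simp
  right_inv f := by simp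
  map_mul' p q := by
    funext i
    refine Fin.lastCases ?_ (fun j => ?_) i
    · simp
    · simp

section
variable {G : Type*} [Group G]

/-- internal direct product of two commuting disjoint subgroups -/
noncomputable def prodEquivSup (J X : Subgroup G) (hcomm : ∀ (j : J) (x : X), Commute (J.subtype j) (X.subtype x))
    (hdisj : Disjoint J X) : J × X ≃* ↥(J ⊔ X) := by
  have hinj : Function.Injective (MonoidHom.noncommCoprod J.subtype X.subtype hcomm) := by
    rw [MonoidHom.noncommCoprod_injective]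
    refine ⟨J.subtype_injective, X.subtype_injective, ?_⟩
    rwa [Subgroup.range_subtype, Subgroup.range_subtype]
  have hrange : (MonoidHom.noncommCoprod J.subtype X.subtype hcomm).range = J ⊔ X := by
    rw [MonoidHom.noncommCoprod_range, Subgroup.range_subtype, Subgroup.range_subtype]
  exact (MonoidHom.ofInjective hinj).trans (MulEquiv.subgroupCongr hrange)

end

/-- `M` is isomorphic to a finite power of `T` -/
def IsPow (T : Type) [Group T] {N : Type*} [Group N] (M : Subgroup N) : Prop :=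
  ∃ m : ℕ, Nonempty (M ≃* (Fin m → T))

theorem exists_simple_pow {N : Type u} [Group N] [Finite N] [Nontrivial N]
    (Φ : Subgroup (MulAut N))
    (hΦ : ∀ M : Subgroup N, M.Normal → (∀ φ ∈ Φ, M.map (φ : N ≃* N).toMonoidHom = M) →
      M = ⊥ ∨ M = ⊤) :
    ∃ (T : Type) (_ : Group T) (m : ℕ), IsSimpleGroup T ∧ 0 < m ∧
      Nonempty (N ≃* (Fin m → T)) := by
  classical
  -- a minimal normal subgroup S of N
  obtain ⟨S, -, ⟨hSn, hSne⟩, hSmin⟩ := exists_minimal_le_of_wellFoundedLT
    (fun S : Subgroup N => S.Normal ∧ S ≠ ⊥) ⊤ ⟨inferInstance, top_ne_bot⟩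
  have hSmin' : ∀ S' : Subgroup N, S'.Normal → S' ≤ S → S' = ⊥ ∨ S' = S := by
    intro S' hS'n hS'le
    by_cases hb : S' = ⊥
    · exact Or.inl hb
    · exact Or.inr (le_antisymm hS'le (hSmin ⟨hS'n, hb⟩ hS'le))
  obtain ⟨T, hTg, ⟨eST⟩⟩ := exists_type0_copy S
  -- conjugates of S
  have hXn : ∀ φ : MulAut N, (S.map (φ : N ≃* N).toMonoidHom).Normal :=
    fun φ => hSn.map _ (φ : N ≃* N).surjective
  have hXmin : ∀ φ : MulAut N, ∀ S' : Subgroup N, S'.Normal →
      S' ≤ S.map (φ : N ≃* N).toMonoidHom → S' = ⊥ ∨ S' = S.map (φ : N ≃* N).toMonoidHom := by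
    intro φ S' hS'n hS'le
    have h1 : (S'.map ((φ⁻¹ : MulAut N) : N ≃* N).toMonoidHom).Normal :=
      hS'n.map _ ((φ⁻¹ : MulAut N) : N ≃* N).surjective
    have h2 : S'.map ((φ⁻¹ : MulAut N) : N ≃* N).toMonoidHom ≤ S := by
      rintro _ ⟨x, hx, rfl⟩
      obtain ⟨s, hs, rfl⟩ := hS'le hx
      have : ((φ⁻¹ : MulAut N) : N ≃* N).toMonoidHom ((φ : N ≃* N).toMonoidHom s) = s := by
        change (φ⁻¹ : MulAut N) (φ s) = s
        simp
      rw [this]; exact hs
    have hback : (S'.map ((φ⁻¹ : MulAut N) : N ≃* N).toMonoidHom).map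
        (φ : N ≃* N).toMonoidHom = S' := by
      ext x
      constructor
      · rintro ⟨_, ⟨y, hy, rfl⟩, rfl⟩
        have : (φ : N ≃* N).toMonoidHom (((φ⁻¹ : MulAut N) : N ≃* N).toMonoidHom y) = y := by
          change φ ((φ⁻¹ : MulAut N) y) = y
          simp
        rw [this]; exact hy
      · intro hx
        refine ⟨(φ⁻¹ : MulAut N) x, ⟨x, hx, rfl⟩, ?_⟩
        change φ ((φ⁻¹ : MulAut N) x) = x
        simp
    rcases hSmin' _ h1 h2 with h | h
    · left; rw [← hback, h, Subgroup.map_bot]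
    · right; rw [← hback, h]
  -- the join of all Φ-conjugates is ⊤
  have hJtot : (⨆ φ : Φ, S.map ((φ : MulAut N) : N ≃* N).toMonoidHom) = ⊤ := by
    have hn : (⨆ φ : Φ, S.map ((φ : MulAut N) : N ≃* N).toMonoidHom).Normal := by
      have : ∀ φ : Φ, (S.map ((φ : MulAut N) : N ≃* N).toMonoidHom).Normal := fun φ => hXn φ
      exact Subgroup.iSup_normal _
    have hinv : ∀ ψ ∈ Φ, (⨆ φ : Φ, S.map ((φ : MulAut N) : N ≃* N).toMonoidHom).map
        (ψ : N ≃* N).toMonoidHom = ⨆ φ : Φ, S.map ((φ : MulAut N) : N ≃* N).toMonoidHom := by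
      intro ψ hψ
      have hle : ∀ ψ ∈ Φ, (⨆ φ : Φ, S.map ((φ : MulAut N) : N ≃* N).toMonoidHom).map
          (ψ : N ≃* N).toMonoidHom ≤ ⨆ φ : Φ, S.map ((φ : MulAut N) : N ≃* N).toMonoidHom := by
        intro ψ hψ
        rw [Subgroup.map_iSup]
        apply iSup_le
        intro φ
        refine le_trans ?_ (le_iSup (fun φ : Φ => S.map ((φ : MulAut N) : N ≃* N).toMonoidHom)
          ⟨ψ * φ, mul_mem hψ φ.2⟩)
        rintro _ ⟨_, ⟨s, hs, rfl⟩, rfl⟩
        exact ⟨s, hs, rfl⟩
      apply le_antisymm (hle ψ hψ)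
      intro x hx
      have h1 := hle ψ⁻¹ (inv_mem hψ) ⟨x, hx, rfl⟩
      refine ⟨_, h1, ?_⟩
      change ψ ((ψ⁻¹ : MulAut N) x) = x
      simp
    rcases hΦ _ hn hinv with h | h
    · exfalso
      apply hSne
      rw [eq_bot_iff, ← h]
      refine le_trans ?_ (le_iSup (fun φ : Φ => S.map ((φ : MulAut N) : N ≃* N).toMonoidHom)
        ⟨1, one_mem Φ⟩)
      intro s hs
      exact ⟨s, hs, rfl⟩
    · exact h
  -- a maximal J
  have hS0 : S ≤ S ∧ S.Normal ∧ S ≤ S ⊔ Subgroup.centralizer (S : Set N) ∧ IsPow T S := by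
    refine ⟨le_rfl, hSn, le_sup_left, 1, ⟨?_⟩⟩
    exact eST.trans (MulEquiv.funUnique (Fin 1) T).symm
  obtain ⟨J, -, ⟨hSJ, hJn, hJc, hJpow⟩, hJmax⟩ := exists_maximal_ge_of_wellFoundedGT
    (fun J : Subgroup N => S ≤ J ∧ J.Normal ∧ J ≤ S ⊔ Subgroup.centralizer (S : Set N) ∧ IsPow T J)
    S hS0
  have hJtop : J = ⊤ := by
    by_contra hne
    have hex : ∃ φ : Φ, ¬ S.map ((φ : MulAut N) : N ≃* N).toMonoidHom ≤ J := by
      by_contra hcon
      push Not at hcon
      apply hne
      rw [eq_top_iff, ← hJtot]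
      exact iSup_le hcon
    obtain ⟨φ, hφ⟩ := hex
    set X := S.map ((φ : MulAut N) : N ≃* N).toMonoidHom with hX
    have hXnorm : X.Normal := hXn φ
    have hdisj : Disjoint J X := by
      rw [disjoint_iff]
      have := hJn
      have := hXnorm
      rcases hXmin φ (J ⊓ X) inferInstance inf_le_right with h | h
      · exact h
      · exact absurd (h.ge.trans inf_le_left) hφ
    have hcomm : ∀ (j : J) (x : X), Commute (j : N) (x : N) := fun j x =>
      Subgroup.commute_of_normal_of_disjoint J X hJn hXnorm hdisj j x j.2 x.2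
    have hXc : X ≤ Subgroup.centralizer (S : Set N) := by
      intro x hx
      rw [Subgroup.mem_centralizer_iff]
      intro s hs
      exact (hcomm ⟨s, hSJ hs⟩ ⟨x, hx⟩).eq
    have hJ' : S ≤ J ⊔ X ∧ (J ⊔ X).Normal ∧ J ⊔ X ≤ S ⊔ Subgroup.centralizer (S : Set N) ∧
        IsPow T (J ⊔ X : Subgroup N) := by
      have := hJn
      have := hXnorm
      refine ⟨hSJ.trans le_sup_left, inferInstance, sup_le hJc (hXc.trans le_sup_right), ?_⟩
      obtain ⟨m, ⟨eJ⟩⟩ := hJpow
      have eX : X ≃* T :=
        (S.equivMapOfInjective _ ((φ : MulAut N) : N ≃* N).injective).symm.trans eST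
      exact ⟨m + 1, ⟨(prodEquivSup J X hcomm hdisj).symm.trans
        ((MulEquiv.prodCongr eJ eX).trans (snocMulEquiv T m))⟩⟩
    have := hJmax hJ' le_sup_left
    exact hφ (le_sup_right.trans this)
  subst hJtop
  -- S is simple
  have hSsimple : IsSimpleGroup S := by
    have : Nontrivial S := (Subgroup.nontrivial_iff_ne_bot S).mpr hSne
    refine ⟨fun K hK => ?_⟩
    -- K.map S.subtype is normal in N
    have hKn : (K.map S.subtype).Normal := by
      rw [← Subgroup.normalizer_eq_top_iff, eq_top_iff]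
      refine le_trans hJc (sup_le ?_ ?_)
      · intro s hs
        rw [Subgroup.mem_set_normalizer_iff]
        intro x
        constructor
        · rintro ⟨k, hk, rfl⟩
          exact ⟨⟨s, hs⟩ * k * ⟨s, hs⟩⁻¹, hK.conj_mem k hk ⟨s, hs⟩, by simp⟩
        · rintro ⟨k, hk, hkx⟩
          have hxS : x ∈ S := by
            have h1 : x = s⁻¹ * (s * x * s⁻¹) * s := by group
            rw [h1, ← hkx]
            exact mul_mem (mul_mem (inv_mem hs) k.2) hs
          refine ⟨⟨x, hxS⟩, ?_, rfl⟩
          have h2 := hK.conj_mem k hk (⟨s, hs⟩⁻¹ : S)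
          have h3 : (⟨s, hs⟩⁻¹ : S) * k * (⟨s, hs⟩⁻¹ : S)⁻¹ = ⟨x, hxS⟩ := by
            apply Subtype.ext
            have hkx' : (k : N) = s * x * s⁻¹ := hkx
            simp only [Subgroup.coe_mul, Subgroup.coe_inv, inv_inv]
            rw [hkx']; group
          rwa [h3] at h2
      · intro c hc
        rw [Subgroup.mem_centralizer_iff] at hc
        rw [Subgroup.mem_set_normalizer_iff]
        intro x
        have hfix : ∀ y ∈ S, c * y * c⁻¹ = y := fun y hy => by
          rw [← hc y hy]; group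
        constructor
        · rintro ⟨k, hk, rfl⟩
          exact ⟨k, hk, (hfix k k.2).symm⟩
        · rintro ⟨k, hk, hkx⟩
          have hx' : x = c⁻¹ * (k : N) * c := by
            have : (k : N) = c * x * c⁻¹ := hkx
            rw [this]; group
          have hxk : x = k := by
            rw [hx']
            have := hfix k k.2
            calc c⁻¹ * (k : N) * c = c⁻¹ * (c * k * c⁻¹) * c := by rw [this]
              _ = k := by group
          rw [hxk]; exact ⟨k, hk, rfl⟩
    rcases hSmin' _ hKn (by rintro _ ⟨k, _, rfl⟩; exact k.2) with h | h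
    · left
      rw [Subgroup.map_eq_bot_iff_of_injective _ S.subtype_injective] at h
      exact h
    · right
      rw [eq_top_iff]
      intro s _
      have hs : (s : N) ∈ K.map S.subtype := by rw [h]; exact s.2
      obtain ⟨k, hk, hks⟩ := hs
      have : k = s := Subtype.ext hks
      rw [← this]; exact hk
  obtain ⟨m, ⟨eJ⟩⟩ := hJpow
  refine ⟨T, hTg, m, ?_, ?_, ⟨(Subgroup.topEquiv (G := N)).symm.trans eJ⟩⟩
  · exact eST.symm.isSimpleGroup
  · rcases Nat.eq_zero_or_pos m with h0 | h0
    · exfalso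
      subst h0
      have e := (Subgroup.topEquiv (G := N)).symm.trans eJ
      have : Subsingleton N := e.toEquiv.subsingleton
      exact not_subsingleton N this
    · exact h0

/-- A minimal normal subgroup of a finite group is a direct power of a simple group. -/
theorem minimal_normal_simple_pow {H : Type*} [Group H] [Finite H] (N : Subgroup H) [hNn : N.Normal]
    (hN : N ≠ ⊥) (hmin : ∀ M : Subgroup H, M.Normal → M ≤ N → M = ⊥ ∨ M = N) :
    ∃ (T : Type) (_ : Group T) (m : ℕ), IsSimpleGroup T ∧ 0 < m ∧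
      Nonempty (N ≃* (Fin m → T)) := by
  haveI : Nontrivial N := (Subgroup.nontrivial_iff_ne_bot N).mpr hN
  apply exists_simple_pow (MulAut.conjNormal (H := N)).range
  intro M hMn hMinv
  -- M.map N.subtype is normal in H
  have hn : (M.map N.subtype).Normal := by
    constructor
    rintro _ ⟨x, hx, rfl⟩ h
    have h1 := hMinv (MulAut.conjNormal h) ⟨h, rfl⟩
    have h2 : (MulAut.conjNormal h : N ≃* N) x ∈ M := by
      rw [← h1]; exact ⟨x, hx, rfl⟩
    exact ⟨_, h2, by simp [MulAut.conjNormal_apply]⟩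
  rcases hmin _ hn (by rintro _ ⟨x, _, rfl⟩; exact x.2) with h | h
  · left
    rwa [Subgroup.map_eq_bot_iff_of_injective _ N.subtype_injective] at h
  · right
    rw [eq_top_iff]
    intro x _
    have hx : (x : H) ∈ M.map N.subtype := by rw [h]; exact x.2
    obtain ⟨y, hy, hyx⟩ := hx
    have : y = x := Subtype.ext hyx
    rw [← this]; exact hy

end Cfsg.Agent.Lib.Helper20
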