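import Mathlib

set_option autoImplicit false

namespace Cfsg.Agent.Lib.Helper20.SylNorm

open Subgroup

variable {G : Type*} [Group G] [Finite G]

/-- Frattini: `N_G(QN) = N_G(Q) N` for `Q` Sylow in `G`, `N` normal. -/
theorem normalizer_sup_eq (q : ℕ) [Fact q.Prime] (Q : Sylow q G) (N : Subgroup G) [hN : N.Normal] :
    normalizer ((((Q : Subgroup G) ⊔ N : Subgroup G)) : Set G)
      = normalizer ((Q : Subgroup G) : Set G) ⊔ N := by
  apply le_antisymm
  · intro g hg
    have h1 : (Q : Subgroup G) ≤ (Q : Subgroup G) ⊔ N := le_sup_left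
    have h2 : ((g • Q : Sylow q G) : Subgroup G) ≤ (Q : Subgroup G) ⊔ N := by
      intro x hx
      rw [Sylow.smul_def, Sylow.pointwise_smul_def, Subgroup.mem_pointwise_smul_iff_inv_smul_mem] at hx
      simp only [MulAut.smul_def, MulAut.conj_inv_apply] at hx
      have h3 : g⁻¹ * x * g ∈ (Q : Subgroup G) ⊔ N := h1 hx
      have h4 := (Subgroup.mem_normalizer_iff.mp hg (g⁻¹ * x * g)).mp h3
      have e : g * (g⁻¹ * x * g) * g⁻¹ = x := by group
      rwa [e] at h4
    obtain ⟨m, hm⟩ := MulAction.exists_smul_eq (↥((Q : Subgroup G) ⊔ N)) (Q.subtype h1)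
      ((g • Q).subtype h2)
    rw [Sylow.smul_subtype] at hm
    have hm' : m • Q = g • Q := Sylow.subtype_injective hm
    obtain ⟨y, hy, z, hz, hyz⟩ := Subgroup.mem_sup_of_normal_right.mp m.2
    have hfix : (z⁻¹ * y⁻¹ * g) • Q = Q := by
      rw [mul_smul, ← hm']
      show (z⁻¹ * y⁻¹) • ((m : G) • Q) = Q
      rw [← mul_smul, ← hyz]
      have : z⁻¹ * y⁻¹ * (y * z) = 1 := by group
      rw [this, one_smul]
    have hmem : z⁻¹ * y⁻¹ * g ∈ normalizer ((Q : Subgroup G) : Set G) :=
      Sylow.smul_eq_iff_mem_normalizer.mp hfix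
    have e : g = y * z * (z⁻¹ * y⁻¹ * g) := by group
    rw [e]
    refine Subgroup.mul_mem _ (Subgroup.mul_mem _ ?_ ?_) (Subgroup.mem_sup_left hmem)
    · exact Subgroup.mem_sup_left (Subgroup.le_normalizer hy)
    · exact Subgroup.mem_sup_right hz
  · apply sup_le
    · intro g hg
      rw [Subgroup.mem_normalizer_iff]
      have key : ∀ g ∈ normalizer ((Q : Subgroup G) : Set G), ∀ x ∈ (Q : Subgroup G) ⊔ N,
          g * x * g⁻¹ ∈ (Q : Subgroup G) ⊔ N := by
        intro g hg x hx
        obtain ⟨y, hy, z, hz, rfl⟩ := Subgroup.mem_sup_of_normal_right.mp hx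
        have e : g * (y * z) * g⁻¹ = (g * y * g⁻¹) * (g * z * g⁻¹) := by group
        rw [e]
        exact Subgroup.mul_mem _
          (Subgroup.mem_sup_left ((Subgroup.mem_normalizer_iff.mp hg y).mp hy))
          (Subgroup.mem_sup_right (hN.conj_mem z hz g))
      intro x
      constructor
      · exact key g hg x
      · intro hx
        have := key g⁻¹ (Subgroup.inv_mem _ hg) _ hx
        have e : g⁻¹ * (g * x * g⁻¹) * g⁻¹⁻¹ = x := by group
        rwa [e] at this
    · exact le_trans le_sup_right Subgroup.le_normalizer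

/-- `|HN : H| = |N : H ∩ N|` for `N` normal. -/
theorem relIndex_sup_of_normal (H N : Subgroup G) [N.Normal] :
    H.relIndex (H ⊔ N) = H.relIndex N := by
  have hpos : 0 < Nat.card (H ⊓ N : Subgroup G) := Nat.card_pos
  have e1 : Nat.card H * H.relIndex (H ⊔ N) = Nat.card (H ⊔ N : Subgroup G) := by
    have := Subgroup.relIndex_mul_relIndex (⊥ : Subgroup G) H (H ⊔ N) bot_le le_sup_left
    rwa [Subgroup.relIndex_bot_left, Subgroup.relIndex_bot_left] at this
  have e2 : Nat.card N * N.relIndex (H ⊔ N) = Nat.card (H ⊔ N : Subgroup G) := by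
    have := Subgroup.relIndex_mul_relIndex (⊥ : Subgroup G) N (H ⊔ N) bot_le le_sup_right
    rwa [Subgroup.relIndex_bot_left, Subgroup.relIndex_bot_left] at this
  have e3 : N.relIndex (H ⊔ N) = (H ⊓ N).relIndex H := by
    rw [Subgroup.relIndex_sup_right, inf_comm, Subgroup.inf_relIndex_right]
  have e4 : Nat.card (H ⊓ N : Subgroup G) * (H ⊓ N).relIndex H = Nat.card H := by
    have := Subgroup.relIndex_mul_relIndex (⊥ : Subgroup G) (H ⊓ N) H bot_le inf_le_left
    rwa [Subgroup.relIndex_bot_left, Subgroup.relIndex_bot_left] at this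
  have e5 : Nat.card (H ⊓ N : Subgroup G) * (H ⊓ N).relIndex N = Nat.card N := by
    have := Subgroup.relIndex_mul_relIndex (⊥ : Subgroup G) (H ⊓ N) N bot_le inf_le_right
    rwa [Subgroup.relIndex_bot_left, Subgroup.relIndex_bot_left] at this
  have e6 : (H ⊓ N).relIndex N = H.relIndex N := Subgroup.inf_relIndex_right H N
  rw [e3] at e2
  rw [e6] at e5
  have hposH : 0 < Nat.card H := Nat.card_pos
  have h7 : Nat.card H * H.relIndex (H ⊔ N) = Nat.card H * H.relIndex N := by
    rw [e1, ← e2, ← e5, ← e4]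
    ring
  exact Nat.eq_of_mul_eq_mul_left hposH h7

/-- `n_q(G) = n_q(G/N) · |N : N_N(Q)|`. -/
theorem card_sylow_eq (q : ℕ) [Fact q.Prime] (Q : Sylow q G) (N : Subgroup G) [N.Normal] :
    Nat.card (Sylow q G) = Nat.card (Sylow q (G ⧸ N)) *
      (normalizer ((Q : Subgroup G) : Set G)).relIndex N := by
  have hπ := QuotientGroup.mk'_surjective N
  have hQb : Nat.card (Sylow q (G ⧸ N)) = (normalizer
      (((Q : Subgroup G).map (QuotientGroup.mk' N) : Subgroup (G ⧸ N)) : Set (G ⧸ N))).index :=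
    (Q.mapSurjective hπ).card_eq_index_normalizer
  have hQ : Nat.card (Sylow q G) = (normalizer ((Q : Subgroup G) : Set G)).index :=
    Q.card_eq_index_normalizer
  rw [hQ, hQb]
  rw [← Subgroup.index_comap_of_surjective _ hπ, Subgroup.comap_normalizer_eq_of_surjective _ hπ]
  have hcm : ((Q : Subgroup G).map (QuotientGroup.mk' N)).comap (QuotientGroup.mk' N)
      = (Q : Subgroup G) ⊔ N := by
    rw [Subgroup.comap_map_eq, QuotientGroup.ker_mk']
  rw [hcm, normalizer_sup_eq]
  rw [← Subgroup.relIndex_mul_index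
    (le_sup_left : normalizer ((Q : Subgroup G) : Set G) ≤ normalizer ((Q : Subgroup G) : Set G) ⊔ N),
    relIndex_sup_of_normal, mul_comm]

end Cfsg.Agent.Lib.Helper20.SylNorm
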