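import Mathlib
import Cfsg.Agent.Lib.Lead.Coprime
import Cfsg.Agent.Lib.Helper5.InvSylow
import Cfsg.Agent.Lib.helper23.SylowQuot
import Cfsg.Agent.Lib.Helper20.SylNormA

set_option autoImplicit false

namespace Cfsg.Agent.Lib.Helper20.SylNorm

open Subgroup
open scoped Pointwise

variable {G : Type*} [Group G] [Finite G]

/-- If `p ∤ |G : C|` and `N` is normal then `p ∤ |N : C ∩ N|`. -/
theorem not_dvd_relIndex_of_not_dvd_index {p : ℕ} (C N : Subgroup G) [N.Normal]
    (h : ¬ p ∣ C.index) : ¬ p ∣ C.relIndex N := by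
  intro hd
  apply h
  rw [← relIndex_sup_of_normal] at hd
  exact dvd_trans hd (Subgroup.relIndex_dvd_index_of_le le_sup_left)

/-- A subgroup of `R` of full `p`-power order. -/
theorem exists_full_psubgroup (p : ℕ) [Fact p.Prime] (R : Subgroup G) :
    ∃ P : Subgroup G, P ≤ R ∧ Nat.card P = p ^ (Nat.card R).factorization p := by
  let S : Sylow p R := default
  refine ⟨(S : Subgroup R).map R.subtype, ?_, ?_⟩
  · rintro _ ⟨x, _, rfl⟩
    exact x.2
  · rw [Subgroup.card_map_of_injective R.subtype_injective]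
    exact S.card_eq_multiplicity

omit [Finite G] in
theorem mem_centralizer_singleton_iff {x y : G} :
    y ∈ Subgroup.centralizer ({x} : Set G) ↔ x * y = y * x := by
  rw [Subgroup.mem_centralizer_iff]
  constructor
  · intro h
    exact h x rfl
  · intro h z hz
    rw [Set.mem_singleton_iff] at hz
    rw [hz]
    exact h

/-- the key step: a `Q`-invariant full `p`-subgroup of `N` is centralized by `x ∈ Q`. -/
theorem le_centralizer_of_invariant (p q : ℕ) [Fact p.Prime] [Fact q.Prime]
    (N : Subgroup G) [N.Normal] (hN : (Nat.card N).Coprime q) (x : G)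
    (hxq : ∃ k : ℕ, orderOf x = q ^ k)
    (hx : ¬ p ∣ (Subgroup.centralizer ({x} : Set G)).index)
    (P₀ : Subgroup G) (hP₀N : P₀ ≤ N) (hP₀c : Nat.card P₀ = p ^ (Nat.card N).factorization p)
    (hP₀x : x ∈ normalizer (P₀ : Set G)) :
    P₀ ≤ Subgroup.centralizer ({x} : Set G) := by
  have hp : p.Prime := Fact.out
  set C := Subgroup.centralizer ({x} : Set G) with hC
  have hrel : ¬ p ∣ C.relIndex N := not_dvd_relIndex_of_not_dvd_index C N hx
  obtain ⟨P₁, hP₁le, hP₁c⟩ := exists_full_psubgroup p (C ⊓ N)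
  have hfac : (Nat.card (C ⊓ N : Subgroup G)).factorization p = (Nat.card N).factorization p := by
    have e := Subgroup.relIndex_mul_relIndex (⊥ : Subgroup G) (C ⊓ N) N bot_le inf_le_right
    rw [Subgroup.relIndex_bot_left, Subgroup.relIndex_bot_left, Subgroup.inf_relIndex_right] at e
    have h1 : Nat.card (C ⊓ N : Subgroup G) ≠ 0 := Nat.card_pos.ne'
    have h2 : C.relIndex N ≠ 0 := by
      intro h0
      rw [h0, mul_zero] at e
      exact (Nat.card_pos (α := N)).ne' e.symm
    rw [← e, Nat.factorization_mul h1 h2, Finsupp.add_apply,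
      Nat.factorization_eq_zero_of_not_dvd hrel, add_zero]
  rw [hfac] at hP₁c
  have hP₁N : P₁ ≤ N := le_trans hP₁le inf_le_right
  have hP₁C : P₁ ≤ C := le_trans hP₁le inf_le_left
  obtain ⟨k, hkN, hk⟩ := Cfsg.Agent.Lib.helper23.exists_conj_of_card N P₀ P₁ hP₀N hP₁N hP₀c hP₁c
  have hP₀eq : P₀ = MulAut.conj k • P₁ := by
    ext y
    rw [hk y, Subgroup.mem_pointwise_smul_iff_inv_smul_mem]
    simp only [MulAut.smul_def, MulAut.conj_inv_apply]
  set A := Subgroup.zpowers x with hA
  have hAN : A ≤ Subgroup.normalizer (N : Set G) := by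
    rw [Subgroup.normalizer_eq_top_iff.mpr inferInstance]; exact le_top
  have hcop : (Nat.card A).Coprime (Nat.card N) := by
    rw [hA, Nat.card_zpowers]
    obtain ⟨j, hj⟩ := hxq
    rw [hj]
    exact Nat.Coprime.pow_left j hN.symm
  have hsolv : Group.IsSolvable A :=
    Group.isSolvable_of_comm (fun a b =>
      (inferInstance : IsMulCommutative (Subgroup.zpowers x)).is_comm.comm a b)
  have hcomm : ∀ a ∈ A, ∀ y ∈ C, a * y = y * a := by
    intro a ha y hy
    rw [hA, Subgroup.mem_zpowers_iff] at ha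
    obtain ⟨n, rfl⟩ := ha
    have : Commute x y := mem_centralizer_singleton_iff.mp hy
    exact (this.zpow_left n).eq
  have hX : A ≤ Subgroup.normalizer (P₁ : Set G) := by
    rw [Subgroup.le_normalizer_iff]
    intro a ha y hy
    have := hcomm a ha y (hP₁C hy)
    rw [this, mul_inv_cancel_right]
    exact hy
  have hkX : A ≤ Subgroup.normalizer ((MulAut.conj k • P₁ : Subgroup G) : Set G) := by
    rw [← hP₀eq, hA, Subgroup.zpowers_le]
    exact hP₀x
  obtain ⟨c, hc, hcX⟩ := Cfsg.Agent.Lib.Lead.conj_by_centralizer A N hAN hcop (Or.inl hsolv) P₁ hX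
    k hkN hkX
  rw [← hP₀eq] at hcX
  intro y hy
  rw [← hcX, Subgroup.mem_pointwise_smul_iff_inv_smul_mem] at hy
  simp only [MulAut.smul_def, MulAut.conj_inv_apply] at hy
  have h1 : x * (c⁻¹ * y * c) = (c⁻¹ * y * c) * x :=
    mem_centralizer_singleton_iff.mp (hP₁C hy)
  have hcx : c * x = x * c := by
    have : c ∈ Subgroup.centralizer (A : Set G) := hc.2
    rw [Subgroup.mem_centralizer_iff] at this
    exact (this x (Subgroup.mem_zpowers x)).symm
  rw [mem_centralizer_singleton_iff]
  have e1 : x * y = c * (x * (c⁻¹ * y * c)) * c⁻¹ := by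
    have : c * (x * (c⁻¹ * y * c)) * c⁻¹ = (c * x) * c⁻¹ * y := by group
    rw [this, hcx]; group
  have e2 : y * x = c * ((c⁻¹ * y * c) * x) * c⁻¹ := by
    have : c * ((c⁻¹ * y * c) * x) * c⁻¹ = y * ((c * x) * c⁻¹) := by group
    rw [this, hcx]; group
  rw [e1, e2, h1]

end Cfsg.Agent.Lib.Helper20.SylNorm
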