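import Mathlib
import Cfsg.Prelude.Def_Local
import Cfsg.Agent.S4024
import Cfsg.Agent.Lib.Helper5.PConstr
import Cfsg.Agent.Lib.Helper20.SylNormB

set_option autoImplicit false

namespace Cfsg.Agent.Lib.Helper20.SylNorm

open Subgroup
open scoped Pointwise

universe u

section
variable {G : Type*} [Group G] [Finite G]

theorem exists_qpow_lift (q : ℕ) [Fact q.Prime] (N : Subgroup G) [N.Normal] (yb : G ⧸ N)
    (hyb : ∃ k : ℕ, orderOf yb = q ^ k) :
    ∃ y : G, (∃ k : ℕ, orderOf y = q ^ k) ∧ QuotientGroup.mk' N y = yb := by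
  have hq : q.Prime := Fact.out
  obtain ⟨y₀, hy₀⟩ := QuotientGroup.mk'_surjective N yb
  have hn : orderOf y₀ ≠ 0 := (orderOf_pos y₀).ne'
  obtain ⟨a, m, hm, hnm⟩ := Nat.exists_eq_pow_mul_and_not_dvd hn q hq.ne_one
  obtain ⟨k, hk⟩ := hyb
  have hcop : m.Coprime (orderOf yb) := by
    rw [hk]
    exact Nat.Coprime.pow_right k ((Nat.Prime.coprime_iff_not_dvd hq).mpr hm).symm
  obtain ⟨u, hu⟩ := exists_pow_eq_self_of_coprime hcop
  refine ⟨(y₀ ^ m) ^ u, ?_, ?_⟩
  · have h1 : ((y₀ ^ m) ^ u) ^ (q ^ a) = 1 := by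
      rw [← pow_mul, ← pow_mul]
      have : m * (u * q ^ a) = (q ^ a * m) * u := by ring
      rw [this, ← hnm, pow_mul, pow_orderOf_eq_one, one_pow]
    have h2 : orderOf ((y₀ ^ m) ^ u) ∣ q ^ a := orderOf_dvd_of_pow_eq_one h1
    obtain ⟨j, _, hj⟩ := (Nat.dvd_prime_pow hq).mp h2
    exact ⟨j, hj⟩
  · rw [map_pow, map_pow, hy₀, hu]

theorem hyp_quotient (p q : ℕ) [Fact q.Prime] (N : Subgroup G) [N.Normal]
    (h : ∀ y : G, (∃ k : ℕ, orderOf y = q ^ k) →
      ¬ p ∣ (Subgroup.centralizer ({y} : Set G)).index) :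
    ∀ yb : G ⧸ N, (∃ k : ℕ, orderOf yb = q ^ k) →
      ¬ p ∣ (Subgroup.centralizer ({yb} : Set (G ⧸ N))).index := by
  intro yb hyb hd
  obtain ⟨y, hy, rfl⟩ := exists_qpow_lift q N yb hyb
  apply h y hy
  have hle : (Subgroup.centralizer ({y} : Set G)).map (QuotientGroup.mk' N) ≤
      Subgroup.centralizer ({QuotientGroup.mk' N y} : Set (G ⧸ N)) := by
    rintro _ ⟨c, hc, rfl⟩
    have hc' : c ∈ Subgroup.centralizer ({y} : Set G) := hc
    rw [mem_centralizer_singleton_iff] at hc' ⊢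
    rw [← map_mul, ← map_mul, hc']
  exact dvd_trans hd (dvd_trans (Subgroup.index_dvd_of_le hle)
    (Subgroup.index_map_dvd _ (QuotientGroup.mk'_surjective N)))

omit [Finite G] in
theorem mem_sylow_orderOf (q : ℕ) [Fact q.Prime] (Q : Sylow q G) {x : G} (hx : x ∈ Q) :
    ∃ k : ℕ, orderOf x = q ^ k := by
  obtain ⟨k, hk⟩ := (IsPGroup.iff_orderOf.mp Q.2) ⟨x, hx⟩
  refine ⟨k, ?_⟩
  rw [← hk]
  exact (Subgroup.orderOf_mk x hx).symm

theorem not_dvd_relIndex (p q : ℕ) [Fact p.Prime] [Fact q.Prime] (Q : Sylow q G)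
    (N : Subgroup G) [N.Normal]
    (h : ∀ y : G, (∃ k : ℕ, orderOf y = q ^ k) →
      ¬ p ∣ (Subgroup.centralizer ({y} : Set G)).index)
    (hN : ((∃ m : ℕ, Nat.card N = p ^ m) ∨ (Nat.card N).Coprime p) ∨
      ((∃ m : ℕ, Nat.card N = q ^ m) ∨ (Nat.card N).Coprime q)) :
    ¬ p ∣ (normalizer ((Q : Subgroup G) : Set G)).relIndex N := by
  have hp : p.Prime := Fact.out
  have hq : q.Prime := Fact.out
  rcases hN with (⟨m, hm⟩ | hcop) | (⟨m, hm⟩ | hcop)
  · -- N a p-group: Q centralizes N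
    have hcent : N ≤ Subgroup.centralizer ((Q : Subgroup G) : Set G) := by
      intro n hn
      rw [Subgroup.mem_centralizer_iff]
      intro a ha
      have hC := not_dvd_relIndex_of_not_dvd_index (Subgroup.centralizer ({a} : Set G)) N
        (h a (mem_sylow_orderOf q Q ha))
      have hdvd : (Subgroup.centralizer ({a} : Set G)).relIndex N ∣ p ^ m := by
        rw [← hm]; exact Subgroup.relIndex_dvd_card _ _
      obtain ⟨j, _, hj⟩ := (Nat.dvd_prime_pow hp).mp hdvd
      have hj0 : j = 0 := by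
        by_contra hne
        apply hC
        rw [hj]
        exact dvd_pow_self p hne
      rw [hj0, pow_zero] at hj
      have := Subgroup.relIndex_eq_one.mp hj hn
      exact mem_centralizer_singleton_iff.mp this
    have hle : N ≤ normalizer ((Q : Subgroup G) : Set G) :=
      le_trans hcent (Subgroup.centralizer_le_normalizer _)
    rw [Subgroup.relIndex_eq_one.mpr hle]
    exact hp.not_dvd_one
  · intro hd
    have := dvd_trans hd (Subgroup.relIndex_dvd_card _ N)
    exact hp.not_dvd_one (hcop ▸ Nat.dvd_gcd this dvd_rfl)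
  · have hNq : IsPGroup q N := IsPGroup.of_card hm
    have hle : N ≤ normalizer ((Q : Subgroup G) : Set G) :=
      le_trans (Cfsg.Agent.S4024.normal_pgroup_le_sylow N hNq Q) Subgroup.le_normalizer
    rw [Subgroup.relIndex_eq_one.mpr hle]
    exact hp.not_dvd_one
  · -- coprime action
    have hQN : (Q : Subgroup G) ≤ Subgroup.normalizer (N : Set G) := by
      rw [Subgroup.normalizer_eq_top_iff.mpr inferInstance]; exact le_top
    have hcopQ : (Nat.card (Q : Subgroup G)).Coprime (Nat.card N) := by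
      obtain ⟨k, hk⟩ := Q.2.exists_card_eq
      rw [hk]
      exact Nat.Coprime.pow_left k hcop.symm
    have hsolv : Group.IsSolvable (Q : Subgroup G) := by
      have := Q.2.isNilpotent
      infer_instance
    obtain ⟨P₀, hP₀N, -, hP₀Q, hP₀c⟩ := Cfsg.Agent.Lib.Helper5.exists_invariant_sylow_sub
      (Q : Subgroup G) N hQN hcopQ hsolv p
    have hP₀cent : P₀ ≤ Subgroup.centralizer ((Q : Subgroup G) : Set G) := by
      intro y hy
      rw [Subgroup.mem_centralizer_iff]
      intro a ha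
      have := le_centralizer_of_invariant p q N hcop a (mem_sylow_orderOf q Q ha)
        (h a (mem_sylow_orderOf q Q ha)) P₀ hP₀N hP₀c (hP₀Q ha) hy
      exact mem_centralizer_singleton_iff.mp this
    have hle : P₀ ≤ normalizer ((Q : Subgroup G) : Set G) ⊓ N :=
      le_inf (le_trans hP₀cent (Subgroup.centralizer_le_normalizer _)) hP₀N
    intro hd
    have e := Subgroup.relIndex_mul_relIndex (⊥ : Subgroup G)
      (normalizer ((Q : Subgroup G) : Set G) ⊓ N) N bot_le inf_le_right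
    rw [Subgroup.relIndex_bot_left, Subgroup.relIndex_bot_left, Subgroup.inf_relIndex_right] at e
    have h1 : p ^ (Nat.card N).factorization p ∣
        Nat.card (normalizer ((Q : Subgroup G) : Set G) ⊓ N : Subgroup G) := by
      rw [← hP₀c]; exact Subgroup.card_dvd_of_le hle
    have h2 : p ^ ((Nat.card N).factorization p + 1) ∣ Nat.card N := by
      rw [pow_succ]
      have h3 := mul_dvd_mul h1 hd
      rwa [e] at h3
    exact Nat.pow_succ_factorization_not_dvd (Nat.card_pos (α := N)).ne' hp h2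

end

theorem main (p q : ℕ) [Fact p.Prime] [Fact q.Prime] :
    ∀ (n : ℕ) (G : Type u) [Group G] [Finite G], Nat.card G = n →
      (Cfsg.IsPSolvable p G ∨ Cfsg.IsPSolvable q G) →
      (∀ y : G, (∃ k : ℕ, orderOf y = q ^ k) →
        ¬ p ∣ (Subgroup.centralizer ({y} : Set G)).index) →
      ¬ p ∣ Nat.card (Sylow q G) := by
  intro n
  induction n using Nat.strong_induction_on with
  | _ n ih =>
  intro G _ _ hn hsolv h
  have hp : p.Prime := Fact.out
  by_cases htriv : Subsingleton G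
  · have Q : Sylow q G := default
    have h1 : Nat.card (Sylow q G) ∣ Nat.card G :=
      dvd_trans Q.card_dvd_index (Subgroup.index_dvd_card _)
    rw [Nat.card_eq_one_iff_unique.mpr ⟨htriv, ⟨1⟩⟩, Nat.dvd_one] at h1
    rw [h1]
    exact hp.not_dvd_one
  have hnt : Nontrivial G := not_subsingleton_iff_nontrivial.mp htriv
  have hex : ∃ N : Subgroup G, N.Normal ∧ N ≠ ⊥ ∧
      (((∃ m : ℕ, Nat.card N = p ^ m) ∨ (Nat.card N).Coprime p) ∨
      ((∃ m : ℕ, Nat.card N = q ^ m) ∨ (Nat.card N).Coprime q)) := by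
    rcases hsolv with hs | hs
    · obtain ⟨N, h1, h2, h3⟩ := Cfsg.Agent.S4024.exists_normal_p_or_p' hs
      exact ⟨N, h1, h2, Or.inl h3⟩
    · obtain ⟨N, h1, h2, h3⟩ := Cfsg.Agent.S4024.exists_normal_p_or_p' hs
      exact ⟨N, h1, h2, Or.inr h3⟩
  obtain ⟨N, hNn, hN0, hNcases⟩ := hex
  have hcardQ : Nat.card (G ⧸ N) < n := by
    rw [← hn, ← Subgroup.index_eq_card, ← N.card_mul_index]
    have h1 : 1 < Nat.card N := (Subgroup.one_lt_card_iff_ne_bot N).mpr hN0
    have h2 : 0 < N.index := Nat.pos_of_ne_zero Subgroup.index_ne_zero_of_finite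
    nlinarith
  have hsolvQ : Cfsg.IsPSolvable p (G ⧸ N) ∨ Cfsg.IsPSolvable q (G ⧸ N) := by
    rcases hsolv with hs | hs
    · exact Or.inl (Cfsg.Agent.Lib.Helper5.h5_isPSolvable_of_surjective (QuotientGroup.mk' N)
        (QuotientGroup.mk'_surjective N) hs)
    · exact Or.inr (Cfsg.Agent.Lib.Helper5.h5_isPSolvable_of_surjective (QuotientGroup.mk' N)
        (QuotientGroup.mk'_surjective N) hs)
  have ihQ := ih _ hcardQ (G ⧸ N) rfl hsolvQ (hyp_quotient p q N h)
  have Q : Sylow q G := default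
  rw [card_sylow_eq q Q N]
  intro hd
  rcases (Nat.Prime.dvd_mul hp).mp hd with h1 | h1
  · exact ihQ h1
  · exact not_dvd_relIndex p q Q N h hNcases h1

end Cfsg.Agent.Lib.Helper20.SylNorm
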