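import Mathlib
import Cfsg.Agent.Lib.helper3.T2E.Defs3
import Cfsg.Agent.Lib.helper8.ChevTwE6H16
import Cfsg.Agent.Lib.Helper20.T2EC2
import Cfsg.Agent.Lib.Helper26.T2ED13e
import Cfsg.Agent.Lib.Helper29.T2EC1

/-!
# Project T2E (S2108), row C3 (helper20): `CLm_pairs` VERBATIM = C1 (helper29) + C2 (helper20) + D13e (helper26).
-/

set_option autoImplicit false
set_option linter.unusedVariables false

namespace Cfsg.Agent.Lib.helper3.T2E

open Cfsg.Lie Cfsg.Lie.ChevalleyDatum Matrix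
open Cfsg.Agent.Lib.helper8 Cfsg.Agent.Lib.Helper10.TEM Cfsg.Agent.Lib.helper7.Ce
  Cfsg.Agent.Lib.helper15.St2

universe u

variable {K : Type u} [Field K] {q : ℕ} {f : K ≃+* K} {Γ : Type u} [Group Γ]
  {π : Γ →* ↥(twistedE6 K q)}

-- ROW C3 [S]  C1 + C2 + D13e.
theorem CLm_pairs [Fintype K] (hq : IsPrimePow q) (hK : Fintype.card K = q ^ 2) (h2 : q ≠ 2)
    (hF : Frob q f) (hπ : IsCE π) (a b : ℕ)
    (hab : (a, b) ∈ [(42, 44), (40, 44), (46, 47), (39, 47), (56, 57), (42, 57), (39, 43), (39, 44),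
      (44, 43), (39, 56)]) :
    ∀ t u, Adm q a t → Adm q b u → CLm π (XT q a t) (XT q b u) :=
  t2ec3h20_CLm_pairs_core hF hπ
    (fun a b ha hb hcomm h hh h1 h2 => CLm_of_sep hF hπ a b ha hb hcomm h hh h1 h2)
    (fun a b hab => sep_pairs hq hK h2 hF a b hab)
    (fun a b hab t u => comm_one hF a b hab t u) a b hab

end Cfsg.Agent.Lib.helper3.T2E
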