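import Mathlib
import Cfsg.Agent.Lib.helper17.T3.DefsC
import Cfsg.Agent.Lib.helper7.CeG
import Cfsg.Agent.Lib.helper4.T3CT2

/-!
# Family T3 (S2110), project T3C (designer helper17), rows T8 (`CLT_all`) + L1 (`Zl_map Zl_eq Zl_comm`) + L2 (`Zl_add_left Zl_add_right`), VERBATIM vs `helper17/T3/SkelC.lean.txt` (helper20).
T8 on the landed rows T2 / T3 of helper24's block (`helper4.T3CT2`) and helper7's `exists_sq_ne_one`; it does not wait for T1–T7 of this skeleton.
-/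

set_option autoImplicit false
set_option linter.unusedSectionVars false

namespace Cfsg.Agent.Lib.helper17.T3

open Cfsg.Agent.Lib.helper15.St2 Cfsg.Agent.Lib.helper7.Ce Matrix

variable {F K : Type*} [Field F] [Field K] [Algebra F K]

variable {C : Cub F K} {G Γ : Type*} [Group G] [Group Γ]

section T

variable (S : SysT C G) {σ : Γ →* G}

/-- [T8] [S] assembly of T1–T7 (`exists_sq_ne_one'`). -/
theorem CLT_all [Finite K] (hK : 4 ≤ Nat.card K) (hC : C.Good) (h : IsCE σ) (L : ShortLift S σ) : CLT S σ := by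
  have := Fintype.ofFinite K
  obtain ⟨u, hu0, hu1⟩ := Cfsg.Agent.Lib.helper7.Ce.exists_sq_ne_one K (by rw [← Nat.card_eq_fintype_card]; exact hK)
  have hs : ∃ s : K, s ≠ 0 ∧ s ^ 2 ≠ 1 := ⟨u, hu0, by rw [pow_two]; exact hu1⟩
  exact
    { ss0 := fun k s t => h.CL_of_lift' (L.map k s) (L.map k t) (by rw [L.add, L.add, add_comm])
      ll0 := fun k c d => Cfsg.Agent.Lib.Helper24.T3C.CL_ll0 h hC S k c d
      sl0 := fun k s c => Cfsg.Agent.Lib.Helper24.T3C.CL_sl0 h S k s c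
      sl1 := fun k s c => Cfsg.Agent.Lib.Helper24.T3C.CL_sl1 h hs S k s c
      ls1 := fun k c s => Cfsg.Agent.Lib.Helper24.T3C.CL_ls1 h S k c s
      ll1 := fun k c d => Cfsg.Agent.Lib.Helper24.T3C.CL_ll1 h hC S k c d
      ls2 := fun k c s => Cfsg.Agent.Lib.Helper24.T3C.CL_ls2 h hs S k c s }

end T

section L

variable {S : SysT C G} {σ : Γ →* G}

/-- [L1] [S] `map_cm`, `L.map`, `S.ss1`. -/
theorem Zl_map (L : ShortLift S σ) (k : ZMod 6) (s t : K) : σ (Zl L k s t) = S.xl k (-(C.tr (s * t))) := by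
  unfold Zl
  rw [map_cm, L.map, L.map, S.ss1]

/-- [L1] [S] `IsCE.cm_congr`. -/
theorem Zl_eq (h : IsCE σ) (L : ShortLift S σ) (k : ZMod 6) {s t : K} {p q : Γ} (hp : σ p = S.xs k s) (hq : σ q = S.xs (k + 1) t) : cm p q = Zl L k s t := by
  unfold Zl
  exact h.cm_congr (by rw [hp, L.map]) (by rw [hq, L.map])

/-- [L1] [S] two `Zl`'s (same `k`) commute: `hT.ll0` applied to the lifts `Zl_map`. -/
theorem Zl_comm (hT : CLT S σ) (L : ShortLift S σ) (k : ZMod 6) (s t s' t' : K) : Zl L k s t * Zl L k s' t' = Zl L k s' t' * Zl L k s t :=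
  hT.ll0 k _ _ _ _ (Zl_map L k s t) (Zl_map L k s' t')

/-- [L2] [S] `cm_mul_left (X k s) (X k s') (X (k+1) t)` with `L.add`; `X k s` commutes with `Zl L k s' t` (`hT.sl0` on the lifts `L.map`, `Zl_map`). -/
theorem Zl_add_left (hT : CLT S σ) (L : ShortLift S σ) (k : ZMod 6) (s s' t : K) : Zl L k (s + s') t = Zl L k s t * Zl L k s' t := by
  have e1 : Zl L k (s + s') t = cm (L.X k s * L.X k s') (L.X (k + 1) t) := by
    unfold Zl
    rw [L.add]
  have e2 : L.X k s * Zl L k s' t = Zl L k s' t * L.X k s := hT.sl0 k s _ _ _ (L.map k s) (Zl_map L k s' t)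
  rw [e1, cm_mul_left]
  show L.X k s * Zl L k s' t * (L.X k s)⁻¹ * Zl L k s t = Zl L k s t * Zl L k s' t
  rw [e2, mul_inv_cancel_right, Zl_comm hT]

/-- [L2] [S] `cm_mul_right`; `X (k+1) t` commutes with `Zl L k s t'` (`hT.ls1`). -/
theorem Zl_add_right (hT : CLT S σ) (L : ShortLift S σ) (k : ZMod 6) (s t t' : K) : Zl L k s (t + t') = Zl L k s t * Zl L k s t' := by
  have e1 : Zl L k s (t + t') = cm (L.X k s) (L.X (k + 1) t * L.X (k + 1) t') := by
    unfold Zl
    rw [L.add]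
  have e2 : L.X (k + 1) t * Zl L k s t' = Zl L k s t' * L.X (k + 1) t :=
    ((hT.ls1 k _ t).symm) _ _ (L.map (k + 1) t) (Zl_map L k s t')
  rw [e1, cm_mul_right]
  show Zl L k s t * (L.X (k + 1) t * Zl L k s t' * (L.X (k + 1) t)⁻¹) = Zl L k s t * Zl L k s t'
  rw [e2, mul_inv_cancel_right]

end L

end Cfsg.Agent.Lib.helper17.T3
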