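import Mathlib
import Cfsg.Agent.Lib.helper23.TD4V.Defs
import Cfsg.Agent.S1048

/-!
# Project TD4V (designer helper23), rows U3 `QmK_inf_PK` and U4 `cell_unique`, cores (writer helper20)

`td4vu3_core`: the statement of U3 with the statements of U1 (`PK_upper`) and U2 (`QmK_lower`) as hypotheses.
`td4vu4_core`: the statement of U4 with the statement of U3 as hypothesis (S1048 cited from `Cfsg.Agent.S1048`).
-/

set_option autoImplicit false

namespace Cfsg.Agent.Lib.helper23.TD4V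

open Cfsg.Lie Cfsg.Lie.ChevalleyDatum Matrix
open Cfsg.Agent.Lib.helper8 Cfsg.Agent.Lib.helper8.TD4
open Cfsg.Agent.Lib.helper23.P4V

universe u v

section U

variable {K : Type u} [Field K]

theorem td4vu3_core
    (hU1 : ∀ (g : GG K), g ∈ PK K → ∀ (i j : chevD4.Idx), dg i < dg j →
      (g : Matrix chevD4.Idx chevD4.Idx K) i j = 0)
    (hU2 : ∀ (g : GG K), g ∈ QmK K → ∀ (i j : chevD4.Idx),
      (dg j < dg i → (g : Matrix chevD4.Idx chevD4.Idx K) i j = 0) ∧
      (dg i = dg j → (g : Matrix chevD4.Idx chevD4.Idx K) i j = if i = j then 1 else 0)) :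
    QmK K ⊓ PK K = ⊥ := by
  rw [eq_bot_iff]
  rintro g ⟨hgQ, hgP⟩
  rw [Subgroup.mem_bot]
  apply Units.ext
  ext i j
  rw [Units.val_one, Matrix.one_apply]
  rcases lt_trichotomy (dg i) (dg j) with h | h | h
  · rw [hU1 g hgP i j h, if_neg]
    rintro rfl
    exact lt_irrefl _ h
  · exact (hU2 g hgQ i j).2 h
  · rw [(hU2 g hgQ i j).1 h, if_neg]
    rintro rfl
    exact lt_irrefl _ h

theorem td4vu4_core (hU3 : QmK K ⊓ PK K = ⊥)
    (v v' l l' u u' : GG K) (hv : v ∈ QmK K) (hv' : v' ∈ QmK K) (hl : l ∈ LK K)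
    (hl' : l' ∈ LK K) (hu : u ∈ QK K) (hu' : u' ∈ QK K) (h : v * l * u = v' * l' * u') :
    v = v' ∧ l = l' ∧ u = u' := by
  obtain ⟨-, hsup, hinf⟩ := Cfsg.Agent.S1048.result (F := K) chevD4 (by simp) ({1} : Set ℕ)
  have hQP : QK K ≤ PK K := by
    show chevD4.unipotentRadical K {1} ≤ chevD4.parabolicSubgroup K {1}
    rw [← hsup]; exact le_sup_left
  have hLP : LK K ≤ PK K := by
    show chevD4.leviSubgroup K {1} ≤ chevD4.parabolicSubgroup K {1}
    rw [← hsup]; exact le_sup_right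
  -- `v'⁻¹ * v = l' * u' * u⁻¹ * l⁻¹`
  have h1 : v'⁻¹ * v = l' * u' * u⁻¹ * l⁻¹ := by
    have : v = v' * l' * u' * u⁻¹ * l⁻¹ := by
      rw [← h]; group
    rw [this]; group
  have h2 : v'⁻¹ * v ∈ QmK K ⊓ PK K := by
    refine ⟨(QmK K).mul_mem ((QmK K).inv_mem hv') hv, ?_⟩
    rw [h1]
    exact (PK K).mul_mem ((PK K).mul_mem ((PK K).mul_mem (hLP hl') (hQP hu'))
      ((PK K).inv_mem (hQP hu))) ((PK K).inv_mem (hLP hl))
  rw [hU3, Subgroup.mem_bot] at h2
  have hvv : v = v' := by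
    have := inv_mul_eq_one.mp h2
    exact this.symm
  subst hvv
  have h3 : l * u = l' * u' := by
    have := h
    rw [mul_assoc, mul_assoc] at this
    exact mul_left_cancel this
  -- `l'⁻¹ * l = u' * u⁻¹`
  have h4 : l'⁻¹ * l = u' * u⁻¹ := by
    have : l = l' * u' * u⁻¹ := by
      rw [← h3]; group
    rw [this]; group
  have h5 : l'⁻¹ * l ∈ QK K ⊓ LK K := by
    refine ⟨?_, (LK K).mul_mem ((LK K).inv_mem hl') hl⟩
    rw [h4]
    exact (QK K).mul_mem hu' ((QK K).inv_mem hu)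
  have hinf' : QK K ⊓ LK K = ⊥ := hinf
  rw [hinf', Subgroup.mem_bot] at h5
  have hll : l = l' := (inv_mul_eq_one.mp h5).symm
  subst hll
  exact ⟨rfl, rfl, mul_left_cancel h3⟩

end U

end Cfsg.Agent.Lib.helper23.TD4V
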