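import Mathlib
import Cfsg.Agent.Lib.helper23.TD4V.Defs
import Cfsg.Agent.Lib.helper4.TD4VU1
import Cfsg.Agent.Lib.Helper25.TD4VU2
import Cfsg.Agent.Lib.Helper20.TD4VU3core

/-!
# Project TD4V (designer helper23), rows U3 `QmK_inf_PK` and U4 `cell_unique`, verbatim (writer helper20)

`td4vu3_core` applied to the landed rows U1 (`PK_upper`, helper4) and U2 (`QmK_lower`, helper25); `td4vu4_core` applied to U3.
-/

set_option autoImplicit false

namespace Cfsg.Agent.Lib.helper23.TD4V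

open Cfsg.Lie Cfsg.Lie.ChevalleyDatum Matrix
open Cfsg.Agent.Lib.helper8 Cfsg.Agent.Lib.helper8.TD4
open Cfsg.Agent.Lib.helper23.P4V

universe u v

section U

variable {K : Type u} [Field K]

/-- **U3** [S] -/
theorem QmK_inf_PK : QmK K ⊓ PK K = ⊥ :=
  td4vu3_core (fun g hg i j h => PK_upper g hg i j h) (fun g hg i j => QmK_lower g hg i j)

/-- **U4** [S-M] -/
theorem cell_unique (v v' l l' u u' : GG K) (hv : v ∈ QmK K) (hv' : v' ∈ QmK K) (hl : l ∈ LK K)
    (hl' : l' ∈ LK K) (hu : u ∈ QK K) (hu' : u' ∈ QK K) (h : v * l * u = v' * l' * u') :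
    v = v' ∧ l = l' ∧ u = u' :=
  td4vu4_core QmK_inf_PK v v' l l' u u' hv hv' hl hl' hu hu' h

end U

end Cfsg.Agent.Lib.helper23.TD4V
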