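import Cfsg.Agent.Lib.Helper28.TOO.Defs
import Cfsg.Agent.Lib.Helper21.TOO.Transfer
import Cfsg.Agent.Lib.Helper28.OTens

/-!
# Project TOO, row TR3 (tr_ctx): the Gram matrices of a context.
-/

set_option autoImplicit false

namespace Cfsg.Agent.Lib.Helper28.TOO

open Matrix
open scoped Kronecker
open Cfsg.Agent.Lib.helper7.TP Cfsg.Agent.Lib.Helper21.TS

variable {a b : ℕ} {F : Type*} [Field F]

/-- a bilinear form is `bf` of its Gram matrix -/
theorem tootr3_bf_gram {κ : Type} [Fintype κ] [DecidableEq κ] {f : (κ → F) → (κ → F) → F}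
    (hf : Cfsg.Geo.IsBilinearForm f) (x y : κ → F) : f x y = bf (Cfsg.Geo.gramMatrix f) x y := by
  rw [Cfsg.Agent.Lib.Helper28.OTens.bil_gram hf x y]
  unfold bf
  simp only [dotProduct, Matrix.mulVec, Finset.mul_sum, mul_assoc]

/-- the Gram matrix of a symmetric form is symmetric -/
theorem tootr3_gram_symm {κ : Type} [Fintype κ] [DecidableEq κ] {f : (κ → F) → (κ → F) → F}
    (hs : ∀ u v, f u v = f v u) : (Cfsg.Geo.gramMatrix f)ᵀ = Cfsg.Geo.gramMatrix f := by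
  ext i j
  rw [Matrix.transpose_apply]
  unfold Cfsg.Geo.gramMatrix
  exact hs _ _

/-- the Gram matrix of a non-degenerate bilinear form is invertible -/
theorem tootr3_gram_det {κ : Type} [Fintype κ] [DecidableEq κ] {f : (κ → F) → (κ → F) → F}
    (hf : Cfsg.Geo.IsBilinearForm f) (hnd : Cfsg.Geo.IsNondegenerateForm f) :
    (Cfsg.Geo.gramMatrix f).det ≠ 0 := by
  intro h0
  obtain ⟨v, hv0, hv⟩ := Matrix.exists_mulVec_eq_zero_iff.mpr h0
  obtain ⟨⟨x, hx⟩, -⟩ := hnd v hv0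
  apply hx
  rw [tootr3_bf_gram hf]
  unfold bf
  rw [hv, dotProduct_zero]

/-- TR3 [M]. the Gram matrices of a context: `J1 = Cfsg.Geo.gramMatrix C.f₁`, `J2 = gramMatrix C.f₂` (`Helper28.OTens.bil_gram`);
`C.f = bf (JV J1 J2)` (both bilinear, equal on pure tensors: `C.f_ten`, `bf_JV_ten`; pure tensors span), `C.q_eq`. -/
theorem tr_ctx (C : Cfsg.Agent.Lib.Helper21.TOO.Ctx a b F) :
    ∃ (J1 : Matrix (Fin a) (Fin a) F) (J2 : Matrix (Fin b) (Fin b) F), OCtx J1 J2 ∧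
      (∀ x : Fin a × Fin b → F, C.q x = bf (JV J1 J2) x x / 2) := by
  classical
  refine ⟨Cfsg.Geo.gramMatrix C.f₁, Cfsg.Geo.gramMatrix C.f₂,
    ⟨C.two, tootr3_gram_symm C.hf₁.symm, tootr3_gram_symm C.hf₂.symm,
      tootr3_gram_det C.hf₁.bilinear C.hf₁.nondegenerate,
      tootr3_gram_det C.hf₂.bilinear C.hf₂.nondegenerate⟩, ?_⟩
  intro x
  rw [C.q_eq, tootr3_bf_gram C.hf x x]
  have hG : Cfsg.Geo.gramMatrix C.f = JV (Cfsg.Geo.gramMatrix C.f₁) (Cfsg.Geo.gramMatrix C.f₂) := by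
    ext ⟨i, j⟩ ⟨i', j'⟩
    have hs : ∀ (k : Fin a) (l : Fin b),
        (Pi.single (k, l) (1 : F) : Fin a × Fin b → F) = ten (Pi.single k 1) (Pi.single l 1) := by
      intro k l
      ext ⟨k', l'⟩
      unfold ten
      simp only [Pi.single_apply, Prod.mk.injEq]
      by_cases h1 : k' = k <;> by_cases h2 : l' = l <;> simp [h1, h2]
    unfold JV
    rw [Matrix.kroneckerMap_apply]
    unfold Cfsg.Geo.gramMatrix
    rw [hs i j, hs i' j', C.f_ten]
  rw [hG]

end Cfsg.Agent.Lib.Helper28.TOO
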