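import Cfsg.Agent.Lib.Helper28.TOO.Defs
import Cfsg.Agent.Lib.Helper21.TOO.Transfer
import Cfsg.Agent.Lib.Helper25.TOOTR1
import Cfsg.Agent.Lib.Helper20.TOOTR3

/-!
# Project TOO, row TR4 (tr_std_of_matrix): TR3 + TR2.
-/

set_option autoImplicit false
set_option linter.unusedVariables false

namespace Cfsg.Agent.Lib.Helper28.TOO

open Matrix
open scoped Kronecker
open Cfsg.Agent.Lib.helper7.TP Cfsg.Agent.Lib.Helper21.TS

variable {a b : ℕ} {F : Type*} [Field F]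

/-- `J1 ⊗ J2` is symmetric -/
theorem tootr4_JV_symm {J1 : Matrix (Fin a) (Fin a) F} {J2 : Matrix (Fin b) (Fin b) F}
    (C : OCtx J1 J2) : (JV J1 J2)ᵀ = JV J1 J2 := by
  ext ⟨i, j⟩ ⟨i', j'⟩
  have e1 : J1 i' i = J1 i i' := by
    have := congrFun (congrFun C.sym1 i) i'
    simpa using this
  have e2 : J2 j' j = J2 j j' := by
    have := congrFun (congrFun C.sym2 j) j'
    simpa using this
  unfold JV
  rw [Matrix.transpose_apply, Matrix.kroneckerMap_apply, Matrix.kroneckerMap_apply, e1, e2]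

/-- TR4 [S-M]. TR3 + TR2. -/
theorem tr_std_of_matrix [Fintype F] (ha : 3 ≤ a) (hodd : Odd a) (hb : 5 ≤ b)
    (hstd : ∀ (J1 : Matrix (Fin a) (Fin a) F) (J2 : Matrix (Fin b) (Fin b) F), OCtx J1 J2 →
      Cfsg.Geo.IsMaximalIn (Om (JV J1 J2)) (K0 a b F ⊓ Om (JV J1 J2)))
    (C : Cfsg.Agent.Lib.Helper21.TOO.Ctx a b F) :
    Cfsg.Geo.IsMaximalIn (Cfsg.Geo.omegaGL C.q) (K0 a b F ⊓ Cfsg.Geo.omegaGL C.q) := by
  obtain ⟨J1, J2, hC, hq⟩ := tr_ctx C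
  have hqf : C.q = fun x : Fin a × Fin b → F => bf (JV J1 J2) x x / 2 := funext hq
  have hOm : Cfsg.Geo.omegaGL C.q = Om (JV J1 J2) := by
    rw [hqf]
    exact tr_omegaGL_eq_Om hC.two (tootr4_JV_symm hC)
  rw [hOm]
  exact hstd J1 J2 hC

end Cfsg.Agent.Lib.Helper28.TOO
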