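import Cfsg.Agent.Lib.Helper9.TRI.Defs2

/-!
# Project TRI, wave 2, piece LEN: the critical length is unique
-/

set_option autoImplicit false

namespace Cfsg.Agent.Lib.Helper9.TRI

open Cfsg.Agent.Lib.Helper19.SW
open scoped commutatorElement

variable {G : Type*} [Group G] {V : Type*} [MulAction G V] {Adj : V → V → Prop} {ty : V → Bool}
  {A : Bool} {b : ℕ}

/-- TRI-2-LEN : the critical length is unique. -/
theorem crit_len_unique (h : LS3 G Adj) {p p' : ℕ → V} {b b' : ℕ} (hc : IsCritical G Adj p b)
    (hc' : IsCritical G Adj p' b') : b = b' := by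
  rcases Nat.lt_trichotomy b b' with hlt | heq | hgt
  · exact absurd (hc'.2.1 p b hlt hc.1) hc.2.2
  · exact heq
  · exact absurd (hc.2.1 p' b' hgt hc'.1) hc'.2.2

end Cfsg.Agent.Lib.Helper9.TRI
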