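import Mathlib
import Cfsg.Prelude.Def_ClassicalGeometry
import Cfsg.Agent.S0245
import Cfsg.Agent.Lib.helper6.Symp
import Cfsg.Agent.Lib.helper14.PolC

/-!
# Project TSD (S5980), row EXODD (second copy, helper20): an element of odd prime order `r ≠ p` of `Sp_{2d}(q)`
with `rank (x - 1) ≤ lcm(2, ord_r(q))` (Cauchy in `Sp_{2 j₀}(q)`, `2 j₀ = lcm(2, ord_r(q))`, embedded as `x₁ ⊕ 1`).
`tsdexodd20_exists` is the EXACT statement of `tsd_exists_odd` of `helper4/TSD/Skel.lean.txt`.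
-/

set_option autoImplicit false
set_option linter.unusedVariables false
set_option linter.unusedSectionVars false

namespace Cfsg.Agent.Lib.helper4.TSD

open Matrix
open Cfsg.Agent.Lib.helper6 Cfsg.Agent.Lib.helper14

variable {F : Type*} [Field F]

/-- an element of `Matrix.symplecticGroup` as an element of `GL` -/
def tsdexodd20_gl {m : ℕ} (s : ↥(Matrix.symplecticGroup (Fin m) F)) : GL (Fin m ⊕ Fin m) F where
  val := s.1
  inv := (s⁻¹ : ↥(Matrix.symplecticGroup (Fin m) F)).1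
  val_inv := by
    have := congrArg Subtype.val (mul_inv_cancel s)
    exact this
  inv_val := by
    have := congrArg Subtype.val (inv_mul_cancel s)
    exact this

theorem tsdexodd20_gl_mem {m : ℕ} (s : ↥(Matrix.symplecticGroup (Fin m) F)) :
    tsdexodd20_gl s ∈ Cfsg.spGL m F := by
  show ∀ u v, Cfsg.sympForm m F (((tsdexodd20_gl s : GL (Fin m ⊕ Fin m) F) :
      Matrix (Fin m ⊕ Fin m) (Fin m ⊕ Fin m) F) *ᵥ u)
    (((tsdexodd20_gl s : GL (Fin m ⊕ Fin m) F) : Matrix (Fin m ⊕ Fin m) (Fin m ⊕ Fin m) F) *ᵥ v) =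
      Cfsg.sympForm m F u v
  exact (mem_symplecticGroup_iff_sympForm m s.1).mp s.2

/-- `spGL d F` and `Matrix.symplecticGroup (Fin d) F` have the same cardinality -/
theorem tsdexodd20_card (d : ℕ) :
    Nat.card ↥(Cfsg.spGL d F) = Nat.card ↥(Matrix.symplecticGroup (Fin d) F) := by
  apply Nat.card_congr
  exact
    { toFun := fun x => ⟨((x.1 : GL (Fin d ⊕ Fin d) F) : Matrix (Fin d ⊕ Fin d) (Fin d ⊕ Fin d) F),
        (mem_symplecticGroup_iff_sympForm d _).mpr x.2⟩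
      invFun := fun s => ⟨tsdexodd20_gl s, tsdexodd20_gl_mem s⟩
      left_inv := fun x => Subtype.ext (Units.ext rfl)
      right_inv := fun s => Subtype.ext rfl }

theorem tsdexodd20_toLin'_pow {n : Type*} [Fintype n] [DecidableEq n]
    (A : Matrix n n F) (m : ℕ) : Matrix.toLin' (A ^ m) = (Matrix.toLin' A) ^ m := by
  induction m with
  | zero => rw [pow_zero, pow_zero, Matrix.toLin'_one]; rfl
  | succ m ih => rw [pow_succ, pow_succ, Matrix.toLin'_mul, ih]; rfl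

/-- arithmetic: `r ∣ |Sp_{2d}(q)|`, `r ∤ q` gives `j₀` with `1 ≤ j₀ ≤ d`, `2 j₀ = lcm(2, ord_r(q))`, `r ∣ q^(2 j₀) - 1` -/
theorem tsdexodd20_arith (q d r : ℕ) (hr : r.Prime) (hrq : ¬ r ∣ q)
    (hdvd : r ∣ q ^ (d ^ 2) * ∏ i ∈ Finset.range d, (q ^ (2 * (i + 1)) - 1)) :
    ∃ j₀ : ℕ, 1 ≤ j₀ ∧ j₀ ≤ d ∧ 2 * j₀ = Nat.lcm 2 (orderOf ((q : ℕ) : ZMod r)) ∧
      r ∣ q ^ (2 * j₀) - 1 := by
  have : Fact r.Prime := ⟨hr⟩
  have hq0 : 1 ≤ q := by
    rcases Nat.eq_zero_or_pos q with h | h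
    · exact absurd (h ▸ dvd_zero r) hrq
    · exact h
  rcases (Nat.Prime.dvd_mul hr).mp hdvd with h | h
  · exact absurd (hr.dvd_of_dvd_pow h) hrq
  · obtain ⟨i, hi, hri⟩ := (Prime.dvd_finsetProd_iff hr.prime _).mp h
    have hid : i < d := Finset.mem_range.mp hi
    have hpos : ∀ n : ℕ, 1 ≤ q ^ n := fun n => Nat.one_le_pow _ _ hq0
    have hpow : ((q : ℕ) : ZMod r) ^ (2 * (i + 1)) = 1 := by
      have h1 : ((q ^ (2 * (i + 1)) - 1 : ℕ) : ZMod r) = 0 := (ZMod.natCast_eq_zero_iff _ _).mpr hri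
      rw [Nat.cast_sub (hpos _), Nat.cast_pow, Nat.cast_one, sub_eq_zero] at h1
      exact h1
    have ho : orderOf ((q : ℕ) : ZMod r) ∣ 2 * (i + 1) := orderOf_dvd_of_pow_eq_one hpow
    have hc : Nat.lcm 2 (orderOf ((q : ℕ) : ZMod r)) ∣ 2 * (i + 1) :=
      Nat.lcm_dvd (dvd_mul_right 2 _) ho
    obtain ⟨j₀, hj₀⟩ : 2 ∣ Nat.lcm 2 (orderOf ((q : ℕ) : ZMod r)) := Nat.dvd_lcm_left 2 _
    have hjdvd : j₀ ∣ i + 1 := by
      rw [hj₀] at hc
      exact Nat.dvd_of_mul_dvd_mul_left (by norm_num) hc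
    have hjle : j₀ ≤ i + 1 := Nat.le_of_dvd (by omega) hjdvd
    have hj1 : 1 ≤ j₀ := Nat.pos_of_dvd_of_pos hjdvd (by omega)
    refine ⟨j₀, hj1, by omega, hj₀.symm, ?_⟩
    have ho2 : orderOf ((q : ℕ) : ZMod r) ∣ 2 * j₀ := by
      rw [← hj₀]
      exact Nat.dvd_lcm_right 2 _
    have hpow2 : ((q : ℕ) : ZMod r) ^ (2 * j₀) = 1 := orderOf_dvd_iff_pow_eq_one.mp ho2
    apply (ZMod.natCast_eq_zero_iff _ _).mp
    rw [Nat.cast_sub (hpos _), Nat.cast_pow, Nat.cast_one, hpow2, sub_self]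

/-- EXODD (second copy): exact statement of `tsd_exists_odd`. -/
theorem tsdexodd20_exists [Fintype F] (d : ℕ) (r : ℕ) [Fact r.Prime] (hr2 : r ≠ 2)
    (hrq : ¬ r ∣ Fintype.card F) (hr : r ∣ Nat.card (Cfsg.spGL d F)) :
    ∃ x ∈ Cfsg.spGL d F, (x : Matrix (Fin d ⊕ Fin d) (Fin d ⊕ Fin d) F) ^ r = 1 ∧
      (x : Matrix (Fin d ⊕ Fin d) (Fin d ⊕ Fin d) F) ≠ 1 ∧
      ((x : Matrix (Fin d ⊕ Fin d) (Fin d ⊕ Fin d) F) - 1).rank ≤
        Nat.lcm 2 (orderOf ((Fintype.card F : ℕ) : ZMod r)) := by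
  classical
  have hrp : r.Prime := Fact.out
  rw [tsdexodd20_card, Cfsg.Agent.S0245.result (F := F) rfl d] at hr
  obtain ⟨j, hj1, hjd, hjc, hjdiv⟩ := tsdexodd20_arith (Fintype.card F) d r hrp hrq hr
  -- Cauchy in `Sp_{2j}`
  have hcard : r ∣ Nat.card (Matrix.symplecticGroup (Fin j) F) := by
    rw [Cfsg.Agent.S0245.result (F := F) rfl j]
    apply dvd_mul_of_dvd_right
    apply dvd_trans _ (Finset.dvd_prod_of_mem _ (Finset.mem_range.mpr (show j - 1 < j by omega)))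
    have : 2 * (j - 1 + 1) = 2 * j := by omega
    rw [this]
    exact hjdiv
  obtain ⟨x₁, hx₁⟩ := exists_prime_orderOf_dvd_card' r hcard
  let a : Module.End F (Fin j ⊕ Fin j → F) :=
    Matrix.toLin' (x₁ : Matrix (Fin j ⊕ Fin j) (Fin j ⊕ Fin j) F)
  have har : a ^ r = 1 := by
    have h1 : x₁ ^ r = 1 := hx₁ ▸ pow_orderOf_eq_one x₁
    have h2 : (x₁ : Matrix (Fin j ⊕ Fin j) (Fin j ⊕ Fin j) F) ^ r = 1 := by
      rw [← SubmonoidClass.coe_pow, h1]
      rfl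
    show (Matrix.toLin' (x₁ : Matrix (Fin j ⊕ Fin j) (Fin j ⊕ Fin j) F)) ^ r = 1
    rw [← tsdexodd20_toLin'_pow, h2, Matrix.toLin'_one]
    rfl
  have ha1 : a ≠ 1 := by
    intro h
    have h1 : (x₁ : Matrix (Fin j ⊕ Fin j) (Fin j ⊕ Fin j) F) = 1 := by
      apply Matrix.toLin'.injective
      rw [Matrix.toLin'_one]
      exact h
    have h2 : x₁ = 1 := Subtype.ext h1
    rw [h2, orderOf_one] at hx₁
    exact hrp.one_lt.ne hx₁
  have hasymp : ∀ y y', Cfsg.sympForm j F (a y) (a y') = Cfsg.sympForm j F y y' := by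
    intro y y'
    show Cfsg.sympForm j F (Matrix.toLin' _ y) (Matrix.toLin' _ y') = _
    rw [Matrix.toLin'_apply, Matrix.toLin'_apply]
    exact (mem_symplecticGroup_iff_sympForm j _).mp x₁.2 y y'
  obtain ⟨k, rfl⟩ : ∃ k, d = j + k := Nat.exists_eq_add_of_le hjd
  let X : Module.End F (Fin (j + k) ⊕ Fin (j + k) → F) := PolC.emb j k a
  have hXr : X ^ r = 1 := by
    show PolC.emb j k a ^ r = 1
    rw [← PolC.emb_pow, har, PolC.emb_one]
  let M : Matrix (Fin (j + k) ⊕ Fin (j + k)) (Fin (j + k) ⊕ Fin (j + k)) F := LinearMap.toMatrix' X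
  have hM : Matrix.toLin' M = X := Matrix.toLin'_toMatrix' X
  have hMmem : M ∈ Matrix.symplecticGroup (Fin (j + k)) F := by
    rw [mem_symplecticGroup_iff_sympForm]
    intro u v
    rw [← Matrix.toLin'_apply, ← Matrix.toLin'_apply, hM]
    exact PolC.symp_emb j k a hasymp u v
  have hMr : M ^ r = 1 := by
    apply Matrix.toLin'.injective
    rw [tsdexodd20_toLin'_pow, hM, hXr, Matrix.toLin'_one]
    rfl
  have hM1 : M ≠ 1 := by
    intro h
    apply ha1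
    have hX1 : X = 1 := by rw [← hM, h, Matrix.toLin'_one]; rfl
    apply LinearMap.ext
    intro y
    have h1 : X (PolC.io j k y) = PolC.io j k (a y) := PolC.emb_io j k a y
    rw [hX1, Module.End.one_apply] at h1
    have h2 := congrArg (PolC.pr j k) h1
    rw [PolC.pr_io, PolC.pr_io] at h2
    rw [Module.End.one_apply]
    exact h2.symm
  have hrank : (M - 1).rank ≤ 2 * j := by
    have h0 : M - 1 = LinearMap.toMatrix' (PolC.io j k ∘ₗ ((a - 1) ∘ₗ PolC.pr j k)) := by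
      have h2 : (1 : Matrix (Fin (j + k) ⊕ Fin (j + k)) (Fin (j + k) ⊕ Fin (j + k)) F) =
          LinearMap.toMatrix' (1 : Module.End F (Fin (j + k) ⊕ Fin (j + k) → F)) :=
        LinearMap.toMatrix'_one.symm
      show LinearMap.toMatrix' X - 1 = _
      rw [h2, ← map_sub]
      congr 1
      show PolC.emb j k a - 1 = _
      unfold PolC.emb
      rw [add_sub_cancel_left]
    rw [h0, LinearMap.toMatrix'_comp]
    refine le_trans (Matrix.rank_mul_le_left _ _) ?_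
    refine le_trans (Matrix.rank_le_card_width _) ?_
    rw [Fintype.card_sum, Fintype.card_fin]
    omega
  refine ⟨tsdexodd20_gl ⟨M, hMmem⟩, tsdexodd20_gl_mem _, hMr, hM1, ?_⟩
  show (M - 1).rank ≤ _
  rw [← hjc]
  exact hrank

end Cfsg.Agent.Lib.helper4.TSD
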