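import Cfsg.Agent.Lib.Helper21.TS.XA
import Cfsg.Agent.Lib.Helper28.Transport
import Cfsg.Agent.S5646

/-!
# Project TS, piece MODEL (core): maximality in the model from the two worlds, with the statements of `main_tv`
and `ts_proper` as hypotheses.
-/

set_option autoImplicit false
set_option linter.unusedSectionVars false
set_option linter.unusedVariables false

namespace Cfsg.Agent.Lib.Helper21.TS

open Matrix
open scoped Kronecker
open Cfsg.Agent.Lib.helper7.TP

variable {a b : ℕ} {F : Type*} [Field F]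
  {J1 : Matrix (Fin a) (Fin a) F} {J2 : Matrix (Fin b) (Fin b) F}

/-- MODEL with the statements of `main_tv` (`hTV`) and `ts_proper` (`hP`) as hypotheses. -/
theorem ts_model_core
    (hTV : ∀ M : Subgroup (Matrix.GeneralLinearGroup (Fin a × Fin b) F), T0 J1 J2 ≤ M → M ≤ SpV J1 J2 →
      ¬ NTp J1 J2 M → ∀ v : Fin a × Fin b → F, TT J1 J2 M v)
    (hP : T0 J1 J2 < SpV J1 J2)
    (hNT : ∀ M : Subgroup (Matrix.GeneralLinearGroup (Fin a × Fin b) F), T0 J1 J2 ≤ M → M ≤ SpV J1 J2 →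
      NTp J1 J2 M → M ≤ T0 J1 J2)
    (hGEN : ∀ M : Subgroup (Matrix.GeneralLinearGroup (Fin a × Fin b) F), M ≤ SpV J1 J2 →
      (∀ v : Fin a × Fin b → F, TT J1 J2 M v) → SpV J1 J2 ≤ M) :
    Cfsg.Geo.IsMaximalIn (SpV J1 J2) (T0 J1 J2) := by
  refine ⟨hP, fun M hT0M hMS => ?_⟩
  by_cases hntp : NTp J1 J2 M
  · exact Or.inl (le_antisymm (hNT M hT0M hMS hntp) hT0M)
  · exact Or.inr (le_antisymm hMS (hGEN M hMS (hTV M hT0M hMS hntp)))

end Cfsg.Agent.Lib.Helper21.TS
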