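import Cfsg.Agent.Lib.Helper21.TS.XA
import Cfsg.Agent.Lib.Helper28.Transport
import Cfsg.Agent.S5646
import Cfsg.Agent.Lib.Helper24.TSLA
import Cfsg.Agent.Lib.helper4.TSNONSING
import Cfsg.Agent.Lib.helper4.TSMAINAcore
import Cfsg.Agent.Lib.Lead.TSPROPER
import Cfsg.Agent.Lib.Helper20.TSSPAN
import Cfsg.Agent.Lib.Helper20.TSMODELcore

/-!
# Project TS, piece MODEL: maximality of `T0` in `Sp(V)` in the model, from the two worlds.
-/

set_option autoImplicit false
set_option linter.unusedSectionVars false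
set_option linter.unusedVariables false

namespace Cfsg.Agent.Lib.Helper21.TS

open Matrix
open scoped Kronecker
open Cfsg.Agent.Lib.helper7.TP

variable {a b : ℕ} {F : Type*} [Field F]
  {J1 : Matrix (Fin a) (Fin a) F} {J2 : Matrix (Fin b) (Fin b) F}

/-- MODEL [M]. maximality in the model from the two worlds: `hNT` = the NT world, `hGEN` = generation of `Sp(V)` by transvections.
(`ts_model_core` + `ts_proper` + the non-NT world `la_sing`, `tt_nonsing`, `tt_all`, `tsmaina_tv_core`.) -/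
theorem ts_model [Fintype F] (C : Ctx J1 J2) (ha : 2 ≤ a) (hb : 3 ≤ b) (hex : 5 ≤ Fintype.card F ∨ 4 ≤ b)
    (hNT : ∀ M : Subgroup (Matrix.GeneralLinearGroup (Fin a × Fin b) F), T0 J1 J2 ≤ M → M ≤ SpV J1 J2 →
      NTp J1 J2 M → M ≤ T0 J1 J2)
    (hGEN : ∀ M : Subgroup (Matrix.GeneralLinearGroup (Fin a × Fin b) F), M ≤ SpV J1 J2 →
      (∀ v : Fin a × Fin b → F, TT J1 J2 M v) → SpV J1 J2 ≤ M) :
    Cfsg.Geo.IsMaximalIn (SpV J1 J2) (T0 J1 J2) :=
  ts_model_core
    (fun M hT0 hMS hntp => tsmaina_tv_core C (by omega)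
      (fun u hu η hη hns => tt_all C hMS (tt_nonsing C hb hT0 hMS (la_sing C hb hex hT0 hMS hu hη hns)))
      hntp)
    (ts_proper C ha hb) hNT hGEN

end Cfsg.Agent.Lib.Helper21.TS
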