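import Mathlib
import Cfsg.Prelude.Def_ChevStructure
import Cfsg.Agent.Lib.helper14.TWI.Defs

/-!
# Project TWI, piece MAXCS : maximality is a property of the `G₁`-class
-/

set_option autoImplicit false
set_option linter.unusedVariables false

namespace Cfsg.Agent.Lib.helper14.TWI

open Cfsg.Lie Cfsg.Lie.ChevalleyDatum Cfsg.Agent.Lib.helper8 Cfsg.Agent.Lib.helper14
  Cfsg.Agent.Lib.helper14.INV

universe u

variable {F : Type u} [Field F]

/-- MAXCS : maximality is a property of the `G₁`-class -/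
theorem isMaxS_conj (D : ChevalleyDatum) (hB : H8Base.{u} D) (hA : H8ReflAll D)
    (G₁ : Subgroup (GL D.Idx F)) (t g : GL D.Idx F)
    (hg : g ∈ G₁) (w : List ℕ) (h : IsMaxS D hB hA G₁ t w) :
    IsMaxS D hB hA G₁ (g * t * g⁻¹) w := by
  intro g' hg' w' hw' hcell
  have e : g' * (g * t * g⁻¹) * g'⁻¹ = (g' * g) * t * (g' * g)⁻¹ := by group
  rw [e] at hcell
  exact h (g' * g) (Subgroup.mul_mem _ hg' hg) w' hw' hcell

end Cfsg.Agent.Lib.helper14.TWI
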