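import Mathlib
import Cfsg.Prelude.Def_ChevStructure
import Cfsg.Agent.Lib.helper14.TWI.Defs
import Cfsg.Agent.Lib.helper8.ChevTits2
import Cfsg.Agent.Lib.helper8.ChevTits3
import Cfsg.Agent.Lib.Helper24.INVMAX

/-!
# Project TWI, piece MAXS : a `G₁`-conjugate of `t` in a cell of maximal length exists
-/

set_option autoImplicit false
set_option linter.unusedVariables false

namespace Cfsg.Agent.Lib.helper14.TWI

open Cfsg.Lie Cfsg.Lie.ChevalleyDatum Cfsg.Agent.Lib.helper8 Cfsg.Agent.Lib.helper14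
  Cfsg.Agent.Lib.helper14.INV

universe u

variable {F : Type u} [Field F]

/-- MAXS : a `G₁`-conjugate of `t` in a cell of maximal length exists -/
theorem exists_maxS (D : ChevalleyDatum) (hB : H8Base.{u} D) (hA : H8ReflAll D)
    (hC : H8CommAll.{u} D) (hBN : H8BN D) (hW : H8BN2 D) (G₁ : Subgroup (GL D.Idx F))
    (hG₁ : G₁ ≤ D.group F) (t : GL D.Idx F) (ht : t ∈ G₁) :
    ∃ g ∈ G₁, ∃ w : List ℕ, ValidW D w ∧ InCell D hB (g * t * g⁻¹) w ∧
      IsMaxS D hB hA G₁ t w := by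
  classical
  let P : ℕ → Prop := fun l => ∃ g ∈ G₁, ∃ w : List ℕ, ValidW D w ∧
    InCell D hB (g * t * g⁻¹) w ∧ len D hA w = l
  have hex : ∃ l, l ≤ D.nroots ∧ P l := by
    obtain ⟨b, hb, n, hn, b', hb', e⟩ := h8bruhat D hB hA hC hBN hW t (hG₁ ht)
    obtain ⟨h0, hh0, w, hw, en⟩ := h8N_word D hB hA hBN n hn
    refine ⟨len D hA w, invmax_len_le D hA w, 1, Subgroup.one_mem _, w, hw, ?_, rfl⟩
    refine ⟨b * h0, Subgroup.mul_mem _ hb (le_sup_right (a := D.posUnipotent F) hh0), b', hb', ?_⟩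
    rw [one_mul, inv_one, mul_one, e, en]
    group
  have hP : P (Nat.findGreatest P D.nroots) := by
    obtain ⟨l, hl, hPl⟩ := hex
    exact Nat.findGreatest_spec hl hPl
  obtain ⟨g, hg, w, hw, hcell, hlen⟩ := hP
  refine ⟨g, hg, w, hw, hcell, ?_⟩
  intro g' hg' w' hw' hcell'
  rw [hlen]
  apply Nat.le_findGreatest (invmax_len_le D hA w')
  exact ⟨g', hg', w', hw', hcell', rfl⟩

end Cfsg.Agent.Lib.helper14.TWI
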