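import Mathlib
import Cfsg.Prelude.Def_ChevStructure
import Cfsg.Agent.Lib.helper14.TWI.Defs
import Cfsg.Agent.Lib.helper8.ChevBr1
import Cfsg.Agent.Lib.helper8.ChevTits2

/-!
# Project TWI, piece NFS : normal form of an element of `G₁` in a Bruhat cell under `(B ∩ G₁)`-conjugation
-/

set_option autoImplicit false
set_option linter.unusedVariables false

namespace Cfsg.Agent.Lib.helper14.TWI

open Cfsg.Lie Cfsg.Lie.ChevalleyDatum Cfsg.Agent.Lib.helper8 Cfsg.Agent.Lib.helper14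
  Cfsg.Agent.Lib.helper14.INV

universe u

variable {F : Type u} [Field F]

/-- NFS : an element of `G₁` in the cell of `w` is conjugate under `B ∩ G₁` to some `h n_w u`, provided the elements
of `G₁` have a normal form `u₁ m u₂` with `u₁, u₂ ∈ U ∩ G₁`, `m ∈ N ∩ G₁` -/
theorem cell_normal_formS (D : ChevalleyDatum) (hB : H8Base.{u} D) (hA : H8ReflAll D)
    (hC : H8CommAll.{u} D) (hBN : H8BN D) (hW : H8BN2 D) (G₁ : Subgroup (GL D.Idx F))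
    (hNF : ∀ g ∈ G₁, ∃ u₁ ∈ D.posUnipotent F ⊓ G₁, ∃ m ∈ D.monomialSubgroup F ⊓ G₁,
      ∃ u₂ ∈ D.posUnipotent F ⊓ G₁, g = u₁ * m * u₂)
    (y : GL D.Idx F) (hy : y ∈ G₁) (w : List ℕ) (hw : ValidW D w) (h : InCell D hB y w) :
    ∃ b ∈ D.borelSubgroup F ⊓ G₁, ∃ h0 ∈ D.diagonalSubgroup F, ∃ u ∈ D.posUnipotent F,
      h0 * (h8nWU D hB w : GL D.Idx F) ∈ G₁ ∧
      b * y * b⁻¹ = h0 * (h8nWU D hB w : GL D.Idx F) * u := by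
  obtain ⟨u₁, hu₁, m, hm, u₂, hu₂, e⟩ := hNF y hy
  obtain ⟨b1, hb1, b2, hb2, e'⟩ := h
  have hnw : (h8nWU D hB w : GL D.Idx F) ∈ D.monomialSubgroup F := h8nWU_mem_N D hB hA w hw
  have hu₁B : u₁ ∈ D.borelSubgroup F := h8U_le_B D hu₁.1
  have hu₂B : u₂ ∈ D.borelSubgroup F := h8U_le_B D hu₂.1
  -- `m⁻¹ = (u₂ b2⁻¹) n_w⁻¹ (b1⁻¹ u₁)`
  have hminv : m⁻¹ = (u₂ * b2⁻¹) * (h8nWU D hB w : GL D.Idx F)⁻¹ * (b1⁻¹ * u₁) := by
    have hm' : m = u₁⁻¹ * y * u₂⁻¹ := by rw [e]; group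
    rw [hm', e']
    group
  have hH : (m⁻¹)⁻¹ * (h8nWU D hB w : GL D.Idx F)⁻¹ ∈ D.diagonalSubgroup F :=
    h8cell_disjoint D hB hA hC hBN m⁻¹ (h8nWU D hB w : GL D.Idx F)⁻¹
      (Subgroup.inv_mem _ hm.1) (Subgroup.inv_mem _ hnw)
      ⟨u₂ * b2⁻¹, Subgroup.mul_mem _ hu₂B (Subgroup.inv_mem _ hb2),
        b1⁻¹ * u₁, Subgroup.mul_mem _ (Subgroup.inv_mem _ hb1) hu₁B, hminv⟩
  rw [inv_inv] at hH
  have hmeq : m * (h8nWU D hB w : GL D.Idx F)⁻¹ * (h8nWU D hB w : GL D.Idx F) = m := by group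
  refine ⟨u₁⁻¹, ⟨Subgroup.inv_mem _ hu₁B, Subgroup.inv_mem _ hu₁.2⟩,
    m * (h8nWU D hB w : GL D.Idx F)⁻¹, hH, u₂ * u₁,
    Subgroup.mul_mem _ hu₂.1 hu₁.1, ?_, ?_⟩
  · rw [hmeq]
    exact hm.2
  · rw [hmeq, e]
    group

end Cfsg.Agent.Lib.helper14.TWI
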