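import Mathlib
import Cfsg.Agent.Lib.Lead.Coprime
import Cfsg.Agent.Lib.Helper20.Baer

set_option autoImplicit false

namespace Cfsg.Agent.Lib.Helper20

open Cfsg.Agent.Lib.Lead
open scoped commutatorElement

/-- Averaging: `PQ` acts on a finite abelian `p`-group `B`, `Q` a normal `p'`-subgroup, `P` a
`p`-group.  If every `P`-fixed point is `Q`-fixed then `Q` acts trivially. -/
theorem avg_trivial {B : Type*} [CommGroup B] [Finite B] {Γ : Type*} [Group Γ] [Finite Γ]
    (φ : Γ →* MulAut B) {p : ℕ} [Fact p.Prime] (hB : IsPGroup p B) (P Q : Subgroup Γ)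
    (hP : IsPGroup p P) (hQ : (Nat.card Q).Coprime p)
    (hPQ : P ≤ Subgroup.normalizer (Q : Set Γ))
    (hfix : ∀ b : B, (∀ u ∈ P, φ u b = b) → ∀ q ∈ Q, φ q b = b) :
    ∀ q ∈ Q, ∀ b : B, φ q b = b := by
  classical
  let _ : Fintype Q := Fintype.ofFinite Q
  let e : B →* B := ∏ q : Q, (φ (q : Γ)).toMonoidHom
  have he : ∀ b : B, e b = ∏ q : Q, φ (q : Γ) b := by
    intro b
    show (∏ q : Q, (φ (q : Γ)).toMonoidHom) b = _
    rw [MonoidHom.finsetProd_apply]
    rfl
  -- P-equivariance
  have hequiv : ∀ u ∈ P, ∀ b : B, φ u (e b) = e (φ u b) := by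
    intro u hu b
    rw [he, he, map_prod]
    apply Fintype.prod_equiv (conjAut Q u (hPQ hu)).toEquiv
    intro q
    have h1 : ((conjAut Q u (hPQ hu)).toEquiv q : Γ) = u * q * u⁻¹ := rfl
    rw [h1, ← MulAut.mul_apply, ← MulAut.mul_apply, ← map_mul, ← map_mul]
    congr 2
    group
  -- Q-invariance of e
  have hQinv : ∀ q ∈ Q, ∀ b : B, e (φ q b) = e b := by
    intro q hq b
    rw [he, he]
    apply Fintype.prod_equiv (Equiv.mulRight (⟨q, hq⟩ : Q))
    intro q'
    rw [← MulAut.mul_apply, ← map_mul]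
    rfl
  -- kernel
  have hker : e.ker = ⊥ := by
    by_contra hne
    -- P acts on the kernel
    let act : MulAction P e.ker :=
      { smul := fun u m => ⟨φ (u : Γ) m, by
          rw [MonoidHom.mem_ker, ← hequiv u u.2, (MonoidHom.mem_ker).mp m.2, map_one]⟩
        one_smul := by
          intro m
          apply Subtype.ext
          show φ ((1 : P) : Γ) (m : B) = m
          simp
        mul_smul := by
          intro u v m
          apply Subtype.ext
          show φ ((u * v : P) : Γ) (m : B) = φ (u : Γ) (φ (v : Γ) (m : B))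
          rw [Subgroup.coe_mul, map_mul, MulAut.mul_apply] }
    have hkp : IsPGroup p e.ker := hB.to_subgroup e.ker
    obtain ⟨k, hk⟩ := IsPGroup.iff_card.mp hkp
    have hk0 : k ≠ 0 := by
      rintro rfl
      rw [pow_zero] at hk
      exact hne ((Subgroup.card_eq_one).mp hk)
    have hdvd : p ∣ Nat.card e.ker := by
      rw [hk]; exact dvd_pow_self p hk0
    have h1fix : (1 : e.ker) ∈ MulAction.fixedPoints P e.ker := by
      intro u
      apply Subtype.ext
      show φ (u : Γ) ((1 : e.ker) : B) = ((1 : e.ker) : B)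
      simp
    obtain ⟨m, hm, hm1⟩ := hP.exists_fixed_point_of_prime_dvd_card_of_fixed_point e.ker hdvd h1fix
    have hmP : ∀ u ∈ P, φ u (m : B) = m := by
      intro u hu
      have := hm ⟨u, hu⟩
      exact congrArg Subtype.val this
    have hmQ := hfix (m : B) hmP
    have hem : e (m : B) = (m : B) ^ Fintype.card Q := by
      rw [he]
      have : ∀ q : Q, φ (q : Γ) (m : B) = m := fun q => hmQ q q.2
      simp only [this, Finset.prod_const, Finset.card_univ]
    have hm2 : (m : B) ^ Fintype.card Q = 1 := by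
      rw [← hem]; exact (MonoidHom.mem_ker).mp m.2
    have h3 : orderOf (m : B) ∣ Fintype.card Q := orderOf_dvd_of_pow_eq_one hm2
    rw [← Nat.card_eq_fintype_card] at h3
    obtain ⟨j, hj⟩ := hB (m : B)
    have h4 : orderOf (m : B) ∣ p ^ j := orderOf_dvd_of_pow_eq_one hj
    have h5 : orderOf (m : B) = 1 := Nat.eq_one_of_dvd_coprimes (Nat.Coprime.pow_right j hQ) h3 h4
    rw [orderOf_eq_one_iff] at h5
    apply hm1
    apply Subtype.ext
    rw [h5]; rfl
  intro q hq b
  have hinj : Function.Injective e := (MonoidHom.ker_eq_bot_iff e).mp hker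
  exact hinj (hQinv q hq b)


variable {X : Type*} [Group X]

/-- Thompson's lemma for class ≤ 2 groups and `p` odd, via the Baer trick. -/
theorem pq_class_two [Finite X] {p : ℕ} [Fact p.Prime] (hp : p ≠ 2) (P Q U : Subgroup X)
    (hP : IsPGroup p P) (hQ : (Nat.card Q).Coprime p)
    (hPQ : P ≤ Subgroup.normalizer (Q : Set X))
    (hU : IsPGroup p U) (hPU : P ≤ Subgroup.normalizer (U : Set X))
    (hQU : Q ≤ Subgroup.normalizer (U : Set X))
    (hcl : ⁅U, U⁆ ≤ Subgroup.centralizer (U : Set X))
    (hC : U ⊓ Subgroup.centralizer (P : Set X) ≤ Subgroup.centralizer (Q : Set X)) :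
    Q ≤ Subgroup.centralizer (U : Set X) := by
  have hpp : p.Prime := Fact.out
  obtain ⟨k, hk⟩ := IsPGroup.iff_card.mp hU
  have hodd : Odd (Nat.card U) := by
    rw [hk]
    exact Odd.pow (hpp.odd_of_ne_two hp)
  obtain ⟨m, hm⟩ := hodd
  let d : BaerData U :=
    { n := m + 1
      half := by
        intro z
        have h1 : m + 1 + (m + 1) = Nat.card U + 1 := by omega
        rw [h1, pow_succ, pow_card_eq_one', one_mul]
      central := by
        intro x y
        rw [Subgroup.mem_center_iff]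
        intro g
        have h1 : ⁅(x : X), (y : X)⁆ ∈ ⁅U, U⁆ := Subgroup.commutator_mem_commutator x.2 y.2
        have h2 := hcl h1
        rw [Subgroup.mem_centralizer_iff] at h2
        apply Subtype.ext
        have h3 := h2 g g.2
        simp only [commutatorElement_def, Subgroup.coe_mul, Subgroup.coe_inv] at h3 ⊢
        exact h3 }
  let φ : (Subgroup.normalizer (U : Set X)) →* MulAut (Baer d) :=
    (Baer.autHom d).comp U.normalizerMonoidHom
  have hφ : ∀ (g : Subgroup.normalizer (U : Set X)) (b : Baer d),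
      (((φ g) b).val : X) = g * b.val * (g : X)⁻¹ := by
    intro g b
    rfl
  have hB : IsPGroup p (Baer d) := by
    apply IsPGroup.of_card (n := k)
    rw [Baer.card_eq, hk]
  have hP' : IsPGroup p (P.subgroupOf (Subgroup.normalizer (U : Set X))) := hP.comap_subtype
  have hQ' : (Nat.card (Q.subgroupOf (Subgroup.normalizer (U : Set X)))).Coprime p := by
    rw [Nat.card_congr (Subgroup.subgroupOfEquivOfLe hQU).toEquiv]
    exact hQ
  have hPQ' : P.subgroupOf (Subgroup.normalizer (U : Set X)) ≤
      Subgroup.normalizer ((Q.subgroupOf (Subgroup.normalizer (U : Set X)) : Subgroup _) : Set _) := by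
    rw [Subgroup.le_normalizer_iff]
    intro u hu q hq
    rw [Subgroup.mem_subgroupOf] at hu hq ⊢
    exact (Subgroup.le_normalizer_iff.mp hPQ) u hu q hq
  have hfix : ∀ b : Baer d, (∀ u ∈ P.subgroupOf (Subgroup.normalizer (U : Set X)), φ u b = b) →
      ∀ q ∈ Q.subgroupOf (Subgroup.normalizer (U : Set X)), φ q b = b := by
    intro b hb q hq
    have hbP : (b.val : X) ∈ Subgroup.centralizer (P : Set X) := by
      rw [Subgroup.mem_centralizer_iff]
      intro u hu
      have h1 := hb ⟨u, hPU hu⟩ (Subgroup.mem_subgroupOf.mpr hu)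
      have h2 : (((φ ⟨u, hPU hu⟩) b).val : X) = b.val := by rw [h1]
      rw [hφ] at h2
      simp only at h2
      calc u * (b.val : X) = u * (b.val : X) * u⁻¹ * u := by group
        _ = (b.val : X) * u := by rw [h2]
    have hbQ := hC (Subgroup.mem_inf.mpr ⟨b.val.2, hbP⟩)
    rw [Subgroup.mem_centralizer_iff] at hbQ
    apply Baer.ext
    apply Subtype.ext
    rw [hφ]
    rw [Subgroup.mem_subgroupOf] at hq
    rw [hbQ q hq]; group
  have hmain := avg_trivial φ hB _ _ hP' hQ' hPQ' hfix
  intro q hq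
  rw [Subgroup.mem_centralizer_iff]
  intro g hg
  have h1 := hmain ⟨q, hQU hq⟩ (Subgroup.mem_subgroupOf.mpr hq) ⟨⟨g, hg⟩⟩
  have h2 : (((φ ⟨q, hQU hq⟩) ⟨⟨g, hg⟩⟩).val : X) = g := by rw [h1]
  rw [hφ] at h2
  simp only at h2
  have h3 : q * g = g * q := by
    calc q * g = q * g * q⁻¹ * q := by group
      _ = g * q := by rw [h2]
  exact h3.symm


end Cfsg.Agent.Lib.Helper20
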