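import Mathlib
import Cfsg.Agent.S1160

set_option autoImplicit false

/-!
# Two generating sets of a `p`-group acting on a `p'`-module

Abstract lemma `AL`: `p` odd, `P` a finite `p`-group acting faithfully on a finite abelian group
`E` on which multiplication by `p` is injective, `C`, `D` generating sets of `P` such that
`E = C_E(c) + C_E(d)` for all `c ∈ C`, `d ∈ D`.  Then `P = 1`.
-/

namespace Cfsg.Agent.Lib.Helper20.TwoGen

open Cfsg.Agent.S1160

universe u

/-- the statement of the abstract lemma for modules of size `n` -/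
def ALstmt (p : ℕ) (n : ℕ) : Prop :=
  ∀ (E P : Type u) [AddCommGroup E] [Finite E] [Group P] [Finite P] [DistribMulAction P E]
    [FaithfulSMul P E], Nat.card E = n → IsPGroup p P → (∀ a : E, p • a = 0 → a = 0) →
    ∀ C D : Set P, Subgroup.closure C = ⊤ → Subgroup.closure D = ⊤ →
    (∀ c ∈ C, ∀ d ∈ D, ∀ e : E, ∃ e₁ e₂ : E, c • e₁ = e₁ ∧ d • e₂ = e₂ ∧ e = e₁ + e₂) →
    Subsingleton P

/-- unfaithful version, derived from the faithful statement for the same module -/
theorem unfaithful {p n : ℕ} (hAL : ALstmt.{u} p n) {E Γ : Type u} [AddCommGroup E] [Finite E]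
    [Group Γ] [Finite Γ] [DistribMulAction Γ E] (hcard : Nat.card E = n) (hΓ : IsPGroup p Γ)
    (hpinv : ∀ a : E, p • a = 0 → a = 0) (C D : Set Γ) (hC : Subgroup.closure C = ⊤)
    (hD : Subgroup.closure D = ⊤)
    (hyp : ∀ c ∈ C, ∀ d ∈ D, ∀ e : E, ∃ e₁ e₂ : E, c • e₁ = e₁ ∧ d • e₂ = e₂ ∧ e = e₁ + e₂) :
    ∀ g : Γ, ∀ e : E, g • e = e := by
  let f : Γ →* AddMonoid.End E := DistribMulAction.toAddMonoidEnd Γ E
  let fq : Γ ⧸ f.ker →* AddMonoid.End E := QuotientGroup.lift f.ker f le_rfl
  letI : DistribMulAction (Γ ⧸ f.ker) E := DistribMulAction.compHom E fq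
  have hsmul : ∀ (g : Γ) (e : E), (QuotientGroup.mk g : Γ ⧸ f.ker) • e = g • e := fun g e => rfl
  haveI : FaithfulSMul (Γ ⧸ f.ker) E := ⟨by
    intro q q' h
    induction q using QuotientGroup.induction_on with
    | H g =>
    induction q' using QuotientGroup.induction_on with
    | H g' =>
    rw [QuotientGroup.eq, MonoidHom.mem_ker]
    apply AddMonoidHom.ext
    intro e
    have h1 : g • e = g' • e := h e
    change (g⁻¹ * g') • e = e
    rw [mul_smul, ← h1, inv_smul_smul]⟩
  have hsub := hAL E (Γ ⧸ f.ker) hcard (hΓ.to_quotient f.ker) hpinv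
    (QuotientGroup.mk '' C) (QuotientGroup.mk '' D)
    (by
      have := MonoidHom.map_closure (QuotientGroup.mk' f.ker) C
      rw [QuotientGroup.coe_mk'] at this
      rw [← this, hC, ← MonoidHom.range_eq_map, MonoidHom.range_eq_top]
      exact QuotientGroup.mk'_surjective _)
    (by
      have := MonoidHom.map_closure (QuotientGroup.mk' f.ker) D
      rw [QuotientGroup.coe_mk'] at this
      rw [← this, hD, ← MonoidHom.range_eq_map, MonoidHom.range_eq_top]
      exact QuotientGroup.mk'_surjective _)
    (by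
      rintro _ ⟨c, hc, rfl⟩ _ ⟨d, hd, rfl⟩ e
      obtain ⟨e₁, e₂, h1, h2, h3⟩ := hyp c hc d hd e
      exact ⟨e₁, e₂, by rw [hsmul]; exact h1, by rw [hsmul]; exact h2, h3⟩)
  intro g e
  rw [← hsmul]
  have : (QuotientGroup.mk g : Γ ⧸ f.ker) = 1 := Subsingleton.elim _ _
  rw [this, one_smul]

section basics

variable {P E : Type*} [Group P] [AddCommGroup E] [DistribMulAction P E] {p : ℕ} [Fact p.Prime]

theorem Nm_conj (g x : P) (a : E) : Nm p (g * x * g⁻¹) (g • a) = g • Nm p x a := by
  unfold Nm
  rw [Finset.smul_sum]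
  refine Finset.sum_congr rfl fun j _ => ?_
  unfold pw
  rw [conj_pow, smul_smul, smul_smul]
  congr 1
  group

theorem sum_Nm (z y : P) (hz : ∀ g : P, g * z = z * g) (hzp : z ^ p = 1) (a : E)
    (hNz : Nm p z a = 0) : ∑ j : ZMod p, Nm p (pw p z j * y) a = p • a := by
  unfold Nm
  rw [Finset.sum_comm]
  have hterm : ∀ i j : ZMod p, pw p (pw p z j * y) i • a = pw p z (i * j) • pw p y i • a := by
    intro i j
    rw [pw_mul_comm (pw p z j) y (pw_comm z y (hz y) j).symm, ← pw_mul z hzp, mul_comm j i, mul_smul]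
  simp only [hterm]
  rw [Finset.sum_eq_single (0 : ZMod p)]
  · simp only [zero_mul, pw_zero, one_smul]
    rw [Finset.sum_const, Finset.card_univ, ZMod.card]
  · intro i _ hi
    rw [Nm_reindex z i hi, Nm_smul_comm z (pw p y i) _ a, hNz, smul_zero]
    unfold pw
    exact ((show Commute z y from (hz y).symm).pow_right _).eq.symm
  · intro h
    exact absurd (Finset.mem_univ _) h

/-- `Nm` as an additive hom -/
def NmHom (p : ℕ) [Fact p.Prime] (x : P) : E →+ E where
  toFun := Nm p x
  map_zero' := Nm_zero x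
  map_add' := Nm_add x

theorem NmHom_apply (x : P) (a : E) : NmHom p x a = Nm p x a := rfl

theorem Nm_nsmul (x : P) (n : ℕ) (a : E) : Nm p x (n • a) = n • Nm p x a := by
  rw [← NmHom_apply, map_nsmul]; rfl

/-- in a cyclic `p`-group every nontrivial element has the elements of order `p` among its powers -/
theorem mem_zpowers_of_cyclic [Finite P] (hcyc : IsCyclic P) (hP : IsPGroup p P) (z x : P)
    (hz : z ^ p = 1) (hx : x ≠ 1) : z ∈ Subgroup.zpowers x := by
  classical
  have hp : p.Prime := Fact.out
  obtain ⟨j, hj⟩ := (IsPGroup.iff_orderOf.1 hP) x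
  have hj0 : j ≠ 0 := by
    rintro rfl
    rw [pow_zero, orderOf_eq_one_iff] at hj
    exact hx hj
  obtain ⟨j', rfl⟩ := Nat.exists_eq_succ_of_ne_zero hj0
  set w := x ^ (p ^ j') with hw
  have hwo : orderOf w = p := by
    rw [hw, orderOf_pow' x (pow_ne_zero _ hp.ne_zero), hj, Nat.gcd_eq_right (pow_dvd_pow p (Nat.le_succ j')),
      pow_succ, Nat.mul_div_cancel_left _ (pow_pos hp.pos _)]
  have hwx : Subgroup.zpowers w ≤ Subgroup.zpowers x :=
    Subgroup.zpowers_le.2 (Subgroup.pow_mem _ (Subgroup.mem_zpowers x) _)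
  apply hwx
  by_contra hzw
  have hsub : insert z (Subgroup.zpowers w : Set P) ⊆ {a : P | a ^ p = 1} := by
    intro a ha
    rcases ha with rfl | ha
    · exact hz
    · obtain ⟨k, rfl⟩ := Subgroup.mem_zpowers_iff.1 ha
      change (w ^ k) ^ p = 1
      rw [← zpow_natCast, ← zpow_mul, mul_comm, zpow_mul, zpow_natCast, ← hwo, pow_orderOf_eq_one,
        one_zpow]
  have h1 := Set.ncard_le_ncard hsub (Set.toFinite _)
  rw [Set.ncard_insert_of_notMem hzw (Set.toFinite _)] at h1
  have h2 : (Subgroup.zpowers w : Set P).ncard = p := by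
    rw [← hwo, ← Nat.card_zpowers]; rfl
  haveI : Fintype P := Fintype.ofFinite P
  have h3 : ({a : P | a ^ p = 1} : Set P).ncard ≤ p := by
    have := IsCyclic.card_pow_eq_one_le (α := P) hp.pos
    rw [Set.ncard_eq_toFinset_card']
    convert this using 2
    ext a; simp
  omega

/-- a faithful action on a trivial module forces a trivial group -/
theorem subsingleton_of_trivial [FaithfulSMul P E] (h : ∀ (g : P) (e : E), g • e = e) :
    Subsingleton P := by
  constructor
  intro a b
  apply FaithfulSMul.eq_of_smul_eq_smul (α := E)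
  intro e
  rw [h, h]

theorem eq_of_nsmul_eq (hpinv : ∀ a : E, p • a = 0 → a = 0) {a b : E} (h : p • a = p • b) :
    a = b := by
  have : p • (a - b) = 0 := by rw [smul_sub, h, sub_self]
  exact sub_eq_zero.1 (hpinv _ this)

/-- the key injectivity: a vector fixed by `g`, where `g` shifts the `u j` by `μ ≠ 0`, is zero as
soon as one of its components vanishes -/
theorem eq_zero_of_comp_zero (hpinv : ∀ a : E, p • a = 0 → a = 0) (u : ZMod p → P)
    (hsum : ∀ e : E, ∑ j : ZMod p, Nm p (u j) e = p • e) (g : P) (μ : ZMod p) (hμ : μ ≠ 0)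
    (hshift : ∀ j, g * u j * g⁻¹ = u (j + μ)) (i : ZMod p) (e : E) (hge : g • e = e)
    (h0 : Nm p (u i) e = 0) : e = 0 := by
  have hk : ∀ k : ℕ, Nm p (u (i + (k : ZMod p) * μ)) e = 0 := by
    intro k
    induction k with
    | zero => simpa using h0
    | succ k ih =>
      have e1 : i + ((k + 1 : ℕ) : ZMod p) * μ = (i + (k : ZMod p) * μ) + μ := by
        push_cast; ring
      rw [e1, ← hshift]
      conv_lhs => rw [← hge]
      rw [Nm_conj, ih, smul_zero]
  have hall : ∀ j : ZMod p, Nm p (u j) e = 0 := by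
    intro j
    have := hk ((j - i) * μ⁻¹).val
    rw [ZMod.natCast_zmod_val, mul_assoc, inv_mul_cancel₀ hμ, mul_one, add_sub_cancel] at this
    exact this
  apply hpinv
  rw [← hsum e]
  exact Finset.sum_eq_zero fun j _ => hall j

theorem card_cube_le [Finite E] (hpinv : ∀ a : E, p • a = 0 → a = 0) (u : ZMod p → P)
    (hu : ∀ j, (u j) ^ p = 1)
    (horth : ∀ k l : ZMod p, k ≠ l → ∀ v : E, u l • v = v → Nm p (u k) v = 0)
    (hsum : ∀ e : E, ∑ j : ZMod p, Nm p (u j) e = p • e) (g : P) (μ : ZMod p) (hμ : μ ≠ 0)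
    (hshift : ∀ j, g * u j * g⁻¹ = u (j + μ)) (i₀ i₁ i₂ : ZMod p) (h01 : i₀ ≠ i₁) (h02 : i₀ ≠ i₂)
    (h12 : i₁ ≠ i₂) : ({e : E | g • e = e} : Set E).ncard ^ 3 ≤ Nat.card E := by
  set S : Set E := {e : E | g • e = e} with hS
  let F : E × E × E → E := fun t => Nm p (u i₀) t.1 + Nm p (u i₁) t.2.1 + Nm p (u i₂) t.2.2
  have hself : ∀ (i : ZMod p) (a : E), Nm p (u i) (Nm p (u i) a) = p • Nm p (u i) a :=
    fun i a => Nm_of_fixed _ _ (Nm_fixed _ (hu i) a)
  have hcross : ∀ (i j : ZMod p) (a : E), i ≠ j → Nm p (u i) (Nm p (u j) a) = 0 :=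
    fun i j a hij => horth i j hij _ (Nm_fixed _ (hu j) a)
  have hinjS : ∀ (i : ZMod p) (a b : E), a ∈ S → b ∈ S → Nm p (u i) a = Nm p (u i) b → a = b := by
    intro i a b ha hb hab
    have h1 : g • (a - b) = a - b := by
      rw [smul_sub, ha, hb]
    have h2 : Nm p (u i) (a - b) = 0 := by rw [Nm_sub, hab, sub_self]
    exact sub_eq_zero.1 (eq_zero_of_comp_zero hpinv u hsum g μ hμ hshift i _ h1 h2)
  have hinj : Set.InjOn F (S ×ˢ S ×ˢ S) := by
    rintro ⟨a, b, c⟩ ⟨ha, hb, hc⟩ ⟨a', b', c'⟩ ⟨ha', hb', hc'⟩ hF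
    simp only [F] at hF
    have e0 := congrArg (Nm p (u i₀)) hF
    have e1 := congrArg (Nm p (u i₁)) hF
    have e2 := congrArg (Nm p (u i₂)) hF
    simp only [Nm_add, hself, hcross _ _ _ h01, hcross _ _ _ h02, hcross _ _ _ h12,
      hcross _ _ _ h01.symm, hcross _ _ _ h02.symm, hcross _ _ _ h12.symm, add_zero, zero_add]
      at e0 e1 e2
    have := hinjS i₀ a a' ha ha' (eq_of_nsmul_eq hpinv e0)
    have := hinjS i₁ b b' hb hb' (eq_of_nsmul_eq hpinv e1)
    have := hinjS i₂ c c' hc hc' (eq_of_nsmul_eq hpinv e2)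
    simp [*]
  have h := Set.ncard_le_ncard_of_injOn (t := Set.univ) F (fun _ _ => Set.mem_univ _) hinj
    (Set.toFinite _)
  rw [Set.ncard_prod, Set.ncard_prod, Set.ncard_univ] at h
  calc S.ncard ^ 3 = S.ncard * (S.ncard * S.ncard) := by ring
    _ ≤ Nat.card E := h

end basics

/-- the action restricted to an invariant additive subgroup -/
@[reducible] def resAction {P E : Type*} [Group P] [AddCommGroup E] [DistribMulAction P E] (W : AddSubgroup E)
    (hW : ∀ g : P, ∀ w ∈ W, g • w ∈ W) : DistribMulAction P ↥W where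
  smul g w := ⟨g • (w : E), hW g w w.2⟩
  one_smul w := Subtype.ext (one_smul P (w : E))
  mul_smul g h w := Subtype.ext (mul_smul g h (w : E))
  smul_zero g := Subtype.ext (smul_zero g)
  smul_add g a b := Subtype.ext (smul_add g (a : E) (b : E))

theorem restrict_trivial {p n : ℕ} (ih : ∀ m < n, ALstmt.{u} p m) {E P : Type u} [AddCommGroup E]
    [Finite E] [Group P] [Finite P] [DistribMulAction P E] (hcard : Nat.card E = n)
    (hP : IsPGroup p P) (hpinv : ∀ a : E, p • a = 0 → a = 0) (C D : Set P)
    (hC : Subgroup.closure C = ⊤) (hD : Subgroup.closure D = ⊤)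
    (hyp : ∀ c ∈ C, ∀ d ∈ D, ∀ e : E, ∃ e₁ e₂ : E, c • e₁ = e₁ ∧ d • e₂ = e₂ ∧ e = e₁ + e₂)
    (W : AddSubgroup E) (hW : ∀ g : P, ∀ w ∈ W, g • w ∈ W) (hlt : W ≠ ⊤)
    (π : E → E) (hπW : ∀ e, π e ∈ W) (hπp : ∀ w ∈ W, π w = p • w)
    (hπadd : ∀ a b, π (a + b) = π a + π b) (hπeq : ∀ (g : P) (e : E), π (g • e) = g • π e) :
    ∀ g : P, ∀ w ∈ W, g • w = w := by
  letI : DistribMulAction P ↥W := resAction W hW
  have hsm : ∀ (g : P) (w : ↥W), ((g • w : ↥W) : E) = g • (w : E) := fun g w => rfl
  have hltc : Nat.card ↥W < n := by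
    rw [← hcard]
    have hlt' : W < ⊤ := lt_top_iff_ne_top.2 hlt
    have := AddSubgroup.card_le_of_le (le_top : W ≤ ⊤)
    by_contra hcon
    push Not at hcon
    apply hlt
    apply AddSubgroup.eq_top_of_card_eq
    have h2 : Nat.card ↥W ≤ Nat.card E := Nat.card_le_card_of_injective _ Subtype.val_injective
    omega
  have hpinvW : ∀ a : ↥W, p • a = 0 → a = 0 := by
    intro a ha
    apply Subtype.ext
    apply hpinv
    have := congrArg Subtype.val ha
    simpa using this
  -- surjectivity of multiplication by p on W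
  have hsurj : ∀ w : ↥W, ∃ w' : ↥W, p • w' = w := by
    have hinj : Function.Injective (fun w : ↥W => p • w) := by
      intro a b hab
      have : p • (a - b) = 0 := by rw [smul_sub]; exact sub_eq_zero.2 hab
      exact sub_eq_zero.1 (hpinvW _ this)
    exact Finite.surjective_of_injective hinj
  have hypW : ∀ c ∈ C, ∀ d ∈ D, ∀ e : ↥W, ∃ e₁ e₂ : ↥W, c • e₁ = e₁ ∧ d • e₂ = e₂ ∧ e = e₁ + e₂ := by
    intro c hc d hd w
    obtain ⟨w', hw'⟩ := hsurj w
    obtain ⟨e₁, e₂, h1, h2, h3⟩ := hyp c hc d hd (w' : E)
    refine ⟨⟨π e₁, hπW _⟩, ⟨π e₂, hπW _⟩, ?_, ?_, ?_⟩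
    · apply Subtype.ext
      rw [hsm]
      change c • π e₁ = π e₁
      rw [← hπeq, h1]
    · apply Subtype.ext
      rw [hsm]
      change d • π e₂ = π e₂
      rw [← hπeq, h2]
    · apply Subtype.ext
      rw [← hw']
      change ((p • w' : ↥W) : E) = π e₁ + π e₂
      rw [← hπadd, ← h3, hπp _ w'.2]
      simp
  have := unfaithful (ih _ hltc) rfl hP hpinvW C D hC hD hypW
  intro g w hw
  have h := this g ⟨w, hw⟩
  exact congrArg Subtype.val h

/-- fixed points of an element, as an additive subgroup -/
def fixAdd {P E : Type*} [Group P] [AddCommGroup E] [DistribMulAction P E] (x : P) :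
    AddSubgroup E where
  carrier := {e | x • e = e}
  zero_mem' := smul_zero x
  add_mem' := by
    intro a b ha hb
    change x • (a + b) = a + b
    rw [smul_add, ha, hb]
  neg_mem' := by
    intro a ha
    change x • (-a) = -a
    rw [smul_neg, ha]

theorem mem_fixAdd {P E : Type*} [Group P] [AddCommGroup E] [DistribMulAction P E] (x : P)
    (e : E) : e ∈ fixAdd (E := E) x ↔ x • e = e := Iff.rfl

theorem AL (p : ℕ) [hp : Fact p.Prime] (hp2 : p ≠ 2) : ∀ n, ALstmt.{u} p n := by
  intro n
  induction n using Nat.strong_induction_on with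
  | _ n ih =>
  intro E P _ _ _ _ _ _ hcard hP hpinv C D hC hD hyp
  by_contra hns
  rw [not_subsingleton_iff_nontrivial] at hns
  have hpp : p.Prime := hp.out
  -- a central element of order p
  have hcn : Nontrivial (Subgroup.center P) := hP.center_nontrivial
  have hcp : IsPGroup p (Subgroup.center P) := hP.to_subgroup _
  obtain ⟨zb, hzb⟩ : ∃ x : Subgroup.center P, orderOf x = p := by
    apply exists_prime_orderOf_dvd_card' p
    obtain ⟨k, hk⟩ := (IsPGroup.iff_card).1 hcp
    rw [hk]
    have hk0 : k ≠ 0 := by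
      rintro rfl
      have h1 : Nat.card (Subgroup.center P) = 1 := by simpa using hk
      have h2 := Finite.one_lt_card_iff_nontrivial.2 hcn
      omega
    exact dvd_pow_self p hk0
  set z : P := (zb : P) with hzdef
  have hzc : z ∈ Subgroup.center P := zb.2
  have hzo : orderOf z = p := by rw [hzdef, Subgroup.orderOf_coe]; exact hzb
  have hzp : z ^ p = 1 := by rw [← hzo, pow_orderOf_eq_one]
  have hz1 : z ≠ 1 := by
    intro h
    rw [h, orderOf_one] at hzo
    exact hpp.one_lt.ne hzo
  have hzcomm : ∀ g : P, g * z = z * g := fun g => (Subgroup.mem_center_iff.1 hzc g)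
  have hfaith : ∀ x : P, (∀ e : E, x • e = e) → x = 1 := by
    intro x hx
    apply FaithfulSMul.eq_of_smul_eq_smul (α := E)
    intro e
    rw [hx, one_smul]
  -- Step 1 : the norm of z vanishes
  have hNz : ∀ e : E, Nm p z e = 0 := by
    by_contra hcon
    push Not at hcon
    obtain ⟨e₀, he₀⟩ := hcon
    let W₂ : AddSubgroup E := (NmHom (E := E) p z).ker
    have hW₂ : ∀ e : E, e ∈ W₂ ↔ Nm p z e = 0 := fun e => AddMonoidHom.mem_ker
    have hNN : ∀ e : E, Nm p z (Nm p z e) = p • Nm p z e :=
      fun e => Nm_of_fixed _ _ (Nm_fixed z hzp e)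
    have htriv := restrict_trivial ih hcard hP hpinv C D hC hD hyp W₂
      (by
        intro g w hw
        rw [hW₂] at hw ⊢
        rw [Nm_smul_comm z g (hzcomm g), hw, smul_zero])
      (by
        intro h
        have : e₀ ∈ W₂ := by rw [h]; trivial
        exact he₀ ((hW₂ _).1 this))
      (fun e => p • e - Nm p z e)
      (by
        intro e
        rw [hW₂, Nm_sub, Nm_nsmul, hNN, sub_self])
      (by
        intro w hw
        rw [(hW₂ w).1 hw, sub_zero])
      (by
        intro a b
        rw [smul_add, Nm_add]; abel)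
      (by
        intro g e
        rw [Nm_smul_comm z g (hzcomm g), smul_sub, smul_nsmul_c])
    have hW₂bot : ∀ w ∈ W₂, w = 0 := by
      intro w hw
      have h1 := htriv z w hw
      have h2 := Nm_of_fixed (p := p) z w h1
      rw [(hW₂ w).1 hw] at h2
      exact hpinv w h2.symm
    apply hz1
    apply hfaith
    intro e
    have h1 : p • e - Nm p z e = 0 := hW₂bot _ (by rw [hW₂, Nm_sub, Nm_nsmul, hNN, sub_self])
    have h2 : p • e = Nm p z e := sub_eq_zero.1 h1
    apply eq_of_nsmul_eq hpinv
    rw [← smul_nsmul_c, h2, Nm_fixed z hzp]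
  have hzfix : ∀ a : E, z • a = a → a = 0 := by
    intro a ha
    apply hpinv
    rw [← Nm_of_fixed z a ha, hNz]
  have hEnt : ¬ ∀ e : E, e = 0 := by
    intro hall
    apply not_subsingleton P
    apply subsingleton_of_trivial (E := E)
    intro g e
    rw [hall e, smul_zero]
  by_cases hcyc : IsCyclic P
  · -- cyclic case
    have key : ∀ x : P, x ≠ 1 → ∀ a : E, x • a = a → a = 0 := by
      intro x hx a ha
      apply hzfix
      obtain ⟨k, hk⟩ := Subgroup.mem_zpowers_iff.1 (mem_zpowers_of_cyclic hcyc hP z x hzp hx)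
      rw [← hk]
      have : ∀ k : ℤ, x ^ k • a = a := by
        intro k
        have hmem : x ∈ MulAction.stabilizer P a := ha
        exact (MulAction.stabilizer P a).zpow_mem hmem k
      exact this k
    have hexC : ∃ c ∈ C, c ≠ 1 := by
      by_contra hcon
      push Not at hcon
      have : Subgroup.closure C ≤ ⊥ := (Subgroup.closure_le _).2 (fun c hc => by
        simp [hcon c hc])
      rw [hC] at this
      exact not_subsingleton P ⟨fun a b => by
          have ha : a ∈ (⊥ : Subgroup P) := this (Subgroup.mem_top a)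
          have hb : b ∈ (⊥ : Subgroup P) := this (Subgroup.mem_top b)
          rw [Subgroup.mem_bot] at ha hb
          rw [ha, hb]⟩
    have hexD : ∃ d ∈ D, d ≠ 1 := by
      by_contra hcon
      push Not at hcon
      have : Subgroup.closure D ≤ ⊥ := (Subgroup.closure_le _).2 (fun c hc => by
        simp [hcon c hc])
      rw [hD] at this
      exact not_subsingleton P ⟨fun a b => by
          have ha : a ∈ (⊥ : Subgroup P) := this (Subgroup.mem_top a)
          have hb : b ∈ (⊥ : Subgroup P) := this (Subgroup.mem_top b)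
          rw [Subgroup.mem_bot] at ha hb
          rw [ha, hb]⟩
    obtain ⟨c, hcC, hc1⟩ := hexC
    obtain ⟨d, hdD, hd1⟩ := hexD
    apply hEnt
    intro e
    obtain ⟨e₁, e₂, h1, h2, h3⟩ := hyp c hcC d hdD e
    rw [h3, key c hc1 e₁ h1, key d hd1 e₂ h2, add_zero]
  · -- noncyclic case
    obtain ⟨y, hy1, hyn, hyc⟩ := exists_good p hpp hp2 (Nat.card P) P rfl hP hcyc z hzc hzo
    set u : ZMod p → P := fun j => pw p z j * y with hu_def
    have hzy : ∀ j : ZMod p, pw p z j * y = y * pw p z j :=
      fun j => (pw_comm z y (hzcomm y) j).symm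
    have hu : ∀ j, (u j) ^ p = 1 := by
      intro j
      have : Commute (pw p z j) y := hzy j
      rw [hu_def]
      simp only
      rw [this.mul_pow, pw_pow z hzp, hy1, one_mul]
    have hfixθ : ∀ (j : ZMod p) (e : E), u j • Nm p (u j) e = Nm p (u j) e := fun j e => Nm_fixed _ (hu j) e
    have horth : ∀ k l : ZMod p, k ≠ l → ∀ v : E, u l • v = v → Nm p (u k) v = 0 :=
      fun k l hkl v hv => proj_ne z hzc hzp hzfix y k l hkl v hv
    have hsum : ∀ e : E, ∑ j : ZMod p, Nm p (u j) e = p • e :=
      fun e => sum_Nm z y hzcomm hzp e (hNz e)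
    by_cases hycen : ∀ g : P, g * y = y * g
    · -- y central: every summand is invariant
      have hucomm : ∀ (j : ZMod p) (g : P), g * u j = u j * g := by
        intro j g
        rw [hu_def]
        simp only
        rw [← mul_assoc, pw_comm z g (hzcomm g) j, mul_assoc, hycen g, mul_assoc]
      have htriv : ∀ (j : ZMod p) (g : P) (w : E), u j • w = w → g • w = w := by
        intro j
        have hne : fixAdd (E := E) (u j) ≠ ⊤ := by
          intro htop
          have h1 : u j = 1 := hfaith _ (fun e => by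
            have : e ∈ fixAdd (E := E) (u j) := by rw [htop]; trivial
            exact this)
          apply hyn
          have h2 : y = (pw p z j)⁻¹ := by
            rw [hu_def] at h1
            simp only at h1
            exact eq_inv_of_mul_eq_one_right h1
          rw [h2]
          apply Subgroup.inv_mem
          unfold pw
          exact Subgroup.pow_mem _ (Subgroup.mem_zpowers z) _
        have := restrict_trivial ih hcard hP hpinv C D hC hD hyp (fixAdd (E := E) (u j))
          (by
            intro g w hw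
            rw [mem_fixAdd] at hw ⊢
            rw [smul_smul, ← hucomm j g, mul_smul, hw])
          hne (Nm p (u j)) (fun e => hfixθ j e) (fun w hw => Nm_of_fixed _ _ hw)
          (Nm_add _) (fun g e => Nm_smul_comm (u j) g (hucomm j g) e)
        exact fun g w hw => this g w hw
      apply not_subsingleton P
      apply subsingleton_of_trivial (E := E)
      intro g e
      apply eq_of_nsmul_eq hpinv
      rw [← smul_nsmul_c, ← hsum e, Finset.smul_sum]
      exact Finset.sum_congr rfl fun j _ => htriv j g _ (hfixθ j e)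
    · -- y not central
      push Not at hycen
      obtain ⟨g₀, hg₀⟩ := hycen
      have hexC : ∃ c ∈ C, c * y ≠ y * c := by
        by_contra hcon
        push Not at hcon
        have : Subgroup.closure C ≤ Subgroup.centralizer {y} := (Subgroup.closure_le _).2 (fun c hc => by
          rw [SetLike.mem_coe, Subgroup.mem_centralizer_iff]
          intro x hx
          rw [Set.mem_singleton_iff] at hx
          rw [hx]; exact (hcon c hc).symm)
        rw [hC] at this
        have h := this (Subgroup.mem_top g₀)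
        rw [Subgroup.mem_centralizer_iff] at h
        exact hg₀ (h y rfl).symm
      have hexD : ∃ d ∈ D, d * y ≠ y * d := by
        by_contra hcon
        push Not at hcon
        have : Subgroup.closure D ≤ Subgroup.centralizer {y} := (Subgroup.closure_le _).2 (fun c hc => by
          rw [SetLike.mem_coe, Subgroup.mem_centralizer_iff]
          intro x hx
          rw [Set.mem_singleton_iff] at hx
          rw [hx]; exact (hcon c hc).symm)
        rw [hD] at this
        have h := this (Subgroup.mem_top g₀)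
        rw [Subgroup.mem_centralizer_iff] at h
        exact hg₀ (h y rfl).symm
      have hshift : ∀ g : P, g * y ≠ y * g → ∃ μ : ZMod p, μ ≠ 0 ∧ ∀ j, g * u j * g⁻¹ = u (j + μ) := by
        intro g hg
        obtain ⟨k, hk⟩ := Subgroup.mem_zpowers_iff.1 (hyc g)
        rw [zpow_eq_pw z hzp k] at hk
        refine ⟨(k : ZMod p), ?_, ?_⟩
        · intro h0
          rw [h0, pw_zero] at hk
          apply hg
          have : g * y * g⁻¹ = y := by
            have := congrArg (· * y) hk
            simpa using this.symm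
          calc g * y = g * y * g⁻¹ * g := by group
            _ = y * g := by rw [this]
        · intro j
          have h1 : g * y * g⁻¹ = pw p z (k : ZMod p) * y := by
            have := congrArg (· * y) hk
            simpa using this.symm
          rw [hu_def]
          simp only
          calc g * (pw p z j * y) * g⁻¹ = (g * pw p z j) * y * g⁻¹ := by group
            _ = pw p z j * (g * y * g⁻¹) := by rw [pw_comm z g (hzcomm g) j]; group
            _ = pw p z j * (pw p z (k : ZMod p) * y) := by rw [h1]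
            _ = pw p z (j + (k : ZMod p)) * y := by rw [pw_add z hzp, mul_assoc]
      obtain ⟨c, hcC, hcy⟩ := hexC
      obtain ⟨d, hdD, hdy⟩ := hexD
      obtain ⟨μ, hμ, hsc⟩ := hshift c hcy
      obtain ⟨ν, hν, hsd⟩ := hshift d hdy
      have h3 : (3 : ℕ) ≤ p := by
        have := hpp.two_le
        omega
      have : Fact (2 < p) := ⟨by omega⟩
      have h01 : (0 : ZMod p) ≠ 1 := zero_ne_one
      have h02 : (0 : ZMod p) ≠ 2 := by
        intro h
        have : ((2 : ℕ) : ZMod p) = 0 := by exact_mod_cast h.symm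
        rw [ZMod.natCast_eq_zero_iff] at this
        exact absurd (Nat.le_of_dvd (by norm_num) this) (by omega)
      have h12 : (1 : ZMod p) ≠ 2 := by
        intro h
        have : (1 : ZMod p) = 0 := by
          have h' : (1 : ZMod p) + 1 = 2 := by norm_num
          rw [← h'] at h
          exact (add_eq_left.1 h.symm)
        exact one_ne_zero this
      have hc3 := card_cube_le hpinv u hu horth hsum c μ hμ hsc 0 1 2 h01 h02 h12
      have hd3 := card_cube_le hpinv u hu horth hsum d ν hν hsd 0 1 2 h01 h02 h12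
      set Fc : Set E := {e : E | c • e = e} with hFc
      set Fd : Set E := {e : E | d • e = e} with hFd
      have hcov : Nat.card E ≤ Fc.ncard * Fd.ncard := by
        rw [← Set.ncard_univ, ← Set.ncard_prod]
        have himg : (Set.univ : Set E) ⊆ (fun t : E × E => t.1 + t.2) '' (Fc ×ˢ Fd) := by
          intro e _
          obtain ⟨e₁, e₂, h1, h2, h3⟩ := hyp c hcC d hdD e
          exact ⟨(e₁, e₂), ⟨h1, h2⟩, h3.symm⟩
        exact (Set.ncard_le_ncard himg (Set.toFinite _)).trans (Set.ncard_image_le (Set.toFinite _))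
      have hEpos : 0 < Nat.card E := Nat.card_pos
      have hle1 : Nat.card E ≤ 1 := by
        by_contra hcon
        push Not at hcon
        have h4 : Nat.card E ^ 3 ≤ (Fc.ncard * Fd.ncard) ^ 3 := Nat.pow_le_pow_left hcov 3
        have h5 : (Fc.ncard * Fd.ncard) ^ 3 ≤ Nat.card E * Nat.card E := by
          rw [mul_pow]
          exact Nat.mul_le_mul hc3 hd3
        have h6 : Nat.card E ^ 3 = Nat.card E * Nat.card E * Nat.card E := by ring
        nlinarith
      apply hEnt
      intro e
      have : Subsingleton E := Finite.card_le_one_iff_subsingleton.1 hle1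
      exact Subsingleton.elim _ _

end Cfsg.Agent.Lib.Helper20.TwoGen
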