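import Mathlib
import Cfsg.Agent.Lib.Helper20.TwoGen
import Cfsg.Agent.Lib.Lead.Coprime
import Cfsg.Agent.Lib.Helper24.MetaNPC
import Cfsg.Agent.Lib.Helper1.Frat

set_option autoImplicit false

/-!
# Two generating sets: from the abstract module lemma to subgroups of a group
-/

namespace Cfsg.Agent.Lib.Helper20.TwoGen

universe u

/-- additive version of a multiplicative distributive action on a commutative group -/
@[reducible] def addAct (Γ A : Type*) [Monoid Γ] [CommGroup A] [MulDistribMulAction Γ A] :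
    DistribMulAction Γ (Additive A) where
  smul g a := Additive.ofMul (g • Additive.toMul a)
  one_smul a := by
    change Additive.ofMul ((1 : Γ) • Additive.toMul a) = a
    rw [one_smul]; rfl
  mul_smul g h a := by
    change Additive.ofMul ((g * h) • Additive.toMul a) =
      Additive.ofMul (g • (h • Additive.toMul a))
    rw [mul_smul]
  smul_zero g := by
    change Additive.ofMul (g • (1 : A)) = 0
    rw [smul_one]; rfl
  smul_add g a b := by
    change Additive.ofMul (g • (Additive.toMul a * Additive.toMul b)) =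
      Additive.ofMul (g • Additive.toMul a) + Additive.ofMul (g • Additive.toMul b)
    rw [smul_mul']; rfl

theorem comm_version {p : ℕ} [Fact p.Prime] (hp2 : p ≠ 2) {A Γ : Type u} [CommGroup A] [Finite A]
    [Group Γ] [Finite Γ] [MulDistribMulAction Γ A] (hΓ : IsPGroup p Γ)
    (hcop : (Nat.card A).Coprime p) (C D : Set Γ) (hC : Subgroup.closure C = ⊤)
    (hD : Subgroup.closure D = ⊤)
    (hyp : ∀ c ∈ C, ∀ d ∈ D, ∀ a : A, ∃ a₁ a₂ : A, c • a₁ = a₁ ∧ d • a₂ = a₂ ∧ a = a₁ * a₂) :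
    ∀ (g : Γ) (a : A), g • a = a := by
  letI : DistribMulAction Γ (Additive A) := addAct Γ A
  have hpinv : ∀ a : Additive A, p • a = 0 → a = 0 := by
    intro a ha
    have h1 : (Additive.toMul a) ^ p = 1 := ha
    have h2 : orderOf (Additive.toMul a) ∣ p := orderOf_dvd_of_pow_eq_one h1
    have h3 : orderOf (Additive.toMul a) ∣ Nat.card A := orderOf_dvd_natCard _
    have h4 : orderOf (Additive.toMul a) ∣ 1 := by
      have := Nat.dvd_gcd h3 h2
      rwa [Nat.Coprime.gcd_eq_one hcop] at this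
    have h5 : Additive.toMul a = 1 := orderOf_eq_one_iff.1 (Nat.dvd_one.1 h4)
    exact h5
  have key := unfaithful (AL p hp2 _) (E := Additive A) rfl hΓ hpinv C D hC hD (by
    intro c hc d hd e
    obtain ⟨a₁, a₂, h1, h2, h3⟩ := hyp c hc d hd (Additive.toMul e)
    refine ⟨Additive.ofMul a₁, Additive.ofMul a₂, ?_, ?_, ?_⟩
    · change Additive.ofMul (c • a₁) = Additive.ofMul a₁
      rw [h1]
    · change Additive.ofMul (d • a₂) = Additive.ofMul a₂
      rw [h2]
    · change e = Additive.ofMul (a₁ * a₂)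
      rw [← h3]; rfl)
  intro g a
  exact key g (Additive.ofMul a)

theorem quot_version {p : ℕ} [Fact p.Prime] (hp2 : p ≠ 2) {Q Γ : Type u} [Group Q] [Finite Q]
    [Group Γ] [Finite Γ] [MulDistribMulAction Γ Q] (hcop : (Nat.card Q).Coprime p)
    (hΓ : IsPGroup p Γ) (Φ : Subgroup Q) [Φ.Normal] (hΦ : commutator Q ≤ Φ)
    (hinv : ∀ (g : Γ) (x : Q), x ∈ Φ → g • x ∈ Φ) (C D : Set Γ)
    (hC : Subgroup.closure C = ⊤) (hD : Subgroup.closure D = ⊤)
    (hyp : ∀ c ∈ C, ∀ d ∈ D, ∀ x : Q, ∃ u w : Q, d • u = u ∧ c • w = w ∧ x = u * w) :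
    ∀ (g : Γ) (x : Q), x⁻¹ * g • x ∈ Φ := by
  have hcomm : ∀ a b : Q ⧸ Φ, a * b = b * a := by
    intro a b
    induction a using QuotientGroup.induction_on with
    | H a =>
    induction b using QuotientGroup.induction_on with
    | H b =>
    rw [← QuotientGroup.mk_mul, ← QuotientGroup.mk_mul, QuotientGroup.eq]
    apply hΦ
    have : (a * b)⁻¹ * (b * a) = b⁻¹ * a⁻¹ * (b⁻¹)⁻¹ * (a⁻¹)⁻¹ := by group
    rw [this]
    exact Subgroup.commutator_mem_commutator (H₁ := ⊤) (H₂ := ⊤) (Subgroup.mem_top b⁻¹)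
      (Subgroup.mem_top a⁻¹)
  letI : CommGroup (Q ⧸ Φ) := { (inferInstance : Group (Q ⧸ Φ)) with mul_comm := hcomm }
  let f : Γ → (Q ⧸ Φ →* Q ⧸ Φ) := fun g =>
    QuotientGroup.map Φ Φ (MulDistribMulAction.toMonoidEnd Γ Q g) (fun x hx => hinv g x hx)
  have hf : ∀ (g : Γ) (x : Q), f g (QuotientGroup.mk x) = QuotientGroup.mk (g • x) :=
    fun g x => rfl
  letI : MulDistribMulAction Γ (Q ⧸ Φ) :=
    { smul := fun g a => f g a
      one_smul := by
        intro a
        induction a using QuotientGroup.induction_on with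
        | H a =>
        change f 1 (QuotientGroup.mk a) = _
        rw [hf, one_smul]
      mul_smul := by
        intro g h a
        induction a using QuotientGroup.induction_on with
        | H a =>
        change f (g * h) (QuotientGroup.mk a) = f g (f h (QuotientGroup.mk a))
        rw [hf, hf, hf, mul_smul]
      smul_mul := fun g a b => map_mul (f g) a b
      smul_one := fun g => map_one (f g) }
  have hmk : ∀ (g : Γ) (x : Q), g • (QuotientGroup.mk x : Q ⧸ Φ) = QuotientGroup.mk (g • x) :=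
    fun g x => rfl
  have hcop' : (Nat.card (Q ⧸ Φ)).Coprime p :=
    Nat.Coprime.coprime_dvd_left (Subgroup.card_quotient_dvd_card Φ) hcop
  have key := comm_version hp2 (A := Q ⧸ Φ) hΓ hcop' C D hC hD (by
    intro c hc d hd a
    induction a using QuotientGroup.induction_on with
    | H x =>
    obtain ⟨u, w, h1, h2, h3⟩ := hyp c hc d hd x
    refine ⟨QuotientGroup.mk w, QuotientGroup.mk u, ?_, ?_, ?_⟩
    · rw [hmk, h2]
    · rw [hmk, h1]
    · rw [h3, QuotientGroup.mk_mul, mul_comm])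
  intro g x
  have h := key g (QuotientGroup.mk x)
  rw [hmk, eq_comm, QuotientGroup.eq] at h
  exact h

theorem HQ_of_hyp {G : Type*} [Group G] [Finite G] (p : ℕ) [Fact p.Prime] (P : Sylow p G)
    (N : Subgroup G) (hN : (Nat.card N).Coprime p) (Qs : Subgroup G) (hQN : Qs ≤ N)
    (hPQ : (P : Subgroup G) ≤ Subgroup.normalizer (Qs : Set G)) (c d : G)
    (hc : c ∈ (P : Subgroup G)) (hd : d ∈ (P : Subgroup G)) (x : G) (hx : x ∈ Qs)
    (hR : IsPGroup p ↥(Subgroup.closure ({x * c * x⁻¹, d} : Set G))) :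
    ∃ u ∈ Qs, ∃ w ∈ Qs, u * d = d * u ∧ w * c = c * w ∧ x = u * w := by
  -- P ∩ N = 1
  have hPN : ∀ y : G, y ∈ (P : Subgroup G) → y ∈ N → y = 1 := by
    intro y hyP hyN
    have hcop : (Nat.card N).Coprime (Nat.card (P : Subgroup G)) := by
      obtain ⟨k, hk⟩ := (IsPGroup.iff_card).1 P.2
      rw [hk]
      exact Nat.Coprime.pow_right _ hN
    have := (Subgroup.disjoint_of_coprime_natCard hcop).eq_bot
    have hmem : y ∈ N ⊓ (P : Subgroup G) := ⟨hyN, hyP⟩
    rw [this] at hmem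
    exact Subgroup.mem_bot.1 hmem
  set H : Subgroup G := Qs ⊔ (P : Subgroup G) with hH
  have hPH : (P : Subgroup G) ≤ H := le_sup_right
  have hQH : Qs ≤ H := le_sup_left
  set R : Subgroup G := Subgroup.closure ({x * c * x⁻¹, d} : Set G) with hRdef
  have hRH : R ≤ H := by
    rw [hRdef, Subgroup.closure_le]
    rintro y hy
    rcases hy with rfl | hy
    · exact H.mul_mem (H.mul_mem (hQH hx) (hPH hc)) (H.inv_mem (hQH hx))
    · rw [Set.mem_singleton_iff] at hy
      rw [hy]; exact hPH hd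
  have hR' : IsPGroup p ↥(R.subgroupOf H) := hR.comap_subtype
  obtain ⟨S, hS⟩ := hR'.exists_le_sylow
  obtain ⟨g, hg⟩ := MulAction.exists_smul_eq ↥H (P.subtype hPH) S
  -- decompose g
  have hgmem : (g : G) ∈ ((Qs ⊔ (P : Subgroup G) : Subgroup G) : Set G) := g.2
  rw [Subgroup.coe_mul_of_right_le_normalizer_left Qs (P : Subgroup G) hPQ] at hgmem
  obtain ⟨u, hu, t, ht, hut⟩ := hgmem
  have hu' : u ∈ Qs := hu
  have ht' : t ∈ (P : Subgroup G) := ht
  -- membership transfer
  have hmemP : ∀ y : G, y ∈ R → u⁻¹ * y * u ∈ (P : Subgroup G) := by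
    intro y hy
    have hyH : y ∈ H := hRH hy
    have h1 : (⟨y, hyH⟩ : ↥H) ∈ R.subgroupOf H := by
      rw [Subgroup.mem_subgroupOf]; exact hy
    have h2 : (⟨y, hyH⟩ : ↥H) ∈ (S : Subgroup ↥H) := hS h1
    rw [← hg, Sylow.coe_subgroup_smul, Subgroup.mem_pointwise_smul_iff_inv_smul_mem] at h2
    rw [Sylow.coe_subtype, Subgroup.mem_subgroupOf] at h2
    have h3 : g⁻¹ * (⟨y, hyH⟩ : ↥H) * g ∈ (P : Subgroup G).subgroupOf H := by
      have : (MulAut.conj g)⁻¹ • (⟨y, hyH⟩ : ↥H) = g⁻¹ * (⟨y, hyH⟩ : ↥H) * g := by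
        rw [MulAut.smul_def, MulAut.conj_inv_apply]
      rw [← this, Subgroup.mem_subgroupOf]; exact h2
    rw [Subgroup.mem_subgroupOf] at h3
    have h4 : (g : G)⁻¹ * y * (g : G) ∈ (P : Subgroup G) := h3
    rw [← hut] at h4
    have h5 : u⁻¹ * y * u = t * ((u * t)⁻¹ * y * (u * t)) * t⁻¹ := by group
    rw [h5]
    exact (P : Subgroup G).mul_mem ((P : Subgroup G).mul_mem ht' h4) ((P : Subgroup G).inv_mem ht')
  have hdR : d ∈ R := Subgroup.subset_closure (by simp)
  have hcR : x * c * x⁻¹ ∈ R := Subgroup.subset_closure (by simp)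
  have hnorm : ∀ t ∈ (P : Subgroup G), ∀ y ∈ Qs, t * y * t⁻¹ ∈ Qs := by
    intro t ht y hy
    exact (Subgroup.mem_normalizer_iff.1 (hPQ ht) y).1 hy
  refine ⟨u, hu', u⁻¹ * x, Qs.mul_mem (Qs.inv_mem hu') hx, ?_, ?_, by group⟩
  · -- u commutes with d
    have h1 := hmemP d hdR
    have h2 : d⁻¹ * (u⁻¹ * d * u) ∈ (P : Subgroup G) := (P : Subgroup G).mul_mem ((P : Subgroup G).inv_mem hd) h1
    have h3 : d⁻¹ * (u⁻¹ * d * u) ∈ Qs := by
      have : d⁻¹ * (u⁻¹ * d * u) = (d⁻¹ * u⁻¹ * (d⁻¹)⁻¹) * u := by group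
      rw [this]
      exact Qs.mul_mem (hnorm _ ((P : Subgroup G).inv_mem hd) _ (Qs.inv_mem hu')) hu'
    have h4 := hPN _ h2 (hQN h3)
    have : u * d = d * u * (d⁻¹ * (u⁻¹ * d * u))⁻¹ := by group
    rw [this, h4, inv_one, mul_one]
  · -- u⁻¹ x commutes with c
    have h1 := hmemP _ hcR
    set w := u⁻¹ * x with hw
    have hwQ : w ∈ Qs := Qs.mul_mem (Qs.inv_mem hu') hx
    have h1' : w * c * w⁻¹ ∈ (P : Subgroup G) := by
      have : w * c * w⁻¹ = u⁻¹ * (x * c * x⁻¹) * u := by rw [hw]; group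
      rw [this]; exact h1
    have h2 : w * c * w⁻¹ * c⁻¹ ∈ (P : Subgroup G) := (P : Subgroup G).mul_mem h1' ((P : Subgroup G).inv_mem hc)
    have h3 : w * c * w⁻¹ * c⁻¹ ∈ Qs := by
      have : w * c * w⁻¹ * c⁻¹ = w * (c * w⁻¹ * c⁻¹) := by group
      rw [this]
      exact Qs.mul_mem hwQ (hnorm _ hc _ (Qs.inv_mem hwQ))
    have h4 := hPN _ h2 (hQN h3)
    have : w * c = (w * c * w⁻¹ * c⁻¹) * (c * w) := by group
    rw [this, h4, one_mul]

/-- conjugation action of a subgroup normalizing another one -/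
@[reducible] def conjAct {G : Type*} [Group G] (P Qs : Subgroup G)
    (hPQ : P ≤ Subgroup.normalizer (Qs : Set G)) : MulDistribMulAction ↥P ↥Qs where
  smul t x := ⟨(t : G) * x * (t : G)⁻¹, (Subgroup.mem_normalizer_iff.1 (hPQ t.2) x).1 x.2⟩
  one_smul x := by
    apply Subtype.ext
    change ((1 : ↥P) : G) * x * ((1 : ↥P) : G)⁻¹ = x
    simp
  mul_smul s t x := by
    apply Subtype.ext
    change ((s * t : ↥P) : G) * x * ((s * t : ↥P) : G)⁻¹ = (s : G) * ((t : G) * x * (t : G)⁻¹) * (s : G)⁻¹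
    rw [Subgroup.coe_mul]; group
  smul_mul t x y := by
    apply Subtype.ext
    change (t : G) * ((x * y : ↥Qs) : G) * (t : G)⁻¹ = ((t : G) * x * (t : G)⁻¹) * ((t : G) * y * (t : G)⁻¹)
    rw [Subgroup.coe_mul]; group
  smul_one t := by
    apply Subtype.ext
    change (t : G) * ((1 : ↥Qs) : G) * (t : G)⁻¹ = 1
    simp

theorem closure_preimage_top {G : Type*} [Group G] (H : Subgroup G) (S : Set G)
    (h : Subgroup.closure S = H) : Subgroup.closure (H.subtype ⁻¹' S) = ⊤ := by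
  subst h
  exact Subgroup.closure_preimage_eq_top S

theorem centralizes_of_H {G : Type u} [Group G] [Finite G] {p q : ℕ} [Fact p.Prime]
    [Fact q.Prime] (hp2 : p ≠ 2) (hpq : p ≠ q) (P Qs : Subgroup G) (hP : IsPGroup p P)
    (hQ : IsPGroup q Qs) (hPQ : P ≤ Subgroup.normalizer (Qs : Set G)) (C D : Set G)
    (hC : Subgroup.closure C = P) (hD : Subgroup.closure D = P)
    (hH : ∀ c ∈ C, ∀ d ∈ D, ∀ x ∈ Qs, ∃ u ∈ Qs, ∃ w ∈ Qs,
      u * d = d * u ∧ w * c = c * w ∧ x = u * w) :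
    ∀ t ∈ P, ∀ x ∈ Qs, x * t = t * x := by
  letI : MulDistribMulAction ↥P ↥Qs := conjAct P Qs hPQ
  have hsm : ∀ (t : ↥P) (x : ↥Qs), ((t • x : ↥Qs) : G) = (t : G) * x * (t : G)⁻¹ := fun t x => rfl
  have hpp : p.Prime := Fact.out
  have hqp : q.Prime := Fact.out
  have hcopq : (Nat.card ↥Qs).Coprime p := by
    obtain ⟨k, hk⟩ := (IsPGroup.iff_card).1 hQ
    rw [hk]
    exact Nat.Coprime.pow_left _ ((Nat.coprime_primes hqp hpp).2 (Ne.symm hpq))
  have key := quot_version hp2 (Q := ↥Qs) (Γ := ↥P) hcopq hP (frattini ↥Qs)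
    (Cfsg.Agent.Lib.Helper1.pgroup_commutator_le_frattini hQ)
    (by
      intro g x hx
      have hchar : (frattini ↥Qs).Characteristic := inferInstance
      have := (Subgroup.characteristic_iff_le_comap.1 hchar) (MulDistribMulAction.toMulAut ↥P ↥Qs g)
      exact this hx)
    (P.subtype ⁻¹' C) (P.subtype ⁻¹' D) (closure_preimage_top P C hC) (closure_preimage_top P D hD)
    (by
      intro c hc d hd x
      obtain ⟨u, hu, w, hw, h1, h2, h3⟩ := hH (c : G) hc (d : G) hd (x : G) x.2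
      refine ⟨⟨u, hu⟩, ⟨w, hw⟩, ?_, ?_, ?_⟩
      · apply Subtype.ext
        rw [hsm]
        change (d : G) * u * (d : G)⁻¹ = u
        rw [← h1]; group
      · apply Subtype.ext
        rw [hsm]
        change (c : G) * w * (c : G)⁻¹ = w
        rw [← h2]; group
      · apply Subtype.ext
        exact h3)
  intro t ht
  have hcen : t ∈ Subgroup.centralizer (Qs : Set G) := by
    apply Cfsg.Agent.Lib.Helper24.mn_burnside Qs hQ t (hPQ ht)
    · obtain ⟨k, hk⟩ := (IsPGroup.iff_orderOf.1 hP) ⟨t, ht⟩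
      have : orderOf t = p ^ k := by
        rw [← hk, ← Subgroup.orderOf_coe]
      rw [this]
      exact Nat.Coprime.pow_left _ ((Nat.coprime_primes hpp hqp).2 hpq)
    · intro x hx
      have := key ⟨t, ht⟩ ⟨x, hx⟩
      have h2 := Subgroup.mem_map_of_mem Qs.subtype this
      exact h2
  intro x hx
  exact (Subgroup.mem_centralizer_iff.1 hcen) x hx

end Cfsg.Agent.Lib.Helper20.TwoGen
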