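import Mathlib
import Cfsg.Agent.Lib.Helper1.Nilp

set_option autoImplicit false

/-!
# Transitive groups of degree `2 p ^ 2`: helper lemmas (part A)

* `sylow_orbit_dvd`: orbits of a Sylow `p`-subgroup of a transitive group have length divisible
  by the `p`-part of the degree.
* `exists_prime_order_mem_inf_center`: a nontrivial normal subgroup of a finite `p`-group
  contains a central element of order `p`.
* `glue`: glueing two group elements along an invariant set.
-/

namespace Cfsg.Agent.Lib.Helper20.TwoPSq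

open MulAction

section Sylow

variable {G Ω : Type*} [Group G] [MulAction G Ω]

theorem sylow_orbit_dvd [Finite G] [Finite Ω] [IsPretransitive G Ω] {p : ℕ} [Fact p.Prime]
    (P : Sylow p G) (a : Ω) (k : ℕ) (hk : p ^ k ∣ Nat.card Ω) :
    p ^ k ∣ (orbit (↥(P : Subgroup G)) a).ncard := by
  have hp := (Fact.out : p.Prime)
  have h1 : (orbit (↥(P : Subgroup G)) a).ncard *
      Nat.card (stabilizer (↥(P : Subgroup G)) a) = Nat.card (P : Subgroup G) := by
    rw [← MulAction.index_stabilizer, mul_comm]; exact Subgroup.card_mul_index _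
  have h2 : Nat.card Ω * Nat.card (stabilizer G a) = Nat.card G := by
    rw [← MulAction.index_stabilizer_of_transitive G a, mul_comm]; exact Subgroup.card_mul_index _
  have h3 : Nat.card (stabilizer (↥(P : Subgroup G)) a) ∣ Nat.card (stabilizer G a) := by
    let f : stabilizer (↥(P : Subgroup G)) a →* stabilizer G a :=
      { toFun := fun x => ⟨((x : ↥(P : Subgroup G)) : G), by
          have := x.2; rw [mem_stabilizer_iff] at this ⊢; exact this⟩
        map_one' := rfl
        map_mul' := fun _ _ => rfl }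
    refine Subgroup.card_dvd_of_injective f (fun x y h => ?_)
    have h' : ((x : ↥(P : Subgroup G)) : G) = ((y : ↥(P : Subgroup G)) : G) :=
      congrArg (fun t : stabilizer G a => (t : G)) h
    exact Subtype.ext (Subtype.ext h')
  obtain ⟨j, hj⟩ := (P.isPGroup'.to_subgroup (stabilizer (↥(P : Subgroup G)) a)).exists_card_eq
  have hv := P.card_eq_multiplicity
  set v := (Nat.card G).factorization p with hvdef
  have h4 : p ^ (j + k) ∣ Nat.card G := by
    rw [← h2, pow_add, mul_comm]
    exact Nat.mul_dvd_mul hk (hj ▸ h3)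
  have h5 : j + k ≤ v := (hp.pow_dvd_iff_le_factorization (Nat.card_pos.ne')).mp h4
  have h6 : (orbit (↥(P : Subgroup G)) a).ncard = p ^ (v - j) := by
    have : (orbit (↥(P : Subgroup G)) a).ncard * p ^ j = p ^ (v - j) * p ^ j := by
      rw [← hj, h1, hv, hj, ← pow_add]; congr 1; omega
    exact Nat.eq_of_mul_eq_mul_right (pow_pos hp.pos j) this
  rw [h6]
  exact pow_dvd_pow p (by omega)

end Sylow

section PGroup

theorem exists_prime_order_mem_inf_center {Q : Type*} [Group Q] [Finite Q] {p : ℕ} [Fact p.Prime]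
    (hQ : IsPGroup p Q) (N : Subgroup Q) [N.Normal] (hN : N ≠ ⊥) :
    ∃ q ∈ N, q ∈ Subgroup.center Q ∧ orderOf q = p := by
  have hp := (Fact.out : p.Prime)
  have : Group.IsNilpotent Q := hQ.isNilpotent
  have h := Cfsg.Agent.Lib.Helper1.normal_inf_center_ne_bot N hN
  have hPg : IsPGroup p ↥(N ⊓ Subgroup.center Q) := hQ.to_subgroup _
  obtain ⟨n, hn⟩ := hPg.exists_card_eq
  have hn0 : n ≠ 0 := by
    rintro rfl
    rw [pow_zero] at hn
    exact h ((Subgroup.card_eq_one).mp hn)
  have hdvd : p ∣ Nat.card ↥(N ⊓ Subgroup.center Q) := by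
    rw [hn]; exact dvd_pow_self p hn0
  obtain ⟨x, hx⟩ := exists_prime_orderOf_dvd_card' p hdvd
  refine ⟨(x : Q), (Subgroup.mem_inf.mp x.2).1, (Subgroup.mem_inf.mp x.2).2, ?_⟩
  rw [Subgroup.orderOf_coe]; exact hx

end PGroup

end Cfsg.Agent.Lib.Helper20.TwoPSq
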