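import Mathlib
import Cfsg.Agent.Lib.Helper20.TwoPSqA

set_option autoImplicit false

/-!
# Transitive groups of degree `2 p ^ 2`: the core glueing argument (part B)

A finite `p`-group `P` acting faithfully on `Ω` with exactly two orbits `A`, `Aᶜ`, both of
size `p ^ 2`: the 2-closure of `P` contains a fixed-point-free permutation of order `p`.
-/

namespace Cfsg.Agent.Lib.Helper20.TwoPSq

open MulAction

section Glue

variable {G Ω : Type*} [Group G] [MulAction G Ω]

/-- Glue `w` on `A` with `z` on `Aᶜ`. -/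
noncomputable def glue (A : Set Ω) (w z : G) (hw : ∀ x, w • x ∈ A ↔ x ∈ A)
    (hz : ∀ x, z • x ∈ A ↔ x ∈ A) : Equiv.Perm Ω := by
  classical
  exact
  { toFun := fun x => if x ∈ A then w • x else z • x
    invFun := fun x => if x ∈ A then w⁻¹ • x else z⁻¹ • x
    left_inv := fun x => by
      by_cases hx : x ∈ A
      · have : w • x ∈ A := (hw x).mpr hx
        simp [hx, this]
      · have : z • x ∉ A := fun h => hx ((hz x).mp h)
        simp [hx, this]
    right_inv := fun x => by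
      by_cases hx : x ∈ A
      · have : w⁻¹ • x ∈ A := by
          rw [← hw]; simpa using hx
        simp [hx, this]
      · have : w⁻¹ • x ∉ A := by
          rw [← hw]; simpa using hx
        have h2 : z⁻¹ • x ∉ A := by
          rw [← hz]; simpa using hx
        simp [hx, h2] }

theorem glue_mem (A : Set Ω) (w z : G) (hw : ∀ x, w • x ∈ A ↔ x ∈ A)
    (hz : ∀ x, z • x ∈ A ↔ x ∈ A) {x : Ω} (hx : x ∈ A) : glue A w z hw hz x = w • x := by
  classical
  simp [glue, hx]

theorem glue_not_mem (A : Set Ω) (w z : G) (hw : ∀ x, w • x ∈ A ↔ x ∈ A)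
    (hz : ∀ x, z • x ∈ A ↔ x ∈ A) {x : Ω} (hx : x ∉ A) : glue A w z hw hz x = z • x := by
  classical
  simp [glue, hx]

theorem glue_pow (A : Set Ω) (w z : G) (hw : ∀ x, w • x ∈ A ↔ x ∈ A)
    (hz : ∀ x, z • x ∈ A ↔ x ∈ A) (n : ℕ) (x : Ω) :
    (x ∈ A → (glue A w z hw hz ^ n) x = w ^ n • x) ∧
    (x ∉ A → (glue A w z hw hz ^ n) x = z ^ n • x) := by
  induction n with
  | zero => simp
  | succ n ih =>
    have hwn : ∀ m : ℕ, ∀ y, w ^ m • y ∈ A ↔ y ∈ A := by
      intro m
      induction m with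
      | zero => simp
      | succ m ihm => intro y; rw [pow_succ', mul_smul, hw, ihm]
    have hzn : ∀ m : ℕ, ∀ y, z ^ m • y ∈ A ↔ y ∈ A := by
      intro m
      induction m with
      | zero => simp
      | succ m ihm => intro y; rw [pow_succ', mul_smul, hz, ihm]
    constructor
    · intro hx
      rw [pow_succ', Equiv.Perm.mul_apply, ih.1 hx, glue_mem A w z hw hz ((hwn n x).mpr hx),
        pow_succ', mul_smul]
    · intro hx
      rw [pow_succ', Equiv.Perm.mul_apply, ih.2 hx,
        glue_not_mem A w z hw hz (fun h => hx ((hzn n x).mp h)), pow_succ', mul_smul]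

end Glue

/-- `P` has exactly the two orbits `A` and `Aᶜ`, both of size `p ^ 2`. -/
structure TwoOrb (P Ω : Type*) [Group P] [MulAction P Ω] (p : ℕ) (A : Set Ω) : Prop where
  inv : ∀ (g : P) (x : Ω), g • x ∈ A ↔ x ∈ A
  trA : ∀ x ∈ A, ∀ y ∈ A, ∃ g : P, g • x = y
  trB : ∀ x ∉ A, ∀ y ∉ A, ∃ g : P, g • x = y
  cardA : A.ncard = p ^ 2
  cardB : Aᶜ.ncard = p ^ 2

section Core

variable {P Ω : Type*} [Group P] [MulAction P Ω] {p : ℕ} {A : Set Ω}

theorem TwoOrb.compl (h : TwoOrb P Ω p A) : TwoOrb P Ω p Aᶜ where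
  inv := fun g x => by simp only [Set.mem_compl_iff, h.inv]
  trA := fun x hx y hy => h.trB x hx y hy
  trB := fun x hx y hy => h.trA x (by simpa using hx) y (by simpa using hy)
  cardA := h.cardB
  cardB := by rw [compl_compl]; exact h.cardA

theorem TwoOrb.normal (h : TwoOrb P Ω p A) : (fixingSubgroup P A).Normal :=
  ⟨fun k hk g => by
    rw [mem_fixingSubgroup_iff] at hk ⊢
    intro y hy
    have : g⁻¹ • y ∈ A := (h.inv g⁻¹ y).mpr hy
    rw [mul_smul, mul_smul, hk _ this, smul_inv_smul]⟩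

theorem TwoOrb.orbit_eq (h : TwoOrb P Ω p A) {a : Ω} (ha : a ∈ A) : orbit P a = A := by
  ext y
  constructor
  · rintro ⟨g, rfl⟩; exact (h.inv g a).mpr ha
  · intro hy; obtain ⟨g, hg⟩ := h.trA a ha y hy; exact ⟨g, hg⟩

theorem TwoOrb.index_stabilizer (h : TwoOrb P Ω p A) {a : Ω} (ha : a ∈ A) :
    (stabilizer P a).index = p ^ 2 := by
  rw [MulAction.index_stabilizer, h.orbit_eq ha, h.cardA]

theorem TwoOrb.nonempty (h : TwoOrb P Ω p A) (hp : p.Prime) : A.Nonempty := by
  apply Set.nonempty_of_ncard_ne_zero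
  rw [h.cardA]
  exact pow_ne_zero 2 hp.ne_zero

/-- A central element that fixes a point of the orbit `A` fixes `A` pointwise. -/
theorem TwoOrb.central_fix (h : TwoOrb P Ω p A) {z : P} (hz : z ∈ Subgroup.center P)
    {x : Ω} (hx : x ∈ A) (hzx : z • x = x) : z ∈ fixingSubgroup P A := by
  rw [mem_fixingSubgroup_iff]
  intro y hy
  obtain ⟨g, rfl⟩ := h.trA x hx y hy
  rw [← mul_smul, ← (Subgroup.mem_center_iff.mp hz) g, mul_smul, hzx]

theorem two_sq_not_dvd_factorial {p : ℕ} (hp : p.Prime) : ¬ p ^ 2 ∣ p.factorial := by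
  intro h
  have h1 : p.factorial = p * (p - 1).factorial := by
    obtain ⟨q, rfl⟩ : ∃ q, p = q + 1 := ⟨p - 1, by have := hp.pos; omega⟩
    rw [Nat.factorial_succ, Nat.add_sub_cancel]
  rw [h1, pow_two] at h
  have h2 : p ∣ (p - 1).factorial := (Nat.mul_dvd_mul_iff_left hp.pos).mp h
  have := (hp.dvd_factorial).mp h2
  have := hp.pos
  omega

end Core

end Cfsg.Agent.Lib.Helper20.TwoPSq
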