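import Mathlib
import Cfsg.Agent.Lib.Helper20.TwoPSqB

set_option autoImplicit false

/-!
# Transitive groups of degree `2 p ^ 2`: part C

The asymmetric case: the pointwise stabiliser `K` of the orbit `A` is nontrivial.
-/

namespace Cfsg.Agent.Lib.Helper20.TwoPSq

open MulAction

section Core

variable {P Ω : Type*} [Group P] [Finite P] [MulAction P Ω]
  {p : ℕ} [Fact p.Prime] {A : Set Ω}

/-- The subgroup `M` of elements preserving every `K`-orbit outside `A` is strictly bigger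
than `K = fixingSubgroup P A`. -/
theorem TwoOrb.exists_M (h : TwoOrb P Ω p A)
    {z : P} (hzK : z ∈ fixingSubgroup P A) {b₀ : Ω} (hb₀ : b₀ ∉ A) (hzb : z • b₀ ≠ b₀) :
    ∃ M : Subgroup P, M.Normal ∧ fixingSubgroup P A ≤ M ∧ ¬ M ≤ fixingSubgroup P A ∧
      ∀ m ∈ M, ∀ b ∉ A, ∃ k ∈ fixingSubgroup P A, m • b = k • b := by
  have hp := (Fact.out : p.Prime)
  have := h.normal
  set K := fixingSubgroup P A with hK
  set M₀ : Subgroup P := K ⊔ stabilizer P b₀ with hM₀
  have hM₀mem : ∀ g ∈ M₀, ∃ k ∈ K, g • b₀ = k • b₀ := by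
    intro g hg
    have : g ∈ ((K ⊔ stabilizer P b₀ : Subgroup P) : Set P) := hg
    rw [Subgroup.normal_mul] at this
    obtain ⟨k, hk, s, hs, rfl⟩ := Set.mem_mul.mp this
    refine ⟨k, hk, ?_⟩
    rw [mul_smul, mem_stabilizer_iff.mp hs]
  have hidxb : (stabilizer P b₀).index = p ^ 2 := h.compl.index_stabilizer hb₀
  have hle : stabilizer P b₀ ≤ M₀ := le_sup_right
  have hrel : (stabilizer P b₀).relIndex M₀ * M₀.index = p ^ 2 := by
    rw [Subgroup.relIndex_mul_index hle, hidxb]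
  have hrel1 : (stabilizer P b₀).relIndex M₀ ≠ 1 := by
    intro h1
    have := (Subgroup.relIndex_eq_one.mp h1) (show z ∈ M₀ from (le_sup_left : K ≤ M₀) hzK)
    exact hzb (mem_stabilizer_iff.mp this)
  have hM₀idx : M₀.index ∣ p := by
    have hd : M₀.index ∣ p ^ 2 := Dvd.intro_left _ hrel
    obtain ⟨i, hi, hi2⟩ := (Nat.dvd_prime_pow hp).mp hd
    have : i ≠ 2 := by
      rintro rfl
      rw [hi2] at hrel
      apply hrel1
      have hpos : 0 < p ^ 2 := pow_pos hp.pos 2
      exact Nat.eq_of_mul_eq_mul_right hpos (by rw [hrel, one_mul])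
    rw [hi2]
    exact pow_dvd_pow p (show i ≤ 1 by omega) |>.trans (by rw [pow_one])
  have hMidx : M₀.normalCore.index ∣ p.factorial := by
    rw [Subgroup.normalCore_eq_ker, Subgroup.index_ker]
    have h1 : Nat.card (MulAction.toPermHom P (P ⧸ M₀)).range ∣
        Nat.card (Equiv.Perm (P ⧸ M₀)) := Subgroup.card_subgroup_dvd_card _
    rw [Nat.card_perm] at h1
    refine h1.trans ?_
    apply Nat.factorial_dvd_factorial
    have : Nat.card (P ⧸ M₀) = M₀.index := rfl
    rw [this]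
    exact Nat.le_of_dvd hp.pos hM₀idx
  obtain ⟨a₀, ha₀⟩ := h.nonempty hp
  have hKidx : p ^ 2 ∣ K.index := by
    rw [← h.index_stabilizer ha₀]
    apply Subgroup.index_dvd_of_le
    intro k hk
    rw [mem_stabilizer_iff]
    exact (mem_fixingSubgroup_iff P).mp hk a₀ ha₀
  have hKM : K ≤ M₀.normalCore := Subgroup.normal_le_normalCore.mpr le_sup_left
  refine ⟨M₀.normalCore, inferInstance, hKM, ?_, ?_⟩
  · intro hMK
    have : M₀.normalCore = K := le_antisymm hMK hKM
    rw [this] at hMidx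
    exact two_sq_not_dvd_factorial hp (hKidx.trans hMidx)
  · intro m hm b hb
    obtain ⟨g, rfl⟩ := h.trB b₀ hb₀ b hb
    have h1 : g⁻¹ * m * g⁻¹⁻¹ ∈ M₀ := hm g⁻¹
    rw [inv_inv] at h1
    obtain ⟨k, hk, hk2⟩ := hM₀mem _ h1
    refine ⟨g * k * g⁻¹, (h.normal).conj_mem k hk g, ?_⟩
    rw [mul_smul, mul_smul, inv_smul_smul, ← hk2, mul_smul, mul_smul, smul_inv_smul]

/-- The asymmetric case: if the pointwise stabiliser of `A` is nontrivial, the 2-closure of `P`
contains a fixed-point-free permutation of order `p`. -/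
theorem TwoOrb.core (h : TwoOrb P Ω p A) [FaithfulSMul P Ω] (hP : IsPGroup p P)
    (hK : fixingSubgroup P A ≠ ⊥) :
    ∃ τ : Equiv.Perm Ω, (∀ a b, ∃ g : P, τ a = g • a ∧ τ b = g • b) ∧ (∀ x, τ x ≠ x) ∧
      (∀ x, (τ ^ p) x = x) := by
  have hp := (Fact.out : p.Prime)
  have hKn := h.normal
  set K := fixingSubgroup P A with hKdef
  obtain ⟨z, hzK, hzc, hzo⟩ := exists_prime_order_mem_inf_center hP K hK
  have hz1 : z ≠ 1 := by
    intro h1; rw [h1, orderOf_one] at hzo; exact hp.one_lt.ne hzo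
  -- `z` is fixed-point-free outside `A`
  have hzfpf : ∀ x ∉ A, z • x ≠ x := by
    intro x hx hzx
    apply hz1
    have hzB := h.compl.central_fix hzc hx hzx
    apply FaithfulSMul.eq_of_smul_eq_smul (α := Ω)
    intro y
    rw [one_smul]
    by_cases hy : y ∈ A
    · exact (mem_fixingSubgroup_iff P).mp hzK y hy
    · exact (mem_fixingSubgroup_iff P).mp hzB y hy
  obtain ⟨b₀, hb₀⟩ := h.compl.nonempty hp
  obtain ⟨M, hMn, hKM, hMK, hMorb⟩ := h.exists_M hzK hb₀ (hzfpf b₀ hb₀)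
  -- the quotient
  have hQ : IsPGroup p (P ⧸ K) := hP.to_quotient K
  have hMbarn : (M.map (QuotientGroup.mk' K)).Normal :=
    hMn.map _ (QuotientGroup.mk'_surjective K)
  have hMbar : M.map (QuotientGroup.mk' K) ≠ ⊥ := by
    intro hbot
    apply hMK
    intro m hm
    have : QuotientGroup.mk' K m ∈ M.map (QuotientGroup.mk' K) := Subgroup.mem_map_of_mem _ hm
    rw [hbot, Subgroup.mem_bot] at this
    exact (QuotientGroup.eq_one_iff m).mp this
  obtain ⟨q, hqM, hqc, hqo⟩ := exists_prime_order_mem_inf_center hQ _ hMbar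
  obtain ⟨w, hwM, rfl⟩ := Subgroup.mem_map.mp hqM
  have hwK : w ∉ K := by
    intro hw
    have : QuotientGroup.mk' K w = 1 := (QuotientGroup.eq_one_iff w).mpr hw
    rw [this, orderOf_one] at hqo
    exact hp.one_lt.ne hqo
  have hwp : w ^ p ∈ K := by
    have : (QuotientGroup.mk' K w) ^ p = 1 := by
      rw [← hqo]; exact pow_orderOf_eq_one _
    rw [← map_pow] at this
    exact (QuotientGroup.eq_one_iff _).mp this
  have hwc : ∀ g : P, ∀ x ∈ A, w • g • x = g • w • x := by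
    intro g x hx
    have h1 : QuotientGroup.mk' K (g * w) = QuotientGroup.mk' K (w * g) := by
      rw [map_mul, map_mul]
      exact (Subgroup.mem_center_iff.mp hqc) _
    have h2 : (g * w)⁻¹ * (w * g) ∈ K := QuotientGroup.eq.mp h1
    have h3 := (mem_fixingSubgroup_iff P).mp h2 x hx
    rw [mul_smul, inv_smul_eq_iff] at h3
    rw [← mul_smul, ← mul_smul]
    exact h3
  have hwfpf : ∀ x ∈ A, w • x ≠ x := by
    intro x hx hwx
    apply hwK
    rw [hKdef, mem_fixingSubgroup_iff]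
    intro y hy
    obtain ⟨g, rfl⟩ := h.trA x hx y hy
    rw [hwc g x hx, hwx]
  -- the glued permutation
  refine ⟨glue A w z (h.inv w) (h.inv z), ?_, ?_, ?_⟩
  · -- key: for `a ∈ A`, `b ∉ A` there is `g` acting as `w` on `a` and as `z` on `b`
    have key : ∀ a ∈ A, ∀ b ∉ A, ∃ g : P, w • a = g • a ∧ z • b = g • b := by
      intro a ha b hb
      have hzb : z • b ∉ A := fun hh => hb ((h.inv z b).mp hh)
      obtain ⟨k₁, hk₁, hk₁'⟩ := hMorb w⁻¹ (M.inv_mem hwM) (z • b) hzb
      refine ⟨w * (k₁ * z), ?_, ?_⟩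
      · rw [mul_smul, (mem_fixingSubgroup_iff P).mp (K.mul_mem hk₁ hzK) a ha]
      · rw [mul_smul, mul_smul, ← hk₁', smul_inv_smul]
    intro a b
    by_cases ha : a ∈ A <;> by_cases hb : b ∈ A
    · exact ⟨w, glue_mem A w z _ _ ha, glue_mem A w z _ _ hb⟩
    · obtain ⟨g, hg1, hg2⟩ := key a ha b hb
      exact ⟨g, by rw [glue_mem A w z _ _ ha, hg1], by rw [glue_not_mem A w z _ _ hb, hg2]⟩
    · obtain ⟨g, hg1, hg2⟩ := key b hb a ha
      exact ⟨g, by rw [glue_not_mem A w z _ _ ha, hg2], by rw [glue_mem A w z _ _ hb, hg1]⟩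
    · exact ⟨z, glue_not_mem A w z _ _ ha, glue_not_mem A w z _ _ hb⟩
  · intro x
    by_cases hx : x ∈ A
    · rw [glue_mem A w z _ _ hx]; exact hwfpf x hx
    · rw [glue_not_mem A w z _ _ hx]; exact hzfpf x hx
  · intro x
    by_cases hx : x ∈ A
    · rw [(glue_pow A w z _ _ p x).1 hx]
      exact (mem_fixingSubgroup_iff P).mp hwp x hx
    · rw [(glue_pow A w z _ _ p x).2 hx, ← hzo, pow_orderOf_eq_one, one_smul]

end Core

end Cfsg.Agent.Lib.Helper20.TwoPSq
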