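import Mathlib
import Cfsg.Agent.Lib.Helper20.TwoPSqC

set_option autoImplicit false

/-!
# Transitive 2-closed groups of degree `2 p ^ 2` are not elusive (part D: assembly)
-/

namespace Cfsg.Agent.Lib.Helper20.TwoPSq

open MulAction

section Core

variable {P Ω : Type*} [Group P] [Finite P] [MulAction P Ω]
  {p : ℕ} [Fact p.Prime] {A : Set Ω}

/-- A finite `p`-group acting faithfully with exactly two orbits, both of size `p ^ 2`:
its 2-closure contains a fixed-point-free permutation of order `p`. -/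
theorem TwoOrb.main (h : TwoOrb P Ω p A) [FaithfulSMul P Ω] (hP : IsPGroup p P) :
    ∃ τ : Equiv.Perm Ω, (∀ a b, ∃ g : P, τ a = g • a ∧ τ b = g • b) ∧ (∀ x, τ x ≠ x) ∧
      (∀ x, (τ ^ p) x = x) := by
  have hp := (Fact.out : p.Prime)
  by_cases hK1 : fixingSubgroup P A ≠ ⊥
  · exact h.core hP hK1
  by_cases hK2 : fixingSubgroup P Aᶜ ≠ ⊥
  · exact h.compl.core hP hK2
  push Not at hK1 hK2
  -- both kernels trivial: a central element of order `p`
  obtain ⟨a₀, ha₀⟩ := h.nonempty hp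
  have htop : (⊤ : Subgroup P) ≠ ⊥ := by
    intro htb
    have h1 := h.index_stabilizer ha₀
    have h2 : stabilizer P a₀ = ⊤ := by
      rw [eq_top_iff, htb]; exact bot_le
    rw [h2, Subgroup.index_top] at h1
    have : 1 < p ^ 2 := Nat.one_lt_pow (by norm_num) hp.one_lt
    omega
  obtain ⟨z, -, hzc, hzo⟩ := exists_prime_order_mem_inf_center hP ⊤ htop
  have hz1 : z ≠ 1 := by
    intro h1; rw [h1, orderOf_one] at hzo; exact hp.one_lt.ne hzo
  refine ⟨MulAction.toPerm z, fun a b => ⟨z, rfl, rfl⟩, ?_, ?_⟩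
  · intro x hzx
    apply hz1
    by_cases hx : x ∈ A
    · have := h.central_fix hzc hx hzx
      rw [hK1, Subgroup.mem_bot] at this
      exact this
    · have := h.compl.central_fix hzc hx hzx
      rw [hK2, Subgroup.mem_bot] at this
      exact this
  · intro x
    have h1 : MulAction.toPerm z ^ p = (MulAction.toPerm (z ^ p) : Equiv.Perm Ω) :=
      (map_pow (MulAction.toPermHom P Ω) z p).symm
    rw [h1, ← hzo, pow_orderOf_eq_one, MulAction.toPerm_apply, one_smul]

end Core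

section Main

variable {G Ω : Type*} [Group G] [Finite G] [MulAction G Ω] [FaithfulSMul G Ω] [Finite Ω]

theorem orbit_card_pow {p : ℕ} [Fact p.Prime] (P : Sylow p G) (a : Ω) :
    ∃ i, (orbit (↥(P : Subgroup G)) a).ncard = p ^ i := by
  have hp := (Fact.out : p.Prime)
  have h1 : (orbit (↥(P : Subgroup G)) a).ncard ∣ Nat.card (P : Subgroup G) := by
    rw [← MulAction.index_stabilizer]
    exact Subgroup.index_dvd_card _
  obtain ⟨n, hn⟩ := P.isPGroup'.exists_card_eq
  rw [hn] at h1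
  obtain ⟨i, -, hi⟩ := (Nat.dvd_prime_pow hp).mp h1
  exact ⟨i, hi⟩

/-- power of element acts as power of permutation -/
theorem pow_smul_eq_of_perm (τ : Equiv.Perm Ω) (g : G) (h : ∀ x, τ x = g • x) (n : ℕ) (x : Ω) :
    (τ ^ n) x = g ^ n • x := by
  induction n generalizing x with
  | zero => simp
  | succ n ih => rw [pow_succ', pow_succ', Equiv.Perm.mul_apply, ih, h, mul_smul]

theorem not_elusive_of_perm (p : ℕ) (hp : p.Prime) [Nonempty Ω] (τ : Equiv.Perm Ω) (g : G)
    (h : ∀ x, τ x = g • x) (hfpf : ∀ x, τ x ≠ x) (hpow : ∀ x, (τ ^ p) x = x) :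
    ∃ g : G, (orderOf g).Prime ∧ ∀ ω : Ω, g • ω ≠ ω := by
  haveI : Fact p.Prime := ⟨hp⟩
  refine ⟨g, ?_, fun ω => by rw [← h]; exact hfpf ω⟩
  have h1 : g ^ p = 1 := by
    apply FaithfulSMul.eq_of_smul_eq_smul (α := Ω)
    intro x
    rw [← pow_smul_eq_of_perm τ g h, hpow, one_smul]
  have h2 : g ≠ 1 := by
    rintro rfl
    obtain ⟨x⟩ := ‹Nonempty Ω›
    exact hfpf x (by rw [h, one_smul])
  rw [orderOf_eq_prime h1 h2]
  exact hp

theorem main_odd (htrans : MulAction.IsPretransitive G Ω) (p : ℕ) (hp : p.Prime) (hp2 : p ≠ 2)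
    (hcard : Nat.card Ω = 2 * p ^ 2)
    (hcl : ∀ σ : Equiv.Perm Ω, (∀ a b : Ω, ∃ g : G, σ a = g • a ∧ σ b = g • b) →
      ∃ g : G, ∀ a : Ω, σ a = g • a) :
    ∃ g : G, (orderOf g).Prime ∧ ∀ ω : Ω, g • ω ≠ ω := by
  haveI : Fact p.Prime := ⟨hp⟩
  have hp3 : 3 ≤ p := by
    have := hp.two_le
    omega
  obtain ⟨P⟩ : Nonempty (Sylow p G) := inferInstance
  have hΩpos : 0 < Nat.card Ω := by rw [hcard]; positivity
  haveI : Nonempty Ω := (Nat.card_pos_iff.mp hΩpos).1
  -- every orbit has size `p ^ 2`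
  have horb : ∀ a : Ω, (orbit (↥(P : Subgroup G)) a).ncard = p ^ 2 := by
    intro a
    obtain ⟨i, hi⟩ := orbit_card_pow P a
    have h1 : p ^ 2 ∣ (orbit (↥(P : Subgroup G)) a).ncard :=
      sylow_orbit_dvd P a 2 (by rw [hcard]; exact Dvd.intro_left 2 rfl)
    have h2 : (orbit (↥(P : Subgroup G)) a).ncard ≤ 2 * p ^ 2 := by
      rw [← hcard, ← Set.ncard_univ]
      exact Set.ncard_le_ncard (Set.subset_univ _) Set.finite_univ
    rw [hi] at h1 h2 ⊢
    have hi2 : 2 ≤ i := (Nat.pow_dvd_pow_iff_le_right hp.one_lt).mp h1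
    have hi3 : i < 3 := by
      by_contra hcon
      push Not at hcon
      have : p ^ 3 ≤ p ^ i := Nat.pow_le_pow_right hp.pos hcon
      have : p ^ 3 = p * p ^ 2 := by ring
      nlinarith [pow_pos hp.pos 2]
    have : i = 2 := by omega
    rw [this]
  obtain ⟨a₀⟩ := ‹Nonempty Ω›
  set A : Set Ω := orbit (↥(P : Subgroup G)) a₀ with hA
  have hAc : Aᶜ.ncard = p ^ 2 := by
    have := Set.ncard_add_ncard_compl A
    rw [horb a₀, hcard] at this
    omega
  have hinv : ∀ (g : ↥(P : Subgroup G)) (x : Ω), g • x ∈ A ↔ x ∈ A := by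
    intro g x
    rw [hA, ← MulAction.orbit_eq_iff, MulAction.orbit_smul, MulAction.orbit_eq_iff]
  obtain ⟨b₀, hb₀⟩ : Aᶜ.Nonempty := by
    apply Set.nonempty_of_ncard_ne_zero
    rw [hAc]; exact pow_ne_zero 2 hp.ne_zero
  have hB : orbit (↥(P : Subgroup G)) b₀ = Aᶜ := by
    apply Set.eq_of_subset_of_ncard_le
    · rintro y ⟨g, rfl⟩
      exact fun hy => hb₀ ((hinv g b₀).mp hy)
    · rw [hAc, horb b₀]
    · exact Set.toFinite _
  have hTO : TwoOrb (↥(P : Subgroup G)) Ω p A :=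
    { inv := hinv
      trA := by
        intro x hx y hy
        have : y ∈ orbit (↥(P : Subgroup G)) x := by
          rw [MulAction.orbit_eq_iff.mpr hx]; exact hy
        exact this
      trB := by
        intro x hx y hy
        have hx' : x ∈ orbit (↥(P : Subgroup G)) b₀ := by rw [hB]; exact hx
        have hy' : y ∈ orbit (↥(P : Subgroup G)) b₀ := by rw [hB]; exact hy
        have : y ∈ orbit (↥(P : Subgroup G)) x := by
          rw [MulAction.orbit_eq_iff.mpr hx']; exact hy'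
        exact this
      cardA := horb a₀
      cardB := hAc }
  haveI : FaithfulSMul (↥(P : Subgroup G)) Ω :=
    ⟨fun {g₁ g₂} h => Subtype.ext (FaithfulSMul.eq_of_smul_eq_smul (α := Ω) h)⟩
  obtain ⟨τ, hτ1, hτ2, hτ3⟩ := hTO.main P.isPGroup'
  obtain ⟨g, hg⟩ := hcl τ (fun a b => by
    obtain ⟨g, h1, h2⟩ := hτ1 a b
    exact ⟨(g : G), h1, h2⟩)
  exact not_elusive_of_perm p hp τ g hg hτ2 hτ3

theorem main_two (htrans : MulAction.IsPretransitive G Ω) 
    (hcard : Nat.card Ω = 8) :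
    ∃ g : G, (orderOf g).Prime ∧ ∀ ω : Ω, g • ω ≠ ω := by
  haveI : Fact (2 : ℕ).Prime := ⟨Nat.prime_two⟩
  obtain ⟨P⟩ : Nonempty (Sylow 2 G) := inferInstance
  have hΩpos : 0 < Nat.card Ω := by rw [hcard]; positivity
  haveI : Nonempty Ω := (Nat.card_pos_iff.mp hΩpos).1
  have horb : ∀ a : Ω, orbit (↥(P : Subgroup G)) a = Set.univ := by
    intro a
    have h1 : 2 ^ 3 ∣ (orbit (↥(P : Subgroup G)) a).ncard :=
      sylow_orbit_dvd P a 3 (by rw [hcard]; norm_num)
    apply Set.eq_of_subset_of_ncard_le (Set.subset_univ _) _ (Set.toFinite _)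
    rw [Set.ncard_univ, hcard]
    have hpos : 0 < (orbit (↥(P : Subgroup G)) a).ncard := by
      rw [Set.ncard_pos (Set.toFinite _)]
      exact MulAction.nonempty_orbit a
    exact Nat.le_of_dvd hpos h1
  -- central involution of `P`
  have htop : (⊤ : Subgroup ↥(P : Subgroup G)) ≠ ⊥ := by
    intro htb
    obtain ⟨a⟩ := ‹Nonempty Ω›
    have h2 : ∀ y : Ω, y = a := by
      intro y
      have : y ∈ orbit (↥(P : Subgroup G)) a := by rw [horb a]; trivial
      obtain ⟨g, rfl⟩ := this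
      have : g ∈ (⊥ : Subgroup ↥(P : Subgroup G)) := by rw [← htb]; trivial
      rw [Subgroup.mem_bot] at this
      show g • a = a
      rw [this, one_smul]
    have : Nat.card Ω ≤ 1 := by
      rw [Finite.card_le_one_iff_subsingleton]
      exact ⟨fun x y => (h2 x).trans (h2 y).symm⟩
    omega
  obtain ⟨z, -, hzc, hzo⟩ := exists_prime_order_mem_inf_center P.isPGroup' ⊤ htop
  refine ⟨(z : G), ?_, ?_⟩
  · rw [Subgroup.orderOf_coe, hzo]; exact Nat.prime_two
  · intro x hzx
    have hz1 : z = 1 := by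
      apply Subtype.ext
      apply FaithfulSMul.eq_of_smul_eq_smul (α := Ω)
      intro y
      have : y ∈ orbit (↥(P : Subgroup G)) x := by rw [horb x]; trivial
      obtain ⟨g, rfl⟩ := this
      have hcomm := (Subgroup.mem_center_iff.mp hzc) g
      show (z : G) • (g • x) = ((1 : ↥(P : Subgroup G)) : G) • (g • x)
      rw [OneMemClass.coe_one, one_smul]
      have : (z : G) • (g • x) = (z * g) • x := by rw [mul_smul]; rfl
      rw [this, ← hcomm, mul_smul]
      congr 1
    rw [hz1, orderOf_one] at hzo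
    omega

end Main

end Cfsg.Agent.Lib.Helper20.TwoPSq
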