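import Mathlib
import Cfsg.Prelude.Def_GeometricClasses
import Cfsg.Agent.Lib.Lead.ASCU.Defs
import Cfsg.Agent.Lib.Helper19.ASCUUARITHcore

/-!
# Project U5, piece ARITH5 : `uarith5` (verbatim vs `Lead/U5/Skel`)
-/

set_option autoImplicit false
set_option linter.unusedVariables false

namespace Cfsg.Agent.Lib.Lead.U5

open Cfsg Cfsg.Geo Cfsg.Agent.Lib.Lead.ASCU
open scoped MatrixGroups Matrix

variable {F : Type*} [Field F] [Fintype F]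

theorem u5arith5_fin : ∀ a : Fin 5, ∀ e : Fin 5, a.val ≠ 0 → 0 < e.val → e.val % 2 = 0 →
    a.val ^ e.val % 5 = 1 →
    (∀ d : Fin 5, d.val < e.val → 0 < d.val → a.val ^ d.val % 5 ≠ 1) →
    (e.val = 2 ∧ a.val = 4) ∨ (e.val = 4 ∧ (a.val = 2 ∨ a.val = 3)) := by
  decide

theorem u5arith5_table : ∀ a : ℕ, a < 5 → ∀ e : ℕ, e < 5 → a ≠ 0 → 0 < e → e % 2 = 0 →
    a ^ e % 5 = 1 → (∀ d : ℕ, d < e → 0 < d → a ^ d % 5 ≠ 1) →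
    (e = 2 ∧ a = 4) ∨ (e = 4 ∧ (a = 2 ∨ a = 3)) := by
  intro a ha e he h1 h0 h2 h3 h4
  exact u5arith5_fin ⟨a, ha⟩ ⟨e, he⟩ h1 h0 h2 h3 (fun d hd hd0 => h4 d.val hd hd0)

/-- ARITH5 -/
theorem uarith5 (q p e : ℕ) (hp : p.Prime) (hq : q ^ 2 = p ^ e) (hq1 : 1 < q) (h5 : 5 ≠ p) (hdvd : 5 ∣ p ^ e - 1)
    (hmin : ∀ d : ℕ, 0 < d → d < e → ¬ 5 ∣ p ^ d - 1) :
    (q = p ∧ p % 5 = 4) ∨ (q = p ^ 2 ∧ (p % 5 = 2 ∨ p % 5 = 3)) := by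
  have he0 : 0 < e := ascuuarith_pos q p e hq hq1
  obtain ⟨k, hk, hqk⟩ := ascuuarith_sqrt q p e hp hq
  obtain ⟨h1, h2, h4, h6, h7'⟩ :=
    ascuuarith_reduce 5 p e (by norm_num) hp h5 hdvd hmin (by decide)
  rcases u5arith5_table _ h1 e h4 h2 he0 (by omega) h6 h7' with ⟨he, ha⟩ | ⟨he, ha⟩
  · left
    have : k = 1 := by omega
    rw [this, pow_one] at hqk
    exact ⟨hqk, ha⟩
  · right
    have : k = 2 := by omega
    rw [this] at hqk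
    exact ⟨hqk, ha⟩

end Cfsg.Agent.Lib.Lead.U5
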