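import Mathlib
import Cfsg.Prelude.Def_GeometricClasses
import Cfsg.Agent.Lib.Lead.ASCU.Defs
import Cfsg.Agent.Lib.helper23.ASCUUADJ
import Cfsg.Agent.Lib.Helper22.ASCONORMS

/-!
# Project U5, piece TOR : `torus_of_field` (verbatim vs `Lead/U5/Skel`)

A quintic field `K ≤ M_5(F_4)` closed under adjoints for the standard hermitian form contains an element
`c` of order `11` of `SU_5(2)`; the normaliser of `K` normalises `⟨c⟩`.
The adjoint is the conjugate transpose (helper23 `ascuuadj_adj`, `ascuuadj_sep`); on the field `K` it is an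
involutory automorphism `τ ≠ 1`, hence `τ x = x ^ 32` (helper22 `asconorms_card`, `asconorms_frob`), so
`τ c * c = c ^ 33 = 1`.
-/

set_option autoImplicit false
set_option linter.unusedVariables false
set_option linter.unusedSectionVars false
set_option linter.style.haveILetI false

namespace Cfsg.Agent.Lib.Lead.U5

open Cfsg Cfsg.Geo Cfsg.Agent.Lib.Lead.ASCU
open scoped MatrixGroups Matrix

variable {F : Type*} [Field F] [Fintype F]

theorem u5tor_isField (K : Subalgebra F (Matrix (Fin 5) (Fin 5) F))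
    (hK : IsFieldSubalgebra 5 K) : IsField K where
  exists_pair_ne := by
    refine ⟨0, 1, ?_⟩
    intro h
    have h1 : ((0 : K) : Matrix (Fin 5) (Fin 5) F) = ((1 : K) : Matrix (Fin 5) (Fin 5) F) :=
      congrArg Subtype.val h
    have h2 := congrFun (congrFun h1 0) 0
    simp at h2
  mul_comm := fun x y => Subtype.ext (hK.comm x x.2 y y.2)
  mul_inv_cancel := by
    intro a ha
    obtain ⟨y, hy, h⟩ := hK.inv a a.2 (by intro h0; exact ha (Subtype.ext h0))
    exact ⟨⟨y, hy⟩, Subtype.ext h⟩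

theorem u5tor_card_K (hq : Fintype.card F = 4) (K : Subalgebra F (Matrix (Fin 5) (Fin 5) F))
    (hK : IsFieldSubalgebra 5 K) : Nat.card K = 1024 := by
  classical
  haveI : Fintype K := Fintype.ofFinite _
  rw [Nat.card_eq_fintype_card, Module.card_eq_pow_finrank (K := F) (V := K), hq, hK.finrank_eq]
  norm_num

/-- `K` is closed under the conjugate transpose -/
theorem u5tor_star_mem (σ : F ≃+* F) (hσ : ∀ a, σ a = a ^ 2) (hσ2 : ∀ a, σ (σ a) = a)
    (K : Subalgebra F (Matrix (Fin 5) (Fin 5) F))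
    (hadj : IsAdjointClosedFor (hermForm 5 F 2) K) (k : Matrix (Fin 5) (Fin 5) F) (hk : k ∈ K) :
    k.transpose.map σ ∈ K := by
  obtain ⟨k', hk', h⟩ := hadj k hk
  have : k' = k.transpose.map σ := by
    apply ascuuadj_sep 2 σ hσ
    intro u v
    rw [← h u v, ascuuadj_adj 2 σ hσ hσ2]
  rw [← this]
  exact hk'

theorem u5tor_star_star (σ : F ≃+* F) (hσ2 : ∀ a, σ (σ a) = a) (k : Matrix (Fin 5) (Fin 5) F) :
    ((k.transpose.map σ).transpose.map σ) = k := by
  ext i j
  simp [hσ2]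

theorem u5tor_star_mul (σ : F ≃+* F) (A B : Matrix (Fin 5) (Fin 5) F) :
    ((A * B).transpose.map σ) = (B.transpose.map σ) * (A.transpose.map σ) := by
  rw [Matrix.transpose_mul]
  exact Matrix.map_mul (f := (σ : F →+* F))

/-- the adjoint as a ring automorphism of `K` -/
noncomputable def u5torSig (σ : F ≃+* F) (hσ : ∀ a, σ a = a ^ 2) (hσ2 : ∀ a, σ (σ a) = a)
    (K : Subalgebra F (Matrix (Fin 5) (Fin 5) F)) (hK : IsFieldSubalgebra 5 K)
    (hadj : IsAdjointClosedFor (hermForm 5 F 2) K) : K ≃+* K where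
  toFun k := ⟨(k : Matrix (Fin 5) (Fin 5) F).transpose.map σ, u5tor_star_mem σ hσ hσ2 K hadj k k.2⟩
  invFun k := ⟨(k : Matrix (Fin 5) (Fin 5) F).transpose.map σ, u5tor_star_mem σ hσ hσ2 K hadj k k.2⟩
  left_inv k := Subtype.ext (u5tor_star_star σ hσ2 k)
  right_inv k := Subtype.ext (u5tor_star_star σ hσ2 k)
  map_mul' a b := by
    apply Subtype.ext
    show ((a : Matrix (Fin 5) (Fin 5) F) * (b : Matrix (Fin 5) (Fin 5) F)).transpose.map σ = _
    rw [u5tor_star_mul]
    exact hK.comm _ (u5tor_star_mem σ hσ hσ2 K hadj b b.2) _ (u5tor_star_mem σ hσ hσ2 K hadj a a.2)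
  map_add' a b := by
    apply Subtype.ext
    show ((a : Matrix (Fin 5) (Fin 5) F) + (b : Matrix (Fin 5) (Fin 5) F)).transpose.map σ = _
    rw [Matrix.transpose_add, Matrix.map_add]
    · rfl
    · intro x y; exact map_add σ x y

theorem u5torSig_apply (σ : F ≃+* F) (hσ : ∀ a, σ a = a ^ 2) (hσ2 : ∀ a, σ (σ a) = a)
    (K : Subalgebra F (Matrix (Fin 5) (Fin 5) F)) (hK : IsFieldSubalgebra 5 K)
    (hadj : IsAdjointClosedFor (hermForm 5 F 2) K) (k : K) :
    ((u5torSig σ hσ hσ2 K hK hadj k : K) : Matrix (Fin 5) (Fin 5) F) =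
      (k : Matrix (Fin 5) (Fin 5) F).transpose.map σ := rfl

theorem u5torSig_invol (σ : F ≃+* F) (hσ : ∀ a, σ a = a ^ 2) (hσ2 : ∀ a, σ (σ a) = a)
    (K : Subalgebra F (Matrix (Fin 5) (Fin 5) F)) (hK : IsFieldSubalgebra 5 K)
    (hadj : IsAdjointClosedFor (hermForm 5 F 2) K) (k : K) :
    u5torSig σ hσ hσ2 K hK hadj (u5torSig σ hσ hσ2 K hK hadj k) = k :=
  Subtype.ext (u5tor_star_star σ hσ2 k)

theorem u5torSig_ne (σ : F ≃+* F) (hσ : ∀ a, σ a = a ^ 2) (hσ2 : ∀ a, σ (σ a) = a)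
    (hne : σ ≠ RingEquiv.refl F)
    (K : Subalgebra F (Matrix (Fin 5) (Fin 5) F)) (hK : IsFieldSubalgebra 5 K)
    (hadj : IsAdjointClosedFor (hermForm 5 F 2) K) :
    u5torSig σ hσ hσ2 K hK hadj ≠ RingEquiv.refl K := by
  intro h
  apply hne
  apply RingEquiv.ext
  intro ω
  have h1 := congrArg (fun e : K ≃+* K => ((e (algebraMap F K ω) : K) : Matrix (Fin 5) (Fin 5) F)) h
  simp only [RingEquiv.refl_apply] at h1
  rw [u5torSig_apply] at h1
  have h2 := congrFun (congrFun h1 0) 0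
  have h3 : ((algebraMap F K ω : K) : Matrix (Fin 5) (Fin 5) F) = algebraMap F _ ω := rfl
  rw [h3] at h2
  simp only [Matrix.map_apply, Matrix.transpose_apply, Matrix.algebraMap_matrix_apply, if_true] at h2
  simpa using h2

theorem u5tor_conj_pow {R : Type*} [Monoid R] (a b x : R) (hab : a * b = 1) (hba : b * a = 1)
    (n : ℕ) : (a * x * b) ^ n = a * x ^ n * b := by
  induction n with
  | zero => simp [hab]
  | succ n ih =>
    rw [pow_succ, ih, pow_succ]
    calc a * x ^ n * b * (a * x * b) = a * x ^ n * ((b * a) * x) * b := by simp only [mul_assoc]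
      _ = a * (x ^ n * x) * b := by rw [hba, one_mul]; simp only [mul_assoc]

open Cfsg.Agent.Lib.helper23.ASCO in
/-- TOR -/
theorem torus_of_field (hF : Fintype.card F = 2 ^ 2) (K : Subalgebra F (Matrix (Fin 5) (Fin 5) F))
    (hK : IsFieldSubalgebra 5 K) (hadj : IsAdjointClosedFor (hermForm 5 F 2) K) :
    ∃ c : GL (Fin 5) F, c ∈ SUg 5 F 2 ∧ orderOf c = 11 ∧
      ∀ g : GL (Fin 5) F, g ∈ subalgebraNormalizer K → g * c * g⁻¹ ∈ Subgroup.zpowers c := by
  classical
  have hq : Fintype.card F = 4 := by rw [hF]; norm_num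
  obtain ⟨σ, hσ, hσne, hσ2⟩ := Cfsg.Agent.Lib.Helper27.ASC.asch21es5_sigma (F := F) 2 hF
  letI : Field K := (u5tor_isField K hK).toField
  haveI : Fintype K := Fintype.ofFinite _
  haveI : Fact (Nat.Prime 11) := ⟨by norm_num⟩
  obtain ⟨τ, hτdef⟩ : ∃ τ : K ≃+* K, τ = u5torSig σ hσ hσ2 K hK hadj := ⟨_, rfl⟩
  have hτne : τ ≠ RingEquiv.refl K := by rw [hτdef]; exact u5torSig_ne σ hσ hσ2 hσne K hK hadj
  have hτ2 : ∀ k : K, τ (τ k) = k := by rw [hτdef]; exact u5torSig_invol σ hσ hσ2 K hK hadj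
  have hτval : ∀ k : K, ((τ k : K) : Matrix (Fin 5) (Fin 5) F) =
      (k : Matrix (Fin 5) (Fin 5) F).transpose.map σ := by
    intro k; rw [hτdef]; rfl
  have hcardK := u5tor_card_K hq K hK
  have h32 : Nat.card ↥(asconormsFix τ) = 32 := by
    have h1 := asconorms_card τ hτne hτ2
    rw [hcardK] at h1
    have h : (Nat.card ↥(asconormsFix τ)) ^ 2 = 32 ^ 2 := by rw [← h1]; norm_num
    exact Nat.pow_left_injective (by norm_num : 2 ≠ 0) h
  have hfrob : ∀ x : K, τ x = x ^ 32 := by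
    intro x
    rw [← h32]
    exact asconorms_frob τ hτne hτ2 x
  have hcardU : Nat.card Kˣ = 1023 := by
    rw [Nat.card_eq_fintype_card, Fintype.card_units, ← Nat.card_eq_fintype_card, hcardK]
  obtain ⟨u, hu⟩ := exists_prime_orderOf_dvd_card' (G := Kˣ) 11 (by rw [hcardU]; norm_num)
  -- the element `c` of `K`
  obtain ⟨c, hcdef⟩ : ∃ c : K, c = (u : K) := ⟨_, rfl⟩
  have hc11 : c ^ 11 = 1 := by
    have h1 : u ^ 11 = 1 := by rw [← hu]; exact pow_orderOf_eq_one u
    have h2 := congrArg (fun w : Kˣ => (w : K)) h1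
    rw [hcdef]
    simpa using h2
  have hc1 : c ≠ 1 := by
    intro h1
    have h2 : u = 1 := Units.ext (by rw [← hcdef, h1]; rfl)
    rw [h2, orderOf_one] at hu
    norm_num at hu
  have hprim : IsPrimitiveRoot c 11 := by
    have h1 : orderOf c = 11 := orderOf_eq_prime hc11 hc1
    rw [← h1]
    exact IsPrimitiveRoot.orderOf c
  have hcτ : τ c * c = 1 := by
    rw [hfrob]
    have : c ^ 32 * c = (c ^ 11) ^ 3 := by ring
    rw [this, hc11, one_pow]
  -- the matrix
  obtain ⟨cm, hcm⟩ : ∃ cm : Matrix (Fin 5) (Fin 5) F, cm = (c : Matrix (Fin 5) (Fin 5) F) := ⟨_, rfl⟩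
  have hcm11 : cm ^ 11 = 1 := by
    have := congrArg (fun k : K => (k : Matrix (Fin 5) (Fin 5) F)) hc11
    simp only [SubmonoidClass.coe_pow, OneMemClass.coe_one] at this
    rw [hcm]; exact this
  have hcm1 : cm ≠ 1 := by
    intro h
    apply hc1
    apply Subtype.ext
    rw [← hcm, h]; rfl
  have hstar : (cm.transpose.map σ) * cm = 1 := by
    have := congrArg (fun k : K => (k : Matrix (Fin 5) (Fin 5) F)) hcτ
    simp only [MulMemClass.coe_mul, OneMemClass.coe_one] at this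
    rw [hτval, ← hcm] at this
    exact this
  -- the unit
  obtain ⟨cG, hcG⟩ : ∃ cG : GL (Fin 5) F, (cG : Matrix (Fin 5) (Fin 5) F) = cm := by
    refine ⟨⟨cm, cm ^ 10, ?_, ?_⟩, rfl⟩
    · rw [← pow_succ', hcm11]
    · rw [← pow_succ, hcm11]
  have hcG11 : cG ^ 11 = 1 := by
    apply Units.ext
    rw [Units.val_pow_eq_pow_val, hcG, hcm11]; rfl
  have hcG1 : cG ≠ 1 := by
    intro h
    apply hcm1
    rw [← hcG, h]; rfl
  refine ⟨cG, ?_, orderOf_eq_prime hcG11 hcG1, ?_⟩
  · -- in SU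
    refine Subgroup.mem_inf.mpr ⟨?_, ?_⟩
    · rw [mem_GU_iff]
      intro x y
      rw [hcG, ascuuadj_adj 2 σ hσ hσ2, Matrix.mulVec_mulVec, hstar, Matrix.one_mulVec]
    · show Matrix.GeneralLinearGroup.det cG = 1
      have hd11 : (Matrix.GeneralLinearGroup.det cG) ^ 11 = 1 := by
        rw [← map_pow, hcG11, map_one]
      have hd3 : (Matrix.GeneralLinearGroup.det cG) ^ 3 = 1 := by
        have h1 : Fintype.card Fˣ = 3 := by rw [Fintype.card_units, hq]
        rw [← h1]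
        exact pow_card_eq_one
      calc Matrix.GeneralLinearGroup.det cG
          = ((Matrix.GeneralLinearGroup.det cG) ^ 3) ^ 4 *
              ((Matrix.GeneralLinearGroup.det cG) ^ 11)⁻¹ := by
            rw [← pow_mul, ← zpow_natCast, ← zpow_natCast, ← zpow_neg, ← zpow_add]
            norm_num
        _ = 1 := by rw [hd3, hd11]; simp
  · -- normaliser
    intro g hg
    obtain ⟨gm, hgm⟩ : ∃ gm : Matrix (Fin 5) (Fin 5) F, gm = (g : Matrix (Fin 5) (Fin 5) F) :=
      ⟨_, rfl⟩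
    obtain ⟨gi, hgi⟩ : ∃ gi : Matrix (Fin 5) (Fin 5) F,
        gi = ((g⁻¹ : GL (Fin 5) F) : Matrix (Fin 5) (Fin 5) F) := ⟨_, rfl⟩
    have hgmgi : gm * gi = 1 := by
      rw [hgm, hgi, ← Units.val_mul, mul_inv_cancel, Units.val_one]
    have hgigm : gi * gm = 1 := by
      rw [hgm, hgi, ← Units.val_mul, inv_mul_cancel, Units.val_one]
    have hxK : gm * cm * gi ∈ K := by
      rw [hgm, hgi, hcm]
      exact (hg _).mp c.2
    obtain ⟨x, hx⟩ : ∃ x : K, (x : Matrix (Fin 5) (Fin 5) F) = gm * cm * gi := ⟨⟨_, hxK⟩, rfl⟩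
    have hx11 : x ^ 11 = 1 := by
      apply Subtype.ext
      rw [SubmonoidClass.coe_pow, hx, u5tor_conj_pow gm gi cm hgmgi hgigm, hcm11, mul_one, hgmgi]
      rfl
    obtain ⟨i, hi, hix⟩ := hprim.eq_pow_of_pow_eq_one hx11
    have : g * cG * g⁻¹ = cG ^ i := by
      apply Units.ext
      rw [Units.val_mul, Units.val_mul, Units.val_pow_eq_pow_val, hcG, ← hgm, ← hgi, ← hx, ← hix,
        SubmonoidClass.coe_pow, ← hcm]
    rw [this]
    exact Subgroup.pow_mem _ (Subgroup.mem_zpowers cG) i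

end Cfsg.Agent.Lib.Lead.U5
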