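import Cfsg.Agent.Lib.helper15.UD.Defs
import Cfsg.Agent.Lib.helper15.UD.Basic

/-!
# Project UD, pieces QSTAB / PAIRREFL (helper20): cores, with the conclusion of QREFL as a hypothesis.
-/

set_option autoImplicit false
set_option linter.unusedVariables false
set_option linter.unusedSectionVars false

namespace Cfsg.Agent.Lib.helper15.UD

open Matrix Cfsg.Agent.Lib.Helper28 Cfsg.Agent.Lib.Helper29.ExtrL

variable {n q : ℕ} {F : Type*} [Field F] [Fintype F] {σ : F ≃+* F}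

section main
variable {t k : ℕ}

/-- core of QSTAB: the quasi-reflection `g` (as given by QREFL) lies in `Stab(D) ⊓ GU`. -/
theorem qstab_core (hc : Ctx n q F σ) (D : Fin t → Submodule F (Fin n → F))
    (hD : Cfsg.Geo.IsNondegenerateMDecomposition (Cfsg.hermForm n F q) k D)
    (i : Fin t) (r : Fin n → F) (hrD : r ∈ D i) (ε : F)
    (hq : ∃ g : Matrix.GeneralLinearGroup (Fin n) F, (g : Matrix (Fin n) (Fin n) F).det = ε ∧
      (∀ x, (g : Matrix (Fin n) (Fin n) F) *ᵥ x =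
        x + ((ε - 1) * Cfsg.hermForm n F q x r / Cfsg.hermForm n F q r r) • r) ∧
      (∀ x y, Cfsg.hermForm n F q ((g : Matrix (Fin n) (Fin n) F) *ᵥ x)
        ((g : Matrix (Fin n) (Fin n) F) *ᵥ y) = Cfsg.hermForm n F q x y)) :
    ∃ g : Matrix.GeneralLinearGroup (Fin n) F, g ∈ Cfsg.Geo.decompositionStabilizer D ∧
      g ∈ Cfsg.GU n F q ∧ (g : Matrix (Fin n) (Fin n) F).det = ε ∧
      (∀ x, (g : Matrix (Fin n) (Fin n) F) *ᵥ x =
        x + ((ε - 1) * Cfsg.hermForm n F q x r / Cfsg.hermForm n F q r r) • r) := by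
  obtain ⟨g, hdet, hg, hiso⟩ := hq
  refine ⟨g, ?_, fun x y => hiso x y, hdet, hg⟩
  refine DecGen.stab_of_maps D hD.decomp.finrank_eq g (Equiv.refl _) (fun l x hx => ?_)
  rw [hg, Equiv.refl_apply]
  by_cases hli : l = i
  · subst hli
    exact (D l).add_mem hx ((D l).smul_mem _ hrD)
  · rw [hD.orthogonal l i hli x hx r hrD, mul_zero, zero_div, zero_smul, add_zero]
    exact hx

/-- core of PAIRREFL: the product of two quasi-reflections (as given by QSTAB) with centres in two different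
blocks and inverse multipliers lies in `HD q D`. -/
theorem pairrefl_core (hc : Ctx n q F σ) (D : Fin t → Submodule F (Fin n → F))
    (hD : Cfsg.Geo.IsNondegenerateMDecomposition (Cfsg.hermForm n F q) k D)
    (i j : Fin t) (hij : i ≠ j) (a b : Fin n → F) (haD : a ∈ D i) (hbD : b ∈ D j) (ε : F) (hε0 : ε ≠ 0)
    (h1 : ∃ g : Matrix.GeneralLinearGroup (Fin n) F, g ∈ Cfsg.Geo.decompositionStabilizer D ∧
      g ∈ Cfsg.GU n F q ∧ (g : Matrix (Fin n) (Fin n) F).det = ε ∧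
      (∀ x, (g : Matrix (Fin n) (Fin n) F) *ᵥ x =
        x + ((ε - 1) * Cfsg.hermForm n F q x a / Cfsg.hermForm n F q a a) • a))
    (h2 : ∃ g : Matrix.GeneralLinearGroup (Fin n) F, g ∈ Cfsg.Geo.decompositionStabilizer D ∧
      g ∈ Cfsg.GU n F q ∧ (g : Matrix (Fin n) (Fin n) F).det = ε⁻¹ ∧
      (∀ x, (g : Matrix (Fin n) (Fin n) F) *ᵥ x =
        x + ((ε⁻¹ - 1) * Cfsg.hermForm n F q x b / Cfsg.hermForm n F q b b) • b)) :
    ∃ g : Matrix.GeneralLinearGroup (Fin n) F, g ∈ HD q D ∧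
      ∀ x, (g : Matrix (Fin n) (Fin n) F) *ᵥ x =
        x + ((ε - 1) * Cfsg.hermForm n F q x a / Cfsg.hermForm n F q a a) • a
          + ((ε⁻¹ - 1) * Cfsg.hermForm n F q x b / Cfsg.hermForm n F q b b) • b := by
  have hf := hc.form
  obtain ⟨g1, hg1S, hg1U, hg1d, hg1⟩ := h1
  obtain ⟨g2, hg2S, hg2U, hg2d, hg2⟩ := h2
  have hba : Cfsg.hermForm n F q b a = 0 := hD.orthogonal j i (fun h => hij h.symm) b hbD a haD
  have hSL : g1 * g2 ∈ Cfsg.Geo.specialLinear (Fin n) F := by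
    unfold Cfsg.Geo.specialLinear
    rw [MonoidHom.mem_ker]
    apply Units.ext
    rw [Matrix.GeneralLinearGroup.val_det_apply, Units.val_mul, Matrix.det_mul, hg1d, hg2d,
      mul_inv_cancel₀ hε0]
    rfl
  refine ⟨g1 * g2, ⟨Subgroup.mul_mem _ hg1S hg2S, Subgroup.mul_mem _ hg1U hg2U, hSL⟩, fun x => ?_⟩
  · rw [Units.val_mul, ← Matrix.mulVec_mulVec, hg2, hg1, hf.add_left, hf.smul_left, hba, mul_zero,
      add_zero]
    abel

end main

end Cfsg.Agent.Lib.helper15.UD
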