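import Cfsg.Agent.Lib.helper15.UD.Defs
import Cfsg.Agent.Lib.helper15.UD.Basic
import Cfsg.Agent.Lib.Helper25.UDQREFL
import Cfsg.Agent.Lib.Helper20.UDQSTABcore

/-!
# Project UD, piece QSTAB (helper20): a quasi-reflection with centre in a block lies in `Stab(D) ⊓ GU`.
-/

set_option autoImplicit false
set_option linter.unusedVariables false
set_option linter.unusedSectionVars false

namespace Cfsg.Agent.Lib.helper15.UD

open Matrix Cfsg.Agent.Lib.Helper28 Cfsg.Agent.Lib.Helper29.ExtrL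

variable {n q : ℕ} {F : Type*} [Field F] [Fintype F] {σ : F ≃+* F}

section main
variable {t k : ℕ}

/-- QSTAB. -/
theorem qrefl_stab (hc : Ctx n q F σ) (D : Fin t → Submodule F (Fin n → F))
    (hD : Cfsg.Geo.IsNondegenerateMDecomposition (Cfsg.hermForm n F q) k D)
    (i : Fin t) (r : Fin n → F) (hrD : r ∈ D i) (hr : Cfsg.hermForm n F q r r ≠ 0) (ε : F)
    (hε : ε * σ ε = 1) :
    ∃ g : Matrix.GeneralLinearGroup (Fin n) F, g ∈ Cfsg.Geo.decompositionStabilizer D ∧
      g ∈ Cfsg.GU n F q ∧ (g : Matrix (Fin n) (Fin n) F).det = ε ∧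
      (∀ x, (g : Matrix (Fin n) (Fin n) F) *ᵥ x =
        x + ((ε - 1) * Cfsg.hermForm n F q x r / Cfsg.hermForm n F q r r) • r) :=
  qstab_core hc D hD i r hrD ε (qrefl hc.form r hr ε hε)

end main

end Cfsg.Agent.Lib.helper15.UD
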