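import Cfsg.Agent.Lib.helper15.UD.Defs
import Cfsg.Agent.Lib.helper15.UD.Basic
import Cfsg.Agent.Lib.Helper20.UDQSTAB

/-!
# Project UD, piece PAIRREFL (helper20): the product of two quasi-reflections with centres in two different
blocks and inverse multipliers lies in `HD q D`.
-/

set_option autoImplicit false
set_option linter.unusedVariables false
set_option linter.unusedSectionVars false

namespace Cfsg.Agent.Lib.helper15.UD

open Matrix Cfsg.Agent.Lib.Helper28 Cfsg.Agent.Lib.Helper29.ExtrL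

variable {n q : ℕ} {F : Type*} [Field F] [Fintype F] {σ : F ≃+* F}

section main
variable {t k : ℕ}

/-- PAIRREFL. -/
theorem pairrefl (hc : Ctx n q F σ) (D : Fin t → Submodule F (Fin n → F))
    (hD : Cfsg.Geo.IsNondegenerateMDecomposition (Cfsg.hermForm n F q) k D)
    (i j : Fin t) (hij : i ≠ j) (a b : Fin n → F) (haD : a ∈ D i) (hbD : b ∈ D j)
    (ha : Cfsg.hermForm n F q a a ≠ 0) (hb : Cfsg.hermForm n F q b b ≠ 0) (ε : F)
    (hε : ε * σ ε = 1) :
    ∃ g : Matrix.GeneralLinearGroup (Fin n) F, g ∈ HD q D ∧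
      ∀ x, (g : Matrix (Fin n) (Fin n) F) *ᵥ x =
        x + ((ε - 1) * Cfsg.hermForm n F q x a / Cfsg.hermForm n F q a a) • a
          + ((ε⁻¹ - 1) * Cfsg.hermForm n F q x b / Cfsg.hermForm n F q b b) • b := by
  have hε0 : ε ≠ 0 := by
    intro h
    rw [h, zero_mul] at hε
    exact zero_ne_one hε
  have hε' : ε⁻¹ * σ ε⁻¹ = 1 := by
    rw [map_inv₀, ← mul_inv, hε, inv_one]
  exact pairrefl_core hc D hD i j hij a b haD hbD ε hε0 (qrefl_stab hc D hD i a haD ha ε hε)
    (qrefl_stab hc D hD j b hbD hb ε⁻¹ hε')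

end main

end Cfsg.Agent.Lib.helper15.UD
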