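import Cfsg.Agent.Lib.helper15.UD.Defs
import Cfsg.Agent.Lib.helper15.UD.Basic

/-!
# Project UD, piece SHRINK (helper20): from a vector of `ZZ` with two non-zero components to an isotropic vector
of `ZZ` with exactly two components, both non-isotropic.
-/

set_option autoImplicit false
set_option linter.unusedVariables false
set_option linter.unusedSectionVars false

namespace Cfsg.Agent.Lib.helper15.UD

open Matrix Cfsg.Agent.Lib.Helper28 Cfsg.Agent.Lib.Helper29.ExtrL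

variable {n q : ℕ} {F : Type*} [Field F] [Fintype F] {σ : F ≃+* F}

section main
variable {t k : ℕ}

/-- the value of the form on a sum of components against a vector of one block. -/
theorem shrink_sum (hc : Ctx n q F σ) (D : Fin t → Submodule F (Fin n → F))
    (hD : Cfsg.Geo.IsNondegenerateMDecomposition (Cfsg.hermForm n F q) k D)
    (c : Fin t → (Fin n → F)) (hcD : ∀ l, c l ∈ D l) (i : Fin t) (a : Fin n → F) (ha : a ∈ D i) :
    Cfsg.hermForm n F q (∑ l, c l) a = Cfsg.hermForm n F q (c i) a := by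
  classical
  rw [UForm.f_sum_left hc.form]
  rw [Finset.sum_eq_single i]
  · intro l _ hli
    exact hD.orthogonal l i hli _ (hcD l) _ ha
  · intro hi
    exact absurd (Finset.mem_univ i) hi

/-- SHRINK. -/
theorem shrink (hc : Ctx n q F σ) (D : Fin t → Submodule F (Fin n → F))
    (hD : Cfsg.Geo.IsNondegenerateMDecomposition (Cfsg.hermForm n F q) k D)
    (M : Subgroup (Matrix.GeneralLinearGroup (Fin n) F)) (hHM : HD q D ≤ M) (hMG : M ≤ GS n F q)
    (hreal : ∀ i, ∀ c ∈ D i, c ≠ 0 → ∀ s ν : F, σ ν = ν → s ≠ 0 →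
      ∃ x ∈ D i, Cfsg.hermForm n F q x c = s ∧ Cfsg.hermForm n F q x x = ν)
    (ε : F) (hε : ε * σ ε = 1) (hε2 : ε * ε ≠ 1)
    (hrefl : ∀ i j : Fin t, i ≠ j → ∀ a b : Fin n → F, a ∈ D i → b ∈ D j →
      Cfsg.hermForm n F q a a ≠ 0 → Cfsg.hermForm n F q b b ≠ 0 →
      ∃ g : Matrix.GeneralLinearGroup (Fin n) F, g ∈ HD q D ∧
        ∀ x, (g : Matrix (Fin n) (Fin n) F) *ᵥ x =
          x + ((ε - 1) * Cfsg.hermForm n F q x a / Cfsg.hermForm n F q a a) • a
            + ((ε⁻¹ - 1) * Cfsg.hermForm n F q x b / Cfsg.hermForm n F q b b) • b)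
    (c : Fin t → (Fin n → F)) (hcD : ∀ l, c l ∈ D l) (hw : ∑ l, c l ∈ ZZ q σ M)
    (i j : Fin t) (hij : i ≠ j) (hi : c i ≠ 0) (hj : c j ≠ 0) :
    ∃ a ∈ D i, ∃ b ∈ D j, Cfsg.hermForm n F q a a ≠ 0 ∧
      Cfsg.hermForm n F q a a + Cfsg.hermForm n F q b b = 0 ∧ a + b ∈ ZZ q σ M := by
  classical
  have hf := hc.form
  -- field facts
  have hε0 : ε ≠ 0 := by
    intro h
    rw [h, zero_mul] at hε
    exact zero_ne_one hε
  have hσε : σ ε = ε⁻¹ := by
    field_simp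
    rw [mul_comm]
    exact hε
  have hε1 : ε - 1 ≠ 0 := by
    intro h
    apply hε2
    have : ε = 1 := by linear_combination h
    rw [this, one_mul]
  have hεi1 : ε⁻¹ - 1 ≠ 0 := by
    intro h
    apply hε1
    have h2 : ε⁻¹ = 1 := by linear_combination h
    have h3 : ε = 1 := by
      have := inv_inv ε
      rw [h2, inv_one] at this
      exact this.symm
    rw [h3, sub_self]
  have hd0 : ε - ε⁻¹ ≠ 0 := by
    intro h
    apply hε2
    have h2 : ε = ε⁻¹ := by linear_combination h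
    calc ε * ε = ε * ε⁻¹ := by rw [← h2]
      _ = 1 := mul_inv_cancel₀ hε0
  -- a, b
  obtain ⟨a, haD, hac, haa⟩ := hreal i (c i) (hcD i) hi 1 1 (map_one σ) one_ne_zero
  obtain ⟨b, hbD, hbc, hbb⟩ := hreal j (c j) (hcD j) hj (-1) (-1) (by rw [map_neg, map_one])
    (neg_ne_zero.mpr one_ne_zero)
  obtain ⟨r, hrH, hr⟩ := hrefl i j hij a b haD hbD (by rw [haa]; exact one_ne_zero)
    (by rw [hbb]; exact neg_ne_zero.mpr one_ne_zero)
  have hrM : r ∈ M := hHM hrH
  have hriso : ∀ x y, Cfsg.hermForm n F q ((r : Matrix (Fin n) (Fin n) F) *ᵥ x)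
      ((r : Matrix (Fin n) (Fin n) F) *ᵥ y) = Cfsg.hermForm n F q x y := fun x y => hrH.2.1 x y
  obtain ⟨w, hwdef⟩ : ∃ w : Fin n → F, w = ∑ l, c l := ⟨_, rfl⟩
  rw [← hwdef] at hw
  have hwa : Cfsg.hermForm n F q w a = 1 := by
    rw [hwdef, shrink_sum hc D hD c hcD i a haD, hf.herm, hac, map_one]
  have hwb : Cfsg.hermForm n F q w b = -1 := by
    rw [hwdef, shrink_sum hc D hD c hcD j b hbD, hf.herm, hbc, map_neg, map_one]
  have haw : Cfsg.hermForm n F q a w = 1 := by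
    rw [hf.herm, hwa, map_one]
  have hbw : Cfsg.hermForm n F q b w = -1 := by
    rw [hf.herm, hwb, map_neg, map_one]
  have hrw : (r : Matrix (Fin n) (Fin n) F) *ᵥ w = w + (ε - 1) • a + (ε⁻¹ - 1) • b := by
    rw [hr, hwa, hwb, haa, hbb]
    congr 2
    · rw [mul_one, div_one]
    · rw [mul_neg, mul_one, neg_div_neg_eq, div_one]
  have hw' : w + (ε - 1) • a + (ε⁻¹ - 1) • b ∈ ZZ q σ M := by
    rw [← hrw]
    exact UMax.XS_conj M hrM hriso hw
  have hww : Cfsg.hermForm n F q w w = 0 := hw.1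
  have hw'w : Cfsg.hermForm n F q (w + (ε - 1) • a + (ε⁻¹ - 1) • b) w = ε - ε⁻¹ := by
    rw [hf.add_left, hf.add_left, hf.smul_left, hf.smul_left, hww, haw, hbw]
    ring
  have hskew : σ ((ε - ε⁻¹)⁻¹) = -((ε - ε⁻¹)⁻¹) := by
    rw [map_inv₀, map_sub, map_inv₀, hσε, inv_inv, ← inv_neg]
    congr 1
    ring
  have hdiff := UMax.XS_tv hf M hw' hw hskew
  rw [UForm.f_smul_right hf, hskew, hw'w] at hdiff
  have hcoef : -(ε - ε⁻¹)⁻¹ * (ε - ε⁻¹) = -1 := by
    rw [neg_mul, inv_mul_cancel₀ hd0]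
  rw [hcoef] at hdiff
  have hfin : (ε - 1) • a + (ε⁻¹ - 1) • b ∈ ZZ q σ M := by
    have : w + (ε - 1) • a + (ε⁻¹ - 1) • b + (-1 : F) • w = (ε - 1) • a + (ε⁻¹ - 1) • b := by
      rw [neg_smul, one_smul]
      abel
    rw [this] at hdiff
    exact hdiff
  refine ⟨(ε - 1) • a, (D i).smul_mem _ haD, (ε⁻¹ - 1) • b, (D j).smul_mem _ hbD, ?_, ?_, hfin⟩
  · rw [hf.smul_left, UForm.f_smul_right hf, haa, map_sub, map_one, hσε, mul_one]
    exact mul_ne_zero hε1 hεi1
  · rw [hf.smul_left, UForm.f_smul_right hf, haa, hf.smul_left, UForm.f_smul_right hf, hbb,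
      map_sub, map_one, hσε, map_sub, map_one, map_inv₀, hσε, inv_inv]
    ring

end main

end Cfsg.Agent.Lib.helper15.UD
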