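import Cfsg.Agent.Lib.helper15.UD.Defs
import Cfsg.Agent.Lib.helper15.UD.Basic

/-!
# Project UD, piece SPREAD (helper20): an isometry outside `Stab(D)` maps some isotropic vector of some block
outside every block.
-/

set_option autoImplicit false
set_option linter.unusedVariables false
set_option linter.unusedSectionVars false

namespace Cfsg.Agent.Lib.helper15.UD

open Matrix Cfsg.Agent.Lib.Helper28 Cfsg.Agent.Lib.Helper29.ExtrL

variable {n q : ℕ} {F : Type*} [Field F] [Fintype F] {σ : F ≃+* F}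

section main
variable {t k : ℕ}

/-- SPREAD. -/
theorem spread (hc : Ctx n q F σ) (D : Fin t → Submodule F (Fin n → F))
    (hD : Cfsg.Geo.IsNondegenerateMDecomposition (Cfsg.hermForm n F q) k D)
    (hsum : ∀ i, ∀ x ∈ D i, ∃ u v w, u ∈ D i ∧ v ∈ D i ∧ w ∈ D i ∧
      Cfsg.hermForm n F q u u = 0 ∧ Cfsg.hermForm n F q v v = 0 ∧ Cfsg.hermForm n F q w w = 0 ∧
      x = u + v + w)
    (g : Matrix.GeneralLinearGroup (Fin n) F) (hgU : g ∈ Cfsg.GU n F q)
    (hg : g ∉ Cfsg.Geo.decompositionStabilizer D) :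
    ∃ i, ∃ v ∈ D i, Cfsg.hermForm n F q v v = 0 ∧
      ∀ c, (g : Matrix (Fin n) (Fin n) F) *ᵥ v ∉ D c := by
  classical
  by_contra hcon
  push Not at hcon
  have hf := hc.form
  have hiso : ∀ x y, Cfsg.hermForm n F q ((g : Matrix (Fin n) (Fin n) F) *ᵥ x)
      ((g : Matrix (Fin n) (Fin n) F) *ᵥ y) = Cfsg.hermForm n F q x y := fun x y => hgU x y
  -- every block goes into one block
  have hblock : ∀ i, ∃ c₀, ∀ x ∈ D i, (g : Matrix (Fin n) (Fin n) F) *ᵥ x ∈ D c₀ := by
    intro i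
    by_cases hall : ∀ u ∈ D i, Cfsg.hermForm n F q u u = 0 → u = 0
    · refine ⟨i, fun x hx => ?_⟩
      obtain ⟨u, v, w, hu, hv, hw, hu0, hv0, hw0, rfl⟩ := hsum i x hx
      rw [hall u hu hu0, hall v hv hv0, hall w hw hw0]
      simp
    · push Not at hall
      obtain ⟨u₀, hu₀, hu₀0, hu₀ne⟩ := hall
      obtain ⟨c₀, hc₀⟩ := hcon i u₀ hu₀ hu₀0
      have hgu₀ : (g : Matrix (Fin n) (Fin n) F) *ᵥ u₀ ≠ 0 := DecGen.gl_ne_zero g u₀ hu₀ne
      have hisov : ∀ v ∈ D i, Cfsg.hermForm n F q v v = 0 →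
          (g : Matrix (Fin n) (Fin n) F) *ᵥ v ∈ D c₀ := by
        intro v hv hv0
        obtain ⟨c, hcv⟩ := hcon i v hv hv0
        by_cases hcc : c = c₀
        · rw [← hcc]; exact hcv
        · by_cases hfu : Cfsg.hermForm n F q u₀ v = 0
          · -- u₀ + v isotropic
            have hfv : Cfsg.hermForm n F q v u₀ = 0 := UForm.f_swap_zero hf hfu
            have hs0 : Cfsg.hermForm n F q (u₀ + v) (u₀ + v) = 0 := by
              rw [hf.add_left, UForm.f_add_right hf, UForm.f_add_right hf, hu₀0, hv0, hfu, hfv]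
              ring
            obtain ⟨c', hc'⟩ := hcon i (u₀ + v) ((D i).add_mem hu₀ hv) hs0
            rw [Matrix.mulVec_add] at hc'
            rcases DecGen.two_comp D hD.decomp.indep c₀ c c' (fun h => hcc h.symm) _ _ hc₀ hcv hc'
              with h | h
            · exact absurd h hgu₀
            · rw [h]; exact (D c₀).zero_mem
          · exfalso
            apply hfu
            rw [← hiso]
            exact hD.orthogonal c₀ c (fun h => hcc h.symm) _ hc₀ _ hcv
      refine ⟨c₀, fun x hx => ?_⟩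
      obtain ⟨u, v, w, hu, hv, hw, hu0, hv0, hw0, rfl⟩ := hsum i x hx
      rw [Matrix.mulVec_add, Matrix.mulVec_add]
      exact (D c₀).add_mem ((D c₀).add_mem (hisov u hu hu0) (hisov v hv hv0)) (hisov w hw hw0)
  obtain ⟨i, v, hv, hvc⟩ := DecGen.exists_spread D hD.decomp g hg
  obtain ⟨c₀, hc₀⟩ := hblock i
  exact hvc c₀ (hc₀ v hv)

end main

end Cfsg.Agent.Lib.helper15.UD
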