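import Mathlib
import Cfsg.Prelude.Def_LieChev
import Cfsg.Prelude.Def_ChevB2
import Cfsg.Prelude.Def_ChevD4
import Cfsg.Agent.Lib.Helper5.UNI.Defs

/-!
# Project UNI, row C1 (helper20): the coroot table check for the seven data.
-/

set_option autoImplicit false
set_option maxRecDepth 100000

namespace Cfsg.Agent.Lib.Helper5.UNI

open Cfsg.Lie Cfsg.Lie.ChevalleyDatum

theorem unic1_G2 : uniTabChk chevG2 = true := by decide +kernel
theorem unic1_B2 : uniTabChk chevB2 = true := by decide +kernel
theorem unic1_D4 : uniTabChk chevD4 = true := by decide +kernel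
theorem unic1_F4 : uniTabChk chevF4 = true := by decide +kernel
theorem unic1_E6 : uniTabChk chevE6 = true := by decide +kernel
theorem unic1_E7 : uniTabChk chevE7 = true := by decide +kernel
theorem unic1_E8 : uniTabChk chevE8 = true := by decide +kernel

theorem uni_tab_all (D : ChevalleyDatum)
    (hD : D ∈ [chevG2, chevB2, chevD4, chevF4, chevE6, chevE7, chevE8]) : uniTabChk D = true := by
  simp only [List.mem_cons, List.mem_nil_iff, or_false] at hD
  rcases hD with rfl | rfl | rfl | rfl | rfl | rfl | rfl
  · exact unic1_G2
  · exact unic1_B2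
  · exact unic1_D4
  · exact unic1_F4
  · exact unic1_E6
  · exact unic1_E7
  · exact unic1_E8

end Cfsg.Agent.Lib.Helper5.UNI
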