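import Mathlib
import Cfsg.Agent.Lib.Helper5.UNI.Defs
import Cfsg.Agent.Lib.helper8.ChevBN3

/-!
# Project UNI, row C2A (helper20): the root permutation of a word acts linearly on the coroot
vectors.
-/

set_option autoImplicit false

namespace Cfsg.Agent.Lib.Helper5.UNI

open Cfsg.Lie Cfsg.Lie.ChevalleyDatum Cfsg.Agent.Lib.helper8

/-- the unit-vector clause of `uniTabChk` -/
theorem unic2a_unit (D : ChevalleyDatum) (hT : uniTabChk D = true) (a : ℕ) (ha : a < D.rank)
    (j : ℕ) (hj : j < D.rank) :
    (D.coroot.getD (D.simple a) #[]).getD j 0 = if j = a then 1 else 0 := by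
  unfold uniTabChk at hT
  simp only [Bool.and_eq_true, List.all_eq_true, List.mem_range, decide_eq_true_eq] at hT
  exact hT.1.2 a ha j hj

/-- `h8K` as a sum over `Finset.range` -/
theorem unic2a_h8K_range (D : ChevalleyDatum) (r v : ℕ) :
    h8K D r v = ∑ k ∈ Finset.range D.rank, (D.coroot.getD r #[]).getD k 0 * D.cartan k v := by
  unfold h8K
  rw [Finset.sum_range]

theorem unic2a_all (D : ChevalleyDatum) (hA : H8ReflAll D) (hBN : H8BN D)
    (hT : uniTabChk D = true) (w : List ℕ) (hw : ∀ i ∈ w, i < D.rank) (s : ℕ) (hs : s < D.nroots) :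
    ∀ j, j < D.rank →
    (D.coroot.getD (h8sW D w s) #[]).getD j 0 =
      ∑ a ∈ Finset.range D.rank, (D.coroot.getD s #[]).getD a 0 *
        (D.coroot.getD (h8sW D w (D.simple a)) #[]).getD j 0 := by
  induction w with
  | nil =>
    intro j hj
    have h0 : ∀ x, h8sW D [] x = x := fun x => rfl
    simp only [h0]
    have : ∑ a ∈ Finset.range D.rank, (D.coroot.getD s #[]).getD a 0 *
        (D.coroot.getD (D.simple a) #[]).getD j 0 =
        ∑ a ∈ Finset.range D.rank, if j = a then (D.coroot.getD s #[]).getD a 0 else 0 := by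
      apply Finset.sum_congr rfl
      intro a ha
      rw [unic2a_unit D hT a (Finset.mem_range.1 ha) j hj]
      split_ifs <;> ring
    rw [this, Finset.sum_ite_eq]
    simp [hj]
  | cons i w ih =>
    intro j hj
    have hw' : ∀ k ∈ w, k < D.rank := fun k hk => hw k (List.mem_cons_of_mem _ hk)
    have hi : i < D.rank := hw i List.mem_cons_self
    obtain ⟨η, hR⟩ := h8reflAll_spec D hA i hi
    have ih' := ih hw'
    have hc : ∀ x, h8sW D (i :: w) x = D.reflectRoot i (h8sW D w x) := fun x => rfl
    have hr : h8sW D w s < D.nroots := h8sW_lt D hA w hw' s hs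
    have hra : ∀ a, a < D.rank → h8sW D w (D.simple a) < D.nroots := fun a ha =>
      h8sW_lt D hA w hw' _ (h8simple_pos D hBN a ha).1
    rw [hc, hR.tc2 j hj _ hr]
    have e1 : ∀ a ∈ Finset.range D.rank,
        (D.coroot.getD s #[]).getD a 0 *
          (D.coroot.getD (h8sW D (i :: w) (D.simple a)) #[]).getD j 0 =
        (D.coroot.getD s #[]).getD a 0 * (D.coroot.getD (h8sW D w (D.simple a)) #[]).getD j 0 -
          (if j = i then (D.coroot.getD s #[]).getD a 0 * h8K D (h8sW D w (D.simple a)) (D.simple i)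
            else 0) := by
      intro a ha
      rw [hc, hR.tc2 j hj _ (hra a (Finset.mem_range.1 ha))]
      split_ifs <;> ring
    rw [Finset.sum_congr rfl e1, Finset.sum_sub_distrib, ← ih' j hj]
    congr 1
    by_cases hji : j = i
    · simp only [hji, if_true]
      -- h8K is linear
      rw [unic2a_h8K_range]
      have e2 : ∀ k ∈ Finset.range D.rank,
          (D.coroot.getD (h8sW D w s) #[]).getD k 0 * D.cartan k (D.simple i) =
          ∑ a ∈ Finset.range D.rank, (D.coroot.getD s #[]).getD a 0 *
            ((D.coroot.getD (h8sW D w (D.simple a)) #[]).getD k 0 * D.cartan k (D.simple i)) := by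
        intro k hk
        rw [ih' k (Finset.mem_range.1 hk), Finset.sum_mul]
        apply Finset.sum_congr rfl
        intro a _
        ring
      rw [Finset.sum_congr rfl e2, Finset.sum_comm]
      apply Finset.sum_congr rfl
      intro a _
      rw [unic2a_h8K_range, Finset.mul_sum]
    · simp only [hji, if_false, Finset.sum_const_zero]

theorem uni_vec_lin (D : ChevalleyDatum) (hA : H8ReflAll D) (hBN : H8BN D)
    (hT : uniTabChk D = true) (w : List ℕ) (hw : ∀ i ∈ w, i < D.rank) (s : ℕ) (hs : s < D.nroots)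
    (j : ℕ) (hj : j < D.rank) :
    (D.coroot.getD (h8sW D w s) #[]).getD j 0 =
      ∑ a ∈ Finset.range D.rank, (D.coroot.getD s #[]).getD a 0 *
        (D.coroot.getD (h8sW D w (D.simple a)) #[]).getD j 0 :=
  unic2a_all D hA hBN hT w hw s hs j hj

end Cfsg.Agent.Lib.Helper5.UNI
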