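import Cfsg.Agent.Lib.Helper9.UT.Defs

/-!
# Project UT, piece TV (helper20): transvection calculus for `IsTv`.
-/

set_option autoImplicit false
set_option linter.unusedSectionVars false
set_option linter.unusedVariables false

open Cfsg

namespace Cfsg.Agent.Lib.Helper9.UT

open Matrix Cfsg.Agent.Lib.Helper29.ExtrL Cfsg.Agent.Lib.Helper28.UMax

variable {n q : ℕ} {F : Type*} [Field F] [Fintype F] {σ : F ≃+* F}
  {M : Subgroup (Matrix.GeneralLinearGroup (Fin n) F)}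

/-- TV. -/
theorem tv_mem_SUg (S : UF n q σ) {t : Matrix.GeneralLinearGroup (Fin n) F} {w : Fin n → F} {c : F}
    (hw : Cfsg.hermForm n F q w w = 0) (hc : σ c = -c) (ht : IsTv n q t w c) : t ∈ SUg n F q := by
  refine (mem_SUg_iff t).2 ⟨Cfsg.Agent.S5643.utv_iso S.hU w hw c hc t ht, ?_⟩
  have h0 : Cfsg.hermForm n F q w (c • w) = 0 := by
    rw [Cfsg.Agent.Lib.Helper28.UForm.f_smul_right S.hU, hw, mul_zero]
  obtain ⟨t', ht'SL, ht'⟩ := Cfsg.Agent.S5643.tvGL S.hU w (c • w) h0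
  have : t = t' := Units.ext (Matrix.ext_iff_mulVec.mpr (fun x => by rw [ht, ht']))
  rw [this]
  exact Cfsg.Agent.Lib.Helper28.UGen.det_of_SL t' ht'SL

/-- TV. existence of the transvection. -/
theorem tv_exists (S : UF n q σ) (w : Fin n → F) (hw : Cfsg.hermForm n F q w w = 0) (c : F)
    (hc : σ c = -c) : ∃ t : Matrix.GeneralLinearGroup (Fin n) F, t ∈ SUg n F q ∧ IsTv n q t w c := by
  have h0 : Cfsg.hermForm n F q w (c • w) = 0 := by
    rw [Cfsg.Agent.Lib.Helper28.UForm.f_smul_right S.hU, hw, mul_zero]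
  obtain ⟨t, _, ht⟩ := Cfsg.Agent.S5643.tvGL S.hU w (c • w) h0
  exact ⟨t, tv_mem_SUg S hw hc ht, ht⟩

/-- TV. a matrix is determined by its action. -/
theorem tv_ext {t t' : Matrix.GeneralLinearGroup (Fin n) F} {w : Fin n → F} {c : F}
    (ht : IsTv n q t w c) (ht' : IsTv n q t' w c) : t = t' :=
  Units.ext (Matrix.ext_iff_mulVec.mpr (fun x => by rw [ht, ht']))

/-- TV. `g t_{w,c} g⁻¹ = t_{g w, c}` for an isometry `g`. -/
theorem tv_conj (S : UF n q σ) {g t : Matrix.GeneralLinearGroup (Fin n) F} (hg : g ∈ SUg n F q)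
    {w : Fin n → F} {c : F} (ht : IsTv n q t w c) :
    IsTv n q (g * t * g⁻¹) ((g : Matrix (Fin n) (Fin n) F) *ᵥ w) c := by
  intro x
  have hiso := ((mem_SUg_iff g).1 hg).1
  have h1 : Cfsg.hermForm n F q
      (((g⁻¹ : Matrix.GeneralLinearGroup (Fin n) F) : Matrix (Fin n) (Fin n) F) *ᵥ x) (c • w) =
      Cfsg.hermForm n F q x (c • (g : Matrix (Fin n) (Fin n) F) *ᵥ w) := by
    rw [← hiso, Cfsg.Agent.S5643.inv_mv', Matrix.mulVec_smul]
  rw [Cfsg.Agent.S5643.mul_mv, Cfsg.Agent.S5643.mul_mv, ht, Matrix.mulVec_add, Matrix.mulVec_smul,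
    Cfsg.Agent.S5643.inv_mv', h1]

/-- TV. `t_{w,c} t_{w,c'} = t_{w,c+c'}` (`w` isotropic). -/
theorem tv_mul (S : UF n q σ) {t t' : Matrix.GeneralLinearGroup (Fin n) F} {w : Fin n → F} {c c' : F}
    (hw : Cfsg.hermForm n F q w w = 0) (ht : IsTv n q t w c) (ht' : IsTv n q t' w c') :
    IsTv n q (t * t') w (c + c') := by
  intro x
  have hf := S.hU
  rw [Cfsg.Agent.S5643.mul_mv, ht', ht, hf.add_left, hf.smul_left,
    Cfsg.Agent.Lib.Helper28.UForm.f_smul_right hf c w w, hw, mul_zero, mul_zero, add_zero,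
    Cfsg.Agent.Lib.Helper28.UForm.f_smul_right hf, Cfsg.Agent.Lib.Helper28.UForm.f_smul_right hf,
    Cfsg.Agent.Lib.Helper28.UForm.f_smul_right hf, map_add, add_mul, add_smul]
  abel

/-- TV. -/
theorem tv_inv (S : UF n q σ) {t : Matrix.GeneralLinearGroup (Fin n) F} {w : Fin n → F} {c : F}
    (hw : Cfsg.hermForm n F q w w = 0) (ht : IsTv n q t w c) : IsTv n q t⁻¹ w (-c) := by
  intro x
  have hf := S.hU
  have key : (t : Matrix (Fin n) (Fin n) F) *ᵥ (x + Cfsg.hermForm n F q x (-c • w) • w) = x := by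
    rw [ht, hf.add_left, hf.smul_left,
      Cfsg.Agent.Lib.Helper28.UForm.f_smul_right hf c w w, hw, mul_zero, mul_zero, add_zero,
      Cfsg.Agent.Lib.Helper28.UForm.f_smul_right hf, Cfsg.Agent.Lib.Helper28.UForm.f_smul_right hf,
      map_neg, neg_mul, neg_smul]
    abel
  have := congrArg (fun z => ((t⁻¹ : Matrix.GeneralLinearGroup (Fin n) F) :
    Matrix (Fin n) (Fin n) F) *ᵥ z) key
  simp only [Cfsg.Agent.S5643.inv_mv] at this
  exact this.symm

/-- TV. `t_{μ w, c} = t_{w, c N(μ)}`. -/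
theorem tv_smul (S : UF n q σ) {t : Matrix.GeneralLinearGroup (Fin n) F} {w : Fin n → F} {c μ : F}
    (ht : IsTv n q t (μ • w) c) : IsTv n q t w (c * (μ * σ μ)) := by
  intro x
  have hf := S.hU
  rw [ht, Cfsg.Agent.Lib.Helper28.UForm.f_smul_right hf, Cfsg.Agent.Lib.Helper28.UForm.f_smul_right hf,
    Cfsg.Agent.Lib.Helper28.UForm.f_smul_right hf, smul_smul, map_mul, map_mul, hf.involutive]
  congr 2
  ring

end Cfsg.Agent.Lib.Helper9.UT
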