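import Cfsg.Agent.Lib.Helper9.UT.Defs
import Cfsg.Agent.Lib.Helper20.UTTV

/-!
# Project UT, piece DICHB (helper20): core of the dichotomy lemma `dich`.  The statements of `dich_step`
(specialised), `card_norm_one` and `card_fixed` are hypotheses.
-/

set_option autoImplicit false
set_option linter.unusedSectionVars false
set_option linter.unusedVariables false

open Cfsg

namespace Cfsg.Agent.Lib.Helper9.UT

open Matrix Cfsg.Agent.Lib.Helper29.ExtrL Cfsg.Agent.Lib.Helper28.UMax

variable {n q : ℕ} {F : Type*} [Field F] [Fintype F] {σ : F ≃+* F}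
  {M : Subgroup (Matrix.GeneralLinearGroup (Fin n) F)}

/-- three distinct roots of `a x² + b x + c` force `a = 0` and `c = 0` (and `b = 0`). -/
theorem utdichb_quad {a b c x1 x2 x3 : F} (h12 : x1 ≠ x2) (h13 : x1 ≠ x3) (h23 : x2 ≠ x3)
    (h1 : a * x1 ^ 2 + b * x1 + c = 0) (h2 : a * x2 ^ 2 + b * x2 + c = 0)
    (h3 : a * x3 ^ 2 + b * x3 + c = 0) : a = 0 ∧ c = 0 := by
  have e12 : (x1 - x2) * (a * (x1 + x2) + b) = 0 := by linear_combination h1 - h2
  have e13 : (x1 - x3) * (a * (x1 + x3) + b) = 0 := by linear_combination h1 - h3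
  have f12 : a * (x1 + x2) + b = 0 := by
    rcases mul_eq_zero.1 e12 with h | h
    · exact absurd (sub_eq_zero.1 h) h12
    · exact h
  have f13 : a * (x1 + x3) + b = 0 := by
    rcases mul_eq_zero.1 e13 with h | h
    · exact absurd (sub_eq_zero.1 h) h13
    · exact h
  have ha : a = 0 := by
    have e : a * (x2 - x3) = 0 := by linear_combination f12 - f13
    rcases mul_eq_zero.1 e with h | h
    · exact h
    · exact absurd (sub_eq_zero.1 h) h23
  have hb : b = 0 := by
    rw [ha] at f12
    linear_combination f12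
  refine ⟨ha, ?_⟩
  rw [ha, hb] at h1
  linear_combination h1

/-- the quadratic equation satisfied by `x ∈ U` with `N(B_x) = v`. -/
theorem utdichb_eq {γ x v : F} (hγ : σ γ = -γ) (hx : x * σ x = 1)
    (hv : (1 + γ * (x - 1)) * σ (1 + γ * (x - 1)) = v) :
    (γ + γ ^ 2) * x ^ 2 + (1 - 2 * γ ^ 2 - v) * x + (γ ^ 2 - γ) = 0 := by
  have h1 : σ (1 + γ * (x - 1)) = 1 - γ * (σ x - 1) := by
    rw [map_add, map_one, map_mul, map_sub, map_one, hγ]
    ring
  rw [h1] at hv
  have h2 : x * v = (1 + γ * (x - 1)) * (x - γ * (1 - x)) := by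
    rw [← hv]
    linear_combination (-(γ * (1 + γ * (x - 1)))) * hx
  linear_combination (-1 : F) * h2

/-- a divisor `d` of `q` with `q + 1 ≤ 2 d` is `q`. -/
theorem utdichb_arith {d q : ℕ} (hq : 0 < q) (hd : d ∣ q) (h : q + 1 ≤ 2 * d) : d = q := by
  obtain ⟨m, rfl⟩ := hd
  rcases Nat.eq_zero_or_pos m with h0 | h0
  · subst h0
    rw [Nat.mul_zero] at hq
    omega
  · rcases Nat.lt_or_ge m 2 with h2 | h2
    · have : m = 1 := by omega
      rw [this, mul_one]
    · exfalso
      have : 2 * d ≤ d * m := by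
        rw [mul_comm]
        exact Nat.mul_le_mul_left d h2
      omega

/-- core of DICHB. -/
theorem utdichb_core (S : UTS n q σ M)
    (hU : Nat.card {x : F // x * σ x = 1} = q + 1) (hK : Nat.card {x : F // σ x = x} = q)
    {w : Fin n → F} {c : F} (hw : Cfsg.hermForm n F q w w = 0) (hc : σ c = -c)
    (hc0 : c ≠ 0) {i : Fin n} (hi : w i ≠ 0)
    (hstep : ∀ x : F, x * σ x = 1 → ∃ t' ∈ M, IsTv n q t' w
      (c * ((1 + σ c * (w i * σ (w i)) * (x - 1)) * σ (1 + σ c * (w i * σ (w i)) * (x - 1)))))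
    (hex : (2 : F) ≠ 0 ∨ c * (w i * σ (w i)) ≠ 1) :
    w ∈ XS (Cfsg.hermForm n F q) σ M := by
  classical
  have hUF := S.toUF
  have hf := S.hU
  -- the additive group `K0`
  let K0 : AddSubgroup F :=
    { carrier := {a | σ a = a}
      zero_mem' := map_zero σ
      add_mem' := by
        intro a b ha hb
        change σ (a + b) = a + b
        rw [map_add, ha, hb]
      neg_mem' := by
        intro a ha
        change σ (-a) = -a
        rw [map_neg, ha] }
  -- the parameter group `A`
  let A : AddSubgroup F :=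
    { carrier := {a | σ a = a ∧ ∃ t' ∈ M, IsTv n q t' w (c * a)}
      zero_mem' := by
        refine ⟨map_zero σ, 1, M.one_mem, fun x => ?_⟩
        rw [Units.val_one, Matrix.one_mulVec, mul_zero, zero_smul,
          Cfsg.Agent.Lib.Helper28.UForm.f_zero_right hf, zero_smul, add_zero]
      add_mem' := by
        rintro a b ⟨ha, t1, ht1, hT1⟩ ⟨hb, t2, ht2, hT2⟩
        refine ⟨by rw [map_add, ha, hb], t1 * t2, M.mul_mem ht1 ht2, ?_⟩
        rw [mul_add]
        exact tv_mul hUF hw hT1 hT2
      neg_mem' := by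
        rintro a ⟨ha, t1, ht1, hT1⟩
        refine ⟨by rw [map_neg, ha], t1⁻¹, M.inv_mem ht1, ?_⟩
        rw [mul_neg]
        exact tv_inv hUF hw hT1 }
  have hAK : A ≤ K0 := fun a ha => ha.1
  have hcardK : Nat.card K0 = q := hK
  -- γ
  obtain ⟨γ, hγdef⟩ : ∃ γ : F, γ = σ c * (w i * σ (w i)) := ⟨_, rfl⟩
  have hNfix : σ (w i * σ (w i)) = w i * σ (w i) := by
    rw [map_mul, hf.involutive, mul_comm]
  have hγ : σ γ = -γ := by
    rw [hγdef, map_mul, hNfix, hf.involutive, hc]
    ring
  have hN0 : w i * σ (w i) ≠ 0 := by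
    apply mul_ne_zero hi
    intro h0
    apply hi
    have := congrArg σ h0
    rw [hf.involutive, map_zero] at this
    exact this
  have hγ0 : γ ≠ 0 := by
    rw [hγdef]
    apply mul_ne_zero _ hN0
    rw [hc]
    exact neg_ne_zero.mpr hc0
  rw [← hγdef] at hstep
  -- the coefficients do not both vanish
  have hcoef : ¬ (γ + γ ^ 2 = 0 ∧ γ ^ 2 - γ = 0) := by
    rintro ⟨h1, h2⟩
    have h3 : (2 : F) * γ = 0 := by linear_combination h1 - h2
    rcases hex with h | h
    · rcases mul_eq_zero.1 h3 with h4 | h4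
      · exact h h4
      · exact hγ0 h4
    · apply h
      have h20 : (2 : F) = 0 := by
        rcases mul_eq_zero.1 h3 with h4 | h4
        · exact h4
        · exact absurd h4 hγ0
      have h5 : γ * (1 + γ) = 0 := by linear_combination h1
      have h6 : γ = -1 := by
        rcases mul_eq_zero.1 h5 with h7 | h7
        · exact absurd h7 hγ0
        · linear_combination h7
      have h7 : σ c = -c := hc
      rw [hγdef, h7] at h6
      linear_combination (-1 : F) * h6
  -- the norm-one elements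
  let φ : F → F := fun x => (1 + γ * (x - 1)) * σ (1 + γ * (x - 1))
  let Ufin : Finset F := Finset.univ.filter (fun x => x * σ x = 1)
  have hUcard : Ufin.card = q + 1 := by
    rw [← hU, Nat.card_eq_fintype_card, Fintype.card_subtype]
  let Afin : Finset F := Finset.univ.filter (fun a => a ∈ A)
  have hAcard : Afin.card = Nat.card A := by
    rw [Nat.card_eq_fintype_card, Fintype.card_subtype]
  have himg : Ufin.image φ ⊆ Afin := by
    intro a ha
    obtain ⟨x, hx, rfl⟩ := Finset.mem_image.1 ha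
    have hx1 : x * σ x = 1 := (Finset.mem_filter.1 hx).2
    refine Finset.mem_filter.2 ⟨Finset.mem_univ _, ?_, hstep x hx1⟩
    change σ ((1 + γ * (x - 1)) * σ (1 + γ * (x - 1))) = _
    rw [map_mul, hf.involutive, mul_comm]
  have hfib : ∀ a ∈ Ufin.image φ, (Ufin.filter (fun x => φ x = a)).card ≤ 2 := by
    intro a _
    by_contra hgt
    push Not at hgt
    obtain ⟨x1, x2, x3, hx1, hx2, hx3, h12, h13, h23⟩ := Finset.two_lt_card_iff.1 hgt
    simp only [Finset.mem_filter] at hx1 hx2 hx3
    have e1 := utdichb_eq hγ (Finset.mem_filter.1 hx1.1).2 hx1.2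
    have e2 := utdichb_eq hγ (Finset.mem_filter.1 hx2.1).2 hx2.2
    have e3 := utdichb_eq hγ (Finset.mem_filter.1 hx3.1).2 hx3.2
    exact hcoef (utdichb_quad h12 h13 h23 e1 e2 e3)
  have hcount : Ufin.card ≤ 2 * (Ufin.image φ).card :=
    Finset.card_le_mul_card_image Ufin 2 hfib
  have hle : (Ufin.image φ).card ≤ Afin.card := Finset.card_le_card himg
  have hdvd : Nat.card A ∣ Nat.card K0 := AddSubgroup.card_dvd_of_le hAK
  have hAq : Nat.card A = q := by
    apply utdichb_arith
    · rw [← hcardK]; exact Nat.card_pos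
    · rw [← hcardK]; exact hdvd
    · rw [← hAcard]
      omega
  have hAeq : A = K0 := by
    apply AddSubgroup.eq_of_le_of_card_ge hAK
    rw [hAq, hcardK]
  -- conclusion
  refine ⟨hw, fun c' hc' t' ht' => ?_⟩
  have hmem : c' / c ∈ A := by
    rw [hAeq]
    change σ (c' / c) = c' / c
    rw [map_div₀, hc, hc', neg_div_neg_eq]
  obtain ⟨_, t'', ht''M, hT''⟩ := hmem
  have hcc : c * (c' / c) = c' := by field_simp
  rw [hcc] at hT''
  have : t' = t'' := tv_ext (n := n) (q := q) (w := w) (c := c') ht' hT''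
  rw [this]
  exact ht''M

end Cfsg.Agent.Lib.Helper9.UT
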