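import Cfsg.Agent.Lib.Helper9.UT.Defs
import Cfsg.Agent.Lib.helper8.UTCARD
import Cfsg.Agent.Lib.Helper9.UTDICHA
import Cfsg.Agent.Lib.Helper20.UTDICHBcore

/-!
# Project UT, piece DICHB (helper20): the dichotomy lemma `dich`.
-/

set_option autoImplicit false
set_option linter.unusedSectionVars false
set_option linter.unusedVariables false

open Cfsg

namespace Cfsg.Agent.Lib.Helper9.UT

open Matrix Cfsg.Agent.Lib.Helper29.ExtrL Cfsg.Agent.Lib.Helper28.UMax

variable {n q : ℕ} {F : Type*} [Field F] [Fintype F] {σ : F ≃+* F}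
  {M : Subgroup (Matrix.GeneralLinearGroup (Fin n) F)}

/-- DICHB (dichotomy lemma). -/
theorem dich (S : UTS n q σ M) (hq : 3 ≤ q) {t : Matrix.GeneralLinearGroup (Fin n) F}
    (ht : t ∈ M) {w : Fin n → F} {c : F} (hw : Cfsg.hermForm n F q w w = 0) (hc : σ c = -c)
    (hc0 : c ≠ 0) (hT : IsTv n q t w c) {i j : Fin n} (hi : w i ≠ 0) (hj : w j = 0)
    (hex : (2 : F) ≠ 0 ∨ c * (w i * σ (w i)) ≠ 1) :
    w ∈ XS (Cfsg.hermForm n F q) σ M :=
  utdichb_core S (card_norm_one S.toUF) (card_fixed S.toUF) hw hc hc0 hi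
    (fun x hx => dich_step S ht hw hc hT hi hj x hx) hex

end Cfsg.Agent.Lib.Helper9.UT
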