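import Cfsg.Agent.Lib.Helper9.UT.Defs
import Cfsg.Agent.Lib.Helper20.UTTV

/-!
# Project UT, piece ES (helper20): core of `es_even`.  The statements of `card_norm_one`, `mono_mem` and `dich`
are hypotheses.
-/

set_option autoImplicit false
set_option linter.unusedSectionVars false
set_option linter.unusedVariables false

open Cfsg

namespace Cfsg.Agent.Lib.Helper9.UT

open Matrix Cfsg.Agent.Lib.Helper29.ExtrL Cfsg.Agent.Lib.Helper28.UMax

variable {n q : ℕ} {F : Type*} [Field F] [Fintype F] {σ : F ≃+* F}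
  {M : Subgroup (Matrix.GeneralLinearGroup (Fin n) F)}

/-- a matrix acting diagonally on the standard basis acts diagonally. -/
theorem utes_diag (g : Matrix (Fin n) (Fin n) F) (d : Fin n → F)
    (h : ∀ i, g *ᵥ Pi.single i (1 : F) = d i • Pi.single i (1 : F)) (v : Fin n → F) :
    g *ᵥ v = fun l => d l * v l := by
  have hg : g = Matrix.diagonal d := by
    ext l i
    have := congrFun (h i) l
    rw [Matrix.mulVec_single_one] at this
    rw [Matrix.diagonal_apply]
    simp only [Matrix.col_apply, Pi.smul_apply, smul_eq_mul, Pi.single_apply] at this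
    rw [this]
    by_cases hli : l = i
    · subst hli; simp
    · rw [if_neg hli, if_neg hli, mul_zero]
  rw [hg]
  funext l
  rw [Matrix.mulVec_diagonal]

/-- core of ES. -/
theorem utes_core (S : UTS n q σ M) (hq : 4 ≤ q) (h2 : (2 : F) = 0)
    (hU : Nat.card {x : F // x * σ x = 1} = q + 1)
    (hmono : ∀ (π : Equiv.Perm (Fin n)) (d : Fin n → F), (∀ i, d i * σ (d i) = 1) →
      (((Equiv.Perm.sign π : ℤˣ) : ℤ) : F) * ∏ i, d i = 1 →
      ∃ g : Matrix.GeneralLinearGroup (Fin n) F, g ∈ SUg n F q ∧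
        IsMono (g : Matrix (Fin n) (Fin n) F) ∧
        ∀ i, (g : Matrix (Fin n) (Fin n) F) *ᵥ Pi.single i (1 : F) = d i • Pi.single (π i) (1 : F))
    (hdich : ∀ {t : Matrix.GeneralLinearGroup (Fin n) F}, t ∈ M → ∀ {w : Fin n → F} {c : F},
      Cfsg.hermForm n F q w w = 0 → σ c = -c → c ≠ 0 → IsTv n q t w c → ∀ {i j : Fin n},
      w i ≠ 0 → w j = 0 → ((2 : F) ≠ 0 ∨ c * (w i * σ (w i)) ≠ 1) →
      w ∈ XS (Cfsg.hermForm n F q) σ M)
    {t : Matrix.GeneralLinearGroup (Fin n) F} (ht : t ∈ M) {w : Fin n → F} {k : Fin n}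
    (hT : IsTv n q t w 1) (hw : Cfsg.hermForm n F q w w = 0) (hk : w k = 0)
    (hnorm : ∀ i, w i ≠ 0 → w i * σ (w i) = 1) {i1 i2 i3 : Fin n} (h12 : i1 ≠ i2) (h13 : i1 ≠ i3)
    (h23 : i2 ≠ i3) (h1 : w i1 ≠ 0) (h2' : w i2 ≠ 0) (h3 : w i3 ≠ 0) :
    ∃ w'' ∈ XS (Cfsg.hermForm n F q) σ M, w'' ≠ 0 ∧ w'' k = 0 := by
  classical
  have hUF := S.toUF
  have hf := S.hU
  have hneg1 : (-1 : F) = 1 := by linear_combination (-1 : F) * h2
  have hk1 : k ≠ i1 := fun h => h1 (h ▸ hk)
  have hk2 : k ≠ i2 := fun h => h2' (h ▸ hk)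
  have hk3 : k ≠ i3 := fun h => h3 (h ▸ hk)
  -- x
  obtain ⟨x, hxU, hx3⟩ : ∃ x : F, x * σ x = 1 ∧ x ^ 3 ≠ 1 := by
    let Ufin : Finset F := Finset.univ.filter (fun x => x * σ x = 1)
    have hUcard : Ufin.card = q + 1 := by
      rw [← hU, Nat.card_eq_fintype_card, Fintype.card_subtype]
    have hR : (Polynomial.nthRoots 3 (1 : F)).toFinset.card ≤ 3 :=
      (Multiset.toFinset_card_le _).trans (Polynomial.card_nthRoots 3 1)
    have hlt : (Polynomial.nthRoots 3 (1 : F)).toFinset.card < Ufin.card := by omega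
    obtain ⟨x, hxU, hxR⟩ := Finset.exists_mem_notMem_of_card_lt_card hlt
    refine ⟨x, (Finset.mem_filter.1 hxU).2, fun h => hxR ?_⟩
    rw [Multiset.mem_toFinset, Polynomial.mem_nthRoots (by norm_num)]
    exact h
  have hx0 : x ≠ 0 := by
    intro h
    rw [h, zero_mul] at hxU
    exact zero_ne_one hxU
  have hx1 : x ≠ 1 := by
    intro h
    apply hx3
    rw [h, one_pow]
  obtain ⟨y, hy⟩ : ∃ y : F, y = σ x := ⟨_, rfl⟩
  have hxy : x * y = 1 := by rw [hy]; exact hxU
  -- the diagonal element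
  let dv : Fin n → F := fun l =>
    (if l = i1 then x else 1) * (if l = i2 then x ^ 2 else 1) * (if l = k then (x ^ 3)⁻¹ else 1)
  have hdvN : ∀ l, dv l * σ (dv l) = 1 := by
    intro l
    have e1 : (if l = i1 then x else 1) * σ (if l = i1 then x else 1) = 1 := by
      split_ifs
      · exact hxU
      · rw [map_one, mul_one]
    have e2 : (if l = i2 then x ^ 2 else 1) * σ (if l = i2 then x ^ 2 else 1) = 1 := by
      split_ifs
      · rw [map_pow, ← mul_pow, hxU, one_pow]
      · rw [map_one, mul_one]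
    have e3 : (if l = k then (x ^ 3)⁻¹ else 1) * σ (if l = k then (x ^ 3)⁻¹ else 1) = 1 := by
      split_ifs
      · rw [map_inv₀, map_pow, ← mul_inv, ← mul_pow, hxU, one_pow, inv_one]
      · rw [map_one, mul_one]
    change (_ * _ * _) * σ (_ * _ * _) = 1
    rw [map_mul, map_mul]
    calc _ = ((if l = i1 then x else 1) * σ (if l = i1 then x else 1)) *
          ((if l = i2 then x ^ 2 else 1) * σ (if l = i2 then x ^ 2 else 1)) *
          ((if l = k then (x ^ 3)⁻¹ else 1) * σ (if l = k then (x ^ 3)⁻¹ else 1)) := by ring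
      _ = 1 := by rw [e1, e2, e3, one_mul, one_mul]
  have hdvprod : ∏ l, dv l = 1 := by
    change ∏ l, ((if l = i1 then x else 1) * (if l = i2 then x ^ 2 else 1) *
      (if l = k then (x ^ 3)⁻¹ else 1)) = 1
    rw [Finset.prod_mul_distrib, Finset.prod_mul_distrib, Finset.prod_ite_eq' Finset.univ i1,
      Finset.prod_ite_eq' Finset.univ i2, Finset.prod_ite_eq' Finset.univ k]
    simp only [Finset.mem_univ, if_true]
    field_simp
  obtain ⟨g, hgS, hgmono, hgact⟩ := hmono 1 dv hdvN (by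
    rw [Equiv.Perm.sign_one, hdvprod]
    simp)
  have hgM : g ∈ M := S.hN g hgS hgmono
  have hgv : ∀ v : Fin n → F, (g : Matrix (Fin n) (Fin n) F) *ᵥ v = fun l => dv l * v l :=
    utes_diag _ dv (fun i => by rw [hgact i]; rfl)
  -- values of dv
  have hdv1 : dv i1 = x := by
    change (if i1 = i1 then x else 1) * (if i1 = i2 then x ^ 2 else 1) *
      (if i1 = k then (x ^ 3)⁻¹ else 1) = x
    rw [if_pos rfl, if_neg h12, if_neg (Ne.symm hk1), mul_one, mul_one]
  have hdv2 : dv i2 = x ^ 2 := by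
    change (if i2 = i1 then x else 1) * (if i2 = i2 then x ^ 2 else 1) *
      (if i2 = k then (x ^ 3)⁻¹ else 1) = x ^ 2
    rw [if_neg (Ne.symm h12), if_pos rfl, if_neg (Ne.symm hk2), one_mul, mul_one]
  have hdvo : ∀ l, l ≠ i1 → l ≠ i2 → l ≠ k → dv l = 1 := by
    intro l hl1 hl2 hlk
    change (if l = i1 then x else 1) * (if l = i2 then x ^ 2 else 1) *
      (if l = k then (x ^ 3)⁻¹ else 1) = 1
    rw [if_neg hl1, if_neg hl2, if_neg hlk, mul_one, mul_one]
  -- the scalar s = f (g w) w = x + x²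
  have hs : Cfsg.hermForm n F q ((g : Matrix (Fin n) (Fin n) F) *ᵥ w) ((1 : F) • w) = x + x ^ 2 := by
    rw [one_smul, hgv, herm_apply hUF]
    have hww : ∑ l, w l * σ (w l) = 0 := by rw [← herm_apply hUF]; exact hw
    have hsplit : ∀ l, dv l * w l * σ (w l) =
        w l * σ (w l) + ((if l = i1 then (x - 1) * (w l * σ (w l)) else 0) +
          (if l = i2 then (x ^ 2 - 1) * (w l * σ (w l)) else 0)) := by
      intro l
      by_cases hl1 : l = i1
      · subst hl1
        rw [hdv1, if_pos rfl, if_neg h12]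
        ring
      · by_cases hl2 : l = i2
        · subst hl2
          rw [hdv2, if_neg hl1, if_pos rfl]
          ring
        · by_cases hlk : l = k
          · subst hlk
            rw [hk, if_neg hl1, if_neg hl2]
            ring
          · rw [hdvo l hl1 hl2 hlk, if_neg hl1, if_neg hl2]
            ring
    rw [Finset.sum_congr rfl (fun l _ => hsplit l), Finset.sum_add_distrib, Finset.sum_add_distrib,
      hww, Finset.sum_ite_eq' Finset.univ i1, Finset.sum_ite_eq' Finset.univ i2]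
    simp only [Finset.mem_univ, if_true]
    rw [hnorm i1 h1, hnorm i2 h2']
    linear_combination (-1 : F) * h2
  -- w''
  obtain ⟨w2, hw2def⟩ : ∃ w2 : Fin n → F,
      w2 = (t : Matrix (Fin n) (Fin n) F) *ᵥ ((g : Matrix (Fin n) (Fin n) F) *ᵥ w) := ⟨_, rfl⟩
  have hw2val : ∀ l, w2 l = dv l * w l + (x + x ^ 2) * w l := by
    intro l
    rw [hw2def, hT, hs, hgv]
    rfl
  have htS : t ∈ SUg n F q := S.hMS ht
  have hT1 : IsTv n q (g * t * g⁻¹) ((g : Matrix (Fin n) (Fin n) F) *ᵥ w) 1 := tv_conj hUF hgS hT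
  have hT2 : IsTv n q (t * (g * t * g⁻¹) * t⁻¹) w2 1 := by
    rw [hw2def]
    exact tv_conj hUF htS hT1
  have hT2M : t * (g * t * g⁻¹) * t⁻¹ ∈ M :=
    M.mul_mem (M.mul_mem ht (M.mul_mem (M.mul_mem hgM ht) (M.inv_mem hgM))) (M.inv_mem ht)
  have hw2iso : Cfsg.hermForm n F q w2 w2 = 0 := by
    rw [hw2def, iso_of_mem S ht, iso_of_mem S hgM, hw]
  have hw2k : w2 k = 0 := by
    rw [hw2val, hk, mul_zero, mul_zero, add_zero]
  have hP : 1 + x + x ^ 2 ≠ 0 := by
    intro h
    apply hx3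
    linear_combination (x - 1) * h
  have hw23 : w2 i3 = (1 + x + x ^ 2) * w i3 := by
    rw [hw2val, hdvo i3 (Ne.symm h13) (Ne.symm h23) (Ne.symm hk3)]
    ring
  have hw23ne : w2 i3 ≠ 0 := by
    rw [hw23]
    exact mul_ne_zero hP h3
  have hN3 : (1 : F) * (w2 i3 * σ (w2 i3)) ≠ 1 := by
    rw [hw23, map_mul, map_add, map_add, map_one, map_pow, ← hy]
    have hN : w i3 * σ (w i3) = 1 := hnorm i3 h3
    intro h
    have e1 : (1 + x + x ^ 2) * (1 + y + y ^ 2) = 1 := by
      linear_combination h - (1 + x + x ^ 2) * (1 + y + y ^ 2) * hN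
    have e2 : (x + y) ^ 2 = 0 := by
      linear_combination e1 - (x + y + x * y) * hxy - (x + y) * h2
    have e3 : x + y = 0 := by
      have := pow_eq_zero_iff (n := 2) (by norm_num) |>.1 e2
      exact this
    have e4 : (x - 1) ^ 2 = 0 := by
      linear_combination x * e3 - hxy - x * h2
    have e5 : x - 1 = 0 := pow_eq_zero_iff (n := 2) (by norm_num) |>.1 e4
    exact hx1 (by linear_combination e5)
  refine ⟨w2, ?_, fun h0 => hw23ne (by rw [h0]; rfl), hw2k⟩
  exact hdich hT2M hw2iso (by rw [map_one, hneg1]) one_ne_zero hT2 hw23ne hw2k (Or.inr hN3)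

end Cfsg.Agent.Lib.Helper9.UT
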