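import Cfsg.Agent.Lib.Helper9.UT.Defs
import Cfsg.Agent.Lib.helper8.UTCARD
import Cfsg.Agent.Lib.Helper13.UTMONO
import Cfsg.Agent.Lib.Helper20.UTDICHB
import Cfsg.Agent.Lib.Helper20.UTEScore

/-!
# Project UT, piece ES (helper20): `es_even`.
-/

set_option autoImplicit false
set_option linter.unusedSectionVars false
set_option linter.unusedVariables false

open Cfsg

namespace Cfsg.Agent.Lib.Helper9.UT

open Matrix Cfsg.Agent.Lib.Helper29.ExtrL Cfsg.Agent.Lib.Helper28.UMax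

variable {n q : ℕ} {F : Type*} [Field F] [Fintype F] {σ : F ≃+* F}
  {M : Subgroup (Matrix.GeneralLinearGroup (Fin n) F)}

/-- ES (`q` even, all coordinate norms of `w` equal to 1). -/
theorem es_even (S : UTS n q σ M) (hq : 4 ≤ q) (h2 : (2 : F) = 0)
    {t : Matrix.GeneralLinearGroup (Fin n) F} (ht : t ∈ M) {w : Fin n → F} {k : Fin n}
    (hT : IsTv n q t w 1) (hw : Cfsg.hermForm n F q w w = 0) (hk : w k = 0)
    (hnorm : ∀ i, w i ≠ 0 → w i * σ (w i) = 1) {i1 i2 i3 : Fin n} (h12 : i1 ≠ i2) (h13 : i1 ≠ i3)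
    (h23 : i2 ≠ i3) (h1 : w i1 ≠ 0) (h2' : w i2 ≠ 0) (h3 : w i3 ≠ 0) :
    ∃ w'' ∈ XS (Cfsg.hermForm n F q) σ M, w'' ≠ 0 ∧ w'' k = 0 :=
  utes_core S hq h2 (card_norm_one S.toUF) (fun π d hd hdet => mono_mem S.toUF π d hd hdet)
    (fun ht' _ _ hw' hc' hc0' hT' _ _ hi' hj' hex' =>
      dich S (by omega) ht' hw' hc' hc0' hT' hi' hj' hex')
    ht hT hw hk hnorm h12 h13 h23 h1 h2' h3

end Cfsg.Agent.Lib.Helper9.UT
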