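import Cfsg.Agent.Lib.Helper9.UT.Defs
import Cfsg.Agent.Lib.Helper11.ExtrLFa

/-!
# Project UT, piece W1 (helper20): core of `c0_w1` (`C0 ⇒ W1`), port of `Helper11.ExtrL.c0_weights` with
`e ∈ U` (norm one) instead of `e ∈ Fˣ`.  The statements of `card_norm_one` (only `4 ≤ |U|`) and of `tij_mem`
are hypotheses.
-/

set_option autoImplicit false
set_option linter.unusedSectionVars false
set_option linter.unusedVariables false

open Cfsg

namespace Cfsg.Agent.Lib.Helper9.UT

open Matrix Cfsg.Agent.Lib.Helper29.ExtrL Cfsg.Agent.Lib.Helper28.UMax Cfsg.Agent.Lib.Helper11.ExtrL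

variable {n q : ℕ} {F : Type*} [Field F] [Fintype F] {σ : F ≃+* F}
  {M : Subgroup (Matrix.GeneralLinearGroup (Fin n) F)}

/-- (Q'): if `g⁻¹ T_{ij}(e) g` is monomial for all `e ∈ U`, `|U| ≥ 4`, every column of `g` vanishes at `i, j` or
vanishes outside `{i, j}`. -/
theorem utw1_Q (hU4 : 4 ≤ Nat.card {x : F // x * σ x = 1})
    (g : Matrix.GeneralLinearGroup (Fin n) F) (i j : Fin n)
    (hmono : ∀ e : Fˣ, (e : F) * σ (e : F) = 1 →
      IsMono ((g⁻¹ * Tij i j e * g : Matrix.GeneralLinearGroup (Fin n) F) :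
        Matrix (Fin n) (Fin n) F))
    (b : Fin n) :
    ((g : Matrix (Fin n) (Fin n) F) i b = 0 ∧ (g : Matrix (Fin n) (Fin n) F) j b = 0) ∨
      ∀ k, k ≠ i → k ≠ j → (g : Matrix (Fin n) (Fin n) F) k b = 0 := by
  classical
  by_contra hcon
  push Not at hcon
  obtain ⟨hij0, k, hki, hkj, hk0⟩ := hcon
  have hne : ∀ x : {x : F // x * σ x = 1}, (x : F) ≠ 0 := by
    rintro ⟨x, hx⟩ h0
    simp only at h0
    rw [h0, zero_mul] at hx
    exact zero_ne_one hx
  let φ : {x : F // x * σ x = 1} → Fˣ := fun x => Units.mk0 (x : F) (hne x)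
  have hφ : ∀ x, ((φ x : Fˣ) : F) * σ ((φ x : Fˣ) : F) = 1 := fun x => x.2
  have hφinj : Function.Injective φ := by
    intro x y hxy
    apply Subtype.ext
    have := congrArg (fun u : Fˣ => (u : F)) hxy
    exact this
  choose τ hτ using fun x : {x : F // x * σ x = 1} => hmono (φ x) (hφ x) b
  have hinj : Function.Injective τ := by
    intro x y hxy
    apply hφinj
    exact fa_inj_aux g i j (φ x) (φ y) b (τ x) k (hτ x) (hxy ▸ hτ y) hki hkj hk0 hij0
  have hcard : (Finset.univ.image τ).card = Nat.card {x : F // x * σ x = 1} := by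
    rw [Finset.card_image_of_injective _ hinj, Finset.card_univ, Nat.card_eq_fintype_card]
  have hle := fa_dim g (Finset.univ.image τ)
    (fun r => if r = i ∨ r = j then 0 else (g : Matrix (Fin n) (Fin n) F) r b)
    (Pi.single i 1) (Pi.single j 1) (by
      intro s hs
      obtain ⟨x, _, rfl⟩ := Finset.mem_image.mp hs
      have hstar := fun (r : Fin n) => fa_star g i j (φ x) b (τ x) (hτ x) r
      generalize ((g⁻¹ * Tij i j (φ x) * g : Matrix.GeneralLinearGroup (Fin n) F) :
        Matrix (Fin n) (Fin n) F) (τ x) b = c at hstar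
      generalize φ x = e at hstar
      have hc0 : c ≠ 0 := by
        intro h0
        have := hstar k
        rw [if_neg hki, if_neg hkj, Units.val_one, one_mul, h0, mul_zero] at this
        exact hk0 this
      have hval : (fun r => (g : Matrix (Fin n) (Fin n) F) r (τ x)) =
          c⁻¹ • ((fun r => if r = i ∨ r = j then 0 else (g : Matrix (Fin n) (Fin n) F) r b) +
            ((e : F) * (g : Matrix (Fin n) (Fin n) F) i b) • (Pi.single i (1 : F) : Fin n → F) +
            (if j = i then (0 : F) else (((e⁻¹ : Fˣ) : F) * (g : Matrix (Fin n) (Fin n) F) j b)) •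
              (Pi.single j (1 : F) : Fin n → F)) := by
        funext r
        have hr := hstar r
        have hgr : (g : Matrix (Fin n) (Fin n) F) r (τ x) =
            c⁻¹ * ((((if r = i then e else if r = j then e⁻¹ else 1 : Fˣ)) : F) *
              (g : Matrix (Fin n) (Fin n) F) r b) := by
          rw [hr]
          field_simp [hc0]
        rw [hgr]
        simp only [Pi.smul_apply, Pi.add_apply, smul_eq_mul, Pi.single_apply]
        congr 1
        by_cases hri : r = i
        · subst hri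
          by_cases hjr : j = r
          · subst hjr; simp
          · simp [hjr, Ne.symm hjr]
        · by_cases hrj : r = j
          · subst hrj
            simp [hri]
          · simp [hri, hrj]
      rw [hval]
      refine Submodule.smul_mem _ _ (Submodule.add_mem _ (Submodule.add_mem _ ?_ ?_) ?_)
      · exact Submodule.subset_span (by simp)
      · exact Submodule.smul_mem _ _ (Submodule.subset_span (by simp))
      · exact Submodule.smul_mem _ _ (Submodule.subset_span (by simp)))
  omega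

/-- (K) for `T_{jk}(e)`, `e ∈ U`, and a column vanishing at rows `j, k`. -/
theorem utw1_K (S : UTS n q σ M)
    (htij : ∀ {i j : Fin n}, i ≠ j → ∀ u : Fˣ, (u : F) * σ (u : F) = 1 → Tij i j u ∈ SUg n F q)
    (hC0 : C0 M)
    {g : Matrix.GeneralLinearGroup (Fin n) F} (hg : g ∈ M) (a j k : Fin n) (hjk : j ≠ k)
    (h0j : (g : Matrix (Fin n) (Fin n) F) j a = 0) (h0k : (g : Matrix (Fin n) (Fin n) F) k a = 0)
    (e : Fˣ) (he : (e : F) * σ (e : F) = 1) :
    IsMono ((g⁻¹ * Tij j k e * g : Matrix.GeneralLinearGroup (Fin n) F) :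
      Matrix (Fin n) (Fin n) F) := by
  have hT : Tij j k e ∈ M := S.hN _ (htij hjk e he) (isMono_dg _)
  apply c0_conj hC0 hg hT a 1
  intro r
  unfold Tij
  rw [dg_mul_apply, one_mul]
  by_cases hrj : r = j
  · subst hrj
    rw [h0j, mul_zero]
  · by_cases hrk : r = k
    · subst hrk
      rw [h0k, mul_zero]
    · rw [if_neg hrj, if_neg hrk, Units.val_one, one_mul]

/-- step (1): no column of a non-monomial element has three zeros. -/
theorem utw1_three (S : UTS n q σ M) (hU4 : 4 ≤ Nat.card {x : F // x * σ x = 1})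
    (htij : ∀ {i j : Fin n}, i ≠ j → ∀ u : Fˣ, (u : F) * σ (u : F) = 1 → Tij i j u ∈ SUg n F q)
    (hC0 : C0 M)
    (g : Matrix.GeneralLinearGroup (Fin n) F) (hg : g ∈ M)
    (hnm : ¬ IsMono (g : Matrix (Fin n) (Fin n) F))
    (a j k l : Fin n) (hjk : j ≠ k) (hjl : j ≠ l) (hkl : k ≠ l)
    (h0j : (g : Matrix (Fin n) (Fin n) F) j a = 0) (h0k : (g : Matrix (Fin n) (Fin n) F) k a = 0)
    (h0l : (g : Matrix (Fin n) (Fin n) F) l a = 0) : False := by
  have hQ1 := utw1_Q hU4 g j k (fun e he => utw1_K S htij hC0 hg a j k hjk h0j h0k e he)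
  have hQ2 := utw1_Q hU4 g j l (fun e he => utw1_K S htij hC0 hg a j l hjl h0j h0l e he)
  obtain ⟨b, hb⟩ := gl_row_ne_zero g j
  have h1 : ∀ r, r ≠ j → r ≠ k → (g : Matrix (Fin n) (Fin n) F) r b = 0 := by
    rcases hQ1 b with h | h
    · exact (hb h.1).elim
    · exact h
  have h2 : ∀ r, r ≠ j → r ≠ l → (g : Matrix (Fin n) (Fin n) F) r b = 0 := by
    rcases hQ2 b with h | h
    · exact (hb h.1).elim
    · exact h
  apply hnm
  apply hC0 g hg
  refine ⟨b, j, fun r hr => ?_⟩
  by_cases hrk : r = k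
  · subst hrk
    exact h2 r hr hkl
  · exact h1 r hr hrk

/-- core of W1. -/
theorem utw1_core (S : UTS n q σ M) (hU4 : 4 ≤ Nat.card {x : F // x * σ x = 1})
    (htij : ∀ {i j : Fin n}, i ≠ j → ∀ u : Fˣ, (u : F) * σ (u : F) = 1 → Tij i j u ∈ SUg n F q)
    (hn : 5 ≤ n) (hC0 : C0 M) : W1 M := by
  classical
  intro g hg hnm a i j hij h0
  obtain ⟨h0i, h0j⟩ := h0
  have hQ := utw1_Q hU4 g i j (fun e he => utw1_K S htij hC0 hg a i j hij h0i h0j e he)
  obtain ⟨b, hb⟩ := gl_row_ne_zero g i
  have h1 : ∀ r, r ≠ i → r ≠ j → (g : Matrix (Fin n) (Fin n) F) r b = 0 := by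
    rcases hQ b with h | h
    · exact (hb h.1).elim
    · exact h
  -- three further rows
  have hcard : 2 < ((Finset.univ.erase i).erase j).card := by
    rw [Finset.card_erase_of_mem (Finset.mem_erase.mpr ⟨Ne.symm hij, Finset.mem_univ j⟩),
      Finset.card_erase_of_mem (Finset.mem_univ i), Finset.card_univ, Fintype.card_fin]
    omega
  obtain ⟨r1, r2, r3, hr1, hr2, hr3, h12, h13, h23⟩ := Finset.two_lt_card_iff.mp hcard
  simp only [Finset.mem_erase, Finset.mem_univ, and_true] at hr1 hr2 hr3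
  exact utw1_three S hU4 htij hC0 g hg hnm b r1 r2 r3 h12 h13 h23
    (h1 r1 hr1.2 hr1.1) (h1 r2 hr2.2 hr2.1) (h1 r3 hr3.2 hr3.1)

end Cfsg.Agent.Lib.Helper9.UT
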