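import Cfsg.Agent.Lib.Helper9.UT.Defs
import Cfsg.Agent.Lib.helper8.UTCARD
import Cfsg.Agent.Lib.Helper13.UTMONO
import Cfsg.Agent.Lib.Helper20.UTW1core

/-!
# Project UT, piece W1 (helper20): `c0_w1` (`C0 ⇒ W1`).
-/

set_option autoImplicit false
set_option linter.unusedSectionVars false
set_option linter.unusedVariables false

open Cfsg

namespace Cfsg.Agent.Lib.Helper9.UT

open Matrix Cfsg.Agent.Lib.Helper29.ExtrL Cfsg.Agent.Lib.Helper28.UMax

variable {n q : ℕ} {F : Type*} [Field F] [Fintype F] {σ : F ≃+* F}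
  {M : Subgroup (Matrix.GeneralLinearGroup (Fin n) F)}

/-- W1. `C0 ⇒ W1`. -/
theorem c0_w1 (S : UTS n q σ M) (hq : 3 ≤ q) (hn : 5 ≤ n) (hC0 : C0 M) : W1 M :=
  utw1_core S (by rw [card_norm_one S.toUF]; omega) (fun hij u hu => tij_mem S.toUF hij u hu) hn hC0

end Cfsg.Agent.Lib.Helper9.UT
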