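import Mathlib
import Cfsg.Prelude.Def_GeometricClasses
import Cfsg.Agent.Lib.Helper27.ASC.Defs
import Cfsg.Agent.Lib.Lead.ASCU.Defs
import Cfsg.Agent.Lib.helper2.UXDefs
import Cfsg.Agent.Lib.Helper19.ASU.Defs
import Cfsg.Agent.Lib.Helper19.ASUADJ
import Cfsg.Agent.Lib.Helper24.UXFLD62.Defs

set_option autoImplicit false
set_option linter.unusedVariables false
set_option linter.unusedSectionVars false

/-!
# Project UX, sub-project FLD62 (helper24), piece COORD (helper20) : `K`-coordinates w.r.t. a hyperbolic pair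

`fld62_ell_nondeg`, `fld62_form`, `fld62_coord_inj`, `fld62_coord_surj` : VERBATIM vs `Helper24/UXFLD62/Skel.lean.txt`.
Extras (`uxfld62coord_*`): `uxfld62coord_surj_of_inj` (any `u w` with `(a, b) ↦ a u + b w` injective on `K × K`,
`finrank K = 3`: it is onto `F^6`), `uxfld62coord_hF2`.
-/

namespace Cfsg.Agent.Lib.helper2.UX

open Cfsg Cfsg.Geo Cfsg.Agent.Lib.Helper27.ASC Cfsg.Agent.Lib.Lead.ASCU Cfsg.Agent.Lib.Helper19.ASU
open scoped MatrixGroups Matrix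

variable {F : Type*} [Field F] [Fintype F]

theorem uxfld62coord_hF2 (hF : Fintype.card F = 4) : Fintype.card F = 2 ^ 2 := by
  rw [hF]; norm_num

/-- a pair of vectors on which `K × K` acts freely spans `F^6` over `K` (`finrank K = 3`). -/
theorem uxfld62coord_surj_of_inj (K : Subalgebra F (Matrix (Fin 6) (Fin 6) F))
    (hfr : Module.finrank F K = 3) (u w : Fin 6 → F)
    (hinj : ∀ a ∈ K, ∀ b ∈ K, a *ᵥ u + b *ᵥ w = 0 → a = 0 ∧ b = 0)
    (x : Fin 6 → F) : ∃ a ∈ K, ∃ b ∈ K, x = a *ᵥ u + b *ᵥ w := by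
  classical
  let φ : (K × K) →ₗ[F] (Fin 6 → F) :=
    { toFun := fun p => (p.1 : Matrix (Fin 6) (Fin 6) F) *ᵥ u + (p.2 : Matrix (Fin 6) (Fin 6) F) *ᵥ w
      map_add' := by
        intro p p'
        simp only [Prod.fst_add, Prod.snd_add, Subalgebra.coe_add, Matrix.add_mulVec]
        abel
      map_smul' := by
        intro c p
        simp only [Prod.smul_fst, Prod.smul_snd, Subalgebra.coe_smul, Matrix.smul_mulVec, RingHom.id_apply,
          smul_add] }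
  have hφinj : Function.Injective φ := by
    rw [injective_iff_map_eq_zero]
    intro p hp
    have h := hinj p.1 p.1.2 p.2 p.2.2 hp
    ext1
    · exact Subtype.ext h.1
    · exact Subtype.ext h.2
  have hdim : Module.finrank F (K × K) = Module.finrank F (Fin 6 → F) := by
    rw [Module.finrank_prod, hfr, Module.finrank_fin_fun]
  have hφsurj : Function.Surjective φ :=
    (LinearMap.injective_iff_surjective_of_finrank_eq_finrank hdim).1 hφinj
  obtain ⟨p, hp⟩ := hφsurj x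
  exact ⟨p.1, p.1.2, p.2, p.2.2, hp.symm⟩

/-- COORD : `ℓ` is non-degenerate (`K` is a field: `k c` runs over `K`; `ℓ 1 = 1`). -/
theorem fld62_ell_nondeg (hF : Fintype.card F = 4) (K : Subalgebra F (Matrix (Fin 6) (Fin 6) F))
    (hK : IsFieldSubalgebra 3 K) (hstar : ∀ k ∈ K, uadj 2 k ∈ K) {u w : Fin 6 → F} (hp : Fld62Pair K u w)
    (c : Matrix (Fin 6) (Fin 6) F) (hc : c ∈ K)
    (h : ∀ k ∈ K, hermForm 6 F 2 ((k * c) *ᵥ u) w = 0) : c = 0 := by
  by_contra hc0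
  obtain ⟨y, hy, hcy⟩ := hK.inv c hc hc0
  have h1 := h y hy
  rw [hK.comm y hy c hc, hcy, Matrix.one_mulVec, hp.one] at h1
  exact one_ne_zero h1

/-- COORD : the form in coordinates: `f (α u + β w) (γ u + δ w) = ℓ (α δ* + β γ*)`. -/
theorem fld62_form (hF : Fintype.card F = 4) (K : Subalgebra F (Matrix (Fin 6) (Fin 6) F))
    (hK : IsFieldSubalgebra 3 K) (hstar : ∀ k ∈ K, uadj 2 k ∈ K) {u w : Fin 6 → F} (hp : Fld62Pair K u w)
    (α β γ δ : Matrix (Fin 6) (Fin 6) F) (hα : α ∈ K) (hβ : β ∈ K) (hγ : γ ∈ K) (hδ : δ ∈ K) :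
    hermForm 6 F 2 (α *ᵥ u + β *ᵥ w) (γ *ᵥ u + δ *ᵥ w) =
      hermForm 6 F 2 ((α * uadj 2 δ + β * uadj 2 γ) *ᵥ u) w := by
  have hF2 := uxfld62coord_hF2 hF
  have hγs := hstar γ hγ
  have hδs := hstar δ hδ
  have hβs := hstar β hβ
  -- the four terms
  have e1 : hermForm 6 F 2 (α *ᵥ u) (γ *ᵥ u) = 0 := by
    rw [uadj_spec' hF2, Matrix.mulVec_mulVec]
    exact hp.iso_u _ (K.mul_mem hγs hα)
  have e2 : hermForm 6 F 2 (β *ᵥ w) (δ *ᵥ w) = 0 := by
    rw [uadj_spec' hF2, Matrix.mulVec_mulVec]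
    exact hp.iso_w _ (K.mul_mem hδs hβ)
  have e3 : hermForm 6 F 2 (α *ᵥ u) (δ *ᵥ w) = hermForm 6 F 2 ((α * uadj 2 δ) *ᵥ u) w := by
    rw [uadj_spec' hF2, Matrix.mulVec_mulVec, hK.comm _ hδs _ hα]
  have e4 : hermForm 6 F 2 (β *ᵥ w) (γ *ᵥ u) = hermForm 6 F 2 ((β * uadj 2 γ) *ᵥ u) w := by
    rw [uherm_symm hF2 (γ *ᵥ u) (β *ᵥ w), uadj_spec' hF2, Matrix.mulVec_mulVec]
    have h := hp.symm (uadj 2 β * γ) (K.mul_mem hβs hγ)
    rw [uadj_mul hF2, uadj_uadj hF2] at h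
    rw [← h, hK.comm _ hγs _ hβ]
  rw [Cfsg.Agent.Lib.Helper28.Herm.herm_add_left, Cfsg.Agent.Lib.Helper28.Herm.herm_add_right hF2,
    Cfsg.Agent.Lib.Helper28.Herm.herm_add_right hF2, e1, e2, e3, e4, Matrix.add_mulVec,
    Cfsg.Agent.Lib.Helper28.Herm.herm_add_left]
  ring

/-- COORD : `(a, b) ↦ a u + b w` is injective on `K × K` (apply `f (k ·) u` and `f (k ·) w`, `fld62_form`, `fld62_ell_nondeg`). -/
theorem fld62_coord_inj (hF : Fintype.card F = 4) (K : Subalgebra F (Matrix (Fin 6) (Fin 6) F))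
    (hK : IsFieldSubalgebra 3 K) (hstar : ∀ k ∈ K, uadj 2 k ∈ K) {u w : Fin 6 → F} (hp : Fld62Pair K u w)
    (a b : Matrix (Fin 6) (Fin 6) F) (ha : a ∈ K) (hb : b ∈ K) (h : a *ᵥ u + b *ᵥ w = 0) : a = 0 ∧ b = 0 := by
  have hF2 := uxfld62coord_hF2 hF
  have h0 : (0 : Matrix (Fin 6) (Fin 6) F) ∈ K := K.zero_mem
  have h1 : (1 : Matrix (Fin 6) (Fin 6) F) ∈ K := K.one_mem
  have key : ∀ k ∈ K, (k * a) *ᵥ u + (k * b) *ᵥ w = 0 := by
    intro k hk
    rw [← Matrix.mulVec_mulVec, ← Matrix.mulVec_mulVec, ← Matrix.mulVec_add, h, Matrix.mulVec_zero]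
  constructor
  · apply fld62_ell_nondeg hF K hK hstar hp a ha
    intro k hk
    have hform := fld62_form hF K hK hstar hp (k * a) (k * b) 0 1 (K.mul_mem hk ha) (K.mul_mem hk hb) h0 h1
    rw [key k hk, Cfsg.Agent.Lib.Helper28.Herm.herm_zero_left, uadj_one hF2, uadj_zero hF2, mul_one, mul_zero,
      add_zero] at hform
    exact hform.symm
  · apply fld62_ell_nondeg hF K hK hstar hp b hb
    intro k hk
    have hform := fld62_form hF K hK hstar hp (k * a) (k * b) 1 0 (K.mul_mem hk ha) (K.mul_mem hk hb) h1 h0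
    rw [key k hk, Cfsg.Agent.Lib.Helper28.Herm.herm_zero_left, uadj_one hF2, uadj_zero hF2, mul_one, mul_zero,
      zero_add] at hform
    exact hform.symm

/-- COORD : `(a, b) ↦ a u + b w` is onto (`F`-linear injective `K × K → F^6`, dimensions `6 = 6`). -/
theorem fld62_coord_surj (hF : Fintype.card F = 4) (K : Subalgebra F (Matrix (Fin 6) (Fin 6) F))
    (hK : IsFieldSubalgebra 3 K) (hstar : ∀ k ∈ K, uadj 2 k ∈ K) {u w : Fin 6 → F} (hp : Fld62Pair K u w)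
    (x : Fin 6 → F) : ∃ a ∈ K, ∃ b ∈ K, x = a *ᵥ u + b *ᵥ w :=
  uxfld62coord_surj_of_inj K hK.finrank_eq u w
    (fun a ha b hb h => fld62_coord_inj hF K hK hstar hp a b ha hb h) x

end Cfsg.Agent.Lib.helper2.UX
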