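import Mathlib
import Cfsg.Prelude.Def_GeometricClasses
import Cfsg.Agent.Lib.Helper27.ASC.Defs
import Cfsg.Agent.Lib.Lead.ASCU.Defs
import Cfsg.Agent.Lib.helper2.UXDefs
import Cfsg.Agent.Lib.Helper19.ASU.Defs
import Cfsg.Agent.Lib.Helper19.ASUADJ
import Cfsg.Agent.Lib.Helper24.UXFLD62.Defs
import Cfsg.Agent.Lib.Helper24.UXFLD62K0A
import Cfsg.Agent.Lib.Helper24.UXFLD62K0B
import Cfsg.Agent.Lib.Helper20.UXFLD62COORD

set_option autoImplicit false
set_option linter.unusedVariables false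
set_option linter.unusedSectionVars false

/-!
# Project UX, sub-project FLD62 (helper24), piece PAIR (helper20) : existence of a hyperbolic pair

`fld62_exists_pair` : VERBATIM vs `Helper24/UXFLD62/Skel.lean.txt`.
Extras (`uxfld62pair_*`): `uxfld62pairL K p r` (the functional `k ↦ f (k p) r` on `K`), `uxfld62pair_exists_orth`,
`uxfld62pair_repr`, `uxfld62pair_of_orth` (an orthogonal `K`-basis `x, y` with the same `K`-norm gives the hyperbolic
pair `(x + y, ω x + ω² y)`).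
-/

namespace Cfsg.Agent.Lib.helper2.UX

open Cfsg Cfsg.Geo Cfsg.Agent.Lib.Helper27.ASC Cfsg.Agent.Lib.Lead.ASCU Cfsg.Agent.Lib.Helper19.ASU
open scoped MatrixGroups Matrix

variable {F : Type*} [Field F] [Fintype F]

theorem uxfld62pair_herm_sub_left (a b z : Fin 6 → F) :
    hermForm 6 F 2 (a - b) z = hermForm 6 F 2 a z - hermForm 6 F 2 b z := by
  have h := Cfsg.Agent.Lib.Helper28.Herm.herm_add_left 6 2 (a - b) b z
  rw [sub_add_cancel] at h
  rw [h, add_sub_cancel_right]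

/-- the `F`-linear functional `k ↦ f (k p) r` on `K` -/
noncomputable def uxfld62pairL (K : Subalgebra F (Matrix (Fin 6) (Fin 6) F)) (p r : Fin 6 → F) : K →ₗ[F] F where
  toFun k := hermForm 6 F 2 ((k : Matrix (Fin 6) (Fin 6) F) *ᵥ p) r
  map_add' k k' := by
    rw [Subalgebra.coe_add, Matrix.add_mulVec, Cfsg.Agent.Lib.Helper28.Herm.herm_add_left]
  map_smul' c k := by
    rw [Subalgebra.coe_smul, Matrix.smul_mulVec, Cfsg.Agent.Lib.Helper28.Herm.herm_smul_left]
    rfl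

theorem uxfld62pairL_apply (K : Subalgebra F (Matrix (Fin 6) (Fin 6) F)) (p r : Fin 6 → F) (k : K) :
    uxfld62pairL K p r k = hermForm 6 F 2 ((k : Matrix (Fin 6) (Fin 6) F) *ᵥ p) r := rfl

/-- a non-zero vector `y` with `K y ⊥ x` (`dim K = 3 < 6`) -/
theorem uxfld62pair_exists_orth (K : Subalgebra F (Matrix (Fin 6) (Fin 6) F))
    (hfr : Module.finrank F K = 3) (x : Fin 6 → F) :
    ∃ y : Fin 6 → F, y ≠ 0 ∧ ∀ k ∈ K, hermForm 6 F 2 (k *ᵥ y) x = 0 := by
  classical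
  let Ψ : (Fin 6 → F) →ₗ[F] (K →ₗ[F] F) :=
    { toFun := fun y => uxfld62pairL K y x
      map_add' := by
        intro y y'
        apply LinearMap.ext
        intro k
        rw [LinearMap.add_apply, uxfld62pairL_apply, uxfld62pairL_apply, uxfld62pairL_apply, Matrix.mulVec_add,
          Cfsg.Agent.Lib.Helper28.Herm.herm_add_left]
      map_smul' := by
        intro c y
        apply LinearMap.ext
        intro k
        rw [RingHom.id_apply, LinearMap.smul_apply, uxfld62pairL_apply, uxfld62pairL_apply, Matrix.mulVec_smul,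
          Cfsg.Agent.Lib.Helper28.Herm.herm_smul_left]
        rfl }
  have hlt : Module.finrank F (K →ₗ[F] F) < Module.finrank F (Fin 6 → F) := by
    have h1 : Module.finrank F (K →ₗ[F] F) = Module.finrank F K := Subspace.dual_finrank_eq
    rw [h1, hfr, Module.finrank_fin_fun]
    norm_num
  have hker : LinearMap.ker Ψ ≠ ⊥ := LinearMap.ker_ne_bot_of_finrank_lt hlt
  obtain ⟨y, hy, hy0⟩ := Submodule.exists_mem_ne_zero_of_ne_bot hker
  refine ⟨y, hy0, ?_⟩
  intro k hk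
  rw [LinearMap.mem_ker] at hy
  have := congrArg (fun φ : K →ₗ[F] F => φ ⟨k, hk⟩) hy
  exact this

/-- every functional on `K` is `k ↦ A (d k)` when `A` is non-degenerate -/
theorem uxfld62pair_repr (K : Subalgebra F (Matrix (Fin 6) (Fin 6) F)) [FiniteDimensional F K]
    (A : K →ₗ[F] F) (hA : ∀ c : K, (∀ k : K, A (c * k) = 0) → c = 0) (φ : K →ₗ[F] F) :
    ∃ d : K, ∀ k : K, φ k = A (d * k) := by
  classical
  let Θ : K →ₗ[F] (K →ₗ[F] F) := (LinearMap.mul F K).compr₂ A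
  have hΘ : ∀ d k : K, Θ d k = A (d * k) := fun d k => rfl
  have hinj : Function.Injective Θ := by
    rw [injective_iff_map_eq_zero]
    intro c hc
    apply hA c
    intro k
    rw [← hΘ, hc]
    rfl
  have hdim : Module.finrank F K = Module.finrank F (K →ₗ[F] F) := (Subspace.dual_finrank_eq).symm
  have hsurj : Function.Surjective Θ :=
    (LinearMap.injective_iff_surjective_of_finrank_eq_finrank hdim).1 hinj
  obtain ⟨d, hd⟩ := hsurj φ
  exact ⟨d, fun k => by rw [← hd, hΘ]⟩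

/-- an orthogonal pair `x, y` with the same `K`-norm gives the hyperbolic pair `(x + y, ω x + ω² y)` -/
theorem uxfld62pair_of_orth (hF : Fintype.card F = 4) (K : Subalgebra F (Matrix (Fin 6) (Fin 6) F))
    (hstar : ∀ k ∈ K, uadj 2 k ∈ K) (ω : F) (hω : ω ^ 2 + ω + 1 = 0) (h2 : (2 : F) = 0)
    (x y : Fin 6 → F) (hxx : hermForm 6 F 2 x x = 1)
    (hyy : ∀ k ∈ K, hermForm 6 F 2 (k *ᵥ y) y = hermForm 6 F 2 (k *ᵥ x) x)
    (hyx : ∀ k ∈ K, hermForm 6 F 2 (k *ᵥ y) x = 0) :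
    Fld62Pair K (x + y) (ω • x + ω ^ 2 • y) := by
  have hF2 := uxfld62coord_hF2 hF
  have hxy : ∀ k ∈ K, hermForm 6 F 2 (k *ᵥ x) y = 0 := by
    intro k hk
    rw [uherm_symm hF2 y (k *ᵥ x), uadj_spec' hF2, hyx _ (hstar k hk)]
    norm_num
  have hform : ∀ k ∈ K, ∀ a b c d : F, hermForm 6 F 2 (k *ᵥ (a • x + b • y)) (c • x + d • y) =
      (a * c ^ 2 + b * d ^ 2) * hermForm 6 F 2 (k *ᵥ x) x := by
    intro k hk a b c d
    rw [Matrix.mulVec_add, Matrix.mulVec_smul, Matrix.mulVec_smul, Cfsg.Agent.Lib.Helper28.Herm.herm_add_left,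
      Cfsg.Agent.Lib.Helper28.Herm.herm_add_right hF2, Cfsg.Agent.Lib.Helper28.Herm.herm_add_right hF2,
      Cfsg.Agent.Lib.Helper28.Herm.herm_smul_left, Cfsg.Agent.Lib.Helper28.Herm.herm_smul_left,
      Cfsg.Agent.Lib.Helper28.Herm.herm_smul_right, Cfsg.Agent.Lib.Helper28.Herm.herm_smul_right,
      Cfsg.Agent.Lib.Helper28.Herm.herm_smul_left, Cfsg.Agent.Lib.Helper28.Herm.herm_smul_left,
      Cfsg.Agent.Lib.Helper28.Herm.herm_smul_right, Cfsg.Agent.Lib.Helper28.Herm.herm_smul_right,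
      hxy k hk, hyx k hk, hyy k hk]
    ring
  have hAstar : ∀ k ∈ K, hermForm 6 F 2 (uadj 2 k *ᵥ x) x = (hermForm 6 F 2 (k *ᵥ x) x) ^ 2 := by
    intro k hk
    rw [← uadj_spec' hF2, uherm_symm hF2 (k *ᵥ x) x]
  have h11 : (1 : F) + 1 = 0 := by linear_combination h2
  have hω3 : ω ^ 3 = 1 := by linear_combination (ω - 1) * hω
  have hω24 : ω ^ 2 + (ω ^ 2) ^ 2 = 1 := by
    linear_combination (ω ^ 2 - ω + 1) * hω - h11
  have hu : x + y = (1 : F) • x + (1 : F) • y := by rw [one_smul, one_smul]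
  refine ⟨?_, ?_, ?_, ?_⟩
  · intro k hk
    rw [hu, hform k hk]
    have : (1 : F) * 1 ^ 2 + 1 * 1 ^ 2 = 0 := by linear_combination h11
    rw [this, zero_mul]
  · intro k hk
    rw [hform k hk]
    have : ω * ω ^ 2 + ω ^ 2 * (ω ^ 2) ^ 2 = 0 := by
      linear_combination (ω ^ 3 + 2) * hω3 + h11
    rw [this, zero_mul]
  · intro k hk
    rw [hu, hform k hk, hform _ (hstar k hk), hAstar k hk]
    have : (1 : F) * ω ^ 2 + 1 * (ω ^ 2) ^ 2 = 1 := by linear_combination hω24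
    rw [this, one_mul, one_mul]
  · have h := hform 1 K.one_mem 1 1 ω (ω ^ 2)
    rw [Matrix.one_mulVec, Matrix.one_mulVec, ← hu, hxx] at h
    rw [h]
    linear_combination hω24

/-- PAIR : existence of a hyperbolic pair. -/
theorem fld62_exists_pair (hF : Fintype.card F = 4) (K : Subalgebra F (Matrix (Fin 6) (Fin 6) F))
    (hK : IsFieldSubalgebra 3 K) (hstar : ∀ k ∈ K, uadj 2 k ∈ K) :
    ∃ u w : Fin 6 → F, Fld62Pair K u w := by
  classical
  have hF2 := uxfld62coord_hF2 hF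
  obtain ⟨ω, hω, h2, -⟩ := fld62_omega hF
  obtain ⟨-, -, -, -, hK0inv⟩ := fld62_K0_ring hF K hK hstar
  have hfd : FiniteDimensional F K := by
    apply Module.finite_of_finrank_pos
    rw [hK.finrank_eq]; norm_num
  -- the anisotropic vector `x`
  set x : Fin 6 → F := Pi.single 0 1 with hx
  have hxx : hermForm 6 F 2 x x = 1 := by
    rw [hx, uherm_single_left]
    simp
  -- the functional `A`
  have hA1 : hermForm 6 F 2 ((1 : Matrix (Fin 6) (Fin 6) F) *ᵥ x) x = 1 := by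
    rw [Matrix.one_mulVec, hxx]
  have hAnd : ∀ c ∈ K, (∀ k ∈ K, hermForm 6 F 2 ((c * k) *ᵥ x) x = 0) → c = 0 := by
    intro c hc h
    by_contra hc0
    obtain ⟨c', hc', hcc'⟩ := hK.inv c hc hc0
    have := h c' hc'
    rw [hcc', hA1] at this
    exact one_ne_zero this
  have hAstar : ∀ k ∈ K, hermForm 6 F 2 (uadj 2 k *ᵥ x) x = (hermForm 6 F 2 (k *ᵥ x) x) ^ 2 := by
    intro k hk
    rw [← uadj_spec' hF2, uherm_symm hF2 (k *ᵥ x) x]
  -- the orthogonal vector `y`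
  obtain ⟨y, hy0, hyx⟩ := uxfld62pair_exists_orth K hK.finrank_eq x
  have hxy : ∀ k ∈ K, hermForm 6 F 2 (k *ᵥ x) y = 0 := by
    intro k hk
    rw [uherm_symm hF2 y (k *ᵥ x), uadj_spec' hF2, hyx _ (hstar k hk)]
    norm_num
  have hBstar : ∀ k ∈ K, hermForm 6 F 2 (uadj 2 k *ᵥ y) y = (hermForm 6 F 2 (k *ᵥ y) y) ^ 2 := by
    intro k hk
    rw [← uadj_spec' hF2, uherm_symm hF2 (k *ᵥ y) y]
  -- `B ≠ 0`
  have hB : ∃ k ∈ K, hermForm 6 F 2 (k *ᵥ y) y ≠ 0 := by
    by_contra hcon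
    push Not at hcon
    apply hy0
    have hinj : ∀ a ∈ K, ∀ b ∈ K, a *ᵥ x + b *ᵥ y = 0 → a = 0 ∧ b = 0 := by
      intro a ha b hb hab
      have ha0 : a = 0 := by
        apply hAnd a ha
        intro k hk
        have h1 : (k * a) *ᵥ x + (k * b) *ᵥ y = 0 := by
          rw [← Matrix.mulVec_mulVec, ← Matrix.mulVec_mulVec, ← Matrix.mulVec_add, hab, Matrix.mulVec_zero]
        have h3 := congrArg (fun v => hermForm 6 F 2 v x) h1
        simp only [Cfsg.Agent.Lib.Helper28.Herm.herm_add_left, Cfsg.Agent.Lib.Helper28.Herm.herm_zero_left] at h3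
        rw [hyx _ (K.mul_mem hk hb), add_zero, hK.comm k hk a ha] at h3
        exact h3
      refine ⟨ha0, ?_⟩
      by_contra hb0
      obtain ⟨b', hb', hbb'⟩ := hK.inv b hb hb0
      apply hy0
      rw [ha0, Matrix.zero_mulVec, zero_add] at hab
      have h4 := congrArg (fun v => b' *ᵥ v) hab
      simp only [Matrix.mulVec_mulVec, Matrix.mulVec_zero] at h4
      rw [hK.comm b' hb' b hb, hbb', Matrix.one_mulVec] at h4
      exact h4
    apply uherm_ext_right hF2 (w := y) (w' := 0)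
    intro v
    obtain ⟨a, ha, b, hb, hv⟩ := uxfld62coord_surj_of_inj K hK.finrank_eq x y hinj v
    rw [hv, Cfsg.Agent.Lib.Helper28.Herm.herm_add_left, hxy a ha, hcon b hb, add_zero,
      Cfsg.Agent.Lib.Helper28.Herm.herm_zero_right 6 2 (by norm_num)]
  -- `B = A (d ·)`
  have hAnd' : ∀ c : K, (∀ k : K, uxfld62pairL K x x (c * k) = 0) → c = 0 := by
    intro c h
    apply Subtype.ext
    apply hAnd c c.2
    intro k hk
    exact h ⟨k, hk⟩
  obtain ⟨d, hd⟩ := uxfld62pair_repr K (uxfld62pairL K x x) hAnd' (uxfld62pairL K y y)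
  have hd' : ∀ k ∈ K, hermForm 6 F 2 (k *ᵥ y) y = hermForm 6 F 2 (((d : Matrix (Fin 6) (Fin 6) F) * k) *ᵥ x) x := by
    intro k hk
    exact hd ⟨k, hk⟩
  have hdK : (d : Matrix (Fin 6) (Fin 6) F) ∈ K := d.2
  have hd0 : (d : Matrix (Fin 6) (Fin 6) F) ≠ 0 := by
    intro h0
    obtain ⟨k, hk, hk0⟩ := hB
    apply hk0
    rw [hd' k hk, h0, zero_mul, Matrix.zero_mulVec, Cfsg.Agent.Lib.Helper28.Herm.herm_zero_left]
  have hdstar : uadj 2 (d : Matrix (Fin 6) (Fin 6) F) = d := by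
    have hsub : uadj 2 (d : Matrix (Fin 6) (Fin 6) F) - d = 0 := by
      apply hAnd _ (K.sub_mem (hstar _ hdK) hdK)
      intro k hk
      -- `k = (k*)*`
      have hks := hstar k hk
      have e1 : hermForm 6 F 2 ((uadj 2 (d : Matrix (Fin 6) (Fin 6) F) * k) *ᵥ x) x =
          hermForm 6 F 2 (((d : Matrix (Fin 6) (Fin 6) F) * k) *ᵥ x) x := by
        have h1 : uadj 2 (d : Matrix (Fin 6) (Fin 6) F) * k =
            uadj 2 (uadj 2 k * (d : Matrix (Fin 6) (Fin 6) F)) := by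
          rw [uadj_mul hF2, uadj_uadj hF2]
        rw [h1, hAstar _ (K.mul_mem hks hdK), hK.comm _ hks _ hdK, ← hd' _ hks, hBstar k hk, ← pow_mul,
          hd' k hk]
        have : ∀ t : F, t ^ (2 * 2) = t := by
          intro t
          have := upow_pow hF2 t
          rw [← pow_mul] at this
          exact this
        rw [this]
      rw [sub_mul, Matrix.sub_mulVec, uxfld62pair_herm_sub_left, e1, sub_self]
    exact sub_eq_zero.1 hsub
  -- `e² = d⁻¹`
  obtain ⟨d', hd'K0, hdd'⟩ := hK0inv d ⟨hdK, hdstar⟩ hd0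
  obtain ⟨e, ⟨heK, hestar⟩, hee⟩ := fld62_K0_sqrt hF K hK hstar d' hd'K0
  have hd'K : d' ∈ K := hd'K0.1
  set y' : Fin 6 → F := e *ᵥ y with hy'
  have hy'y' : ∀ k ∈ K, hermForm 6 F 2 (k *ᵥ y') y' = hermForm 6 F 2 (k *ᵥ x) x := by
    intro k hk
    rw [hy', uadj_spec' hF2, hestar, Matrix.mulVec_mulVec, Matrix.mulVec_mulVec,
      hd' _ (K.mul_mem (K.mul_mem heK hk) heK)]
    have : (d : Matrix (Fin 6) (Fin 6) F) * (e * k * e) = k := by
      rw [mul_assoc e k e, hK.comm k hk e heK, ← mul_assoc e e k, hee, ← mul_assoc, hdd', one_mul]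
    rw [this]
  have hy'x : ∀ k ∈ K, hermForm 6 F 2 (k *ᵥ y') x = 0 := by
    intro k hk
    rw [hy', Matrix.mulVec_mulVec]
    exact hyx _ (K.mul_mem hk heK)
  exact ⟨x + y', ω • x + ω ^ 2 • y', uxfld62pair_of_orth hF K hstar ω hω h2 x y' hxx hy'y' hy'x⟩

end Cfsg.Agent.Lib.helper2.UX
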