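import Mathlib
import Cfsg.Prelude.Def_GeometricClasses
import Cfsg.Agent.Lib.Helper27.ASC.Defs
import Cfsg.Agent.Lib.Lead.ASCU.Defs
import Cfsg.Agent.Lib.helper2.UXDefs
import Cfsg.Agent.S0283

/-!
# Project UX, piece NSG (parallel backup by helper20) : the normal subgroup dichotomy for `SU_n(q)` inside `GL_n`,
from the simplicity of `PSU_n(q)` (S0283) through the bridge `Cfsg.SU n F q → SUg n F q`
-/

set_option autoImplicit false
set_option linter.unusedVariables false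
set_option linter.unusedSectionVars false
set_option linter.style.haveILetI false

namespace Cfsg.Agent.Lib.helper2.UX

open Cfsg Cfsg.Geo Cfsg.Agent.Lib.Helper27.ASC Cfsg.Agent.Lib.Lead.ASCU
open scoped MatrixGroups Matrix

variable {n : ℕ} {F : Type*} [Field F] [Fintype F]

/-- the bridge from `Cfsg.SU n F q` (a subgroup of `SL_n`) to `GL_n` -/
def uxnsgbPhi (n : ℕ) (F : Type*) [Field F] (q : ℕ) : ↥(Cfsg.SU n F q) →* GL (Fin n) F :=
  (Matrix.SpecialLinearGroup.toGL).comp (Cfsg.SU n F q).subtype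

omit [Fintype F] in
theorem uxnsgb_phi_coe (q : ℕ) (g : ↥(Cfsg.SU n F q)) :
    ((uxnsgbPhi n F q g : GL (Fin n) F) : Matrix (Fin n) (Fin n) F) =
      ((g : Matrix.SpecialLinearGroup (Fin n) F) : Matrix (Fin n) (Fin n) F) := rfl

omit [Fintype F] in
/-- the bridge lands in `SUg` -/
theorem uxnsgb_phi_mem (q : ℕ) (g : ↥(Cfsg.SU n F q)) : uxnsgbPhi n F q g ∈ SUg n F q := by
  refine ⟨?_, ?_⟩
  · intro u v
    exact g.2 u v
  · show uxnsgbPhi n F q g ∈ (Matrix.GeneralLinearGroup.det : GL (Fin n) F →* Fˣ).ker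
    rw [MonoidHom.mem_ker]
    apply Units.ext
    rw [Matrix.GeneralLinearGroup.val_det_apply, uxnsgb_phi_coe, Units.val_one]
    exact (g : Matrix.SpecialLinearGroup (Fin n) F).2

omit [Fintype F] in
/-- the bridge is onto `SUg` -/
theorem uxnsgb_phi_surj (q : ℕ) (x : GL (Fin n) F) (hx : x ∈ SUg n F q) :
    ∃ g : ↥(Cfsg.SU n F q), uxnsgbPhi n F q g = x := by
  have hdet : (x : Matrix (Fin n) (Fin n) F).det = 1 := by
    have h1 : x ∈ (Matrix.GeneralLinearGroup.det : GL (Fin n) F →* Fˣ).ker := hx.2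
    rw [MonoidHom.mem_ker] at h1
    have h2 := congrArg (fun u : Fˣ => (u : F)) h1
    simpa [Matrix.GeneralLinearGroup.val_det_apply] using h2
  refine ⟨⟨⟨(x : Matrix (Fin n) (Fin n) F), hdet⟩, ?_⟩, ?_⟩
  · intro u v
    exact hx.1 u v
  · apply Units.ext
    rfl

/-- NSG (backup copy, same statement as `su_normal` of the skeleton) -/
theorem uxnsgb_su_normal (q : ℕ) (hF : Fintype.card F = q ^ 2) (hn : 3 ≤ n) (hex : ¬ (n = 3 ∧ q = 2))
    (N : Subgroup (GL (Fin n) F)) (hN : N ≤ SUg n F q)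
    (hnorm : ∀ g ∈ SUg n F q, ∀ x ∈ N, g * x * g⁻¹ ∈ N) :
    (∀ x ∈ N, ∀ g ∈ SUg n F q, g * x = x * g) ∨
    (∀ g ∈ SUg n F q, ∃ x ∈ N, ∃ z ∈ SUg n F q, (∀ h ∈ SUg n F q, h * z = z * h) ∧ g = x * z) := by
  classical
  have hN'n : (N.comap (uxnsgbPhi n F q)).Normal := by
    refine ⟨fun x hx g => ?_⟩
    show uxnsgbPhi n F q (g * x * g⁻¹) ∈ N
    rw [map_mul, map_mul, map_inv]
    exact hnorm _ (uxnsgb_phi_mem q g) _ hx
  haveI : IsSimpleGroup (Cfsg.PSU n F q) := Cfsg.Agent.S0283.result hF n hn hex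
  have hmapn : ((N.comap (uxnsgbPhi n F q)).map
      (QuotientGroup.mk' (Subgroup.center (Cfsg.SU n F q)))).Normal :=
    Subgroup.Normal.map hN'n _ (QuotientGroup.mk'_surjective _)
  rcases hmapn.eq_bot_or_eq_top with hbot | htop
  · left
    have hle : N.comap (uxnsgbPhi n F q) ≤ Subgroup.center (Cfsg.SU n F q) := by
      have h1 := (Subgroup.map_eq_bot_iff _).1 hbot
      rwa [QuotientGroup.ker_mk'] at h1
    intro x hx g hg
    obtain ⟨x', rfl⟩ := uxnsgb_phi_surj q x (hN hx)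
    obtain ⟨g', rfl⟩ := uxnsgb_phi_surj q g hg
    have hx'c : x' ∈ Subgroup.center (Cfsg.SU n F q) := hle hx
    rw [← map_mul, ← map_mul, Subgroup.mem_center_iff.1 hx'c g']
  · right
    intro g hg
    obtain ⟨g', rfl⟩ := uxnsgb_phi_surj q g hg
    have hmem : QuotientGroup.mk' (Subgroup.center (Cfsg.SU n F q)) g' ∈
        (N.comap (uxnsgbPhi n F q)).map (QuotientGroup.mk' (Subgroup.center (Cfsg.SU n F q))) := by
      rw [htop]
      trivial
    obtain ⟨x', hx', hxg⟩ := hmem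
    have hz : x'⁻¹ * g' ∈ Subgroup.center (Cfsg.SU n F q) := by
      rw [← QuotientGroup.eq]
      exact hxg
    refine ⟨uxnsgbPhi n F q x', hx', uxnsgbPhi n F q (x'⁻¹ * g'), uxnsgb_phi_mem q _, ?_, ?_⟩
    · intro h hh
      obtain ⟨h', rfl⟩ := uxnsgb_phi_surj q h hh
      rw [← map_mul, ← map_mul, Subgroup.mem_center_iff.1 hz h']
    · rw [← map_mul, mul_inv_cancel_left]

end Cfsg.Agent.Lib.helper2.UX
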