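import Mathlib
import Cfsg.Prelude.Def_GeometricClasses
import Cfsg.Agent.Lib.Helper27.ASC.Defs
import Cfsg.Agent.Lib.Lead.ASCU.Defs
import Cfsg.Agent.Lib.helper2.UXDefs
import Cfsg.Agent.Lib.Helper20.UXNSGb

/-!
# Project UX, piece NSG (verbatim) : the normal subgroup dichotomy for `SU_n(q)` (wrapper of `uxnsgb_su_normal`)
-/

set_option autoImplicit false
set_option linter.unusedVariables false
set_option linter.unusedSectionVars false

namespace Cfsg.Agent.Lib.helper2.UX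

open Cfsg Cfsg.Geo Cfsg.Agent.Lib.Helper27.ASC Cfsg.Agent.Lib.Lead.ASCU
open scoped MatrixGroups Matrix

variable {n : ℕ} {F : Type*} [Field F] [Fintype F]

/-- NSG : a subgroup of `SU_n(q)` normalised by `SU_n(q)` is centralised by `SU_n(q)`, or together with the centre
it is all of `SU_n(q)` (landed row S0283: `PSU_n(q)` is simple). -/
theorem su_normal (q : ℕ) (hF : Fintype.card F = q ^ 2) (hn : 3 ≤ n) (hex : ¬ (n = 3 ∧ q = 2))
    (N : Subgroup (GL (Fin n) F)) (hN : N ≤ SUg n F q)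
    (hnorm : ∀ g ∈ SUg n F q, ∀ x ∈ N, g * x * g⁻¹ ∈ N) :
    (∀ x ∈ N, ∀ g ∈ SUg n F q, g * x = x * g) ∨
    (∀ g ∈ SUg n F q, ∃ x ∈ N, ∃ z ∈ SUg n F q, (∀ h ∈ SUg n F q, h * z = z * h) ∧ g = x * z) :=
  uxnsgb_su_normal q hF hn hex N hN hnorm

end Cfsg.Agent.Lib.helper2.UX
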