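import Mathlib
import Cfsg.Prelude.Def_GeometricClasses
import Cfsg.Agent.Lib.Helper27.ASC.Defs
import Cfsg.Agent.Lib.Lead.ASCU.Defs
import Cfsg.Agent.Lib.helper2.UXDefs

/-!
# Project UX, piece PR6 (core) : `SU_n(q)` normalises no absolutely irreducible `r`-group of similarities,
with PERF (`su_perfect`), NSG (`su_normal`) and NSC (`su_not_scalar`) as hypotheses
-/

set_option autoImplicit false
set_option linter.unusedVariables false
set_option linter.unusedSectionVars false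
set_option linter.style.haveILetI false

namespace Cfsg.Agent.Lib.helper2.UX

open Cfsg Cfsg.Geo Cfsg.Agent.Lib.Helper27.ASC Cfsg.Agent.Lib.Lead.ASCU
open scoped MatrixGroups Matrix
open scoped commutatorElement

variable {n : ℕ} {F : Type*} [Field F] [Fintype F]

omit [Fintype F] in
/-- a similitude of the hermitian form conjugates `SU` into itself -/
theorem uxpr6_conj_mem (q : ℕ) (x g : GL (Fin n) F) (hx : x ∈ similarityGroup (hermForm n F q))
    (hg : g ∈ SUg n F q) : x * g * x⁻¹ ∈ SUg n F q := by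
  refine ⟨?_, ?_⟩
  · obtain ⟨c, hc⟩ := hx
    intro u v
    show hermForm n F q (((x * g * x⁻¹ : GL (Fin n) F) : Matrix (Fin n) (Fin n) F) *ᵥ u)
      (((x * g * x⁻¹ : GL (Fin n) F) : Matrix (Fin n) (Fin n) F) *ᵥ v) = hermForm n F q u v
    have hgU : ∀ u v : Fin n → F, hermForm n F q ((g : Matrix (Fin n) (Fin n) F) *ᵥ u)
        ((g : Matrix (Fin n) (Fin n) F) *ᵥ v) = hermForm n F q u v := hg.1
    have e : ∀ w : Fin n → F, (x : Matrix (Fin n) (Fin n) F) *ᵥ
        (((x⁻¹ : GL (Fin n) F) : Matrix (Fin n) (Fin n) F) *ᵥ w) = w := by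
      intro w
      rw [Matrix.mulVec_mulVec, ← Units.val_mul, mul_inv_cancel, Units.val_one, Matrix.one_mulVec]
    rw [Units.val_mul, Units.val_mul, ← Matrix.mulVec_mulVec, ← Matrix.mulVec_mulVec, ← Matrix.mulVec_mulVec,
      ← Matrix.mulVec_mulVec, hc, hgU, ← hc, e, e]
  · have hker : (specialLinear (Fin n) F).Normal := by
      unfold specialLinear
      exact MonoidHom.normal_ker _
    exact hker.conj_mem g hg.2 x

omit [Fintype F] in
/-- an invertible scalar matrix is in `scalars` (`0 < n`) -/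
theorem uxpr6_mem_scalars (hn : 0 < n) (g : GL (Fin n) F) (c : F)
    (hc : (g : Matrix (Fin n) (Fin n) F) = c • (1 : Matrix (Fin n) (Fin n) F)) : g ∈ scalars (Fin n) F := by
  have hc0 : c ≠ 0 := by
    rintro rfl
    rw [zero_smul] at hc
    have h1 : (g : Matrix (Fin n) (Fin n) F) * ((g⁻¹ : GL (Fin n) F) : Matrix (Fin n) (Fin n) F) = 1 := by
      rw [← Units.val_mul, mul_inv_cancel, Units.val_one]
    rw [hc, zero_mul] at h1
    have h2 := congrFun (congrFun h1 ⟨0, hn⟩) ⟨0, hn⟩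
    simp at h2
  rw [mem_scalars_iff]
  exact ⟨Units.mk0 c hc0, hc⟩

/-- PR6 (core) -/
theorem uxpr6_core (q : ℕ) (hn : 3 ≤ n) {r : ℕ} (hr : r.Prime) (R : Subgroup (GL (Fin n) F)) (hp : IsPGroup r R)
    (hA : ActsAbsolutelyIrreducibly (matrixSet R)) (hsim : R ≤ similarityGroup (hermForm n F q))
    (hperf : ⁅SUg n F q, SUg n F q⁆ = SUg n F q)
    (hnsg : ∀ N : Subgroup (GL (Fin n) F), N ≤ SUg n F q →
      (∀ g ∈ SUg n F q, ∀ x ∈ N, g * x * g⁻¹ ∈ N) →
      (∀ x ∈ N, ∀ g ∈ SUg n F q, g * x = x * g) ∨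
      (∀ g ∈ SUg n F q, ∃ x ∈ N, ∃ z ∈ SUg n F q, (∀ h ∈ SUg n F q, h * z = z * h) ∧ g = x * z))
    (hnsc : ¬ SUg n F q ≤ scalars (Fin n) F) :
    ¬ SUg n F q ≤ subgroupNormalizer R := by
  classical
  intro hle
  -- `N = R ⊓ SU` is normalised by `SU`
  have hnorm : ∀ g ∈ SUg n F q, ∀ x ∈ R ⊓ SUg n F q, g * x * g⁻¹ ∈ R ⊓ SUg n F q := by
    intro g hg x hx
    refine ⟨?_, (SUg n F q).mul_mem ((SUg n F q).mul_mem hg hx.2) ((SUg n F q).inv_mem hg)⟩
    have hgN : g ∈ Subgroup.normalizer (R : Set (GL (Fin n) F)) := hle hg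
    exact (Subgroup.mem_normalizer_iff.mp hgN x).1 hx.1
  -- `⁅R, SU⁆ ≤ N`
  have hcomm : ⁅R, SUg n F q⁆ ≤ R ⊓ SUg n F q := by
    rw [Subgroup.commutator_le]
    intro x hx g hg
    rw [commutatorElement_def]
    refine ⟨?_, ?_⟩
    · have hgN : g ∈ Subgroup.normalizer (R : Set (GL (Fin n) F)) := hle hg
      have h1 : g * x⁻¹ * g⁻¹ ∈ R := (Subgroup.mem_normalizer_iff.mp hgN x⁻¹).1 (R.inv_mem hx)
      have h2 : x * g * x⁻¹ * g⁻¹ = x * (g * x⁻¹ * g⁻¹) := by group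
      rw [h2]
      exact R.mul_mem hx h1
    · exact (SUg n F q).mul_mem (uxpr6_conj_mem q x g (hsim hx) hg) ((SUg n F q).inv_mem hg)
  rcases hnsg (R ⊓ SUg n F q) inf_le_right hnorm with hcent | hprod
  · -- `N` is centralised by `SU` : three subgroups lemma
    have h1 : ⁅⁅R, SUg n F q⁆, SUg n F q⁆ = ⊥ := by
      rw [Subgroup.commutator_eq_bot_iff_le_centralizer]
      intro y hy
      rw [Subgroup.mem_centralizer_iff]
      intro g hg
      exact hcent y (hcomm hy) g hg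
    have h2 : ⁅⁅SUg n F q, R⁆, SUg n F q⁆ = ⊥ := by
      rw [Subgroup.commutator_comm (SUg n F q) R]
      exact h1
    have h3 : ⁅⁅SUg n F q, SUg n F q⁆, R⁆ = ⊥ := Subgroup.commutator_commutator_eq_bot_of_rotate h2 h1
    rw [hperf, Subgroup.commutator_eq_bot_iff_le_centralizer] at h3
    apply hnsc
    intro g hg
    have hgc := h3 hg
    rw [Subgroup.mem_centralizer_iff] at hgc
    obtain ⟨c, hc⟩ := hA.2 (g : Matrix (Fin n) (Fin n) F) (by
      rintro s ⟨y, hy, rfl⟩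
      have := hgc y hy
      have h4 := congrArg (fun z : GL (Fin n) F => (z : Matrix (Fin n) (Fin n) F)) this
      simp only [Units.val_mul] at h4
      exact h4.symm)
    exact uxpr6_mem_scalars (by omega) g c hc
  · -- `SU = N Z(SU)` : `SU = ⁅SU, SU⁆ ≤ R` is a perfect `r`-group
    have hder : ⁅SUg n F q, SUg n F q⁆ ≤ R ⊓ SUg n F q := by
      rw [Subgroup.commutator_le]
      intro g₁ hg₁ g₂ hg₂
      obtain ⟨x₁, hx₁, z₁, hz₁S, hz₁, rfl⟩ := hprod g₁ hg₁
      obtain ⟨x₂, hx₂, z₂, hz₂S, hz₂, rfl⟩ := hprod g₂ hg₂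
      have e1 : (x₁ * z₁) * (x₂ * z₂) = (x₁ * x₂) * (z₁ * z₂) := by
        have := hz₁ x₂ hx₂.2
        calc (x₁ * z₁) * (x₂ * z₂) = x₁ * (z₁ * x₂) * z₂ := by group
          _ = x₁ * (x₂ * z₁) * z₂ := by rw [this]
          _ = (x₁ * x₂) * (z₁ * z₂) := by group
      have e2 : (x₂ * z₂) * (x₁ * z₁) = (x₂ * x₁) * (z₁ * z₂) := by
        have h1 := hz₂ x₁ hx₁.2
        have h2 := hz₁ z₂ hz₂S
        calc (x₂ * z₂) * (x₁ * z₁) = x₂ * (z₂ * x₁) * z₁ := by group
          _ = x₂ * (x₁ * z₂) * z₁ := by rw [h1]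
          _ = (x₂ * x₁) * (z₂ * z₁) := by group
          _ = (x₂ * x₁) * (z₁ * z₂) := by rw [h2]
      have e3 : ⁅x₁ * z₁, x₂ * z₂⁆ = ⁅x₁, x₂⁆ := by
        rw [commutatorElement_def, commutatorElement_def]
        calc (x₁ * z₁) * (x₂ * z₂) * (x₁ * z₁)⁻¹ * (x₂ * z₂)⁻¹
            = ((x₁ * z₁) * (x₂ * z₂)) * ((x₂ * z₂) * (x₁ * z₁))⁻¹ := by group
          _ = ((x₁ * x₂) * (z₁ * z₂)) * ((x₂ * x₁) * (z₁ * z₂))⁻¹ := by rw [e1, e2]
          _ = x₁ * x₂ * x₁⁻¹ * x₂⁻¹ := by group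
      rw [e3, commutatorElement_def]
      exact (R ⊓ SUg n F q).mul_mem ((R ⊓ SUg n F q).mul_mem ((R ⊓ SUg n F q).mul_mem hx₁ hx₂)
        ((R ⊓ SUg n F q).inv_mem hx₁)) ((R ⊓ SUg n F q).inv_mem hx₂)
    have hSR : SUg n F q ≤ R := by
      rw [← hperf]
      exact hder.trans inf_le_left
    haveI : Fact r.Prime := ⟨hr⟩
    have hpS : IsPGroup r (SUg n F q) := hp.to_le hSR
    haveI : Finite (SUg n F q) := inferInstance
    haveI : Group.IsNilpotent (SUg n F q) := hpS.isNilpotent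
    haveI : Nontrivial (SUg n F q) := by
      rw [Subgroup.nontrivial_iff_ne_bot]
      intro hbot
      apply hnsc
      rw [hbot]
      exact bot_le
    have hlt := Group.IsSolvable.commutator_lt_top_of_nontrivial (SUg n F q)
    have hmap := Subgroup.map_subtype_commutator (SUg n F q)
    rw [hperf] at hmap
    have htop : (⊤ : Subgroup (SUg n F q)).map (SUg n F q).subtype = SUg n F q := by
      rw [← MonoidHom.range_eq_map, Subgroup.range_subtype]
    have heq : _root_.commutator (SUg n F q) = ⊤ :=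
      Subgroup.map_injective (SUg n F q).subtype_injective (hmap.trans htop.symm)
    exact (ne_of_lt hlt) heq

end Cfsg.Agent.Lib.helper2.UX
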