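import Mathlib
import Cfsg.Prelude.Def_GeometricClasses
import Cfsg.Agent.Lib.Helper27.ASC.Defs
import Cfsg.Agent.Lib.Lead.ASCU.Defs
import Cfsg.Agent.Lib.helper2.UXDefs
import Cfsg.Agent.Lib.Helper20.UXPR6core
import Cfsg.Agent.Lib.Helper20.UXNSG
import Cfsg.Agent.Lib.Helper10.UXPERF
import Cfsg.Agent.Lib.helper8.UXNSC

/-!
# Project UX, piece PR6 (verbatim) : `SU_n(q)` normalises no absolutely irreducible `r`-group of similarities
(`uxpr6_core` fed with PERF of helper10, NSG, NSC of helper8)
-/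

set_option autoImplicit false
set_option linter.unusedVariables false
set_option linter.unusedSectionVars false

namespace Cfsg.Agent.Lib.helper2.UX

open Cfsg Cfsg.Geo Cfsg.Agent.Lib.Helper27.ASC Cfsg.Agent.Lib.Lead.ASCU
open scoped MatrixGroups Matrix

variable {n : ℕ} {F : Type*} [Field F] [Fintype F]

/-- PR6 : `SU_n(q)` does not normalise an absolutely irreducible `r`-group of similarities. -/
theorem upr_sympl (q : ℕ) (hF : Fintype.card F = q ^ 2) (hn : 3 ≤ n) (hex : ¬ (n = 3 ∧ q = 2)) {r : ℕ}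
    (hr : r.Prime) (R : Subgroup (GL (Fin n) F)) (hp : IsPGroup r R)
    (hA : ActsAbsolutelyIrreducibly (matrixSet R)) (hsim : R ≤ similarityGroup (hermForm n F q)) :
    ¬ SUg n F q ≤ subgroupNormalizer R :=
  uxpr6_core q hn hr R hp hA hsim (su_perfect q hF hn hex)
    (fun N hN h => su_normal q hF hn hex N hN h) (su_not_scalar q hF (by omega))

end Cfsg.Agent.Lib.helper2.UX
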