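import Mathlib

set_option autoImplicit false

namespace Cfsg.Agent.Lib.Helper20.UnifPart

open Nat

/-- `(a!)^b * b!` divides `(a*b)!` -/
theorem fact_pow_mul_fact_dvd (a : ℕ) (ha : 1 ≤ a) : ∀ b : ℕ, a.factorial ^ b * b.factorial ∣ (a * b).factorial := by
  intro b
  induction b with
  | zero => simp
  | succ b ih =>
    obtain ⟨m, hm⟩ := ih
    -- (a*b + a)! = choose (a*b+a) a * a! * (a*b)!
    have h1 : (a * b + a).choose a * a.factorial * (a * b).factorial = (a * b + a).factorial := by
      have := Nat.choose_mul_factorial_mul_factorial (n := a * b + a) (k := a) (by omega)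
      rw [Nat.add_sub_cancel] at this
      exact this
    -- choose (a*(b+1)) a * a = a*(b+1) * choose (a*(b+1)-1) (a-1)
    have h2 : (a * b + a).choose a = (b + 1) * (a * b + a - 1).choose (a - 1) := by
      have h3 := Nat.add_one_mul_choose_eq (a * b + a - 1) (a - 1)
      have e1 : (a * b + a - 1) + 1 = a * b + a := by
        have : 1 ≤ a * b + a := by omega
        omega
      have e2 : (a - 1) + 1 = a := by omega
      rw [e1, e2] at h3
      -- (a*b+a) * choose (a*b+a-1) (a-1) = choose (a*b+a) a * a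
      have h4 : a * ((b + 1) * (a * b + a - 1).choose (a - 1)) = a * (a * b + a).choose a := by
        calc a * ((b + 1) * (a * b + a - 1).choose (a - 1))
            = (a * b + a) * (a * b + a - 1).choose (a - 1) := by ring
          _ = (a * b + a).choose a * a := h3
          _ = a * (a * b + a).choose a := by ring
      exact (Nat.eq_of_mul_eq_mul_left (by omega) h4).symm
    refine ⟨(a * b + a - 1).choose (a - 1) * m, ?_⟩
    have e3 : a * (b + 1) = a * b + a := by ring
    rw [e3, ← h1, h2, hm, pow_succ, Nat.factorial_succ]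
    ring

/-- a prime dividing the number of uniform partitions is at most `a*b` -/
theorem prime_le_of_dvd_count (a b r : ℕ) (ha : 1 ≤ a) (hr : r.Prime)
    (hrd : r ∣ (a * b).factorial / (a.factorial ^ b * b.factorial)) : r ≤ a * b := by
  have h1 := fact_pow_mul_fact_dvd a ha b
  have h2 : (a * b).factorial / (a.factorial ^ b * b.factorial) ∣ (a * b).factorial :=
    Nat.div_dvd_of_dvd h1
  exact (Nat.Prime.dvd_factorial hr).mp (hrd.trans h2)

/-- sufficiency of the arithmetic condition -/
theorem arith_suff (a b r j : ℕ) (hr : 2 ≤ r) (ha : 2 ≤ a) (hb : 2 ≤ b) (hra : r ≤ a)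
    (hj : r * j ≤ a * b)
    (hcond : a % r = 0 ∨ (b % r = 0 ∧ a % r = 1) ∨
      (a % r ≠ 0 ∧ b % r ≠ 0 ∧ (b % r) * (a % r) < r ∧
        (b < r ∨ (b % r + r) * (a % r) ≤ (b % r) * a + r))) :
    ∃ t, t * r ≤ b ∧ t * a ≤ j ∧ j ≤ t * a + (b - t * r) * (a / r) := by
  obtain ⟨A, l, hA, hl, hal⟩ : ∃ A l, A = a / r ∧ l = a % r ∧ a = r * A + l :=
    ⟨a / r, a % r, rfl, rfl, (Nat.div_add_mod a r).symm⟩
  obtain ⟨K, k, hK, hk, hbk⟩ : ∃ K k, K = b / r ∧ k = b % r ∧ b = r * K + k :=
    ⟨b / r, b % r, rfl, rfl, (Nat.div_add_mod b r).symm⟩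
  have hlr : l < r := by rw [hl]; exact Nat.mod_lt _ (by omega)
  have hkr : k < r := by rw [hk]; exact Nat.mod_lt _ (by omega)
  rw [← hA]
  rw [← hl, ← hk] at hcond
  -- unified conditions
  have U1 : k * l < r := by
    rcases hcond with h | ⟨h, _⟩ | ⟨_, _, h, _⟩
    · rw [h]; omega
    · rw [h]; omega
    · exact h
  have U2 : K = 0 ∨ l ≤ k * A + 1 := by
    rcases hcond with h | ⟨_, h⟩ | ⟨_, _, _, h | h⟩
    · right; omega
    · right; omega
    · left
      rw [hK]; exact Nat.div_eq_of_lt h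
    · right
      -- (k + r) * l ≤ k * a + r
      rw [hal] at h
      have h' : r * l ≤ r * (k * A + 1) := by nlinarith
      exact Nat.le_of_mul_le_mul_left h' (by omega)
  by_cases hcase : K ≤ j / a
  · refine ⟨K, by rw [hbk]; nlinarith, ?_, ?_⟩
    · calc K * a ≤ (j / a) * a := Nat.mul_le_mul_right _ hcase
        _ ≤ j := Nat.div_mul_le_self j a
    · have e1 : b - K * r = k := by rw [hbk]; rw [Nat.mul_comm r K]; omega
      rw [e1]
      -- r * j ≤ a*b = r * Q + l*k, with l*k < r
      have hQ : a * b = r * (A * r * K + A * k + l * K) + k * l := by rw [hal, hbk]; ring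
      rw [hQ] at hj
      have hj' : r * j < r * (A * r * K + A * k + l * K + 1) := by nlinarith
      have hj'' : j < A * r * K + A * k + l * K + 1 := Nat.lt_of_mul_lt_mul_left hj'
      have e2 : K * a + k * A = A * r * K + A * k + l * K := by rw [hal]; ring
      omega
  · push Not at hcase
    have hK1 : 1 ≤ K := Nat.lt_of_le_of_lt (Nat.zero_le _) hcase
    have hU2 : l ≤ k * A + 1 := by
      rcases U2 with h | h
      · omega
      · exact h
    set t := j / a with ht
    have hapos : 0 < a := by omega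
    have h1 : t * a ≤ j := Nat.div_mul_le_self j a
    have h2 : j < (t + 1) * a := by
      have := Nat.lt_succ_iff.mpr (le_refl (j / a))
      rw [Nat.div_lt_iff_lt_mul hapos] at this
      rw [ht]; exact this
    have h3 : t + 1 ≤ K := hcase
    have h4 : t * r + r ≤ K * r := by nlinarith
    refine ⟨t, by rw [hbk]; nlinarith, h1, ?_⟩
    -- (b - t*r) ≥ k + r
    have h5 : k + r ≤ b - t * r := by
      rw [hbk]; rw [Nat.mul_comm r K]; omega
    have h6 : (k + r) * A ≤ (b - t * r) * A := Nat.mul_le_mul_right _ h5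
    -- a - 1 ≤ (k + r) * A
    have h7 : a ≤ (k + r) * A + 1 := by rw [hal]; nlinarith
    nlinarith

/-- necessity of the arithmetic condition -/
theorem arith_nec (a b r : ℕ) (hr : 2 ≤ r) (ha : 2 ≤ a) (hb : 2 ≤ b) (hrab : r ≤ a * b)
    (h : ∀ j, 1 ≤ j → r * j ≤ a * b →
      ∃ t, t * r ≤ b ∧ t * a ≤ j ∧ j ≤ t * a + (b - t * r) * (a / r)) :
    r ≤ a ∧ (a % r = 0 ∨ (b % r = 0 ∧ a % r = 1) ∨
      (a % r ≠ 0 ∧ b % r ≠ 0 ∧ (b % r) * (a % r) < r ∧
        (b < r ∨ (b % r + r) * (a % r) ≤ (b % r) * a + r))) := by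
  obtain ⟨A, l, hA, hl, hal⟩ : ∃ A l, A = a / r ∧ l = a % r ∧ a = r * A + l :=
    ⟨a / r, a % r, rfl, rfl, (Nat.div_add_mod a r).symm⟩
  obtain ⟨K, k, hK, hk, hbk⟩ : ∃ K k, K = b / r ∧ k = b % r ∧ b = r * K + k :=
    ⟨b / r, b % r, rfl, rfl, (Nat.div_add_mod b r).symm⟩
  have hlr : l < r := by rw [hl]; exact Nat.mod_lt _ (by omega)
  have hkr : k < r := by rw [hk]; exact Nat.mod_lt _ (by omega)
  rw [← hA] at h
  rw [← hl, ← hk]
  -- general bound: for t with t*r ≤ b : t*a + (b - t*r)*A = b*A + t*l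
  have bound : ∀ t, t * r ≤ b → t * a + (b - t * r) * A = b * A + t * l := by
    intro t ht
    obtain ⟨d, hd⟩ : ∃ d, b = t * r + d := ⟨b - t * r, by omega⟩
    have : b - t * r = d := by omega
    rw [this, hd, hal]; ring
  have hra : r ≤ a := by
    by_contra hlt
    push Not at hlt
    have hA0 : A = 0 := by rw [hA]; exact Nat.div_eq_of_lt hlt
    obtain ⟨t, ht1, ht2, ht3⟩ := h 1 le_rfl (by omega)
    have ht0 : t = 0 := by
      by_contra hne
      have : 1 ≤ t := Nat.one_le_iff_ne_zero.mpr hne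
      nlinarith
    rw [ht0, hA0] at ht3
    omega
  have hA1 : 1 ≤ A := by rw [hA]; exact Nat.div_pos hra (by omega)
  have U1 : k * l < r := by
    by_contra hge
    push Not at hge
    have hQ : a * b = r * (A * r * K + A * k + l * K) + k * l := by rw [hal, hbk]; ring
    obtain ⟨t, ht1, ht2, ht3⟩ := h (A * r * K + A * k + l * K + 1) (by omega) (by rw [hQ]; nlinarith)
    rw [bound t ht1] at ht3
    have htK : t ≤ K := by
      by_contra hlt
      push Not at hlt
      have : (K + 1) * r ≤ t * r := Nat.mul_le_mul_right _ hlt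
      rw [hbk] at ht1
      nlinarith
    have : t * l ≤ K * l := Nat.mul_le_mul_right _ htK
    have e : b * A + K * l = A * r * K + A * k + l * K := by rw [hbk]; ring
    omega
  have U2 : K = 0 ∨ l ≤ k * A + 1 := by
    by_contra hcon
    push Not at hcon
    obtain ⟨hK0, hlk⟩ := hcon
    have hK1 : 1 ≤ K := Nat.one_le_iff_ne_zero.mpr hK0
    have hKa : 2 ≤ K * a := by nlinarith
    obtain ⟨t, ht1, ht2, ht3⟩ := h (K * a - 1) (by omega) (by
      have : r * (K * a - 1) ≤ r * (K * a) := Nat.mul_le_mul_left _ (by omega)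
      have e : r * (K * a) ≤ a * b := by rw [hbk]; nlinarith
      omega)
    rw [bound t ht1] at ht3
    have htK : t + 1 ≤ K := by
      by_contra hlt
      push Not at hlt
      have : K ≤ t := by omega
      have : K * a ≤ t * a := Nat.mul_le_mul_right _ this
      omega
    have h5 : t * l + l ≤ K * l := by nlinarith
    have e1 : K * a = K * r * A + K * l := by rw [hal]; ring
    have e2 : b * A = K * r * A + k * A := by rw [hbk]; ring
    omega
  refine ⟨hra, ?_⟩
  by_cases hl0 : l = 0
  · left; exact hl0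
  by_cases hk0 : k = 0
  · right; left
    refine ⟨hk0, ?_⟩
    have hK1 : K ≠ 0 := by
      intro h0
      rw [h0, hk0] at hbk
      omega
    rcases U2 with h' | h'
    · exact absurd h' hK1
    · rw [hk0] at h'; omega
  · right; right
    refine ⟨hl0, hk0, U1, ?_⟩
    rcases U2 with h' | h'
    · left
      rw [hbk, h']; omega
    · right
      rw [hal]
      nlinarith

end Cfsg.Agent.Lib.Helper20.UnifPart
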