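import Mathlib

set_option autoImplicit false

namespace Cfsg.Agent.Lib.Helper20.UnifPart

open Equiv Equiv.Perm

section
variable {α : Type*} [Fintype α] [DecidableEq α]

/-- invariance in iff form -/
def Inv (σ : Perm α) (s : Finset α) : Prop := ∀ y, y ∈ s ↔ σ y ∈ s

/-- the moved part of an invariant set has cardinality divisible by `r` -/
theorem dvd_card_moved (σ : Perm α) (r : ℕ) [hr : Fact r.Prime] (hσ : σ ^ r = 1) (s : Finset α)
    (h : Inv σ s) : r ∣ (s.filter (fun x => σ x ≠ x)).card := by
  set T := s.filter (fun x => σ x ≠ x) with hT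
  have hTinv : ∀ x, x ∈ T ↔ σ x ∈ T := by
    intro x
    simp only [hT, Finset.mem_filter]
    rw [← h x]
    constructor
    · rintro ⟨h1, h2⟩
      exact ⟨h1, fun h3 => h2 (σ.injective h3)⟩
    · rintro ⟨h1, h2⟩
      exact ⟨h1, fun h3 => h2 (congrArg σ h3)⟩
  let τ : Perm {x // x ∈ T} := σ.subtypePerm (fun x => (hTinv x).symm)
  have hτ : τ ^ r ^ 1 = 1 := by
    rw [pow_one]
    ext x
    simp only [τ, Perm.subtypePerm_pow, Perm.subtypePerm_apply, hσ, Perm.coe_one, id_eq]
  have hsupp : τ.supportᶜ = ∅ := by
    rw [Finset.compl_eq_empty_iff]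
    ext x
    simp only [Finset.mem_univ, iff_true, Perm.mem_support, τ]
    intro hx
    have hx' := congrArg Subtype.val hx
    simp only [Perm.subtypePerm_apply] at hx'
    have := x.2
    simp only [hT, Finset.mem_filter] at this
    exact this.2 hx'
  have := card_compl_support_modEq hτ
  rw [hsupp, Finset.card_empty, Fintype.card_coe] at this
  exact (Nat.modEq_zero_iff_dvd.mp this.symm)

theorem support_eq_filter (σ : Perm α) : σ.support = Finset.univ.filter (fun x => σ x ≠ x) := by
  ext x; simp

theorem dvd_card_support (σ : Perm α) (r : ℕ) [hr : Fact r.Prime] (hσ : σ ^ r = 1) :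
    r ∣ σ.support.card := by
  rw [support_eq_filter]
  exact dvd_card_moved σ r hσ Finset.univ (fun y => by simp)

end

/-- a permutation of order dividing `r` which fixes a uniform partition, has a number of cycles
of the form described by some number `t` of block-cycles -/
theorem exists_t_of_fixed {n a b r : ℕ} [hr : Fact r.Prime] (ha : 1 ≤ a) (σ : Perm (Fin n))
    (hσ : σ ^ r = 1)
    (f : Fin n → Fin b) (hfib : ∀ j : Fin b, Nat.card {x : Fin n // f x = j} = a)
    (π : Perm (Fin b)) (hπ : ∀ x, f (σ x) = π (f x)) (j : ℕ) (hj : σ.support.card = r * j) :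
    ∃ t, t * r ≤ b ∧ t * a ≤ j ∧ j ≤ t * a + (b - t * r) * (a / r) := by
  classical
  have hrpos : 0 < r := hr.out.pos
  have hsurj : ∀ β : Fin b, ∃ x, f x = β := by
    intro β
    have h1 : 0 < Nat.card {x : Fin n // f x = β} := by rw [hfib β]; exact ha
    obtain ⟨x⟩ := (Nat.card_pos_iff.mp h1).1
    exact ⟨x.1, x.2⟩
  have hpow : ∀ (i : ℕ) (x : Fin n), f ((σ ^ i) x) = (π ^ i) (f x) := by
    intro i
    induction i with
    | zero => intro x; simp
    | succ i ih =>
      intro x
      rw [pow_succ', pow_succ', Perm.mul_apply, Perm.mul_apply, hπ, ih]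
  have hπr : π ^ r = 1 := by
    ext β
    obtain ⟨x, rfl⟩ := hsurj β
    rw [← hpow, hσ]
    simp
  obtain ⟨t, ht⟩ := dvd_card_support π r hπr
  have hfibc : ∀ β : Fin b, (Finset.univ.filter (fun x => f x = β)).card = a := by
    intro β
    rw [← hfib β, Nat.card_eq_fintype_card, Fintype.card_subtype]
  set m : Fin b → ℕ := fun β =>
    ((Finset.univ.filter (fun x => f x = β)).filter (fun x => σ x ≠ x)).card with hm
  have hsum : σ.support.card = ∑ β, m β := by
    rw [Finset.card_eq_sum_card_fiberwise (f := f) (s := σ.support) (t := Finset.univ)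
      (fun x _ => Finset.mem_univ _)]
    apply Finset.sum_congr rfl
    intro β _
    rw [hm]
    congr 1
    ext x
    simp only [Finset.mem_filter, Perm.mem_support, Finset.mem_univ, true_and]
    tauto
  have hM : ∀ β ∈ π.support, m β = a := by
    intro β hβ
    rw [hm]
    simp only
    rw [Finset.filter_true_of_mem, hfibc]
    intro x hx
    rw [Finset.mem_filter] at hx
    intro hfix
    have := hπ x
    rw [hfix, hx.2] at this
    exact (Perm.mem_support.mp hβ) this.symm
  have hN : ∀ β ∈ π.supportᶜ, m β ≤ r * (a / r) := by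
    intro β hβ
    rw [Finset.mem_compl, Perm.mem_support, not_not] at hβ
    have hinv : Inv σ (Finset.univ.filter (fun x => f x = β)) := by
      intro y
      simp only [Finset.mem_filter, Finset.mem_univ, true_and]
      rw [hπ]
      constructor
      · intro h; rw [h, hβ]
      · intro h
        apply π.injective
        rw [h, hβ]
    obtain ⟨q, hq⟩ := dvd_card_moved σ r hσ _ hinv
    have hle : m β ≤ a := by
      rw [hm]
      simp only
      calc _ ≤ (Finset.univ.filter (fun x => f x = β)).card := Finset.card_filter_le _ _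
        _ = a := hfibc β
    have hmq : m β = r * q := hq
    rw [hmq] at hle ⊢
    apply Nat.mul_le_mul_left
    rw [Nat.le_div_iff_mul_le hrpos]
    rw [Nat.mul_comm]; exact hle
  have hsplit : ∑ β, m β = ∑ β ∈ π.support, m β + ∑ β ∈ π.supportᶜ, m β :=
    (Finset.sum_add_sum_compl π.support m).symm
  have h1 : ∑ β ∈ π.support, m β = π.support.card * a := by
    rw [Finset.sum_congr rfl hM, Finset.sum_const, smul_eq_mul]
  have h2 : ∑ β ∈ π.supportᶜ, m β ≤ π.supportᶜ.card * (r * (a / r)) := by
    have := Finset.sum_le_card_nsmul π.supportᶜ m (r * (a / r)) hN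
    rwa [smul_eq_mul] at this
  have h3 : π.supportᶜ.card = b - r * t := by
    rw [Finset.card_compl, Fintype.card_fin, ht]
  have h4 : r * t ≤ b := by
    rw [← ht]
    calc π.support.card ≤ Fintype.card (Fin b) := Finset.card_le_univ _
      _ = b := Fintype.card_fin b
  rw [hj, hsplit, h1, ht] at hsum
  rw [h3] at h2
  refine ⟨t, by rw [Nat.mul_comm]; exact h4, ?_, ?_⟩
  · have : r * (t * a) ≤ r * j := by
      rw [hsum]
      have e : r * (t * a) = r * t * a := by ring
      omega
    exact Nat.le_of_mul_le_mul_left this hrpos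
  · have e : t * r = r * t := Nat.mul_comm _ _
    rw [e]
    have : r * j ≤ r * (t * a + (b - r * t) * (a / r)) := by
      rw [hsum]
      have : (b - r * t) * (r * (a / r)) = r * ((b - r * t) * (a / r)) := by ring
      rw [this] at h2
      have e : r * (t * a + (b - r * t) * (a / r)) = r * t * a + r * ((b - r * t) * (a / r)) := by
        ring
      omega
    exact Nat.le_of_mul_le_mul_left this hrpos

end Cfsg.Agent.Lib.Helper20.UnifPart
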