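import Mathlib
import Cfsg.Agent.Lib.Helper20.UnifPartNec

set_option autoImplicit false

namespace Cfsg.Agent.Lib.Helper20.UnifPart

open Equiv Equiv.Perm

/-- a model: a permutation of order dividing `r` with `j` cycles of length `r`, preserving
a partition into `b` blocks of size `a` -/
def Model (a r j b : ℕ) : Prop :=
  ∃ (X B : Type) (_ : Fintype X) (_ : Fintype B) (σ : Perm X) (f : X → B) (π : Perm B),
    Nat.card B = b ∧ (∀ β, Nat.card {x // f x = β} = a) ∧ (∀ x, f (σ x) = π (f x)) ∧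
    σ ^ r = 1 ∧ Nat.card {x // σ x ≠ x} = r * j

theorem Model.glue {a r j1 b1 j2 b2 : ℕ} (h1 : Model a r j1 b1) (h2 : Model a r j2 b2) :
    Model a r (j1 + j2) (b1 + b2) := by
  obtain ⟨X1, B1, _, _, σ1, f1, π1, hB1, hf1, hπ1, hσ1, hm1⟩ := h1
  obtain ⟨X2, B2, _, _, σ2, f2, π2, hB2, hf2, hπ2, hσ2, hm2⟩ := h2
  refine ⟨X1 ⊕ X2, B1 ⊕ B2, inferInstance, inferInstance, Perm.sumCongr σ1 σ2, Sum.map f1 f2,
    Perm.sumCongr π1 π2, ?_, ?_, ?_, ?_, ?_⟩
  · rw [Nat.card_sum, hB1, hB2]
  · rintro (β | β)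
    · rw [Nat.card_congr Equiv.subtypeSum, Nat.card_sum]
      have e1 : Nat.card {x1 : X1 // Sum.map f1 f2 (Sum.inl x1) = Sum.inl β} = a := by
        rw [← hf1 β]
        exact Nat.card_congr (Equiv.subtypeEquivRight (fun x => by simp))
      have e2 : Nat.card {x2 : X2 // Sum.map f1 f2 (Sum.inr x2) = Sum.inl β} = 0 := by
        have : IsEmpty {x2 : X2 // Sum.map f1 f2 (Sum.inr x2) = Sum.inl β} :=
          ⟨fun x => by simpa using x.2⟩
        exact Nat.card_of_isEmpty
      rw [e1, e2, Nat.add_zero]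
    · rw [Nat.card_congr Equiv.subtypeSum, Nat.card_sum]
      have e1 : Nat.card {x1 : X1 // Sum.map f1 f2 (Sum.inl x1) = Sum.inr β} = 0 := by
        have : IsEmpty {x1 : X1 // Sum.map f1 f2 (Sum.inl x1) = Sum.inr β} :=
          ⟨fun x => by simpa using x.2⟩
        exact Nat.card_of_isEmpty
      have e2 : Nat.card {x2 : X2 // Sum.map f1 f2 (Sum.inr x2) = Sum.inr β} = a := by
        rw [← hf2 β]
        exact Nat.card_congr (Equiv.subtypeEquivRight (fun x => by simp))
      rw [e1, e2, Nat.zero_add]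
  · rintro (x | x)
    · simp [hπ1]
    · simp [hπ2]
  · have : Perm.sumCongr σ1 σ2 = Perm.sumCongrHom X1 X2 (σ1, σ2) := rfl
    rw [this, ← map_pow, Prod.pow_mk, hσ1, hσ2]
    exact map_one _
  · rw [Nat.card_congr Equiv.subtypeSum, Nat.card_sum]
    have e1 : Nat.card {x1 : X1 // (Perm.sumCongr σ1 σ2) (Sum.inl x1) ≠ Sum.inl x1} = r * j1 := by
      rw [← hm1]
      exact Nat.card_congr (Equiv.subtypeEquivRight (fun x => by simp))
    have e2 : Nat.card {x2 : X2 // (Perm.sumCongr σ1 σ2) (Sum.inr x2) ≠ Sum.inr x2} = r * j2 := by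
      rw [← hm2]
      exact Nat.card_congr (Equiv.subtypeEquivRight (fun x => by simp))
    rw [e1, e2]; ring

theorem Model.empty (a r : ℕ) : Model a r 0 0 := by
  refine ⟨Empty, Empty, inferInstance, inferInstance, 1, id, 1, ?_, ?_, ?_, ?_, ?_⟩
  · exact Nat.card_of_isEmpty
  · intro β; exact β.elim
  · intro x; exact x.elim
  · exact one_pow _
  · rw [Nat.mul_zero]
    have : IsEmpty {x : Empty // (1 : Perm Empty) x ≠ x} := ⟨fun x => x.1.elim⟩
    exact Nat.card_of_isEmpty

theorem card_moved_eq_support {α : Type*} [Fintype α] [DecidableEq α] (σ : Perm α) :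
    Nat.card {x // σ x ≠ x} = σ.support.card := by
  rw [Nat.card_eq_fintype_card, Fintype.card_subtype, support_eq_filter]

/-- a single block with `c` cycles -/
theorem Model.single {a r c : ℕ} (hr : r.Prime) (hc : r * c ≤ a) : Model a r c 1 := by
  obtain ⟨σ, hct⟩ := (Equiv.Perm.exists_with_cycleType_iff (Fin a)
    (m := Multiset.replicate c r)).mpr
    ⟨by rw [Multiset.sum_replicate, smul_eq_mul, Fintype.card_fin, Nat.mul_comm]; exact hc,
     fun x hx => by rw [Multiset.eq_of_mem_replicate hx]; exact hr.two_le⟩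
  refine ⟨Fin a, Unit, inferInstance, inferInstance, σ, fun _ => (), 1, ?_, ?_, ?_, ?_, ?_⟩
  · exact Nat.card_unique
  · intro β
    rw [Nat.card_congr (Equiv.subtypeUnivEquiv (fun x => Subsingleton.elim _ _))]
    simp
  · intro x; rfl
  · apply orderOf_dvd_iff_pow_eq_one.mp
    rw [← Perm.lcm_cycleType, hct]
    apply Multiset.lcm_dvd.mpr
    intro x hx
    rw [Multiset.eq_of_mem_replicate hx]
  · rw [card_moved_eq_support, ← Perm.sum_cycleType, hct, Multiset.sum_replicate, smul_eq_mul,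
      Nat.mul_comm]

/-- `r` blocks permuted cyclically -/
theorem Model.cyc {a r : ℕ} (hr : r.Prime) : Model a r a r := by
  have : Fact r.Prime := ⟨hr⟩
  have : NeZero r := ⟨hr.ne_zero⟩
  have : Fact (1 < r) := ⟨hr.one_lt⟩
  let σ : Perm (Fin a × ZMod r) := Equiv.prodCongr (Equiv.refl _) (Equiv.addRight (1 : ZMod r))
  have hσ : ∀ x, σ x = (x.1, x.2 + 1) := fun x => rfl
  refine ⟨Fin a × ZMod r, ZMod r, inferInstance, inferInstance, σ, Prod.snd,
    Equiv.addRight (1 : ZMod r), ?_, ?_, ?_, ?_, ?_⟩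
  · exact Nat.card_zmod r
  · intro β
    have e : {x : Fin a × ZMod r // x.2 = β} ≃ Fin a :=
      { toFun := fun x => x.1.1
        invFun := fun y => ⟨(y, β), rfl⟩
        left_inv := by rintro ⟨⟨y, z⟩, rfl⟩; rfl
        right_inv := fun y => rfl }
    rw [Nat.card_congr e]; simp
  · intro x; rfl
  · have hpow : ∀ (n : ℕ) (x : Fin a × ZMod r), (σ ^ n) x = (x.1, x.2 + n) := by
      intro n
      induction n with
      | zero => intro x; simp
      | succ n ih =>
        intro x
        rw [pow_succ', Perm.mul_apply, ih, hσ]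
        simp [add_assoc]
    ext x : 1
    rw [hpow]
    simp
  · have hall : ∀ x, σ x ≠ x := by
      intro x hx
      rw [hσ] at hx
      have h2 : x.2 + 1 = x.2 := congrArg Prod.snd hx
      have : (1 : ZMod r) = 0 := by
        have := add_left_cancel (a := x.2) (b := (1 : ZMod r)) (c := 0) (by rw [h2, add_zero])
        exact this
      exact one_ne_zero this
    rw [Nat.card_congr (Equiv.subtypeUnivEquiv hall), Nat.card_prod, Nat.card_zmod]
    simp [Nat.mul_comm]

theorem Model.cycs {a r : ℕ} (hr : r.Prime) (t : ℕ) : Model a r (t * a) (t * r) := by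
  induction t with
  | zero => rw [Nat.zero_mul, Nat.zero_mul]; exact Model.empty a r
  | succ t ih =>
    rw [Nat.succ_mul, Nat.succ_mul]
    exact ih.glue (Model.cyc hr)

theorem Model.fixeds {a r : ℕ} (hr : r.Prime) (b' : ℕ) :
    ∀ j', j' ≤ b' * (a / r) → Model a r j' b' := by
  induction b' with
  | zero =>
    intro j' hj
    have : j' = 0 := by omega
    rw [this]; exact Model.empty a r
  | succ b' ih =>
    intro j' hj
    rw [Nat.succ_mul] at hj
    have hc1 : min j' (a / r) ≤ a / r := min_le_right _ _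
    have hc2 : min j' (a / r) ≤ j' := min_le_left _ _
    have h1 : j' - min j' (a / r) ≤ b' * (a / r) := by
      rcases le_total j' (a / r) with h | h
      · rw [min_eq_left h]; omega
      · rw [min_eq_right h]; omega
    have h2 : r * min j' (a / r) ≤ a :=
      le_trans (Nat.mul_le_mul_left _ hc1) (Nat.mul_div_le a r)
    have := (ih _ h1).glue (Model.single hr h2)
    rwa [Nat.sub_add_cancel hc2] at this

/-- transport of a model to `Fin (a * b)` -/
theorem Model.toFin {a r j b : ℕ} (h : Model a r j b) :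
    ∃ (σ : Perm (Fin (a * b))) (f : Fin (a * b) → Fin b) (π : Perm (Fin b)),
      (∀ β, Nat.card {x // f x = β} = a) ∧ (∀ x, f (σ x) = π (f x)) ∧ σ ^ r = 1 ∧
      σ.support.card = r * j := by
  obtain ⟨X, B, _, _, σ, f, π, hB, hf, hπ, hσ, hm⟩ := h
  have hX : Nat.card X = a * b := by
    rw [Nat.card_congr (Equiv.sigmaFiberEquiv f).symm, Nat.card_sigma]
    simp only [hf, Finset.sum_const, Finset.card_univ, smul_eq_mul]
    rw [← Nat.card_eq_fintype_card, hB, Nat.mul_comm]
  let e : X ≃ Fin (a * b) := Finite.equivFinOfCardEq hX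
  let eB : B ≃ Fin b := Finite.equivFinOfCardEq hB
  refine ⟨e.permCongr σ, fun y => eB (f (e.symm y)), eB.permCongr π, ?_, ?_, ?_, ?_⟩
  · intro β
    refine (Nat.card_congr ?_).trans (hf (eB.symm β))
    exact e.symm.subtypeEquiv (fun y => Equiv.apply_eq_iff_eq_symm_apply eB)
  · intro y
    simp [Equiv.permCongr_apply, hπ]
  · rw [← Equiv.permCongrHom_coe, ← map_pow, hσ, map_one]
  · rw [← card_moved_eq_support, ← hm]
    apply Nat.card_congr
    refine e.symm.subtypeEquiv (fun y => ?_)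
    simp only [Equiv.permCongr_apply, ne_eq]
    rw [Equiv.apply_eq_iff_eq_symm_apply]

theorem cycleType_of_prime_order {n r : ℕ} (hr : r.Prime) (σ : Perm (Fin n)) (hσ : orderOf σ = r) :
    σ.cycleType = Multiset.replicate (σ.support.card / r) r := by
  obtain ⟨k, hk⟩ := Perm.cycleType_prime_order (σ := σ) (by rw [hσ]; exact hr)
  rw [hσ] at hk
  have h1 : σ.support.card = (k + 1) * r := by
    rw [← Perm.sum_cycleType, hk, Multiset.sum_replicate, smul_eq_mul]
  rw [hk, h1, Nat.mul_div_cancel _ hr.pos]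

/-- from a model to an invariant partition for any permutation with the right cycle type -/
theorem exists_partition_of_model {a b r j : ℕ} (hr : r.Prime) (hj : 1 ≤ j) (h : Model a r j b)
    (σ : Perm (Fin (a * b))) (hσ : orderOf σ = r) (hs : σ.support.card = r * j) :
    ∃ f : Fin (a * b) → Fin b, (∀ β : Fin b, Nat.card {x : Fin (a * b) // f x = β} = a) ∧
      ∃ π : Perm (Fin b), ∀ x : Fin (a * b), f (σ x) = π (f x) := by
  obtain ⟨σ0, f0, π0, hf0, hπ0, hσ0, hs0⟩ := h.toFin
  have hne : σ0 ≠ 1 := by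
    intro h1
    rw [h1, Perm.support_one, Finset.card_empty] at hs0
    have : 0 < r * j := Nat.mul_pos hr.pos hj
    omega
  haveI : Fact r.Prime := ⟨hr⟩
  have ho : orderOf σ0 = r := orderOf_eq_prime hσ0 hne
  have hct : σ0.cycleType = σ.cycleType := by
    rw [cycleType_of_prime_order hr σ0 ho, cycleType_of_prime_order hr σ hσ, hs0, hs]
  obtain ⟨c, hc⟩ := isConj_iff.mp (Perm.isConj_iff_cycleType_eq.mpr hct)
  refine ⟨fun x => f0 (c⁻¹ x), ?_, π0, ?_⟩
  · intro β
    refine (Nat.card_congr ?_).trans (hf0 β)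
    exact (c⁻¹ : Perm _).subtypeEquiv (fun y => Iff.rfl)
  · intro x
    rw [← hc]
    have : c⁻¹ ((c * σ0 * c⁻¹) x) = σ0 (c⁻¹ x) := by simp [Perm.mul_apply]
    show f0 (c⁻¹ ((c * σ0 * c⁻¹) x)) = π0 (f0 (c⁻¹ x))
    rw [this]
    exact hπ0 _

end Cfsg.Agent.Lib.Helper20.UnifPart
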