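import Mathlib

set_option autoImplicit false

namespace Cfsg.Agent.Lib.Helper20.UniqSyl

open Subgroup

variable {G : Type*} [Group G]

/-- In a finite `p`-group, a proper subgroup `D` of `P` (both subgroups of `G`, `D ≤ P`) is
properly contained in its normalizer inside `P`: there is `n ∈ P`, `n ∉ D`, normalizing `D`. -/
theorem exists_normalizing_not_mem [Finite G] {p : ℕ} [Fact p.Prime] {P D : Subgroup G}
    (hP : IsPGroup p P) (hDP : D ≤ P) (hne : D ≠ P) :
    ∃ n ∈ P, n ∉ D ∧ n ∈ normalizer (D : Set G) := by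
  classical
  have : Group.IsNilpotent P := hP.isNilpotent
  have hNC : NormalizerCondition P := Group.normalizerCondition_of_isNilpotent
  have hlt : D.subgroupOf P < ⊤ := by
    rw [lt_top_iff_ne_top]
    intro h
    apply hne
    apply le_antisymm hDP
    intro y hy
    have : (⟨y, hy⟩ : P) ∈ D.subgroupOf P := by rw [h]; trivial
    exact this
  have h2 := hNC _ hlt
  obtain ⟨n, hn1, hn2⟩ := SetLike.exists_of_lt h2
  refine ⟨n.1, n.2, ?_, ?_⟩
  · intro h; exact hn2 h
  · rw [mem_normalizer_iff] at hn1 ⊢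
    intro h
    constructor
    · intro hh
      have hhP : h ∈ P := hDP hh
      have := (hn1 ⟨h, hhP⟩).1 hh
      exact this
    · intro hh
      have hhP : h ∈ P := by
        have h1 : n.1 * h * n.1⁻¹ ∈ P := hDP hh
        have h2 : n.1⁻¹ * (n.1 * h * n.1⁻¹) * n.1 ∈ P :=
          P.mul_mem (P.mul_mem (P.inv_mem n.2) h1) n.2
        have : n.1⁻¹ * (n.1 * h * n.1⁻¹) * n.1 = h := by group
        rwa [this] at h2
      have := (hn1 ⟨h, hhP⟩).2 hh
      exact this

/-- If the normalizer of every `p`-subgroup containing `x` is a `p`-group, then `x` lies in at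
most one Sylow `p`-subgroup. -/
theorem sylow_eq_of_normalizers [Finite G] {p : ℕ} [Fact p.Prime] (x : G)
    (h : ∀ D : Subgroup G, IsPGroup p D → x ∈ D → IsPGroup p (normalizer (D : Set G))) :
    ∀ (m : ℕ) (P P' : Sylow p G), x ∈ P → x ∈ P' →
      Nat.card P - Nat.card ((P : Subgroup G) ⊓ P' : Subgroup G) = m → P = P' := by
  intro m
  induction m using Nat.strong_induction_on with
  | _ m ih =>
    intro P P' hxP hxP' hm
    by_contra hPP
    set D : Subgroup G := (P : Subgroup G) ⊓ P' with hD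
    have hDP : D ≤ P := inf_le_left
    have hDP' : D ≤ P' := inf_le_right
    have hcard : Nat.card P = Nat.card P' := by
      have := Sylow.card_eq_multiplicity P
      have := Sylow.card_eq_multiplicity P'
      omega
    have hne : D ≠ P := by
      intro h1
      apply hPP
      have hle : (P : Subgroup G) ≤ P' := by rw [← h1]; exact hDP'
      exact (Sylow.ext (P.is_maximal' P'.2 hle)).symm
    have hne' : D ≠ P' := by
      intro h1
      apply hPP
      have hle : (P' : Subgroup G) ≤ P := by rw [← h1]; exact hDP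
      exact Sylow.ext (P'.is_maximal' P.2 hle)
    have hDp : IsPGroup p D := P.2.to_le hDP
    have hxD : x ∈ D := ⟨hxP, hxP'⟩
    have hN := h D hDp hxD
    obtain ⟨Q, hQ⟩ := hN.exists_le_sylow
    have hDQ : D ≤ Q := le_trans le_normalizer hQ
    obtain ⟨n, hnP, hnD, hnN⟩ := exists_normalizing_not_mem P.2 hDP hne
    obtain ⟨n', hnP', hnD', hnN'⟩ := exists_normalizing_not_mem P'.2 hDP' hne'
    have hfin : ∀ K : Subgroup G, Finite K := fun K => inferInstance
    -- P ⊓ Q strictly bigger than D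
    have hlt1 : Nat.card D < Nat.card ((P : Subgroup G) ⊓ Q : Subgroup G) := by
      apply Set.ncard_lt_ncard (s := (D : Set G)) (t := (((P : Subgroup G) ⊓ Q : Subgroup G) : Set G))
      · constructor
        · intro y hy; exact ⟨hDP hy, hDQ hy⟩
        · intro hsub
          exact hnD (hsub ⟨hnP, hQ hnN⟩)
    have hlt2 : Nat.card D < Nat.card ((P' : Subgroup G) ⊓ Q : Subgroup G) := by
      apply Set.ncard_lt_ncard (s := (D : Set G)) (t := (((P' : Subgroup G) ⊓ Q : Subgroup G) : Set G))
      · constructor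
        · intro y hy; exact ⟨hDP' hy, hDQ hy⟩
        · intro hsub
          exact hnD' (hsub ⟨hnP', hQ hnN'⟩)
    have hle1 : Nat.card ((P : Subgroup G) ⊓ Q : Subgroup G) ≤ Nat.card P :=
      Subgroup.card_le_of_le inf_le_left
    have hle2 : Nat.card ((P' : Subgroup G) ⊓ Q : Subgroup G) ≤ Nat.card P' :=
      Subgroup.card_le_of_le inf_le_left
    have hxQ : x ∈ Q := hDQ hxD
    have e1 : P = Q := by
      apply ih (Nat.card P - Nat.card ((P : Subgroup G) ⊓ Q : Subgroup G)) _ P Q hxP hxQ rfl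
      rw [← hm]; omega
    have hinf : ((P' : Subgroup G) ⊓ P : Subgroup G) = D := by rw [hD, inf_comm]
    have e2 : P' = Q := by
      apply ih (Nat.card P' - Nat.card ((P' : Subgroup G) ⊓ Q : Subgroup G)) _ P' Q hxP' hxQ rfl
      rw [← hm]; omega
    exact hPP (e1.trans e2.symm)

theorem sylow_unique_of_normalizers [Finite G] {p : ℕ} [Fact p.Prime] (x : G)
    (h : ∀ D : Subgroup G, IsPGroup p D → x ∈ D → IsPGroup p (normalizer (D : Set G)))
    (P P' : Sylow p G) (hP : x ∈ P) (hP' : x ∈ P') : P = P' :=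
  sylow_eq_of_normalizers x h _ P P' hP hP' rfl

/-- A subgroup all of whose odd-order elements are trivial is a 2-group. -/
theorem isPGroup_two_of_odd_trivial [Finite G] (H : Subgroup G)
    (h : ∀ g ∈ H, Odd (orderOf g) → g = 1) : IsPGroup 2 H := by
  intro y
  obtain ⟨k, m, hm, hkm⟩ := Nat.exists_eq_two_pow_mul_odd (n := orderOf (y : G))
    (orderOf_pos (y : G)).ne'
  refine ⟨k, ?_⟩
  have h1 : ((y : G) ^ 2 ^ k) ^ m = 1 := by
    rw [← pow_mul, ← hkm, pow_orderOf_eq_one]
  have h2 : orderOf ((y : G) ^ 2 ^ k) ∣ m := orderOf_dvd_of_pow_eq_one h1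
  have h3 : Odd (orderOf ((y : G) ^ 2 ^ k)) := Odd.of_dvd_nat hm h2
  have h4 := h _ (H.pow_mem y.2 _) h3
  apply Subtype.ext
  simpa using h4

/-- An odd-order element fixing `g² y = y` fixes `y` (for permutations / any action by powers). -/
theorem apply_eq_of_sq_apply_eq {α : Type*} (g : Equiv.Perm α) (hg : Odd (orderOf g)) (y : α)
    (h : g (g y) = y) : g y = y := by
  obtain ⟨j, hj⟩ := hg
  have h1 : ∀ i : ℕ, ((g ^ 2) ^ i) y = y := by
    intro i
    induction i with
    | zero => simp
    | succ i ih =>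
      rw [pow_succ, Equiv.Perm.mul_apply]
      have : (g ^ 2) y = y := by simpa [pow_two, Equiv.Perm.mul_apply] using h
      rw [this, ih]
  have h2 : (g ^ (2 * j + 1)) y = y := by
    rw [← hj, pow_orderOf_eq_one]; rfl
  rw [pow_succ, Equiv.Perm.mul_apply, pow_mul] at h2
  have h3 := h1 j
  -- h2 : ((g^2)^j) (g y) = y
  have h4 : ((g ^ 2) ^ j) (g y) = g (((g ^ 2) ^ j) y) := by
    have : (g ^ 2) ^ j * g = g * (g ^ 2) ^ j := by
      rw [← pow_mul, ← pow_succ, ← pow_succ']
    calc ((g ^ 2) ^ j) (g y) = ((g ^ 2) ^ j * g) y := rfl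
      _ = (g * (g ^ 2) ^ j) y := by rw [this]
      _ = g (((g ^ 2) ^ j) y) := rfl
  rw [h4, h3] at h2
  exact h2

end Cfsg.Agent.Lib.Helper20.UniqSyl
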