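import Mathlib

set_option autoImplicit false
set_option linter.unusedSectionVars false

namespace Cfsg.Agent.Lib.Helper20.UniqSyl

open Subgroup Equiv Equiv.Perm

variable {α : Type*} [Fintype α] [DecidableEq α]

/-- Setwise stabiliser of a finset in the symmetric group. -/
def setStab (T : Finset α) : Subgroup (Perm α) where
  carrier := {d | ∀ u, d u ∈ T ↔ u ∈ T}
  mul_mem' := by
    intro a b ha hb u
    rw [Perm.mul_apply, ha, hb]
  one_mem' := fun u => Iff.rfl
  inv_mem' := by
    intro a ha u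
    have := ha (a⁻¹ u)
    simp only [Perm.coe_inv, Equiv.apply_symm_apply] at this
    exact this.symm

theorem mem_setStab {T : Finset α} {d : Perm α} : d ∈ setStab T ↔ ∀ u, d u ∈ T ↔ u ∈ T := Iff.rfl

theorem mem_setStab_of_maps {T : Finset α} {g : Perm α} (h : ∀ u ∈ T, g u ∈ T) :
    g ∈ setStab T := by
  have himg : T.image g = T := by
    apply Finset.eq_of_subset_of_card_le
    · intro v hv
      obtain ⟨u, hu, rfl⟩ := Finset.mem_image.mp hv
      exact h u hu
    · rw [Finset.card_image_of_injective _ g.injective]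
  intro u
  constructor
  · intro hu
    rw [← himg] at hu
    obtain ⟨v, hv, hvu⟩ := Finset.mem_image.mp hu
    rw [← g.injective hvu]; exact hv
  · exact h u

theorem setStab_sdiff {s T : Finset α} {d : Perm α} (hs : d ∈ setStab s) (hT : d ∈ setStab T) :
    d ∈ setStab (s \ T) := by
  intro u
  rw [Finset.mem_sdiff, Finset.mem_sdiff, hs u, hT u]

theorem pow_apply_mem {T : Finset α} {d : Perm α} (hd : d ∈ setStab T) {u : α} (hu : u ∈ T)
    (j : ℕ) : (d ^ j) u ∈ T :=
  ((setStab T).pow_mem hd j u).mpr hu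

/-- Cycle length of `y` under `x` (0 for fixed points). -/
def L (x : Perm α) (y : α) : ℕ := (x.cycleOf y).support.card

theorem L_eq_zero_iff (x : Perm α) (y : α) : L x y = 0 ↔ x y = y := by
  unfold L
  rw [Finset.card_eq_zero, Perm.support_eq_empty_iff, Perm.cycleOf_eq_one_iff]

theorem two_le_L {x : Perm α} {y : α} (h : x y ≠ y) : 2 ≤ L x y :=
  (Perm.isCycle_cycleOf x h).two_le_card_support

theorem L_eq_of_sameCycle {x : Perm α} {y z : α} (h : x.SameCycle y z) : L x y = L x z := by
  unfold L; rw [h.cycleOf_eq]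

theorem L_eq_two_pow {x : Perm α} {k : ℕ} (hx : x ^ 2 ^ k = 1) {y : α} (h : x y ≠ y) :
    ∃ i, 1 ≤ i ∧ L x y = 2 ^ i := by
  have h1 : orderOf (x.cycleOf y) = L x y := (Perm.isCycle_cycleOf x h).orderOf
  have h2 : orderOf (x.cycleOf y) ∣ 2 ^ k :=
    (Perm.orderOf_cycleOf_dvd_orderOf x y).trans (orderOf_dvd_of_pow_eq_one hx)
  rw [h1] at h2
  obtain ⟨i, _, hi⟩ := (Nat.dvd_prime_pow Nat.prime_two).mp h2
  refine ⟨i, ?_, hi⟩
  have := two_le_L h
  rw [hi] at this
  by_contra hcon
  have : i = 0 := by omega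
  subst this
  simp at this

theorem mem_cycle_iff {x : Perm α} {y z : α} :
    z ∈ (x.cycleOf y).support ↔ x.SameCycle y z ∧ x y ≠ y := by
  rw [Perm.mem_support_cycleOf_iff, Perm.mem_support]

/-- The cycle of `y ∈ s` is contained in `s` if `x` stabilises `s`. -/
theorem cycle_subset {x : Perm α} {s : Finset α} (hxs : x ∈ setStab s) {y : α} (hy : y ∈ s) :
    (x.cycleOf y).support ⊆ s := by
  intro z hz
  rw [mem_cycle_iff] at hz
  obtain ⟨i, _, hi⟩ := hz.1.exists_pow_eq'
  rw [← hi]
  exact pow_apply_mem hxs hy i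

/-- The condition on `x` relative to an invariant set `s`: at most two fixed points in `s`,
and nontrivial cycles inside `s` have pairwise different lengths. -/
def Cond (x : Perm α) (s : Finset α) : Prop :=
  (s.filter (fun y => x y = y)).card ≤ 2 ∧
  ∀ y ∈ s, ∀ z ∈ s, x y ≠ y → L x y = L x z → x.SameCycle y z

theorem Cond.mono {x : Perm α} {s t : Finset α} (h : Cond x s) (hts : t ⊆ s) : Cond x t := by
  refine ⟨le_trans (Finset.card_le_card ?_) h.1, ?_⟩
  · exact Finset.filter_subset_filter _ hts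
  · intro y hy z hz
    exact h.2 y (hts hy) z (hts hz)

/-- If `⟨x⟩` is transitive on `t`, then `Cond x t`. -/
theorem Cond.of_transitive {x : Perm α} {t : Finset α}
    (h : ∀ u ∈ t, ∀ v ∈ t, x.SameCycle u v) : Cond x t := by
  refine ⟨?_, fun y hy z hz _ _ => h y hy z hz⟩
  apply le_trans _ (by norm_num : 1 ≤ 2)
  rw [Finset.card_le_one]
  intro a ha b hb
  rw [Finset.mem_filter] at ha hb
  have h1 := h a ha.1 b hb.1
  obtain ⟨i, hi⟩ := h1
  rw [← hi]
  exact (Perm.zpow_apply_eq_self_of_apply_eq_self ha.2 i).symm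

theorem sum_two_pow (a : ℕ) : (∑ i ∈ Finset.range a, 2 ^ (i + 1)) + 2 = 2 ^ (a + 1) := by
  induction a with
  | zero => simp
  | succ a ih =>
    rw [Finset.sum_range_succ, pow_succ 2 (a + 1)]
    omega

/-- Counting lemma: if `y0 ∈ s` is non-fixed with maximal cycle length then
`|s| + 2 ≤ 2 L(y0) + #fix(s)`. -/
theorem card_add_two_le {x : Perm α} {k : ℕ} (hx : x ^ 2 ^ k = 1) {s : Finset α}
    (hC : Cond x s) {y0 : α} (hy0 : y0 ∈ s) (hne : x y0 ≠ y0)
    (hmax : ∀ y ∈ s, L x y ≤ L x y0) :
    s.card + 2 ≤ 2 * L x y0 + (s.filter (fun y => x y = y)).card := by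
  classical
  obtain ⟨a, ha1, ha⟩ := L_eq_two_pow hx hne
  have hmaps : Set.MapsTo (fun y => Nat.log 2 (L x y)) (s : Set α)
      (Finset.range (a + 1) : Finset ℕ) := by
    intro y hy
    have h1 : L x y ≤ 2 ^ a := ha ▸ hmax y hy
    have h2 : Nat.log 2 (L x y) ≤ Nat.log 2 (2 ^ a) := Nat.log_mono_right h1
    rw [Nat.log_pow (by norm_num)] at h2
    simp only [Finset.coe_range, Set.mem_Iio]
    omega
  rw [Finset.card_eq_sum_card_fiberwise hmaps, Finset.sum_range_succ']
  have hzero : (s.filter (fun y => Nat.log 2 (L x y) = 0)).card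
      = (s.filter (fun y => x y = y)).card := by
    congr 1
    apply Finset.filter_congr
    intro y _
    constructor
    · intro h
      by_contra hyne
      obtain ⟨i, hi1, hi⟩ := L_eq_two_pow hx hyne
      rw [hi, Nat.log_pow (by norm_num)] at h
      omega
    · intro h
      rw [(L_eq_zero_iff x y).mpr h]
      simp
  have hfib : ∀ i ∈ Finset.range a,
      (s.filter (fun y => Nat.log 2 (L x y) = i + 1)).card ≤ 2 ^ (i + 1) := by
    intro i _
    by_cases hemp : (s.filter (fun y => Nat.log 2 (L x y) = i + 1)) = ∅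
    · rw [hemp]; simp
    · obtain ⟨y1, hy1⟩ := Finset.nonempty_iff_ne_empty.mpr hemp
      rw [Finset.mem_filter] at hy1
      have hy1ne : x y1 ≠ y1 := by
        intro h
        rw [(L_eq_zero_iff x y1).mpr h] at hy1
        simp at hy1
      obtain ⟨j, _, hj⟩ := L_eq_two_pow hx hy1ne
      have hji : j = i + 1 := by
        have := hy1.2
        rw [hj, Nat.log_pow (by norm_num)] at this
        exact this
      have hsub : (s.filter (fun y => Nat.log 2 (L x y) = i + 1)) ⊆ (x.cycleOf y1).support := by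
        intro y hy
        rw [Finset.mem_filter] at hy
        rw [mem_cycle_iff]
        refine ⟨?_, hy1ne⟩
        have hyne : x y ≠ y := by
          intro h
          rw [(L_eq_zero_iff x y).mpr h] at hy
          simp at hy
        obtain ⟨j', _, hj'⟩ := L_eq_two_pow hx hyne
        have hj'i : j' = i + 1 := by
          have := hy.2
          rw [hj', Nat.log_pow (by norm_num)] at this
          exact this
        apply hC.2 y1 hy1.1 y hy.1 hy1ne
        rw [hj, hj', hji, hj'i]
      calc _ ≤ (x.cycleOf y1).support.card := Finset.card_le_card hsub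
        _ = L x y1 := rfl
        _ = 2 ^ (i + 1) := by rw [hj, hji]
  have hsum := Finset.sum_le_sum hfib
  have h2 := sum_two_pow a
  rw [hzero, ha]
  have : 2 * 2 ^ a = 2 ^ (a + 1) := by rw [pow_succ]; ring
  omega

end Cfsg.Agent.Lib.Helper20.UniqSyl
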