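import Cfsg.Agent.Lib.Helper20.UniqSylA
import Cfsg.Agent.Lib.Helper20.UniqSylB

set_option autoImplicit false
set_option linter.unusedSectionVars false

namespace Cfsg.Agent.Lib.Helper20.UniqSyl

open Subgroup Equiv Equiv.Perm

/-- A proper subgroup of a finite 2-group lies in a subgroup of index two. -/
theorem exists_index_two {G : Type*} [Group G] [Finite G] {D H : Subgroup G}
    (hD : IsPGroup 2 D) (hHD : H ≤ D) (hne : H ≠ D) :
    ∃ K : Subgroup G, H ≤ K ∧ K ≤ D ∧ (∃ d0 ∈ D, d0 ∉ K) ∧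
      ∀ a ∈ D, ∀ b ∈ D, (a * b ∈ K ↔ (a ∈ K ↔ b ∈ K)) := by
  haveI : Fact (Nat.Prime 2) := ⟨Nat.prime_two⟩
  obtain ⟨m, hm⟩ := IsPGroup.iff_card.mp hD
  have hH' : IsPGroup 2 (H.subgroupOf D) := hD.to_subgroup _
  obtain ⟨n, hn⟩ := IsPGroup.iff_card.mp hH'
  have hnetop : H.subgroupOf D ≠ ⊤ := by
    intro h
    apply hne
    apply le_antisymm hHD
    intro y hy
    have : (⟨y, hy⟩ : D) ∈ H.subgroupOf D := by rw [h]; trivial
    exact this
  have hnm : n < m := by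
    have h1 : Nat.card (H.subgroupOf D) ≤ Nat.card D := Subgroup.card_le_card_group _
    have h2 : Nat.card (H.subgroupOf D) ≠ Nat.card D := fun h =>
      hnetop (Subgroup.eq_top_of_card_eq _ h)
    have h3 : Nat.card (H.subgroupOf D) < Nat.card D := lt_of_le_of_ne h1 h2
    rw [hn, hm] at h3
    exact (Nat.pow_lt_pow_iff_right (by norm_num)).mp h3
  obtain ⟨K', hK'card, hHK'⟩ := Sylow.exists_subgroup_card_pow_prime_le 2 (n := n) (m := m - 1)
    (by rw [hm]; exact pow_dvd_pow 2 (by omega)) (H.subgroupOf D) hn (by omega)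
  have hidx : K'.index = 2 := by
    have h1 := K'.card_mul_index
    rw [hK'card, hm] at h1
    have h2 : 2 ^ m = 2 ^ (m - 1) * 2 := by
      rw [← pow_succ]; congr 1; omega
    rw [h2] at h1
    exact Nat.eq_of_mul_eq_mul_left (by positivity) h1
  have hmem : ∀ (a : G) (ha : a ∈ D), a ∈ K'.map D.subtype ↔ (⟨a, ha⟩ : D) ∈ K' := by
    intro a ha
    rw [Subgroup.mem_map]
    constructor
    · rintro ⟨y, hy, rfl⟩; exact hy
    · intro h; exact ⟨⟨a, ha⟩, h, rfl⟩
  have hKD : K'.map D.subtype ≤ D := by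
    intro a ha
    obtain ⟨y, _, rfl⟩ := Subgroup.mem_map.mp ha
    exact y.2
  refine ⟨K'.map D.subtype, ?_, hKD, ?_, ?_⟩
  · intro a ha
    rw [hmem a (hHD ha)]
    apply hHK'
    exact ha
  · have hK'top : K' ≠ ⊤ := by
      intro h
      rw [h, Subgroup.index_top] at hidx
      omega
    by_contra hcon
    push Not at hcon
    apply hK'top
    rw [eq_top_iff']
    intro y
    have := hcon y.1 y.2
    rwa [hmem y.1 y.2] at this
  · intro a ha b hb
    rw [hmem a ha, hmem b hb, hmem (a * b) (D.mul_mem ha hb)]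
    exact Subgroup.mul_mem_iff_of_index_two hidx (a := ⟨a, ha⟩) (b := ⟨b, hb⟩)

/-- In a subgroup, an element of odd order whose square lies in `H` lies in `H`. -/
theorem mem_of_sq_mem {G : Type*} [Group G] {H : Subgroup G} {g : G} (hg : Odd (orderOf g))
    (h : g * g ∈ H) : g ∈ H := by
  obtain ⟨j, hj⟩ := hg
  have h1 : (g * g) ^ (j + 1) = g := by
    rw [← pow_two, ← pow_mul]
    have : 2 * (j + 1) = orderOf g + 1 := by omega
    rw [this, pow_succ, pow_orderOf_eq_one, one_mul]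
  rw [← h1]; exact H.pow_mem h _

variable {α : Type*} [Fintype α] [DecidableEq α]

/-- The `D`-orbit of `y0` as a finset. -/
noncomputable def orb (D : Subgroup (Perm α)) (y0 : α) : Finset α := by
  classical exact Finset.univ.filter (fun y => ∃ d ∈ D, d y0 = y)

theorem mem_orb {D : Subgroup (Perm α)} {y0 y : α} : y ∈ orb D y0 ↔ ∃ d ∈ D, d y0 = y := by
  classical
  unfold orb
  simp

theorem self_mem_orb (D : Subgroup (Perm α)) (y0 : α) : y0 ∈ orb D y0 :=
  mem_orb.mpr ⟨1, D.one_mem, rfl⟩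

theorem orb_subset {D : Subgroup (Perm α)} {s : Finset α} (hDs : D ≤ setStab s) {y0 : α}
    (hy0 : y0 ∈ s) : orb D y0 ⊆ s := by
  intro y hy
  obtain ⟨d, hd, rfl⟩ := mem_orb.mp hy
  exact (hDs hd y0).mpr hy0

theorem le_setStab_orb (D : Subgroup (Perm α)) (y0 : α) : D ≤ setStab (orb D y0) := by
  intro e he
  apply mem_setStab_of_maps
  intro u hu
  obtain ⟨d, hd, rfl⟩ := mem_orb.mp hu
  exact mem_orb.mpr ⟨e * d, D.mul_mem he hd, rfl⟩

theorem cycle_subset_orb {D : Subgroup (Perm α)} {x : Perm α} (hx : x ∈ D) (y0 : α) :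
    (x.cycleOf y0).support ⊆ orb D y0 := by
  intro z hz
  rw [mem_cycle_iff] at hz
  obtain ⟨i, _, hi⟩ := hz.1.exists_pow_eq'
  exact mem_orb.mpr ⟨x ^ i, D.pow_mem hx i, hi⟩

/-- If `g` normalises `D` and maps one point of a `D`-orbit into that orbit, it stabilises the
orbit. -/
theorem mem_setStab_orb_of_mem {D : Subgroup (Perm α)} {g : Perm α}
    (hgN : g ∈ normalizer (D : Set (Perm α))) {y0 u : α} (hu : u ∈ orb D y0)
    (hgu : g u ∈ orb D y0) : g ∈ setStab (orb D y0) := by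
  apply mem_setStab_of_maps
  intro v hv
  obtain ⟨d, hd, rfl⟩ := mem_orb.mp hv
  obtain ⟨d1, hd1, rfl⟩ := mem_orb.mp hu
  obtain ⟨d2, hd2, hd2e⟩ := mem_orb.mp hgu
  rw [mem_orb]
  refine ⟨g * (d * d1⁻¹) * g⁻¹ * d2,
    D.mul_mem ((mem_normalizer_iff.mp hgN _).mp (D.mul_mem hd (D.inv_mem hd1))) hd2, ?_⟩
  simp only [Perm.mul_apply]
  rw [hd2e]
  simp

theorem pow_mem_iff_of_preserve {x : Perm α} {s T : Finset α} (hxs : x ∈ setStab s)
    (h : ∀ u ∈ s, (x u ∈ T ↔ u ∈ T)) {u : α} (hu : u ∈ s) (j : ℕ) :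
    (x ^ j) u ∈ T ↔ u ∈ T := by
  induction j with
  | zero => simp
  | succ j ih =>
    rw [pow_succ', Perm.mul_apply, h _ (pow_apply_mem hxs hu j), ih]

theorem pow_mem_iff_of_swap {x : Perm α} {s T : Finset α} (hxs : x ∈ setStab s)
    (h : ∀ u ∈ s, (x u ∈ T ↔ u ∉ T)) {u : α} (hu : u ∈ s) (j : ℕ) :
    (x ^ j) u ∈ T ↔ (u ∈ T ↔ Even j) := by
  induction j with
  | zero => simp
  | succ j ih =>
    rw [pow_succ', Perm.mul_apply, h _ (pow_apply_mem hxs hu j), ih, Nat.even_add_one]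
    tauto

theorem sameCycle_sq_of_swap {x : Perm α} {s T : Finset α} (hxs : x ∈ setStab s)
    (hsw : ∀ u ∈ s, (x u ∈ T ↔ u ∉ T)) {u v : α} (hu : u ∈ s)
    (huv : u ∈ T ↔ v ∈ T) (h : x.SameCycle u v) : (x * x).SameCycle u v := by
  obtain ⟨j, _, hj⟩ := h.exists_pow_eq'
  have h1 := pow_mem_iff_of_swap hxs hsw hu j
  rw [hj] at h1
  have hev : Even j := by tauto
  obtain ⟨i, hi⟩ := hev
  refine ⟨(i : ℤ), ?_⟩
  rw [zpow_natCast, ← pow_two, ← pow_mul, ← hj, hi]
  congr 2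
  omega

end Cfsg.Agent.Lib.Helper20.UniqSyl
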