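import Cfsg.Agent.Lib.Helper20.UniqSylC

set_option autoImplicit false
set_option linter.unusedSectionVars false

namespace Cfsg.Agent.Lib.Helper20.UniqSyl

open Subgroup Equiv Equiv.Perm

variable {α : Type*} [Fintype α] [DecidableEq α]

/-- If `⟨x⟩` is not transitive on `s` (of 2-power size) then `x` has a fixed point in `s`, and
`|s|` is twice the maximal cycle length. -/
theorem exists_fixed_of_not_transitive {x : Perm α} {k : ℕ} (hx : x ^ 2 ^ k = 1) {s : Finset α}
    (hxs : x ∈ setStab s) (hC : Cond x s) {y0 : α} (hy0 : y0 ∈ s) (hne : x y0 ≠ y0)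
    (hmax : ∀ y ∈ s, L x y ≤ L x y0) {b : ℕ} (hsb : s.card = 2 ^ b)
    (hnt : ∃ u ∈ s, ¬ x.SameCycle y0 u) :
    (∃ z ∈ s, x z = z) ∧ s.card = 2 * L x y0 := by
  obtain ⟨u, hu, hnu⟩ := hnt
  have hsub : (x.cycleOf y0).support ⊆ s := cycle_subset hxs hy0
  have hlt : (x.cycleOf y0).support.card < s.card := by
    apply Finset.card_lt_card
    refine ⟨hsub, ?_⟩
    intro h
    have := h hu
    rw [mem_cycle_iff] at this
    exact hnu this.1
  obtain ⟨a, ha1, ha⟩ := L_eq_two_pow hx hne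
  have hlt' : L x y0 < s.card := hlt
  rw [ha, hsb] at hlt'
  have hab : a < b := (Nat.pow_lt_pow_iff_right (by norm_num)).mp hlt'
  have hle : 2 ^ (a + 1) ≤ 2 ^ b := Nat.pow_le_pow_right (by norm_num) hab
  have hAL := card_add_two_le hx hC hy0 hne hmax
  have hfix := hC.1
  rw [hsb, ha] at hAL
  have h2 : 2 * 2 ^ a = 2 ^ (a + 1) := by rw [pow_succ]; ring
  constructor
  · have hpos : 0 < (s.filter (fun y => x y = y)).card := by omega
    obtain ⟨z, hz⟩ := Finset.card_pos.mp hpos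
    rw [Finset.mem_filter] at hz
    exact ⟨z, hz.1, hz.2⟩
  · rw [hsb, ha]; omega

/-- If `x` swaps the two halves `T`, `s \ T` then `⟨x⟩` is transitive on `s`. -/
theorem transitive_of_swap {x : Perm α} {k : ℕ} (hx : x ^ 2 ^ k = 1) {s : Finset α}
    (hxs : x ∈ setStab s) (hC : Cond x s) {y0 : α} (hy0 : y0 ∈ s) (hne : x y0 ≠ y0)
    (hmax : ∀ y ∈ s, L x y ≤ L x y0) {b : ℕ} (hsb : s.card = 2 ^ b) {T : Finset α}
    (hsw : ∀ u ∈ s, (x u ∈ T ↔ u ∉ T)) : ∀ u ∈ s, x.SameCycle y0 u := by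
  by_contra hcon
  push Not at hcon
  obtain ⟨⟨z, hz, hxz⟩, _⟩ := exists_fixed_of_not_transitive hx hxs hC hy0 hne hmax hsb hcon
  have := hsw z hz
  rw [hxz] at this
  tauto

/-- Uniqueness of an `x`-invariant partition of `s` into two halves. -/
theorem half_unique {x : Perm α} {k : ℕ} (hx : x ^ 2 ^ k = 1) {s : Finset α}
    (hxs : x ∈ setStab s) (hC : Cond x s) {y0 : α} (hy0 : y0 ∈ s) (hne : x y0 ≠ y0)
    (hmax : ∀ y ∈ s, L x y ≤ L x y0) {b : ℕ} (hsb : s.card = 2 ^ b)
    {T1 T2 : Finset α} (h1s : T1 ⊆ s) (h2s : T2 ⊆ s) (h1c : 2 * T1.card = s.card)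
    (h2c : 2 * T2.card = s.card) (hy1 : y0 ∈ T1)
    (hR1 : (∀ u ∈ s, (x u ∈ T1 ↔ u ∈ T1)) ∨ (∀ u ∈ s, (x u ∈ T1 ↔ u ∉ T1)))
    (hR2 : (∀ u ∈ s, (x u ∈ T2 ↔ u ∈ T2)) ∨ (∀ u ∈ s, (x u ∈ T2 ↔ u ∉ T2))) :
    T2 = T1 ∨ T2 = s \ T1 := by
  have hspos : 0 < s.card := Finset.card_pos.mpr ⟨y0, hy0⟩
  by_cases htr : ∀ u ∈ s, x.SameCycle y0 u
  · -- transitive case: both are swapped
    have hnopres : ∀ T : Finset α, T ⊆ s → 2 * T.card = s.card →
        ¬ (∀ u ∈ s, (x u ∈ T ↔ u ∈ T)) := by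
      intro T hTs hTc hpres
      have hTpos : 0 < T.card := by omega
      obtain ⟨u, hu⟩ := Finset.card_pos.mp hTpos
      have hTlt : T.card < s.card := by omega
      obtain ⟨v, hv, hvT⟩ : ∃ v ∈ s, v ∉ T := by
        by_contra hcon
        push Not at hcon
        have : s ⊆ T := hcon
        have := Finset.card_le_card this
        omega
      have hsc : x.SameCycle u v := (htr u (hTs hu)).symm.trans (htr v hv)
      obtain ⟨j, _, hj⟩ := hsc.exists_pow_eq'
      have := pow_mem_iff_of_preserve hxs hpres (hTs hu) j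
      rw [hj] at this
      exact hvT (this.mpr hu)
    have hsw1 : ∀ u ∈ s, (x u ∈ T1 ↔ u ∉ T1) := by
      rcases hR1 with h | h
      · exact absurd h (hnopres T1 h1s h1c)
      · exact h
    have hsw2 : ∀ u ∈ s, (x u ∈ T2 ↔ u ∉ T2) := by
      rcases hR2 with h | h
      · exact absurd h (hnopres T2 h2s h2c)
      · exact h
    have key : ∀ u ∈ s, ∃ j : ℕ, (u ∈ T1 ↔ Even j) ∧ (u ∈ T2 ↔ (y0 ∈ T2 ↔ Even j)) := by
      intro u hu
      obtain ⟨j, _, hj⟩ := (htr u hu).exists_pow_eq'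
      refine ⟨j, ?_, ?_⟩
      · have := pow_mem_iff_of_swap hxs hsw1 hy0 j
        rw [hj] at this
        tauto
      · have := pow_mem_iff_of_swap hxs hsw2 hy0 j
        rw [hj] at this
        exact this
    by_cases hy2 : y0 ∈ T2
    · left
      ext u
      by_cases hu : u ∈ s
      · obtain ⟨j, h1, h2⟩ := key u hu
        tauto
      · have h1 : u ∉ T1 := fun h => hu (h1s h)
        have h2 : u ∉ T2 := fun h => hu (h2s h)
        tauto
    · right
      ext u
      rw [Finset.mem_sdiff]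
      by_cases hu : u ∈ s
      · obtain ⟨j, h1, h2⟩ := key u hu
        tauto
      · have h2 : u ∉ T2 := fun h => hu (h2s h)
        tauto
  · push Not at htr
    obtain ⟨⟨z, hz, hxz⟩, hs2⟩ := exists_fixed_of_not_transitive hx hxs hC hy0 hne hmax hsb htr
    have hpres : ∀ T : Finset α, ((∀ u ∈ s, (x u ∈ T ↔ u ∈ T)) ∨ (∀ u ∈ s, (x u ∈ T ↔ u ∉ T))) →
        ∀ u ∈ s, (x u ∈ T ↔ u ∈ T) := by
      intro T hR
      rcases hR with h | h
      · exact h
      · exfalso
        have := h z hz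
        rw [hxz] at this
        tauto
    have hCs : (x.cycleOf y0).support ⊆ s := cycle_subset hxs hy0
    have hCcard : (x.cycleOf y0).support.card = L x y0 := rfl
    have hchar : ∀ T : Finset α, T ⊆ s → 2 * T.card = s.card →
        (∀ u ∈ s, (x u ∈ T ↔ u ∈ T)) →
        (y0 ∈ T → T = (x.cycleOf y0).support) ∧ (y0 ∉ T → T = s \ (x.cycleOf y0).support) := by
      intro T hTs hTc hp
      have hmemC : ∀ v ∈ (x.cycleOf y0).support, (v ∈ T ↔ y0 ∈ T) := by
        intro v hv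
        rw [mem_cycle_iff] at hv
        obtain ⟨j, _, hj⟩ := hv.1.exists_pow_eq'
        have := pow_mem_iff_of_preserve hxs hp hy0 j
        rw [hj] at this
        exact this
      constructor
      · intro hy
        symm
        apply Finset.eq_of_subset_of_card_le
        · intro v hv; exact (hmemC v hv).mpr hy
        · rw [hCcard]; omega
      · intro hy
        apply Finset.eq_of_subset_of_card_le
        · intro v hv
          rw [Finset.mem_sdiff]
          refine ⟨hTs hv, ?_⟩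
          intro hvC
          exact hy ((hmemC v hvC).mp hv)
        · rw [Finset.card_sdiff_of_subset hCs, hCcard]; omega
    have e1 := (hchar T1 h1s h1c (hpres T1 hR1)).1 hy1
    by_cases hy2 : y0 ∈ T2
    · left
      rw [e1]
      exact (hchar T2 h2s h2c (hpres T2 hR2)).1 hy2
    · right
      rw [e1]
      exact (hchar T2 h2s h2c (hpres T2 hR2)).2 hy2

end Cfsg.Agent.Lib.Helper20.UniqSyl
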