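import Cfsg.Agent.Lib.Helper20.UniqSylD

set_option autoImplicit false
set_option linter.unusedSectionVars false

namespace Cfsg.Agent.Lib.Helper20.UniqSyl

open Subgroup Equiv Equiv.Perm

variable {α : Type*} [Fintype α] [DecidableEq α]

/-- Main induction: an odd-order element normalising a 2-group `D` which contains an element `x`
with `Cond x s` acts trivially on `s`. -/
theorem psi (g : Perm α) (hg : Odd (orderOf g)) :
    ∀ (m : ℕ) (s : Finset α) (D : Subgroup (Perm α)) (x : Perm α), s.card = m →
      IsPGroup 2 D → D ≤ setStab s → x ∈ D → Cond x s → g ∈ setStab s →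
      g ∈ normalizer (D : Set (Perm α)) → ∀ y ∈ s, g y = y := by
  intro m
  induction m using Nat.strong_induction_on with
  | _ m ih =>
  intro s D x hsm hD hDs hxD hC hgs hgN
  have hxs : x ∈ setStab s := hDs hxD
  obtain ⟨k, hk⟩ := hD ⟨x, hxD⟩
  have hxk : x ^ 2 ^ k = 1 := by simpa using congrArg Subtype.val hk
  by_cases htriv : ∀ y ∈ s, x y = y
  · -- `x` trivial on `s`, so `|s| ≤ 2`
    have hs2 : s.card ≤ 2 := by
      have : s.filter (fun y => x y = y) = s := Finset.filter_true_of_mem htriv
      rw [← this]; exact hC.1
    intro y hy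
    have h1 : g y ∈ s := (hgs y).mpr hy
    have h2 : g (g y) ∈ s := (hgs _).mpr h1
    by_contra hne
    have h3 : g (g y) ≠ y := fun h => hne (apply_eq_of_sq_apply_eq g hg y h)
    have h4 : g (g y) ≠ g y := fun h => hne (g.injective h)
    have hsub : ({y, g y, g (g y)} : Finset α) ⊆ s := by
      intro w hw
      simp only [Finset.mem_insert, Finset.mem_singleton] at hw
      rcases hw with rfl | rfl | rfl <;> assumption
    have hcard : ({y, g y, g (g y)} : Finset α).card = 3 := by
      rw [Finset.card_insert_of_notMem, Finset.card_insert_of_notMem, Finset.card_singleton]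
      · simp only [Finset.mem_singleton]; exact fun h => h4 h.symm
      · simp only [Finset.mem_insert, Finset.mem_singleton]
        rintro (h | h)
        · exact hne h.symm
        · exact h3 h.symm
    have := Finset.card_le_card hsub
    omega
  · push Not at htriv
    obtain ⟨y1, hy1, hy1ne⟩ := htriv
    obtain ⟨y0, hy0, hmax⟩ := Finset.exists_max_image s (L x) ⟨y1, hy1⟩
    have hne : x y0 ≠ y0 := by
      intro h
      have h1 := hmax y1 hy1
      rw [(L_eq_zero_iff x y0).mpr h] at h1
      have := two_le_L hy1ne
      omega
    have hL2 := two_le_L hne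
    have hAL := card_add_two_le hxk hC hy0 hne hmax
    have hfix := hC.1
    by_cases hB : orb D y0 = s
    swap
    · -- the orbit `B` of `y0` is a proper subset
      have hBs : orb D y0 ⊆ s := orb_subset hDs hy0
      have hCB : L x y0 ≤ (orb D y0).card := Finset.card_le_card (cycle_subset_orb hxD y0)
      have hgB : g ∈ setStab (orb D y0) := by
        by_contra hcon
        have hdisj : ∀ u ∈ orb D y0, g u ∉ orb D y0 :=
          fun u hu h => hcon (mem_setStab_orb_of_mem hgN hu h)
        have hgg : ∀ u ∈ orb D y0, g (g u) ∉ orb D y0 := by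
          intro u hu h
          have hgg2 : g * g ∈ setStab (orb D y0) :=
            mem_setStab_orb_of_mem (Subgroup.mul_mem _ hgN hgN) hu h
          exact hcon (mem_of_sq_mem hg hgg2)
        have hc1 : ((orb D y0).image g).card = (orb D y0).card :=
          Finset.card_image_of_injective _ g.injective
        have hc2 : ((orb D y0).image (g * g)).card = (orb D y0).card :=
          Finset.card_image_of_injective _ (g * g).injective
        have hd1 : Disjoint (orb D y0) ((orb D y0).image g) := by
          rw [Finset.disjoint_left]
          intro v hv hv2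
          obtain ⟨u, hu, rfl⟩ := Finset.mem_image.mp hv2
          exact hdisj u hu hv
        have hd2 : Disjoint (orb D y0 ∪ (orb D y0).image g) ((orb D y0).image (g * g)) := by
          rw [Finset.disjoint_left]
          intro v hv hv2
          obtain ⟨u, hu, rfl⟩ := Finset.mem_image.mp hv2
          rcases Finset.mem_union.mp hv with hv | hv
          · exact hgg u hu hv
          · obtain ⟨u', hu', hu'e⟩ := Finset.mem_image.mp hv
            have : u' = g u := g.injective hu'e
            exact hdisj u hu (this ▸ hu')
        have hsub : orb D y0 ∪ (orb D y0).image g ∪ (orb D y0).image (g * g) ⊆ s := by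
          intro v hv
          rcases Finset.mem_union.mp hv with hv | hv
          · rcases Finset.mem_union.mp hv with hv | hv
            · exact hBs hv
            · obtain ⟨u, hu, rfl⟩ := Finset.mem_image.mp hv
              exact (hgs u).mpr (hBs hu)
          · obtain ⟨u, hu, rfl⟩ := Finset.mem_image.mp hv
            exact ((setStab s).mul_mem hgs hgs u).mpr (hBs hu)
        have hcard := Finset.card_le_card hsub
        rw [Finset.card_union_of_disjoint hd2, Finset.card_union_of_disjoint hd1, hc1, hc2] at hcard
        omega
      have hBpos : 0 < (orb D y0).card := Finset.card_pos.mpr ⟨y0, self_mem_orb D y0⟩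
      have hBlt : (orb D y0).card < s.card := Finset.card_lt_card ⟨hBs, fun h => hB (le_antisymm hBs h)⟩
      intro y hy
      by_cases hyB : y ∈ orb D y0
      · exact ih (orb D y0).card (hsm ▸ hBlt) (orb D y0) D x rfl hD (le_setStab_orb D y0) hxD
          (hC.mono hBs) hgB hgN y hyB
      · have hlt : (s \ orb D y0).card < s.card := by
          rw [Finset.card_sdiff_of_subset hBs]; omega
        exact ih (s \ orb D y0).card (hsm ▸ hlt) (s \ orb D y0) D x rfl hD
          (fun d hd => setStab_sdiff (hDs hd) (le_setStab_orb D y0 hd)) hxD
          (hC.mono Finset.sdiff_subset) (setStab_sdiff hgs hgB) hgN y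
          (Finset.mem_sdiff.mpr ⟨hy, hyB⟩)
    · -- `D` is transitive on `s`
      have htrans : ∀ u ∈ s, ∃ d ∈ D, d y0 = u := fun u hu => mem_orb.mp (hB ▸ hu)
      obtain ⟨b, hb⟩ : ∃ b, s.card = 2 ^ b := by
        haveI : Fact (Nat.Prime 2) := ⟨Nat.prime_two⟩
        obtain ⟨b, hb⟩ := hD.card_orbit y0
        refine ⟨b, ?_⟩
        rw [← hb]
        have : MulAction.orbit D y0 = (s : Set α) := by
          ext u
          constructor
          · rintro ⟨d, rfl⟩
            exact (hDs d.2 y0).mpr hy0
          · intro hu
            obtain ⟨d, hd, rfl⟩ := htrans u hu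
            exact ⟨⟨d, hd⟩, rfl⟩
        rw [this]
        simp
      have hHne : D ⊓ MulAction.stabilizer (Perm α) y0 ≠ D := by
        intro h
        have : x ∈ D ⊓ MulAction.stabilizer (Perm α) y0 := by rw [h]; exact hxD
        exact hne this.2
      obtain ⟨K, hHK, hKD, ⟨d0, hd0D, hd0K⟩, hK2⟩ := exists_index_two hD inf_le_left hHne
      have hy0B' : y0 ∈ orb K y0 := self_mem_orb K y0
      have hKey : ∀ e ∈ D, (e y0 ∈ orb K y0 ↔ e ∈ K) := by
        intro e he
        constructor
        · intro h
          obtain ⟨k1, hk1, hk1e⟩ := mem_orb.mp h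
          have hmem : k1⁻¹ * e ∈ D ⊓ MulAction.stabilizer (Perm α) y0 := by
            refine ⟨D.mul_mem (D.inv_mem (hKD hk1)) he, ?_⟩
            show (k1⁻¹ * e) y0 = y0
            rw [Perm.mul_apply, ← hk1e]
            simp
          have h2 := hHK hmem
          have : e = k1 * (k1⁻¹ * e) := by group
          rw [this]; exact K.mul_mem hk1 h2
        · intro h; exact mem_orb.mpr ⟨e, h, rfl⟩
      have ha : ∀ d ∈ D, ∀ u ∈ s, (d u ∈ orb K y0 ↔ (d ∈ K ↔ u ∈ orb K y0)) := by
        intro d hd u hu
        obtain ⟨e, he, rfl⟩ := htrans u hu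
        rw [← Perm.mul_apply, hKey (d * e) (D.mul_mem hd he), hKey e he, hK2 d hd e he]
      have hB's : orb K y0 ⊆ s := orb_subset (hKD.trans hDs) hy0
      have hcard : 2 * (orb K y0).card = s.card := by
        have himg : (orb K y0).image d0 = s \ orb K y0 := by
          ext v
          rw [Finset.mem_image, Finset.mem_sdiff]
          constructor
          · rintro ⟨u, hu, rfl⟩
            have hus := hB's hu
            refine ⟨(hDs hd0D u).mpr hus, ?_⟩
            rw [ha d0 hd0D u hus]
            tauto
          · rintro ⟨hvs, hvB⟩
            have hws : d0⁻¹ v ∈ s := (hDs (D.inv_mem hd0D) v).mpr hvs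
            refine ⟨d0⁻¹ v, ?_, by simp⟩
            have h1 := ha d0 hd0D _ hws
            simp only [Perm.coe_inv, Equiv.apply_symm_apply] at h1
            by_contra hcon
            exact hvB (h1.mpr ⟨fun h => absurd h hd0K, fun h => absurd h hcon⟩)
        have h1 := Finset.card_image_of_injective (orb K y0) d0.injective
        rw [himg, Finset.card_sdiff_of_subset hB's] at h1
        have := Finset.card_le_card hB's
        omega
      -- the image `T` of `B'` under `g`
      have hT : ∀ v, v ∈ (orb K y0).image g ↔ g⁻¹ v ∈ orb K y0 := by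
        intro v
        constructor
        · intro h
          obtain ⟨u, hu, rfl⟩ := Finset.mem_image.mp h
          simpa using hu
        · intro h
          exact Finset.mem_image.mpr ⟨g⁻¹ v, h, by simp⟩
      have hgi : ∀ u ∈ s, g⁻¹ u ∈ s := fun u hu => ((setStab s).inv_mem hgs u).mpr hu
      have hTs : (orb K y0).image g ⊆ s := by
        intro v hv
        obtain ⟨u, hu, rfl⟩ := Finset.mem_image.mp hv
        exact (hgs u).mpr (hB's hu)
      have hTc : 2 * ((orb K y0).image g).card = s.card := by
        rw [Finset.card_image_of_injective _ g.injective]; exact hcard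
      have hR1 : (∀ u ∈ s, (x u ∈ orb K y0 ↔ u ∈ orb K y0)) ∨
          (∀ u ∈ s, (x u ∈ orb K y0 ↔ u ∉ orb K y0)) := by
        by_cases hxK : x ∈ K
        · left; intro u hu; rw [ha x hxD u hu]; tauto
        · right; intro u hu; rw [ha x hxD u hu]; tauto
      have hR2 : (∀ u ∈ s, (x u ∈ (orb K y0).image g ↔ u ∈ (orb K y0).image g)) ∨
          (∀ u ∈ s, (x u ∈ (orb K y0).image g ↔ u ∉ (orb K y0).image g)) := by
        have hdD : g⁻¹ * x * g ∈ D := by
          rw [mem_normalizer_iff.mp hgN (g⁻¹ * x * g)]
          have : g * (g⁻¹ * x * g) * g⁻¹ = x := by group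
          rw [this]; exact hxD
        have hxu : ∀ u, g⁻¹ (x u) = (g⁻¹ * x * g) (g⁻¹ u) := by
          intro u; simp [Perm.mul_apply]
        by_cases hdK : g⁻¹ * x * g ∈ K
        · left; intro u hu
          rw [hT, hT, hxu, ha _ hdD _ (hgi u hu)]; tauto
        · right; intro u hu
          rw [hT, hT, hxu, ha _ hdD _ (hgi u hu)]; tauto
      have hTB := half_unique hxk hxs hC hy0 hne hmax hb hB's hTs hcard hTc hy0B' hR1 hR2
      have hgB' : g ∈ setStab (orb K y0) := by
        rcases hTB with hTB | hTB
        · have : g⁻¹ ∈ setStab (orb K y0) := by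
            intro v; rw [← hT, hTB]
          simpa using (setStab (orb K y0)).inv_mem this
        · exfalso
          have hsw : ∀ w ∈ s, (w ∈ orb K y0 ↔ g w ∉ orb K y0) := by
            intro w hw
            have h1 := hT (g w)
            simp only [Perm.coe_inv, Equiv.symm_apply_apply] at h1
            rw [hTB, Finset.mem_sdiff] at h1
            have : g w ∈ s := (hgs w).mpr hw
            tauto
          have hgg : g * g ∈ setStab (orb K y0) := by
            intro w
            by_cases hw : w ∈ s
            · have h1 := hsw w hw
              have h2 := hsw (g w) ((hgs w).mpr hw)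
              rw [Perm.mul_apply]; tauto
            · have h1 : w ∉ orb K y0 := fun h => hw (hB's h)
              have h2 : (g * g) w ∉ orb K y0 := fun h =>
                hw (((setStab s).mul_mem hgs hgs w).mp (hB's h))
              tauto
          have hgB := mem_of_sq_mem hg hgg
          have h1 := hsw y0 hy0
          have h2 := hgB y0
          tauto
      -- the smaller group and element
      have hD' : IsPGroup 2 (D ⊓ setStab (orb K y0) : Subgroup (Perm α)) := hD.to_le inf_le_left
      have hD'B : D ⊓ setStab (orb K y0) ≤ setStab (orb K y0) := inf_le_right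
      have hD'sB : D ⊓ setStab (orb K y0) ≤ setStab (s \ orb K y0) :=
        fun d hd => setStab_sdiff (hDs hd.1) hd.2
      have hgN' : g ∈ normalizer ((D ⊓ setStab (orb K y0) : Subgroup (Perm α)) : Set (Perm α)) :=
        inf_normalizer_le_normalizer_inf ⟨hgN, le_normalizer hgB'⟩
      have hgsB : g ∈ setStab (s \ orb K y0) := setStab_sdiff hgs hgB'
      obtain ⟨x1, hx1D', hC1, hC2⟩ : ∃ x1 ∈ D ⊓ setStab (orb K y0),
          Cond x1 (orb K y0) ∧ Cond x1 (s \ orb K y0) := by
        rcases hR1 with hpres | hswap
        · refine ⟨x, ⟨hxD, ?_⟩, hC.mono hB's, hC.mono Finset.sdiff_subset⟩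
          intro u
          by_cases hu : u ∈ s
          · exact hpres u hu
          · have h1 : u ∉ orb K y0 := fun h => hu (hB's h)
            have h2 : x u ∉ orb K y0 := fun h => hu ((hxs u).mp (hB's h))
            tauto
        · have htr : ∀ u ∈ s, x.SameCycle y0 u :=
            transitive_of_swap hxk hxs hC hy0 hne hmax hb hswap
          have hxx : x * x ∈ setStab (orb K y0) := by
            intro u
            by_cases hu : u ∈ s
            · have h1 := hswap u hu
              have h2 := hswap (x u) ((hxs u).mpr hu)
              rw [Perm.mul_apply]; tauto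
            · have h1 : u ∉ orb K y0 := fun h => hu (hB's h)
              have h2 : (x * x) u ∉ orb K y0 := fun h =>
                hu (((setStab s).mul_mem hxs hxs u).mp (hB's h))
              tauto
          refine ⟨x * x, ⟨D.mul_mem hxD hxD, hxx⟩, ?_, ?_⟩
          · apply Cond.of_transitive
            intro u hu v hv
            have hus := hB's hu
            have hvs := hB's hv
            exact sameCycle_sq_of_swap hxs hswap hus (by tauto)
              ((htr u hus).symm.trans (htr v hvs))
          · apply Cond.of_transitive
            intro u hu v hv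
            rw [Finset.mem_sdiff] at hu hv
            exact sameCycle_sq_of_swap hxs hswap hu.1 (by tauto)
              ((htr u hu.1).symm.trans (htr v hv.1))
      have hB'pos : 0 < (orb K y0).card := Finset.card_pos.mpr ⟨y0, hy0B'⟩
      intro y hy
      by_cases hyB : y ∈ orb K y0
      · have hlt : (orb K y0).card < m := by omega
        exact ih (orb K y0).card hlt (orb K y0) _ x1 rfl hD' hD'B hx1D' hC1 hgB' hgN' y hyB
      · have hlt : (s \ orb K y0).card < m := by
          rw [Finset.card_sdiff_of_subset hB's]; omega
        exact ih (s \ orb K y0).card hlt (s \ orb K y0) _ x1 rfl hD' hD'sB hx1D' hC2 hgsB hgN' y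
          (Finset.mem_sdiff.mpr ⟨hy, hyB⟩)

end Cfsg.Agent.Lib.Helper20.UniqSyl
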