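import Cfsg.Agent.Lib.Helper20.UniqSylE

set_option autoImplicit false
set_option linter.unusedSectionVars false

namespace Cfsg.Agent.Lib.Helper20.UniqSyl

open Subgroup Equiv Equiv.Perm

variable {α : Type*} [Fintype α] [DecidableEq α]

/-- `Cond x univ` from the hypotheses of the statement. -/
theorem cond_univ_of {x : Perm α} (h1 : Fintype.card α ≤ x.support.card + 2)
    (h2 : x.cycleType.Nodup) : Cond x Finset.univ := by
  constructor
  · have h := Finset.card_filter_add_card_filter_not (s := (Finset.univ : Finset α))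
      (fun y => x y = y)
    have hsupp : (Finset.univ.filter (fun y => ¬ x y = y)) = x.support := by
      ext y; simp [Perm.mem_support]
    rw [hsupp, Finset.card_univ] at h
    omega
  · intro y _ z _ hy hL
    have hz : x z ≠ z := by
      intro h
      rw [(L_eq_zero_iff x z).mpr h] at hL
      have := two_le_L hy
      omega
    rw [Perm.cycleType_def] at h2
    have h3 := Multiset.inj_on_of_nodup_map h2 (x.cycleOf y)
      (Perm.cycleOf_mem_cycleFactorsFinset_iff.mpr (Perm.mem_support.mpr hy)) (x.cycleOf z)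
      (Perm.cycleOf_mem_cycleFactorsFinset_iff.mpr (Perm.mem_support.mpr hz)) hL
    have hzmem : z ∈ (x.cycleOf z).support := mem_cycle_iff.mpr ⟨SameCycle.refl _ _, hz⟩
    rw [← h3, mem_cycle_iff] at hzmem
    exact hzmem.1

/-- (⇐): under `Cond x univ`, `x` lies in at most one Sylow 2-subgroup. -/
theorem sylow_unique_of_cond {x : Perm α} (hC : Cond x Finset.univ) (P P' : Sylow 2 (Perm α))
    (hP : x ∈ P) (hP' : x ∈ P') : P = P' := by
  haveI : Fact (Nat.Prime 2) := ⟨Nat.prime_two⟩
  apply sylow_unique_of_normalizers x _ P P' hP hP'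
  intro D hD hxD
  apply isPGroup_two_of_odd_trivial
  intro g hgN hgodd
  ext y
  exact psi g hgodd _ Finset.univ D x rfl hD (fun d _ u => by simp) hxD hC (fun u => by simp)
    hgN y (Finset.mem_univ y)

/-- An element of 2-power order normalising a 2-group generates a 2-group with it. -/
theorem exists_two_group_of_normalizes {G : Type*} [Group G] {x : G} {E : Subgroup G}
    (hx : ∃ k : ℕ, orderOf x = 2 ^ k) (hE : IsPGroup 2 E)
    (hN : x ∈ normalizer (E : Set G)) :
    ∃ R : Subgroup G, IsPGroup 2 R ∧ x ∈ R ∧ E ≤ R := by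
  obtain ⟨k, hk⟩ := hx
  have hz : IsPGroup 2 (zpowers x) := IsPGroup.of_card (n := k) (by rw [Nat.card_zpowers, hk])
  refine ⟨zpowers x ⊔ E, IsPGroup.to_sup_of_normal_right' hz hE (zpowers_le.mpr hN),
    le_sup_left (a := zpowers x) (mem_zpowers x), le_sup_right⟩

/-- If `u`, `v` lie in "parallel" cycles of `x` then `x` and `swap u v` lie in a common 2-group. -/
theorem exists_two_group_swap {x : Perm α} (hx : ∃ k : ℕ, orderOf x = 2 ^ k) {u v : α}
    (H1 : ∀ i j : ℤ, (x ^ i) u = (x ^ j) u ↔ (x ^ i) v = (x ^ j) v)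
    (H2 : ∀ i j : ℤ, (x ^ i) u ≠ (x ^ j) v) :
    ∃ R : Subgroup (Perm α), IsPGroup 2 R ∧ x ∈ R ∧ swap u v ∈ R := by
  have hcomm : ∀ a ∈ Set.range (fun i : ℤ => swap ((x ^ i) u) ((x ^ i) v)),
      ∀ b ∈ Set.range (fun i : ℤ => swap ((x ^ i) u) ((x ^ i) v)), a * b = b * a := by
    rintro _ ⟨i, rfl⟩ _ ⟨j, rfl⟩
    by_cases hij : (x ^ i) u = (x ^ j) u
    · have hv := (H1 i j).mp hij
      simp only [hij, hv]
    · have hv : (x ^ i) v ≠ (x ^ j) v := fun h => hij ((H1 i j).mpr h)
      apply Perm.Disjoint.commute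
      apply Perm.disjoint_swap_swap
      simp only [List.nodup_cons, List.mem_cons, List.not_mem_nil, or_false, not_or,
        List.nodup_nil, and_true, not_false_eq_true]
      exact ⟨⟨H2 i i, hij, H2 i j⟩, ⟨(H2 j i).symm, hv⟩, H2 j j⟩
  haveI hEcomm := Subgroup.isMulCommutative_closure hcomm
  have hsq : ∀ h ∈ closure (Set.range (fun i : ℤ => swap ((x ^ i) u) ((x ^ i) v))),
      h * h = 1 := by
    intro h hh
    induction hh using Subgroup.closure_induction with
    | mem a ha => obtain ⟨i, rfl⟩ := ha; exact Equiv.swap_mul_self _ _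
    | one => simp
    | mul a b ha hb iha ihb =>
      have hab : a * b = b * a := by
        have := mul_comm' (⟨a, ha⟩ : closure (Set.range
          (fun i : ℤ => swap ((x ^ i) u) ((x ^ i) v)))) ⟨b, hb⟩
        exact congrArg Subtype.val this
      calc a * b * (a * b) = a * (b * a) * b := by group
        _ = a * (a * b) * b := by rw [hab]
        _ = (a * a) * (b * b) := by group
        _ = 1 := by rw [iha, ihb, one_mul]
    | inv a ha iha => rw [← mul_inv_rev, iha, inv_one]
  have hEp : IsPGroup 2 (closure (Set.range (fun i : ℤ => swap ((x ^ i) u) ((x ^ i) v)))) := by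
    rintro ⟨h, hh⟩
    exact ⟨1, Subtype.ext (by simpa [pow_two] using hsq h hh)⟩
  have hconj : ∀ t : Perm α,
      (∀ i : ℤ, t * swap ((x ^ i) u) ((x ^ i) v) * t⁻¹ ∈
        closure (Set.range (fun i : ℤ => swap ((x ^ i) u) ((x ^ i) v)))) →
      ∀ h ∈ closure (Set.range (fun i : ℤ => swap ((x ^ i) u) ((x ^ i) v))),
        t * h * t⁻¹ ∈ closure (Set.range (fun i : ℤ => swap ((x ^ i) u) ((x ^ i) v))) := by
    intro t ht h hh
    induction hh using Subgroup.closure_induction with
    | mem a ha => obtain ⟨i, rfl⟩ := ha; exact ht i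
    | one => simp
    | mul a b _ _ iha ihb =>
      have : t * (a * b) * t⁻¹ = (t * a * t⁻¹) * (t * b * t⁻¹) := by group
      rw [this]; exact Subgroup.mul_mem _ iha ihb
    | inv a _ iha =>
      have : t * a⁻¹ * t⁻¹ = (t * a * t⁻¹)⁻¹ := by group
      rw [this]; exact Subgroup.inv_mem _ iha
  have hwx : ∀ i : ℤ, x * swap ((x ^ i) u) ((x ^ i) v) * x⁻¹
      = swap ((x ^ (i + 1)) u) ((x ^ (i + 1)) v) := by
    intro i
    rw [← Equiv.swap_apply_apply, ← Perm.mul_apply, ← Perm.mul_apply, ← zpow_one_add, add_comm]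
  have hwx' : ∀ i : ℤ, x⁻¹ * swap ((x ^ i) u) ((x ^ i) v) * x⁻¹⁻¹
      = swap ((x ^ (i - 1)) u) ((x ^ (i - 1)) v) := by
    intro i
    rw [← Equiv.swap_apply_apply, ← Perm.mul_apply, ← Perm.mul_apply]
    have : x⁻¹ * x ^ i = x ^ (i - 1) := by
      rw [sub_eq_neg_add, zpow_add, zpow_neg, zpow_one]
    rw [this]
  have hN : x ∈ normalizer
      ((closure (Set.range (fun i : ℤ => swap ((x ^ i) u) ((x ^ i) v))) :
        Subgroup (Perm α)) : Set (Perm α)) := by
    rw [mem_normalizer_iff]
    intro h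
    constructor
    · exact hconj x (fun i => by rw [hwx]; exact subset_closure ⟨_, rfl⟩) h
    · intro hh
      have := hconj x⁻¹ (fun i => by rw [hwx']; exact subset_closure ⟨_, rfl⟩) _ hh
      have e : x⁻¹ * (x * h * x⁻¹) * x⁻¹⁻¹ = h := by group
      rwa [e] at this
  obtain ⟨R, hR, hxR, hER⟩ := exists_two_group_of_normalizes hx hEp hN
  refine ⟨R, hR, hxR, hER (subset_closure ⟨0, ?_⟩)⟩
  simp

/-- A 2-group cannot contain two transpositions sharing exactly one point. -/
theorem false_of_swaps_mem {P : Subgroup (Perm α)} (hP : IsPGroup 2 P) {a b c : α}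
    (hab : a ≠ b) (hac : a ≠ c) (hbc : b ≠ c) (h1 : swap a b ∈ P) (h2 : swap a c ∈ P) :
    False := by
  have h3 := (Perm.isThreeCycle_swap_mul_swap_same hab hac hbc).orderOf
  obtain ⟨k, hk⟩ := hP ⟨_, P.mul_mem h1 h2⟩
  have h4 : (swap a b * swap a c) ^ 2 ^ k = 1 := by simpa using congrArg Subtype.val hk
  have h5 := orderOf_dvd_of_pow_eq_one h4
  rw [h3] at h5
  have h6 := Nat.Prime.dvd_of_dvd_pow Nat.prime_three h5
  omega

theorem swap_mem_of_fixed {x : Perm α} (hx : ∃ k : ℕ, orderOf x = 2 ^ k)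
    {P : Subgroup (Perm α)} (hR : ∀ R : Subgroup (Perm α), IsPGroup 2 R → x ∈ R → R ≤ P)
    {a b : α} (hab : a ≠ b) (ha : x a = a) (hb : x b = b) : swap a b ∈ P := by
  have Ha : ∀ i : ℤ, (x ^ i) a = a := Perm.zpow_apply_eq_self_of_apply_eq_self ha
  have Hb : ∀ i : ℤ, (x ^ i) b = b := Perm.zpow_apply_eq_self_of_apply_eq_self hb
  obtain ⟨R, hR2, hxR, hsw⟩ := exists_two_group_swap hx (u := a) (v := b)
    (fun i j => by rw [Ha, Ha, Hb, Hb]; tauto) (fun i j => by rw [Ha, Hb]; exact hab)
  exact hR R hR2 hxR hsw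

theorem swap_mem_of_distinct_cycles {x : Perm α} (hx : ∃ k : ℕ, orderOf x = 2 ^ k)
    {P : Subgroup (Perm α)} (hR : ∀ R : Subgroup (Perm α), IsPGroup 2 R → x ∈ R → R ≤ P)
    {u v : α} (hux : x u ≠ u) (hvx : x v ≠ v) (hL : L x u = L x v)
    (hnsc : ¬ x.SameCycle u v) : swap u v ∈ P := by
  have hu : u ∈ (x.cycleOf u).support := mem_cycle_iff.mpr ⟨SameCycle.refl _ _, hux⟩
  have hv : v ∈ (x.cycleOf v).support := mem_cycle_iff.mpr ⟨SameCycle.refl _ _, hvx⟩
  obtain ⟨R, hR2, hxR, hsw⟩ := exists_two_group_swap hx (u := u) (v := v)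
    (fun i j => by
      rw [(Perm.isCycleOn_support_cycleOf x u).zpow_apply_eq_zpow_apply hu,
        (Perm.isCycleOn_support_cycleOf x v).zpow_apply_eq_zpow_apply hv]
      have : (x.cycleOf u).support.card = (x.cycleOf v).support.card := hL
      rw [this])
    (fun i j h => by
      apply hnsc
      refine ⟨-j + i, ?_⟩
      rw [zpow_add, Perm.mul_apply, h, ← Perm.mul_apply, ← zpow_add]
      simp)
  exact hR R hR2 hxR hsw

/-- (⇒): if every 2-subgroup containing `x` lies in the 2-group `P`, the cycle condition holds. -/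
theorem cond_of_unique {x : Perm α} (hx : ∃ k : ℕ, orderOf x = 2 ^ k)
    {P : Subgroup (Perm α)} (hP : IsPGroup 2 P)
    (hR : ∀ R : Subgroup (Perm α), IsPGroup 2 R → x ∈ R → R ≤ P) :
    Fintype.card α ≤ x.support.card + 2 ∧ x.cycleType.Nodup := by
  constructor
  · by_contra hcon
    push Not at hcon
    have hF : 2 < (Finset.univ \ x.support).card := by
      rw [Finset.card_sdiff_of_subset (Finset.subset_univ _), Finset.card_univ]; omega
    obtain ⟨a, ha, b, hb, c, hc, hab, hac, hbc⟩ := Finset.two_lt_card.mp hF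
    have hfix : ∀ w ∈ Finset.univ \ x.support, x w = w := by
      intro w hw
      rw [Finset.mem_sdiff, Perm.mem_support] at hw
      by_contra h
      exact hw.2 h
    exact false_of_swaps_mem hP hab hac hbc
      (swap_mem_of_fixed hx hR hab (hfix a ha) (hfix b hb))
      (swap_mem_of_fixed hx hR hac (hfix a ha) (hfix c hc))
  · rw [Perm.cycleType_def]
    apply Multiset.Nodup.map_on _ (Finset.nodup _)
    intro c1 hc1 c2 hc2 hcard
    by_contra hne
    rw [Finset.mem_val] at hc1 hc2
    obtain ⟨hcyc1, _⟩ := Perm.mem_cycleFactorsFinset_iff.mp hc1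
    obtain ⟨hcyc2, _⟩ := Perm.mem_cycleFactorsFinset_iff.mp hc2
    obtain ⟨u, hu⟩ := hcyc1.nonempty_support
    obtain ⟨v, hv⟩ := hcyc2.nonempty_support
    have e1 : c1 = x.cycleOf u := Perm.cycle_is_cycleOf hu hc1
    have e2 : c2 = x.cycleOf v := Perm.cycle_is_cycleOf hv hc2
    have hux : x u ≠ u := Perm.mem_support.mp (Perm.mem_cycleFactorsFinset_support_le hc1 hu)
    have hvx : x v ≠ v := Perm.mem_support.mp (Perm.mem_cycleFactorsFinset_support_le hc2 hv)
    have hL : L x u = L x v := by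
      unfold L; rw [← e1, ← e2]; exact hcard
    have hnsc : ¬ x.SameCycle u v := fun h => hne (by rw [e1, e2, h.cycleOf_eq])
    have hxvx : x (x v) ≠ x v := fun h => hvx (x.injective h)
    have hsc : x.SameCycle v (x v) := Perm.sameCycle_apply_right.mpr (SameCycle.refl _ _)
    have hL' : L x u = L x (x v) := hL.trans (L_eq_of_sameCycle hsc)
    have hnsc' : ¬ x.SameCycle u (x v) := fun h => hnsc (Perm.sameCycle_apply_right.mp h)
    have huv : u ≠ v := fun h => hnsc (h ▸ SameCycle.refl _ _)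
    have huxv : u ≠ x v := fun h => hnsc' (h ▸ SameCycle.refl _ _)
    exact false_of_swaps_mem hP huv huxv hvx.symm
      (swap_mem_of_distinct_cycles hx hR hux hvx hL hnsc)
      (swap_mem_of_distinct_cycles hx hR hux hxvx hL' hnsc')

end Cfsg.Agent.Lib.Helper20.UniqSyl
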